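import Groth.Prelude.Def_ArtFun2

set_option autoImplicit false
universe u v

namespace Groth.Agent.Lib.Helper5.ArtFunLift

open ArtFun ArtFun.Art CategoryTheory

variable {Λ k : Type u} [CommRing Λ] [Field k] [Algebra Λ k]
  {R : Type u} [CommRing R] [Algebra Λ R] {resR : R →ₐ[Λ] k}

theorem exists_homSet_lift {B A A' A'' : Art Λ k} {p' : B ⟶ A'} {p'' : B ⟶ A''}
    {f' : A' ⟶ A} {f'' : A'' ⟶ A} (h : IsFibreProd p' p'' f' f'')
    (u' : HomSet R resR A') (u'' : HomSet R resR A'')
    (hu : HomSet.map f' u' = HomSet.map f'' u'') :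
    ∃ v : HomSet R resR B, HomSet.map p' v = u' ∧ HomSet.map p'' v = u'' := by
  have hr : ∀ r : R, f' (u'.1 r) = f'' (u''.1 r) := fun r =>
    congrArg (fun φ : HomSet R resR A => φ.1 r) hu
  choose b hb using fun r => h.surj (u'.1 r) (u''.1 r) (hr r)
  have hb1 : ∀ r, p' (b r) = u'.1 r := fun r => (hb r).1
  have hb2 : ∀ r, p'' (b r) = u''.1 r := fun r => (hb r).2
  let v0 : R →ₐ[Λ] B :=
    { toFun := b
      map_one' := by
        apply h.inj
        · rw [hb1, map_one]; exact (map_one p'.toAlgHom).symm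
        · rw [hb2, map_one]; exact (map_one p''.toAlgHom).symm
      map_mul' := fun r s => by
        apply h.inj
        · rw [hb1, map_mul]
          refine Eq.trans ?_ (map_mul p'.toAlgHom _ _).symm
          rw [hb1, hb1]
        · rw [hb2, map_mul]
          refine Eq.trans ?_ (map_mul p''.toAlgHom _ _).symm
          rw [hb2, hb2]
      map_zero' := by
        apply h.inj
        · rw [hb1, map_zero]; exact (map_zero p'.toAlgHom).symm
        · rw [hb2, map_zero]; exact (map_zero p''.toAlgHom).symm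
      map_add' := fun r s => by
        apply h.inj
        · rw [hb1, map_add]
          refine Eq.trans ?_ (map_add p'.toAlgHom _ _).symm
          rw [hb1, hb1]
        · rw [hb2, map_add]
          refine Eq.trans ?_ (map_add p''.toAlgHom _ _).symm
          rw [hb2, hb2]
      commutes' := fun c => by
        apply h.inj
        · rw [hb1, AlgHom.commutes]; exact (p'.toAlgHom.commutes c).symm
        · rw [hb2, AlgHom.commutes]; exact (p''.toAlgHom.commutes c).symm }
  have hv0 : B.res.comp v0 = resR := by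
    apply AlgHom.ext
    intro r
    change B.res (b r) = resR r
    rw [← res_app p' (b r), hb1]
    exact DFunLike.congr_fun u'.2 r
  refine ⟨⟨v0, hv0⟩, Subtype.ext (AlgHom.ext fun r => hb1 r), Subtype.ext (AlgHom.ext fun r => hb2 r)⟩

variable {F : Art Λ k ⥤ Type v}

theorem h0_of_surjective (ξ : Family R resR F)
    (hsurj : Function.Surjective (ξ.app (base Λ k))) : H0 F := by
  have hsub : Subsingleton (HomSet R resR (base Λ k)) := by
    constructor
    intro φ ψ
    apply Subtype.ext
    have h1 : φ.1 = resR := by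
      have := φ.2
      exact this
    have h2 : ψ.1 = resR := by
      have := ψ.2
      exact this
    rw [h1, h2]
  refine ⟨⟨ξ.app _ ⟨(resR : R →ₐ[Λ] (base Λ k)), AlgHom.id_comp _⟩⟩, ?_⟩
  constructor
  intro x y
  obtain ⟨φ, rfl⟩ := hsurj x
  obtain ⟨ψ, rfl⟩ := hsurj y
  rw [Subsingleton.elim φ ψ]

theorem s1_of_isVersal (ξ : Family R resR F) (hξ : IsVersal ξ)
    (hsurj : ∀ A : Art Λ k, Function.Surjective (ξ.app A)) : S1 F := by
  intro B A A' A'' p' p'' f' f'' h hf''
  rintro ⟨⟨a', a''⟩, hx⟩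
  change F.map f' a' = F.map f'' a'' at hx
  obtain ⟨u', rfl⟩ := hsurj A' a'
  obtain ⟨u'', hu'', rfl⟩ := hξ f'' hf'' (HomSet.map f' u') a'' (by rw [← hx, ξ.natural])
  obtain ⟨v, hv', hv''⟩ := exists_homSet_lift h u' u'' hu''.symm
  refine ⟨ξ.app B v, ?_⟩
  apply FibProd.ext
  · change F.map p' (ξ.app B v) = ξ.app A' u'
    rw [← ξ.natural, hv']
  · change F.map p'' (ξ.app B v) = ξ.app A'' u''
    rw [← ξ.natural, hv'']

theorem heps_of_isMiniversal (ξ : Family R resR F) (hξ : IsMiniversal ξ)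
    (hsurj : ∀ A : Art Λ k, Function.Surjective (ξ.app A)) : Heps F := by
  intro B A' p' p'' h
  have hbase : Function.Surjective (toBase (dual Λ k) : dual Λ k ⟶ base Λ k) :=
    (dual Λ k).res_surjective
  refine ⟨?_, s1_of_isVersal ξ hξ.1 hsurj p' p'' _ _ h hbase⟩
  intro z₁ z₂ hz
  have hz1 : F.map p' z₁ = F.map p' z₂ := congrArg (fun x : FibProd F _ _ => x.1.1) hz
  have hz2 : F.map p'' z₁ = F.map p'' z₂ := congrArg (fun x : FibProd F _ _ => x.1.2) hz
  obtain ⟨v₁, rfl⟩ := hsurj B z₁
  have hp' : Function.Surjective p' := by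
    intro a'
    obtain ⟨e, he⟩ := hbase ((toBase A') a')
    obtain ⟨b, hb, -⟩ := h.surj a' e he.symm
    exact ⟨b, hb⟩
  obtain ⟨v₂, hv₂, rfl⟩ := hξ.1 p' hp' (HomSet.map p' v₁) z₂ (by rw [← hz1, ξ.natural])
  have hw : HomSet.map p'' v₁ = HomSet.map p'' v₂ := by
    apply hξ.2.1
    rw [ξ.natural, ξ.natural, hz2]
  have : v₁ = v₂ := by
    apply Subtype.ext
    apply AlgHom.ext
    intro r
    apply h.inj
    · exact (congrArg (fun φ : HomSet R resR A' => φ.1 r) hv₂).symm
    · exact congrArg (fun φ : HomSet R resR (dual Λ k) => φ.1 r) hw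
  rw [this]

end Groth.Agent.Lib.Helper5.ArtFunLift
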