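import Mathlib
import Groth.Agent.Lib.Helper2.KosReg2
import Groth.Agent.Lib.Helper15.RelPC15
import Groth.Agent.Lib.Helper16.PCNoeth

/-!
# Koszul-regular sequences in the Jacobson radical of a Noetherian ring are regular
-/

set_option autoImplicit false
universe u

open CategoryTheory CategoryTheory.Limits CochainComplex RingTheory.Sequence

namespace Groth.Agent.Lib.Helper5.KosReg

open Groth.Agent.Lib.Helper2.KosReg2

variable {R : Type u} [CommRing R] [IsNoetherianRing R]

theorem finite_homology (l : List R) (n : ℤ) :
    Module.Finite R ((Koszul.koszul R l).homology n) :=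
  Groth.Agent.Lib.Helper16.PC.finite_homology_of_termwise _ n
    (Groth.Agent.Lib.Helper15.RelPC15.finite_koszul l n)

/-- Nakayama: a finite module with `f • M = M`, `f` in the radical, vanishes. -/
theorem subsingleton_of_smul_surjective {M : Type u} [AddCommGroup M] [Module R M]
    [Module.Finite R M] (f : R) (hf : f ∈ (⊥ : Ideal R).jacobson)
    (hs : Function.Surjective (fun z : M => f • z)) : Subsingleton M := by
  have hle : (⊤ : Submodule R M) ≤ Ideal.span {f} • (⊤ : Submodule R M) := by
    intro z _
    obtain ⟨w, rfl⟩ := hs z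
    exact Submodule.smul_mem_smul (Ideal.mem_span_singleton_self f) Submodule.mem_top
  have hj : Ideal.span {f} ≤ (⊥ : Ideal R).jacobson := by
    rw [Ideal.span_le]
    intro x hx
    rw [Set.mem_singleton_iff] at hx
    rw [hx]
    exact hf
  have h0 := Submodule.eq_bot_of_le_smul_of_le_jacobson_bot (Ideal.span {f}) ⊤
    Module.Finite.fg_top hle hj
  exact (Submodule.subsingleton_iff R).mp (subsingleton_of_bot_eq_top h0.symm)

/-- the inductive step -/
theorem step (f : R) (l : List R) (hf : f ∈ (⊥ : Ideal R).jacobson)
    (hl : LCI.IsKoszulRegularSeq R (f :: l)) :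
    LCI.IsKoszulRegularSeq R l ∧ IsSMulRegular (R ⧸ Ideal.ofList l) f := by
  set K := Koszul.koszul R l with hK
  have hT : ∀ i : ℤ, i ≠ 0 → IsZero ((T f K).homology i) := hl
  constructor
  · intro n hn
    rcases lt_or_gt_of_ne hn with hneg | hpos
    · have hfin := finite_homology l n
      have hsurj : Function.Surjective (fun z : K.homology n => f • z) := by
        intro z
        have h0 : Tinr f K n z = 0 := by
          have := ModuleCat.subsingleton_of_isZero (hT n hn)
          exact Subsingleton.elim _ _
        obtain ⟨w, hw⟩ := (exact2 f K n z).1 h0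
        exact ⟨w, hw⟩
      have := subsingleton_of_smul_surjective f hf hsurj
      exact ModuleCat.isZero_of_subsingleton _
    · have hz : IsZero (K.X n) := Groth.Agent.Lib.Helper2.KosTor2.isZero_koszul_X l n hpos
      exact ShortComplex.isZero_homology_of_isZero_X₂ _ hz
  · obtain ⟨e⟩ := Groth.Agent.Lib.Helper15.RelPC15.homology_zero_koszul l
    have hker : ∀ z : K.homology 0, f • z = 0 → z = 0 := by
      intro z hz
      obtain ⟨w, hw⟩ := (exact1 f K (-1) 0 (by norm_num) z).1 hz
      have := ModuleCat.subsingleton_of_isZero (hT (-1) (by norm_num))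
      rw [← hw, Subsingleton.elim w 0, map_zero]
    have hinj : Function.Injective (fun z : K.homology 0 => f • z) := by
      intro a b hab
      have h2 : f • (a - b) = 0 := by
        rw [smul_sub]
        exact sub_eq_zero.mpr hab
      exact sub_eq_zero.mp (hker _ h2)
    intro a b hab
    have h1 : f • e.toLinearEquiv.symm a = f • e.toLinearEquiv.symm b := by
      rw [← map_smul, ← map_smul]
      exact congrArg _ hab
    exact e.toLinearEquiv.symm.injective (hinj h1)

end Groth.Agent.Lib.Helper5.KosReg

namespace Groth.Agent.Lib.Helper5.KosReg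

variable {R : Type u} [CommRing R] [IsNoetherianRing R]

theorem ofList_reverse (l : List R) : Ideal.ofList l.reverse = Ideal.ofList l := by
  unfold Ideal.ofList
  congr 1
  ext x
  simp

/-- **Koszul-regular ⇒ regular** (reversed order) for sequences in the Jacobson radical of a
Noetherian ring. -/
theorem isWeaklyRegular_reverse (l : List R) (hrad : ∀ x ∈ l, x ∈ (⊥ : Ideal R).jacobson)
    (hl : LCI.IsKoszulRegularSeq R l) : IsWeaklyRegular R l.reverse := by
  induction l with
  | nil => exact IsWeaklyRegular.nil R R
  | cons f l ih =>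
    obtain ⟨h1, h2⟩ := step f l (hrad f List.mem_cons_self) hl
    have ih' := ih (fun x hx => hrad x (List.mem_cons_of_mem _ hx)) h1
    rw [List.reverse_cons, isWeaklyRegular_append_iff]
    refine ⟨ih', ?_⟩
    rw [isWeaklyRegular_singleton_iff]
    have heq : (Ideal.ofList l.reverse • ⊤ : Submodule R R) = Ideal.ofList l := by
      rw [ofList_reverse, smul_eq_mul, Ideal.mul_top]
    let e : (R ⧸ (Ideal.ofList l.reverse • ⊤ : Submodule R R)) ≃ₗ[R] (R ⧸ Ideal.ofList l) :=
      Submodule.quotEquivOfEq _ _ heq
    exact (e.toEquiv.isSMulRegular_congr (r := f) (s := f) (fun x => map_smul e f x)).mpr h2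

/-- in a Noetherian local ring, a Koszul-regular sequence in the maximal ideal is a regular
sequence -/
theorem isRegular_of_koszulRegular [IsLocalRing R] (l : List R)
    (hmem : ∀ x ∈ l, x ∈ IsLocalRing.maximalIdeal R) (hl : LCI.IsKoszulRegularSeq R l) :
    IsRegular R l := by
  have h1 : IsWeaklyRegular R l.reverse :=
    isWeaklyRegular_reverse l (fun x hx => IsLocalRing.maximalIdeal_le_jacobson _ (hmem x hx)) hl
  have h2 : IsWeaklyRegular R l :=
    IsLocalRing.isWeaklyRegular_of_perm_of_subset_maximalIdeal h1 (List.reverse_perm l)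
      (fun r hr => hmem r (List.mem_reverse.mp hr))
  exact IsRegular.of_isWeaklyRegular_of_mem_maximalIdeal R hmem h2

end Groth.Agent.Lib.Helper5.KosReg
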