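import Mathlib
import Groth.Prelude.Def_LCI2

/-!
# Base change of the Koszul complex (mapping cone model) along a ring map
-/

set_option autoImplicit false
universe u

open CategoryTheory CategoryTheory.Limits CochainComplex MonoidalCategory

namespace Groth.Agent.Lib.Helper5.KosBC

variable {A B : Type u} [CommRing A] [CommRing B] (φ : A →+* B)

/-- extension of scalars -/
noncomputable abbrev E : ModuleCat.{u} A ⥤ ModuleCat.{u} B := ModuleCat.extendScalars.{u, u, u} φ

instance : (E φ).Additive where
  map_add {M N g h} := by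
    apply ModuleCat.ExtendScalars.hom_ext
    intro m
    let _ := φ.toAlgebra
    exact TensorProduct.tmul_add (R := A) (M := B) (1 : B) (g.hom m) (h.hom m)

theorem E_map_smul {M N : ModuleCat.{u} A} (a : A) (g : M ⟶ N) :
    (E φ).map (a • g) = φ a • (E φ).map g := by
  apply ModuleCat.ExtendScalars.hom_ext
  intro m
  let _ := φ.toAlgebra
  have h1 : ((1 : B) ⊗ₜ[A] (a • g.hom m) : TensorProduct A B N) = (a • (1 : B)) ⊗ₜ[A] g.hom m :=
    (TensorProduct.smul_tmul a (1 : B) (g.hom m)).symm
  have h2 : (a • (1 : B)) = φ a * 1 := Algebra.smul_def a (1 : B)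
  rw [h2] at h1
  exact h1

/-- extension of scalars on complexes -/
noncomputable abbrev EC : CochainComplex (ModuleCat.{u} A) ℤ ⥤ CochainComplex (ModuleCat.{u} B) ℤ :=
  (E φ).mapHomologicalComplex (ComplexShape.up ℤ)

theorem EC_map_smul_id (a : A) (K : CochainComplex (ModuleCat.{u} A) ℤ) :
    (EC φ).map (a • 𝟙 K) = φ a • 𝟙 ((EC φ).obj K) := by
  ext n : 1
  simp only [Functor.mapHomologicalComplex_map_f, HomologicalComplex.smul_f_apply,
    HomologicalComplex.id_f, E_map_smul, CategoryTheory.Functor.map_id]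
  rfl

/-- the cone of a scalar on isomorphic complexes -/
noncomputable def coneSmulIso (b : B) {K₁ K₂ : CochainComplex (ModuleCat.{u} B) ℤ} (e : K₁ ≅ K₂) :
    mappingCone (b • 𝟙 K₁) ≅ mappingCone (b • 𝟙 K₂) where
  hom := mappingCone.map (b • 𝟙 K₁) (b • 𝟙 K₂) e.hom e.hom (by
    rw [Linear.smul_comp, Linear.comp_smul, Category.id_comp, Category.comp_id])
  inv := mappingCone.map (b • 𝟙 K₂) (b • 𝟙 K₁) e.inv e.inv (by
    rw [Linear.smul_comp, Linear.comp_smul, Category.id_comp, Category.comp_id])
  hom_inv_id := by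
    rw [← mappingCone.map_comp]
    simp [mappingCone.map_id]
  inv_hom_id := by
    rw [← mappingCone.map_comp]
    simp [mappingCone.map_id]

/-- cones of equal maps -/
noncomputable def coneCongr {K L : CochainComplex (ModuleCat.{u} B) ℤ} {ψ ψ' : K ⟶ L}
    (h : ψ = ψ') : mappingCone ψ ≅ mappingCone ψ' := by
  subst h
  exact Iso.refl _

noncomputable def unitIso : (E φ).obj (ModuleCat.of A A) ≅ ModuleCat.of B B :=
  (Functor.Monoidal.εIso (ModuleCat.extendScalars.{u, u, u} φ)).symm

noncomputable def nilIso :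
    (EC φ).obj ((CochainComplex.singleFunctor (ModuleCat.{u} A) 0).obj (ModuleCat.of A A)) ≅
      (CochainComplex.singleFunctor (ModuleCat.{u} B) 0).obj (ModuleCat.of B B) :=
  (HomologicalComplex.singleMapHomologicalComplex (E φ) (ComplexShape.up ℤ) 0).app
      (ModuleCat.of A A) ≪≫
    (HomologicalComplex.single (ModuleCat.{u} B) (ComplexShape.up ℤ) 0).mapIso (unitIso φ)

/-- the Koszul complex commutes with extension of scalars -/
noncomputable def koszulIso :
    ∀ l : List A, (EC φ).obj (Koszul.koszul A l) ≅ Koszul.koszul B (l.map φ)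
  | [] => nilIso φ
  | f :: l =>
    mappingCone.mapHomologicalComplexIso (f • 𝟙 (Koszul.koszul A l)) (E φ) ≪≫
      coneCongr (EC_map_smul_id φ f (Koszul.koszul A l)) ≪≫ coneSmulIso (φ f) (koszulIso l)

end Groth.Agent.Lib.Helper5.KosBC
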