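import Mathlib
import Groth.Agent.Lib.Helper5.KosBCA

/-!
# Koszul-regular sequences under flat base change
-/

set_option autoImplicit false
universe u

open CategoryTheory CategoryTheory.Limits CochainComplex MonoidalCategory

namespace Groth.Agent.Lib.Helper5.KosBC

variable {A B : Type u} [CommRing A] [CommRing B] (φ : A →+* B)

/-- homology of a base-changed complex, for flat `φ` -/
noncomputable def homologyIso (hφ : φ.Flat) (K : CochainComplex (ModuleCat.{u} A) ℤ) (i : ℤ) :
    ((EC φ).obj K).homology i ≅ (E φ).obj (K.homology i) :=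
  have := ModuleCat.preservesFiniteLimits_extendScalars_of_flat.{u} hφ
  (K.sc i).mapHomologyIso (E φ)

/-- homology of the Koszul complex after flat base change -/
noncomputable def koszulHomologyIso (hφ : φ.Flat) (l : List A) (i : ℤ) :
    (Koszul.koszul B (l.map φ)).homology i ≅ (E φ).obj ((Koszul.koszul A l).homology i) :=
  ((HomologicalComplex.homologyFunctor (ModuleCat.{u} B) (ComplexShape.up ℤ) i).mapIso
    (koszulIso φ l)).symm ≪≫ homologyIso φ hφ _ i

theorem isKoszulRegularSeq_map (hφ : φ.Flat) (l : List A) (hl : LCI.IsKoszulRegularSeq A l) :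
    LCI.IsKoszulRegularSeq B (l.map φ) := by
  intro i hi
  exact IsZero.of_iso ((E φ).map_isZero (hl i hi)) (koszulHomologyIso φ hφ l i)

end Groth.Agent.Lib.Helper5.KosBC

namespace Groth.Agent.Lib.Helper5.KosBC

variable {A B : Type u} [CommRing A] [CommRing B] (φ : A →+* B)

open TensorProduct in
theorem isZero_of_isZero_E (hφ : φ.FaithfullyFlat) (M : ModuleCat.{u} A)
    (h : IsZero ((E φ).obj M)) : IsZero M := by
  let _ := φ.toAlgebra
  have hff : Module.FaithfullyFlat A B := hφ
  have h1 : Subsingleton ((E φ).obj M) := ModuleCat.subsingleton_of_isZero h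
  let bEquiv : B ≃ₗ[A] ((ModuleCat.restrictScalars.{u} φ).obj (ModuleCat.of B B)) :=
    { toFun := fun x => x
      invFun := fun x => x
      left_inv := fun _ => rfl
      right_inv := fun _ => rfl
      map_add' := fun _ _ => rfl
      map_smul' := fun a x => Algebra.smul_def a x }
  have h1' : Subsingleton (((ModuleCat.restrictScalars.{u} φ).obj (ModuleCat.of B B)) ⊗[A] M) := h1
  have h2 : Subsingleton (B ⊗[A] M) :=
    (TensorProduct.congr bEquiv (LinearEquiv.refl A M)).toEquiv.subsingleton
  have h3 : Subsingleton M := (Module.FaithfullyFlat.subsingleton_tensorProduct_iff_right A B).1 h2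
  exact ModuleCat.isZero_of_subsingleton M

theorem isKoszulRegularSeq_of_map (hφ : φ.FaithfullyFlat) (l : List A)
    (hl : LCI.IsKoszulRegularSeq B (l.map φ)) : LCI.IsKoszulRegularSeq A l := by
  intro i hi
  exact isZero_of_isZero_E φ hφ _
    (IsZero.of_iso (hl i hi) (koszulHomologyIso φ hφ.flat l i).symm)

end Groth.Agent.Lib.Helper5.KosBC
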