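import Mathlib
import Groth.Agent.Lib.Helper5.KosBCB
import Groth.Agent.Lib.Helper15.RelPC15

set_option autoImplicit false
universe u

open CategoryTheory CategoryTheory.Limits CochainComplex CategoryTheory.Pretriangulated

namespace Groth.Agent.Lib.Helper5.KosComp

attribute [local instance] HasDerivedCategory.standard

variable {R : Type u} [CommRing R]

/-- cones of a scalar on two complexes isomorphic in the derived category are isomorphic there. -/
theorem nonempty_Q_cone_iso (x : R) {K K' : CochainComplex (ModuleCat.{u} R) ℤ}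
    (e : DerivedCategory.Q.obj K ≅ DerivedCategory.Q.obj K') :
    Nonempty (DerivedCategory.Q.obj (mappingCone (x • 𝟙 K)) ≅
      DerivedCategory.Q.obj (mappingCone (x • 𝟙 K'))) := by
  have h₁ := DerivedCategory.mappingCone_triangle_distinguished (x • 𝟙 K)
  have h₂ := DerivedCategory.mappingCone_triangle_distinguished (x • 𝟙 K')
  have comm : (DerivedCategory.Q.mapTriangle.obj (mappingCone.triangle (x • 𝟙 K))).mor₁ ≫ e.hom =
      e.hom ≫ (DerivedCategory.Q.mapTriangle.obj (mappingCone.triangle (x • 𝟙 K'))).mor₁ := by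
    change DerivedCategory.Q.map (x • 𝟙 K) ≫ e.hom = e.hom ≫ DerivedCategory.Q.map (x • 𝟙 K')
    rw [Functor.map_smul, Functor.map_smul, CategoryTheory.Functor.map_id,
      CategoryTheory.Functor.map_id, Linear.smul_comp,
      Linear.comp_smul, Category.id_comp, Category.comp_id]
  exact ⟨Triangle.π₃.mapIso (isoTriangleOfIso₁₂ _ _ h₁ h₂ e e comm)⟩


section Restrict

variable {R S : Type u} [CommRing R] [CommRing S] (φ : R →+* S)

/-- restriction of scalars -/
noncomputable abbrev RS : ModuleCat.{u} S ⥤ ModuleCat.{u} R := ModuleCat.restrictScalars.{u} φ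

/-- restriction of scalars on complexes -/
noncomputable abbrev RC : CochainComplex (ModuleCat.{u} S) ℤ ⥤ CochainComplex (ModuleCat.{u} R) ℤ :=
  (RS φ).mapHomologicalComplex (ComplexShape.up ℤ)

theorem RS_map_smul {M N : ModuleCat.{u} S} (x : R) (g : M ⟶ N) :
    (RS φ).map (φ x • g) = x • (RS φ).map g := by
  ext m
  rfl

theorem RC_map_smul_id (x : R) (K : CochainComplex (ModuleCat.{u} S) ℤ) :
    (RC φ).map (φ x • 𝟙 K) = x • 𝟙 ((RC φ).obj K) := by
  ext n : 1
  simp only [Functor.mapHomologicalComplex_map_f, HomologicalComplex.smul_f_apply,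
    HomologicalComplex.id_f, RS_map_smul, CategoryTheory.Functor.map_id]
  rfl

/-- restriction of scalars commutes with the cone of a scalar -/
noncomputable def coneRCIso (x : R) (K : CochainComplex (ModuleCat.{u} S) ℤ) :
    (RC φ).obj (mappingCone (φ x • 𝟙 K)) ≅ mappingCone (x • 𝟙 ((RC φ).obj K)) :=
  mappingCone.mapHomologicalComplexIso (φ x • 𝟙 K) (RS φ) ≪≫
    Groth.Agent.Lib.Helper5.KosBC.coneCongr (RC_map_smul_id φ x K)

theorem isZero_homology_RC (K : CochainComplex (ModuleCat.{u} S) ℤ) (i : ℤ)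
    (h : IsZero (K.homology i)) : IsZero (((RC φ).obj K).homology i) := by
  have e : ((RC φ).obj K).homology i ≅ (RS φ).obj (K.homology i) := (K.sc i).mapHomologyIso (RS φ)
  exact IsZero.of_iso ((RS φ).map_isZero h) e


end Restrict

section Main

variable {R : Type u} [CommRing R]

/-- the quotient ring as a module over the base, two ways -/
noncomputable def quotIso (I : Ideal R) :
    (RS (Ideal.Quotient.mk I)).obj (ModuleCat.of (R ⧸ I) (R ⧸ I)) ≅ ModuleCat.of R (R ⧸ I) :=
  LinearEquiv.toModuleIso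
    { toFun := fun x => x
      invFun := fun x => x
      left_inv := fun _ => rfl
      right_inv := fun _ => rfl
      map_add' := fun _ _ => rfl
      map_smul' := fun r x => by
        obtain ⟨y, rfl⟩ := Ideal.Quotient.mk_surjective x
        rfl }

open DerivedCategory in
theorem nonempty_Q_koszul_append_iso (f : List R) (hf : LCI.IsKoszulRegularSeq R f) :
    ∀ g : List R, Nonempty (Q.obj (Koszul.koszul R (g ++ f)) ≅
      Q.obj ((RC (Ideal.Quotient.mk (Ideal.ofList f))).obj
        (Koszul.koszul (R ⧸ Ideal.ofList f) (g.map (Ideal.Quotient.mk (Ideal.ofList f))))))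
  | [] => by
    obtain ⟨e⟩ := Groth.Agent.Lib.Helper15.RelPC15.nonempty_toD_koszul_iso f hf
    have e1 : (RC (Ideal.Quotient.mk (Ideal.ofList f))).obj
        ((CochainComplex.singleFunctor (ModuleCat.{u} (R ⧸ Ideal.ofList f)) 0).obj
          (ModuleCat.of (R ⧸ Ideal.ofList f) (R ⧸ Ideal.ofList f))) ≅
        (CochainComplex.singleFunctor (ModuleCat.{u} R) 0).obj
          (ModuleCat.of R (R ⧸ Ideal.ofList f)) :=
      (HomologicalComplex.singleMapHomologicalComplex (RS (Ideal.Quotient.mk (Ideal.ofList f)))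
        (ComplexShape.up ℤ) 0).app _ ≪≫
      (HomologicalComplex.single (ModuleCat.{u} R) (ComplexShape.up ℤ) 0).mapIso
        (quotIso (Ideal.ofList f))
    have e2 : (DerivedCategory.singleFunctor (ModuleCat.{u} R) 0).obj
        (ModuleCat.of R (R ⧸ Ideal.ofList f)) ≅
        Q.obj ((CochainComplex.singleFunctor (ModuleCat.{u} R) 0).obj
          (ModuleCat.of R (R ⧸ Ideal.ofList f))) :=
      (DerivedCategory.singleFunctorIsoCompQ (ModuleCat.{u} R) 0).app _
    exact ⟨e ≪≫ e2 ≪≫ Q.mapIso e1.symm⟩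
  | x :: g => by
    obtain ⟨e⟩ := nonempty_Q_koszul_append_iso f hf g
    obtain ⟨e'⟩ := nonempty_Q_cone_iso x e
    exact ⟨e' ≪≫ Q.mapIso (coneRCIso (Ideal.Quotient.mk (Ideal.ofList f)) x _).symm⟩

open DerivedCategory in
/-- **Composition of Koszul-regular sequences.** -/
theorem isKoszulRegularSeq_append (f g : List R) (hf : LCI.IsKoszulRegularSeq R f)
    (hg : LCI.IsKoszulRegularSeq (R ⧸ Ideal.ofList f) (g.map (Ideal.Quotient.mk (Ideal.ofList f)))) :
    LCI.IsKoszulRegularSeq R (g ++ f) := by
  intro i hi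
  obtain ⟨e⟩ := nonempty_Q_koszul_append_iso f hf g
  have h1 := isZero_homology_RC (Ideal.Quotient.mk (Ideal.ofList f)) _ i (hg i hi)
  have e1 := (homologyFunctorFactors (ModuleCat.{u} R) i).app (Koszul.koszul R (g ++ f))
  have e2 := (homologyFunctorFactors (ModuleCat.{u} R) i).app
    ((RC (Ideal.Quotient.mk (Ideal.ofList f))).obj
        (Koszul.koszul (R ⧸ Ideal.ofList f) (g.map (Ideal.Quotient.mk (Ideal.ofList f)))))
  exact IsZero.of_iso h1 (e1.symm ≪≫ (homologyFunctor (ModuleCat.{u} R) i).mapIso e ≪≫ e2)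

end Main

end Groth.Agent.Lib.Helper5.KosComp
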