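import Mathlib
import Groth.Prelude.Def_LCI2
import Groth.Agent.Lib.Helper2.KosTor2

set_option autoImplicit false
universe u
open CategoryTheory CategoryTheory.Limits CochainComplex HomComplex

namespace Groth.Agent.Lib.Helper5.KosLow

variable {R : Type u} [CommRing R]

section Cone

variable {K L : CochainComplex (ModuleCat.{u} R) ℤ} (φ : K ⟶ L)

noncomputable def cinl (p q : ℤ) (h : p + 1 = q) : K.X q →ₗ[R] (mappingCone φ).X p :=
  ((mappingCone.inl φ).v q p (by omega)).hom

noncomputable def cinr (p : ℤ) : L.X p →ₗ[R] (mappingCone φ).X p :=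
  ((mappingCone.inr φ).f p).hom

noncomputable def cfst (p q : ℤ) (h : p + 1 = q) : (mappingCone φ).X p →ₗ[R] K.X q :=
  ((mappingCone.fst φ).1.v p q h).hom

noncomputable def csnd (p : ℤ) : (mappingCone φ).X p →ₗ[R] L.X p :=
  ((mappingCone.snd φ).v p p (add_zero p)).hom

theorem cfst_cinl (p q : ℤ) (h : p + 1 = q) (a : K.X q) : cfst φ p q h (cinl φ p q h a) = a :=
  congrArg (fun g => g.hom a) (mappingCone.inl_v_fst_v φ q p h)

theorem csnd_cinl (p q : ℤ) (h : p + 1 = q) (a : K.X q) : csnd φ p (cinl φ p q h a) = 0 :=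
  congrArg (fun g => g.hom a) (mappingCone.inl_v_snd_v φ q p (by omega))

theorem cfst_cinr (p q : ℤ) (h : p + 1 = q) (b : L.X p) : cfst φ p q h (cinr φ p b) = 0 :=
  congrArg (fun g => g.hom b) (mappingCone.inr_f_fst_v φ p q h)

theorem csnd_cinr (p : ℤ) (b : L.X p) : csnd φ p (cinr φ p b) = b :=
  congrArg (fun g => g.hom b) (mappingCone.inr_f_snd_v φ p)

theorem decomp (p q : ℤ) (h : p + 1 = q) (x : (mappingCone φ).X p) :
    x = cinl φ p q h (cfst φ p q h x) + cinr φ p (csnd φ p x) :=
  (congrArg (fun g => g.hom x) (mappingCone.id_X φ p q h)).symm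

theorem cfst_d (i j k : ℤ) (hij : i + 1 = j) (hjk : j + 1 = k) (x : (mappingCone φ).X i) :
    cfst φ j k hjk (((mappingCone φ).d i j).hom x) = - (K.d j k).hom (cfst φ i j hij x) :=
  congrArg (fun g => g.hom x) (mappingCone.d_fst_v φ i j k hij hjk)

theorem csnd_d (i j : ℤ) (hij : i + 1 = j) (x : (mappingCone φ).X i) :
    csnd φ j (((mappingCone φ).d i j).hom x) =
      (φ.f j).hom (cfst φ i j hij x) + (L.d i j).hom (csnd φ i x) :=
  congrArg (fun g => g.hom x) (mappingCone.d_snd_v φ i j hij)

end Cone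



theorem map_mem_smul_top {M N : Type*} [AddCommGroup M] [Module R M] [AddCommGroup N] [Module R N]
    (g : M →ₗ[R] N) {I J : Ideal R} (hIJ : I ≤ J) {x : M} (hx : x ∈ I • (⊤ : Submodule R M)) :
    g x ∈ J • (⊤ : Submodule R N) := by
  have h1 : g x ∈ (I • (⊤ : Submodule R M)).map g := Submodule.mem_map_of_mem hx
  rw [Submodule.map_smul''] at h1
  exact Submodule.smul_mono hIJ le_top h1

theorem ofList_le_cons (f : R) (l : List R) : Ideal.ofList l ≤ Ideal.ofList (f :: l) := by
  rw [Ideal.ofList_cons]; exact le_sup_right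

theorem mem_ofList_cons (f : R) (l : List R) : f ∈ Ideal.ofList (f :: l) := by
  rw [Ideal.ofList_cons]; exact Ideal.mem_sup_left (Ideal.mem_span_singleton_self f)

/-- all differentials of the Koszul complex have image in `I • ⊤`. -/
theorem d_mem : ∀ (l : List R) (p q : ℤ) (x : (Koszul.koszul R l).X p),
    ((Koszul.koszul R l).d p q).hom x ∈
      (Ideal.ofList l) • (⊤ : Submodule R ((Koszul.koszul R l).X q))
  | [], p, q, x => by
    have : (Koszul.koszul R ([] : List R)).d p q = 0 := HomologicalComplex.single_obj_d _ _ _ _ _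
    rw [this]
    exact Submodule.zero_mem _
  | f :: l, p, q, x => by
    by_cases hpq : p + 1 = q
    · set K := Koszul.koszul R l with hK
      change ((mappingCone (f • 𝟙 K)).d p q).hom x ∈
        (Ideal.ofList (f :: l)) • (⊤ : Submodule R ((mappingCone (f • 𝟙 K)).X q))
      set φ : K ⟶ K := f • 𝟙 K with hφ
      set y := ((mappingCone φ).d p q).hom x with hy
      rw [decomp φ q (q + 1) rfl y]
      refine Submodule.add_mem _ ?_ ?_
      · refine map_mem_smul_top (cinl φ q (q + 1) rfl) (ofList_le_cons f l) ?_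
        rw [hy, cfst_d φ p q (q + 1) hpq rfl x]
        exact Submodule.neg_mem _ (d_mem l q (q + 1) _)
      · rw [hy, csnd_d φ p q hpq x]
        refine map_mem_smul_top (cinr φ q) le_rfl (Submodule.add_mem _ ?_ ?_)
        · have h1 : (φ.f q).hom (cfst φ p q hpq x) = f • (cfst φ p q hpq x) := by
            rw [hφ]
            simp
          rw [h1]
          exact Submodule.smul_mem_smul (mem_ofList_cons f l) Submodule.mem_top
        · exact Submodule.smul_mono_left (ofList_le_cons f l) (d_mem l p q _)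
    · have : (Koszul.koszul R (f :: l)).d p q = 0 := HomologicalComplex.shape _ _ _ hpq
      rw [this]
      exact Submodule.zero_mem _



/-- explicit description of the Koszul complex in degrees `0` and `-1`. -/
theorem low : ∀ l : List R, ∃ (e0 : (Koszul.koszul R l).X 0 ≃ₗ[R] R)
    (coef : (Koszul.koszul R l).X (-1) →ₗ[R] (Fin l.length → R))
    (rel : (Fin l.length → R) →ₗ[R] (Koszul.koszul R l).X (-1)),
    (∀ c, coef (rel c) = c) ∧
    (∀ c, e0 (((Koszul.koszul R l).d (-1) 0).hom (rel c)) = ∑ i, c i * l.get i)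
  | [] => by
    have e : (Koszul.koszul R ([] : List R)).X 0 ≃ₗ[R] R :=
      (HomologicalComplex.singleObjXSelf (ComplexShape.up ℤ) 0 (ModuleCat.of R R)).toLinearEquiv
    refine ⟨e, 0, 0, ?_, ?_⟩
    · intro c
      funext i
      exact i.elim0
    · intro c
      rw [LinearMap.zero_apply, map_zero, map_zero]
      exact (Finset.sum_eq_zero (fun i _ => i.elim0)).symm
  | f :: l => by
    obtain ⟨e0, coef, rel, h1, h2⟩ := low l
    let φ : Koszul.koszul R l ⟶ Koszul.koszul R l := f • 𝟙 (Koszul.koszul R l)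
    have hφ : φ = f • 𝟙 (Koszul.koszul R l) := rfl
    have hz : ∀ a : (Koszul.koszul R l).X 1, a = 0 := fun a =>
      (ModuleCat.isZero_iff_subsingleton.1
        (Groth.Agent.Lib.Helper2.KosTor2.isZero_koszul_X l 1 (by norm_num))).elim _ _
    let s0 : (mappingCone φ).X 0 ≃ₗ[R] (Koszul.koszul R l).X 0 :=
      LinearEquiv.ofBijective (csnd φ 0) ⟨by
        rw [injective_iff_map_eq_zero]
        intro x hx
        rw [decomp φ 0 1 rfl x, hx, hz (cfst φ 0 1 rfl x), map_zero, map_zero, add_zero],
        fun b => ⟨cinr φ 0 b, csnd_cinr φ 0 b⟩⟩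
    let coef' : (mappingCone φ).X (-1) →ₗ[R] (Fin (l.length + 1) → R) :=
      { toFun := fun x => Fin.cons (e0 (cfst φ (-1) 0 (by norm_num) x)) (coef (csnd φ (-1) x))
        map_add' := fun x y => by
          rw [map_add, map_add, map_add, map_add]
          ext i
          refine Fin.cases ?_ (fun j => ?_) i <;> simp
        map_smul' := fun a x => by
          rw [map_smul, map_smul, map_smul, map_smul]
          ext i
          refine Fin.cases ?_ (fun j => ?_) i <;> simp }
    let rel' : (Fin (l.length + 1) → R) →ₗ[R] (mappingCone φ).X (-1) :=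
      { toFun := fun c => cinl φ (-1) 0 (by norm_num) (e0.symm (c 0)) + cinr φ (-1) (rel (Fin.tail c))
        map_add' := fun x y => by
          have : Fin.tail (x + y) = Fin.tail x + Fin.tail y := rfl
          rw [this, Pi.add_apply, map_add, map_add, map_add, map_add]
          abel
        map_smul' := fun a x => by
          have : Fin.tail (a • x) = a • Fin.tail x := rfl
          rw [this, Pi.smul_apply, map_smul, map_smul, map_smul, map_smul, RingHom.id_apply,
            smul_add] }
    have ha : ∀ c : Fin (l.length + 1) → R,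
        cfst φ (-1) 0 (by norm_num) (rel' c) = e0.symm (c 0) := by
      intro c
      change cfst φ (-1) 0 _ (cinl φ (-1) 0 _ (e0.symm (c 0)) +
        cinr φ (-1) (rel (Fin.tail c))) = _
      rw [map_add, cfst_cinl, cfst_cinr, add_zero]
    have hb : ∀ c : Fin (l.length + 1) → R, csnd φ (-1) (rel' c) = rel (Fin.tail c) := by
      intro c
      change csnd φ (-1) (cinl φ (-1) 0 _ (e0.symm (c 0)) +
        cinr φ (-1) (rel (Fin.tail c))) = _
      rw [map_add, csnd_cinl, csnd_cinr, zero_add]
    refine ⟨s0.trans e0, coef', rel', ?_, ?_⟩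
    · intro c
      change Fin.cons (e0 (cfst φ (-1) 0 _ (rel' c))) (coef (csnd φ (-1) (rel' c))) = c
      rw [ha, hb, LinearEquiv.apply_symm_apply, h1]
      exact Fin.cons_self_tail c
    · intro c
      change e0 (csnd φ 0 (((mappingCone φ).d (-1) 0).hom (rel' c))) = _
      rw [csnd_d φ (-1) 0 (by norm_num), ha, hb, map_add, h2]
      have h3 : (φ.f 0).hom (e0.symm (c 0)) = f • (e0.symm (c 0)) := by
        rw [hφ]; simp
      rw [h3, map_smul, LinearEquiv.apply_symm_apply]
      change _ = ∑ i : Fin (l.length + 1), c i * (f :: l).get i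
      rw [Fin.sum_univ_succ]
      congr 1
      exact mul_comm _ _



theorem apply_mem_of_mem_smul_top {ι : Type*} (I : Ideal R) (x : ι → R)
    (hx : x ∈ I • (⊤ : Submodule R (ι → R))) (i : ι) : x i ∈ I := by
  have := map_mem_smul_top (LinearMap.proj (R := R) (φ := fun _ : ι => R) i) (le_refl I) hx
  rwa [smul_eq_mul, Ideal.mul_top] at this

/-- relations among a sequence with vanishing first Koszul homology have coefficients in the
ideal. -/
theorem coeff_mem_of_sum_eq_zero (l : List R)
    (h1 : IsZero ((Koszul.koszul R l).homology (-1))) (c : Fin l.length → R)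
    (hc : ∑ i, c i * l.get i = 0) (i : Fin l.length) : c i ∈ Ideal.ofList l := by
  obtain ⟨e0, coef, rel, hcr, hd⟩ := low l
  have hdx : ((Koszul.koszul R l).d (-1) 0).hom (rel c) = 0 := by
    apply e0.injective
    rw [hd, hc, map_zero]
  have hex : (Koszul.koszul R l).ExactAt (-1) := by
    rw [HomologicalComplex.exactAt_iff_isZero_homology]
    exact h1
  rw [HomologicalComplex.exactAt_iff' _ (-2) (-1) 0 (by simp) (by simp),
    ShortComplex.ShortExact.moduleCat_exact_iff_function_exact] at hex
  obtain ⟨y, hy⟩ := (hex (rel c)).1 hdx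
  have hmem : rel c ∈ (Ideal.ofList l) • (⊤ : Submodule R ((Koszul.koszul R l).X (-1))) := by
    rw [← hy]
    exact d_mem l (-2) (-1) y
  have := map_mem_smul_top coef (le_refl _) hmem
  rw [hcr] at this
  exact apply_mem_of_mem_smul_top _ c this i

theorem exists_of_mem_mul_span_range {ι : Type*} [Fintype ι] (I : Ideal R) (v : ι → R) (x : R)
    (hx : x ∈ I * Ideal.span (Set.range v)) :
    ∃ b : ι → R, (∀ i, b i ∈ I) ∧ ∑ i, b i * v i = x := by
  refine Submodule.mul_induction_on hx ?_ ?_
  · intro a ha y hy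
    obtain ⟨t, rfl⟩ := (Ideal.mem_span_range_iff_exists_fun).1 hy
    refine ⟨fun i => a * t i, fun i => I.mul_mem_right _ ha, ?_⟩
    rw [Finset.mul_sum]
    exact Finset.sum_congr rfl (fun i _ => mul_assoc _ _ _)
  · rintro x y ⟨b, hb, rfl⟩ ⟨b', hb', rfl⟩
    refine ⟨fun i => b i + b' i, fun i => I.add_mem (hb i) (hb' i), ?_⟩
    rw [← Finset.sum_add_distrib]
    exact Finset.sum_congr rfl (fun i _ => add_mul _ _ _)

theorem coeff_mem_of_sum_mem_sq_fn (r : ℕ) (g : Fin r → R)
    (h1 : IsZero ((Koszul.koszul R (List.ofFn g)).homology (-1))) (c : Fin r → R)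
    (hc : ∑ i, c i * g i ∈ (Ideal.span (Set.range g)) ^ 2) (i : Fin r) :
    c i ∈ Ideal.span (Set.range g) := by
  rw [pow_two] at hc
  obtain ⟨b, hb, hsum⟩ := exists_of_mem_mul_span_range _ g _ hc
  have hI : Ideal.ofList (List.ofFn g) = Ideal.span (Set.range g) := by
    unfold Ideal.ofList
    congr 1
    ext x
    simp [List.mem_ofFn]
  have hlen : (List.ofFn g).length = r := List.length_ofFn
  have hrel : ∑ j : Fin (List.ofFn g).length,
      (fun j => c (Fin.cast hlen j) - b (Fin.cast hlen j)) j * (List.ofFn g).get j = 0 := by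
    have h2 : ∑ j : Fin r, (c j - b j) * g j = 0 := by
      simp_rw [sub_mul]
      rw [Finset.sum_sub_distrib, hsum, sub_self]
    rw [← h2]
    refine Fintype.sum_equiv (finCongr hlen) _ _ (fun j => ?_)
    simp
    rfl
  have := coeff_mem_of_sum_eq_zero (List.ofFn g) h1 _ hrel (Fin.cast hlen.symm i)
  rw [hI] at this
  simp only [Fin.cast_cast, Fin.cast_eq_self] at this
  have h3 := Ideal.add_mem _ this (hb i)
  rwa [sub_add_cancel] at h3



theorem exists_basis_cotangent (r : ℕ) (g : Fin r → R)
    (h1 : IsZero ((Koszul.koszul R (List.ofFn g)).homology (-1))) :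
    ∃ b : Module.Basis (Fin r) (R ⧸ Ideal.span (Set.range g)) (Ideal.span (Set.range g)).Cotangent,
      ∀ i, b i = (Ideal.span (Set.range g)).toCotangent
        ⟨g i, Ideal.subset_span (Set.mem_range_self i)⟩ := by
  set I := Ideal.span (Set.range g) with hI
  let gI : Fin r → I := fun i => ⟨g i, Ideal.subset_span (Set.mem_range_self i)⟩
  let v : Fin r → I.Cotangent := fun i => I.toCotangent (gI i)
  have hsmul : ∀ (c : R) (m : I.Cotangent), (Ideal.Quotient.mk I c) • m = c • m := fun c m =>
    algebraMap_smul (R ⧸ I) c m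
  have hli : LinearIndependent (R ⧸ I) v := by
    rw [Fintype.linearIndependent_iff]
    intro w hw i
    choose c hc using fun i => Ideal.Quotient.mk_surjective (w i)
    have h2 : I.toCotangent (∑ j, c j • gI j) = 0 := by
      rw [map_sum, ← hw]
      refine Finset.sum_congr rfl (fun j _ => ?_)
      rw [map_smul, ← hc j, hsmul]
    rw [Ideal.toCotangent_eq_zero] at h2
    have h3 : ((∑ j, c j • gI j : I) : R) = ∑ j, c j * g j := by
      rw [AddSubmonoidClass.coe_finsetSum]
      rfl
    rw [h3] at h2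
    have := coeff_mem_of_sum_mem_sq_fn r g h1 c h2 i
    rw [← hc i]
    exact Ideal.Quotient.eq_zero_iff_mem.2 this
  have hsp : ⊤ ≤ Submodule.span (R ⧸ I) (Set.range v) := by
    intro m _
    obtain ⟨x, rfl⟩ := Ideal.toCotangent_surjective I m
    obtain ⟨t, ht⟩ := (Ideal.mem_span_range_iff_exists_fun).1 x.2
    have hx : x = ∑ j, t j • gI j := by
      apply Subtype.ext
      rw [AddSubmonoidClass.coe_finsetSum, ← ht]
      rfl
    rw [hx, map_sum]
    refine Submodule.sum_mem _ (fun j _ => ?_)
    rw [map_smul, ← hsmul]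
    exact Submodule.smul_mem _ _ (Submodule.subset_span (Set.mem_range_self j))
  exact ⟨Module.Basis.mk hli hsp, fun i => Module.Basis.mk_apply hli hsp i⟩


end Groth.Agent.Lib.Helper5.KosLow
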