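import Mathlib
import Groth.Prelude.Def_LCI2
import Groth.Agent.Lib.Helper5.KosLow

/-!
# Double mapping cones of scalars: coordinates, the swap and the shear isomorphisms
-/

set_option autoImplicit false
universe u

open CategoryTheory CategoryTheory.Limits CochainComplex HomComplex

namespace Groth.Agent.Lib.Helper5.KosPerm

open Groth.Agent.Lib.Helper5.KosLow

variable {R : Type u} [CommRing R]

theorem smul_id_f_apply (K : CochainComplex (ModuleCat.{u} R) ℤ) (x : R) (j : ℤ) (v : K.X j) :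
    ((x • 𝟙 K : K ⟶ K).f j).hom v = x • v := by
  simp

variable (C : CochainComplex (ModuleCat.{u} R) ℤ)

/-- the cone of a scalar -/
noncomputable abbrev M (y : R) : CochainComplex (ModuleCat.{u} R) ℤ := mappingCone (y • 𝟙 C)

/-- the double cone of two scalars -/
noncomputable abbrev D (x y : R) : CochainComplex (ModuleCat.{u} R) ℤ :=
  mappingCone (x • 𝟙 (M C y))

variable (x y : R)

noncomputable def cA (p q r : ℤ) (hpq : p + 1 = q) (hqr : q + 1 = r) :
    (D C x y).X p →ₗ[R] C.X r :=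
  cfst (y • 𝟙 C) q r hqr ∘ₗ cfst (x • 𝟙 (M C y)) p q hpq

noncomputable def cB (p q : ℤ) (hpq : p + 1 = q) : (D C x y).X p →ₗ[R] C.X q :=
  csnd (y • 𝟙 C) q ∘ₗ cfst (x • 𝟙 (M C y)) p q hpq

noncomputable def cC (p q : ℤ) (hpq : p + 1 = q) : (D C x y).X p →ₗ[R] C.X q :=
  cfst (y • 𝟙 C) p q hpq ∘ₗ csnd (x • 𝟙 (M C y)) p

noncomputable def cE (p : ℤ) : (D C x y).X p →ₗ[R] C.X p :=
  csnd (y • 𝟙 C) p ∘ₗ csnd (x • 𝟙 (M C y)) p

noncomputable def iA (p q r : ℤ) (hpq : p + 1 = q) (hqr : q + 1 = r) :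
    C.X r →ₗ[R] (D C x y).X p :=
  cinl (x • 𝟙 (M C y)) p q hpq ∘ₗ cinl (y • 𝟙 C) q r hqr

noncomputable def iB (p q : ℤ) (hpq : p + 1 = q) : C.X q →ₗ[R] (D C x y).X p :=
  cinl (x • 𝟙 (M C y)) p q hpq ∘ₗ cinr (y • 𝟙 C) q

noncomputable def iC (p q : ℤ) (hpq : p + 1 = q) : C.X q →ₗ[R] (D C x y).X p :=
  cinr (x • 𝟙 (M C y)) p ∘ₗ cinl (y • 𝟙 C) p q hpq

noncomputable def iE (p : ℤ) : C.X p →ₗ[R] (D C x y).X p :=
  cinr (x • 𝟙 (M C y)) p ∘ₗ cinr (y • 𝟙 C) p

section rel

variable (p q r : ℤ) (hpq : p + 1 = q) (hqr : q + 1 = r)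

@[simp] theorem cA_iA (a : C.X r) : cA C x y p q r hpq hqr (iA C x y p q r hpq hqr a) = a := by
  simp [cA, iA, cfst_cinl]
@[simp] theorem cA_iB (a : C.X q) : cA C x y p q r hpq hqr (iB C x y p q hpq a) = 0 := by
  simp [cA, iB, cfst_cinl, cfst_cinr]
@[simp] theorem cA_iC (a : C.X q) : cA C x y p q r hpq hqr (iC C x y p q hpq a) = 0 := by
  simp [cA, iC, cfst_cinr]
@[simp] theorem cA_iE (a : C.X p) : cA C x y p q r hpq hqr (iE C x y p a) = 0 := by
  simp [cA, iE, cfst_cinr]

@[simp] theorem cB_iA (a : C.X r) : cB C x y p q hpq (iA C x y p q r hpq hqr a) = 0 := by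
  simp [cB, iA, cfst_cinl, csnd_cinl]
@[simp] theorem cB_iB (a : C.X q) : cB C x y p q hpq (iB C x y p q hpq a) = a := by
  simp [cB, iB, cfst_cinl, csnd_cinr]
@[simp] theorem cB_iC (a : C.X q) : cB C x y p q hpq (iC C x y p q hpq a) = 0 := by
  simp [cB, iC, cfst_cinr]
@[simp] theorem cB_iE (a : C.X p) : cB C x y p q hpq (iE C x y p a) = 0 := by
  simp [cB, iE, cfst_cinr]

@[simp] theorem cC_iA (a : C.X r) : cC C x y p q hpq (iA C x y p q r hpq hqr a) = 0 := by
  simp [cC, iA, csnd_cinl]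
@[simp] theorem cC_iB (a : C.X q) : cC C x y p q hpq (iB C x y p q hpq a) = 0 := by
  simp [cC, iB, csnd_cinl]
@[simp] theorem cC_iC (a : C.X q) : cC C x y p q hpq (iC C x y p q hpq a) = a := by
  simp [cC, iC, csnd_cinr, cfst_cinl]
@[simp] theorem cC_iE (a : C.X p) : cC C x y p q hpq (iE C x y p a) = 0 := by
  simp [cC, iE, csnd_cinr, cfst_cinr]

@[simp] theorem cE_iA (a : C.X r) : cE C x y p (iA C x y p q r hpq hqr a) = 0 := by
  simp [cE, iA, csnd_cinl]
@[simp] theorem cE_iB (a : C.X q) : cE C x y p (iB C x y p q hpq a) = 0 := by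
  simp [cE, iB, csnd_cinl]
@[simp] theorem cE_iC (a : C.X q) : cE C x y p (iC C x y p q hpq a) = 0 := by
  simp [cE, iC, csnd_cinr, csnd_cinl]
@[simp] theorem cE_iE (a : C.X p) : cE C x y p (iE C x y p a) = a := by
  simp [cE, iE, csnd_cinr]

theorem decomp4 (w : (D C x y).X p) :
    w = iA C x y p q r hpq hqr (cA C x y p q r hpq hqr w) + iB C x y p q hpq (cB C x y p q hpq w) +
      iC C x y p q hpq (cC C x y p q hpq w) + iE C x y p (cE C x y p w) := by
  have h1 := decomp (x • 𝟙 (M C y)) p q hpq w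
  have h2 := decomp (y • 𝟙 C) q r hqr (cfst (x • 𝟙 (M C y)) p q hpq w)
  have h3 := decomp (y • 𝟙 C) p q hpq (csnd (x • 𝟙 (M C y)) p w)
  conv_lhs => rw [h1, h2, h3]
  simp only [map_add, iA, iB, iC, iE, cA, cB, cC, cE, LinearMap.comp_apply]
  abel

theorem ext4 {w w' : (D C x y).X p}
    (hA : cA C x y p q r hpq hqr w = cA C x y p q r hpq hqr w')
    (hB : cB C x y p q hpq w = cB C x y p q hpq w')
    (hC : cC C x y p q hpq w = cC C x y p q hpq w')
    (hE : cE C x y p w = cE C x y p w') : w = w' := by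
  rw [decomp4 C x y p q r hpq hqr w, decomp4 C x y p q r hpq hqr w', hA, hB, hC, hE]

end rel

section diff

variable (p q r s : ℤ) (hpq : p + 1 = q) (hqr : q + 1 = r) (hrs : r + 1 = s)

theorem cA_d (w : (D C x y).X p) :
    cA C x y q r s hqr hrs (((D C x y).d p q).hom w) =
      (C.d r s).hom (cA C x y p q r hpq hqr w) := by
  simp only [cA, LinearMap.comp_apply]
  rw [cfst_d (x • 𝟙 (M C y)) p q r hpq hqr w, map_neg,
    cfst_d (y • 𝟙 C) q r s hqr hrs, neg_neg]

theorem cB_d (w : (D C x y).X p) :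
    cB C x y q r hqr (((D C x y).d p q).hom w) =
      - (y • cA C x y p q r hpq hqr w) - (C.d q r).hom (cB C x y p q hpq w) := by
  simp only [cA, cB, LinearMap.comp_apply]
  rw [cfst_d (x • 𝟙 (M C y)) p q r hpq hqr w, map_neg,
    csnd_d (y • 𝟙 C) q r hqr, smul_id_f_apply]
  abel

theorem cC_d (w : (D C x y).X p) :
    cC C x y q r hqr (((D C x y).d p q).hom w) =
      x • cA C x y p q r hpq hqr w - (C.d q r).hom (cC C x y p q hpq w) := by
  simp only [cA, cC, LinearMap.comp_apply]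
  rw [csnd_d (x • 𝟙 (M C y)) p q hpq w, map_add, smul_id_f_apply, map_smul,
    cfst_d (y • 𝟙 C) p q r hpq hqr]
  abel

theorem cE_d (w : (D C x y).X p) :
    cE C x y q (((D C x y).d p q).hom w) =
      x • cB C x y p q hpq w + y • cC C x y p q hpq w + (C.d p q).hom (cE C x y p w) := by
  simp only [cB, cC, cE, LinearMap.comp_apply]
  rw [csnd_d (x • 𝟙 (M C y)) p q hpq w, map_add, smul_id_f_apply, map_smul,
    csnd_d (y • 𝟙 C) p q hpq, smul_id_f_apply]
  abel

end diff

end Groth.Agent.Lib.Helper5.KosPerm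

namespace Groth.Agent.Lib.Helper5.KosPerm

open Groth.Agent.Lib.Helper5.KosLow

variable {R : Type u} [CommRing R] (C : CochainComplex (ModuleCat.{u} R) ℤ)

section swap

variable (x y : R)

/-- the swap in degree `p` -/
noncomputable def swapX (p : ℤ) : (D C x y).X p →ₗ[R] (D C y x).X p :=
  - (iA C y x p (p + 1) (p + 1 + 1) rfl rfl ∘ₗ cA C x y p (p + 1) (p + 1 + 1) rfl rfl) +
    iB C y x p (p + 1) rfl ∘ₗ cC C x y p (p + 1) rfl +
    iC C y x p (p + 1) rfl ∘ₗ cB C x y p (p + 1) rfl +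
    iE C y x p ∘ₗ cE C x y p

variable (p q r : ℤ) (hpq : p + 1 = q) (hqr : q + 1 = r)

theorem cA_swapX (w : (D C x y).X p) :
    cA C y x p q r hpq hqr (swapX C x y p w) = - cA C x y p q r hpq hqr w := by
  subst hpq hqr
  simp [swapX]

theorem cB_swapX (w : (D C x y).X p) :
    cB C y x p q hpq (swapX C x y p w) = cC C x y p q hpq w := by
  subst hpq
  simp [swapX]

theorem cC_swapX (w : (D C x y).X p) :
    cC C y x p q hpq (swapX C x y p w) = cB C x y p q hpq w := by
  subst hpq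
  simp [swapX]

theorem cE_swapX (w : (D C x y).X p) :
    cE C y x p (swapX C x y p w) = cE C x y p w := by
  simp [swapX]

/-- the swap as a chain map -/
noncomputable def swapHom : D C x y ⟶ D C y x where
  f p := ModuleCat.ofHom (swapX C x y p)
  comm' i j hij := by
    have hij' : i + 1 = j := hij
    subst hij'
    ext w
    change ((D C y x).d i (i + 1)).hom (swapX C x y i w) =
      swapX C x y (i + 1) (((D C x y).d i (i + 1)).hom w)
    apply ext4 C y x (i + 1) (i + 1 + 1) (i + 1 + 1 + 1) rfl rfl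
    · rw [cA_swapX, cA_d C x y i (i + 1) (i + 1 + 1) (i + 1 + 1 + 1) rfl rfl rfl,
        cA_d C y x i (i + 1) (i + 1 + 1) (i + 1 + 1 + 1) rfl rfl rfl, cA_swapX, map_neg]
    · rw [cB_swapX, cC_d C x y i (i + 1) (i + 1 + 1) rfl rfl,
        cB_d C y x i (i + 1) (i + 1 + 1) rfl rfl, cA_swapX, cB_swapX]
      simp
    · rw [cC_swapX, cB_d C x y i (i + 1) (i + 1 + 1) rfl rfl,
        cC_d C y x i (i + 1) (i + 1 + 1) rfl rfl, cA_swapX, cC_swapX]
      simp
    · rw [cE_swapX, cE_d C x y i (i + 1) rfl, cE_d C y x i (i + 1) rfl, cB_swapX, cC_swapX,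
        cE_swapX]
      abel

theorem swapHom_comp : swapHom C x y ≫ swapHom C y x = 𝟙 _ := by
  ext p w
  change swapX C y x p (swapX C x y p w) = w
  apply ext4 C x y p (p + 1) (p + 1 + 1) rfl rfl
  · rw [cA_swapX, cA_swapX, neg_neg]
  · rw [cB_swapX, cC_swapX]
  · rw [cC_swapX, cB_swapX]
  · rw [cE_swapX, cE_swapX]

/-- the swap isomorphism of double cones -/
noncomputable def swapIso : D C x y ≅ D C y x where
  hom := swapHom C x y
  inv := swapHom C y x
  hom_inv_id := swapHom_comp C x y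
  inv_hom_id := swapHom_comp C y x

end swap

section shear

variable (x x' y c : R)

/-- the shear in degree `p` -/
noncomputable def shearX (p : ℤ) : (D C x' y).X p →ₗ[R] (D C x y).X p :=
  iA C x y p (p + 1) (p + 1 + 1) rfl rfl ∘ₗ cA C x' y p (p + 1) (p + 1 + 1) rfl rfl +
    iB C x y p (p + 1) rfl ∘ₗ cB C x' y p (p + 1) rfl +
    iC C x y p (p + 1) rfl ∘ₗ (cC C x' y p (p + 1) rfl + c • cB C x' y p (p + 1) rfl) +
    iE C x y p ∘ₗ cE C x' y p

variable (p q r : ℤ) (hpq : p + 1 = q) (hqr : q + 1 = r)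

theorem cA_shearX (w : (D C x' y).X p) :
    cA C x y p q r hpq hqr (shearX C x x' y c p w) = cA C x' y p q r hpq hqr w := by
  subst hpq hqr
  simp [shearX]

theorem cB_shearX (w : (D C x' y).X p) :
    cB C x y p q hpq (shearX C x x' y c p w) = cB C x' y p q hpq w := by
  subst hpq
  simp [shearX]

theorem cC_shearX (w : (D C x' y).X p) :
    cC C x y p q hpq (shearX C x x' y c p w) =
      cC C x' y p q hpq w + c • cB C x' y p q hpq w := by
  subst hpq
  simp [shearX]

theorem cE_shearX (w : (D C x' y).X p) :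
    cE C x y p (shearX C x x' y c p w) = cE C x' y p w := by
  simp [shearX]

/-- the shear as a chain map -/
noncomputable def shearHom (h : x' = x + c * y) : D C x' y ⟶ D C x y where
  f p := ModuleCat.ofHom (shearX C x x' y c p)
  comm' i j hij := by
    have hij' : i + 1 = j := hij
    subst hij'
    ext w
    change ((D C x y).d i (i + 1)).hom (shearX C x x' y c i w) =
      shearX C x x' y c (i + 1) (((D C x' y).d i (i + 1)).hom w)
    apply ext4 C x y (i + 1) (i + 1 + 1) (i + 1 + 1 + 1) rfl rfl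
    · rw [cA_shearX, cA_d C x' y i (i + 1) (i + 1 + 1) (i + 1 + 1 + 1) rfl rfl rfl,
        cA_d C x y i (i + 1) (i + 1 + 1) (i + 1 + 1 + 1) rfl rfl rfl, cA_shearX]
    · rw [cB_shearX, cB_d C x' y i (i + 1) (i + 1 + 1) rfl rfl,
        cB_d C x y i (i + 1) (i + 1 + 1) rfl rfl, cA_shearX, cB_shearX]
    · rw [cC_shearX, cC_d C x' y i (i + 1) (i + 1 + 1) rfl rfl,
        cB_d C x' y i (i + 1) (i + 1 + 1) rfl rfl,
        cC_d C x y i (i + 1) (i + 1 + 1) rfl rfl, cA_shearX, cC_shearX, h]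
      simp only [map_add, map_smul, smul_sub, smul_neg, add_smul, mul_smul]
      abel
    · rw [cE_shearX, cE_d C x' y i (i + 1) rfl, cE_d C x y i (i + 1) rfl, cB_shearX, cC_shearX,
        cE_shearX, h]
      simp only [smul_add, add_smul, mul_smul]
      rw [smul_comm y c]
      abel

theorem shearHom_comp (h : x' = x + c * y) (h' : x = x' + (-c) * y) :
    shearHom C x x' y c h ≫ shearHom C x' x y (-c) h' = 𝟙 _ := by
  ext p w
  change shearX C x' x y (-c) p (shearX C x x' y c p w) = w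
  apply ext4 C x' y p (p + 1) (p + 1 + 1) rfl rfl
  · rw [cA_shearX, cA_shearX]
  · rw [cB_shearX, cB_shearX]
  · rw [cC_shearX, cC_shearX, cB_shearX]
    simp
  · rw [cE_shearX, cE_shearX]

/-- the shear isomorphism `D (x + c y) y ≅ D x y` -/
noncomputable def shearIso : D C (x + c * y) y ≅ D C x y where
  hom := shearHom C x (x + c * y) y c rfl
  inv := shearHom C (x + c * y) x y (-c) (by ring)
  hom_inv_id := shearHom_comp C x (x + c * y) y c rfl (by ring)
  inv_hom_id := by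
    have := shearHom_comp C (x + c * y) x y (-c) (by ring) (by ring)
    simpa using this

end shear

end Groth.Agent.Lib.Helper5.KosPerm
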