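import Mathlib
import Groth.Prelude.Def_LCI2
import Groth.Agent.Lib.Helper5.KosPermA
import Groth.Agent.Lib.Helper5.KosBCA

/-!
# Isomorphisms of Koszul complexes (mapping cone model): permutations, shears, redundant elements
-/

set_option autoImplicit false
universe u

open CategoryTheory CategoryTheory.Limits CochainComplex HomComplex

namespace Groth.Agent.Lib.Helper5.KosPerm

variable {R : Type u} [CommRing R]

/-- the Koszul complexes of two lists are isomorphic -/
def KIso (l l' : List R) : Prop := Nonempty (Koszul.koszul R l ≅ Koszul.koszul R l')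

namespace KIso

theorem refl (l : List R) : KIso l l := ⟨Iso.refl _⟩

theorem symm {l l' : List R} (h : KIso l l') : KIso l' l := ⟨h.some.symm⟩

theorem trans {l l' l'' : List R} (h : KIso l l') (h' : KIso l' l'') : KIso l l'' :=
  ⟨h.some ≪≫ h'.some⟩

theorem cons (x : R) {l l' : List R} (h : KIso l l') : KIso (x :: l) (x :: l') :=
  ⟨Groth.Agent.Lib.Helper5.KosBC.coneSmulIso x h.some⟩

theorem swap (x y : R) (l : List R) : KIso (x :: y :: l) (y :: x :: l) :=
  ⟨swapIso (Koszul.koszul R l) x y⟩

theorem perm {l l' : List R} (h : l.Perm l') : KIso l l' := by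
  induction h with
  | nil => exact refl _
  | cons x _ ih => exact ih.cons x
  | swap x y l => exact swap y x l
  | trans _ _ ih1 ih2 => exact ih1.trans ih2

theorem shear (x y c : R) (l : List R) : KIso ((x + c * y) :: y :: l) (x :: y :: l) :=
  ⟨shearIso (Koszul.koszul R l) x y c⟩

theorem add_mul_mem [DecidableEq R] (x c y : R) (l : List R) (hy : y ∈ l) :
    KIso ((x + c * y) :: l) (x :: l) := by
  have hp : l.Perm (y :: l.erase y) := List.perm_cons_erase hy
  exact ((perm hp).cons _).trans ((shear x y c _).trans ((perm hp.symm).cons x))

theorem add_mem_span (x z : R) (l : List R) (hz : z ∈ Ideal.ofList l) :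
    KIso ((x + z) :: l) (x :: l) := by
  classical
  have key : ∀ c x : R, KIso ((x + c * z) :: l) (x :: l) := by
    unfold Ideal.ofList at hz
    induction hz using Submodule.span_induction with
    | mem y hy => exact fun c x => add_mul_mem x c y l hy
    | zero =>
      intro c x
      rw [mul_zero, add_zero]
      exact refl _
    | add z1 z2 _ _ h1 h2 =>
      intro c x
      have : x + c * (z1 + z2) = (x + c * z1) + c * z2 := by ring
      rw [this]
      exact (h2 c (x + c * z1)).trans (h1 c x)
    | smul a z1 _ h1 =>
      intro c x
      have : x + c * (a • z1) = x + (c * a) * z1 := by rw [smul_eq_mul]; ring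
      rw [this]
      exact h1 (c * a) x
  have := key 1 x
  rwa [one_mul] at this

theorem zero_of_mem (z : R) (l : List R) (hz : z ∈ Ideal.ofList l) : KIso (z :: l) (0 :: l) := by
  have := add_mem_span 0 z l hz
  rwa [zero_add] at this

theorem ofList_le_append_right (p l : List R) : Ideal.ofList l ≤ Ideal.ofList (p ++ l) := by
  unfold Ideal.ofList
  apply Ideal.span_mono
  intro a ha
  exact List.mem_append_right p ha

theorem replicate_append (p l : List R) (hp : ∀ z ∈ p, z ∈ Ideal.ofList l) :
    KIso (p ++ l) (List.replicate p.length 0 ++ l) := by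
  induction p with
  | nil => exact refl _
  | cons z p ih =>
    have ih' := ih (fun w hw => hp w (List.mem_cons_of_mem _ hw))
    have hz : z ∈ Ideal.ofList (p ++ l) :=
      ofList_le_append_right p l (hp z List.mem_cons_self)
    exact (zero_of_mem z (p ++ l) hz).trans (ih'.cons 0)

end KIso

end Groth.Agent.Lib.Helper5.KosPerm
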