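import Mathlib
import Groth.Prelude.Def_LCI2
import Groth.Agent.Lib.Helper5.KosPermB
import Groth.Agent.Lib.Helper2.KosReg2
import Groth.Agent.Lib.Helper2.KosTor2
import Groth.Agent.Lib.Helper15.RelPC15

/-!
# Koszul-regularity does not depend on the generators (same length, same ideal)
-/

set_option autoImplicit false
universe u

open CategoryTheory CategoryTheory.Limits CochainComplex HomComplex

namespace Groth.Agent.Lib.Helper5.KosPerm

open Groth.Agent.Lib.Helper2.KosReg2

attribute [local instance] HasDerivedCategory.standard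

variable {R : Type u} [CommRing R]

section T0

variable (K : DRing.Cx R)

/-- the retraction of `inr` for the cone of the zero scalar -/
noncomputable def T0ret : T (0 : R) K ⟶ K :=
  mappingCone.desc ((0 : R) • 𝟙 K) 0 (𝟙 K) (by simp)

theorem inr_T0ret : mappingCone.inr ((0 : R) • 𝟙 K) ≫ T0ret K = 𝟙 K :=
  mappingCone.inr_desc _ _ _ _

theorem T0ret_Tinr (n : ℤ) :
    (HomologicalComplex.homologyMap (T0ret K) n).hom ∘ₗ Tinr (0 : R) K n = LinearMap.id := by
  unfold Tinr
  rw [← ModuleCat.hom_comp, ← HomologicalComplex.homologyMap_comp, inr_T0ret,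
    HomologicalComplex.homologyMap_id]
  rfl

theorem Tdel_surjective (n m : ℤ) (h : n + 1 = m) :
    Function.Surjective (Tdel (0 : R) K n m h) := by
  intro z
  exact (exact1 (0 : R) K n m h z).1 (zero_smul R z)

/-- the cohomology of the cone of the zero scalar -/
noncomputable def T0Equiv (n m : ℤ) (h : n + 1 = m) :
    (T (0 : R) K).homology n ≃ₗ[R] K.homology n × K.homology m :=
  ((exact3 (0 : R) K n m h).splitInjectiveEquiv (Tdel_surjective K n m h)
    ⟨(HomologicalComplex.homologyMap (T0ret K) n).hom, T0ret_Tinr K n⟩).1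

end T0

section graded

/-- shift-and-add on graded modules -/
def TT (h : ℤ → ModuleCat.{u} R) : ℤ → ModuleCat.{u} R :=
  fun n => ModuleCat.of R (h n × h (n + 1))

/-- iterated shift-and-add -/
def TTpow : ℕ → (ℤ → ModuleCat.{u} R) → (ℤ → ModuleCat.{u} R)
  | 0, h => h
  | s + 1, h => TT (TTpow s h)

theorem TTpow_congr (h h' : ℤ → ModuleCat.{u} R) (n : ℤ)
    (hh : ∀ j, n < j → Nonempty (h j ≃ₗ[R] h' j)) :
    ∀ (s : ℕ) (j : ℤ), n < j → Nonempty (TTpow s h j ≃ₗ[R] TTpow s h' j) := by
  intro s
  induction s with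
  | zero => exact hh
  | succ s ih =>
    intro j hj
    obtain ⟨e1⟩ := ih j hj
    obtain ⟨e2⟩ := ih (j + 1) (by omega)
    exact ⟨LinearEquiv.prodCongr e1 e2⟩

theorem TTpow_split (h h' : ℤ → ModuleCat.{u} R) (n : ℤ)
    (hh : ∀ j, n < j → Nonempty (h j ≃ₗ[R] h' j)) (h0 : Subsingleton (h' n)) :
    ∀ s : ℕ, Nonempty (TTpow s h n ≃ₗ[R] h n × TTpow s h' n) := by
  intro s
  induction s with
  | zero =>
    let _ : Unique (h' n) := uniqueOfSubsingleton 0
    exact ⟨(LinearEquiv.prodUnique (R := R) (M := h n) (M₂ := h' n)).symm⟩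
  | succ s ih =>
    obtain ⟨e1⟩ := ih
    obtain ⟨e2⟩ := TTpow_congr h h' n hh s (n + 1) (by omega)
    exact ⟨(LinearEquiv.prodCongr e1 e2).trans (LinearEquiv.prodAssoc R _ _ _)⟩

theorem TTpow_finite (h : ℤ → ModuleCat.{u} R) (hf : ∀ j, Module.Finite R (h j)) :
    ∀ (s : ℕ) (j : ℤ), Module.Finite R (TTpow s h j) := by
  intro s
  induction s with
  | zero => exact hf
  | succ s ih =>
    intro j
    have := ih j
    have := ih (j + 1)
    exact Module.Finite.prod

theorem subsingleton_of_prod_equiv {N F : Type u} [AddCommGroup N] [Module R N] [AddCommGroup F]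
    [Module R F] [Module.Finite R F] (e : (N × F) ≃ₗ[R] F) : Subsingleton N := by
  let π : F →ₗ[R] F := LinearMap.snd R N F ∘ₗ e.symm.toLinearMap
  have hs : Function.Surjective π := by
    intro z
    refine ⟨e (0, z), ?_⟩
    simp [π]
  have hi := OrzechProperty.injective_of_surjective_endomorphism π hs
  refine ⟨fun a b => ?_⟩
  have h1 : π (e (a, 0)) = π (e (b, 0)) := by simp [π]
  have h2 := e.injective (hi h1)
  exact (Prod.ext_iff.1 h2).1

end graded

/-- the cohomology of the Koszul complex with `s` zeros in front -/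
theorem homology_replicate (l : List R) :
    ∀ (s : ℕ) (n : ℤ), Nonempty ((Koszul.koszul R (List.replicate s 0 ++ l)).homology n ≃ₗ[R]
      TTpow s (fun j => (Koszul.koszul R l).homology j) n) := by
  intro s
  induction s with
  | zero => exact fun n => ⟨LinearEquiv.refl _ _⟩
  | succ s ih =>
    intro n
    obtain ⟨e1⟩ := ih n
    obtain ⟨e2⟩ := ih (n + 1)
    have e0 := T0Equiv (Koszul.koszul R (List.replicate s 0 ++ l)) n (n + 1) rfl
    exact ⟨e0.trans (LinearEquiv.prodCongr e1 e2)⟩

theorem KIso.homology {l l' : List R} (h : KIso l l') (n : ℤ) :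
    Nonempty ((Koszul.koszul R l).homology n ≃ₗ[R] (Koszul.koszul R l').homology n) := by
  obtain ⟨e⟩ := h
  exact ⟨((HomologicalComplex.homologyFunctor _ _ n).mapIso e).toLinearEquiv⟩

/-- **Koszul-regularity is independent of the generators**: a list with the same length and the
same ideal as a Koszul-regular list is Koszul-regular. -/
theorem isKoszulRegularSeq_of_length_eq (l a : List R) (hl : LCI.IsKoszulRegularSeq R l)
    (hlen : a.length = l.length) (hspan : Ideal.ofList a = Ideal.ofList l) :
    LCI.IsKoszulRegularSeq R a := by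
  classical
  set s := l.length with hs
  set ha : ℤ → ModuleCat.{u} R := fun j => (Koszul.koszul R a).homology j with hha
  set hL : ℤ → ModuleCat.{u} R := fun j => (Koszul.koszul R l).homology j with hhL
  -- comparison of the doubled complexes
  have k1 : KIso (a ++ l) (List.replicate s 0 ++ l) := by
    have := KIso.replicate_append a l (fun z hz => by
      rw [← hspan]; exact Ideal.subset_span hz)
    rwa [hlen] at this
  have k2 : KIso (l ++ a) (List.replicate s 0 ++ a) :=
    KIso.replicate_append l a (fun z hz => by rw [hspan]; exact Ideal.subset_span hz)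
  have k3 : KIso (List.replicate s 0 ++ a) (List.replicate s 0 ++ l) :=
    k2.symm.trans ((KIso.perm List.perm_append_comm).trans k1)
  have hT : ∀ n, Nonempty (TTpow s ha n ≃ₗ[R] TTpow s hL n) := by
    intro n
    obtain ⟨e1⟩ := homology_replicate a s n
    obtain ⟨e2⟩ := homology_replicate l s n
    obtain ⟨e3⟩ := k3.homology n
    exact ⟨e1.symm.trans (e3.trans e2)⟩
  -- basic facts
  have hLneg : ∀ j : ℤ, j ≠ 0 → Subsingleton (hL j) := fun j hj =>
    ModuleCat.subsingleton_of_isZero (hl j hj)
  have hapos : ∀ j : ℤ, 0 < j → Subsingleton (ha j) := fun j hj =>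
    ModuleCat.subsingleton_of_isZero (ShortComplex.isZero_homology_of_isZero_X₂ _
      (Groth.Agent.Lib.Helper2.KosTor2.isZero_koszul_X a j hj))
  obtain ⟨ea⟩ := Groth.Agent.Lib.Helper15.RelPC15.homology_zero_koszul a
  obtain ⟨eL⟩ := Groth.Agent.Lib.Helper15.RelPC15.homology_zero_koszul l
  have e0 : ha 0 ≃ₗ[R] hL 0 :=
    ea.toLinearEquiv.trans ((Submodule.quotEquivOfEq _ _ hspan).trans eL.toLinearEquiv.symm)
  have hLfin : ∀ j, Module.Finite R (hL j) := by
    intro j
    by_cases hj : j = 0
    · subst hj
      exact Module.Finite.equiv eL.toLinearEquiv.symm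
    · have := hLneg j hj
      infer_instance
  have key : ∀ m : ℕ, ∀ j : ℤ, -(m : ℤ) ≤ j → j < 0 → Subsingleton (ha j) := by
    intro m
    induction m with
    | zero => intro j h1 h2; exfalso; simp at h1; omega
    | succ m ih =>
      intro j h1 h2
      by_cases hjm : -(m : ℤ) ≤ j
      · exact ih j hjm h2
      · have hj : j = -((m : ℤ) + 1) := by push_cast at h1; omega
        have hcomp : ∀ j', j < j' → Nonempty (ha j' ≃ₗ[R] hL j') := by
          intro j' hj'
          rcases lt_trichotomy j' 0 with h | h | h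
          · have := ih j' (by omega) h
            have := hLneg j' (by omega)
            exact ⟨LinearEquiv.ofSubsingleton _ _⟩
          · subst h
            exact ⟨e0⟩
          · have := hapos j' h
            have := hLneg j' (by omega)
            exact ⟨LinearEquiv.ofSubsingleton _ _⟩
        obtain ⟨e1⟩ := TTpow_split ha hL j hcomp (hLneg j (by omega)) s
        obtain ⟨e2⟩ := hT j
        have := TTpow_finite hL hLfin s j
        exact subsingleton_of_prod_equiv (e1.symm.trans e2)
  intro i hi
  rcases lt_or_gt_of_ne hi with hneg | hpos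
  · have := key i.natAbs i (by omega) hneg
    exact ModuleCat.isZero_of_subsingleton _
  · exact ShortComplex.isZero_homology_of_isZero_X₂ _
      (Groth.Agent.Lib.Helper2.KosTor2.isZero_koszul_X a i hpos)

end Groth.Agent.Lib.Helper5.KosPerm
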