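import Mathlib
import Groth.Prelude.Def_LCI2
import Groth.Agent.Lib.Helper5.KosPermC
import Groth.Agent.Lib.Helper5.KosLow

/-!
# Lengths of Koszul-regular generating sequences
-/

set_option autoImplicit false
universe u

open CategoryTheory CategoryTheory.Limits

namespace Groth.Agent.Lib.Helper5.KosPerm

variable {R : Type u} [CommRing R]

theorem ofList_eq_span_range_get (l : List R) :
    Ideal.ofList l = Ideal.span (Set.range l.get) := by
  unfold Ideal.ofList
  congr 1
  ext x
  simp [List.mem_iff_get]

/-- a Koszul-regular generating sequence of a proper ideal has minimal length -/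
theorem length_le_of_isKoszulRegularSeq (f h : List R) (hf : LCI.IsKoszulRegularSeq R f)
    (hne : Ideal.ofList f ≠ ⊤) (hh : Ideal.ofList h = Ideal.ofList f) :
    f.length ≤ h.length := by
  have h1 : IsZero ((Koszul.koszul R (List.ofFn f.get)).homology (-1)) := by
    rw [List.ofFn_get]
    exact hf (-1) (by norm_num)
  obtain ⟨b, -⟩ := KosLow.exists_basis_cotangent f.length f.get h1
  set I := Ideal.span (Set.range f.get) with hI
  have hIf : Ideal.ofList f = I := ofList_eq_span_range_get f
  have hne' : I ≠ ⊤ := hIf ▸ hne
  have : Nontrivial (R ⧸ I) := Ideal.Quotient.nontrivial_iff.2 hne'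
  have hmem : ∀ j : Fin h.length, h.get j ∈ I := by
    intro j
    rw [← hIf, ← hh, ofList_eq_span_range_get h]
    exact Ideal.subset_span (Set.mem_range_self j)
  let v : Fin h.length → I.Cotangent := fun j => I.toCotangent ⟨h.get j, hmem j⟩
  have hsmul : ∀ (c : R) (m : I.Cotangent), (Ideal.Quotient.mk I c) • m = c • m := fun c m =>
    algebraMap_smul (R ⧸ I) c m
  have hsp : Submodule.span (R ⧸ I) (Set.range v) = ⊤ := by
    rw [eq_top_iff]
    intro m _
    obtain ⟨x, rfl⟩ := Ideal.toCotangent_surjective I m
    have hx : (x : R) ∈ Ideal.span (Set.range h.get) := by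
      rw [← ofList_eq_span_range_get h, hh, hIf]
      exact x.2
    obtain ⟨t, ht⟩ := (Ideal.mem_span_range_iff_exists_fun).1 hx
    have hx' : x = ∑ j, t j • (⟨h.get j, hmem j⟩ : I) := by
      apply Subtype.ext
      rw [AddSubmonoidClass.coe_finsetSum, ← ht]
      rfl
    rw [hx', map_sum]
    refine Submodule.sum_mem _ (fun j _ => ?_)
    rw [map_smul, ← hsmul]
    exact Submodule.smul_mem _ _ (Submodule.subset_span (Set.mem_range_self j))
  have h2 : Module.finrank (R ⧸ I) I.Cotangent = f.length := by
    rw [Module.finrank_eq_card_basis b, Fintype.card_fin]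
  have h3 := finrank_range_le_card (R := R ⧸ I) v
  unfold Set.finrank at h3
  rw [hsp, finrank_top, h2, Fintype.card_fin] at h3
  exact h3

/-- two Koszul-regular sequences generating the same proper ideal have the same length -/
theorem length_eq_of_isKoszulRegularSeq (f h : List R) (hf : LCI.IsKoszulRegularSeq R f)
    (hh' : LCI.IsKoszulRegularSeq R h)
    (hne : Ideal.ofList f ≠ ⊤) (hh : Ideal.ofList h = Ideal.ofList f) :
    f.length = h.length :=
  le_antisymm (length_le_of_isKoszulRegularSeq f h hf hne hh)
    (length_le_of_isKoszulRegularSeq h f hh' (hh ▸ hne) hh.symm)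

end Groth.Agent.Lib.Helper5.KosPerm
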