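import Mathlib
import Groth.Prelude.Def_LCI2
import Groth.Agent.Lib.Helper5.KosPermD
import Groth.Agent.Lib.Helper5.KosBCB
import Groth.Agent.Lib.Helper16.Kos1
import Groth.Agent.Lib.Helper26.CauchyBinetOrd

/-!
# Koszul-regular sequences: unit ideal, local-global principle, extraction of generators
-/

set_option autoImplicit false
universe u

open CategoryTheory CategoryTheory.Limits CochainComplex HomComplex

namespace Groth.Agent.Lib.Helper5.KosDesc

open Groth.Agent.Lib.Helper5.KosBC

section unit

variable {A : Type u} [CommRing A]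

theorem smul_homotopic_zero (xs : List A) :
    ∀ (a : A), a ∈ Ideal.span {x | x ∈ xs} →
      Nonempty (Homotopy (a • 𝟙 (Koszul.koszul A xs)) 0) := by
  induction xs with
  | nil =>
    intro a ha
    have h0 : a = 0 := by simpa using ha
    subst h0
    exact ⟨Homotopy.ofEq (zero_smul _ _)⟩
  | cons x xs ih =>
    intro a ha
    have hset : {y | y ∈ x :: xs} = insert x {y | y ∈ xs} := by
      ext y; simp
    rw [hset, Ideal.mem_span_insert] at ha
    obtain ⟨c, z, hz, rfl⟩ := ha
    obtain ⟨H⟩ := ih z hz
    have e : (c * x + z) • 𝟙 (Koszul.koszul A (x :: xs)) =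
        c • (x • 𝟙 (Koszul.koszul A (x :: xs))) + z • 𝟙 (Koszul.koszul A (x :: xs)) := by
      rw [add_smul, mul_smul]
    rw [e]
    have h1 : Homotopy (x • 𝟙 (Koszul.koszul A (x :: xs))) 0 :=
      Groth.Agent.Lib.Helper16.Kos.homotopyHead (Koszul.koszul A xs) x
    have h2 : Homotopy (z • 𝟙 (Koszul.koszul A (x :: xs))) 0 :=
      Groth.Agent.Lib.Helper16.Kos.homotopyTail (Koszul.koszul A xs) x z H
    exact ⟨((h1.smul c).add h2).trans (Homotopy.ofEq (by simp))⟩

/-- a list generating the unit ideal is Koszul-regular (its Koszul complex is acyclic) -/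
theorem isKoszulRegularSeq_of_ofList_eq_top (l : List A) (h : Ideal.ofList l = ⊤) :
    LCI.IsKoszulRegularSeq A l := by
  intro n _
  obtain ⟨H⟩ := smul_homotopic_zero l 1 (by
    unfold Ideal.ofList at h
    rw [h]; trivial)
  rw [one_smul] at H
  rw [IsZero.iff_id_eq_zero, ← HomologicalComplex.homologyMap_id, H.homologyMap_eq n,
    HomologicalComplex.homologyMap_zero]

end unit

section localGlobal

variable {A : Type u} [CommRing A]

open TensorProduct in
/-- a module all of whose base changes to the localizations at maximal ideals vanish is zero -/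
theorem isZero_of_forall_maximal (M : ModuleCat.{u} A)
    (h : ∀ (P : Ideal A) [P.IsMaximal],
      IsZero ((E (algebraMap A (Localization.AtPrime P))).obj M)) : IsZero M := by
  have key : ∀ (P : Ideal A) [P.IsMaximal], Subsingleton ((Localization.AtPrime P) ⊗[A] M) := by
    intro P _
    have h1 : Subsingleton ((E (algebraMap A (Localization.AtPrime P))).obj M) :=
      ModuleCat.subsingleton_of_isZero (h P)
    let bEquiv : Localization.AtPrime P ≃ₗ[A]
        ((ModuleCat.restrictScalars.{u} (algebraMap A (Localization.AtPrime P))).obj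
          (ModuleCat.of (Localization.AtPrime P) (Localization.AtPrime P))) :=
      { toFun := fun x => x
        invFun := fun x => x
        left_inv := fun _ => rfl
        right_inv := fun _ => rfl
        map_add' := fun _ _ => rfl
        map_smul' := fun a x => Algebra.smul_def a x }
    have h1' : Subsingleton
        (((ModuleCat.restrictScalars.{u} (algebraMap A (Localization.AtPrime P))).obj
          (ModuleCat.of (Localization.AtPrime P) (Localization.AtPrime P))) ⊗[A] M) := h1
    exact (TensorProduct.congr bEquiv (LinearEquiv.refl A M)).toEquiv.subsingleton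
  have : Subsingleton M :=
    Module.subsingleton_of_localization_maximal
      (fun P _ => (Localization.AtPrime P) ⊗[A] M)
      (fun P _ => TensorProduct.mk A (Localization.AtPrime P) M 1) (fun P _ => key P)
  exact ModuleCat.isZero_of_subsingleton M

/-- Koszul-regularity can be checked at the localizations at maximal ideals -/
theorem isKoszulRegularSeq_of_forall_maximal (l : List A)
    (h : ∀ (P : Ideal A) [P.IsMaximal], LCI.IsKoszulRegularSeq (Localization.AtPrime P)
      (l.map (algebraMap A (Localization.AtPrime P)))) : LCI.IsKoszulRegularSeq A l := by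
  intro i hi
  apply isZero_of_forall_maximal
  intro P _
  have hflat : (algebraMap A (Localization.AtPrime P)).Flat := by
    rw [RingHom.flat_algebraMap_iff]
    exact IsLocalization.flat _ P.primeCompl
  exact IsZero.of_iso (h P i hi) (koszulHomologyIso _ hflat l i).symm

theorem isKoszulRegularSeq_ringEquiv {B : Type u} [CommRing B] (e : A ≃+* B) (l : List A)
    (hl : LCI.IsKoszulRegularSeq A l) : LCI.IsKoszulRegularSeq B (l.map e) :=
  isKoszulRegularSeq_map (e : A →+* B) (RingHom.Flat.of_bijective e.bijective) l hl

end localGlobal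

section Local

variable {R : Type u} [CommRing R]

/-- in a local ring, from any finite generating family of a proper ideal generated by `γ`, all of
whose relations have coefficients in the ideal, one can extract a generating subfamily of the
same size as `γ`. -/
theorem exists_sub_of_rel [IsLocalRing R] {s m : ℕ} (γ : Fin s → R)
    (hrel : ∀ c : Fin s → R, ∑ k, c k * γ k = 0 → ∀ k, c k ∈ Ideal.span (Set.range γ))
    (hL : Ideal.span (Set.range γ) ≤ IsLocalRing.maximalIdeal R)
    (b : Fin m → R) (hb : Ideal.span (Set.range b) = Ideal.span (Set.range γ)) :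
    ∃ e : Fin s → Fin m, Ideal.span (Set.range (b ∘ e)) = Ideal.span (Set.range γ) := by
  classical
  have hM : ∀ i, ∃ c : Fin s → R, ∑ j, c j * γ j = b i := fun i => by
    have : b i ∈ Ideal.span (Set.range γ) := hb ▸ Ideal.subset_span ⟨i, rfl⟩
    exact (Ideal.mem_span_range_iff_exists_fun).mp this
  have hN : ∀ j, ∃ c : Fin m → R, ∑ i, c i * b i = γ j := fun j => by
    have : γ j ∈ Ideal.span (Set.range b) := hb.symm ▸ Ideal.subset_span ⟨j, rfl⟩
    exact (Ideal.mem_span_range_iff_exists_fun).mp this
  choose M hM using hM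
  choose N hN using hN
  let MM : Matrix (Fin m) (Fin s) R := Matrix.of M
  let NN : Matrix (Fin s) (Fin m) R := Matrix.of N
  have hent : ∀ j k, (NN * MM - 1 : Matrix (Fin s) (Fin s) R) j k ∈ Ideal.span (Set.range γ) := by
    intro j
    apply hrel
    simp only [Matrix.sub_apply, Matrix.mul_apply, sub_mul, Finset.sum_sub_distrib, NN, MM,
      Matrix.of_apply]
    rw [sub_eq_zero]
    have h1 : ∑ k, (∑ i, N j i * M i k) * γ k = γ j := by
      simp_rw [Finset.sum_mul]
      rw [Finset.sum_comm]
      conv_rhs => rw [← hN j]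
      refine Finset.sum_congr rfl fun i _ => ?_
      rw [← hM i, Finset.mul_sum]
      refine Finset.sum_congr rfl fun k _ => ?_
      ring
    rw [h1]
    simp [Matrix.one_apply]
  have hdet : (NN * MM).det - 1 ∈ Ideal.span (Set.range γ) := by
    rw [← Ideal.Quotient.eq_zero_iff_mem, map_sub, map_one, sub_eq_zero, RingHom.map_det]
    have : (Ideal.Quotient.mk (Ideal.span (Set.range γ))).mapMatrix (NN * MM) = 1 := by
      ext j k
      have := hent j k
      rw [← Ideal.Quotient.eq_zero_iff_mem] at this
      simp only [Matrix.sub_apply, map_sub, sub_eq_zero] at this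
      simp only [RingHom.mapMatrix_apply, Matrix.map_apply, this, Matrix.one_apply]
      split_ifs <;> simp
    rw [this, Matrix.det_one]
  have hunit : IsUnit (NN * MM).det := by
    rw [← IsLocalRing.notMem_maximalIdeal]
    intro hmem
    have h1 : (1 : R) ∈ IsLocalRing.maximalIdeal R := by
      have := Ideal.sub_mem _ hmem (hL hdet)
      simp at this
    exact (Ideal.ne_top_iff_one _).1 (IsLocalRing.maximalIdeal.isMaximal R).ne_top h1
  rw [Groth.Agent.Lib.Helper26.CauchyBinetOrd.cb_ord] at hunit
  obtain ⟨S, hS⟩ : ∃ S : {t : Finset (Fin m) // t.card = s},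
      IsUnit ((NN.submatrix id (S.1.orderEmbOfFin S.2)).det *
        (MM.submatrix (S.1.orderEmbOfFin S.2) id).det) := by
    by_contra hcon
    push Not at hcon
    rw [← IsLocalRing.notMem_maximalIdeal] at hunit
    apply hunit
    refine Ideal.sum_mem _ fun S _ => ?_
    exact (IsLocalRing.mem_maximalIdeal _).2 (hcon S)
  have hMS : IsUnit (MM.submatrix (S.1.orderEmbOfFin S.2) id).det := isUnit_of_mul_isUnit_right hS
  set e : Fin s → Fin m := fun i => S.1.orderEmbOfFin S.2 i with he
  set MS : Matrix (Fin s) (Fin s) R := MM.submatrix e id with hMSdef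
  have hbe : ∀ i, (b ∘ e) i = ∑ j, MS i j * γ j := fun i => by
    simp only [Function.comp_apply, MS, MM, Matrix.submatrix_apply, Matrix.of_apply, id]
    exact (hM (e i)).symm
  have hinv : MS⁻¹ * MS = 1 := Matrix.nonsing_inv_mul _ hMS
  have hγe : ∀ j, γ j = ∑ i, MS⁻¹ j i * (b ∘ e) i := fun j => by
    simp_rw [hbe, Finset.mul_sum]
    rw [Finset.sum_comm]
    have : ∀ k, ∑ i, MS⁻¹ j i * (MS i k * γ k) = (MS⁻¹ * MS) j k * γ k := fun k => by
      rw [Matrix.mul_apply, Finset.sum_mul]
      refine Finset.sum_congr rfl fun i _ => ?_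
      ring
    simp_rw [this, hinv, Matrix.one_apply]
    simp
  refine ⟨e, ?_⟩
  apply le_antisymm
  · rw [Ideal.span_le]
    rintro _ ⟨i, rfl⟩
    rw [hbe]
    exact Ideal.sum_mem _ fun j _ => Ideal.mul_mem_left _ _ (Ideal.subset_span ⟨j, rfl⟩)
  · rw [Ideal.span_le]
    rintro _ ⟨j, rfl⟩
    rw [hγe]
    exact Ideal.sum_mem _ fun i _ => Ideal.mul_mem_left _ _ (Ideal.subset_span ⟨i, rfl⟩)

end Local

end Groth.Agent.Lib.Helper5.KosDesc
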