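import Mathlib
import Groth.Prelude.Def_LCI2
import Groth.Agent.Lib.Helper5.KosDescA
import Groth.Agent.S9252

/-!
# Descent of Koszul-regular ideals along faithfully flat ring maps
-/

set_option autoImplicit false
universe u

open CategoryTheory CategoryTheory.Limits

namespace Groth.Agent.Lib.Helper5.KosDesc

open Groth.Agent.Lib.Helper5.KosBC Groth.Agent.Lib.Helper5.KosPerm
open Groth.Agent.Lib.Helper21.QRDescent

variable {A B : Type u} [CommRing A] [CommRing B] [Algebra A B]

theorem setOf_mem_ofFn {T : Type u} {s : ℕ} (v : Fin s → T) :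
    {x | x ∈ List.ofFn v} = Set.range v := by
  ext x
  simp [List.mem_ofFn]

theorem ofList_ofFn {T : Type u} [CommRing T] {s : ℕ} (v : Fin s → T) :
    Ideal.ofList (List.ofFn v) = Ideal.span (Set.range v) := by
  unfold Ideal.ofList
  rw [setOf_mem_ofFn]

theorem map_ofFn_algebraMap {T T' : Type u} [CommRing T] [CommRing T'] [Algebra A T] [Algebra A T']
    (φ : T →+* T') (hφ : ∀ x : A, φ (algebraMap A T x) = algebraMap A T' x) {s : ℕ}
    (a : Fin s → A) :
    (List.ofFn (algebraMap A T ∘ a)).map φ = List.ofFn (algebraMap A T' ∘ a) := by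
  rw [List.map_ofFn]
  congr 1
  funext i
  exact hφ (a i)

theorem flat_lift (g : B) (Q : Ideal B) [Q.IsPrime] (hg : g ∉ Q)
    (hu : IsUnit (algebraMap B (Localization.AtPrime Q) g)) :
    (IsLocalization.Away.lift (S := Localization.Away g) g hu :
      Localization.Away g →+* Localization.AtPrime Q).Flat := by
  let φ : Localization.Away g →+* Localization.AtPrime Q := IsLocalization.Away.lift g hu
  let _ : Algebra (Localization.Away g) (Localization.AtPrime Q) := φ.toAlgebra
  have : IsScalarTower B (Localization.Away g) (Localization.AtPrime Q) :=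
    IsScalarTower.of_algebraMap_eq fun x => (IsLocalization.Away.lift_eq g hu x).symm
  have hle : Submonoid.powers g ≤ Q.primeCompl := by
    rintro _ ⟨n, rfl⟩
    exact fun h => hg (Ideal.IsPrime.mem_of_pow_mem inferInstance n h)
  have : IsLocalization ((Q.primeCompl).map (algebraMap B (Localization.Away g)))
      (Localization.AtPrime Q) :=
    IsLocalization.isLocalization_of_submonoid_le (Localization.Away g) (Localization.AtPrime Q)
      (Submonoid.powers g) Q.primeCompl hle
  have h1 : Module.Flat (Localization.Away g) (Localization.AtPrime Q) :=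
    IsLocalization.flat _ ((Q.primeCompl).map (algebraMap B (Localization.Away g)))
  exact h1

/-- push a Koszul-regular generating sequence from `B_g` to `B_Q`. -/
theorem kr_atPrime_of_away (J : Ideal B) (g : B) (l : List (Localization.Away g))
    (hl : LCI.IsKoszulRegularSeq (Localization.Away g) l)
    (hspan : J.map (algebraMap B (Localization.Away g)) = Ideal.span {x | x ∈ l})
    (Q : Ideal B) [Q.IsPrime] (hg : g ∉ Q) :
    ∃ l' : List (Localization.AtPrime Q), LCI.IsKoszulRegularSeq (Localization.AtPrime Q) l' ∧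
      l'.length = l.length ∧
      Ideal.ofList l' = J.map (algebraMap B (Localization.AtPrime Q)) := by
  have hu : IsUnit (algebraMap B (Localization.AtPrime Q) g) :=
    IsLocalization.map_units _ (⟨g, hg⟩ : Q.primeCompl)
  have hflat := flat_lift g Q hg hu
  refine ⟨l.map (IsLocalization.Away.lift (S := Localization.Away g) g hu),
    isKoszulRegularSeq_map _ hflat l hl, List.length_map _, ?_⟩
  have h3 : (IsLocalization.Away.lift (S := Localization.Away g) g hu).comp
      (algebraMap B (Localization.Away g)) = algebraMap B (Localization.AtPrime Q) :=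
    IsLocalization.Away.lift_comp g hu
  have h1 : Ideal.ofList l = J.map (algebraMap B (Localization.Away g)) := hspan.symm
  have h2 := (Ideal.map_ofList (IsLocalization.Away.lift (S := Localization.Away g) g hu) l).symm
  rw [h2, h1, Ideal.map_map, h3]

theorem fg_of_koszulRegularIdeal (J : Ideal B) (h : LCI.IsKoszulRegularIdeal J) : J.FG := by
  classical
  let t : Set B := {g | (J.map (algebraMap B (Localization.Away g))).FG}
  apply Ideal.fg_of_localizationSpan t ?_ (fun g => g.2)
  by_contra hne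
  obtain ⟨Q, hQmax, hQ⟩ := Ideal.exists_le_maximal _ hne
  have := hQmax.isPrime
  by_cases hJQ : J ≤ Q
  · obtain ⟨g, hg, l, -, hspan⟩ := h ⟨Q, inferInstance⟩ hJQ
    apply hg
    apply hQ
    apply Ideal.subset_span
    show (J.map _).FG
    rw [hspan]
    exact ⟨l.toFinset, by simp⟩
  · obtain ⟨g, hgJ, hgQ⟩ := Set.not_subset.1 hJQ
    apply hgQ
    apply hQ
    apply Ideal.subset_span
    show (J.map _).FG
    have : J.map (algebraMap B (Localization.Away g)) = ⊤ := by
      apply Ideal.eq_top_of_isUnit_mem _ (Ideal.mem_map_of_mem _ hgJ)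
      exact IsLocalization.Away.algebraMap_isUnit g
    rw [this]
    exact ⟨{1}, by simp⟩

theorem isOpen_W (I : Ideal A)
    (hB : LCI.IsKoszulRegularIdeal (I.map (algebraMap A B)))
    {s : ℕ} (a : Fin s → A) (ha : ∀ i, a i ∈ I) (h0 : A)
    (hgen : ∀ x ∈ I, h0 * x ∈ Ideal.span (Set.range a)) :
    IsOpen {Q' : PrimeSpectrum B | algebraMap A B h0 ∉ Q'.asIdeal ∧
      LCI.IsKoszulRegularSeq (Localization.AtPrime Q'.asIdeal)
        (List.ofFn (algebraMap A (Localization.AtPrime Q'.asIdeal) ∘ a))} := by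
  have hsp : ∀ (Q : Ideal B) [Q.IsPrime], algebraMap A B h0 ∉ Q →
      Ideal.ofList (List.ofFn (algebraMap A (Localization.AtPrime Q) ∘ a)) =
        (I.map (algebraMap A B)).map (algebraMap B (Localization.AtPrime Q)) := by
    intro Q _ hQ
    rw [ofList_ofFn, Groth.Agent.S9252.span_eq_map_of_isUnit I a ha h0 hgen (Localization.AtPrime Q),
      Ideal.map_map, ← IsScalarTower.algebraMap_eq]
    rw [IsScalarTower.algebraMap_apply A B (Localization.AtPrime Q)]
    exact IsLocalization.map_units _ (⟨_, hQ⟩ : Q.primeCompl)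
  rw [isOpen_iff_forall_mem_open]
  rintro Q' ⟨hh0, hkr⟩
  by_cases hJQ : I.map (algebraMap A B) ≤ Q'.asIdeal
  · obtain ⟨g, hg, l, hl, hspan⟩ := hB Q' hJQ
    obtain ⟨l', hl', hlen', hspan'⟩ := kr_atPrime_of_away _ g l hl hspan Q'.asIdeal hg
    have hne : Ideal.ofList l' ≠ ⊤ := by
      rw [hspan']
      intro htop
      have h1 : (I.map (algebraMap A B)).map (algebraMap B (Localization.AtPrime Q'.asIdeal)) ≤
          IsLocalRing.maximalIdeal (Localization.AtPrime Q'.asIdeal) := by
        rw [← Localization.AtPrime.map_eq_maximalIdeal]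
        exact Ideal.map_mono hJQ
      rw [htop] at h1
      exact (IsLocalRing.maximalIdeal.isMaximal _).ne_top (top_le_iff.1 h1)
    have hss : l.length = s := by
      rw [← hlen', length_eq_of_isKoszulRegularSeq l' _ hl' hkr hne (by rw [hsp _ hh0, hspan'])]
      exact List.length_ofFn
    refine ⟨(PrimeSpectrum.basicOpen (g * algebraMap A B h0) : Set (PrimeSpectrum B)), ?_,
      (PrimeSpectrum.basicOpen _).2, ?_⟩
    · intro Q'' hQ''
      have hQ''2 : g * algebraMap A B h0 ∉ Q''.asIdeal := hQ''
      have hg'' : g ∉ Q''.asIdeal := fun h => hQ''2 (Ideal.mul_mem_right _ _ h)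
      have hh'' : algebraMap A B h0 ∉ Q''.asIdeal := fun h => hQ''2 (Ideal.mul_mem_left _ _ h)
      refine ⟨hh'', ?_⟩
      obtain ⟨l'', hl'', hlen'', hspan''⟩ := kr_atPrime_of_away _ g l hl hspan Q''.asIdeal hg''
      apply isKoszulRegularSeq_of_length_eq l'' _ hl''
      · rw [List.length_ofFn, hlen'', hss]
      · rw [hsp _ hh'', hspan'']
    · show g * algebraMap A B h0 ∉ Q'.asIdeal
      exact fun h => (Ideal.IsPrime.mem_or_mem Q'.2 h).elim hg hh0
  · obtain ⟨g, hgJ, hgQ⟩ := Set.not_subset.1 hJQ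
    refine ⟨(PrimeSpectrum.basicOpen (g * algebraMap A B h0) : Set (PrimeSpectrum B)), ?_,
      (PrimeSpectrum.basicOpen _).2, ?_⟩
    · intro Q'' hQ''
      have hQ''2 : g * algebraMap A B h0 ∉ Q''.asIdeal := hQ''
      have hg'' : g ∉ Q''.asIdeal := fun h => hQ''2 (Ideal.mul_mem_right _ _ h)
      have hh'' : algebraMap A B h0 ∉ Q''.asIdeal := fun h => hQ''2 (Ideal.mul_mem_left _ _ h)
      refine ⟨hh'', isKoszulRegularSeq_of_ofList_eq_top _ ?_⟩
      rw [hsp _ hh'']
      apply Ideal.eq_top_of_isUnit_mem _ (Ideal.mem_map_of_mem _ hgJ)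
      exact IsLocalization.map_units _ (⟨g, hg''⟩ : Q''.asIdeal.primeCompl)
    · show g * algebraMap A B h0 ∉ Q'.asIdeal
      exact fun h => (Ideal.IsPrime.mem_or_mem Q'.2 h).elim hgQ hh0

section
attribute [local instance] Localization.AtPrime.algebraOfLiesOver

theorem kr_atPrime_iff [Module.Flat A B] {s : ℕ} (a : Fin s → A) (P' : Ideal A) [P'.IsPrime]
    (Q' : Ideal B) [Q'.IsPrime] [Q'.LiesOver P'] :
    LCI.IsKoszulRegularSeq (Localization.AtPrime Q')
        (List.ofFn (algebraMap A (Localization.AtPrime Q') ∘ a)) ↔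
      LCI.IsKoszulRegularSeq (Localization.AtPrime P')
        (List.ofFn (algebraMap A (Localization.AtPrime P') ∘ a)) := by
  have hff : Module.FaithfullyFlat (Localization.AtPrime P') (Localization.AtPrime Q') :=
    Module.FaithfullyFlat.of_flat_of_isLocalHom
  have hff' : (algebraMap (Localization.AtPrime P') (Localization.AtPrime Q')).FaithfullyFlat :=
    RingHom.faithfullyFlat_algebraMap_iff.2 hff
  have hcomp := map_ofFn_algebraMap (A := A)
    (algebraMap (Localization.AtPrime P') (Localization.AtPrime Q'))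
    (fun x => (IsScalarTower.algebraMap_apply A (Localization.AtPrime P')
      (Localization.AtPrime Q') x).symm) a
  rw [← hcomp]
  constructor
  · exact isKoszulRegularSeq_of_map _ hff' _
  · exact isKoszulRegularSeq_map _ hff'.flat _

end

theorem isOpen_U [Module.FaithfullyFlat A B] (I : Ideal A)
    (hB : LCI.IsKoszulRegularIdeal (I.map (algebraMap A B)))
    {s : ℕ} (a : Fin s → A) (ha : ∀ i, a i ∈ I) (h0 : A)
    (hgen : ∀ x ∈ I, h0 * x ∈ Ideal.span (Set.range a)) :
    IsOpen {P' : PrimeSpectrum A | h0 ∉ P'.asIdeal ∧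
      LCI.IsKoszulRegularSeq (Localization.AtPrime P'.asIdeal)
        (List.ofFn (algebraMap A (Localization.AtPrime P'.asIdeal) ∘ a))} := by
  have hq : Topology.IsQuotientMap (PrimeSpectrum.comap (algebraMap A B)) :=
    PrimeSpectrum.isQuotientMap_of_generalizingMap
      PrimeSpectrum.comap_surjective_of_faithfullyFlat
      (RingHom.Flat.generalizingMap_comap (f := algebraMap A B)
        (by rw [RingHom.flat_algebraMap_iff]; infer_instance))
  rw [← hq.isOpen_preimage]
  convert isOpen_W (B := B) I hB a ha h0 hgen using 1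
  ext Q'
  simp only [Set.mem_preimage, Set.mem_ofPred_eq]
  have : Q'.asIdeal.LiesOver (Q'.asIdeal.comap (algebraMap A B)) := ⟨rfl⟩
  exact and_congr Iff.rfl (kr_atPrime_iff a (Q'.asIdeal.comap (algebraMap A B)) Q'.asIdeal).symm

/-- Koszul-regularity in `A_g` from Koszul-regularity at all primes of `D(g)`. -/
theorem kr_away_of_forall {s : ℕ} (a : Fin s → A) (g : A)
    (h : ∀ (P' : Ideal A) [P'.IsPrime], g ∉ P' →
      LCI.IsKoszulRegularSeq (Localization.AtPrime P')
        (List.ofFn (algebraMap A (Localization.AtPrime P') ∘ a))) :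
    LCI.IsKoszulRegularSeq (Localization.Away g)
      (List.ofFn (algebraMap A (Localization.Away g) ∘ a)) := by
  apply isKoszulRegularSeq_of_forall_maximal
  intro mm hmm
  set T := Localization.Away g
  let P' : Ideal A := mm.comap (algebraMap A T)
  have : P'.IsPrime := Ideal.comap_isPrime _ _
  have hg : g ∉ P' := by
    intro hmem
    have hu : IsUnit (algebraMap A T g) := IsLocalization.Away.algebraMap_isUnit g
    exact (Ideal.IsPrime.ne_top inferInstance) (mm.eq_top_of_isUnit_mem hmem hu)
  have : IsLocalization.AtPrime (Localization.AtPrime mm) P' :=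
    IsLocalization.isLocalization_isLocalization_atPrime_isLocalization (Submonoid.powers g)
      (Localization.AtPrime mm) mm
  let e : Localization.AtPrime P' ≃ₐ[A] Localization.AtPrime mm :=
    IsLocalization.algEquiv P'.primeCompl _ _
  have h1 := isKoszulRegularSeq_ringEquiv e.toRingEquiv _ (h P' hg)
  have h2 := map_ofFn_algebraMap (A := A) (T := Localization.AtPrime P')
    (T' := Localization.AtPrime mm) (e.toRingEquiv : Localization.AtPrime P' →+* _)
    (fun x => e.commutes x) a
  have h3 := map_ofFn_algebraMap (A := A) (T := T)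
    (T' := Localization.AtPrime mm) (algebraMap T (Localization.AtPrime mm))
    (fun x => (IsScalarTower.algebraMap_apply A T (Localization.AtPrime mm) x).symm) a
  rw [h3, ← h2]
  exact h1

/-- **Descent of Koszul-regular ideals along faithfully flat ring maps.** -/
theorem isKoszulRegularIdeal_of_faithfullyFlat [Module.FaithfullyFlat A B] (I : Ideal A)
    (h : LCI.IsKoszulRegularIdeal (Ideal.map (algebraMap A B) I)) :
    LCI.IsKoszulRegularIdeal I := by
  classical
  rintro ⟨P, hPprime⟩ hIP
  have hIP : I ≤ P := hIP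
  have hIfg : I.FG := Ideal.FG.of_FG_map_of_faithfullyFlat (fg_of_koszulRegularIdeal _ h)
  obtain ⟨m, b, hb⟩ : ∃ (m : ℕ) (b : Fin m → A), Ideal.span (Set.range b) = I := by
    obtain ⟨t, ht⟩ := hIfg
    refine ⟨t.card, fun i => (t.equivFin.symm i : A), ?_⟩
    rw [← ht]
    congr 1
    ext x
    simp only [Set.mem_range, Finset.mem_coe]
    constructor
    · rintro ⟨i, rfl⟩; exact (t.equivFin.symm i).2
    · intro hx; exact ⟨t.equivFin ⟨x, hx⟩, by simp⟩
  obtain ⟨Q, hQprime, hQP⟩ := Ideal.exists_isPrime_liesOver_of_faithfullyFlat (B := B) P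
  have hJQ : I.map (algebraMap A B) ≤ Q := by
    rw [Ideal.map_le_iff_le_comap]
    exact hIP.trans (le_of_eq (Ideal.LiesOver.over (p := P) (P := Q)))
  obtain ⟨g0, hg0, l0, hl0, hl0span⟩ := h ⟨Q, hQprime⟩ hJQ
  obtain ⟨lQ, hlQ, -, hlQspan⟩ := kr_atPrime_of_away _ g0 l0 hl0 hl0span Q hg0
  set s := lQ.length with hs
  let γQ : Fin s → Localization.AtPrime Q := lQ.get
  have hγspan : Ideal.span (Set.range γQ) = Ideal.ofList lQ :=
    (ofList_eq_span_range_get lQ).symm
  have hbQ : Ideal.span (Set.range (algebraMap A (Localization.AtPrime Q) ∘ b)) =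
      Ideal.span (Set.range γQ) := by
    rw [span_range_comp, hb, hγspan, hlQspan, Ideal.map_map, ← IsScalarTower.algebraMap_eq]
  have hLmax : Ideal.span (Set.range γQ) ≤ IsLocalRing.maximalIdeal (Localization.AtPrime Q) := by
    rw [hγspan, hlQspan, ← Localization.AtPrime.map_eq_maximalIdeal]
    exact Ideal.map_mono hJQ
  have hrel : ∀ c : Fin s → Localization.AtPrime Q, ∑ k, c k * γQ k = 0 →
      ∀ k, c k ∈ Ideal.span (Set.range γQ) := by
    intro c hc k
    rw [hγspan]
    exact KosLow.coeff_mem_of_sum_eq_zero lQ (hlQ (-1) (by norm_num)) c hc k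
  obtain ⟨e, hespan⟩ := exists_sub_of_rel γQ hrel hLmax _ hbQ
  let a : Fin s → A := b ∘ e
  have ha : ∀ i, a i ∈ I := fun i => hb ▸ Ideal.subset_span ⟨e i, rfl⟩
  have hΦ : LCI.IsKoszulRegularSeq (Localization.AtPrime Q)
      (List.ofFn (algebraMap A (Localization.AtPrime Q) ∘ a)) := by
    apply isKoszulRegularSeq_of_length_eq lQ _ hlQ
    · rw [List.length_ofFn]
    · rw [ofList_ofFn, ← hγspan]
      exact hespan
  have hΨ : LCI.IsKoszulRegularSeq (Localization.AtPrime P)
      (List.ofFn (algebraMap A (Localization.AtPrime P) ∘ a)) :=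
    (kr_atPrime_iff a P Q).1 hΦ
  have hex : ∀ i, ∃ t : A, t ∉ P ∧ t * b i ∈ Ideal.span (Set.range a) := by
    intro i
    have h1 : algebraMap A (Localization.AtPrime Q) (b i) ∈
        (Ideal.span (Set.range a)).map (algebraMap A (Localization.AtPrime Q)) := by
      rw [← span_range_comp]
      change _ ∈ Ideal.span (Set.range ((algebraMap A (Localization.AtPrime Q) ∘ b) ∘ e))
      rw [hespan, ← hbQ]
      exact Ideal.subset_span ⟨i, rfl⟩
    have h2 := Groth.Agent.S9252.mem_map_atPrime_of_mem_map _ P Q _ h1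
    rw [IsLocalization.mem_map_algebraMap_iff P.primeCompl] at h2
    obtain ⟨⟨x, t⟩, hxt⟩ := h2
    rw [← map_mul] at hxt
    obtain ⟨c, hc⟩ := (IsLocalization.eq_iff_exists P.primeCompl _).1 hxt
    refine ⟨c * t, fun hmem => ?_, ?_⟩
    · exact (Submonoid.mul_mem _ c.2 t.2) hmem
    · have : (c : A) * (t : A) * b i = c * (x : A) := by
        rw [mul_assoc, mul_comm (t : A), hc]
      rw [this]
      exact Ideal.mul_mem_left _ _ x.2
  choose t ht htb using hex
  let h0 : A := ∏ i, t i
  have hh0 : h0 ∉ P := by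
    intro hmem
    obtain ⟨i, -, hi⟩ := (Ideal.IsPrime.prod_mem_iff).1 hmem
    exact ht i hi
  have hgen : ∀ x ∈ I, h0 * x ∈ Ideal.span (Set.range a) := by
    intro x hx
    rw [← hb] at hx
    obtain ⟨c, rfl⟩ := (Ideal.mem_span_range_iff_exists_fun).1 hx
    rw [Finset.mul_sum]
    refine Ideal.sum_mem _ fun i _ => ?_
    have : h0 * (c i * b i) = (c i * ∏ j ∈ Finset.univ.erase i, t j) * (t i * b i) := by
      simp only [h0]
      rw [← Finset.mul_prod_erase Finset.univ t (Finset.mem_univ i)]
      ring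
    rw [this]
    exact Ideal.mul_mem_left _ _ (htb i)
  have hU := isOpen_U (B := B) I h a ha h0 hgen
  have hPU : (⟨P, hPprime⟩ : PrimeSpectrum A) ∈ {P' : PrimeSpectrum A | h0 ∉ P'.asIdeal ∧
      LCI.IsKoszulRegularSeq (Localization.AtPrime P'.asIdeal)
        (List.ofFn (algebraMap A (Localization.AtPrime P'.asIdeal) ∘ a))} := ⟨hh0, hΨ⟩
  obtain ⟨_, ⟨h1, rfl⟩, hP1, hsub⟩ :=
    PrimeSpectrum.isTopologicalBasis_basic_opens.exists_subset_of_mem_open hPU hU
  have hh1 : h1 ∉ P := hP1
  refine ⟨h1 * h0, fun hmem => (Ideal.IsPrime.mem_or_mem hPprime hmem).elim hh1 hh0,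
    List.ofFn (algebraMap A (Localization.Away (h1 * h0)) ∘ a), ?_, ?_⟩
  · apply kr_away_of_forall
    intro P' _ hP'
    have h1' : h1 ∉ P' := fun hm => hP' (Ideal.mul_mem_right _ _ hm)
    exact (hsub (show (⟨P', inferInstance⟩ : PrimeSpectrum A) ∈
      (PrimeSpectrum.basicOpen h1 : Set (PrimeSpectrum A)) from h1')).2
  · rw [setOf_mem_ofFn]
    symm
    apply Groth.Agent.S9252.span_eq_map_of_isUnit I a ha h0 hgen
    have hu : IsUnit (algebraMap A (Localization.Away (h1 * h0)) (h1 * h0)) :=
      IsLocalization.Away.algebraMap_isUnit _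
    rw [map_mul] at hu
    exact isUnit_of_mul_isUnit_right hu

end Groth.Agent.Lib.Helper5.KosDesc
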