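import Mathlib
import Groth.Agent.Lib.Helper5.KosComp
import Groth.Agent.Lib.Helper5.KosDescB

/-!
# Koszul-regular sequences: cancellation, and transfer along quotient maps of localizations
-/

set_option autoImplicit false
universe u

open CategoryTheory CategoryTheory.Limits CochainComplex

namespace Groth.Agent.Lib.Helper5.Lci

attribute [local instance] HasDerivedCategory.standard

open Groth.Agent.Lib.Helper5.KosComp Groth.Agent.Lib.Helper5.KosDesc
  Groth.Agent.Lib.Helper5.KosPerm

section Cancel

variable {R : Type u} [CommRing R]

theorem isZero_of_isZero_RS {S : Type u} [CommRing S] (φ : R →+* S) (M : ModuleCat.{u} S)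
    (h : IsZero ((RS φ).obj M)) : IsZero M := by
  have h1 : Subsingleton ((RS φ).obj M) := ModuleCat.subsingleton_of_isZero h
  have h2 : Subsingleton M := h1
  exact ModuleCat.isZero_of_subsingleton M

open DerivedCategory in
/-- **Cancellation for Koszul-regular sequences.** -/
theorem isKoszulRegularSeq_quotient_of_append (f g : List R) (hf : LCI.IsKoszulRegularSeq R f)
    (hgf : LCI.IsKoszulRegularSeq R (g ++ f)) :
    LCI.IsKoszulRegularSeq (R ⧸ Ideal.ofList f) (g.map (Ideal.Quotient.mk (Ideal.ofList f))) := by
  intro i hi
  obtain ⟨e⟩ := nonempty_Q_koszul_append_iso f hf g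
  have e1 := (homologyFunctorFactors (ModuleCat.{u} R) i).app (Koszul.koszul R (g ++ f))
  have e2 := (homologyFunctorFactors (ModuleCat.{u} R) i).app
    ((RC (Ideal.Quotient.mk (Ideal.ofList f))).obj
        (Koszul.koszul (R ⧸ Ideal.ofList f) (g.map (Ideal.Quotient.mk (Ideal.ofList f)))))
  have h1 : IsZero (((RC (Ideal.Quotient.mk (Ideal.ofList f))).obj
      (Koszul.koszul (R ⧸ Ideal.ofList f)
        (g.map (Ideal.Quotient.mk (Ideal.ofList f))))).homology i) :=
    IsZero.of_iso (hgf i hi)
      (e2.symm ≪≫ ((homologyFunctor (ModuleCat.{u} R) i).mapIso e).symm ≪≫ e1)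
  have e3 : ((RC (Ideal.Quotient.mk (Ideal.ofList f))).obj
      (Koszul.koszul (R ⧸ Ideal.ofList f)
        (g.map (Ideal.Quotient.mk (Ideal.ofList f))))).homology i ≅
      (RS (Ideal.Quotient.mk (Ideal.ofList f))).obj
        ((Koszul.koszul (R ⧸ Ideal.ofList f)
          (g.map (Ideal.Quotient.mk (Ideal.ofList f)))).homology i) :=
    ((Koszul.koszul (R ⧸ Ideal.ofList f)
      (g.map (Ideal.Quotient.mk (Ideal.ofList f)))).sc i).mapHomologyIso
        (RS (Ideal.Quotient.mk (Ideal.ofList f)))
  exact isZero_of_isZero_RS _ _ (IsZero.of_iso h1 e3.symm)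

end Cancel

section Transfer

variable {T Tb : Type u} [CommRing T] [CommRing Tb] (π : T →+* Tb) (G : T)

/-- the quotient map on basic open localizations -/
noncomputable abbrev phi : Localization.Away G →+* Localization.Away (π G) :=
  Localization.awayMap π G

theorem phi_algebraMap (x : T) :
    phi π G (algebraMap T (Localization.Away G) x) =
      algebraMap Tb (Localization.Away (π G)) (π x) :=
  IsLocalization.map_eq _ x

theorem phi_comp :
    (phi π G).comp (algebraMap T (Localization.Away G)) =
      (algebraMap Tb (Localization.Away (π G))).comp π :=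
  RingHom.ext fun x => phi_algebraMap π G x

theorem map_phi (l : List T) :
    (l.map (algebraMap T (Localization.Away G))).map (phi π G) =
      (l.map π).map (algebraMap Tb (Localization.Away (π G))) := by
  rw [List.map_map, List.map_map]
  apply List.map_congr_left
  intro x _
  exact phi_algebraMap π G x

variable {π}

theorem phi_surjective (hπ : Function.Surjective π) : Function.Surjective (phi π G) := by
  have : IsLocalization (Submonoid.map π (Submonoid.powers G)) (Localization.Away (π G)) := by
    rw [Submonoid.map_powers]
    infer_instance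
  exact IsLocalization.map_surjective_of_surjective _ _ _ hπ

theorem ker_phi :
    RingHom.ker (phi π G) = (RingHom.ker π).map (algebraMap T (Localization.Away G)) :=
  IsLocalization.ker_map (Localization.Away (π G)) π (Submonoid.map_powers π G)

/-- Transfer of Koszul-regularity between a basic open of `T` and of its quotient. -/
theorem kr_transfer (hπ : Function.Surjective π) (a c : List T)
    (hker : (RingHom.ker π).map (algebraMap T (Localization.Away G)) =
      Ideal.ofList (a.map (algebraMap T (Localization.Away G))))
    (ha : LCI.IsKoszulRegularSeq (Localization.Away G)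
      (a.map (algebraMap T (Localization.Away G)))) :
    LCI.IsKoszulRegularSeq (Localization.Away G)
        ((c ++ a).map (algebraMap T (Localization.Away G))) ↔
      LCI.IsKoszulRegularSeq (Localization.Away (π G))
        ((c.map π).map (algebraMap Tb (Localization.Away (π G)))) := by
  set fL := a.map (algebraMap T (Localization.Away G)) with hfL
  set gL := c.map (algebraMap T (Localization.Away G)) with hgL
  have hk : RingHom.ker (phi π G) = Ideal.ofList fL := by rw [ker_phi, hker]
  let e : (Localization.Away G ⧸ Ideal.ofList fL) ≃+* Localization.Away (π G) :=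
    (Ideal.quotEquivOfEq hk.symm).trans (RingHom.quotientKerEquivOfSurjective (phi_surjective G hπ))
  have he : ∀ x, e (Ideal.Quotient.mk _ x) = phi π G x := fun x => rfl
  have hmap : (gL.map (Ideal.Quotient.mk (Ideal.ofList fL))).map e =
      (c.map π).map (algebraMap Tb (Localization.Away (π G))) := by
    rw [← map_phi, List.map_map]
    apply List.map_congr_left
    intro x _
    exact he x
  rw [List.map_append]
  constructor
  · intro h
    have h1 := isKoszulRegularSeq_quotient_of_append fL gL ha h
    have h2 := isKoszulRegularSeq_ringEquiv e _ h1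
    rwa [hmap] at h2
  · intro h
    apply isKoszulRegularSeq_append fL gL ha
    have h2 := isKoszulRegularSeq_ringEquiv e.symm _ h
    rw [← hmap, List.map_map] at h2
    have h3 : (gL.map (Ideal.Quotient.mk (Ideal.ofList fL))).map (⇑e.symm ∘ ⇑e) =
        gL.map (Ideal.Quotient.mk (Ideal.ofList fL)) := by
      conv_rhs => rw [← List.map_id (gL.map (Ideal.Quotient.mk (Ideal.ofList fL)))]
      apply List.map_congr_left
      intro x _
      simp
    rwa [h3] at h2

theorem span_transfer_down (hπ : Function.Surjective π) (K : Ideal T) (a c : List T)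
    (hker : (RingHom.ker π).map (algebraMap T (Localization.Away G)) =
      Ideal.ofList (a.map (algebraMap T (Localization.Away G))))
    (h : K.map (algebraMap T (Localization.Away G)) =
      Ideal.ofList ((c ++ a).map (algebraMap T (Localization.Away G)))) :
    (K.map π).map (algebraMap Tb (Localization.Away (π G))) =
      Ideal.ofList ((c.map π).map (algebraMap Tb (Localization.Away (π G)))) := by
  rw [Ideal.map_map, ← phi_comp, ← Ideal.map_map, h, List.map_append, Ideal.ofList_append,
    Ideal.map_sup, ← hker, ← ker_phi, ← map_phi, Ideal.map_ofList]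
  have : (RingHom.ker (phi π G)).map (phi π G) = ⊥ := by
    rw [Ideal.map_eq_bot_iff_le_ker]
  rw [this, sup_bot_eq]

theorem span_transfer_up (hπ : Function.Surjective π) (K : Ideal T) (a c : List T)
    (hker : (RingHom.ker π).map (algebraMap T (Localization.Away G)) =
      Ideal.ofList (a.map (algebraMap T (Localization.Away G))))
    (hle : RingHom.ker π ≤ K) (hc : ∀ x ∈ c, x ∈ K)
    (h : (K.map π).map (algebraMap Tb (Localization.Away (π G))) =
      Ideal.ofList ((c.map π).map (algebraMap Tb (Localization.Away (π G))))) :
    K.map (algebraMap T (Localization.Away G)) =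
      Ideal.ofList ((c ++ a).map (algebraMap T (Localization.Away G))) := by
  rw [List.map_append, Ideal.ofList_append, ← hker]
  apply le_antisymm
  · refine (Ideal.le_comap_map (f := phi π G)).trans ?_
    rw [Ideal.map_map, phi_comp, ← Ideal.map_map, h, ← map_phi, ← Ideal.map_ofList,
      Ideal.comap_map_of_surjective _ (phi_surjective G hπ), ← RingHom.ker_eq_comap_bot, ker_phi]
  · refine sup_le ?_ (Ideal.map_mono hle)
    rw [← Ideal.map_ofList]
    apply Ideal.map_mono
    unfold Ideal.ofList
    rw [Ideal.span_le]
    exact fun x hx => hc x hx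

end Transfer

end Groth.Agent.Lib.Helper5.Lci
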