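import Mathlib
import Groth.Agent.Lib.Helper5.LciA

/-!
# Koszul-regular ideals: global generating lists on basic opens
-/

set_option autoImplicit false
universe u

namespace Groth.Agent.Lib.Helper5.Lci

open Groth.Agent.Lib.Helper5.KosDesc Groth.Agent.Lib.Helper5.KosPerm

variable {T : Type u} [CommRing T]

theorem kr_atPrime_of_kr_away (l : List T) (g : T)
    (h : LCI.IsKoszulRegularSeq (Localization.Away g) (l.map (algebraMap T (Localization.Away g))))
    (q : Ideal T) [q.IsPrime] (hg : g ∉ q) :
    LCI.IsKoszulRegularSeq (Localization.AtPrime q)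
      (l.map (algebraMap T (Localization.AtPrime q))) := by
  have hu : IsUnit (algebraMap T (Localization.AtPrime q) g) :=
    IsLocalization.map_units _ (⟨g, hg⟩ : q.primeCompl)
  have h1 := Groth.Agent.Lib.Helper5.KosBC.isKoszulRegularSeq_map _ (flat_lift g q hg hu) _ h
  rw [List.map_map] at h1
  convert h1 using 1
  apply List.map_congr_left
  intro x _
  exact (IsLocalization.Away.lift_eq g hu x).symm

theorem kr_away_of_forall_atPrime (l : List T) (g : T)
    (h : ∀ (q : Ideal T) [q.IsPrime], g ∉ q →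
      LCI.IsKoszulRegularSeq (Localization.AtPrime q)
        (l.map (algebraMap T (Localization.AtPrime q)))) :
    LCI.IsKoszulRegularSeq (Localization.Away g) (l.map (algebraMap T (Localization.Away g))) := by
  have h1 := kr_away_of_forall l.get g (fun P' _ hP' => by
    have h2 := h P' hP'
    rwa [← List.map_ofFn, List.ofFn_get])
  rwa [← List.map_ofFn, List.ofFn_get] at h1

theorem kr_away_mono (l : List T) (g g' : T)
    (h : LCI.IsKoszulRegularSeq (Localization.Away g) (l.map (algebraMap T (Localization.Away g))))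
    (hgg' : ∀ (q : Ideal T) [q.IsPrime], g' ∉ q → g ∉ q) :
    LCI.IsKoszulRegularSeq (Localization.Away g')
      (l.map (algebraMap T (Localization.Away g'))) :=
  kr_away_of_forall_atPrime l g' fun q _ hq => kr_atPrime_of_kr_away l g h q (hgg' q hq)

theorem map_eq_ofList_of_isUnit (J : Ideal T) (a : List T) (g : T)
    (h : J.map (algebraMap T (Localization.Away g)) =
      Ideal.ofList (a.map (algebraMap T (Localization.Away g))))
    (T' : Type u) [CommRing T'] [Algebra T T'] (hu : IsUnit (algebraMap T T' g)) :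
    J.map (algebraMap T T') = Ideal.ofList (a.map (algebraMap T T')) := by
  have hc : (IsLocalization.Away.lift (S := Localization.Away g) g hu).comp
      (algebraMap T (Localization.Away g)) = algebraMap T T' :=
    IsLocalization.Away.lift_comp g hu
  rw [← hc, ← Ideal.map_map, h, Ideal.map_ofList, List.map_map]
  rfl

theorem map_eq_ofList_of_mul_mem (J : Ideal T) (a : List T) (ha : ∀ x ∈ a, x ∈ J) (h0 : T)
    (hgen : ∀ x ∈ J, h0 * x ∈ Ideal.ofList a)
    (T' : Type u) [CommRing T'] [Algebra T T'] (hu : IsUnit (algebraMap T T' h0)) :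
    J.map (algebraMap T T') = Ideal.ofList (a.map (algebraMap T T')) := by
  rw [← Ideal.map_ofList]
  apply le_antisymm
  · rw [Ideal.map_le_iff_le_comap]
    intro x hx
    rw [Ideal.mem_comap]
    have h1 : algebraMap T T' (h0 * x) ∈ (Ideal.ofList a).map (algebraMap T T') :=
      Ideal.mem_map_of_mem _ (hgen x hx)
    rw [map_mul] at h1
    exact (Ideal.unit_mul_mem_iff_mem _ hu).1 h1
  · apply Ideal.map_mono
    unfold Ideal.ofList
    rw [Ideal.span_le]
    exact fun x hx => ha x hx

theorem exists_mul_mem_of_atPrime (J : Ideal T) (hJ : J.FG) (a : List T)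
    (q : Ideal T) [q.IsPrime]
    (h : J.map (algebraMap T (Localization.AtPrime q)) ≤
      Ideal.ofList (a.map (algebraMap T (Localization.AtPrime q)))) :
    ∃ h0 : T, h0 ∉ q ∧ ∀ x ∈ J, h0 * x ∈ Ideal.ofList a := by
  classical
  obtain ⟨s, hs⟩ := hJ
  have hex : ∀ b ∈ s, ∃ t : T, t ∉ q ∧ t * b ∈ Ideal.ofList a := by
    intro b hb
    have hbJ : b ∈ J := hs ▸ Ideal.subset_span hb
    have h1 : algebraMap T (Localization.AtPrime q) b ∈
        (Ideal.ofList a).map (algebraMap T (Localization.AtPrime q)) := by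
      rw [Ideal.map_ofList]
      exact h (Ideal.mem_map_of_mem _ hbJ)
    obtain ⟨m, hm, hmb⟩ := (IsLocalization.algebraMap_mem_map_algebraMap_iff q.primeCompl _ _ _).1 h1
    exact ⟨m, hm, hmb⟩
  choose! t ht htb using hex
  refine ⟨∏ b ∈ s, t b, ?_, ?_⟩
  · intro hmem
    obtain ⟨b, hb, hb'⟩ := (Ideal.IsPrime.prod_mem_iff).1 hmem
    exact ht b hb hb'
  · intro x hx
    rw [← hs] at hx
    refine Submodule.span_induction (p := fun x _ => (∏ b ∈ s, t b) * x ∈ Ideal.ofList a)
      ?_ ?_ ?_ ?_ hx
    · intro b hb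
      rw [← Finset.mul_prod_erase s t hb, mul_comm (t b), mul_assoc]
      exact Ideal.mul_mem_left _ _ (htb b hb)
    · rw [mul_zero]
      exact Ideal.zero_mem _
    · intro x y _ _ hx hy
      rw [mul_add]
      exact Ideal.add_mem _ hx hy
    · intro c x _ hx
      rw [smul_eq_mul, mul_left_comm]
      exact Ideal.mul_mem_left _ _ hx

/-- **Normal form**: a Koszul-regular ideal is, near each prime containing it, generated by a
list of global elements of the ideal which is Koszul-regular on a basic open. -/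
theorem exists_global_gens (J : Ideal T) (hJ : LCI.IsKoszulRegularIdeal J)
    (q : Ideal T) [hq : q.IsPrime] (hJq : J ≤ q) :
    ∃ g : T, g ∉ q ∧ ∃ a : List T, (∀ x ∈ a, x ∈ J) ∧
      LCI.IsKoszulRegularSeq (Localization.Away g) (a.map (algebraMap T (Localization.Away g))) ∧
      J.map (algebraMap T (Localization.Away g)) =
        Ideal.ofList (a.map (algebraMap T (Localization.Away g))) := by
  obtain ⟨g, hg, l, hl, hspan⟩ := hJ ⟨q, hq⟩ hJq
  refine ⟨g, hg, ?_⟩
  have hex : ∀ j : Fin l.length, ∃ y : T, y ∈ J ∧ ∃ u : Localization.Away g, IsUnit u ∧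
      l.get j * u = algebraMap T (Localization.Away g) y := by
    intro j
    have hmem : l.get j ∈ J.map (algebraMap T (Localization.Away g)) := by
      rw [hspan]
      exact Ideal.subset_span (List.get_mem l j)
    obtain ⟨⟨y, m⟩, hym⟩ := (IsLocalization.mem_map_algebraMap_iff (Submonoid.powers g) _).1 hmem
    exact ⟨y.1, y.2, _, IsLocalization.map_units _ m, hym⟩
  choose y hyJ u hu hyu using hex
  refine ⟨List.ofFn y, ?_, ?_⟩
  · intro x hx
    obtain ⟨j, rfl⟩ := (List.mem_ofFn' y x).1 hx
    exact hyJ j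
  have hsp : Ideal.ofList ((List.ofFn y).map (algebraMap T (Localization.Away g))) =
      Ideal.ofList l := by
    rw [List.map_ofFn, ofList_ofFn, ofList_eq_span_range_get]
    apply le_antisymm
    · rw [Ideal.span_le]
      rintro _ ⟨j, rfl⟩
      change algebraMap T (Localization.Away g) (y j) ∈ _
      rw [← hyu j]
      exact Ideal.mul_mem_right _ _ (Ideal.subset_span ⟨j, rfl⟩)
    · rw [Ideal.span_le]
      rintro _ ⟨j, rfl⟩
      have : l.get j = algebraMap T (Localization.Away g) (y j) * ↑(hu j).unit⁻¹ := by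
        rw [← hyu j, mul_assoc, IsUnit.mul_val_inv, mul_one]
      rw [this]
      exact Ideal.mul_mem_right _ _ (Ideal.subset_span ⟨j, rfl⟩)
  refine ⟨isKoszulRegularSeq_of_length_eq l _ hl (by simp) hsp, ?_⟩
  rw [hsp, hspan]

theorem isKoszulRegularIdeal_of_local (J : Ideal T)
    (h : ∀ (q : Ideal T) [q.IsPrime], J ≤ q → ∃ g : T, g ∉ q ∧ ∃ a : List T,
      LCI.IsKoszulRegularSeq (Localization.Away g) (a.map (algebraMap T (Localization.Away g))) ∧
      J.map (algebraMap T (Localization.Away g)) =
        Ideal.ofList (a.map (algebraMap T (Localization.Away g)))) :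
    LCI.IsKoszulRegularIdeal J := by
  rintro ⟨q, hq⟩ hJq
  obtain ⟨g, hg, a, ha, hsp⟩ := h q hJq
  exact ⟨g, hg, _, ha, hsp⟩

end Groth.Agent.Lib.Helper5.Lci
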