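import Mathlib

set_option autoImplicit false

namespace Groth.Agent.Lib.Helper5.RegularProd

theorem isRegularRing_of_isLocalization {R : Type*} [CommRing R] (M : Submonoid R)
    (S : Type*) [CommRing S] [Algebra R S]
    [IsLocalization M S] [IsRegularRing R] : IsRegularRing S := by
  have : IsNoetherianRing S := IsLocalization.isNoetherianRing M S inferInstance
  rw [isRegularRing_iff]
  intro Q hQ
  have h1 : IsLocalization.AtPrime (Localization.AtPrime Q) (Q.comap (algebraMap R S)) :=
    IsLocalization.isLocalization_isLocalization_atPrime_isLocalization M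
      (Localization.AtPrime Q) Q
  exact IsRegularLocalRing.of_ringEquiv
    (IsLocalization.algEquiv (Q.comap (algebraMap R S)).primeCompl
      (Localization.AtPrime (Q.comap (algebraMap R S))) (Localization.AtPrime Q)).toRingEquiv

section Pi

variable {ι : Type*} [Finite ι] [DecidableEq ι] (R : ι → Type*) [∀ i, CommRing (R i)]

omit [Finite ι] in
theorem isIdempotentElem_single (j : ι) :
    IsIdempotentElem (Pi.single j 1 : ∀ i, R i) := by
  unfold IsIdempotentElem
  rw [← Pi.single_mul, mul_one]

theorem away_eval (j : ι) :
    let _ : Algebra (∀ i, R i) (R j) := (Pi.evalRingHom R j).toAlgebra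
    IsLocalization.Away (Pi.single j 1 : ∀ i, R i) (R j) := by
  let _ : Algebra (∀ i, R i) (R j) := (Pi.evalRingHom R j).toAlgebra
  refine IsLocalization.away_of_isIdempotentElem_of_mul (isIdempotentElem_single R j) ?_ ?_
  · intro x y
    change x j = y j ↔ _
    constructor
    · intro h
      funext i
      by_cases hi : i = j
      · subst hi
        simp [h]
      · simp [hi]
    · intro h
      have := congrFun h j
      simpa using this
  · intro y
    exact ⟨Pi.single j y, by change (Pi.single j y : ∀ i, R i) j = y; simp⟩

theorem isRegularRing_of_pi [IsRegularRing (∀ i, R i)] (j : ι) : IsRegularRing (R j) := by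
  let _ : Algebra (∀ i, R i) (R j) := (Pi.evalRingHom R j).toAlgebra
  have := away_eval R j
  exact isRegularRing_of_isLocalization (Submonoid.powers (Pi.single j 1 : ∀ i, R i)) (R j)

theorem isRegularRing_pi (h : ∀ i, IsRegularRing (R i)) : IsRegularRing (∀ i, R i) := by
  cases nonempty_fintype ι
  have : IsNoetherianRing (∀ i, R i) := inferInstance
  rw [isRegularRing_iff]
  intro P hP
  have hex : ∃ j, (Pi.single j 1 : ∀ i, R i) ∉ P := by
    by_contra hcon
    push Not at hcon
    have h1 : (∑ j, Pi.single j ((1 : ∀ i, R i) j) : ∀ i, R i) ∈ P :=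
      Ideal.sum_mem _ (fun j _ => hcon j)
    rw [Finset.univ_sum_single] at h1
    exact hP.ne_top ((Ideal.eq_top_iff_one _).2 h1)
  obtain ⟨j, hj⟩ := hex
  let _ : Algebra (∀ i, R i) (R j) := (Pi.evalRingHom R j).toAlgebra
  have hloc := away_eval R j
  have hdisj : Disjoint (Submonoid.powers (Pi.single j 1 : ∀ i, R i) : Set (∀ i, R i)) (P : Set _) := by
    rw [Set.disjoint_left]
    rintro x ⟨n, rfl⟩ hx
    exact hj (hP.mem_of_pow_mem n hx)
  let Pj : Ideal (R j) := P.map (algebraMap (∀ i, R i) (R j))
  have hPj : Pj.IsPrime :=
    IsLocalization.isPrime_of_isPrime_disjoint (Submonoid.powers (Pi.single j 1 : ∀ i, R i))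
      (R j) P hP hdisj
  have hunder : Pj.comap (algebraMap (∀ i, R i) (R j)) = P :=
    IsLocalization.under_map_of_isPrime_disjoint (Submonoid.powers (Pi.single j 1 : ∀ i, R i))
      (R j) hP hdisj
  have hreg : IsRegularLocalRing (Localization.AtPrime Pj) := inferInstance
  have h1 : IsLocalization.AtPrime (Localization.AtPrime Pj)
      (Pj.comap (algebraMap (∀ i, R i) (R j))) :=
    IsLocalization.isLocalization_isLocalization_atPrime_isLocalization
      (Submonoid.powers (Pi.single j 1 : ∀ i, R i)) (Localization.AtPrime Pj) Pj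
  have heq : (Pj.comap (algebraMap (∀ i, R i) (R j))).primeCompl = P.primeCompl := by
    ext x
    simp only [Ideal.mem_primeCompl_iff]
    rw [hunder]
  have h2 : IsLocalization P.primeCompl (Localization.AtPrime Pj) := by
    rw [← heq]
    exact h1
  exact IsRegularLocalRing.of_ringEquiv
    (IsLocalization.algEquiv P.primeCompl (Localization.AtPrime P)
      (Localization.AtPrime Pj)).toRingEquiv.symm

end Pi

end Groth.Agent.Lib.Helper5.RegularProd
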