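import Groth.Agent.Lib.Helper5.SerreFlat
import Mathlib

set_option autoImplicit false
set_option linter.unusedSectionVars false
universe u

namespace Groth.Agent.Lib.Helper5.SerreLoc

open CategoryTheory IsLocalRing TensorProduct

theorem isNoetherianRing_of_faithfullyFlat (R : Type*) [CommRing R] (S : Type*) [CommRing S]
    [Algebra R S] [Module.FaithfullyFlat R S] [IsNoetherianRing S] : IsNoetherianRing R := by
  have h1 : IsNoetherian S (S ⊗[R] R) :=
    isNoetherian_of_linearEquiv (AlgebraTensorModule.rid R S S).symm
  exact Submodule.IsNoetherian.of_isNoetherian_tensorProduct_of_faithfullyFlat h1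

theorem isRegularRing_of_faithfullyFlat (R : Type u) [CommRing R] (S : Type u) [CommRing S]
    [Algebra R S] [Module.FaithfullyFlat R S] [IsRegularRing S] : IsRegularRing R := by
  have hN : IsNoetherianRing R := isNoetherianRing_of_faithfullyFlat R S
  rw [isRegularRing_iff]
  intro p hp
  obtain ⟨P, hP, hPp⟩ := Ideal.exists_isPrime_liesOver_of_faithfullyFlat (B := S) p
  let _ := Localization.AtPrime.algebraOfLiesOver p P
  have : IsLocalHom (algebraMap (Localization.AtPrime p) (Localization.AtPrime P)) := by
    rw [RingHom.algebraMap_toAlgebra]
    exact Localization.isLocalHom_localRingHom p P (algebraMap R S) Ideal.LiesOver.over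
  have hreg : IsRegularLocalRing (Localization.AtPrime P) := inferInstance
  have hflat : Module.Flat (Localization.AtPrime p) (Localization.AtPrime P) := inferInstance
  exact regular_of_flat (Localization.AtPrime p) (Localization.AtPrime P)

end Groth.Agent.Lib.Helper5.SerreLoc
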