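import Groth.Agent.Lib.Helper5.RegSmooth
import Groth.Agent.Lib.Helper5.SerreFFlat
import Groth.Agent.Lib.Helper5.RegularProd
import Mathlib

set_option autoImplicit false
universe u

namespace Groth.Agent.Lib.Helper5.GeomRegFG

open TensorProduct

/-- descent of regularity along a field extension of the base. -/
theorem regular_descent (k K L S : Type u) [Field k] [Field K] [Field L] [CommRing S]
    [Algebra k K] [Algebra k L] [Algebra K L] [IsScalarTower k K L] [Algebra k S]
    (h : IsRegularRing (L ⊗[k] S)) : IsRegularRing (K ⊗[k] S) := by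
  let e1 : (K ⊗[k] S) ⊗[K] L ≃ₐ[K] L ⊗[K] (K ⊗[k] S) := Algebra.TensorProduct.comm K _ _
  let e2 : L ⊗[K] (K ⊗[k] S) ≃ₐ[L] L ⊗[k] S := Algebra.TensorProduct.cancelBaseChange k K L L S
  have h1 : IsRegularRing ((K ⊗[k] S) ⊗[K] L) :=
    IsRegularRing.of_ringEquiv (e1.toRingEquiv.trans e2.toRingEquiv).symm
  exact Groth.Agent.Lib.Helper5.SerreLoc.isRegularRing_of_faithfullyFlat (K ⊗[k] S)
    ((K ⊗[k] S) ⊗[K] L)

/-- base change of a regular algebra to a rational function field. -/
theorem regular_tensor_ratFunc (k T : Type u) (ι : Type u) [Finite ι] [Field k] [CommRing T]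
    [Algebra k T] [IsRegularRing T] :
    IsRegularRing (FractionRing (MvPolynomial ι k) ⊗[k] T) := by
  have h0 : IsRegularRing (MvPolynomial ι T) := inferInstance
  have h1 : IsRegularRing (T ⊗[k] MvPolynomial ι k) :=
    IsRegularRing.of_ringEquiv (MvPolynomial.algebraTensorAlgEquiv k T).symm.toRingEquiv
  have h2 : IsRegularRing (MvPolynomial ι k ⊗[k] T) :=
    IsRegularRing.of_ringEquiv (Algebra.TensorProduct.comm k T (MvPolynomial ι k)).toRingEquiv
  have h3 : IsRegularRing (FractionRing (MvPolynomial ι k) ⊗[MvPolynomial ι k]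
      (MvPolynomial ι k ⊗[k] T)) := by
    let _ : Algebra (MvPolynomial ι k ⊗[k] T) (FractionRing (MvPolynomial ι k) ⊗[MvPolynomial ι k]
      (MvPolynomial ι k ⊗[k] T)) := Algebra.TensorProduct.rightAlgebra
    have hloc : IsLocalization (Algebra.algebraMapSubmonoid (MvPolynomial ι k ⊗[k] T)
        (nonZeroDivisors (MvPolynomial ι k)))
        (FractionRing (MvPolynomial ι k) ⊗[MvPolynomial ι k] (MvPolynomial ι k ⊗[k] T)) :=
      IsLocalization.tensorRight _ _
    exact Groth.Agent.Lib.Helper5.RegularProd.isRegularRing_of_isLocalization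
      (Algebra.algebraMapSubmonoid (MvPolynomial ι k ⊗[k] T) (nonZeroDivisors (MvPolynomial ι k))) _
  exact IsRegularRing.of_ringEquiv (Algebra.TensorProduct.cancelBaseChange k (MvPolynomial ι k)
    (FractionRing (MvPolynomial ι k)) (FractionRing (MvPolynomial ι k)) T).toRingEquiv

/-- base change of a regular algebra to a separably generated field extension. -/
theorem regular_tensor_of_sepGen (k M L T : Type u) (ι : Type u) [Finite ι] [Field k] [Field M]
    [Field L] [CommRing T] [Algebra k M] [Algebra M L] [Algebra k L] [IsScalarTower k M L]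
    [Algebra k T] [IsRegularRing T] [Module.Finite M L] [Algebra.IsSeparable M L]
    (e : FractionRing (MvPolynomial ι k) ≃ₐ[k] M) : IsRegularRing (L ⊗[k] T) := by
  have h1 : IsRegularRing (FractionRing (MvPolynomial ι k) ⊗[k] T) := regular_tensor_ratFunc k T ι
  have h2 : IsRegularRing (M ⊗[k] T) :=
    IsRegularRing.of_ringEquiv (Algebra.TensorProduct.congr e (AlgEquiv.refl : T ≃ₐ[k] T)).toRingEquiv
  have het : Algebra.Etale M L := by
    have : Algebra.FormallyEtale M L := Algebra.FormallyEtale.of_isSeparable M L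
    have hft : Algebra.FiniteType M L := inferInstance
    have : Algebra.FinitePresentation M L := Algebra.FinitePresentation.of_finiteType.mp hft
    exact ⟨inferInstance, inferInstance⟩
  have h3 : IsRegularRing ((M ⊗[k] T) ⊗[M] L) :=
    Groth.Agent.Lib.Helper5.RegSmooth.isRegularRing_of_etale (M ⊗[k] T) ((M ⊗[k] T) ⊗[M] L)
  let e1 : (M ⊗[k] T) ⊗[M] L ≃ₐ[M] L ⊗[M] (M ⊗[k] T) := Algebra.TensorProduct.comm M _ _
  let e2 : L ⊗[M] (M ⊗[k] T) ≃ₐ[L] L ⊗[k] T := Algebra.TensorProduct.cancelBaseChange k M L L T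
  exact IsRegularRing.of_ringEquiv (e1.toRingEquiv.trans e2.toRingEquiv)

/-- assembly: `K ⊆ L`, `L` finite separable over `M`, `M` rational over `F`. -/
theorem regular_of_tower (k K F M L S : Type u) (ι : Type u) [Finite ι] [Field k] [Field K]
    [Field F] [Field M] [Field L] [CommRing S] [Algebra k K] [Algebra k F] [Algebra F M]
    [Algebra M L] [Algebra F L] [Algebra k L] [Algebra K L] [Algebra k S]
    (h1 : ∀ x, algebraMap F L x = algebraMap M L (algebraMap F M x))
    (h2 : ∀ x, algebraMap k L x = algebraMap F L (algebraMap k F x))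
    (h3 : ∀ x, algebraMap k L x = algebraMap K L (algebraMap k K x))
    (hfin : Module.Finite M L) (hsep : Algebra.IsSeparable M L)
    (e : FractionRing (MvPolynomial ι F) ≃ₐ[F] M) (hT : IsRegularRing (F ⊗[k] S)) :
    IsRegularRing (K ⊗[k] S) := by
  have t1 : IsScalarTower F M L := IsScalarTower.of_algebraMap_eq h1
  have t2 : IsScalarTower k F L := IsScalarTower.of_algebraMap_eq h2
  have t3 : IsScalarTower k K L := IsScalarTower.of_algebraMap_eq h3
  have r1 : IsRegularRing (L ⊗[F] (F ⊗[k] S)) :=
    regular_tensor_of_sepGen F M L (F ⊗[k] S) ι e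
  have r2 : IsRegularRing (L ⊗[k] S) :=
    IsRegularRing.of_ringEquiv (Algebra.TensorProduct.cancelBaseChange k F L L S).toRingEquiv
  exact regular_descent k K L S r2

end Groth.Agent.Lib.Helper5.GeomRegFG
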