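import Mathlib
import Groth.Agent.S2604
import Groth.Agent.Lib.Helper21.DepthKit12
import Groth.Agent.Lib.Helper12.SerreNormalB

set_option autoImplicit false
set_option linter.unusedSectionVars false

namespace Groth.Agent.Lib.Helper5.CMFlatLocal

open TensorProduct IsLocalRing Groth.Agent.Lib.Helper21

universe u

/-- The Cohen–Macaulay property of local rings is invariant under isomorphism. -/
theorem isCohenMacaulayLocalRing_of_ringEquiv {A B : Type u} [CommRing A] [CommRing B]
    (e : A ≃+* B) [h : LocCoh.IsCohenMacaulayLocalRing A] : LocCoh.IsCohenMacaulayLocalRing B := by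
  have hN : IsNoetherianRing B := isNoetherianRing_of_ringEquiv A e
  have hL : IsLocalRing B := e.isLocalRing
  refine ⟨?_⟩
  have h1 := h.supportDim_eq_depth
  rw [Module.supportDim_self_eq_ringKrullDim] at h1 ⊢
  rw [← ringKrullDim_eq_of_ringEquiv e, h1,
    Groth.Agent.Lib.Helper12.SerreNormal.depth_eq_of_ringEquiv e]

section Flat

variable (A B : Type u) [CommRing A] [CommRing B] [IsNoetherianRing A] [IsNoetherianRing B]
  [IsLocalRing A] [IsLocalRing B] [Algebra A B] [IsLocalHom (algebraMap A B)] [Module.Flat A B]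

theorem isCM_self_iff (R : Type u) [CommRing R] [IsNoetherianRing R] [IsLocalRing R] :
    LocCoh.IsCohenMacaulayLocalRing R ↔ LocCoh.IsCohenMacaulayModule R R :=
  ⟨fun h => h.supportDim_eq_depth, fun h => ⟨h⟩⟩

/-- Cohen–Macaulayness along a flat local homomorphism. -/
theorem isCohenMacaulayLocalRing_flat_iff :
    LocCoh.IsCohenMacaulayLocalRing B ↔
      (LocCoh.IsCohenMacaulayLocalRing A ∧
        LocCoh.IsCohenMacaulayLocalRing (B ⧸ (maximalIdeal A).map (algebraMap A B))) := by
  have hloc : IsLocalRing (B ⧸ (maximalIdeal A).map (algebraMap A B)) :=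
    EGA4.isLocalRing_fibRing A B
  have key := Groth.Agent.S2604.result A B A B
  let e : B ⊗[A] A ≃ₗ[B] B := TensorProduct.AlgebraTensorModule.rid A B B
  have h1 : LocCoh.IsCohenMacaulayModule B (B ⊗[A] A) ↔ LocCoh.IsCohenMacaulayModule B B := by
    unfold LocCoh.IsCohenMacaulayModule
    rw [Module.supportDim_eq_of_equiv e, DepthKit.depth_congr e]
  have hsurj : Function.Surjective (algebraMap B (EGA4.FibRing A B)) :=
    Ideal.Quotient.mk_surjective
  have heq : (EGA4.mB A B • (⊤ : Submodule B B)) = EGA4.mB A B := by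
    rw [smul_eq_mul, Ideal.mul_top]
  let e' : EGA4.FibMod A B B ≃ₗ[B] EGA4.FibRing A B := Submodule.quotEquivOfEq _ _ heq
  have hfin : Module.Finite (EGA4.FibRing A B) (EGA4.FibMod A B B) :=
    Module.Finite.of_restrictScalars_finite B _ _
  have h2 : LocCoh.IsCohenMacaulayModule (EGA4.FibRing A B) (EGA4.FibMod A B B) ↔
      LocCoh.IsCohenMacaulayModule (EGA4.FibRing A B) (EGA4.FibRing A B) := by
    unfold LocCoh.IsCohenMacaulayModule
    rw [← DepthKit.supportDim_eq_of_surjective (EGA4.FibMod A B B) hsurj,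
      ← DepthKit.depth_eq_of_surjective (EGA4.FibMod A B B) hsurj,
      ← DepthKit.supportDim_eq_of_surjective (EGA4.FibRing A B) hsurj,
      ← DepthKit.depth_eq_of_surjective (EGA4.FibRing A B) hsurj,
      Module.supportDim_eq_of_equiv e', DepthKit.depth_congr e']
  rw [isCM_self_iff B, isCM_self_iff A, ← h1, key, h2]
  exact Iff.rfl.and (isCM_self_iff (EGA4.FibRing A B)).symm

end Flat

end Groth.Agent.Lib.Helper5.CMFlatLocal
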