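import Groth.Prelude.Def_CAlg
import Mathlib.Algebra.Homology.DerivedCategory.Ext.MapBijective
import Mathlib.Algebra.Category.ModuleCat.ChangeOfRings
import Mathlib.Algebra.Category.ModuleCat.EnoughInjectives
import Mathlib.RingTheory.LocalRing.RingHom.Basic

set_option autoImplicit false
universe u v w

namespace Groth.Agent.Lib.Helper5.GorIso

open CategoryTheory Abelian

section Cat

variable {C : Type u} [Category.{v} C] [Abelian C] {D : Type u} [Category.{v} D] [Abelian D]

/-- injective dimension is reflected by an exact equivalence -/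
theorem hasInjectiveDimensionLT_of_isEquivalence (F : C ⥤ D) [F.IsEquivalence] [F.Additive]
    [EnoughInjectives C] (X : C) (n : ℕ) [HasInjectiveDimensionLT (F.obj X) n] :
    HasInjectiveDimensionLT X n := by
  let _ := HasExt.standard C
  let _ := HasExt.standard D
  rw [hasInjectiveDimensionLT_iff]
  intro i hi Y e
  have hbij := F.mapExt_bijective_of_preservesInjectiveObjects Y X i
  apply hbij.1
  rw [map_zero]
  exact Abelian.Ext.eq_zero_of_hasInjectiveDimensionLT _ n hi

theorem hasInjectiveDimensionLT_of_iso {X Y : C} (e : X ≅ Y) (n : ℕ)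
    [HasInjectiveDimensionLT X n] : HasInjectiveDimensionLT Y n := by
  let _ := HasExt.standard C
  rw [hasInjectiveDimensionLT_iff]
  intro i hi Z x
  have h1 : x.comp (Ext.mk₀ e.inv) (add_zero i) = 0 :=
    Abelian.Ext.eq_zero_of_hasInjectiveDimensionLT _ n hi
  have h2 : (x.comp (Ext.mk₀ e.inv) (add_zero i)).comp (Ext.mk₀ e.hom) (add_zero i) = x := by
    rw [Ext.comp_assoc_of_third_deg_zero, Ext.mk₀_comp_mk₀, e.inv_hom_id, Ext.comp_mk₀_id]
  rw [← h2, h1, Ext.zero_comp]

end Cat

/-- the Gorenstein property is invariant under ring isomorphisms -/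
theorem isGorensteinLocalRing_of_ringEquiv {A B : Type u} [CommRing A] [CommRing B] (e : A ≃+* B)
    [h : LocCoh.IsGorensteinLocalRing A] : LocCoh.IsGorensteinLocalRing B := by
  have hN : IsNoetherianRing B := isNoetherianRing_of_ringEquiv A e
  have hL : IsLocalRing B := e.isLocalRing
  obtain ⟨n, hn⟩ := h.exists_hasInjectiveDimensionLT
  refine LocCoh.IsGorensteinLocalRing.mk ⟨n, ?_⟩
  have h1 : HasInjectiveDimensionLT
      ((ModuleCat.restrictScalars e.toRingHom).obj (ModuleCat.of B B)) n :=
    hasInjectiveDimensionLT_of_iso (ModuleCat.restrictScalarsIsoOfEquiv e).symm n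
  exact hasInjectiveDimensionLT_of_isEquivalence (ModuleCat.restrictScalars e.toRingHom) _ n

end Groth.Agent.Lib.Helper5.GorIso
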