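import Groth.Agent.Lib.Helper5.RegCompletion
import Mathlib

set_option autoImplicit false
set_option linter.unusedSectionVars false
set_option backward.isDefEq.respectTransparency.types false
universe u

namespace Groth.Agent.Lib.Helper5.RegSmooth

open IsLocalRing

theorem regular_localization_of_etale (P C : Type u) [CommRing P] [CommRing C] [Algebra P C]
    [IsRegularRing P] [Algebra.Etale P C] (q : Ideal C) [q.IsPrime] :
    IsRegularLocalRing (Localization.AtPrime q) := by
  have hNC : IsNoetherianRing C := Algebra.FiniteType.isNoetherianRing P C
  let p : Ideal P := q.comap (algebraMap P C)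
  have hp : p.IsPrime := Ideal.comap_isPrime _ _
  have hover : q.LiesOver p := ⟨rfl⟩
  let _ := Localization.AtPrime.algebraOfLiesOver p q
  have hloc : IsLocalHom (algebraMap (Localization.AtPrime p) (Localization.AtPrime q)) := by
    rw [RingHom.algebraMap_toAlgebra]
    exact Localization.isLocalHom_localRingHom p q (algebraMap P C) Ideal.LiesOver.over
  have hflat : Module.Flat (Localization.AtPrime p) (Localization.AtPrime q) := inferInstance
  have h1 : Algebra.EssFiniteType P (Localization.AtPrime q) :=
    Algebra.EssFiniteType.comp P C (Localization.AtPrime q)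
  have h2 : Algebra.EssFiniteType (Localization.AtPrime p) (Localization.AtPrime q) :=
    Algebra.EssFiniteType.of_comp P (Localization.AtPrime p) (Localization.AtPrime q)
  have h3 : Algebra.FormallyUnramified C (Localization.AtPrime q) :=
    Algebra.FormallyUnramified.of_isLocalization q.primeCompl
  have h4 : Algebra.FormallyUnramified P (Localization.AtPrime q) :=
    Algebra.FormallyUnramified.comp P C (Localization.AtPrime q)
  have h5 : Algebra.FormallyUnramified (Localization.AtPrime p) (Localization.AtPrime q) :=
    Algebra.FormallyUnramified.of_restrictScalars P (Localization.AtPrime p) (Localization.AtPrime q)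
  have hreg : IsRegularLocalRing (Localization.AtPrime p) := inferInstance
  exact (Groth.Agent.Lib.Helper17.RegFlat.isRegularLocalRing_iff_of_flat_unramified
    (A := Localization.AtPrime p) (B := Localization.AtPrime q)).2 hreg

end Groth.Agent.Lib.Helper5.RegSmooth

namespace Groth.Agent.Lib.Helper5.RegSmooth

theorem isRegularRing_of_etale (P C : Type u) [CommRing P] [CommRing C] [Algebra P C]
    [IsRegularRing P] [Algebra.Etale P C] : IsRegularRing C := by
  have hNC : IsNoetherianRing C := Algebra.FiniteType.isNoetherianRing P C
  exact ⟨fun q _ => regular_localization_of_etale P C q⟩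

theorem isRegularRing_of_smooth (A B : Type u) [CommRing A] [CommRing B] [Algebra A B]
    [IsRegularRing A] [Algebra.Smooth A B] : IsRegularRing B := by
  have hNB : IsNoetherianRing B := Algebra.FiniteType.isNoetherianRing A B
  rw [isRegularRing_iff]
  intro q hq
  have hsm : Algebra.IsSmoothAt A q := by
    have h : (⟨q, hq⟩ : PrimeSpectrum B) ∈ Algebra.smoothLocus A B := by
      rw [Algebra.smoothLocus_eq_univ]
      exact Set.mem_univ _
    exact h
  obtain ⟨f, hfq, n, alg, htower, hstd⟩ :=
    Algebra.IsSmoothAt.exists_isStandardEtale_mvPolynomial (R := A) (p := q)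
  have hq' : (q.map (algebraMap B (Localization.Away f))).IsPrime :=
    IsLocalization.isPrime_of_isPrime_disjoint (.powers f) _ _ hq
      ((Ideal.disjoint_powers_iff_notMem_of_isPrime _).mpr hfq)
  have hcomap : (q.map (algebraMap B (Localization.Away f))).comap
      (algebraMap B (Localization.Away f)) = q :=
    IsLocalization.comap_map_of_isPrime_disjoint (.powers f) _ hq
      ((Ideal.disjoint_powers_iff_notMem_of_isPrime _).mpr hfq)
  have hRP : IsRegularRing (MvPolynomial (Fin n) A) := inferInstance
  have hreg : IsRegularLocalRing
      (Localization.AtPrime (q.map (algebraMap B (Localization.Away f)))) :=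
    regular_localization_of_etale (MvPolynomial (Fin n) A) (Localization.Away f) _
  have key : ∀ (q' : Ideal B) (hq'' : q'.IsPrime), q' = q →
      @IsLocalization.AtPrime B _
        (Localization.AtPrime (q.map (algebraMap B (Localization.Away f)))) _ _ q' hq'' →
      IsRegularLocalRing (Localization.AtPrime q) := by
    intro q' hq'' h hloc
    subst h
    exact IsRegularLocalRing.of_ringEquiv
      (IsLocalization.algEquiv q'.primeCompl
        (Localization.AtPrime (q'.map (algebraMap B (Localization.Away f))))
        (Localization.AtPrime q')).toRingEquiv
  exact key _ _ hcomap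
    (IsLocalization.isLocalization_isLocalization_atPrime_isLocalization (.powers f) _ _)

end Groth.Agent.Lib.Helper5.RegSmooth
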