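import Groth.Agent.Lib.Helper5.RegSmoothCore
import Groth.Agent.Lib.Helper5.RegSmooth
import Mathlib

set_option autoImplicit false
set_option linter.unusedSectionVars false
universe u

namespace Groth.Agent.Lib.Helper5.RegSmoothCore

open IsLocalRing TensorProduct KaehlerDifferential

theorem isSmoothAt_of_regular (k : Type u) [Field k] [PerfectField k] (S : Type u) [CommRing S]
    [Algebra k S] [Algebra.FiniteType k S] (q : Ideal S) [q.IsPrime]
    [IsRegularLocalRing (Localization.AtPrime q)] : Algebra.IsSmoothAt k q := by
  obtain ⟨n, f₀, hf₀⟩ := Algebra.FiniteType.iff_quotient_mvPolynomial''.mp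
    (inferInstance : Algebra.FiniteType k S)
  let N : Ideal (MvPolynomial (Fin n) k) := q.comap (f₀ : MvPolynomial (Fin n) k →+* S)
  have hN : N.IsPrime := Ideal.comap_isPrime _ _
  let φr : Localization.AtPrime N →+* Localization.AtPrime q :=
    Localization.localRingHom N q (f₀ : MvPolynomial (Fin n) k →+* S) rfl
  have hφsurj : Function.Surjective φr :=
    RingHom.surjective_localRingHom_of_surjective _ hf₀ q
  let φ : Localization.AtPrime N →ₐ[k] Localization.AtPrime q :=
    { φr with
      commutes' := fun c => by
        change φr (algebraMap k (Localization.AtPrime N) c) = _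
        rw [IsScalarTower.algebraMap_apply k (MvPolynomial (Fin n) k) (Localization.AtPrime N),
          Localization.localRingHom_to_map]
        change algebraMap S _ (f₀ (algebraMap k _ c)) = _
        rw [f₀.commutes, ← IsScalarTower.algebraMap_apply] }
  have h1 : Algebra.FormallyEtale (MvPolynomial (Fin n) k) (Localization.AtPrime N) :=
    .of_isLocalization N.primeCompl
  have h2 : Algebra.FormallySmooth k (Localization.AtPrime N) :=
    .comp _ (MvPolynomial (Fin n) k) _
  have h3 : Module.Free (Localization.AtPrime N) Ω[Localization.AtPrime N⁄k] :=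
    .of_equiv (KaehlerDifferential.tensorKaehlerEquivOfFormallyEtale k (MvPolynomial (Fin n) k)
      (Localization.AtPrime N))
  have h4 : Module.Finite (Localization.AtPrime N) Ω[Localization.AtPrime N⁄k] := inferInstance
  have h5 : IsRegularLocalRing (Localization.AtPrime N) := inferInstance
  have h6a : Algebra.EssFiniteType k (Localization.AtPrime N) :=
    Algebra.EssFiniteType.comp k (MvPolynomial (Fin n) k) (Localization.AtPrime N)
  have h6b : Algebra.FiniteType (Localization.AtPrime N)
      (ResidueField (Localization.AtPrime N)) :=
    Algebra.FiniteType.of_surjective (Algebra.ofId _ _) residue_surjective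
  have h6c : Algebra.EssFiniteType k (ResidueField (Localization.AtPrime N)) :=
    Algebra.EssFiniteType.comp k (Localization.AtPrime N) _
  have h6 : Algebra.FormallySmooth k (ResidueField (Localization.AtPrime N)) :=
    Algebra.FormallySmooth.of_perfectField
  let e : (Localization.AtPrime N ⧸ RingHom.ker φ) ≃ₐ[k] Localization.AtPrime q :=
    Ideal.quotientKerAlgEquivOfSurjective (f := φ) hφsurj
  have h7 : IsRegularLocalRing (Localization.AtPrime N ⧸ RingHom.ker φ) :=
    IsRegularLocalRing.of_ringEquiv e.symm.toRingEquiv
  have h8 := formallySmooth_quotient k (Localization.AtPrime N) (RingHom.ker φ)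
  exact Algebra.FormallySmooth.of_equiv (A := Localization.AtPrime N ⧸ RingHom.ker φ) e

end Groth.Agent.Lib.Helper5.RegSmoothCore

namespace Groth.Agent.Lib.Helper5.RegSmoothCore

open Groth.Agent.Lib.Helper5.RegSmooth in
set_option backward.isDefEq.respectTransparency.types false in
theorem regular_of_isSmoothAt (A B : Type u) [CommRing A] [CommRing B] [Algebra A B]
    [IsRegularRing A] [Algebra.FinitePresentation A B] (q : Ideal B) [hq : q.IsPrime]
    [Algebra.IsSmoothAt A q] : IsRegularLocalRing (Localization.AtPrime q) := by
  obtain ⟨f, hfq, n, alg, htower, hstd⟩ :=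
    Algebra.IsSmoothAt.exists_isStandardEtale_mvPolynomial (R := A) (p := q)
  have hq' : (q.map (algebraMap B (Localization.Away f))).IsPrime :=
    IsLocalization.isPrime_of_isPrime_disjoint (.powers f) _ _ hq
      ((Ideal.disjoint_powers_iff_notMem_of_isPrime _).mpr hfq)
  have hcomap : (q.map (algebraMap B (Localization.Away f))).comap
      (algebraMap B (Localization.Away f)) = q :=
    IsLocalization.comap_map_of_isPrime_disjoint (.powers f) _ hq
      ((Ideal.disjoint_powers_iff_notMem_of_isPrime _).mpr hfq)
  have hRP : IsRegularRing (MvPolynomial (Fin n) A) := inferInstance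
  have hreg : IsRegularLocalRing
      (Localization.AtPrime (q.map (algebraMap B (Localization.Away f)))) :=
    regular_localization_of_etale (MvPolynomial (Fin n) A) (Localization.Away f) _
  have key : ∀ (q' : Ideal B) (hq'' : q'.IsPrime), q' = q →
      @IsLocalization.AtPrime B _
        (Localization.AtPrime (q.map (algebraMap B (Localization.Away f)))) _ _ q' hq'' →
      IsRegularLocalRing (Localization.AtPrime q) := by
    intro q' hq'' h hloc
    subst h
    exact IsRegularLocalRing.of_ringEquiv
      (IsLocalization.algEquiv q'.primeCompl
        (Localization.AtPrime (q'.map (algebraMap B (Localization.Away f))))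
        (Localization.AtPrime q')).toRingEquiv
  exact key _ _ hcomap
    (IsLocalization.isLocalization_isLocalization_atPrime_isLocalization (.powers f) _ _)

theorem regular_iff_isSmoothAt (k : Type u) [Field k] [PerfectField k] (S : Type u) [CommRing S]
    [Algebra k S] [Algebra.FiniteType k S] (q : Ideal S) [q.IsPrime] :
    IsRegularLocalRing (Localization.AtPrime q) ↔ Algebra.IsSmoothAt k q := by
  have : Algebra.FinitePresentation k S := Algebra.FinitePresentation.of_finiteType.mp inferInstance
  constructor
  · intro h
    exact isSmoothAt_of_regular k S q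
  · intro h
    exact regular_of_isSmoothAt k S q

end Groth.Agent.Lib.Helper5.RegSmoothCore
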