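import Groth.Agent.Lib.Helper5.SerreConvC
import Groth.Agent.Lib.helper11.GlDimRegular
import Mathlib

set_option autoImplicit false
set_option linter.unusedSectionVars false
universe u

namespace Groth.Agent.Lib.Helper5.SerreLoc

open CategoryTheory IsLocalRing

theorem exists_finite_ringKrullDim (R : Type u) [CommRing R] [IsLocalRing R] [IsNoetherianRing R] :
    ∃ d : ℕ, ringKrullDim R = d := by
  have h1 : ringKrullDim R ≤ (maximalIdeal R).spanFinrank := ringKrullDim_le_spanFinrank_maximalIdeal R
  have h2 : (0 : WithBot ℕ∞) ≤ ringKrullDim R := ringKrullDim_nonneg_of_nontrivial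
  generalize ringKrullDim R = z at h1 h2
  induction z with
  | bot => simp at h2
  | coe z =>
    induction z with
    | top =>
      exfalso
      have : ((⊤ : ℕ∞) : WithBot ℕ∞) ≤ (((maximalIdeal R).spanFinrank : ℕ∞) : WithBot ℕ∞) := h1
      rw [WithBot.coe_le_coe] at this
      simp at this
    | coe n => exact ⟨n, rfl⟩

theorem localization_regular (R : Type u) [CommRing R] [IsRegularLocalRing R] (p : Ideal R)
    [p.IsPrime] : IsRegularLocalRing (Localization.AtPrime p) := by
  obtain ⟨d, hd⟩ := exists_finite_ringKrullDim R
  let M : ModuleCat.{u} R := ModuleCat.of R (R ⧸ p)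
  have hpd : HasProjectiveDimensionLT M (d + 1) :=
    Groth.Agent.Lib.helper11.GlDimRegular.hasProjectiveDimensionLT_of_isRegularLocalRing d hd M
  have hpd2 : HasProjectiveDimensionLE M d := hpd
  have hpd3 : HasProjectiveDimensionLE (M.localizedModule p.primeCompl) d :=
    ModuleCat.localizedModule_hasProjectiveDimensionLE d p.primeCompl M
  let g : (R ⧸ p) →ₗ[R] (M.localizedModule p.primeCompl) :=
    M.localizedModuleMkLinearMap p.primeCompl
  have hg : IsLocalizedModule p.primeCompl g := M.localizedModule_isLocalizedModule p.primeCompl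
  let v : M.localizedModule p.primeCompl := g 1
  let f : Localization.AtPrime p →ₗ[Localization.AtPrime p] (M.localizedModule p.primeCompl) :=
    LinearMap.toSpanSingleton _ _ v
  have hgv : ∀ r : R, g (Ideal.Quotient.mk p r) = r • v := by
    intro r
    rw [← map_smul]
    congr 1
    change Ideal.Quotient.mk p r = r • Ideal.Quotient.mk p 1
    rw [Algebra.smul_def, map_one, mul_one]
    rfl
  have key : ∀ (r : R) (s : p.primeCompl), (s : R) • (f (IsLocalization.mk' _ r s)) = r • v := by
    intro r s
    rw [LinearMap.toSpanSingleton_apply, ← algebraMap_smul (Localization.AtPrime p) (s : R),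
      smul_smul, IsLocalization.mk'_spec', algebraMap_smul]
  have hf1 : Function.Surjective f := by
    intro n
    obtain ⟨⟨m, s⟩, hms⟩ := IsLocalizedModule.surj p.primeCompl g n
    obtain ⟨r, rfl⟩ := Ideal.Quotient.mk_surjective m
    refine ⟨IsLocalization.mk' _ r s, ?_⟩
    apply IsLocalizedModule.smul_injective g s
    change (s : R) • _ = (s : R) • n
    rw [key, ← hgv]
    exact hms.symm
  have hf2 : LinearMap.ker f = maximalIdeal (Localization.AtPrime p) := by
    ext r'
    obtain ⟨r, s, rfl⟩ := IsLocalization.exists_mk'_eq p.primeCompl r'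
    rw [IsLocalization.AtPrime.mk'_mem_maximal_iff (Localization.AtPrime p) p, LinearMap.mem_ker]
    have h1 : f (IsLocalization.mk' _ r s) = 0 ↔ r • v = 0 := by
      rw [← key r s]
      constructor
      · intro h; rw [h, smul_zero]
      · intro h
        apply IsLocalizedModule.smul_injective g s
        change (s : R) • _ = (s : R) • (0 : M.localizedModule p.primeCompl)
        rw [h, smul_zero]
    rw [h1, ← hgv, IsLocalizedModule.eq_zero_iff p.primeCompl g]
    constructor
    · rintro ⟨t, ht⟩
      have h2 : Ideal.Quotient.mk p ((t : R) * r) = 0 := by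
        rw [map_mul]
        exact ht
      rw [Ideal.Quotient.eq_zero_iff_mem] at h2
      exact (‹p.IsPrime›.mem_or_mem h2).resolve_left t.2
    · intro hr
      exact ⟨1, by rw [one_smul]; exact Ideal.Quotient.eq_zero_iff_mem.2 hr⟩
  exact Groth.Agent.Lib.Helper5.SerreConv.main_aux _ (Localization.AtPrime p) rfl
    (M.localizedModule p.primeCompl) f hf1 hf2 d hpd3

end Groth.Agent.Lib.Helper5.SerreLoc
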