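import Mathlib

set_option autoImplicit false

namespace Groth.Agent.Lib.Helper5.ComplKaehler

open Submodule TensorProduct KaehlerDifferential

universe u

section Pi

variable {R : Type*} [CommRing R] (I : Ideal R)

theorem mem_smul_top_pi_iff {n : ℕ} (J : Ideal R) (x : Fin n → R) :
    x ∈ (J • ⊤ : Submodule R (Fin n → R)) ↔ ∀ i, x i ∈ J := by
  constructor
  · intro hx
    refine Submodule.smul_induction_on hx ?_ ?_
    · intro a ha y _ i
      change a * y i ∈ J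
      exact J.mul_mem_right _ ha
    · intro y z hy hz i
      exact J.add_mem (hy i) (hz i)
  · intro hx
    have : x = ∑ i, x i • (Pi.single i (1 : R) : Fin n → R) := by
      ext j
      simp [Finset.sum_apply, Pi.single_apply]
    rw [this]
    exact Submodule.sum_mem _ fun i _ => Submodule.smul_mem_smul (hx i) trivial

instance isPrecomplete_pi [IsPrecomplete I R] (n : ℕ) : IsPrecomplete I (Fin n → R) := by
  refine ⟨fun f hf => ?_⟩
  have h : ∀ i : Fin n, ∃ L : R, ∀ k, f k i ≡ L [SMOD (I ^ k • ⊤ : Submodule R R)] := by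
    intro i
    apply IsPrecomplete.prec ‹IsPrecomplete I R›
    intro a b hab
    have := hf hab
    rw [SModEq.sub_mem, mem_smul_top_pi_iff] at this
    rw [SModEq.sub_mem, smul_eq_mul, Ideal.mul_top]
    exact this i
  choose L hL using h
  refine ⟨L, fun k => ?_⟩
  rw [SModEq.sub_mem, mem_smul_top_pi_iff]
  intro i
  have := hL i k
  rw [SModEq.sub_mem, smul_eq_mul, Ideal.mul_top] at this
  exact this

end Pi

section Nak

variable {R : Type*} [CommRing R] (I : Ideal R) {N : Type*} [AddCommGroup N] [Module R N]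

/-- complete Nakayama: finiteness mod `I` lifts -/
theorem finite_of_finite_quotient [IsPrecomplete I R] [IsHausdorff I N]
    (h : Module.Finite R (N ⧸ (I • ⊤ : Submodule R N))) : Module.Finite R N := by
  obtain ⟨n, s, hs⟩ := Module.Finite.exists_fin (R := R) (M := N ⧸ (I • ⊤ : Submodule R N))
  choose t ht using fun i => Submodule.mkQ_surjective (I • ⊤ : Submodule R N) (s i)
  let f : (Fin n → R) →ₗ[R] N := Fintype.linearCombination R t
  have hf : Function.Surjective ((I • ⊤ : Submodule R N).mkQ ∘ₗ f) := by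
    rw [← LinearMap.range_eq_top, eq_top_iff, ← hs, Submodule.span_le]
    rintro _ ⟨i, rfl⟩
    refine ⟨Pi.single i 1, ?_⟩
    change (I • ⊤ : Submodule R N).mkQ (Fintype.linearCombination R t (Pi.single i 1)) = s i
    rw [Fintype.linearCombination_apply_single, one_smul, ht]
  have := surjective_of_mkQ_comp_surjective (I := I) hf
  exact Module.Finite.of_surjective f this

end Nak

section FG

variable {B : Type*} [CommRing B] (𝔫 : Ideal B)

theorem isHausdorff_ideal [IsHausdorff 𝔫 B] : IsHausdorff 𝔫 𝔫 := by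
  refine ⟨fun x hx => ?_⟩
  apply Subtype.ext
  apply IsHausdorff.haus ‹IsHausdorff 𝔫 B›
  intro k
  have := hx k
  rw [SModEq.zero] at this ⊢
  rw [smul_eq_mul, Ideal.mul_top]
  refine Submodule.smul_induction_on this ?_ ?_
  · intro a ha y _
    change a * (y : B) ∈ 𝔫 ^ k
    exact Ideal.mul_mem_right _ _ ha
  · intro y z hy hz
    exact Ideal.add_mem _ hy hz

theorem fg_of_cotangent_finite [IsPrecomplete 𝔫 B] [IsHausdorff 𝔫 B]
    [Module.Finite (B ⧸ 𝔫) 𝔫.Cotangent] : 𝔫.FG := by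
  have : IsHausdorff 𝔫 𝔫 := isHausdorff_ideal 𝔫
  have h1 : Module.Finite B 𝔫.Cotangent := Module.Finite.trans (B ⧸ 𝔫) 𝔫.Cotangent
  have h2 : Module.Finite B (𝔫 ⧸ (𝔫 • ⊤ : Submodule B 𝔫)) := h1
  have := finite_of_finite_quotient 𝔫 (N := 𝔫) h2
  exact (Submodule.fg_top 𝔫).mp (Module.finite_def.mp this)

end FG

section Main

variable {A B : Type u} [CommRing A] [CommRing B] [Algebra A B] (𝔫 : Ideal B)

theorem finite_tensor_kaehler [Module.Finite (B ⧸ 𝔫) (Ω[B ⧸ 𝔫⁄A])]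
    [Module.Finite (B ⧸ 𝔫) 𝔫.Cotangent] :
    Module.Finite B ((B ⧸ 𝔫) ⊗[B] Ω[B⁄A]) := by
  have hsurj : Function.Surjective (algebraMap B (B ⧸ 𝔫)) := Ideal.Quotient.mk_surjective
  have hker : RingHom.ker (algebraMap B (B ⧸ 𝔫)) = 𝔫 := Ideal.mk_ker
  have hex := KaehlerDifferential.exact_kerCotangentToTensor_mapBaseChange A B (B ⧸ 𝔫) hsurj
  have hsj := KaehlerDifferential.mapBaseChange_surjective A B (B ⧸ 𝔫) hsurj
  have h1 : Module.Finite B (RingHom.ker (algebraMap B (B ⧸ 𝔫))).Cotangent := by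
    rw [hker]
    exact Module.Finite.trans (B ⧸ 𝔫) 𝔫.Cotangent
  have h3 : Module.Finite B (Ω[B ⧸ 𝔫⁄A]) := Module.Finite.trans (B ⧸ 𝔫) _
  let δ := kerCotangentToTensor A B (B ⧸ 𝔫)
  let π : (B ⧸ 𝔫) ⊗[B] Ω[B⁄A] →ₗ[B] Ω[B ⧸ 𝔫⁄A] := (mapBaseChange A B (B ⧸ 𝔫)).restrictScalars B
  have hr : Module.Finite B (LinearMap.range δ) := Module.Finite.range δ
  have hq : Module.Finite B (((B ⧸ 𝔫) ⊗[B] Ω[B⁄A]) ⧸ LinearMap.range δ) := by
    have hkr : LinearMap.ker π = LinearMap.range δ := by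
      ext x
      exact hex x
    rw [← hkr]
    exact Module.Finite.equiv (π.quotKerEquivOfSurjective hsj).symm
  exact Module.Finite.of_submodule_quotient (LinearMap.range δ)

theorem finite_completedKaehler [IsAdicComplete 𝔫 B] [Module.Finite (B ⧸ 𝔫) (Ω[B ⧸ 𝔫⁄A])]
    [Module.Finite (B ⧸ 𝔫) 𝔫.Cotangent] :
    Module.Finite B (AdicCompletion 𝔫 (Ω[B⁄A])) := by
  have hfg : 𝔫.FG := fg_of_cotangent_finite 𝔫
  have h1 : Module.Finite B ((B ⧸ 𝔫) ⊗[B] Ω[B⁄A]) := finite_tensor_kaehler 𝔫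
  have h2 : Module.Finite B (Ω[B⁄A] ⧸ (𝔫 • ⊤ : Submodule B Ω[B⁄A])) :=
    Module.Finite.equiv (TensorProduct.quotTensorEquivQuotSMul Ω[B⁄A] 𝔫)
  have h3 : Module.Finite B (Ω[B⁄A] ⧸ (𝔫 ^ 1 • ⊤ : Submodule B Ω[B⁄A])) := by
    rw [pow_one]; exact h2
  have hk : (𝔫 • ⊤ : Submodule B (AdicCompletion 𝔫 (Ω[B⁄A]))) =
      LinearMap.ker (AdicCompletion.eval 𝔫 (Ω[B⁄A]) 1) := by
    have := AdicCompletion.pow_smul_top_eq_ker_eval (I := 𝔫) (M := Ω[B⁄A]) (n := 1) hfg
    rw [← this]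
    congr 1
    exact (pow_one 𝔫).symm
  have h4 : Module.Finite B (AdicCompletion 𝔫 (Ω[B⁄A]) ⧸
      (𝔫 • ⊤ : Submodule B (AdicCompletion 𝔫 (Ω[B⁄A])))) := by
    rw [hk]
    exact Module.Finite.equiv ((AdicCompletion.eval 𝔫 (Ω[B⁄A]) 1).quotKerEquivOfSurjective
      (AdicCompletion.eval_surjective 𝔫 _ 1)).symm
  exact finite_of_finite_quotient 𝔫 h4

end Main

end Groth.Agent.Lib.Helper5.ComplKaehler
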