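import Groth.Prelude.Def_EGA41
import Mathlib.RingTheory.AdicCompletion.RingHom

set_option autoImplicit false
set_option linter.unusedSectionVars false
universe u

namespace Groth.Agent.Lib.Helper5.AdicLift

open EGA41

section Glue

variable {A B T T₁ T₂ : Type u} [CommRing A] [CommRing B] [Algebra A B] [CommRing T] [Algebra A T]
  [CommRing T₁] [Algebra A T₁] [CommRing T₂] [Algebra A T₂] (𝔞 : Ideal A) (𝔟 : Ideal B)

theorem exists_lift_pair (hB : IsFormallySmoothAdic A 𝔞 B 𝔟)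
    (hT : ∃ k : ℕ, (𝔞 ^ k).map (algebraMap A T) = ⊥) (π₁ : T →ₐ[A] T₁) (π₂ : T →ₐ[A] T₂)
    (hnil : IsNilpotent (RingHom.ker π₁ ⊓ RingHom.ker π₂)) (f₁ : B →ₐ[A] T₁) (f₂ : B →ₐ[A] T₂)
    (h₁ : ∃ k : ℕ, ∀ x ∈ 𝔟 ^ k, f₁ x = 0) (h₂ : ∃ k : ℕ, ∀ x ∈ 𝔟 ^ k, f₂ x = 0)
    (hcompat : ∀ b, ∃ t : T, π₁ t = f₁ b ∧ π₂ t = f₂ b) :
    ∃ f : B →ₐ[A] T, π₁.comp f = f₁ ∧ π₂.comp f = f₂ := by
  set K : Ideal T := RingHom.ker π₁ ⊓ RingHom.ker π₂ with hK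
  let ψ : T ⧸ K →ₐ[A] T₁ × T₂ := Ideal.Quotient.liftₐ K (π₁.prod π₂) (fun a ha => by
    rw [AlgHom.prod_apply]
    exact Prod.ext ha.1 ha.2)
  have hψmk : ∀ t, ψ (Ideal.Quotient.mk K t) = (π₁ t, π₂ t) := fun t => rfl
  have hψ : Function.Injective ψ := by
    rw [injective_iff_map_eq_zero]
    intro y hy
    obtain ⟨t, rfl⟩ := Ideal.Quotient.mk_surjective y
    rw [hψmk] at hy
    rw [Ideal.Quotient.eq_zero_iff_mem]
    exact ⟨(Prod.ext_iff.1 hy).1, (Prod.ext_iff.1 hy).2⟩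
  have hrange : ∀ b, (f₁.prod f₂) b ∈ ψ.range := by
    intro b
    obtain ⟨t, ht1, ht2⟩ := hcompat b
    refine ⟨Ideal.Quotient.mk K t, ?_⟩
    change ψ (Ideal.Quotient.mk K t) = _
    rw [hψmk, ht1, ht2]
    rfl
  let g : B →ₐ[A] T ⧸ K :=
    (AlgEquiv.ofInjective ψ hψ).symm.toAlgHom.comp ((f₁.prod f₂).codRestrict ψ.range hrange)
  have hg : ∀ b, ψ (g b) = (f₁ b, f₂ b) := by
    intro b
    have := (AlgEquiv.ofInjective ψ hψ).apply_symm_apply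
      (((f₁.prod f₂).codRestrict ψ.range hrange) b)
    exact congrArg Subtype.val this
  obtain ⟨k₁, hk₁⟩ := h₁
  obtain ⟨k₂, hk₂⟩ := h₂
  have hgk : ∃ k : ℕ, ∀ x ∈ 𝔟 ^ k, g x = 0 := by
    refine ⟨max k₁ k₂, fun x hx => hψ ?_⟩
    rw [hg, map_zero, hk₁ x (Ideal.pow_le_pow_right (le_max_left _ _) hx),
      hk₂ x (Ideal.pow_le_pow_right (le_max_right _ _) hx)]
    rfl
  obtain ⟨f, hf⟩ := hB T K hnil hT g hgk
  have hf' : ∀ b, Ideal.Quotient.mk K (f b) = g b := fun b => AlgHom.congr_fun hf b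
  refine ⟨f, AlgHom.ext fun b => ?_, AlgHom.ext fun b => ?_⟩
  · have := congrArg Prod.fst (hg b)
    rw [← hf', hψmk] at this
    exact this
  · have := congrArg Prod.snd (hg b)
    rw [← hf', hψmk] at this
    exact this

end Glue

section Main

variable {A B C : Type u} [CommRing A] [CommRing B] [CommRing C] [Algebra A B] [Algebra A C]
  (𝔞 : Ideal A) (𝔟 : Ideal B) (𝔠 : Ideal C)

open Ideal.Quotient in
theorem exists_lift_adicComplete (hB : IsFormallySmoothAdic A 𝔞 B 𝔟) [IsAdicComplete 𝔠 C]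
    (hAC : ∃ k : ℕ, (𝔞 ^ k).map (algebraMap A C) ≤ 𝔠)
    (J : Ideal C) (hJ : ∃ t : ℕ, J ^ t ≤ 𝔠) [IsHausdorff (𝔠.map (Ideal.Quotient.mk J)) (C ⧸ J)]
    (u : B →ₐ[A] C ⧸ J) (hu : ∃ k : ℕ, (𝔟 ^ k).map u.toRingHom ≤ 𝔠.map (Ideal.Quotient.mk J)) :
    ∃ v : B →ₐ[A] C, (∃ k : ℕ, (𝔟 ^ k).map v.toRingHom ≤ 𝔠) ∧
      (Ideal.Quotient.mkₐ A J).comp v = u := by
  obtain ⟨k, hk⟩ := hu
  obtain ⟨t, ht⟩ := hJ
  obtain ⟨k₀, hk₀⟩ := hAC
  have hu_pow : ∀ n x, x ∈ 𝔟 ^ (k * n) → ∃ c ∈ 𝔠 ^ n, Ideal.Quotient.mk J c = u x := by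
    intro n x hx
    have h1 : u x ∈ ((𝔟 ^ k).map u.toRingHom) ^ n := by
      rw [← Ideal.map_pow, ← pow_mul]
      exact Ideal.mem_map_of_mem u.toRingHom hx
    have h2 := Ideal.pow_right_mono hk n h1
    rw [← Ideal.map_pow] at h2
    exact (Ideal.mem_map_iff_of_surjective _ Ideal.Quotient.mk_surjective).1 h2
  have hJ_pow : ∀ n, J ^ (t * n) ≤ 𝔠 ^ n := by
    intro n
    rw [pow_mul]
    exact Ideal.pow_right_mono ht n
  have hT : ∀ n, ∃ m : ℕ, (𝔞 ^ m).map (algebraMap A (C ⧸ 𝔠 ^ n)) = ⊥ := by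
    intro n
    refine ⟨k₀ * n, ?_⟩
    have h1 : (𝔞 ^ (k₀ * n)).map (algebraMap A C) ≤ 𝔠 ^ n := by
      rw [pow_mul, Ideal.map_pow]
      exact Ideal.pow_right_mono hk₀ n
    rw [IsScalarTower.algebraMap_eq A C (C ⧸ 𝔠 ^ n), ← Ideal.map_map, eq_bot_iff]
    refine (Ideal.map_mono h1).trans ?_
    rw [Ideal.Quotient.algebraMap_eq, Ideal.map_quotient_self]
  -- the compatibility with `u`
  let P : ∀ n, (B →ₐ[A] C ⧸ 𝔠 ^ n) → Prop := fun n v =>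
    ∀ b, factor (le_sup_right : 𝔠 ^ n ≤ J ⊔ 𝔠 ^ n) (v b) =
      factor (le_sup_left : J ≤ J ⊔ 𝔠 ^ n) (u b)
  have hJmap : ∀ n, (J.map (Ideal.Quotient.mk (𝔠 ^ n))) ^ (t * n) = ⊥ := by
    intro n
    rw [← Ideal.map_pow, eq_bot_iff]
    refine (Ideal.map_mono (hJ_pow n)).trans ?_
    rw [Ideal.map_quotient_self]
  have hmemJ : ∀ n (d : C), d ∈ J ⊔ 𝔠 ^ n →
      Ideal.Quotient.mk (𝔠 ^ n) d ∈ J.map (Ideal.Quotient.mk (𝔠 ^ n)) := by
    intro n d hd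
    obtain ⟨j, hj, i, hi, rfl⟩ := Submodule.mem_sup.1 hd
    rw [map_add, Ideal.Quotient.eq_zero_iff_mem.2 hi, add_zero]
    exact Ideal.mem_map_of_mem _ hj
  have cont : ∀ n (v : B →ₐ[A] C ⧸ 𝔠 ^ n), P n v → ∃ m : ℕ, ∀ x ∈ 𝔟 ^ m, v x = 0 := by
    intro n v hv
    have hstep1 : ∀ x ∈ 𝔟 ^ (k * n), v x ∈ J.map (Ideal.Quotient.mk (𝔠 ^ n)) := by
      intro x hx
      obtain ⟨c, hc, hcu⟩ := hu_pow n x hx
      obtain ⟨d, hd⟩ := Ideal.Quotient.mk_surjective (v x)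
      have h0 := hv x
      rw [← hd, ← hcu, factor_mk, factor_mk] at h0
      have hdc : d - c ∈ J ⊔ 𝔠 ^ n := Ideal.Quotient.eq.1 h0
      have hd' : d ∈ J ⊔ 𝔠 ^ n := by
        have := Ideal.add_mem _ hdc (le_sup_right (a := J) hc)
        rwa [sub_add_cancel] at this
      rw [← hd]
      exact hmemJ n d hd'
    refine ⟨k * n * (t * n), fun x hx => ?_⟩
    have h1 : v x ∈ ((𝔟 ^ (k * n)).map v.toRingHom) ^ (t * n) := by
      rw [← Ideal.map_pow, ← pow_mul]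
      exact Ideal.mem_map_of_mem v.toRingHom hx
    have h2 : (𝔟 ^ (k * n)).map v.toRingHom ≤ J.map (Ideal.Quotient.mk (𝔠 ^ n)) :=
      Ideal.map_le_iff_le_comap.2 (fun x hx => hstep1 x hx)
    have h3 := Ideal.pow_right_mono h2 (t * n) h1
    rw [hJmap n] at h3
    exact (Submodule.mem_bot _).1 h3
  have step : ∀ n (v : B →ₐ[A] C ⧸ 𝔠 ^ n), P n v → ∃ v' : B →ₐ[A] C ⧸ 𝔠 ^ (n + 1),
      P (n + 1) v' ∧ ∀ b, factor (Ideal.pow_le_pow_right n.le_succ) (v' b) = v b := by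
    intro n v hv
    let π₁ : C ⧸ 𝔠 ^ (n + 1) →ₐ[A] C ⧸ 𝔠 ^ n := factorₐ A (Ideal.pow_le_pow_right n.le_succ)
    let π₂ : C ⧸ 𝔠 ^ (n + 1) →ₐ[A] C ⧸ (J ⊔ 𝔠 ^ (n + 1)) := factorₐ A le_sup_right
    let f₂ : B →ₐ[A] C ⧸ (J ⊔ 𝔠 ^ (n + 1)) := (factorₐ A le_sup_left).comp u
    have hnil : IsNilpotent (RingHom.ker π₁ ⊓ RingHom.ker π₂) := by
      refine ⟨t * (n + 1), ?_⟩
      rw [Ideal.zero_eq_bot, eq_bot_iff, ← hJmap (n + 1)]
      refine Ideal.pow_right_mono ?_ _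
      refine inf_le_right.trans ?_
      intro y hy
      obtain ⟨d, rfl⟩ := Ideal.Quotient.mk_surjective y
      have hy' : Ideal.Quotient.mk (J ⊔ 𝔠 ^ (n + 1)) d = 0 := hy
      exact hmemJ (n + 1) d (Ideal.Quotient.eq_zero_iff_mem.1 hy')
    have h₂ : ∃ m : ℕ, ∀ x ∈ 𝔟 ^ m, f₂ x = 0 := by
      refine ⟨k * (n + 1), fun x hx => ?_⟩
      obtain ⟨c, hc, hcu⟩ := hu_pow (n + 1) x hx
      change factor (le_sup_left : J ≤ J ⊔ 𝔠 ^ (n + 1)) (u x) = 0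
      rw [← hcu, factor_mk, Ideal.Quotient.eq_zero_iff_mem]
      exact le_sup_right (a := J) hc
    have hcompat : ∀ b, ∃ y : C ⧸ 𝔠 ^ (n + 1), π₁ y = v b ∧ π₂ y = f₂ b := by
      intro b
      obtain ⟨c₁, hc₁⟩ := Ideal.Quotient.mk_surjective (v b)
      obtain ⟨c₂, hc₂⟩ := Ideal.Quotient.mk_surjective (u b)
      have h0 := hv b
      rw [← hc₁, ← hc₂, factor_mk, factor_mk] at h0
      have hdc : c₁ - c₂ ∈ J ⊔ 𝔠 ^ n := Ideal.Quotient.eq.1 h0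
      obtain ⟨j, hj, i, hi, hji⟩ := Submodule.mem_sup.1 hdc
      refine ⟨Ideal.Quotient.mk _ (c₁ - i), ?_, ?_⟩
      · change factor (Ideal.pow_le_pow_right n.le_succ) (Ideal.Quotient.mk _ (c₁ - i)) = _
        rw [factor_mk, ← hc₁, map_sub, Ideal.Quotient.eq_zero_iff_mem.2 hi, sub_zero]
      · change factor (le_sup_right : 𝔠 ^ (n + 1) ≤ J ⊔ 𝔠 ^ (n + 1))
          (Ideal.Quotient.mk _ (c₁ - i)) = factor (le_sup_left : J ≤ J ⊔ 𝔠 ^ (n + 1)) (u b)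
        rw [factor_mk, ← hc₂, factor_mk, Ideal.Quotient.eq]
        have : c₁ - i - c₂ = j := by
          have : c₁ - i - c₂ = (c₁ - c₂) - i := by ring
          rw [this, ← hji]; ring
        rw [this]
        exact le_sup_left (b := 𝔠 ^ (n + 1)) hj
    obtain ⟨f, hf1, hf2⟩ := exists_lift_pair 𝔞 𝔟 hB (hT (n + 1)) π₁ π₂ hnil v f₂
      (cont n v hv) h₂ hcompat
    refine ⟨f, fun b => AlgHom.congr_fun hf2 b, fun b => AlgHom.congr_fun hf1 b⟩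
  -- the base of the recursion
  have hss : Subsingleton (C ⧸ 𝔠 ^ 0) :=
    Ideal.Quotient.subsingleton_iff.2 (by rw [pow_zero, Ideal.one_eq_top])
  have hss' : Subsingleton (C ⧸ (J ⊔ 𝔠 ^ 0)) :=
    Ideal.Quotient.subsingleton_iff.2 (by rw [pow_zero, Ideal.one_eq_top, sup_top_eq])
  let v0 : B →ₐ[A] C ⧸ 𝔠 ^ 0 :=
    { toFun := fun _ => 0
      map_one' := Subsingleton.elim _ _
      map_mul' := fun _ _ => Subsingleton.elim _ _
      map_zero' := rfl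
      map_add' := fun _ _ => Subsingleton.elim _ _
      commutes' := fun _ => Subsingleton.elim _ _ }
  have hv0 : P 0 v0 := fun b => Subsingleton.elim _ _
  have step' : ∀ n (v : {v : B →ₐ[A] C ⧸ 𝔠 ^ n // P n v}),
      ∃ v' : {v' : B →ₐ[A] C ⧸ 𝔠 ^ (n + 1) // P (n + 1) v'},
        ∀ b, factor (Ideal.pow_le_pow_right n.le_succ) (v'.1 b) = v.1 b := by
    intro n v
    obtain ⟨v', h1, h2⟩ := step n v.1 v.2
    exact ⟨⟨v', h1⟩, h2⟩
  choose next hnext using step'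
  let seq : ∀ n, {v : B →ₐ[A] C ⧸ 𝔠 ^ n // P n v} := fun n =>
    Nat.rec (motive := fun n => {v : B →ₐ[A] C ⧸ 𝔠 ^ n // P n v}) ⟨v0, hv0⟩
      (fun n v => next n v) n
  have hseq : ∀ n b, factor (Ideal.pow_le_pow_right n.le_succ) ((seq (n + 1)).1 b) =
      (seq n).1 b := fun n b => hnext n (seq n) b
  have hcompat : ∀ {m n : ℕ} (hle : m ≤ n),
      (factorₐ A (Ideal.pow_le_pow_right hle)).comp (seq n).1 = (seq m).1 := by
    intro m n hle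
    induction n, hle using Nat.le_induction with
    | base =>
      apply AlgHom.ext
      intro b
      obtain ⟨c, hc⟩ := Ideal.Quotient.mk_surjective ((seq m).1 b)
      change factor (Ideal.pow_le_pow_right le_rfl) ((seq m).1 b) = _
      rw [← hc, factor_mk]
    | succ n hmn ih =>
      apply AlgHom.ext
      intro b
      rw [← ih]
      change factor (Ideal.pow_le_pow_right (hmn.trans n.le_succ)) ((seq (n + 1)).1 b) =
        factor (Ideal.pow_le_pow_right hmn) ((seq n).1 b)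
      rw [← hseq n b, factor_comp_apply]
  let v : B →ₐ[A] C := IsAdicComplete.liftAlgHom 𝔠 (fun n => (seq n).1) hcompat
  have hvmk : ∀ n b, Ideal.Quotient.mk (𝔠 ^ n) (v b) = (seq n).1 b := fun n b =>
    IsAdicComplete.mk_liftAlgHom 𝔠 (fun n => (seq n).1) hcompat n b
  have hvu : ∀ b, Ideal.Quotient.mk J (v b) = u b := by
    intro b
    rw [← sub_eq_zero]
    apply IsHausdorff.haus (inferInstance : IsHausdorff (𝔠.map (Ideal.Quotient.mk J)) (C ⧸ J))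
    intro n
    rw [SModEq.zero, smul_eq_mul, Ideal.mul_top, ← Ideal.map_pow]
    have h1 := (seq n).2 b
    rw [← hvmk n b, factor_mk] at h1
    obtain ⟨c₂, hc₂⟩ := Ideal.Quotient.mk_surjective (u b)
    rw [← hc₂, factor_mk] at h1
    have hdc : v b - c₂ ∈ J ⊔ 𝔠 ^ n := Ideal.Quotient.eq.1 h1
    obtain ⟨j, hj, i, hi, hji⟩ := Submodule.mem_sup.1 hdc
    rw [← hc₂, ← map_sub, ← hji, map_add, Ideal.Quotient.eq_zero_iff_mem.2 hj, zero_add]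
    exact Ideal.mem_map_of_mem _ hi
  refine ⟨v, ⟨k * t, ?_⟩, AlgHom.ext hvu⟩
  have h1 : (𝔟 ^ k).map v.toRingHom ≤ 𝔠 ⊔ J := by
    rw [Ideal.map_le_iff_le_comap]
    intro x hx
    have hx' : x ∈ 𝔟 ^ (k * 1) := by rwa [mul_one]
    obtain ⟨c, hc, hcu⟩ := hu_pow 1 x hx'
    rw [pow_one] at hc
    rw [← hvu x] at hcu
    have hdc : c - v x ∈ J := Ideal.Quotient.eq.1 hcu
    rw [Ideal.mem_comap]
    have : v x = c - (c - v x) := by ring
    change v x ∈ 𝔠 ⊔ J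
    rw [this]
    exact Ideal.sub_mem _ (le_sup_left (b := J) hc) (le_sup_right (a := 𝔠) hdc)
  have h2 : (𝔠 ⊔ J) ^ t ≤ 𝔠 := by
    have h3 : ((𝔠 ⊔ J).map (Ideal.Quotient.mk 𝔠)) ^ t = ⊥ := by
      rw [Ideal.map_sup, Ideal.map_quotient_self, bot_sup_eq, ← Ideal.map_pow, eq_bot_iff]
      refine (Ideal.map_mono ht).trans ?_
      rw [Ideal.map_quotient_self]
    rw [← Ideal.map_pow] at h3
    intro y hy
    have := Ideal.mem_map_of_mem (Ideal.Quotient.mk 𝔠) hy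
    rw [h3] at this
    exact Ideal.Quotient.eq_zero_iff_mem.1 ((Submodule.mem_bot _).1 this)
  rw [pow_mul, Ideal.map_pow]
  exact (Ideal.pow_right_mono h1 t).trans h2

end Main

end Groth.Agent.Lib.Helper5.AdicLift
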