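import Groth.Agent.Lib.Helper5.FlatCohenC
import Groth.Agent.Lib.Helper5.AdicLift
import Groth.Agent.Lib.Helper2.QuotFlat
import Groth.Agent.Lib.Helper21.DepthKit12
import Groth.Agent.S4537
import Groth.Agent.S3866

set_option autoImplicit false
set_option linter.unusedSectionVars false
universe u

namespace Groth.Agent.Lib.Helper5.FlatCohen

open IsLocalRing MvPowerSeries Groth.Agent.Lib.Helper12

theorem adicSmooth_of_ringEquiv_base {A A' B : Type u} [CommRing A] [CommRing A'] [CommRing B]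
    [Algebra A B] [Algebra A' B] (e : A' ≃+* A)
    (he : ∀ a', algebraMap A' B a' = algebraMap A B (e a')) (𝔫 : Ideal B)
    (h : CAlgX.IsAdicFormallySmooth A B 𝔫) : CAlgX.IsAdicFormallySmooth A' B 𝔫 := by
  intro C _ _ J hJ ψ hψ
  let _ : Algebra A C := ((algebraMap A' C).comp (e.symm : A →+* A')).toAlgebra
  have hAC : ∀ a, algebraMap A C a = algebraMap A' C (e.symm a) := fun a => rfl
  let ψ' : B →ₐ[A] C ⧸ J :=
    { ψ.toRingHom with
      commutes' := fun a => by
        have h1 : algebraMap A B a = algebraMap A' B (e.symm a) := by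
          rw [he, e.apply_symm_apply]
        change ψ (algebraMap A B a) = _
        rw [h1, ψ.commutes]
        rfl }
  obtain ⟨χ, hχ⟩ := h C J hJ ψ' hψ
  refine ⟨{ χ.toRingHom with commutes' := fun a' => ?_ }, ?_⟩
  · change χ (algebraMap A' B a') = _
    rw [he, χ.commutes, hAC, e.symm_apply_apply]
  · ext b
    exact congrArg (fun f : B →ₐ[A] C ⧸ J => f b) hχ

theorem isAdicComplete_quotient {C : Type u} [CommRing C] [IsLocalRing C] [IsNoetherianRing C]
    [IsAdicComplete (maximalIdeal C) C] (K : Ideal C) [IsLocalRing (C ⧸ K)] :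
    IsAdicComplete (maximalIdeal (C ⧸ K)) (C ⧸ K) := by
  have hmQ : (maximalIdeal C).map (algebraMap C (C ⧸ K)) = maximalIdeal (C ⧸ K) :=
    Groth.Agent.Lib.Helper21.DepthKit.map_maximalIdeal_of_surjective Ideal.Quotient.mk_surjective
  have h1 : IsAdicComplete (maximalIdeal C) (C ⧸ K) :=
    Groth.Agent.S3866.result C (maximalIdeal C) (C ⧸ K)
  rw [← hmQ]
  have _ : IsHausdorff ((maximalIdeal C).map (algebraMap C (C ⧸ K))) (C ⧸ K) :=
    (IsHausdorff.map_algebraMap_iff (I := maximalIdeal C) (S := C ⧸ K)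
      (M := C ⧸ K)).2 h1.toIsHausdorff
  have _ : IsPrecomplete ((maximalIdeal C).map (algebraMap C (C ⧸ K))) (C ⧸ K) :=
    (IsPrecomplete.map_algebraMap_iff (I := maximalIdeal C) (S := C ⧸ K)
      (M := C ⧸ K)).2 h1.toIsPrecomplete
  exact {}

section Retract

variable {R S A B : Type u} [CommRing R] [CommRing S] [CommRing A] [CommRing B]
  [Algebra R S] [Module.Flat R S] [Algebra A B]
  [IsLocalRing S] [IsNoetherianRing S] [IsAdicComplete (maximalIdeal S) S]
  [IsLocalRing B] [IsNoetherianRing B]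

theorem flat_of_retract (ρ : R →+* A) (σ : S →+* B) (hρ : Function.Surjective ρ)
    (hσ : Function.Surjective σ) (hστ : ∀ r, σ (algebraMap R S r) = algebraMap A B (ρ r))
    (h : CAlgX.IsAdicFormallySmooth A B (maximalIdeal B)) : (algebraMap A B).Flat := by
  classical
  have hflat' : Module.Flat (R ⧸ RingHom.ker ρ) (S ⧸ (RingHom.ker ρ).map (algebraMap R S)) :=
    Groth.Agent.Lib.Helper2.QuotFlat.flat_quotient_of_flat_tensor (RingHom.ker ρ)
  let e : (R ⧸ RingHom.ker ρ) ≃+* A := RingHom.quotientKerEquivOfSurjective hρ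
  have he : ∀ r, e (Ideal.Quotient.mk (RingHom.ker ρ) r) = ρ r := fun r => rfl
  let algB : Algebra (R ⧸ RingHom.ker ρ) B :=
    ((algebraMap A B).comp (e : (R ⧸ RingHom.ker ρ) →+* A)).toAlgebra
  have halgB : ∀ a', algebraMap (R ⧸ RingHom.ker ρ) B a' = algebraMap A B (e a') :=
    fun a' => rfl
  have h' : CAlgX.IsAdicFormallySmooth (R ⧸ RingHom.ker ρ) B (maximalIdeal B) :=
    adicSmooth_of_ringEquiv_base e halgB _ h
  have hB := (Groth.Agent.S4537.result (A := R ⧸ RingHom.ker ρ) (maximalIdeal B)).1 h'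
  have hISσ : ∀ x ∈ (RingHom.ker ρ).map (algebraMap R S), σ x = 0 := by
    have : (RingHom.ker ρ).map (algebraMap R S) ≤ RingHom.ker σ := by
      rw [Ideal.map_le_iff_le_comap]
      intro r hr
      rw [Ideal.mem_comap, RingHom.mem_ker, hστ, (RingHom.mem_ker).1 hr, map_zero]
    intro x hx
    exact this hx
  have hISne : (RingHom.ker ρ).map (algebraMap R S) ≠ ⊤ := by
    intro htop
    have : (1 : S) ∈ (RingHom.ker ρ).map (algebraMap R S) := htop ▸ Submodule.mem_top
    have h1 := hISσ 1 this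
    rw [map_one] at h1
    exact one_ne_zero h1
  have hnt : Nontrivial (S ⧸ (RingHom.ker ρ).map (algebraMap R S)) :=
    Ideal.Quotient.nontrivial_iff.2 hISne
  have hloc : IsLocalRing (S ⧸ (RingHom.ker ρ).map (algebraMap R S)) :=
    IsLocalRing.of_surjective' _ Ideal.Quotient.mk_surjective
  have hcomplS' : IsAdicComplete (maximalIdeal (S ⧸ (RingHom.ker ρ).map (algebraMap R S)))
      (S ⧸ (RingHom.ker ρ).map (algebraMap R S)) :=
    isAdicComplete_quotient ((RingHom.ker ρ).map (algebraMap R S))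
  let π₀ : (S ⧸ (RingHom.ker ρ).map (algebraMap R S)) →+* B :=
    Ideal.Quotient.lift ((RingHom.ker ρ).map (algebraMap R S)) σ hISσ
  have hπ₀ : ∀ x, π₀ (Ideal.Quotient.mk _ x) = σ x := fun x => rfl
  let π : (S ⧸ (RingHom.ker ρ).map (algebraMap R S)) →ₐ[R ⧸ RingHom.ker ρ] B :=
    { π₀ with
      commutes' := fun a' => by
        obtain ⟨r, rfl⟩ := Ideal.Quotient.mk_surjective a'
        change π₀ (Ideal.Quotient.mk _ (algebraMap R S r)) = _
        rw [hπ₀, halgB, he, hστ] }
  have hπ : Function.Surjective π := by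
    intro b
    obtain ⟨x, rfl⟩ := hσ b
    exact ⟨Ideal.Quotient.mk _ x, rfl⟩
  have hJne : RingHom.ker π ≠ ⊤ := RingHom.ker_ne_top _
  have hJle : RingHom.ker π ≤ maximalIdeal (S ⧸ (RingHom.ker ρ).map (algebraMap R S)) :=
    le_maximalIdeal hJne
  let eq : ((S ⧸ (RingHom.ker ρ).map (algebraMap R S)) ⧸ RingHom.ker π) ≃ₐ[R ⧸ RingHom.ker ρ] B :=
    Ideal.quotientKerAlgEquivOfSurjective hπ
  have heq : ∀ x, eq (Ideal.Quotient.mk (RingHom.ker π) x) = π x := fun x => rfl
  have hnt2 : Nontrivial ((S ⧸ (RingHom.ker ρ).map (algebraMap R S)) ⧸ RingHom.ker π) :=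
    Ideal.Quotient.nontrivial_iff.2 hJne
  have hloc2 : IsLocalRing ((S ⧸ (RingHom.ker ρ).map (algebraMap R S)) ⧸ RingHom.ker π) :=
    IsLocalRing.of_surjective' _ Ideal.Quotient.mk_surjective
  have hne : (maximalIdeal (S ⧸ (RingHom.ker ρ).map (algebraMap R S))).map
      (Ideal.Quotient.mk (RingHom.ker π)) ≠ ⊤ := by
    intro htop
    have h1 := congrArg (Ideal.comap (Ideal.Quotient.mk (RingHom.ker π))) htop
    rw [Ideal.comap_map_of_surjective _ Ideal.Quotient.mk_surjective, ← RingHom.ker_eq_comap_bot,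
      Ideal.mk_ker, sup_eq_left.2 hJle, Ideal.comap_top] at h1
    exact (maximalIdeal.isMaximal _).ne_top h1
  have haus : IsHausdorff ((maximalIdeal (S ⧸ (RingHom.ker ρ).map (algebraMap R S))).map
      (Ideal.Quotient.mk (RingHom.ker π)))
      ((S ⧸ (RingHom.ker ρ).map (algebraMap R S)) ⧸ RingHom.ker π) :=
    IsHausdorff.of_isLocalRing _ _ hne
  let u : B →ₐ[R ⧸ RingHom.ker ρ] ((S ⧸ (RingHom.ker ρ).map (algebraMap R S)) ⧸ RingHom.ker π) :=
    eq.symm
  have hu : (maximalIdeal B ^ 1).map u.toRingHom ≤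
      (maximalIdeal (S ⧸ (RingHom.ker ρ).map (algebraMap R S))).map
        (Ideal.Quotient.mk (RingHom.ker π)) := by
    rw [pow_one, Ideal.map_le_iff_le_comap]
    intro b hb
    rw [Ideal.mem_comap]
    obtain ⟨x, hx⟩ := Ideal.Quotient.mk_surjective (u b)
    have hxb : π x = b := by
      rw [← heq, hx]
      exact eq.apply_symm_apply b
    change u b ∈ _
    rw [← hx]
    apply Ideal.mem_map_of_mem
    rw [mem_maximalIdeal, mem_nonunits_iff]
    intro hxu
    have : IsUnit b := hxb ▸ hxu.map π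
    exact hb this
  obtain ⟨v, -, hv⟩ := AdicLift.exists_lift_adicComplete ⊥ (maximalIdeal B)
    (maximalIdeal (S ⧸ (RingHom.ker ρ).map (algebraMap R S))) hB
    ⟨1, by rw [pow_one, Ideal.map_bot]; exact bot_le⟩ (RingHom.ker π)
    ⟨1, by rw [pow_one]; exact hJle⟩ u ⟨1, hu⟩
  have hπv : ∀ b, π (v b) = b := by
    intro b
    rw [← heq]
    have := congrArg (fun f : B →ₐ[R ⧸ RingHom.ker ρ] _ => f b) hv
    change Ideal.Quotient.mk (RingHom.ker π) (v b) = u b at this
    rw [this]
    exact eq.apply_symm_apply b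
  have hflatB : Module.Flat (R ⧸ RingHom.ker ρ) B :=
    Module.Flat.of_retract v.toLinearMap π.toLinearMap (LinearMap.ext hπv)
  have h1 : (algebraMap (R ⧸ RingHom.ker ρ) B).Flat := RingHom.flat_algebraMap_iff.2 hflatB
  have h2 : algebraMap A B =
      (algebraMap (R ⧸ RingHom.ker ρ) B).comp (e.symm : A →+* _) := by
    ext a
    rw [RingHom.comp_apply, halgB]
    change _ = algebraMap A B (e (e.symm a))
    rw [e.apply_symm_apply]
  rw [h2]
  exact RingHom.Flat.comp (RingHom.Flat.of_bijective e.symm.bijective) h1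

end Retract

variable {A B : Type u} [CommRing A] [CommRing B] [IsLocalRing A] [IsLocalRing B]
  [IsNoetherianRing A] [IsNoetherianRing B]
  [IsAdicComplete (maximalIdeal A) A] [IsAdicComplete (maximalIdeal B) B]
  [Algebra A B] [IsLocalHom (algebraMap A B)]

theorem flat_of_adicSmooth_complete (h : CAlgX.IsAdicFormallySmooth A B (maximalIdeal B)) :
    (algebraMap A B).Flat := by
  classical
  obtain ⟨Λ, Λ', _, _, _, _, _, _, n, m, ρ, σ, τ, hρ, hσ, hcomm, hflat⟩ :=
    exists_presentation_full A B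
  let _ : Algebra (MvPowerSeries (Fin n) Λ) (MvPowerSeries (Fin m) Λ') := τ.toAlgebra
  have halg : algebraMap (MvPowerSeries (Fin n) Λ) (MvPowerSeries (Fin m) Λ') = τ :=
    RingHom.algebraMap_toAlgebra τ
  have _ : Module.Flat (MvPowerSeries (Fin n) Λ) (MvPowerSeries (Fin m) Λ') := hflat
  have hcomplS : IsAdicComplete (maximalIdeal (MvPowerSeries (Fin m) Λ'))
      (MvPowerSeries (Fin m) Λ') :=
    { toIsHausdorff := inferInstance
      toIsPrecomplete := Helper1.PSDecomp.isPrecomplete }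
  refine flat_of_retract ρ σ hρ hσ (fun r => ?_) h
  rw [halg]
  exact congrArg (fun f : MvPowerSeries (Fin n) Λ →+* B => f r) hcomm

end Groth.Agent.Lib.Helper5.FlatCohen
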