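import Groth.Agent.Lib.helper19.RegularLocal
import Mathlib

set_option autoImplicit false
universe u

namespace Groth.Agent.Lib.Helper5.RegFlatFiber

open IsLocalRing

theorem spanFinrank_maximalIdeal_le_quotient_add {R : Type*} [CommRing R] [IsLocalRing R]
    [IsNoetherianRing R] (I : Ideal R) (hI : I ≤ maximalIdeal R)
    [IsLocalRing (R ⧸ I)] :
    (maximalIdeal R).spanFinrank ≤ (maximalIdeal (R ⧸ I)).spanFinrank + I.spanFinrank := by
  classical
  let mk := Ideal.Quotient.mk I
  have hmk : Function.Surjective mk := Ideal.Quotient.mk_surjective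
  obtain ⟨s', hs'c, hs'⟩ := Submodule.FG.exists_span_finset_card_eq_spanFinrank
    (p := maximalIdeal (R ⧸ I)) (IsNoetherian.noetherian _)
  obtain ⟨t, htc, ht⟩ := Submodule.FG.exists_span_finset_card_eq_spanFinrank
    (p := I) (IsNoetherian.noetherian _)
  let lift : R ⧸ I → R := Function.surjInv hmk
  have hlift : ∀ y, mk (lift y) = y := Function.surjInv_eq hmk
  let S : Finset R := t ∪ (s'.image lift)
  have hmax : maximalIdeal (R ⧸ I) = (maximalIdeal R).map mk :=
    Groth.Agent.Lib.helper19.maximalIdeal_quotient I
  have hcomap : (maximalIdeal (R ⧸ I)).comap mk = maximalIdeal R := by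
    rw [hmax, Ideal.comap_map_of_surjective mk hmk, sup_eq_left]
    intro x hx
    have hx' : x ∈ I := by
      rw [← Ideal.mk_ker (I := I)]
      exact hx
    exact hI hx'
  have hspan : Ideal.span (S : Set R) = maximalIdeal R := by
    apply le_antisymm
    · rw [Ideal.span_le]
      intro x hx
      rw [Finset.coe_union, Finset.coe_image] at hx
      rcases hx with hx | ⟨y, hy, rfl⟩
      · apply hI
        rw [← ht]
        exact Submodule.subset_span hx
      · rw [SetLike.mem_coe, ← hcomap, Ideal.mem_comap, hlift]
        rw [← hs']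
        exact Submodule.subset_span hy
    · intro x hx
      have h1 : mk x ∈ (Ideal.span ((s'.image lift : Finset R) : Set R)).map mk := by
        rw [Ideal.map_span, Finset.coe_image, ← Set.image_comp]
        have : (mk ∘ lift) '' (s' : Set (R ⧸ I)) = (s' : Set (R ⧸ I)) := by
          ext y
          simp [Function.comp, hlift]
        rw [this]
        change mk x ∈ Submodule.span _ _
        rw [hs', ← Ideal.mem_comap, hcomap]
        exact hx
      have h2 : x ∈ ((Ideal.span ((s'.image lift : Finset R) : Set R)).map mk).comap mk := h1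
      rw [Ideal.comap_map_of_surjective mk hmk] at h2
      obtain ⟨a, ha, b, hb, rfl⟩ := Submodule.mem_sup.mp h2
      have hb' : b ∈ I := by
        rw [← Ideal.mk_ker (I := I)]
        exact hb
      refine Ideal.add_mem _ ?_ ?_
      · refine Ideal.span_mono ?_ ha
        intro z hz
        exact Finset.mem_union_right _ hz
      · rw [← ht] at hb'
        refine Ideal.span_mono ?_ hb'
        intro z hz
        exact Finset.mem_union_left _ hz
  calc (maximalIdeal R).spanFinrank = (Ideal.span (S : Set R)).spanFinrank := by rw [hspan]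
    _ ≤ (S : Set R).ncard := Submodule.spanFinrank_span_le_ncard_of_finite S.finite_toSet
    _ = S.card := Set.ncard_coe_finset S
    _ ≤ t.card + (s'.image lift).card := Finset.card_union_le _ _
    _ ≤ t.card + s'.card := Nat.add_le_add_left Finset.card_image_le _
    _ = (maximalIdeal (R ⧸ I)).spanFinrank + I.spanFinrank := by rw [hs'c, htc, add_comm]

/-- flat local homomorphism with regular base and regular closed fibre has regular total space. -/
theorem regular_of_flat_of_regular_fiber (A B : Type u) [CommRing A] [CommRing B] [Algebra A B]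
    [IsLocalRing B] [IsLocalHom (algebraMap A B)] [IsNoetherianRing B]
    [Module.Flat A B] [IsRegularLocalRing A]
    (hfib : IsRegularLocalRing (B ⧸ (maximalIdeal A).map (algebraMap A B))) :
    IsRegularLocalRing B := by
  apply IsRegularLocalRing.of_spanFinrank_maximalIdeal_le
  have hIle : (maximalIdeal A).map (algebraMap A B) ≤ maximalIdeal B :=
    ((IsLocalRing.local_hom_TFAE (algebraMap A B)).out 0 2).mp ‹_›
  have h1 := spanFinrank_maximalIdeal_le_quotient_add ((maximalIdeal A).map (algebraMap A B)) hIle
  have h2 : ((maximalIdeal A).map (algebraMap A B)).spanFinrank ≤ (maximalIdeal A).spanFinrank :=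
    Ideal.spanFinrank_map_le_of_fg _ (IsNoetherian.noetherian _)
  have hover : (maximalIdeal B).LiesOver (maximalIdeal A) :=
    ⟨(IsLocalRing.maximalIdeal_comap (algebraMap A B)).symm⟩
  have h3 := Ideal.height_eq_height_add_of_liesOver_of_hasGoingDown (maximalIdeal A)
    (maximalIdeal B)
  have hmax : (maximalIdeal B).map
      (Ideal.Quotient.mk ((maximalIdeal A).map (algebraMap A B))) =
      maximalIdeal (B ⧸ (maximalIdeal A).map (algebraMap A B)) :=
    (Groth.Agent.Lib.helper19.maximalIdeal_quotient _).symm
  rw [hmax] at h3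
  have h4 : (((maximalIdeal A).spanFinrank : ℕ) : WithBot ℕ∞) = ringKrullDim A :=
    IsRegularLocalRing.spanFinrank_maximalIdeal
  have h5 : (((maximalIdeal (B ⧸ (maximalIdeal A).map (algebraMap A B))).spanFinrank : ℕ) :
      WithBot ℕ∞) = ringKrullDim (B ⧸ (maximalIdeal A).map (algebraMap A B)) :=
    IsRegularLocalRing.spanFinrank_maximalIdeal
  rw [← IsLocalRing.maximalIdeal_height_eq_ringKrullDim (R := B), h3, WithBot.coe_add,
    IsLocalRing.maximalIdeal_height_eq_ringKrullDim,
    IsLocalRing.maximalIdeal_height_eq_ringKrullDim, ← h4, ← h5]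
  have h6 : (maximalIdeal B).spanFinrank ≤
      (maximalIdeal A).spanFinrank +
        (maximalIdeal (B ⧸ (maximalIdeal A).map (algebraMap A B))).spanFinrank := by omega
  exact_mod_cast h6

end Groth.Agent.Lib.Helper5.RegFlatFiber
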