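import Groth.Prelude.Def_CAlgX
import Mathlib.RingTheory.Smooth.Basic
import Mathlib.RingTheory.Ideal.Quotient.Nilpotent
import Mathlib.RingTheory.Localization.AtPrime.Basic

set_option autoImplicit false
set_option linter.unusedSectionVars false
universe u

namespace Groth.Agent.Lib.Helper5.AdicBase

section Discrete

variable {R S : Type u} [CommRing R] [CommRing S] [Algebra R S]

/-- formal smoothness for the discrete topology implies formal smoothness for any adic one -/
theorem adic_of_formallySmooth [Algebra.FormallySmooth R S] (𝔫 : Ideal S) :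
    CAlgX.IsAdicFormallySmooth R S 𝔫 := by
  intro A _ _ J hJ ψ _
  have hJn : IsNilpotent J := ⟨2, hJ⟩
  refine ⟨Algebra.FormallySmooth.lift J hJn ψ, ?_⟩
  ext x
  exact Algebra.FormallySmooth.mk_lift J hJn ψ x

end Discrete

section Base

variable {A Aₘ C : Type u} [CommRing A] [CommRing Aₘ] [CommRing C] [Algebra A Aₘ] [Algebra Aₘ C]
  [Algebra A C] [IsScalarTower A Aₘ C]

/-- restriction of the base along a localization -/
theorem adic_restrictBase (M₀ : Submonoid A) [IsLocalization M₀ Aₘ] (I : Ideal C)
    (h : CAlgX.IsAdicFormallySmooth Aₘ C I) : CAlgX.IsAdicFormallySmooth A C I := by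
  intro E _ _ J hJ ψ hψ
  have hunit : ∀ s : M₀, IsUnit (algebraMap A E s) := by
    intro s
    apply (IsNilpotent.isUnit_quotient_mk_iff (I := J) ⟨2, hJ⟩).mp
    have h1 : Ideal.Quotient.mk J (algebraMap A E s) =
        ψ (algebraMap Aₘ C (algebraMap A Aₘ s)) := by
      rw [← IsScalarTower.algebraMap_apply A Aₘ C, ψ.commutes]
      rfl
    rw [h1]
    exact ((IsLocalization.map_units Aₘ s).map (algebraMap Aₘ C)).map ψ
  let φ : Aₘ →+* E := IsLocalization.lift hunit
  have hφ : ∀ a : A, φ (algebraMap A Aₘ a) = algebraMap A E a := IsLocalization.lift_eq hunit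
  let _ : Algebra Aₘ E := φ.toAlgebra
  have _ : IsScalarTower A Aₘ E := IsScalarTower.of_algebraMap_eq (fun a => (hφ a).symm)
  have hcomm : ∀ r : Aₘ, ψ (algebraMap Aₘ C r) = algebraMap Aₘ (E ⧸ J) r := by
    intro r
    have : (ψ : C →+* E ⧸ J).comp (algebraMap Aₘ C) = algebraMap Aₘ (E ⧸ J) := by
      refine IsLocalization.ringHom_ext M₀ ?_
      ext a
      simp only [RingHom.comp_apply]
      rw [← IsScalarTower.algebraMap_apply A Aₘ C, ← IsScalarTower.algebraMap_apply A Aₘ (E ⧸ J)]
      exact ψ.commutes a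
    exact RingHom.congr_fun this r
  let ψ' : C →ₐ[Aₘ] E ⧸ J := { (ψ : C →+* E ⧸ J) with commutes' := hcomm }
  obtain ⟨χ, hχ⟩ := h E J hJ ψ' hψ
  refine ⟨χ.restrictScalars A, ?_⟩
  ext x
  exact congrArg (fun f => f x) hχ

end Base

section Local

variable {R S : Type*} [CommRing R] [CommRing S] [IsLocalRing R] [IsLocalRing S]

open IsLocalRing in
theorem map_maximalIdeal_of_surjective (f : R →+* S) (hf : Function.Surjective f) :
    (maximalIdeal R).map f = maximalIdeal S := by
  apply le_antisymm
  · rw [Ideal.map_le_iff_le_comap]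
    intro x hx
    rw [Ideal.mem_comap, mem_maximalIdeal, mem_nonunits_iff]
    intro hu
    rw [mem_maximalIdeal, mem_nonunits_iff] at hx
    apply hx
    obtain ⟨y, hy⟩ := hf (↑hu.unit⁻¹ : S)
    have h1 : f (x * y) = 1 := by rw [map_mul, hy]; exact hu.mul_val_inv
    by_contra hx'
    have hxy : x * y ∈ maximalIdeal R := Ideal.mul_mem_right _ _ ((mem_maximalIdeal x).2 hx')
    have h1y : (1 - x * y) ∈ RingHom.ker f := by rw [RingHom.mem_ker, map_sub, map_one, h1, sub_self]
    have hker : RingHom.ker f ≤ maximalIdeal R := by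
      apply IsLocalRing.le_maximalIdeal
      intro htop
      have : (1 : R) ∈ RingHom.ker f := htop ▸ Submodule.mem_top
      rw [RingHom.mem_ker, map_one] at this
      exact one_ne_zero this
    have : (1 : R) ∈ maximalIdeal R := by
      have := Ideal.add_mem _ (hker h1y) hxy
      simpa using this
    exact (Ideal.ne_top_iff_one _).1 (IsLocalRing.maximalIdeal.isMaximal R).ne_top this
  · intro y hy
    obtain ⟨x, rfl⟩ := hf y
    apply Ideal.mem_map_of_mem
    rw [mem_maximalIdeal, mem_nonunits_iff] at hy ⊢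
    intro hu
    exact hy (hu.map f)

end Local

end Groth.Agent.Lib.Helper5.AdicBase
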