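import Groth.Agent.Lib.Helper5.SerreLoc
import Groth.Agent.Lib.Helper5.RegularProd
import Groth.Agent.Lib.Helper17.RegFlat
import Groth.Agent.Lib.helper19.CompletionNoetherian
import Mathlib

set_option autoImplicit false
set_option linter.unusedSectionVars false
universe u

namespace Groth.Agent.Lib.Helper5.RegCompletion

open IsLocalRing

theorem isRegularRing_of_isRegularLocalRing (R : Type u) [CommRing R] [IsRegularLocalRing R] :
    IsRegularRing R :=
  ⟨fun p _ => Groth.Agent.Lib.Helper5.SerreLoc.localization_regular R p⟩

theorem isRegularRing_of_maximal (R : Type u) [CommRing R] [IsNoetherianRing R]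
    (h : ∀ (m : Ideal R) [m.IsMaximal], IsRegularLocalRing (Localization.AtPrime m)) :
    IsRegularRing R := by
  rw [isRegularRing_iff]
  intro p hp
  obtain ⟨m, hm, hpm⟩ := Ideal.exists_le_maximal p hp.ne_top
  have hreg : IsRegularLocalRing (Localization.AtPrime m) := h m
  have hR : IsRegularRing (Localization.AtPrime m) := isRegularRing_of_isRegularLocalRing _
  have hle : m.primeCompl ≤ p.primeCompl := fun x hx hxp => hx (hpm hxp)
  let _ : Algebra (Localization m.primeCompl) (Localization p.primeCompl) :=
    IsLocalization.localizationAlgebraOfSubmonoidLe _ _ m.primeCompl p.primeCompl hle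
  have htow : IsScalarTower R (Localization m.primeCompl) (Localization p.primeCompl) :=
    IsLocalization.localization_isScalarTower_of_submonoid_le _ _ m.primeCompl p.primeCompl hle
  have hloc : IsLocalization (p.primeCompl.map (algebraMap R (Localization m.primeCompl)))
      (Localization p.primeCompl) :=
    IsLocalization.isLocalization_of_submonoid_le _ _ m.primeCompl p.primeCompl hle
  have hR2 : IsRegularRing (Localization p.primeCompl) :=
    Groth.Agent.Lib.Helper5.RegularProd.isRegularRing_of_isLocalization
      (p.primeCompl.map (algebraMap R (Localization m.primeCompl))) (Localization p.primeCompl)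
  exact IsRegularLocalRing.of_isRegularRing_of_isLocalRing _

theorem regular_of_flat_map_eq {A B : Type u} [CommRing A] [CommRing B] [Algebra A B]
    [IsLocalRing A] [IsLocalRing B] [IsLocalHom (algebraMap A B)] [IsNoetherianRing B]
    [Module.Flat A B] [IsRegularLocalRing A]
    (hmap : (maximalIdeal A).map (algebraMap A B) = maximalIdeal B) : IsRegularLocalRing B := by
  have h1 := Groth.Agent.Lib.Helper17.RegFlat.spanFinrank_maximalIdeal_eq hmap
  have hover : (maximalIdeal B).LiesOver (maximalIdeal A) :=
    ⟨(IsLocalRing.maximalIdeal_comap (algebraMap A B)).symm⟩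
  have h := Ideal.height_eq_height_add_of_liesOver_of_hasGoingDown (maximalIdeal A)
    (maximalIdeal B)
  have hmap' : (maximalIdeal B).map
      (Ideal.Quotient.mk ((maximalIdeal A).map (algebraMap A B))) = ⊥ := by
    rw [hmap, Ideal.map_quotient_self]
  have hnt : Nontrivial (B ⧸ (maximalIdeal A).map (algebraMap A B)) := by
    rw [hmap]
    exact Ideal.Quotient.nontrivial_iff.mpr (maximalIdeal.isMaximal _).ne_top
  rw [hmap', Ideal.height_bot, add_zero] at h
  rw [isRegularLocalRing_iff, h1, ← IsLocalRing.maximalIdeal_height_eq_ringKrullDim, h,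
    IsLocalRing.maximalIdeal_height_eq_ringKrullDim]
  exact IsRegularLocalRing.spanFinrank_maximalIdeal

end Groth.Agent.Lib.Helper5.RegCompletion
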