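import Groth.Agent.Lib.Helper5.AdicRegE
import Groth.Agent.Lib.Helper5.RegCompletion
import Groth.Prelude.Def_Found
import Mathlib

set_option autoImplicit false
universe u

namespace Groth.Agent.Lib.Helper5.AdicReg

open IsLocalRing TensorProduct

/-- base change of adic formal smoothness. -/
theorem adicSmooth_baseChange {k k' A : Type u} [CommRing k] [CommRing k'] [Algebra k k']
    [CommRing A] [Algebra k A] (𝔫 : Ideal A) (h : CAlgX.IsAdicFormallySmooth k A 𝔫) :
    CAlgX.IsAdicFormallySmooth k' (k' ⊗[k] A)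
      (𝔫.map (Algebra.TensorProduct.includeRight : A →ₐ[k] k' ⊗[k] A).toRingHom) := by
  intro T _ _ J hJ ψ hψ
  obtain ⟨m, hm⟩ := hψ
  let _ : Algebra k T := ((algebraMap k' T).comp (algebraMap k k')).toAlgebra
  have hst : IsScalarTower k k' T := IsScalarTower.of_algebraMap_eq (fun _ => rfl)
  let ι : A →ₐ[k] k' ⊗[k] A := Algebra.TensorProduct.includeRight
  let ψ₀ : A →ₐ[k] T ⧸ J := (ψ.restrictScalars k).comp ι
  obtain ⟨χ₀, hχ₀⟩ := h T J hJ ψ₀ ⟨m, fun x hx => by
    apply hm
    have : ι x ∈ (𝔫 ^ m).map ι.toRingHom := Ideal.mem_map_of_mem _ hx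
    rwa [Ideal.map_pow] at this⟩
  let χ : k' ⊗[k] A →ₐ[k'] T :=
    Algebra.TensorProduct.lift (Algebra.ofId k' T) χ₀ (fun _ _ => Commute.all _ _)
  refine ⟨χ, ?_⟩
  apply Algebra.TensorProduct.ext
  · ext
  · ext a
    have := AlgHom.congr_fun hχ₀ a
    simpa [χ, ψ₀, ι] using this

/-- localization of adic formal smoothness at a prime containing the ideal of definition. -/
theorem adicSmooth_localization {R S : Type u} [CommRing R] [CommRing S] [Algebra R S]
    (I : Ideal S) (h : CAlgX.IsAdicFormallySmooth R S I) (Q : Ideal S) [Q.IsPrime] (hIQ : I ≤ Q) :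
    CAlgX.IsAdicFormallySmooth R (Localization.AtPrime Q)
      (maximalIdeal (Localization.AtPrime Q)) := by
  intro T _ _ J hJ ψ hψ
  obtain ⟨m, hm⟩ := hψ
  have hJn : IsNilpotent J := ⟨2, hJ⟩
  let ι : S →ₐ[R] Localization.AtPrime Q := IsScalarTower.toAlgHom R S _
  obtain ⟨χ₁, hχ₁⟩ := h T J hJ (ψ.comp ι) ⟨m, fun x hx => by
    apply hm
    have h1 : ι x ∈ (I ^ m).map (algebraMap S (Localization.AtPrime Q)) :=
      Ideal.mem_map_of_mem _ hx
    rw [Ideal.map_pow] at h1
    refine Ideal.pow_right_mono ?_ m h1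
    rw [← Localization.AtPrime.map_eq_maximalIdeal]
    exact Ideal.map_mono hIQ⟩
  have hunit : ∀ y : Q.primeCompl, IsUnit (χ₁ y) := by
    intro y
    rw [← hJn.isUnit_quotient_mk_iff]
    have := AlgHom.congr_fun hχ₁ (y : S)
    change Ideal.Quotient.mk J (χ₁ y) = ψ (ι y) at this
    rw [this]
    exact (IsLocalization.map_units (Localization.AtPrime Q) y).map ψ
  let χ : Localization.AtPrime Q →ₐ[R] T := IsLocalization.liftAlgHom (M := Q.primeCompl) hunit
  refine ⟨χ, ?_⟩
  apply IsLocalization.algHom_ext Q.primeCompl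
  ext s
  have := AlgHom.congr_fun hχ₁ s
  change Ideal.Quotient.mk J (IsLocalization.lift hunit (algebraMap S _ s)) =
    ψ (algebraMap S _ s)
  rw [IsLocalization.lift_eq]
  exact this

/-- a Noetherian local algebra over a field which is adically formally smooth is geometrically
regular. -/
theorem geomRegular_of_adicSmooth {k A : Type u} [Field k] [CommRing A] [IsLocalRing A]
    [IsNoetherianRing A] [Algebra k A] (h : CAlgX.IsAdicFormallySmooth k A (maximalIdeal A)) :
    CAlg.IsGeometricallyRegular k A := by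
  intro k' _ _ hfin
  have hfinA : Module.Finite A (A ⊗[k] k') := inferInstance
  have hN1 : IsNoetherianRing (A ⊗[k] k') := IsNoetherianRing.of_finite A _
  have hN : IsNoetherianRing (k' ⊗[k] A) :=
    isNoetherianRing_of_ringEquiv _ (Algebra.TensorProduct.comm k A k').toRingEquiv
  apply RegCompletion.isRegularRing_of_maximal
  intro Q hQ
  let ι : A →+* k' ⊗[k] A := (Algebra.TensorProduct.includeRight : A →ₐ[k] k' ⊗[k] A).toRingHom
  have hint : ι.IsIntegral := by
    have h1 : (algebraMap A (A ⊗[k] k')).IsIntegral := algebraMap_isIntegral_iff.2 inferInstance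
    have h2 : ((Algebra.TensorProduct.comm k A k').toRingEquiv :
        A ⊗[k] k' →+* k' ⊗[k] A).IsIntegral :=
      RingHom.isIntegral_of_surjective _ (RingEquiv.surjective _)
    have h3 := RingHom.IsIntegral.trans _ _ h1 h2
    have h4 : ι = ((Algebra.TensorProduct.comm k A k').toRingEquiv :
        A ⊗[k] k' →+* k' ⊗[k] A).comp (algebraMap A (A ⊗[k] k')) := by
      ext a
      simp [ι]
    rw [h4]
    exact h3
  have hmax : (Q.comap ι).IsMaximal := Ideal.isMaximal_comap_of_isIntegral_of_isMaximal' ι hint Q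
  have hcomap : Q.comap ι = maximalIdeal A := IsLocalRing.eq_maximalIdeal hmax
  have hle : (maximalIdeal A).map ι ≤ Q := by
    rw [← hcomap]
    exact Ideal.map_comap_le
  have h1 := adicSmooth_baseChange (k' := k') (maximalIdeal A) h
  have h2 := adicSmooth_localization _ h1 Q hle
  exact isRegularLocalRing_of_adicSmooth h2

end Groth.Agent.Lib.Helper5.AdicReg
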