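import Mathlib
import Groth.Prelude.Def_CAlgX
import Groth.Agent.S9318

set_option autoImplicit false

namespace Groth.Agent.Lib.Helper5.ComplBase

universe u

variable {R : Type u} [CommRing R] (𝔪 : Ideal R)

theorem exists_sub_mem (h𝔪 : 𝔪.FG) (N : ℕ) (x : AdicCompletion 𝔪 R) :
    ∃ r : R, x - algebraMap R (AdicCompletion 𝔪 R) r ∈
      (𝔪 ^ N).map (algebraMap R (AdicCompletion 𝔪 R)) := by
  obtain ⟨r, hr⟩ := Ideal.Quotient.mk_surjective (AdicCompletion.evalₐ 𝔪 N x)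
  refine ⟨r, ?_⟩
  rw [Ideal.map_pow]
  apply Groth.Agent.S9318.ker_evalₐ_le 𝔪 h𝔪
  rw [map_sub, AdicCompletion.algebraMap_apply, Algebra.algebraMap_self, RingHom.id_apply,
    AdicCompletion.evalₐ_of, hr, sub_self]

theorem ringHom_ext {X : Type*} [CommRing X] (h𝔪 : 𝔪.FG) (f g : AdicCompletion 𝔪 R →+* X) (N : ℕ)
    (hf : ∀ a ∈ 𝔪 ^ N, f (algebraMap R (AdicCompletion 𝔪 R) a) = 0)
    (hg : ∀ a ∈ 𝔪 ^ N, g (algebraMap R (AdicCompletion 𝔪 R) a) = 0)
    (hfg : ∀ r, f (algebraMap R (AdicCompletion 𝔪 R) r) = g (algebraMap R (AdicCompletion 𝔪 R) r)) :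
    f = g := by
  have hkill : ∀ (h : AdicCompletion 𝔪 R →+* X),
      (∀ a ∈ 𝔪 ^ N, h (algebraMap R (AdicCompletion 𝔪 R) a) = 0) →
      ∀ y ∈ (𝔪 ^ N).map (algebraMap R (AdicCompletion 𝔪 R)), h y = 0 := by
    intro h hh
    have : (𝔪 ^ N).map (algebraMap R (AdicCompletion 𝔪 R)) ≤ RingHom.ker h := by
      rw [Ideal.map_le_iff_le_comap]
      intro a ha
      rw [Ideal.mem_comap, RingHom.mem_ker]
      exact hh a ha
    intro y hy
    exact this hy
  ext x
  obtain ⟨r, hr⟩ := exists_sub_mem 𝔪 h𝔪 N x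
  have h1 := hkill f hf _ hr
  have h2 := hkill g hg _ hr
  rw [map_sub, sub_eq_zero] at h1 h2
  rw [h1, h2, hfg]

section Main

variable {T : Type u} [CommRing T] [Algebra R T] [Algebra (AdicCompletion 𝔪 R) T]
  [IsScalarTower R (AdicCompletion 𝔪 R) T] (𝔫' : Ideal T)

theorem adicSmooth_completion_of (h𝔪 : 𝔪.FG) (hc : ∃ c : ℕ, (𝔪 ^ c).map (algebraMap R T) ≤ 𝔫')
    (h : CAlgX.IsAdicFormallySmooth R T 𝔫') :
    CAlgX.IsAdicFormallySmooth (AdicCompletion 𝔪 R) T 𝔫' := by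
  obtain ⟨c, hc⟩ := hc
  intro A _ _ J hJ φ hφ
  obtain ⟨k, hk⟩ := hφ
  let _ : Algebra R A :=
    ((algebraMap (AdicCompletion 𝔪 R) A).comp (algebraMap R (AdicCompletion 𝔪 R))).toAlgebra
  have _ : IsScalarTower R (AdicCompletion 𝔪 R) A := IsScalarTower.of_algebraMap_eq (fun _ => rfl)
  obtain ⟨χ, hχ⟩ := h A J hJ (φ.restrictScalars R) ⟨k, hk⟩
  have hχ' : ∀ t, Ideal.Quotient.mk J (χ t) = φ t := fun t => congrArg (fun f => f t) hχ
  -- the structure map kills a power of `𝔪`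
  have hJmem : ∀ a ∈ 𝔪 ^ (c * k), algebraMap R A a ∈ J := by
    intro a ha
    rw [← Ideal.Quotient.eq_zero_iff_mem]
    have h1 : algebraMap R T a ∈ 𝔫' ^ k := by
      have : algebraMap R T a ∈ ((𝔪 ^ c).map (algebraMap R T)) ^ k := by
        rw [← Ideal.map_pow, ← pow_mul]
        exact Ideal.mem_map_of_mem _ ha
      exact Ideal.pow_right_mono hc k this
    have h2 := hk _ h1
    rw [← hχ', AlgHom.commutes] at h2
    exact h2
  have hzero : ∀ a ∈ 𝔪 ^ (c * k + c * k), algebraMap R A a = 0 := by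
    have : 𝔪 ^ (c * k + c * k) ≤ RingHom.ker (algebraMap R A) := by
      rw [pow_add, Ideal.mul_le]
      intro y hy z hz
      rw [RingHom.mem_ker, map_mul]
      have : algebraMap R A y * algebraMap R A z ∈ J ^ 2 := by
        rw [pow_two]
        exact Ideal.mul_mem_mul (hJmem y hy) (hJmem z hz)
      rwa [hJ] at this
    intro a ha
    exact this ha
  have hlin : (χ : T →+* A).comp (algebraMap (AdicCompletion 𝔪 R) T) =
      algebraMap (AdicCompletion 𝔪 R) A := by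
    apply ringHom_ext 𝔪 h𝔪 _ _ (c * k + c * k)
    · intro a ha
      rw [RingHom.comp_apply, ← IsScalarTower.algebraMap_apply R (AdicCompletion 𝔪 R) T]
      change χ (algebraMap R T a) = 0
      rw [AlgHom.commutes]
      exact hzero a ha
    · intro a ha
      rw [← IsScalarTower.algebraMap_apply R (AdicCompletion 𝔪 R) A]
      exact hzero a ha
    · intro r
      rw [RingHom.comp_apply, ← IsScalarTower.algebraMap_apply R (AdicCompletion 𝔪 R) T,
        ← IsScalarTower.algebraMap_apply R (AdicCompletion 𝔪 R) A]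
      exact χ.commutes r
  refine ⟨{ (χ : T →+* A) with commutes' := fun r => congrArg (fun f => f r) hlin }, ?_⟩
  ext t
  exact hχ' t

theorem adicSmooth_of_completion (h𝔪 : 𝔪.FG) (hc : ∃ c : ℕ, (𝔪 ^ c).map (algebraMap R T) ≤ 𝔫')
    (h : CAlgX.IsAdicFormallySmooth (AdicCompletion 𝔪 R) T 𝔫') :
    CAlgX.IsAdicFormallySmooth R T 𝔫' := by
  obtain ⟨c, hc⟩ := hc
  intro A _ _ J hJ φ hφ
  obtain ⟨k, hk⟩ := hφ
  have hT : ∀ a ∈ 𝔪 ^ (c * k), algebraMap R T a ∈ 𝔫' ^ k := by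
    intro a ha
    have : algebraMap R T a ∈ ((𝔪 ^ c).map (algebraMap R T)) ^ k := by
      rw [← Ideal.map_pow, ← pow_mul]
      exact Ideal.mem_map_of_mem _ ha
    exact Ideal.pow_right_mono hc k this
  have hJmem : ∀ a ∈ 𝔪 ^ (c * k), algebraMap R A a ∈ J := by
    intro a ha
    rw [← Ideal.Quotient.eq_zero_iff_mem]
    have h2 := hk _ (hT a ha)
    rw [AlgHom.commutes] at h2
    exact h2
  have hzero : ∀ a ∈ 𝔪 ^ (c * k + c * k), algebraMap R A a = 0 := by
    have : 𝔪 ^ (c * k + c * k) ≤ RingHom.ker (algebraMap R A) := by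
      rw [pow_add, Ideal.mul_le]
      intro y hy z hz
      rw [RingHom.mem_ker, map_mul]
      have : algebraMap R A y * algebraMap R A z ∈ J ^ 2 := by
        rw [pow_two]
        exact Ideal.mul_mem_mul (hJmem y hy) (hJmem z hz)
      rwa [hJ] at this
    intro a ha
    exact this ha
  let g : AdicCompletion 𝔪 R →+* A :=
    (Ideal.Quotient.lift (𝔪 ^ (c * k + c * k)) (algebraMap R A) hzero).comp
      (AdicCompletion.evalₐ 𝔪 (c * k + c * k)).toRingHom
  have hg : ∀ r, g (algebraMap R (AdicCompletion 𝔪 R) r) = algebraMap R A r := by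
    intro r
    change Ideal.Quotient.lift (𝔪 ^ (c * k + c * k)) (algebraMap R A) hzero
      (AdicCompletion.evalₐ 𝔪 (c * k + c * k) (algebraMap R (AdicCompletion 𝔪 R) r)) = _
    rw [AdicCompletion.algebraMap_apply, Algebra.algebraMap_self, RingHom.id_apply,
      AdicCompletion.evalₐ_of]
    rfl
  let _ : Algebra (AdicCompletion 𝔪 R) A := g.toAlgebra
  have _ : IsScalarTower R (AdicCompletion 𝔪 R) A :=
    IsScalarTower.of_algebraMap_eq (fun r => (hg r).symm)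
  have hlin : (φ : T →+* A ⧸ J).comp (algebraMap (AdicCompletion 𝔪 R) T) =
      (Ideal.Quotient.mk J).comp g := by
    apply ringHom_ext 𝔪 h𝔪 _ _ (c * k + c * k)
    · intro a ha
      rw [RingHom.comp_apply, ← IsScalarTower.algebraMap_apply R (AdicCompletion 𝔪 R) T]
      exact hk _ (hT a (Ideal.pow_le_pow_right (Nat.le_add_right _ _) ha))
    · intro a ha
      rw [RingHom.comp_apply, hg, hzero a ha, map_zero]
    · intro r
      rw [RingHom.comp_apply, ← IsScalarTower.algebraMap_apply R (AdicCompletion 𝔪 R) T,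
        RingHom.comp_apply, hg]
      exact φ.commutes r
  let φ' : T →ₐ[AdicCompletion 𝔪 R] A ⧸ J :=
    { (φ : T →+* A ⧸ J) with commutes' := fun r => congrArg (fun f => f r) hlin }
  obtain ⟨χ, hχ⟩ := h A J hJ φ' ⟨k, hk⟩
  refine ⟨χ.restrictScalars R, ?_⟩
  ext t
  exact congrArg (fun f => f t) hχ

theorem adicSmooth_iff_completion (h𝔪 : 𝔪.FG)
    (hc : ∃ c : ℕ, (𝔪 ^ c).map (algebraMap R T) ≤ 𝔫') :
    CAlgX.IsAdicFormallySmooth R T 𝔫' ↔ CAlgX.IsAdicFormallySmooth (AdicCompletion 𝔪 R) T 𝔫' :=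
  ⟨adicSmooth_completion_of 𝔪 𝔫' h𝔪 hc, adicSmooth_of_completion 𝔪 𝔫' h𝔪 hc⟩

end Main

end Groth.Agent.Lib.Helper5.ComplBase
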