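import Groth.Agent.Lib.Helper5.FlatCohenD
import Groth.Agent.Lib.helper19.ComplMap1
import Groth.Agent.Lib.Helper5.ComplBase
import Groth.Agent.S9231
import Groth.Agent.S9318

set_option autoImplicit false
set_option linter.unusedSectionVars false
universe u

namespace Groth.Agent.Lib.Helper5.FlatCohen

open IsLocalRing

variable {A B : Type u} [CommRing A] [CommRing B] [IsLocalRing A] [IsLocalRing B]
  [IsNoetherianRing A] [IsNoetherianRing B] [Algebra A B] [IsLocalHom (algebraMap A B)]

/-- a local homomorphism of Noetherian local rings which is formally smooth for the adic topology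
is flat -/
theorem flat_of_adicSmooth (h : CAlgX.IsAdicFormallySmooth A B (maximalIdeal B)) :
    Module.Flat A B := by
  have hNA : IsNoetherianRing (AdicCompletion (maximalIdeal A) A) :=
    Groth.Agent.Lib.helper19.isNoetherianRing_adicCompletion A _
  have hNB : IsNoetherianRing (AdicCompletion (maximalIdeal B) B) :=
    Groth.Agent.Lib.helper19.isNoetherianRing_adicCompletion B _
  have hψ := Groth.Agent.Lib.Helper19.ComplMap.complMap_comp A B
  let _ : Algebra (AdicCompletion (maximalIdeal A) A) (AdicCompletion (maximalIdeal B) B) :=
    (Groth.Agent.Lib.Helper19.ComplMap.complMap A B).toAlgebra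
  have halg : algebraMap (AdicCompletion (maximalIdeal A) A) (AdicCompletion (maximalIdeal B) B) =
      Groth.Agent.Lib.Helper19.ComplMap.complMap A B := RingHom.algebraMap_toAlgebra _
  have htower : IsScalarTower A (AdicCompletion (maximalIdeal A) A)
      (AdicCompletion (maximalIdeal B) B) := by
    refine IsScalarTower.of_algebraMap_eq (fun a => ?_)
    rw [halg]
    have := congrArg (fun f : A →+* AdicCompletion (maximalIdeal B) B => f a) hψ
    simp only [RingHom.comp_apply] at this
    rw [this]
    rfl
  have hmapB : (maximalIdeal A).map (algebraMap A (AdicCompletion (maximalIdeal B) B)) ≤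
      maximalIdeal (AdicCompletion (maximalIdeal B) B) := by
    rw [Ideal.map_le_iff_le_comap]
    intro a ha
    rw [Ideal.mem_comap]
    have h1 : algebraMap A (AdicCompletion (maximalIdeal B) B) a =
        algebraMap B (AdicCompletion (maximalIdeal B) B) (algebraMap A B a) := rfl
    rw [h1, AdicCompletion.maximalIdeal_eq_map]
    apply Ideal.mem_map_of_mem
    exact map_nonunit (algebraMap A B) a ha
  have hloc : IsLocalHom (algebraMap (AdicCompletion (maximalIdeal A) A)
      (AdicCompletion (maximalIdeal B) B)) := by
    refine ((local_hom_TFAE _).out 0 2).2 ?_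
    rw [AdicCompletion.maximalIdeal_eq_map (R := A), Ideal.map_map,
      ← IsScalarTower.algebraMap_eq]
    exact hmapB
  have h1 := (Groth.Agent.S9318.result (R := A) (maximalIdeal B) (IsNoetherian.noetherian _)).1 h
  rw [← AdicCompletion.maximalIdeal_eq_map] at h1
  have h2 : CAlgX.IsAdicFormallySmooth (AdicCompletion (maximalIdeal A) A)
      (AdicCompletion (maximalIdeal B) B) (maximalIdeal (AdicCompletion (maximalIdeal B) B)) :=
    ComplBase.adicSmooth_completion_of (maximalIdeal A) _ (IsNoetherian.noetherian _)
      ⟨1, by rw [pow_one]; exact hmapB⟩ h1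
  have h3 := flat_of_adicSmooth_complete h2
  rw [halg] at h3
  have h4 := (Groth.Agent.S9231.result A B _ hψ).1 h3
  exact RingHom.flat_algebraMap_iff.1 h4

end Groth.Agent.Lib.Helper5.FlatCohen
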