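import Groth.Agent.Lib.Helper5.GeomRegFG2
import Groth.Prelude.Def_Found
import Mathlib

set_option autoImplicit false
universe u

namespace Groth.Agent.Lib.Helper5.GeomRegFG

open TensorProduct

/-- geometric regularity passes to finitely generated extensions of the base field. -/
theorem geomRegular_baseChange (k S K : Type u) [Field k] [CommRing S] [Algebra k S] [Field K]
    [Algebra k K] [Algebra.EssFiniteType k K] (h : CAlg.IsGeometricallyRegular k S) :
    CAlg.IsGeometricallyRegular K (K ⊗[k] S) := by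
  intro K' _ _ hfin
  let _ : Algebra k K' := ((algebraMap K K').comp (algebraMap k K)).toAlgebra
  have hst : IsScalarTower k K K' := IsScalarTower.of_algebraMap_eq (fun _ => rfl)
  have h1 : Algebra.EssFiniteType K K' := inferInstance
  have h2 : Algebra.EssFiniteType k K' := Algebra.EssFiniteType.comp k K K'
  have h3 : IsRegularRing (K' ⊗[k] S) :=
    regular_tensor_of_fg k K' S (fun k' _ _ hf _ => h k' hf)
  exact IsRegularRing.of_ringEquiv
    (Algebra.TensorProduct.cancelBaseChange k K K' K' S).symm.toRingEquiv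

/-- geometric regularity descends along any field extension of the base field. -/
theorem geomRegular_of_baseChange (k S K : Type u) [Field k] [CommRing S] [Algebra k S] [Field K]
    [Algebra k K] (h : CAlg.IsGeometricallyRegular K (K ⊗[k] S)) :
    CAlg.IsGeometricallyRegular k S := by
  intro k' _ _ hfin
  have hnt : Nontrivial (K ⊗[k] k') := inferInstance
  obtain ⟨m, hm⟩ := Ideal.exists_maximal (K ⊗[k] k')
  let _ : Field ((K ⊗[k] k') ⧸ m) := Ideal.Quotient.field m
  have hfin' : Module.Finite K ((K ⊗[k] k') ⧸ m) :=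
    Module.Finite.of_surjective (Ideal.Quotient.mkₐ K m).toLinearMap
      (Ideal.Quotient.mkₐ_surjective K m)
  have h1 : IsRegularRing (((K ⊗[k] k') ⧸ m) ⊗[K] (K ⊗[k] S)) := h _ hfin'
  have h2 : IsRegularRing (((K ⊗[k] k') ⧸ m) ⊗[k] S) :=
    IsRegularRing.of_ringEquiv (Algebra.TensorProduct.cancelBaseChange k K ((K ⊗[k] k') ⧸ m)
      ((K ⊗[k] k') ⧸ m) S).toRingEquiv
  let _ : Algebra k' ((K ⊗[k] k') ⧸ m) :=
    ((Ideal.Quotient.mk m).comp
      (Algebra.TensorProduct.includeRight : k' →ₐ[k] K ⊗[k] k').toRingHom).toAlgebra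
  have hst : IsScalarTower k k' ((K ⊗[k] k') ⧸ m) := IsScalarTower.of_algebraMap_eq (fun c => by
    change Ideal.Quotient.mk m (algebraMap k (K ⊗[k] k') c) =
      Ideal.Quotient.mk m ((Algebra.TensorProduct.includeRight : k' →ₐ[k] K ⊗[k] k')
        (algebraMap k k' c))
    rw [AlgHom.commutes])
  exact regular_descent k k' ((K ⊗[k] k') ⧸ m) S h2

end Groth.Agent.Lib.Helper5.GeomRegFG
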