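import Groth.Agent.Lib.Helper5.RegFlatFiber
import Groth.Agent.Lib.Helper5.GeomRegFG3
import Groth.Prelude.Def_Found
import Mathlib

set_option autoImplicit false
universe u

namespace Groth.Agent.Lib.Helper5.RegHom

open TensorProduct IsLocalRing

/-- a geometrically regular algebra is regular. -/
theorem isRegularRing_of_geomRegular (k A : Type u) [Field k] [CommRing A] [Algebra k A]
    (h : CAlg.IsGeometricallyRegular k A) : IsRegularRing A := by
  have h1 : IsRegularRing (k ⊗[k] A) := h k inferInstance
  exact IsRegularRing.of_ringEquiv (Algebra.TensorProduct.lid k A).toRingEquiv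

/-- local form: a flat map whose fibre over `p` is regular, with regular localization of the base at `p`,
has regular localizations at the primes over `p`. -/
theorem regular_localization_of_fiber (R S : Type u) [CommRing R] [CommRing S] [Algebra R S]
    [IsNoetherianRing S] [Module.Flat R S] (p : Ideal R) [p.IsPrime]
    [IsRegularLocalRing (Localization.AtPrime p)] [IsRegularRing (p.Fiber S)]
    (q : Ideal (p.Fiber S)) [q.IsPrime] :
    IsRegularLocalRing (Localization.AtPrime
      (q.comap (Algebra.TensorProduct.includeRight : S →ₐ[R] p.Fiber S))) := by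
  have hover : (q.comap (Algebra.TensorProduct.includeRight : S →ₐ[R] p.Fiber S)).LiesOver p := by
    constructor
    ext x
    have h2 : p = Ideal.under R q := Ideal.over_def q p
    have h3 : x ∈ p ↔ x ∈ Ideal.under R q := by rw [← h2]
    rw [h3, Ideal.under_def, Ideal.under_def, Ideal.mem_comap, Ideal.mem_comap, Ideal.mem_comap,
      AlgHom.commutes]
  let _ := Localization.AtPrime.algebraOfLiesOver p
    (q.comap (Algebra.TensorProduct.includeRight : S →ₐ[R] p.Fiber S))
  have e := Ideal.Fiber.localizationAlgEquivQuotient p q
  have hloc : IsLocalHom (algebraMap (Localization.AtPrime p) (Localization.AtPrime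
      (q.comap (Algebra.TensorProduct.includeRight : S →ₐ[R] p.Fiber S)))) := by
    rw [RingHom.algebraMap_toAlgebra]
    exact Localization.isLocalHom_localRingHom p _ (algebraMap R S) Ideal.LiesOver.over
  have hflat : Module.Flat (Localization.AtPrime p) (Localization.AtPrime
      (q.comap (Algebra.TensorProduct.includeRight : S →ₐ[R] p.Fiber S))) := inferInstance
  have hreg : IsRegularLocalRing (Localization.AtPrime q) := inferInstance
  have hmap : (maximalIdeal (Localization.AtPrime p)).map (algebraMap (Localization.AtPrime p)
      (Localization.AtPrime (q.comap (Algebra.TensorProduct.includeRight : S →ₐ[R] p.Fiber S)))) =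
      p.map (algebraMap R (Localization.AtPrime
        (q.comap (Algebra.TensorProduct.includeRight : S →ₐ[R] p.Fiber S)))) := by
    rw [← Localization.AtPrime.map_eq_maximalIdeal, Ideal.map_map, ← IsScalarTower.algebraMap_eq]
  apply Groth.Agent.Lib.Helper5.RegFlatFiber.regular_of_flat_of_regular_fiber
    (Localization.AtPrime p)
  rw [hmap]
  exact IsRegularLocalRing.of_ringEquiv (R := Localization.AtPrime q) e.toRingEquiv

/-- a regular homomorphism with regular source and Noetherian target has regular target. -/
theorem isRegularRing_of_isRegularHom (R S : Type u) [CommRing R] [CommRing S] [Algebra R S]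
    [IsRegularRing R] [IsNoetherianRing S] (h : CAlg.IsRegularHom R S) : IsRegularRing S := by
  have hflat : Module.Flat R S := h.1
  rw [isRegularRing_iff]
  intro r hr
  have hp : (r.comap (algebraMap R S)).IsPrime := Ideal.comap_isPrime _ _
  have hfib : IsRegularRing ((r.comap (algebraMap R S)).Fiber S) :=
    isRegularRing_of_geomRegular _ _ (h.2 (r.comap (algebraMap R S))).2
  let q := PrimeSpectrum.preimageEquivFiber R S ⟨r.comap (algebraMap R S), hp⟩ ⟨⟨r, hr⟩, rfl⟩
  have hq : q.asIdeal.comap (Algebra.TensorProduct.includeRight :
      S →ₐ[R] (r.comap (algebraMap R S)).Fiber S) = r := by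
    have := (PrimeSpectrum.preimageEquivFiber R S ⟨r.comap (algebraMap R S), hp⟩).left_inv
      ⟨⟨r, hr⟩, rfl⟩
    exact congrArg (fun z => z.1.asIdeal) this
  have key : ∀ (r' : Ideal S) (hr' : r'.IsPrime), r' = r →
      IsRegularLocalRing (Localization.AtPrime r') →
      IsRegularLocalRing (Localization.AtPrime r) := by
    intro r' hr' heq h
    subst heq
    exact h
  have hq' : (q.asIdeal.comap (Algebra.TensorProduct.includeRight :
      S →ₐ[R] (r.comap (algebraMap R S)).Fiber S)).IsPrime := Ideal.comap_isPrime _ _
  have h1 := regular_localization_of_fiber R S (r.comap (algebraMap R S)) q.asIdeal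
  exact key _ hq' hq h1

end Groth.Agent.Lib.Helper5.RegHom
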