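import Groth.Agent.Lib.Helper5.SepSection
import Mathlib.RingTheory.Smooth.Basic
import Mathlib.RingTheory.Smooth.Field
import Mathlib.RingTheory.Smooth.Pi
import Mathlib.RingTheory.Kaehler.JacobiZariski

set_option autoImplicit false
set_option linter.unusedSectionVars false
universe u v

namespace Groth.Agent.Lib.Helper5.SepSmooth

open TensorProduct

variable {k : Type u} {K : Type v} [Field k] [Field K] [Algebra k K]

theorem formallySmooth_of_geomReduced_charP (p : ℕ) (hp : p.Prime) (hpk : (p : k) = 0)
    [Algebra.IsGeometricallyReduced k K] : Algebra.FormallySmooth k K := by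
  let f : MvPolynomial K k →ₐ[k] K := MvPolynomial.aeval id
  have hf : Function.Surjective f := fun y => ⟨MvPolynomial.X y, by simp [f]⟩
  rw [Algebra.FormallySmooth.iff_split_surjection f hf]
  have hsurj : Function.Surjective f.kerSquareLift :=
    Ideal.Quotient.lift_surjective_of_surjective _ _ hf
  have hker : RingHom.ker
      ((f.kerSquareLift : (MvPolynomial K k ⧸ RingHom.ker f.toRingHom ^ 2) →ₐ[k] K) :
        (MvPolynomial K k ⧸ RingHom.ker f.toRingHom ^ 2) →+* K) ^ 2 = ⊥ := by
    have := AlgHom.ker_kerSquareLift f
    rw [show RingHom.ker ((f.kerSquareLift :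
        (MvPolynomial K k ⧸ RingHom.ker f.toRingHom ^ 2) →ₐ[k] K) :
        (MvPolynomial K k ⧸ RingHom.ker f.toRingHom ^ 2) →+* K) =
        RingHom.ker f.kerSquareLift.toRingHom from rfl,
      this, Ideal.cotangentIdeal_square]
  obtain ⟨g, hg⟩ := exists_section_of_geomReduced f.kerSquareLift p hp hpk hsurj hker
  exact ⟨g, AlgHom.ext hg⟩

theorem formallySmooth_of_charZero [CharZero k] : Algebra.FormallySmooth k K := by
  obtain ⟨s, hs⟩ := exists_isTranscendenceBasis k K
  have halg : Algebra.IsAlgebraic (IntermediateField.adjoin k (Set.range ((↑) : s → K))) K :=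
    hs.isAlgebraic_field
  haveI : Algebra.IsSeparable (IntermediateField.adjoin k (Set.range ((↑) : s → K))) K :=
    Algebra.IsAlgebraic.isSeparable_of_perfectField
  exact Algebra.FormallySmooth.of_algebraicIndependent_of_isSeparable hs.1

/-- a separable field extension is formally smooth -/
theorem formallySmooth_of_geomReduced [Algebra.IsGeometricallyReduced k K] :
    Algebra.FormallySmooth k K := by
  obtain ⟨p, hp⟩ := CharP.exists k
  rcases CharP.char_is_prime_or_zero k p with h | h
  · exact formallySmooth_of_geomReduced_charP p h (CharP.cast_eq_zero k p)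
  · subst h
    haveI : CharZero k := CharP.charP_to_charZero k
    exact formallySmooth_of_charZero

/-- for a formally smooth algebra the first map of the cotangent sequence is injective -/
theorem mapBaseChange_injective_of_formallySmooth (R : Type*) [CommRing R] [Algebra R k]
    [Algebra R K] [IsScalarTower R k K] [Algebra.FormallySmooth k K] :
    Function.Injective (KaehlerDifferential.mapBaseChange R k K) := by
  rw [injective_iff_map_eq_zero]
  intro x hx
  obtain ⟨y, rfl⟩ := (Algebra.H1Cotangent.exact_δ_mapBaseChange R k K x).1 hx
  rw [Subsingleton.elim y 0, map_zero]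

theorem mapBaseChange_injective_of_geomReduced (R : Type*) [CommRing R] [Algebra R k]
    [Algebra R K] [IsScalarTower R k K] [Algebra.IsGeometricallyReduced k K] :
    Function.Injective (KaehlerDifferential.mapBaseChange R k K) :=
  haveI := formallySmooth_of_geomReduced (k := k) (K := K)
  mapBaseChange_injective_of_formallySmooth R

end Groth.Agent.Lib.Helper5.SepSmooth
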