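import Groth.Agent.Lib.Helper5.SepCartier2
import Groth.Agent.Lib.Helper5.SepSmooth
import Mathlib.RingTheory.Smooth.AdicCompletion
import Mathlib.RingTheory.Unramified.Basic
import Mathlib.RingTheory.Filtration

set_option autoImplicit false
set_option linter.unusedSectionVars false

namespace Groth.Agent.Lib.Helper5.CoeffField

section Adic

theorem isAdicComplete_sq {R : Type*} [CommRing R] (I : Ideal R) [h : IsAdicComplete I R] :
    IsAdicComplete (I ^ 2) R := by
  have hle : ∀ n : ℕ, ((I ^ 2) ^ n • ⊤ : Submodule R R) ≤ I ^ n • ⊤ := by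
    intro n
    rw [← pow_mul]
    exact Submodule.smul_mono_left (Ideal.pow_le_pow_right (by omega))
  refine { haus' := ?_, prec' := ?_ }
  · intro x hx
    apply h.toIsHausdorff.haus
    intro n
    exact SModEq.mono (hle n) (hx n)
  · intro f hf
    have hf' : ∀ {m n}, m ≤ n → f m ≡ f n [SMOD (I ^ m • ⊤ : Submodule R R)] :=
      fun {m n} hmn => SModEq.mono (hle m) (hf hmn)
    obtain ⟨L, hL⟩ := h.toIsPrecomplete.prec hf'
    refine ⟨L, fun n => ?_⟩
    have h1 := hf (show n ≤ 2 * n by omega)
    have h2 := hL (2 * n)
    rw [pow_mul] at h2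
    exact h1.trans h2

end Adic

section Prime

variable {k K : Type*} [Field k] [Field K] [Algebra k K]

/-- every extension of a perfect field is geometrically reduced -/
theorem geomReduced_of_perfect (p : ℕ) (hp : p.Prime) (hpk : (p : k) = 0)
    (hperf : ∀ c : k, ∃ a : k, a ^ p = c) : Algebra.IsGeometricallyReduced k K := by
  haveI : Fact p.Prime := ⟨hp⟩
  have hpK : (p : K) = 0 := SepSmooth.natCast_eq_zero_of_algebra p hpk K
  haveI : CharP K p := (CharP.charP_iff_prime_eq_zero hp).2 hpK
  refine SepCartier.geomReduced_of_linearIndependent_pow p hp hpk (Module.Basis.ofVectorSpace k K) ?_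
  set b := Module.Basis.ofVectorSpace k K with hb
  rw [linearIndependent_iff']
  intro s g hg i hi
  choose a ha using hperf
  have h1 : (∑ j ∈ s, a (g j) • b j) ^ p = 0 := by
    rw [sum_pow_char p]
    rw [← hg]
    refine Finset.sum_congr rfl (fun j _ => ?_)
    rw [Algebra.smul_def, mul_pow, ← map_pow, ha, Algebra.smul_def]
  have h2 : ∑ j ∈ s, a (g j) • b j = 0 := pow_eq_zero_iff hp.ne_zero |>.1 h1
  have h3 := linearIndependent_iff'.1 b.linearIndependent s (fun j => a (g j)) h2 i hi
  rw [← ha (g i), h3, zero_pow hp.ne_zero]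

end Prime

section PrimeField

variable (K : Type*) [Field K]

/-- every field is formally smooth over its prime field -/
theorem formallySmooth_primeField : Algebra.FormallySmooth (⊥ : Subfield K) K := by
  obtain ⟨p, hp⟩ := CharP.exists K
  rcases CharP.char_is_prime_or_zero K p with h | h
  · haveI : Fact p.Prime := ⟨h⟩
    have hpk : (p : (⊥ : Subfield K)) = 0 := by
      apply (algebraMap (⊥ : Subfield K) K).injective
      rw [map_natCast, map_zero]
      exact CharP.cast_eq_zero K p
    have hperf : ∀ c : (⊥ : Subfield K), ∃ a : (⊥ : Subfield K), a ^ p = c := by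
      intro c
      have hc : (c : K) ∈ (⊥ : Subfield K).map (frobenius K p) :=
        (bot_le : (⊥ : Subfield K) ≤ _) c.2
      obtain ⟨a, ha, hac⟩ := hc
      exact ⟨⟨a, ha⟩, Subtype.ext hac⟩
    haveI := geomReduced_of_perfect (k := (⊥ : Subfield K)) (K := K) p h hpk hperf
    exact SepSmooth.formallySmooth_of_geomReduced_charP p h hpk
  · subst h
    haveI : CharZero K := CharP.charP_to_charZero K
    haveI : CharZero (⊥ : Subfield K) := (algebraMap (⊥ : Subfield K) K).charZero
    exact SepSmooth.formallySmooth_of_charZero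

variable {K}

/-- a derivation kills the prime field -/
theorem derivation_primeField {R₀ : Type*} [CommRing R₀] [Algebra R₀ K] {M : Type*} [AddCommGroup M]
    [Module K M] [Module R₀ M] [IsScalarTower R₀ K M] (D : Derivation R₀ K M)
    (r : (⊥ : Subfield K)) : D (r : K) = 0 := by
  let S : Subfield K :=
    { carrier := {x | D x = 0}
      mul_mem' := fun {a b} ha hb => by
        change D (a * b) = 0
        have ha' : D a = 0 := ha
        have hb' : D b = 0 := hb
        rw [Derivation.leibniz, ha', hb', smul_zero, smul_zero, add_zero]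
      one_mem' := D.map_one_eq_zero
      add_mem' := fun {a b} ha hb => by
        change D (a + b) = 0
        have ha' : D a = 0 := ha
        have hb' : D b = 0 := hb
        rw [map_add, ha', hb', add_zero]
      zero_mem' := map_zero D
      neg_mem' := fun {a} ha => by
        change D (-a) = 0
        have ha' : D a = 0 := ha
        rw [map_neg, ha', neg_zero]
      inv_mem' := fun a ha => by
        change D a⁻¹ = 0
        have ha' : D a = 0 := ha
        rw [Derivation.leibniz_inv, ha', smul_zero] }
  exact (bot_le : (⊥ : Subfield K) ≤ S) r.2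

end PrimeField

section Main

open IsLocalRing

universe u

variable {C : Type u} [CommRing C] [IsLocalRing C] [IsNoetherianRing C]
  [IsAdicComplete (maximalIdeal C) C]

/-- nontrivial absolute differentials of the residue field give a second coefficient field -/
theorem exists_ne_section (hm : maximalIdeal C ≠ ⊥) (u : ResidueField C →+* C)
    (hu : ∀ x, residue C (u x) = x) (hΩ : ¬ Subsingleton (Ω[ResidueField C⁄ℤ])) :
    ∃ v : ResidueField C →+* C, (∀ x, residue C (v x) = x) ∧ v ≠ u := by
  classical
  obtain ⟨φ, x₀, hD⟩ : ∃ (φ : Ω[ResidueField C⁄ℤ] →ₗ[ResidueField C] ResidueField C)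
      (x₀ : ResidueField C), φ (KaehlerDifferential.D ℤ (ResidueField C) x₀) ≠ 0 := by
    rw [not_subsingleton_iff_nontrivial] at hΩ
    obtain ⟨ω, hω⟩ := exists_ne (0 : Ω[ResidueField C⁄ℤ])
    have hne : ¬ ∀ φ : Module.Dual (ResidueField C) (Ω[ResidueField C⁄ℤ]), φ ω = 0 :=
      fun h => hω ((Module.forall_dual_apply_eq_zero_iff (ResidueField C) ω).1 h)
    push Not at hne
    obtain ⟨φ, hφ⟩ := hne
    by_contra hall
    push Not at hall
    apply hφ
    have hzero : φ = 0 := by
      apply LinearMap.ext_on_range (KaehlerDifferential.span_range_derivation ℤ (ResidueField C))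
      intro x
      exact hall φ x
    rw [hzero, LinearMap.zero_apply]
  set D : ResidueField C → ResidueField C :=
    fun x => φ (KaehlerDifferential.D ℤ (ResidueField C) x) with hDdef
  have hDadd : ∀ x y, D (x + y) = D x + D y := fun x y => by
    simp only [hDdef, map_add]
  have hDmul : ∀ x y, D (x * y) = x * D y + y * D x := fun x y => by
    simp only [hDdef, Derivation.leibniz, map_add, map_smul, smul_eq_mul]
  have hDone : D 1 = 0 := by
    simp only [hDdef, Derivation.map_one_eq_zero, map_zero]
  have hDzero : D 0 = 0 := by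
    simp only [hDdef, map_zero]
  have hDP : ∀ r : (⊥ : Subfield (ResidueField C)), D (r : ResidueField C) = 0 := fun r => by
    simp only [hDdef, derivation_primeField (KaehlerDifferential.D ℤ (ResidueField C)) r, map_zero]
  obtain ⟨t, ht, ht2⟩ : ∃ t ∈ maximalIdeal C, t ∉ maximalIdeal C ^ 2 := by
    by_contra hall
    push Not at hall
    apply hm
    have hle : maximalIdeal C ≤ maximalIdeal C • maximalIdeal C := by
      intro t ht
      have := hall t ht
      rwa [pow_two] at this
    exact Submodule.eq_bot_of_le_smul_of_le_jacobson_bot (maximalIdeal C) (maximalIdeal C)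
      (IsNoetherian.noetherian _) hle
      (by rw [IsLocalRing.jacobson_eq_maximalIdeal ⊥ bot_ne_top])
  haveI : Algebra.FormallySmooth (⊥ : Subfield (ResidueField C)) (ResidueField C) :=
    formallySmooth_primeField (ResidueField C)
  letI algPC : Algebra (⊥ : Subfield (ResidueField C)) C :=
    (u.comp (algebraMap (⊥ : Subfield (ResidueField C)) (ResidueField C))).toAlgebra
  have hmul : ∀ x y : ResidueField C,
      u (x * y) + u (D (x * y)) * t - (u x + u (D x) * t) * (u y + u (D y) * t) ∈
        maximalIdeal C ^ 2 := by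
    intro x y
    have : u (x * y) + u (D (x * y)) * t - (u x + u (D x) * t) * (u y + u (D y) * t) =
        -(u (D x) * u (D y)) * t ^ 2 := by
      rw [hDmul, map_mul, map_add, map_mul, map_mul]
      ring
    rw [this]
    exact Ideal.mul_mem_left _ _ (Ideal.pow_mem_pow ht 2)
  let w₀ : ResidueField C →+* C ⧸ maximalIdeal C ^ 2 :=
    { toFun := fun x => Ideal.Quotient.mk _ (u x + u (D x) * t)
      map_one' := by
        rw [hDone, map_zero, zero_mul, add_zero, map_one, map_one]
      map_mul' := fun x y => by
        rw [← map_mul, Ideal.Quotient.eq]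
        exact hmul x y
      map_zero' := by rw [hDzero, map_zero, zero_mul, add_zero, map_zero]
      map_add' := fun x y => by
        rw [← map_add]
        congr 1
        rw [hDadd, map_add, map_add]
        ring }
  let w : ResidueField C →ₐ[(⊥ : Subfield (ResidueField C))] C ⧸ maximalIdeal C ^ 2 :=
    { w₀ with
      commutes' := fun r => by
        change Ideal.Quotient.mk _ (u (r : ResidueField C) + u (D (r : ResidueField C)) * t) = _
        rw [hDP r, map_zero, zero_mul, add_zero]
        rfl }
  haveI : IsAdicComplete (maximalIdeal C ^ 2) C := isAdicComplete_sq (maximalIdeal C)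
  obtain ⟨v, hv⟩ := Algebra.FormallySmooth.exists_mkₐ_comp_eq_of_isAdicComplete w
  have hv' : ∀ x, Ideal.Quotient.mk (maximalIdeal C ^ 2) (v x) =
      Ideal.Quotient.mk (maximalIdeal C ^ 2) (u x + u (D x) * t) := fun x => AlgHom.congr_fun hv x
  have hv'' : ∀ x, v x - (u x + u (D x) * t) ∈ maximalIdeal C ^ 2 :=
    fun x => Ideal.Quotient.eq.1 (hv' x)
  refine ⟨v.toRingHom, fun x => ?_, fun hvu => ?_⟩
  · have h1 : v x - u x ∈ maximalIdeal C := by
      have h3 := Ideal.pow_le_self (two_ne_zero) (hv'' x)
      have h2 : v x - u x = (v x - (u x + u (D x) * t)) + u (D x) * t := by ring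
      rw [h2]
      exact (maximalIdeal C).add_mem h3 (Ideal.mul_mem_left _ _ ht)
    have h4 : residue C (v x) = residue C (u x) := by
      rw [← sub_eq_zero, ← map_sub]
      exact (residue_eq_zero_iff _).2 h1
    change residue C (v x) = x
    rw [h4, hu]
  · have h1 := hv'' x₀
    have h5 : v x₀ = u x₀ := by rw [← hvu]; rfl
    rw [h5] at h1
    have h2 : u (D x₀) * t ∈ maximalIdeal C ^ 2 := by
      have h3 : u (D x₀) * t = -(u x₀ - (u x₀ + u (D x₀) * t)) := by ring
      rw [h3]
      exact (maximalIdeal C ^ 2).neg_mem h1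
    have hunit : IsUnit (u (D x₀)) := by
      rw [← IsLocalRing.notMem_maximalIdeal, ← residue_eq_zero_iff, hu]
      exact hD
    apply ht2
    have h6 := (maximalIdeal C ^ 2).mul_mem_left (↑hunit.unit⁻¹ : C) h2
    rwa [← mul_assoc, IsUnit.val_inv_mul, one_mul] at h6

end Main

end Groth.Agent.Lib.Helper5.CoeffField
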