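import Groth.Agent.Lib.Helper5.AdicRegD
import Groth.Agent.Lib.Helper5.CoeffField
import Groth.Agent.Lib.helper19.CompletionLocal
import Mathlib

set_option autoImplicit false
universe u

namespace Groth.Agent.Lib.Helper5.AdicReg

open IsLocalRing

/-- the prime field, as a bare type. -/
def PF (k : Type u) [Field k] : Type u := (⊥ : Subfield k)

noncomputable instance (k : Type u) [Field k] : Field (PF k) :=
  inferInstanceAs (Field (⊥ : Subfield k))

noncomputable instance (k : Type u) [Field k] : Algebra (PF k) k :=
  inferInstanceAs (Algebra (⊥ : Subfield k) k)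

instance (k : Type u) [Field k] : PerfectField (PF k) := CohenEqui.perfectField_bot k

instance (k : Type u) [Field k] : Algebra.FormallySmooth (PF k) k :=
  CoeffField.formallySmooth_primeField k

/-- a Noetherian local algebra over a field which is adically formally smooth has completion a
power series ring over its residue field. -/
theorem exists_equiv_completion_of_adicSmooth {k A : Type u} [Field k] [CommRing A] [IsLocalRing A]
    [IsNoetherianRing A] [Algebra k A] (h : CAlgX.IsAdicFormallySmooth k A (maximalIdeal A)) :
    ∃ n : ℕ, Nonempty (AdicCompletion (maximalIdeal A) A ≃+*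
      MvPowerSeries (Fin n) (ResidueField A)) := by
  let _ : Algebra (PF k) A := ((algebraMap k A).comp (algebraMap (PF k) k)).toAlgebra
  have hst : IsScalarTower (PF k) k A := IsScalarTower.of_algebraMap_eq (fun _ => rfl)
  have h1 : CAlgX.IsAdicFormallySmooth (PF k) A (maximalIdeal A) := adicSmooth_comp (S := k) _ h
  have hgr : Algebra.IsGeometricallyReduced (PF k) (ResidueField A) :=
    CohenEqui.geomReduced_of_perfect _ _
  obtain ⟨n, e, -⟩ := exists_equiv_completion (k := PF k) h1
  exact ⟨n, ⟨e⟩⟩

/-- a Noetherian local algebra over a field which is adically formally smooth is regular. -/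
theorem isRegularLocalRing_of_adicSmooth {k A : Type u} [Field k] [CommRing A] [IsLocalRing A]
    [IsNoetherianRing A] [Algebra k A] (h : CAlgX.IsAdicFormallySmooth k A (maximalIdeal A)) :
    IsRegularLocalRing A := by
  obtain ⟨n, ⟨e⟩⟩ := exists_equiv_completion_of_adicSmooth h
  have hN : IsNoetherianRing (AdicCompletion (maximalIdeal A) A) :=
    Groth.Agent.Lib.helper19.isNoetherianRing_adicCompletion A _
  have h1 : IsRegularLocalRing (MvPowerSeries (Fin n) (ResidueField A)) :=
    Groth.Agent.Lib.Helper1.RegPS.isRegularLocalRing_ps n
  have h2 : IsRegularLocalRing (AdicCompletion (maximalIdeal A) A) :=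
    IsRegularLocalRing.of_ringEquiv e.symm
  exact (Groth.Agent.Lib.helper19.isRegularLocalRing_adicCompletion_iff_of_isNoetherianRing A).2 h2

end Groth.Agent.Lib.Helper5.AdicReg
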