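import Mathlib

set_option autoImplicit false

namespace Groth.Agent.Lib.Helper5.PowSer

open MvPowerSeries Finsupp IsLocalRing KaehlerDifferential

universe u

section Pow

variable {σ : Type*} [Finite σ] {R : Type*} [CommRing R]

theorem map_span_X :
    Ideal.map (toAdicCompletionAlgEquiv σ R).toRingEquiv
      (Ideal.span (Set.range (X : σ → MvPowerSeries σ R))) =
    (MvPolynomial.idealOfVars σ R).map
      (algebraMap (MvPolynomial σ R) (AdicCompletion (MvPolynomial.idealOfVars σ R) (MvPolynomial σ R))) := by
  simp_rw [Ideal.map_span, ← Set.range_comp]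
  congr 2; ext1
  simp [AdicCompletion.algebraMap_apply, ← MvPolynomial.coe_X, toAdicCompletion_coe]

theorem mem_pow_span_X (N : ℕ) (f : MvPowerSeries σ R)
    (h : ∀ d : σ →₀ ℕ, degree d < N → coeff d f = 0) :
    f ∈ (Ideal.span (Set.range (X : σ → MvPowerSeries σ R))) ^ N := by
  let P := MvPolynomial σ R
  let J := MvPolynomial.idealOfVars σ R
  let e := toAdicCompletionAlgEquiv σ R
  have h0 : truncTotal N f = 0 := by
    ext x
    rw [coeff_truncTotal_eq_ite, MvPolynomial.coeff_zero]
    split_ifs with hx
    · exact h x hx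
    · rfl
  have h1 : AdicCompletion.eval J P N (e f) = 0 := by
    change (toAdicCompletion σ R f).val N = 0
    rw [toAdicCompletion_apply_eq_mk_truncTotal, h0, map_zero]
  have h2 : e f ∈ (J ^ N • ⊤ : Submodule P (AdicCompletion J P)) := by
    rw [AdicCompletion.pow_smul_top_eq_ker_eval (MvPolynomial.idealOfVars_fg σ R)]
    exact h1
  rw [Ideal.smul_top_eq_map, Submodule.restrictScalars_mem, Ideal.map_pow, ← map_span_X,
    ← Ideal.map_pow] at h2
  obtain ⟨g, hg, hge⟩ := (Ideal.mem_map_iff_of_surjective _
    (toAdicCompletionAlgEquiv σ R).toRingEquiv.surjective).mp h2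
  have : g = f := (toAdicCompletionAlgEquiv σ R).injective hge
  rw [← this]
  exact hg

end Pow

section Field

variable {σ : Type*} [Finite σ] {k : Type*} [Field k]

theorem maximalIdeal_eq_span_X :
    maximalIdeal (MvPowerSeries σ k) = Ideal.span (Set.range (X : σ → MvPowerSeries σ k)) := by
  apply le_antisymm
  · intro f hf
    have h0 : constantCoeff f = 0 := by
      by_contra hne
      exact (mem_maximalIdeal f).mp hf
        (MvPowerSeries.isUnit_iff_constantCoeff.mpr (isUnit_iff_ne_zero.mpr hne))
    have := mem_pow_span_X 1 f (by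
      intro d hd
      have : d = 0 := by
        have h1 : degree d = 0 := by omega
        exact (Finsupp.degree_eq_zero_iff d).mp h1
      rw [this]
      exact h0)
    rwa [pow_one] at this
  · rw [Ideal.span_le]
    rintro _ ⟨i, rfl⟩
    rw [SetLike.mem_coe, mem_maximalIdeal, mem_nonunits_iff,
      MvPowerSeries.isUnit_iff_constantCoeff, constantCoeff_X]
    exact not_isUnit_zero

instance isAdicComplete_maximalIdeal :
    IsAdicComplete (maximalIdeal (MvPowerSeries σ k)) (MvPowerSeries σ k) := by
  rw [maximalIdeal_eq_span_X]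
  infer_instance

end Field

end Groth.Agent.Lib.Helper5.PowSer
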