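import Mathlib
import Groth.Agent.Lib.Helper5.PowSer

set_option autoImplicit false

namespace Groth.Agent.Lib.Helper5.PowSer

open MvPowerSeries Finsupp

universe u

section Eval

variable {σ : Type*} [Finite σ] {R : Type*} [CommRing R] {E : Type*} [CommRing E] [Algebra R E]

omit [Finite σ] in
theorem aeval_mem_of_mem_pow (z : σ → E) (N : ℕ) (p : MvPolynomial σ R)
    (hp : p ∈ MvPolynomial.idealOfVars σ R ^ N) :
    MvPolynomial.aeval z p ∈ (Ideal.span (Set.range z)) ^ N := by
  have h1 : (MvPolynomial.idealOfVars σ R).map (MvPolynomial.aeval z (R := R)) ≤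
      Ideal.span (Set.range z) := by
    rw [Ideal.map_span, Ideal.span_le]
    rintro _ ⟨_, ⟨i, rfl⟩, rfl⟩
    apply Ideal.subset_span
    exact ⟨i, by simp⟩
  have h2 : MvPolynomial.aeval z p ∈ ((MvPolynomial.idealOfVars σ R) ^ N).map
      (MvPolynomial.aeval z (R := R)) := Ideal.mem_map_of_mem _ hp
  rw [Ideal.map_pow] at h2
  exact Ideal.pow_right_mono h1 N h2

/-- polynomial evaluation modulo the `N`-th power of the variables ideal -/
noncomputable def evalQuot (z : σ → E) (N : ℕ) (hz : (Ideal.span (Set.range z)) ^ N = ⊥) :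
    (MvPolynomial σ R ⧸ MvPolynomial.idealOfVars σ R ^ N) →ₐ[R] E :=
  Ideal.Quotient.liftₐ (MvPolynomial.idealOfVars σ R ^ N) (MvPolynomial.aeval z) (by
    intro p hp
    have := aeval_mem_of_mem_pow z N p hp
    rwa [hz] at this)

omit [Finite σ] in
theorem evalQuot_mk (z : σ → E) (N : ℕ) (hz : (Ideal.span (Set.range z)) ^ N = ⊥)
    (p : MvPolynomial σ R) :
    evalQuot z N hz (Ideal.Quotient.mk (MvPolynomial.idealOfVars σ R ^ N) p) =
      MvPolynomial.aeval z p := rfl

/-- evaluation of power series at a family generating a nilpotent ideal -/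
noncomputable def evalNil (z : σ → E) (N : ℕ) (hz : (Ideal.span (Set.range z)) ^ N = ⊥) :
    MvPowerSeries σ R →ₐ[R] E :=
  (evalQuot z N hz).comp ((truncTotalAlgHom σ R N).restrictScalars R)

theorem evalNil_coe (z : σ → E) (N : ℕ) (hz : (Ideal.span (Set.range z)) ^ N = ⊥)
    (p : MvPolynomial σ R) :
    evalNil z N hz (p : MvPowerSeries σ R) = MvPolynomial.aeval z p := by
  have h : truncTotalAlgHom σ R N (p : MvPowerSeries σ R) =
      Ideal.Quotient.mk (MvPolynomial.idealOfVars σ R ^ N) p :=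
    (truncTotalAlgHom σ R N).commutes p
  change evalQuot z N hz (truncTotalAlgHom σ R N (p : MvPowerSeries σ R)) = _
  rw [h, evalQuot_mk]

theorem evalNil_X (z : σ → E) (N : ℕ) (hz : (Ideal.span (Set.range z)) ^ N = ⊥) (i : σ) :
    evalNil (R := R) z N hz (X i) = z i := by
  rw [← MvPolynomial.coe_X, evalNil_coe, MvPolynomial.aeval_X]

theorem sub_truncTotal_mem (M : ℕ) (x : MvPowerSeries σ R) :
    x - (truncTotal M x : MvPowerSeries σ R) ∈
      (Ideal.span (Set.range (X : σ → MvPowerSeries σ R))) ^ M := by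
  apply mem_pow_span_X
  intro d hd
  rw [map_sub, MvPolynomial.coeff_coe, coeff_truncTotal _ hd, sub_self]

theorem algHom_ext_of_kills {E' : Type*} [CommRing E'] [Algebra R E']
    (g₁ g₂ : MvPowerSeries σ R →ₐ[R] E') (M : ℕ)
    (h₁ : ∀ x ∈ (Ideal.span (Set.range (X : σ → MvPowerSeries σ R))) ^ M, g₁ x = 0)
    (h₂ : ∀ x ∈ (Ideal.span (Set.range (X : σ → MvPowerSeries σ R))) ^ M, g₂ x = 0)
    (hX : ∀ i, g₁ (X i) = g₂ (X i)) : g₁ = g₂ := by
  have hpoly : ∀ p : MvPolynomial σ R, g₁ (p : MvPowerSeries σ R) = g₂ (p : MvPowerSeries σ R) := by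
    intro p
    have : (g₁.comp (MvPolynomial.coeToMvPowerSeries.algHom R)) =
        (g₂.comp (MvPolynomial.coeToMvPowerSeries.algHom R)) := by
      apply MvPolynomial.algHom_ext
      intro i
      simp [hX i]
    exact congrArg (fun f => f p) this
  ext x
  have e1 : g₁ x = g₁ (truncTotal M x : MvPowerSeries σ R) := by
    have := h₁ _ (sub_truncTotal_mem M x)
    rwa [map_sub, sub_eq_zero] at this
  have e2 : g₂ x = g₂ (truncTotal M x : MvPowerSeries σ R) := by
    have := h₂ _ (sub_truncTotal_mem M x)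
    rwa [map_sub, sub_eq_zero] at this
  rw [e1, e2, hpoly]

theorem evalNil_kills (z : σ → E) (N : ℕ) (hz : (Ideal.span (Set.range z)) ^ N = ⊥)
    (x : MvPowerSeries σ R)
    (hx : x ∈ (Ideal.span (Set.range (X : σ → MvPowerSeries σ R))) ^ N) :
    evalNil z N hz x = 0 := by
  have h1 : (Ideal.span (Set.range (X : σ → MvPowerSeries σ R))).map (evalNil z N hz) ≤
      Ideal.span (Set.range z) := by
    rw [Ideal.map_span, Ideal.span_le]
    rintro _ ⟨_, ⟨i, rfl⟩, rfl⟩
    apply Ideal.subset_span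
    exact ⟨i, (evalNil_X z N hz i).symm⟩
  have h2 : evalNil z N hz x ∈ ((Ideal.span (Set.range (X : σ → MvPowerSeries σ R))) ^ N).map
      (evalNil z N hz) := Ideal.mem_map_of_mem _ hx
  rw [Ideal.map_pow] at h2
  have := Ideal.pow_right_mono h1 N h2
  rwa [hz] at this

theorem exists_pow_span_eq_bot (z : σ → E) (hz : ∀ i, IsNilpotent (z i)) :
    ∃ N : ℕ, (Ideal.span (Set.range z)) ^ N = ⊥ := by
  have hfg : (Ideal.span (Set.range z)).FG := ⟨(Set.finite_range z).toFinset, by simp⟩
  have : IsNilpotent (Ideal.span (Set.range z)) := by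
    rw [hfg.isNilpotent_iff_le_nilradical, Ideal.span_le]
    rintro _ ⟨i, rfl⟩
    exact hz i
  obtain ⟨N, hN⟩ := this
  exact ⟨N, hN⟩

theorem ker_constantCoeff_eq_span_X :
    RingHom.ker (constantCoeff : MvPowerSeries σ R →+* R) =
      Ideal.span (Set.range (X : σ → MvPowerSeries σ R)) := by
  apply le_antisymm
  · intro f hf
    rw [RingHom.mem_ker] at hf
    have := mem_pow_span_X 1 f (by
      intro d hd
      have : d = 0 := by
        have h1 : degree d = 0 := by omega
        exact (Finsupp.degree_eq_zero_iff d).mp h1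
      rw [this]
      exact hf)
    rwa [pow_one] at this
  · rw [Ideal.span_le]
    rintro _ ⟨i, rfl⟩
    rw [SetLike.mem_coe, RingHom.mem_ker, constantCoeff_X]

/-- lifting an algebra map out of a power series ring along a nilpotent quotient -/
theorem exists_lift_of_nilpotent {C : Type*} [CommRing C] [Algebra R C] (J : Ideal C)
    (hJ : IsNilpotent J) (u : MvPowerSeries σ R →ₐ[R] C ⧸ J) (k : ℕ)
    (hu : ∀ x ∈ (Ideal.span (Set.range (X : σ → MvPowerSeries σ R))) ^ k, u x = 0) :
    ∃ v : MvPowerSeries σ R →ₐ[R] C, (Ideal.Quotient.mkₐ R J).comp v = u ∧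
      ∃ N : ℕ, ∀ x ∈ (Ideal.span (Set.range (X : σ → MvPowerSeries σ R))) ^ N, v x = 0 := by
  choose z hz using fun i => Ideal.Quotient.mk_surjective (I := J) (u (X i))
  obtain ⟨m, hm⟩ := hJ
  have hnil : ∀ i, IsNilpotent (z i) := by
    intro i
    refine ⟨k * m, ?_⟩
    have h1 : z i ^ k ∈ J := by
      rw [← Ideal.Quotient.eq_zero_iff_mem, map_pow, hz, ← map_pow]
      apply hu
      exact Ideal.pow_mem_pow (Ideal.subset_span (Set.mem_range_self i)) k
    have h2 : (z i ^ k) ^ m ∈ J ^ m := Ideal.pow_mem_pow h1 m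
    rw [hm] at h2
    rw [pow_mul]
    exact h2
  obtain ⟨N, hN⟩ := exists_pow_span_eq_bot z hnil
  refine ⟨evalNil z N hN, ?_, N, fun x hx => evalNil_kills z N hN x hx⟩
  apply algHom_ext_of_kills _ _ (max k N)
  · intro x hx
    have hx' := Ideal.pow_le_pow_right (le_max_right k N) hx
    rw [AlgHom.comp_apply, evalNil_kills z N hN x hx', map_zero]
  · intro x hx
    exact hu x (Ideal.pow_le_pow_right (le_max_left k N) hx)
  · intro i
    rw [AlgHom.comp_apply, evalNil_X]
    exact hz i

end Eval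

end Groth.Agent.Lib.Helper5.PowSer
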