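import Mathlib
import Groth.Prelude.Def_CAlgX
import Groth.Agent.Lib.Helper5.PowSerEval
import Groth.Agent.Lib.Helper5.SepSmooth

set_option autoImplicit false

namespace Groth.Agent.Lib.Helper5.PowSer

open MvPowerSeries

universe u

/-- power series over a formally smooth algebra are formally smooth for the adic topology -/
theorem adicSmooth_of_formallySmooth {R K : Type u} [CommRing R] [CommRing K] [Algebra R K]
    [Algebra.FormallySmooth R K] {σ : Type} [Finite σ] (𝔫 : Ideal (MvPowerSeries σ K))
    (h𝔫 : Ideal.span (Set.range (X : σ → MvPowerSeries σ K)) ≤ 𝔫) :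
    CAlgX.IsAdicFormallySmooth R (MvPowerSeries σ K) 𝔫 := by
  intro A _ _ J hJ ψ hψ
  obtain ⟨k, hk⟩ := hψ
  have hJn : IsNilpotent J := ⟨2, hJ⟩
  let ψ₀ : K →ₐ[R] A ⧸ J := ψ.comp (IsScalarTower.toAlgHom R K (MvPowerSeries σ K))
  let φ : K →ₐ[R] A := Algebra.FormallySmooth.lift J hJn ψ₀
  have hφ : ∀ a : K, Ideal.Quotient.mk J (φ a) = ψ₀ a :=
    fun a => Algebra.FormallySmooth.mk_lift J hJn ψ₀ a
  let _ : Algebra K A := φ.toRingHom.toAlgebra
  have _ : IsScalarTower R K A := IsScalarTower.of_algebraMap_eq (fun r => (φ.commutes r).symm)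
  let ψK : MvPowerSeries σ K →ₐ[K] A ⧸ J :=
    { ψ.toRingHom with
      commutes' := by
        intro a
        exact (hφ a).symm }
  obtain ⟨v, hv, -⟩ := exists_lift_of_nilpotent J hJn ψK k (by
    intro x hx
    exact hk x (Ideal.pow_right_mono h𝔫 k hx))
  refine ⟨v.restrictScalars R, ?_⟩
  ext x
  exact congrArg (fun f => f x) hv

section Perfect

open TensorProduct

variable {k K : Type*} [Field k] [Field K] [Algebra k K] [PerfectField k]

/-- over a perfect field every field extension is geometrically reduced -/
theorem geomReduced_of_perfectField : Algebra.IsGeometricallyReduced k K := by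
  rw [Algebra.isGeometricallyReduced_field_iff]
  have h1 : IsReduced (K ⊗[k] AlgebraicClosure k) := by
    apply IsReduced.tensorProduct_of_flat_of_forall_fg
    intro B hB
    have hfield : IsField B := Subalgebra.isField_of_algebraic B
    let E : IntermediateField k (AlgebraicClosure k) := B.toIntermediateField' hfield
    have hft : Algebra.FiniteType k E := (Subalgebra.fg_iff_finiteType B).1 hB
    have _ : Algebra.IsSeparable k E := Algebra.IsAlgebraic.isSeparable_of_perfectField
    have _ : Algebra.FormallyUnramified k E := Algebra.FormallyUnramified.of_isSeparable k E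
    have _ : Algebra.EssFiniteType k E := inferInstance
    change IsReduced (K ⊗[k] E)
    exact Algebra.FormallyUnramified.isReduced_of_field K (K ⊗[k] E)
  exact isReduced_of_injective (Algebra.TensorProduct.comm k (AlgebraicClosure k) K).toRingHom
    (Algebra.TensorProduct.comm k (AlgebraicClosure k) K).injective

theorem formallySmooth_of_perfectField : Algebra.FormallySmooth k K := by
  have _ : Algebra.IsGeometricallyReduced k K := geomReduced_of_perfectField
  exact SepSmooth.formallySmooth_of_geomReduced

end Perfect

end Groth.Agent.Lib.Helper5.PowSer
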