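import Groth.Agent.Lib.Helper5.AdicRegE
import Groth.Agent.Lib.Helper5.PowSerSmooth
import Mathlib

set_option autoImplicit false
universe u

namespace Groth.Agent.Lib.Helper5.AdicReg

open IsLocalRing

/-- transport of adic formal smoothness along an isomorphism of algebras. -/
theorem adicSmooth_of_algEquiv {k S S' : Type u} [CommRing k] [CommRing S] [CommRing S']
    [Algebra k S] [Algebra k S'] (e : S ≃ₐ[k] S') (𝔫 : Ideal S) (𝔫' : Ideal S')
    (h𝔫 : ∀ x ∈ 𝔫, e x ∈ 𝔫') (h : CAlgX.IsAdicFormallySmooth k S 𝔫) :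
    CAlgX.IsAdicFormallySmooth k S' 𝔫' := by
  intro T _ _ J hJ ψ hψ
  obtain ⟨m, hm⟩ := hψ
  have hpow : ∀ x ∈ 𝔫 ^ m, e x ∈ 𝔫' ^ m := by
    intro x hx
    have h1 : e x ∈ (𝔫 ^ m).map (e : S →+* S') := Ideal.mem_map_of_mem _ hx
    rw [Ideal.map_pow] at h1
    refine Ideal.pow_right_mono ?_ m h1
    rw [Ideal.map_le_iff_le_comap]
    exact h𝔫
  obtain ⟨χ, hχ⟩ := h T J hJ (ψ.comp (e : S →ₐ[k] S')) ⟨m, fun x hx => hm _ (hpow x hx)⟩
  refine ⟨χ.comp (e.symm : S' →ₐ[k] S), ?_⟩
  ext x
  have := AlgHom.congr_fun hχ (e.symm x)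
  simpa using this

/-- a complete regular local algebra over a field with separable residue field is adically
formally smooth. -/
theorem adicSmooth_of_regular_complete {k R : Type u} [Field k] [CommRing R] [IsRegularLocalRing R]
    [IsAdicComplete (maximalIdeal R) R] [Algebra k R]
    [Algebra.IsGeometricallyReduced k (ResidueField R)] :
    CAlgX.IsAdicFormallySmooth k R (maximalIdeal R) := by
  obtain ⟨σ, hσ⟩ := Groth.Agent.S2452.result (k := k) (A := R)
  obtain ⟨d, a, ha, hd⟩ := CohenEqui.exists_gens R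
  obtain ⟨Φ, hΦ, hX, hC⟩ := exists_surjective' R σ.toRingHom hσ a ha
  have hdom : IsDomain (MvPowerSeries (Fin d) (ResidueField R)) := NoZeroDivisors.to_isDomain _
  have hinj : Function.Injective Φ :=
    Groth.Agent.Lib.Helper1.RegPS.injective_of_ringKrullDim_eq Φ hΦ d
      (Groth.Agent.Lib.Helper1.RegPS.ringKrullDim_ps d) hd
  let P := MvPowerSeries (Fin d) (ResidueField R)
  let Φₐ : P →ₐ[k] R :=
    { Φ with
      commutes' := fun x => by
        change Φ (algebraMap k P x) = _
        rw [MvPowerSeries.algebraMap_apply, hC]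
        exact σ.commutes x }
  let e : P ≃ₐ[k] R := AlgEquiv.ofBijective Φₐ ⟨hinj, hΦ⟩
  have hfs : Algebra.FormallySmooth k (ResidueField R) :=
    (Groth.Agent.S2451.result).2 inferInstance
  have hP : CAlgX.IsAdicFormallySmooth k P (maximalIdeal P) :=
    PowSer.adicSmooth_of_formallySmooth (maximalIdeal P) (by rw [PowSer.maximalIdeal_eq_span_X])
  refine adicSmooth_of_algEquiv e (maximalIdeal P) (maximalIdeal R) ?_ hP
  intro x hx
  change Φ x ∈ maximalIdeal R
  rw [mem_maximalIdeal] at hx ⊢
  intro hu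
  apply hx
  have : IsUnit ((RingEquiv.ofBijective Φ ⟨hinj, hΦ⟩).symm (Φ x)) := hu.map _
  rwa [show (RingEquiv.ofBijective Φ ⟨hinj, hΦ⟩).symm (Φ x) = x from
    (RingEquiv.ofBijective Φ ⟨hinj, hΦ⟩).symm_apply_apply x] at this

/-- a regular local algebra over a field with separable residue field is adically formally
smooth. -/
theorem adicSmooth_of_regular {k A : Type u} [Field k] [CommRing A] [IsRegularLocalRing A]
    [Algebra k A] [Algebra.IsGeometricallyReduced k (ResidueField A)] :
    CAlgX.IsAdicFormallySmooth k A (maximalIdeal A) := by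
  have hN : IsNoetherianRing (AdicCompletion (maximalIdeal A) A) :=
    Groth.Agent.Lib.helper19.isNoetherianRing_adicCompletion A _
  have hreg : IsRegularLocalRing (AdicCompletion (maximalIdeal A) A) :=
    (Groth.Agent.Lib.helper19.isRegularLocalRing_adicCompletion_iff_of_isNoetherianRing A).1
      inferInstance
  have hgr := geomReduced_residue_completion (k := k) (A := A)
  exact adicSmooth_of_completion (adicSmooth_of_regular_complete (k := k)
    (R := AdicCompletion (maximalIdeal A) A))

end Groth.Agent.Lib.Helper5.AdicReg
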