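import Groth.Agent.S2451
import Groth.Agent.S2452
import Groth.Agent.Lib.Helper1.RegPS
import Groth.Agent.Lib.helper19.CompletionNoetherian
import Mathlib

set_option autoImplicit false
universe u

namespace Groth.Agent.Lib.Helper5.CohenEqui

open IsLocalRing

theorem geomReduced_of_perfect (k K : Type u) [Field k] [Field K] [Algebra k K] [PerfectField k] :
    Algebra.IsGeometricallyReduced k K := by
  apply Algebra.IsGeometricallyReduced.of_forall_fg
  intro B hB
  obtain ⟨s, hs⟩ := hB
  let L : IntermediateField k K := IntermediateField.adjoin k (s : Set K)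
  have hLfg : L.FG := ⟨s, rfl⟩
  have hess : Algebra.EssFiniteType k L := IntermediateField.essFiniteType_iff.2 hLfg
  have hsm : Algebra.FormallySmooth k L := inferInstance
  have hgr : Algebra.IsGeometricallyReduced k L := Groth.Agent.S2451.result.1 hsm
  have hle : B ≤ L.toSubalgebra := by
    rw [← hs]
    exact IntermediateField.algebra_adjoin_le_adjoin k _
  exact Algebra.IsGeometricallyReduced.of_injective (Subalgebra.inclusion hle)
    (Subalgebra.inclusion_injective hle)

theorem perfectField_bot (k₀ : Type u) [Field k₀] : PerfectField (⊥ : Subfield k₀) := by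
  obtain ⟨p, hp⟩ := CharP.exists k₀
  rcases CharP.char_is_prime_or_zero k₀ p with hpp | rfl
  · have : Fact p.Prime := ⟨hpp⟩
    let _ : Algebra (ZMod p) k₀ := ZMod.algebra k₀ p
    have h := Subfield.bot_eq_of_zMod_algebra (K := k₀) p
    have hfin : Finite (⊥ : Subfield k₀) := by
      rw [h]
      exact Set.finite_range (algebraMap (ZMod p) k₀)
    exact PerfectField.ofFinite
  · have : CharZero k₀ := CharP.charP_to_charZero k₀
    have : CharZero (⊥ : Subfield k₀) := by
      refine ⟨fun a b h => ?_⟩
      have h2 := congrArg (Subtype.val) h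
      simpa using h2
    exact PerfectField.ofCharZero

theorem exists_surjective (R : Type u) [CommRing R] [IsLocalRing R]
    [IsAdicComplete (maximalIdeal R) R] (σ : ResidueField R →+* R)
    (hσ : ∀ x : ResidueField R, residue R (σ x) = x)
    {d : ℕ} (a : Fin d → R) (ha : Ideal.span (Set.range a) = maximalIdeal R) :
    ∃ Φ : MvPowerSeries (Fin d) (ResidueField R) →+* R, Function.Surjective Φ := by
  have hc : IsAdicComplete (Ideal.span (Set.range a)) R := by rw [ha]; infer_instance
  let e : R ≃ₐ[R] AdicCompletion (Ideal.span (Set.range a)) R :=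
    AdicCompletion.ofAlgEquiv (Ideal.span (Set.range a))
  let Φ : MvPowerSeries (Fin d) (ResidueField R) →+* R :=
    (e.symm : AdicCompletion (Ideal.span (Set.range a)) R →+* R).comp
      ((Groth.Agent.Lib.helper19.psToCompletion a).comp (MvPowerSeries.map σ))
  have hX : ∀ i, Φ (MvPowerSeries.X i) = a i := by
    intro i
    change e.symm (Groth.Agent.Lib.helper19.psToCompletion a (MvPowerSeries.map σ (MvPowerSeries.X i))) = a i
    rw [MvPowerSeries.map_X, Groth.Agent.Lib.helper19.psToCompletion_X, AlgEquiv.commutes]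
    rfl
  have hC : ∀ c, Φ (MvPowerSeries.C c) = σ c := by
    intro c
    change e.symm (Groth.Agent.Lib.helper19.psToCompletion a (MvPowerSeries.map σ (MvPowerSeries.C c))) = σ c
    rw [MvPowerSeries.map_C, Groth.Agent.Lib.helper19.psToCompletion_C, AlgEquiv.commutes]
    rfl
  refine ⟨Φ, ?_⟩
  have hmap : (Ideal.span (Set.range
      (MvPowerSeries.X : Fin d → MvPowerSeries (Fin d) (ResidueField R)))).map Φ =
      maximalIdeal R := by
    rw [Ideal.map_span, ← Set.range_comp, ← ha]
    congr 2
    ext i : 1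
    exact hX i
  have haus : IsHausdorff ((Ideal.span (Set.range
      (MvPowerSeries.X : Fin d → MvPowerSeries (Fin d) (ResidueField R)))).map Φ) R := by
    rw [hmap]
    infer_instance
  apply surjective_of_mk_map_comp_surjective Φ
    (I := Ideal.span (Set.range
      (MvPowerSeries.X : Fin d → MvPowerSeries (Fin d) (ResidueField R))))
  intro z
  obtain ⟨r, rfl⟩ := Ideal.Quotient.mk_surjective z
  refine ⟨MvPowerSeries.C (residue R r), ?_⟩
  rw [RingHom.comp_apply, hC, Ideal.Quotient.mk_eq_mk_iff_sub_mem, hmap, ← residue_eq_zero_iff,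
    map_sub, hσ, sub_self]

theorem exists_coeffField (R : Type u) [CommRing R] [IsLocalRing R]
    [IsAdicComplete (maximalIdeal R) R] (k₀ : Type u) [Field k₀] [Algebra k₀ R] :
    ∃ σ : ResidueField R →+* R, ∀ x : ResidueField R, residue R (σ x) = x := by
  let k₁ : Subfield k₀ := ⊥
  have hperf : PerfectField k₁ := perfectField_bot k₀
  let _ : Algebra k₁ R := ((algebraMap k₀ R).comp k₁.subtype).toAlgebra
  have hgr : Algebra.IsGeometricallyReduced k₁ (ResidueField R) := geomReduced_of_perfect _ _
  obtain ⟨σ, hσ⟩ := Groth.Agent.S2452.result (k := k₁) (A := R)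
  exact ⟨σ.toRingHom, hσ⟩

theorem exists_gens (R : Type u) [CommRing R] [IsRegularLocalRing R] :
    ∃ (d : ℕ) (a : Fin d → R), Ideal.span (Set.range a) = maximalIdeal R ∧
      ringKrullDim R = d := by
  classical
  obtain ⟨s, hs1, hs2⟩ := Submodule.FG.exists_span_finset_card_eq_spanFinrank
    (IsNoetherian.noetherian (maximalIdeal R))
  refine ⟨s.card, fun i => (s.equivFin.symm i : R), ?_, ?_⟩
  · rw [← hs2]
    congr 1
    ext y
    constructor
    · rintro ⟨i, rfl⟩
      exact (s.equivFin.symm i).2
    · intro hy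
      exact ⟨s.equivFin ⟨y, hy⟩, by simp⟩
  · rw [hs1]
    exact (IsRegularLocalRing.spanFinrank_maximalIdeal (R := R)).symm

theorem main (R : Type u)
    [CommRing R] [IsRegularLocalRing R] [IsAdicComplete (IsLocalRing.maximalIdeal R) R]
    (k₀ : Type u) [Field k₀] [Algebra k₀ R] :
    ∃ d : ℕ, Nonempty (R ≃+* MvPowerSeries (Fin d) (IsLocalRing.ResidueField R)) := by
  obtain ⟨σ, hσ⟩ := exists_coeffField R k₀
  obtain ⟨d, a, ha, hd⟩ := exists_gens R
  obtain ⟨Φ, hΦ⟩ := exists_surjective R σ hσ a ha
  have hdom : IsDomain (MvPowerSeries (Fin d) (ResidueField R)) := NoZeroDivisors.to_isDomain _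
  have hinj : Function.Injective Φ :=
    Groth.Agent.Lib.Helper1.RegPS.injective_of_ringKrullDim_eq Φ hΦ d
      (Groth.Agent.Lib.Helper1.RegPS.ringKrullDim_ps d) hd
  exact ⟨d, ⟨(RingEquiv.ofBijective Φ ⟨hinj, hΦ⟩).symm⟩⟩

end Groth.Agent.Lib.Helper5.CohenEqui
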