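import Groth.Agent.Lib.Helper5.GeomRegInjG
import Mathlib

set_option autoImplicit false
universe u

open IsLocalRing TensorProduct KaehlerDifferential

namespace Groth.Agent.Lib.Helper5.GeomRegInj

variable {k A : Type u} [Field k] [CommRing A] [IsLocalRing A] [Algebra k A]

/-- a derivation with values in a field on which the maximal ideal acts by zero gives a functional
on `K ⊗ (A ⊗ Ω_k)` which vanishes on the kernel of the comparison map. -/
theorem exists_functional (L : Type u) [Field L] (ι : A →+* L) (D : A →+ L)
    (hι : ∀ a ∈ maximalIdeal A, ι a = 0)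
    (hleib : ∀ a b, D (a * b) = ι a * D b + ι b * D a) :
    ∃ Ψ : (ResidueField A) ⊗[A] (A ⊗[k] Ω[k⁄ℤ]) →+ L,
      (∀ (a : A) v, Ψ (a • v) = ι a * Ψ v) ∧
      (∀ t : k, Ψ (eForm (A := A) (KaehlerDifferential.D ℤ k t)) = D (algebraMap k A t)) ∧
      ∀ v, ((KaehlerDifferential.mapBaseChange ℤ k A).lTensor (ResidueField A)) v = 0 →
        Ψ v = 0 := by
  let _ : Algebra A L := ι.toAlgebra
  have hsmul : ∀ (a : A) (v : L), a • v = ι a * v := fun a v => rfl
  have hD1 : D 1 = 0 := by
    have h := hleib 1 1
    rw [mul_one, map_one ι, one_mul] at h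
    have h2 : D 1 + 0 = D 1 + D 1 := by rw [add_zero]; exact h
    exact (add_left_cancel h2).symm
  let D' : Derivation ℤ A L :=
    { toLinearMap := D.toIntLinearMap
      map_one_eq_zero' := hD1
      leibniz' := fun a b => by
        change D (a * b) = a • D b + b • D a
        rw [hsmul, hsmul, hleib] }
  have hloc : IsLocalHom ι := by
    refine ⟨fun a ha => ?_⟩
    by_contra hna
    exact ha.ne_zero (hι a ((mem_maximalIdeal a).mpr hna))
  let κ : ResidueField A →+* L := ResidueField.lift ι
  let _ : Algebra (ResidueField A) L := κ.toAlgebra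
  have hst : IsScalarTower A (ResidueField A) L :=
    IsScalarTower.of_algebraMap_eq (fun a => (ResidueField.lift_residue_apply ι a).symm)
  let Λ : (ResidueField A) ⊗[A] Ω[A⁄ℤ] →ₗ[ResidueField A] L :=
    D'.liftKaehlerDifferential.liftBaseChange (ResidueField A)
  let Ψ : (ResidueField A) ⊗[A] (A ⊗[k] Ω[k⁄ℤ]) →ₗ[A] L :=
    (Λ.restrictScalars A) ∘ₗ ((KaehlerDifferential.mapBaseChange ℤ k A).lTensor (ResidueField A))
  refine ⟨Ψ.toAddMonoidHom, fun a v => ?_, fun t => ?_, fun v hv => ?_⟩
  · change Ψ (a • v) = ι a * Ψ v
    rw [map_smul, hsmul]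
  · change Λ (((KaehlerDifferential.mapBaseChange ℤ k A).lTensor (ResidueField A))
      (eForm (A := A) (KaehlerDifferential.D ℤ k t))) = D (algebraMap k A t)
    rw [eForm_apply, LinearMap.lTensor_tmul, KaehlerDifferential.mapBaseChange_tmul, one_smul,
      KaehlerDifferential.map_D, LinearMap.liftBaseChange_tmul, one_smul,
      Derivation.liftKaehlerDifferential_comp_D]
    rfl
  · change Λ (((KaehlerDifferential.mapBaseChange ℤ k A).lTensor (ResidueField A)) v) = 0
    rw [hv, map_zero]

/-- for a geometrically regular local algebra over a field of positive characteristic, the map on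
absolute differentials stays injective after passing to the residue field. -/
theorem injective_of_geomRegular (k A : Type u) [Field k] [CommRing A] [IsLocalRing A]
    [Algebra k A] (p : ℕ) [Fact p.Prime] [CharP k p] (hA : CAlg.IsGeometricallyRegular k A) :
    Function.Injective
      ((KaehlerDifferential.mapBaseChange ℤ k A).lTensor (ResidueField A)) := by
  classical
  rw [injective_iff_map_eq_zero]
  intro ξ hξ
  by_contra hne
  let e : k → (ResidueField A) ⊗[A] (A ⊗[k] Ω[k⁄ℤ]) :=
    fun t => eForm (A := A) (KaehlerDifferential.D ℤ k t)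
  have main : ∀ n : ℕ, ∀ s : Finset k, s.card = n →
      ξ ∈ Submodule.span A (e '' (s : Set k)) → False := by
    intro n
    induction n with
    | zero =>
      intro s hs hmem
      rw [Finset.card_eq_zero] at hs
      subst hs
      rw [Finset.coe_empty, Set.image_empty, Submodule.span_empty, Submodule.mem_bot] at hmem
      exact hne hmem
    | succ n ih =>
      intro s hs hmem
      by_cases hex : ∃ x₁ ∈ s, ξ ∈ Submodule.span A (e '' ((s.erase x₁ : Finset k) : Set k))
      · obtain ⟨x₁, hx₁, hmem'⟩ := hex
        exact ih (s.erase x₁) (by rw [Finset.card_erase_of_mem hx₁, hs]; rfl) hmem'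
      · push Not at hex
        have hne_s : s.Nonempty := by
          rw [← Finset.card_pos, hs]
          omega
        obtain ⟨x₁, hx₁⟩ := hne_s
        have hnot := hex x₁ hx₁
        have hins : (s : Set k) = insert x₁ ((s.erase x₁ : Finset k) : Set k) := by
          rw [Finset.coe_erase, Set.insert_sdiff_singleton,
            Set.insert_eq_of_mem (Finset.mem_coe.mpr hx₁)]
        rw [hins, Set.image_insert_eq] at hmem
        obtain ⟨a, η, hη, hξeq⟩ := Submodule.mem_span_insert.mp hmem
        have ha : a ∉ maximalIdeal A := by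
          intro ham
          apply hnot
          rw [hξeq, smul_eq_zero_of_mem a ham, zero_add]
          exact hη
        have hdx : KaehlerDifferential.D ℤ k x₁ ∉ Submodule.span k
            ((KaehlerDifferential.D ℤ k) '' ((s.erase x₁ : Finset k) : Set k)) := by
          intro hmemd
          apply hnot
          rw [hξeq]
          exact Submodule.add_mem _ (Submodule.smul_mem _ _ (eForm_mem_span _ _ hmemd)) hη
        obtain ⟨L, hL, ι, D, hι, hleib, hDx, hDs⟩ :=
          exists_derivation_field k A p hA (s.erase x₁) x₁ hdx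
        obtain ⟨Ψ, hΨs, hΨe, hΨk⟩ := exists_functional (k := k) L ι D hι hleib
        have h0 : Ψ ξ = 0 := hΨk ξ hξ
        have hΨspan : ∀ v ∈ Submodule.span A (e '' ((s.erase x₁ : Finset k) : Set k)),
            Ψ v = 0 := by
          intro v hv
          induction hv using Submodule.span_induction with
          | mem v hv =>
            obtain ⟨y, hy, rfl⟩ := hv
            rw [hΨe]
            exact hDs y (Finset.mem_coe.mp hy)
          | zero => rw [map_zero]
          | add x y _ _ hx hy => rw [map_add, hx, hy, add_zero]
          | smul b x _ hx => rw [hΨs, hx, mul_zero]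
        have hη0 : Ψ η = 0 := hΨspan η hη
        rw [hξeq, map_add, hΨs, hη0, add_zero, hΨe] at h0
        have hu : IsUnit a := by
          by_contra hna
          exact ha ((mem_maximalIdeal a).mpr hna)
        have hιa : ι a ≠ 0 := (hu.map ι).ne_zero
        exact (mul_ne_zero hιa hDx) h0
  have hspan := mem_span_range (k := k) (A := A) ξ
  obtain ⟨T, hT, hξT⟩ := Submodule.mem_span_finite_of_mem_span hspan
  obtain ⟨s, -, hsT⟩ := Finset.subset_set_image_iff.mp hT
  apply main s.card s rfl
  rw [← Finset.coe_image, hsT]
  exact hξT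

end Groth.Agent.Lib.Helper5.GeomRegInj
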