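import Groth.Agent.Lib.Helper5.KahlerInjD
import Mathlib

set_option autoImplicit false
universe u

open TensorProduct IsLocalRing KaehlerDifferential

namespace Groth.Agent.Lib.Helper5.KahlerInj

open Groth.Agent.Lib.Helper5.AdicReg (PF)

variable {k A : Type u} [Field k] [CommRing A] [Algebra k A]

/-- a regular local algebra over a field for which the map on absolute differentials is injective
after passing to the residue field is adically formally smooth. -/
theorem adicSmooth_of_regular_of_injective [IsRegularLocalRing A]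
    (hinj : Function.Injective
      ((KaehlerDifferential.mapBaseChange ℤ k A).lTensor (ResidueField A))) :
    CAlgX.IsAdicFormallySmooth k A (maximalIdeal A) := by
  let _ : Algebra (PF k) A := ((algebraMap k A).comp (algebraMap (PF k) k)).toAlgebra
  have hst : IsScalarTower (PF k) k A := IsScalarTower.of_algebraMap_eq (fun _ => rfl)
  have hgr : Algebra.IsGeometricallyReduced (PF k) (ResidueField A) :=
    Groth.Agent.Lib.Helper5.CohenEqui.geomReduced_of_perfect _ _
  have h0 : CAlgX.IsAdicFormallySmooth (PF k) A (maximalIdeal A) :=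
    Groth.Agent.Lib.Helper5.AdicReg.adicSmooth_of_regular
  have hsm := (Groth.Agent.S4537.result (maximalIdeal A)).1 h0
  intro C _ _ J hJ ψ hψ
  obtain ⟨n, hn⟩ := hψ
  let _ : Algebra (PF k) C := ((algebraMap k C).comp (algebraMap (PF k) k)).toAlgebra
  have hstC : IsScalarTower (PF k) k C := IsScalarTower.of_algebraMap_eq (fun _ => rfl)
  let ψ₀ : A →ₐ[PF k] C ⧸ J := ψ.restrictScalars (PF k)
  obtain ⟨χ₀, hχ₀⟩ := h0 C J hJ ψ₀ ⟨n, hn⟩
  have hχ₀' : ∀ x : A, Ideal.Quotient.mk J (χ₀ x) = ψ x := fun x => AlgHom.congr_fun hχ₀ x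
  let _ : Algebra A C := χ₀.toRingHom.toAlgebra
  have halg : ∀ x : A, algebraMap A C x = χ₀ x := fun _ => rfl
  have hJJ : ∀ a b : C, a ∈ J → b ∈ J → a * b = 0 := by
    intro a b ha hb
    have : a * b ∈ J ^ 2 := by rw [pow_two]; exact Ideal.mul_mem_mul ha hb
    rwa [hJ, Ideal.mem_bot] at this
  have hdiff : ∀ t : k, χ₀ (algebraMap k A t) - algebraMap k C t ∈ J := by
    intro t
    rw [← Ideal.Quotient.eq_zero_iff_mem, map_sub, hχ₀', AlgHom.commutes, sub_eq_zero]
    rfl
  have hstJ : IsScalarTower k A J := by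
    refine ⟨fun c a j => ?_⟩
    apply Subtype.ext
    rw [Submodule.coe_smul_of_tower, Submodule.coe_smul_of_tower, Submodule.coe_smul_of_tower,
      Algebra.smul_def (c • a) (j : C), Algebra.smul_def c (a • (j : C)),
      Algebra.smul_def a (j : C), halg, halg, Algebra.smul_def c a, map_mul,
      mul_assoc, ← sub_eq_zero, ← sub_mul]
    exact hJJ _ _ (hdiff c) (J.mul_mem_left _ j.2)
  have hkill : ∀ x ∈ maximalIdeal A ^ n, ∀ y : J, x • y = 0 := by
    intro x hx y
    apply Subtype.ext
    rw [Submodule.coe_smul_of_tower, Algebra.smul_def, halg, Submodule.coe_zero]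
    refine hJJ _ _ ?_ y.2
    rw [← Ideal.Quotient.eq_zero_iff_mem, hχ₀']
    exact hn x hx
  let f₀ : k →ₐ[ℤ] C := ((χ₀ : A →+* C).comp (algebraMap k A)).toIntAlgHom
  have he : (Ideal.Quotient.mkₐ ℤ J).comp f₀ = IsScalarTower.toAlgHom ℤ k (C ⧸ J) := by
    ext t
    change Ideal.Quotient.mk J (χ₀ (algebraMap k A t)) = algebraMap k (C ⧸ J) t
    rw [hχ₀', AlgHom.commutes]
  let δ : Derivation ℤ k J := derivationToSquareZeroOfLift J hJ f₀ he
  have hδ : ∀ t, ((δ t : J) : C) = χ₀ (algebraMap k A t) - algebraMap k C t := fun t => rfl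
  obtain ⟨D, hD⟩ := ext_aux hsm hinj n J hkill δ
  let χ : A →ₐ[ℤ] C := liftOfDerivationToSquareZero J hJ (-D)
  have hχ : ∀ x : A, χ x = ((-D) x : J) + χ₀ x := fun x => rfl
  let χ' : A →ₐ[k] C :=
    { χ.toRingHom with
      commutes' := fun t => by
        change χ (algebraMap k A t) = algebraMap k C t
        rw [hχ, Derivation.neg_apply, hD, Submodule.coe_neg, hδ]
        ring }
  refine ⟨χ', ?_⟩
  ext x
  change Ideal.Quotient.mk J (χ x) = ψ x
  rw [hχ, map_add, Ideal.Quotient.eq_zero_iff_mem.mpr ((-D) x).2, zero_add, hχ₀']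

end Groth.Agent.Lib.Helper5.KahlerInj
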