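import Groth.Agent.Lib.Helper5.FlatSmoothC
import Groth.Agent.Lib.Helper5.FlatCohenE
import Groth.Agent.Lib.Helper5.AdicRegG
import Groth.Agent.S2035
import Groth.Agent.Lib.Helper5.RegHomBasic
import Groth.Agent.Lib.Helper5.AdicBase
import Groth.Agent.S2036

set_option autoImplicit false
set_option linter.unusedSectionVars false
universe u

namespace Groth.Agent.Lib.Helper5.FlatSmooth

open IsLocalRing TensorProduct

section Field

variable (k F : Type u) [Field k] [CommRing F] [IsLocalRing F] [IsNoetherianRing F] [Algebra k F]

theorem geomRegular_iff_adicSmooth :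
    CAlg.IsGeometricallyRegular k F ↔ CAlgX.IsAdicFormallySmooth k F (maximalIdeal F) := by
  refine ⟨fun h => ?_, AdicReg.geomRegular_of_adicSmooth⟩
  obtain ⟨p, hp⟩ := CharP.exists k
  rcases CharP.char_is_prime_or_zero k p with hpp | rfl
  · have _ : Fact p.Prime := ⟨hpp⟩
    exact (Groth.Agent.S2036.result p).1 h
  · have hz : CharZero k := CharP.charP_to_charZero _
    have h1 : IsRegularRing F := RegHom.isRegularRing_of_geomRegular k F h
    have h3 : IsRegularLocalRing F := IsRegularLocalRing.of_isRegularRing_of_isLocalRing F
    exact (Groth.Agent.S2035.result (k := k)).1 h3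

end Field

section Fiber

variable (A B : Type u) [CommRing A] [IsLocalRing A] [CommRing B] [IsLocalRing B]
  [IsNoetherianRing B] [Algebra A B] [IsLocalHom (algebraMap A B)]

theorem includeRight_surjective :
    Function.Surjective (Algebra.TensorProduct.includeRight :
      B →ₐ[A] (maximalIdeal A).Fiber B) :=
  Algebra.TensorProduct.includeRight_surjective B
    (Ideal.algebraMap_residueField_surjective (maximalIdeal A))

theorem nontrivial_fiber : Nontrivial ((maximalIdeal A).Fiber B) := by
  let f : A →+* ResidueField B := (residue B).comp (algebraMap A B)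
  have hf₁ : maximalIdeal A ≤ RingHom.ker f := by
    intro a ha
    rw [RingHom.mem_ker]
    change residue B (algebraMap A B a) = 0
    rw [residue_eq_zero_iff]
    exact map_nonunit (algebraMap A B) a ha
  have hf₂ : (maximalIdeal A).primeCompl ≤ (IsUnit.submonoid (ResidueField B)).comap f := by
    intro a ha
    have hu : IsUnit a := by
      by_contra hnu
      exact ha hnu
    exact hu.map f
  let g : (maximalIdeal A).ResidueField →+* ResidueField B :=
    Ideal.ResidueField.lift (maximalIdeal A) f hf₁ hf₂
  have hg : ∀ a, g (algebraMap A _ a) = f a := Ideal.ResidueField.lift_algebraMap _ f hf₁ hf₂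
  let β : (maximalIdeal A).ResidueField →ₗ[A] B →ₗ[A] ResidueField B :=
    LinearMap.mk₂ A (fun c b => g c * residue B b)
      (fun c c' b => by rw [map_add, add_mul])
      (fun a c b => by
        rw [Algebra.smul_def, map_mul, hg, mul_assoc, Algebra.smul_def]
        rfl)
      (fun c b b' => by rw [map_add, mul_add])
      (fun a c b => by
        rw [Algebra.smul_def, map_mul, Algebra.smul_def, ← mul_assoc, mul_comm (g c), mul_assoc]
        rfl)
  let L : (maximalIdeal A).Fiber B →ₗ[A] ResidueField B := TensorProduct.lift β
  have hL : L ((1 : (maximalIdeal A).ResidueField) ⊗ₜ[A] (1 : B)) = 1 := by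
    change g 1 * residue B 1 = 1
    rw [map_one, map_one, one_mul]
  refine ⟨⟨1, 0, fun h10 => ?_⟩⟩
  have h1 : ((1 : (maximalIdeal A).ResidueField) ⊗ₜ[A] (1 : B) : (maximalIdeal A).Fiber B) = 0 := by
    rw [← Algebra.TensorProduct.one_def]
    exact h10
  rw [h1, map_zero] at hL
  exact zero_ne_one hL

theorem isLocalRing_fiber : IsLocalRing ((maximalIdeal A).Fiber B) := by
  have := nontrivial_fiber A B
  exact IsLocalRing.of_surjective' (Algebra.TensorProduct.includeRight :
      B →ₐ[A] (maximalIdeal A).Fiber B).toRingHom (includeRight_surjective A B)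

theorem isNoetherianRing_fiber : IsNoetherianRing ((maximalIdeal A).Fiber B) :=
  isNoetherianRing_of_surjective B _ (Algebra.TensorProduct.includeRight :
      B →ₐ[A] (maximalIdeal A).Fiber B).toRingHom (includeRight_surjective A B)

theorem maximalIdeal_fiber [IsLocalRing ((maximalIdeal A).Fiber B)] :
    maximalIdeal ((maximalIdeal A).Fiber B) =
      (maximalIdeal B).map (Algebra.TensorProduct.includeRight :
        B →ₐ[A] (maximalIdeal A).Fiber B).toRingHom :=
  (AdicBase.map_maximalIdeal_of_surjective _ (includeRight_surjective A B)).symm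

end Fiber

section Main

variable {A B : Type u} [CommRing A] [CommRing B] [IsLocalRing A] [IsLocalRing B]
  [IsNoetherianRing A] [IsNoetherianRing B] [Algebra A B] [IsLocalHom (algebraMap A B)]

theorem flat_geomRegular_iff_adicSmooth :
    (Module.Flat A B ∧ CAlg.IsGeometricallyRegular (maximalIdeal A).ResidueField
        ((maximalIdeal A).Fiber B)) ↔
      CAlgX.IsAdicFormallySmooth A B (maximalIdeal B) := by
  have hloc := isLocalRing_fiber A B
  have hN := isNoetherianRing_fiber A B
  have hmax := maximalIdeal_fiber A B
  constructor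
  · rintro ⟨hflat, hgr⟩
    have h1 := (geomRegular_iff_adicSmooth _ _).1 hgr
    rw [hmax] at h1
    exact adicSmooth_of_flat_of_fiber h1
  · intro h
    refine ⟨FlatCohen.flat_of_adicSmooth h, ?_⟩
    have h1 := AdicReg.adicSmooth_baseChange (k' := (maximalIdeal A).ResidueField)
      (maximalIdeal B) h
    rw [← hmax] at h1
    exact AdicReg.geomRegular_of_adicSmooth h1

end Main

end Groth.Agent.Lib.Helper5.FlatSmooth
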