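import Groth.Agent.Lib.Helper5.SerreLoc
import Groth.Agent.Lib.helper11.ExtBC
import Mathlib

set_option autoImplicit false
set_option linter.unusedSectionVars false
universe u

namespace Groth.Agent.Lib.Helper5.SerreLoc

open CategoryTheory IsLocalRing TensorProduct

theorem regular_of_flat (R : Type u) [CommRing R]
    [IsLocalRing R] [IsNoetherianRing R] (S : Type u) [CommRing S] [IsRegularLocalRing S] [Algebra R S]
    [IsLocalHom (algebraMap R S)] [Module.Flat R S] : IsRegularLocalRing R := by
  obtain ⟨d, hd⟩ := exists_finite_ringKrullDim S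
  have hff : Module.FaithfullyFlat R S := Module.FaithfullyFlat.of_flat_of_isLocalHom
  have hκ : ∀ (N : Type u) [AddCommGroup N] [Module R N] [Module.Finite R N] (i : ℕ), d + 1 ≤ i →
      Subsingleton (Abelian.Ext (ModuleCat.of R (ResidueField R)) (ModuleCat.of R N) i) := by
    intro N _ _ _ i hi
    obtain ⟨e⟩ := Groth.Agent.Lib.helper11.ExtBC.ext_baseChange R S N i (ResidueField R)
    have hpd : HasProjectiveDimensionLT (ModuleCat.of S (S ⊗[R] ResidueField R)) (d + 1) :=
      Groth.Agent.Lib.helper11.GlDimRegular.hasProjectiveDimensionLT_of_isRegularLocalRing d hd _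
    have h1 : Subsingleton (Abelian.Ext (ModuleCat.of S (S ⊗[R] ResidueField R))
        (ModuleCat.of S (S ⊗[R] N)) i) :=
      HasProjectiveDimensionLT.subsingleton _ (d + 1) i hi _
    have h2 : Subsingleton (S ⊗[R] Abelian.Ext (ModuleCat.of R (ResidueField R))
        (ModuleCat.of R N) i) := e.toEquiv.subsingleton
    exact Module.FaithfullyFlat.lTensor_reflects_triviality R S _
  have hpd := Groth.Agent.Lib.helper11.GlDimRegular.hasProjectiveDimensionLT_of_ext_residue d hκ
    (ModuleCat.of R (ResidueField R))
  exact Groth.Agent.Lib.Helper5.SerreConv.serre_converse R (d + 1) hpd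

end Groth.Agent.Lib.Helper5.SerreLoc
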