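import Groth.Agent.Lib.Helper5.RegCompletionB
import Groth.Agent.Lib.Helper5.SerreFlat
import Mathlib

set_option autoImplicit false
universe u

namespace Groth.Agent.Lib.Helper5.RegCompletion

open IsLocalRing

variable (A : Type u) [CommRing A] [IsNoetherianRing A] (J : Ideal A)

theorem map_comap_eq_of_isMaximal (n : Ideal (AdicCompletion J A)) [hn : n.IsMaximal] :
    (n.comap (algebraMap A (AdicCompletion J A))).map (algebraMap A (AdicCompletion J A)) = n := by
  have hfg : J.FG := IsNoetherian.noetherian J
  have hcomp := AdicCompletion.isAdicComplete_self J hfg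
  have hJn : J.map (algebraMap A (AdicCompletion J A)) ≤ n :=
    (IsAdicComplete.le_jacobson_bot _).trans (sInf_le ⟨bot_le, hn⟩)
  have hJm : J ≤ n.comap (algebraMap A (AdicCompletion J A)) := Ideal.map_le_iff_le_comap.mp hJn
  apply le_antisymm Ideal.map_comap_le
  intro y hy
  obtain ⟨a, ha⟩ := Ideal.Quotient.mk_surjective (AdicCompletion.evalOneₐ J y)
  have h1 : y - algebraMap A (AdicCompletion J A) a ∈ J.map (algebraMap A (AdicCompletion J A)) := by
    rw [← AdicCompletion.ker_evalOneₐ_eq_map J hfg, RingHom.mem_ker]
    simp only [AlgHom.toRingHom_eq_coe, RingHom.coe_coe, map_sub, AlgHom.commutes]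
    rw [sub_eq_zero, ← ha]
    rfl
  have h2 : algebraMap A (AdicCompletion J A) a ∈ n := by
    have := n.sub_mem hy (hJn h1)
    rwa [sub_sub_cancel] at this
  have h3 : a ∈ n.comap (algebraMap A (AdicCompletion J A)) := h2
  have h4 : y = (y - algebraMap A (AdicCompletion J A) a) + algebraMap A (AdicCompletion J A) a := by
    ring
  rw [h4]
  exact Ideal.add_mem _ (Ideal.map_mono hJm h1) (Ideal.mem_map_of_mem _ h3)

theorem isLocalRing_adicCompletion [IsLocalRing A] (hJ : J ≠ ⊤) :
    IsLocalRing (AdicCompletion J A) := by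
  have hfg : J.FG := IsNoetherian.noetherian J
  have hle : J ≤ maximalIdeal A := le_maximalIdeal hJ
  have hmax := AdicCompletion.isMaximal_map_of_le J (maximalIdeal A) hle hfg
  refine IsLocalRing.of_unique_max_ideal ⟨_, hmax, ?_⟩
  intro n hn
  have h1 := map_comap_eq_of_isMaximal A J n
  have hp : (n.comap (algebraMap A (AdicCompletion J A))).IsPrime := Ideal.comap_isPrime _ _
  have h2 : n ≤ (maximalIdeal A).map (algebraMap A (AdicCompletion J A)) := by
    rw [← h1]
    exact Ideal.map_mono (le_maximalIdeal hp.ne_top)
  exact hn.eq_of_le hmax.ne_top h2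

theorem maximalIdeal_adicCompletion [IsLocalRing A] (hJ : J ≠ ⊤)
    [IsLocalRing (AdicCompletion J A)] :
    (maximalIdeal A).map (algebraMap A (AdicCompletion J A)) =
      maximalIdeal (AdicCompletion J A) := by
  have hfg : J.FG := IsNoetherian.noetherian J
  have hle : J ≤ maximalIdeal A := le_maximalIdeal hJ
  have hmax := AdicCompletion.isMaximal_map_of_le J (maximalIdeal A) hle hfg
  exact IsLocalRing.eq_maximalIdeal hmax

theorem adicCompletion_dim_and_regular [IsLocalRing A] (hJ : J ≠ ⊤) :
    ringKrullDim (AdicCompletion J A) = ringKrullDim A ∧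
      (IsRegularLocalRing A ↔ IsRegularLocalRing (AdicCompletion J A)) := by
  have hN : IsNoetherianRing (AdicCompletion J A) :=
    Groth.Agent.Lib.helper19.isNoetherianRing_adicCompletion A J
  have hloc := isLocalRing_adicCompletion A J hJ
  have hmap := maximalIdeal_adicCompletion A J hJ
  have hlh : IsLocalHom (algebraMap A (AdicCompletion J A)) := by
    refine ((IsLocalRing.local_hom_TFAE (algebraMap A (AdicCompletion J A))).out 2 0).mp ?_
    rw [hmap]
  have hflat : Module.Flat A (AdicCompletion J A) := inferInstance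
  refine ⟨?_, ?_, ?_⟩
  · have hover : (maximalIdeal (AdicCompletion J A)).LiesOver (maximalIdeal A) :=
      ⟨(IsLocalRing.maximalIdeal_comap (algebraMap A (AdicCompletion J A))).symm⟩
    have h := Ideal.height_eq_height_add_of_liesOver_of_hasGoingDown (maximalIdeal A)
      (maximalIdeal (AdicCompletion J A))
    have hmap' : (maximalIdeal (AdicCompletion J A)).map
        (Ideal.Quotient.mk ((maximalIdeal A).map (algebraMap A (AdicCompletion J A)))) = ⊥ := by
      rw [hmap, Ideal.map_quotient_self]
    have hnt : Nontrivial (AdicCompletion J A ⧸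
        (maximalIdeal A).map (algebraMap A (AdicCompletion J A))) := by
      rw [hmap]
      exact Ideal.Quotient.nontrivial_iff.mpr (maximalIdeal.isMaximal _).ne_top
    rw [hmap', Ideal.height_bot, add_zero] at h
    rw [← IsLocalRing.maximalIdeal_height_eq_ringKrullDim, h,
      IsLocalRing.maximalIdeal_height_eq_ringKrullDim]
  · intro h
    exact regular_of_flat_map_eq (A := A) hmap
  · intro h
    exact Groth.Agent.Lib.Helper5.SerreLoc.regular_of_flat A (AdicCompletion J A)

end Groth.Agent.Lib.Helper5.RegCompletion
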