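import Groth.Agent.Lib.Helper5.AdicLift
import Mathlib.RingTheory.Flat.EquationalCriterion
import Mathlib.RingTheory.AdicCompletion.Functoriality
import Mathlib.RingTheory.Nakayama

set_option autoImplicit false
set_option linter.unusedSectionVars false
universe u

namespace Groth.Agent.Lib.Helper5.FlatLiftIso

open EGA41

section FlatKer

variable {A M M' : Type*} [CommRing A] [AddCommGroup M] [Module A M] [AddCommGroup M']
  [Module A M'] [Module.Flat A M']

theorem ker_inf_smul_top_le (g : M →ₗ[A] M') (hg : Function.Surjective g) (J : Ideal A) :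
    LinearMap.ker g ⊓ (J • ⊤ : Submodule A M) ≤ J • LinearMap.ker g := by
  classical
  rintro x ⟨hx0, hxJ⟩
  have hx0' : g x = 0 := hx0
  have htop : (⊤ : Submodule A M) = Submodule.span A (Set.range (id : M → M)) := by
    rw [Set.range_id, Submodule.span_univ]
  rw [SetLike.mem_coe, htop, Submodule.mem_ideal_smul_span_iff_exists_sum] at hxJ
  obtain ⟨a, ha, hax⟩ := hxJ
  rw [Finsupp.sum] at hax
  have hrel : ∑ i : a.support, a i.1 • g i.1 = 0 := by
    rw [← hx0', ← hax, map_sum, ← Finset.sum_coe_sort a.support]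
    refine Finset.sum_congr rfl (fun i _ => ?_)
    rw [map_smul]
    rfl
  obtain ⟨k, c, y, hy, hc⟩ := Module.Flat.isTrivialRelation_of_sum_smul_eq_zero hrel
  replace hy : ∀ i : a.support, g i.1 = ∑ j, c i j • y j := hy
  replace hc : ∀ j, ∑ i : a.support, a i.1 * c i j = 0 := hc
  choose yt hyt using fun j => hg (y j)
  have hn : ∀ i : a.support, i.1 - ∑ j, c i j • yt j ∈ LinearMap.ker g := by
    intro i
    rw [LinearMap.mem_ker, map_sub, map_sum, hy i, sub_eq_zero]
    refine Finset.sum_congr rfl (fun j _ => ?_)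
    rw [map_smul, hyt]
  have hxsum : x = ∑ i : a.support, a i.1 • (i.1 - ∑ j, c i j • yt j) := by
    have h1 : ∑ i : a.support, a i.1 • (∑ j, c i j • yt j) = 0 := by
      simp_rw [Finset.smul_sum, smul_smul]
      rw [Finset.sum_comm]
      refine Finset.sum_eq_zero (fun j _ => ?_)
      rw [← Finset.sum_smul, hc j, zero_smul]
    simp_rw [smul_sub]
    rw [Finset.sum_sub_distrib, h1, sub_zero, ← hax, ← Finset.sum_coe_sort a.support]
    rfl
  rw [hxsum]
  exact Submodule.sum_mem _ (fun i _ => Submodule.smul_mem_smul (ha i.1) (hn i))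

end FlatKer

section Main

open IsLocalRing

variable {A B B' : Type u} [CommRing A] (J : Ideal A)
    [CommRing B] [IsLocalRing B] [IsNoetherianRing B] [Algebra A B]
    [CommRing B'] [Algebra A B']

theorem exists_algEquiv (hB : J.map (algebraMap A B) ≤ maximalIdeal B)
    [IsAdicComplete (J.map (algebraMap A B)) B] [IsAdicComplete (J.map (algebraMap A B')) B']
    (hfs : IsFormallySmoothAdic A J B (J.map (algebraMap A B))) [Module.Flat A B']
    (u₀ : (B ⧸ J.map (algebraMap A B)) ≃ₐ[A ⧸ J] (B' ⧸ J.map (algebraMap A B'))) :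
    ∃ u : B ≃ₐ[A] B', ∀ b : B,
      Ideal.Quotient.mk (J.map (algebraMap A B')) (u b) =
        u₀ (Ideal.Quotient.mk (J.map (algebraMap A B)) b) := by
  set JB := J.map (algebraMap A B) with hJB
  set JB' := J.map (algebraMap A B') with hJB'
  let u : B →ₐ[A] B' ⧸ JB' :=
    ((u₀.restrictScalars A) : (B ⧸ JB) →ₐ[A] (B' ⧸ JB')).comp (Ideal.Quotient.mkₐ A JB)
  have hu_apply : ∀ b, u b = u₀ (Ideal.Quotient.mk JB b) := fun b => rfl
  have hH : IsHausdorff (JB'.map (Ideal.Quotient.mk JB')) (B' ⧸ JB') := by
    rw [Ideal.map_quotient_self]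
    refine ⟨fun x hx => ?_⟩
    have := hx 1
    rw [pow_one, Submodule.bot_smul, SModEq.zero, Submodule.mem_bot] at this
    exact this
  have hu : ∃ k : ℕ, (JB ^ k).map u.toRingHom ≤ JB'.map (Ideal.Quotient.mk JB') := by
    refine ⟨1, ?_⟩
    rw [pow_one, Ideal.map_le_iff_le_comap]
    intro x hx
    rw [Ideal.mem_comap]
    change u x ∈ _
    rw [hu_apply, Ideal.Quotient.eq_zero_iff_mem.2 hx, map_zero]
    exact Ideal.zero_mem _
  obtain ⟨v, -, hv⟩ := AdicLift.exists_lift_adicComplete J JB JB' hfs ⟨1, by rw [pow_one]⟩ JB'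
    ⟨1, by rw [pow_one]⟩ u hu
  have hvmk : ∀ b, Ideal.Quotient.mk JB' (v b) = u₀ (Ideal.Quotient.mk JB b) :=
    fun b => AlgHom.congr_fun hv b
  have hsurj : Function.Surjective v := by
    have h1 : IsPrecomplete J B :=
      IsPrecomplete.map_algebraMap_iff.1 (inferInstance : IsPrecomplete JB B)
    have h2 : IsHausdorff J B' :=
      IsHausdorff.map_algebraMap_iff.1 (inferInstance : IsHausdorff JB' B')
    have h3 : Function.Surjective
        ((J • ⊤ : Submodule A B').mkQ ∘ₗ v.toLinearMap) := by
      intro y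
      obtain ⟨y', rfl⟩ := Submodule.Quotient.mk_surjective _ y
      obtain ⟨b, hb⟩ := Ideal.Quotient.mk_surjective (u₀.symm (Ideal.Quotient.mk JB' y'))
      refine ⟨b, ?_⟩
      rw [LinearMap.comp_apply, Submodule.mkQ_apply, Submodule.Quotient.eq,
        Ideal.smul_top_eq_map]
      change v b - y' ∈ JB'
      rw [← Ideal.Quotient.eq, hvmk, hb, AlgEquiv.apply_symm_apply]
    exact surjective_of_mkQ_comp_surjective (I := J) (f := v.toLinearMap) h3
  have hinj : Function.Injective v := by
    rw [injective_iff_map_eq_zero]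
    set N : Ideal B := RingHom.ker v with hNdef
    have hNJ : N ≤ JB := by
      intro x hx
      have hx0 : v x = 0 := hx
      have h1 := hvmk x
      rw [hx0, map_zero] at h1
      have h2 : Ideal.Quotient.mk JB x = 0 := by
        apply u₀.injective
        rw [← h1, map_zero]
      exact Ideal.Quotient.eq_zero_iff_mem.1 h2
    have hN : N ≤ JB • N := by
      intro x hx
      have h1 : x ∈ LinearMap.ker v.toLinearMap ⊓ (J • ⊤ : Submodule A B) := by
        refine ⟨hx, ?_⟩
        rw [Ideal.smul_top_eq_map]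
        exact hNJ hx
      have h2 := ker_inf_smul_top_le v.toLinearMap hsurj J h1
      refine Submodule.smul_induction_on h2 ?_ ?_
      · intro a ha n hn
        have hn' : n ∈ N := hn
        have h3 : a • n = algebraMap A B a * n := Algebra.smul_def a n
        have h4 := Ideal.mul_mem_mul (Ideal.mem_map_of_mem (algebraMap A B) ha) hn'
        rw [← h3] at h4
        exact h4
      · intro y z hy hz
        exact add_mem hy hz
    have hN0 : N = ⊥ := Submodule.eq_bot_of_le_smul_of_le_jacobson_bot JB N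
      (IsNoetherian.noetherian N) hN (hB.trans (IsLocalRing.maximalIdeal_le_jacobson _))
    intro x hx
    have : x ∈ N := hx
    rw [hN0] at this
    exact (Submodule.mem_bot _).1 this
  exact ⟨AlgEquiv.ofBijective v ⟨hinj, hsurj⟩, fun b => hvmk b⟩

end Main

end Groth.Agent.Lib.Helper5.FlatLiftIso
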