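import Groth.Agent.Lib.Helper5.NilpFlat
import Mathlib.LinearAlgebra.TensorProduct.Quotient
import Mathlib.RingTheory.Flat.Stability

set_option autoImplicit false
set_option linter.unusedSectionVars false
universe u

namespace Groth.Agent.Lib.Helper5.FlatLiftNilp

open TensorProduct

variable {R : Type*} [CommRing R] (𝔪 : Ideal R) [h𝔪 : 𝔪.IsMaximal] (n : ℕ)
  {M P Q : Type*} [AddCommGroup M] [Module R M] [Module.Flat R M]
  [AddCommGroup P] [Module R P] [AddCommGroup Q] [Module R Q]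

theorem exists_lift_of_flat (hP : ∀ a ∈ 𝔪 ^ n, ∀ y : P, a • y = 0)
    (hQ : ∀ a ∈ 𝔪 ^ n, ∀ y : Q, a • y = 0) (f : P →ₗ[R] Q) (hf : Function.Surjective f)
    (v : M →ₗ[R] Q) : ∃ w : M →ₗ[R] P, f ∘ₗ w = v := by
  classical
  rcases Nat.eq_zero_or_pos n with hn | hn
  · subst hn
    have hQ0 : ∀ y : Q, y = 0 := by
      intro y
      have := hQ 1 (by rw [pow_zero, Ideal.one_eq_top]; trivial) y
      rwa [one_smul] at this
    refine ⟨0, LinearMap.ext fun x => ?_⟩
    rw [hQ0 (v x), hQ0 ((f ∘ₗ (0 : M →ₗ[R] P)) x)]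
  set I : Ideal R := 𝔪 ^ n with hI
  have hI𝔪 : I ≤ 𝔪 := Ideal.pow_le_self (Nat.pos_iff_ne_zero.1 hn)
  have hmax : (𝔪.map (Ideal.Quotient.mk I)).IsMaximal := by
    refine Ideal.IsMaximal.map_of_surjective_of_ker_le Ideal.Quotient.mk_surjective ?_
    rw [Ideal.mk_ker]
    exact hI𝔪
  have hnil : (𝔪.map (Ideal.Quotient.mk I)) ^ n = ⊥ := by
    rw [← Ideal.map_pow, ← hI, Ideal.map_quotient_self]
  have hsurjR : Function.Surjective (algebraMap R (R ⧸ I)) := Ideal.Quotient.mk_surjective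
  -- flatness and freeness of the reduction
  have hflat : Module.Flat (R ⧸ I) (M ⧸ (I • ⊤ : Submodule R M)) := by
    have e : ((R ⧸ I) ⊗[R] M) ≃ₗ[R ⧸ I] (M ⧸ (I • ⊤ : Submodule R M)) :=
      (TensorProduct.quotTensorEquivQuotSMul M I).extendScalarsOfSurjective hsurjR
    exact Module.Flat.of_linearEquiv e.symm
  have hfree : Module.Free (R ⧸ I) (M ⧸ (I • ⊤ : Submodule R M)) :=
    NilpFree.free_of_flat (𝔪.map (Ideal.Quotient.mk I)) hnil
  -- the module structures over the quotient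
  have hPt : Module.IsTorsionBySet R P (I : Set R) := fun y a => hP a.1 a.2 y
  have hQt : Module.IsTorsionBySet R Q (I : Set R) := fun y a => hQ a.1 a.2 y
  let modP : Module (R ⧸ I) P := hPt.module
  let modQ : Module (R ⧸ I) Q := hQt.module
  have towP : IsScalarTower R (R ⧸ I) P := hPt.isScalarTower
  have towQ : IsScalarTower R (R ⧸ I) Q := hQt.isScalarTower
  have hvI : (I • ⊤ : Submodule R M) ≤ LinearMap.ker v := by
    rw [Submodule.smul_le]
    intro a ha x _
    rw [LinearMap.mem_ker, map_smul]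
    exact hQ a ha _
  let vb : (M ⧸ (I • ⊤ : Submodule R M)) →ₗ[R] Q := Submodule.liftQ _ v hvI
  obtain ⟨h, hh⟩ := Module.projective_lifting_property
    (f.extendScalarsOfSurjective hsurjR) (vb.extendScalarsOfSurjective hsurjR) hf
  refine ⟨(h.restrictScalars R).comp (Submodule.mkQ _), LinearMap.ext fun x => ?_⟩
  have := LinearMap.congr_fun hh (Submodule.Quotient.mk x)
  exact this

end Groth.Agent.Lib.Helper5.FlatLiftNilp
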