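import Groth.Agent.Lib.Helper5.FormallyProj
import Groth.Agent.Lib.Helper5.FlatLiftNilp
import Groth.Agent.Lib.Helper5.SepSmooth
import Mathlib.RingTheory.LocalRing.ResidueField.Basic

set_option autoImplicit false
set_option linter.unusedSectionVars false
universe u

namespace Groth.Agent.Lib.Helper5.CohenAlgSmooth

open EGA41 IsLocalRing

variable {A B : Type u} [CommRing A] [IsLocalRing A] [CommRing B] [IsLocalRing B]
  [Algebra A B] [IsLocalHom (algebraMap A B)]

theorem formallyProjective_of_flat [Module.Flat A B]
    (hmap : (maximalIdeal A).map (algebraMap A B) = maximalIdeal B) :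
    FormallyProj.FormallyProjective (maximalIdeal A) (maximalIdeal B) := by
  intro n P Q _ _ _ _ hP hQ f hf v _
  obtain ⟨w, hw⟩ := FlatLiftNilp.exists_lift_of_flat (maximalIdeal A) n hP hQ f hf v
  refine ⟨w, ⟨n, fun x hx => ?_⟩, hw⟩
  rw [← hmap, ← Ideal.map_pow] at hx
  have hx' : x ∈ (maximalIdeal A ^ n • ⊤ : Submodule A B) := by
    rw [Ideal.smul_top_eq_map]
    exact hx
  refine Submodule.smul_induction_on hx' (fun a ha b _ => ?_) (fun y z hy hz => ?_)
  · rw [map_smul, hP a ha]
  · rw [map_add, hy, hz, add_zero]

theorem quotient_smooth [Algebra.FormallySmooth (ResidueField A) (ResidueField B)]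
    (hmap : (maximalIdeal A).map (algebraMap A B) = maximalIdeal B) :
    IsFormallySmoothAdic (A ⧸ maximalIdeal A) ⊥ (B ⧸ (maximalIdeal A).map (algebraMap A B))
      ((maximalIdeal B).map (Ideal.Quotient.mk ((maximalIdeal A).map (algebraMap A B)))) := by
  intro C _ algC J hJ _ u _
  let algC' : Algebra (ResidueField A) C := algC
  let e : ResidueField B ≃+* B ⧸ (maximalIdeal A).map (algebraMap A B) :=
    Ideal.quotEquivOfEq hmap.symm
  have he : ∀ b : B, e (residue B b) = Ideal.Quotient.mk _ b := fun b => rfl
  have hes : ∀ b : B, e.symm (Ideal.Quotient.mk _ b) = residue B b := fun b => rfl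
  let u' : ResidueField B →ₐ[ResidueField A] C ⧸ J :=
    { u.toRingHom.comp e.toRingHom with
      commutes' := by
        intro x
        obtain ⟨a, rfl⟩ := residue_surjective x
        change u (e (ResidueField.map (algebraMap A B) (residue A a))) = _
        rw [ResidueField.map_residue, he]
        exact u.commutes (Ideal.Quotient.mk _ a) }
  obtain ⟨v', hv'⟩ := Algebra.FormallySmooth.exists_lift J hJ u'
  let v : (B ⧸ (maximalIdeal A).map (algebraMap A B)) →ₐ[A ⧸ maximalIdeal A] C :=
    { v'.toRingHom.comp e.symm.toRingHom with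
      commutes' := by
        intro x
        obtain ⟨a, rfl⟩ := Ideal.Quotient.mk_surjective x
        change v' (e.symm (Ideal.Quotient.mk _ (algebraMap A B a))) = _
        rw [hes]
        have := v'.commutes (residue A a)
        change v' (ResidueField.map (algebraMap A B) (residue A a)) = _ at this
        rw [ResidueField.map_residue] at this
        exact this }
  refine ⟨v, AlgHom.ext fun y => ?_⟩
  obtain ⟨b, rfl⟩ := Ideal.Quotient.mk_surjective y
  change Ideal.Quotient.mk J (v' (e.symm (Ideal.Quotient.mk _ b))) = u (Ideal.Quotient.mk _ b)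
  rw [hes]
  have := AlgHom.congr_fun hv' (residue B b)
  change Ideal.Quotient.mk J (v' (residue B b)) = u (e (residue B b)) at this
  rw [this, he]

theorem isFormallySmoothAdic_of_isCohenAlgebra (h : IsCohenAlgebra A B) :
    IsFormallySmoothAdic A (maximalIdeal A) B (maximalIdeal B) := by
  obtain ⟨_, _, _, hflat, hmap, hsep⟩ := h
  have : Algebra.FormallySmooth (ResidueField A) (ResidueField B) :=
    SepSmooth.formallySmooth_of_geomReduced
  exact (FormallyProj.isFormallySmoothAdic_iff_quotient _ _
    (formallyProjective_of_flat hmap)).2 (quotient_smooth hmap)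

end Groth.Agent.Lib.Helper5.CohenAlgSmooth
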