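import Groth.Prelude.Def_EGA41
import Mathlib.RingTheory.Ideal.Quotient.Operations
import Mathlib.Algebra.Algebra.Subalgebra.Basic
import Mathlib.Algebra.Algebra.Prod

set_option autoImplicit false
set_option linter.unusedSectionVars false
universe u

namespace Groth.Agent.Lib.Helper5.FormallyProj

open EGA41

variable {A B : Type u} [CommRing A] [CommRing B] [Algebra A B] (𝔞 : Ideal A) (𝔟 : Ideal B)

/-- the linear lifting property -/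
def FormallyProjective : Prop :=
  ∀ (n : ℕ) (P Q : Type u) [AddCommGroup P] [Module A P] [AddCommGroup Q] [Module A Q],
    (∀ a ∈ 𝔞 ^ n, ∀ y : P, a • y = 0) → (∀ a ∈ 𝔞 ^ n, ∀ y : Q, a • y = 0) →
    ∀ f : P →ₗ[A] Q, Function.Surjective f → ∀ v : B →ₗ[A] Q, (∃ m : ℕ, ∀ x ∈ 𝔟 ^ m, v x = 0) →
      ∃ w : B →ₗ[A] P, (∃ m : ℕ, ∀ x ∈ 𝔟 ^ m, w x = 0) ∧ f ∘ₗ w = v

/-- the lifting property for algebras killed by `𝔞` -/
def RedLift : Prop :=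
  ∀ (T₀ : Type u) [CommRing T₀] [Algebra A T₀], (∀ a ∈ 𝔞, algebraMap A T₀ a = 0) →
    ∀ (J₀ : Ideal T₀), IsNilpotent J₀ → ∀ u : B →ₐ[A] T₀ ⧸ J₀, (∃ m : ℕ, ∀ x ∈ 𝔟 ^ m, u x = 0) →
      ∃ v : B →ₐ[A] T₀, (Ideal.Quotient.mkₐ A J₀).comp v = u

section StepE

variable {𝔞 𝔟}
variable {E Bb : Type u} [CommRing E] [Algebra A E] [CommRing Bb] [Algebra A Bb]

theorem stepE (hred : RedLift 𝔞 𝔟) (q : B →ₐ[A] Bb) (M : ℕ) (hq : ∀ x ∈ 𝔟 ^ M, q x = 0)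
    (pr₂ : E →ₐ[A] Bb) (σ : Bb →ₗ[A] E) (hpr₂σ : ∀ y, pr₂ (σ y) = y)
    (F1 : ∀ e e' : E, pr₂ e = 0 → pr₂ e' = 0 → e * e' = 0)
    (F2 : ∀ a ∈ 𝔞, ∀ e : E, pr₂ e = 0 → a • e = 0) :
    ∃ s : B →ₐ[A] E, ∀ b, pr₂ (s b) = q b := by
  classical
  have F3 : ∀ x ∈ 𝔞.map (algebraMap A E), x = σ (pr₂ x) := by
    intro x hx
    have hx' : x ∈ (𝔞 • ⊤ : Submodule A E) := by
      rw [Ideal.smul_top_eq_map]
      exact hx
    refine Submodule.smul_induction_on hx' ?_ ?_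
    · intro a ha e _
      have h1 : pr₂ (e - σ (pr₂ e)) = 0 := by rw [map_sub, hpr₂σ, sub_self]
      have h2 := F2 a ha _ h1
      rw [smul_sub, sub_eq_zero] at h2
      rw [map_smul, map_smul, ← h2]
    · intro y z hy hz
      rw [map_add, map_add, ← hy, ← hz]
  have F4 : ∀ x ∈ 𝔞.map (algebraMap A E), pr₂ x = 0 → x = 0 := by
    intro x hx h0
    rw [F3 x hx, h0, map_zero]
  set 𝔞E : Ideal E := 𝔞.map (algebraMap A E) with h𝔞E
  have h𝔞E₀ : ∀ a ∈ 𝔞, algebraMap A (E ⧸ 𝔞E) a = 0 := by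
    intro a ha
    change Ideal.Quotient.mk 𝔞E (algebraMap A E a) = 0
    exact Ideal.Quotient.eq_zero_iff_mem.2 (Ideal.mem_map_of_mem _ ha)
  set J₀ : Ideal (E ⧸ 𝔞E) := (RingHom.ker (pr₂ : E →+* Bb)).map (Ideal.Quotient.mk 𝔞E)
    with hJ₀
  have hJ₀nil : IsNilpotent J₀ := by
    refine ⟨2, ?_⟩
    have h1 := Ideal.map_pow (Ideal.Quotient.mk 𝔞E) (RingHom.ker (pr₂ : E →+* Bb)) 2
    have h2 : (RingHom.ker (pr₂ : E →+* Bb)) ^ 2 = ⊥ := by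
      rw [eq_bot_iff, pow_two, Ideal.mul_le]
      intro x hx y hy
      rw [Ideal.mem_bot]
      exact F1 x y hx hy
    rw [h2, Ideal.map_bot] at h1
    exact h1.symm
  have hmkJ₀ : ∀ e e' : E, pr₂ (e - e') = 0 →
      Ideal.Quotient.mk J₀ (Ideal.Quotient.mk 𝔞E e) =
        Ideal.Quotient.mk J₀ (Ideal.Quotient.mk 𝔞E e') := by
    intro e e' h
    rw [Ideal.Quotient.eq, ← map_sub]
    exact Ideal.mem_map_of_mem _ h
  let τ : B →ₗ[A] (E ⧸ 𝔞E) ⧸ J₀ :=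
    ((Ideal.Quotient.mkₐ A J₀).toLinearMap.comp (Ideal.Quotient.mkₐ A 𝔞E).toLinearMap).comp
      (σ.comp q.toLinearMap)
  have hτ : ∀ b, τ b = Ideal.Quotient.mk J₀ (Ideal.Quotient.mk 𝔞E (σ (q b))) :=
    fun b => rfl
  let u'' : B →ₐ[A] (E ⧸ 𝔞E) ⧸ J₀ := AlgHom.ofLinearMap τ
    (by
      rw [hτ, ← map_one (Ideal.Quotient.mk J₀), ← map_one (Ideal.Quotient.mk 𝔞E)]
      apply hmkJ₀
      simp only [map_sub, map_one, hpr₂σ, sub_self])
    (by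
      intro x y
      rw [hτ, hτ, hτ, ← map_mul (Ideal.Quotient.mk J₀), ← map_mul (Ideal.Quotient.mk 𝔞E)]
      apply hmkJ₀
      simp only [map_sub, map_mul, hpr₂σ, sub_self])
  have hu''kill : ∀ x ∈ 𝔟 ^ M, u'' x = 0 := by
    intro x hx
    change τ x = 0
    rw [hτ, hq x hx, map_zero, map_zero, map_zero]
  obtain ⟨s₀, hs₀⟩ := hred (E ⧸ 𝔞E) h𝔞E₀ J₀ hJ₀nil u'' ⟨M, hu''kill⟩
  have hs₀' : ∀ b, Ideal.Quotient.mk J₀ (s₀ b) =
      Ideal.Quotient.mk J₀ (Ideal.Quotient.mk 𝔞E (σ (q b))) :=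
    fun b => AlgHom.congr_fun hs₀ b
  let Φ : E →ₐ[A] (E ⧸ 𝔞E) × Bb := (Ideal.Quotient.mkₐ A 𝔞E).prod pr₂
  have hΦ : Function.Injective Φ := by
    rw [injective_iff_map_eq_zero]
    intro e he
    have h1 : Ideal.Quotient.mk 𝔞E e = 0 := congrArg Prod.fst he
    have h2 : pr₂ e = 0 := congrArg Prod.snd he
    exact F4 e (Ideal.Quotient.eq_zero_iff_mem.1 h1) h2
  have hrange : ∀ b, (s₀.prod q) b ∈ Φ.range := by
    intro b
    obtain ⟨e, he⟩ := Ideal.Quotient.mk_surjective (s₀ b)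
    have h1 := hs₀' b
    rw [← he, Ideal.Quotient.eq, ← map_sub] at h1
    obtain ⟨n, hn, hne⟩ := (Ideal.mem_map_iff_of_surjective _ Ideal.Quotient.mk_surjective).1 h1
    refine ⟨σ (q b) + n, ?_⟩
    apply Prod.ext
    · change Ideal.Quotient.mk 𝔞E (σ (q b) + n) = s₀ b
      rw [map_add, hne, map_sub, ← he]
      ring
    · change pr₂ (σ (q b) + n) = q b
      rw [map_add, hpr₂σ]
      have : pr₂ n = 0 := hn
      rw [this, add_zero]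
  let s : B →ₐ[A] E := (AlgEquiv.ofInjective Φ hΦ).symm.toAlgHom.comp
    ((s₀.prod q).codRestrict Φ.range hrange)
  have hs : ∀ b, Φ (s b) = (s₀ b, q b) := by
    intro b
    have := (AlgEquiv.ofInjective Φ hΦ).apply_symm_apply
      (((s₀.prod q).codRestrict Φ.range hrange) b)
    exact congrArg Subtype.val this
  exact ⟨s, fun b => congrArg Prod.snd (hs b)⟩

end StepE

section Step

variable {𝔞 𝔟}
variable {T T' : Type u} [CommRing T] [CommRing T'] [Algebra A T] [Algebra A T']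

theorem step (hproj : FormallyProjective 𝔞 𝔟) (hred : RedLift 𝔞 𝔟)
    (π : T →ₐ[A] T') (hπ : Function.Surjective π)
    (hT : ∃ k : ℕ, ∀ a ∈ 𝔞 ^ k, ∀ t : T, a • t = 0)
    (hNN : ∀ x y : T, π x = 0 → π y = 0 → x * y = 0)
    (h𝔞N : ∀ a ∈ 𝔞, ∀ x : T, π x = 0 → a • x = 0)
    (u : B →ₐ[A] T') (hu : ∃ m : ℕ, ∀ x ∈ 𝔟 ^ m, u x = 0) :
    ∃ v : B →ₐ[A] T, (∃ m : ℕ, ∀ x ∈ 𝔟 ^ m, v x = 0) ∧ π.comp v = u := by
  classical
  obtain ⟨k, hk⟩ := hT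
  have hk' : ∀ a ∈ 𝔞 ^ k, ∀ t' : T', a • t' = 0 := by
    intro a ha t'
    obtain ⟨t, rfl⟩ := hπ t'
    rw [← map_smul, hk a ha, map_zero]
  obtain ⟨w, ⟨m₁, hw⟩, hwu⟩ := hproj k T T' hk hk' π.toLinearMap hπ u.toLinearMap hu
  have hwu' : ∀ b, π (w b) = u b := fun b => LinearMap.congr_fun hwu b
  obtain ⟨m, hm⟩ := hu
  set M := max m m₁ with hM
  have hmM : 𝔟 ^ M ≤ 𝔟 ^ m := Ideal.pow_le_pow_right (le_max_left _ _)
  have hm₁M : 𝔟 ^ M ≤ 𝔟 ^ m₁ := Ideal.pow_le_pow_right (le_max_right _ _)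
  let ub : (B ⧸ 𝔟 ^ M) →ₐ[A] T' := Ideal.Quotient.liftₐ (𝔟 ^ M) u (fun x hx => hm x (hmM hx))
  have hub : ∀ b, ub (Ideal.Quotient.mk _ b) = u b := fun b => rfl
  let wb : (B ⧸ 𝔟 ^ M) →ₗ[A] T :=
    (Submodule.liftQ ((𝔟 ^ M).restrictScalars A) w (fun x hx => hw x (hm₁M hx))).comp
      (Submodule.Quotient.restrictScalarsEquiv A (𝔟 ^ M)).symm.toLinearMap
  have hwb : ∀ b, wb (Ideal.Quotient.mk _ b) = w b := fun b => rfl
  have hπwb : ∀ y, π (wb y) = ub y := by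
    intro y
    obtain ⟨b, rfl⟩ := Ideal.Quotient.mk_surjective y
    rw [hwb, hub, hwu']
  let E : Subalgebra A (T × (B ⧸ 𝔟 ^ M)) :=
    AlgHom.equalizer (π.comp (AlgHom.fst A T (B ⧸ 𝔟 ^ M))) (ub.comp (AlgHom.snd A T (B ⧸ 𝔟 ^ M)))
  let σ : (B ⧸ 𝔟 ^ M) →ₗ[A] E :=
    LinearMap.codRestrict (Subalgebra.toSubmodule E) (wb.prod LinearMap.id) (fun y => hπwb y)
  let pr₁ : E →ₐ[A] T := (AlgHom.fst A T (B ⧸ 𝔟 ^ M)).comp E.val
  let pr₂ : E →ₐ[A] (B ⧸ 𝔟 ^ M) := (AlgHom.snd A T (B ⧸ 𝔟 ^ M)).comp E.val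
  have hpr₂σ : ∀ y, pr₂ (σ y) = y := fun y => rfl
  have hπpr : ∀ e : E, π (pr₁ e) = ub (pr₂ e) := fun e => e.2
  have hEext : ∀ e e' : E, pr₁ e = pr₁ e' → pr₂ e = pr₂ e' → e = e' :=
    fun e e' h1 h2 => Subtype.ext (Prod.ext h1 h2)
  have hπ0 : ∀ e : E, pr₂ e = 0 → π (pr₁ e) = 0 := by
    intro e he
    rw [hπpr, he, map_zero]
  have F1 : ∀ e e' : E, pr₂ e = 0 → pr₂ e' = 0 → e * e' = 0 := by
    intro e e' he he'
    apply hEext
    · rw [map_mul, map_zero]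
      exact hNN _ _ (hπ0 e he) (hπ0 e' he')
    · rw [map_mul, he, zero_mul, map_zero]
  have F2 : ∀ a ∈ 𝔞, ∀ e : E, pr₂ e = 0 → a • e = 0 := by
    intro a ha e he
    apply hEext
    · rw [map_smul, map_zero]
      exact h𝔞N a ha _ (hπ0 e he)
    · rw [map_smul, he, smul_zero, map_zero]
  have hqkill : ∀ x ∈ 𝔟 ^ M, Ideal.Quotient.mkₐ A (𝔟 ^ M) x = 0 :=
    fun x hx => Ideal.Quotient.eq_zero_iff_mem.2 hx
  obtain ⟨s, hs⟩ := stepE hred (Ideal.Quotient.mkₐ A (𝔟 ^ M)) M hqkill pr₂ σ hpr₂σ F1 F2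
  have hpr₂s : ∀ b, pr₂ (s b) = Ideal.Quotient.mk _ b := hs
  refine ⟨pr₁.comp s, ⟨M + M, ?_⟩, ?_⟩
  · intro x hx
    rw [pow_add] at hx
    have h0 : ∀ y ∈ 𝔟 ^ M, π (pr₁ (s y)) = 0 := by
      intro y hy
      rw [hπpr, hpr₂s, Ideal.Quotient.eq_zero_iff_mem.2 hy, map_zero]
    refine Submodule.mul_induction_on hx ?_ ?_
    · intro y hy z hz
      change pr₁ (s (y * z)) = 0
      rw [map_mul, map_mul]
      exact hNN _ _ (h0 y hy) (h0 z hz)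
    · intro y z hy hz
      rw [map_add, hy, hz, add_zero]
  · apply AlgHom.ext
    intro b
    change π (pr₁ (s b)) = u b
    rw [hπpr, hpr₂s, hub]

end Step

section Filtration

variable {𝔞 𝔟}

theorem lift_of_filtration (hproj : FormallyProjective 𝔞 𝔟) (hred : RedLift 𝔞 𝔟) (n : ℕ) :
    ∀ {T T' : Type u} [CommRing T] [CommRing T'] [Algebra A T] [Algebra A T']
      (π : T →ₐ[A] T') (_ : Function.Surjective π)
      (_ : ∃ k : ℕ, ∀ a ∈ 𝔞 ^ k, ∀ t : T, a • t = 0)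
      (_ : (RingHom.ker π ⊔ 𝔞.map (algebraMap A T)) ^ n * RingHom.ker π = ⊥)
      (u : B →ₐ[A] T') (_ : ∃ m : ℕ, ∀ x ∈ 𝔟 ^ m, u x = 0),
      ∃ v : B →ₐ[A] T, (∃ m : ℕ, ∀ x ∈ 𝔟 ^ m, v x = 0) ∧ π.comp v = u := by
  induction n with
  | zero =>
    intro T T' _ _ _ _ π hπ _ hK u hu
    rw [pow_zero, one_mul] at hK
    have hinj : Function.Injective π := (RingHom.injective_iff_ker_eq_bot (π : T →+* T')).2 hK
    let e : T ≃ₐ[A] T' := AlgEquiv.ofBijective π ⟨hinj, hπ⟩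
    have he : ∀ t, e t = π t := fun t => rfl
    obtain ⟨m, hm⟩ := hu
    refine ⟨(e.symm : T' →ₐ[A] T).comp u, ⟨m, fun x hx => ?_⟩, AlgHom.ext fun b => ?_⟩
    · change e.symm (u x) = 0
      rw [hm x hx, map_zero]
    · change π (e.symm (u b)) = u b
      rw [← he, e.apply_symm_apply]
  | succ n ih =>
    intro T T' _ _ _ _ π hπ hT hK u hu
    set N : Ideal T := RingHom.ker π with hN
    set K : Ideal T := N ⊔ 𝔞.map (algebraMap A T) with hKdef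
    set I : Ideal T := K ^ n * N with hI
    have hIN : I ≤ N := Ideal.mul_le_right
    have hNK : N ≤ K := le_sup_left
    have hKI : K * I = ⊥ := by
      rw [hI, ← mul_assoc, ← pow_succ']
      exact hK
    let π₁ : T ⧸ I →ₐ[A] T' := Ideal.Quotient.liftₐ I π (fun a ha => hIN ha)
    have hπ₁mk : ∀ t : T, π₁ (Ideal.Quotient.mk I t) = π t := fun t => rfl
    have hπ₁ : Function.Surjective π₁ := by
      intro t'
      obtain ⟨t, rfl⟩ := hπ t'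
      exact ⟨Ideal.Quotient.mk I t, rfl⟩
    have hT₁ : ∃ k : ℕ, ∀ a ∈ 𝔞 ^ k, ∀ t : T ⧸ I, a • t = 0 := by
      obtain ⟨k, hk⟩ := hT
      refine ⟨k, fun a ha t => ?_⟩
      obtain ⟨t, rfl⟩ := Ideal.Quotient.mk_surjective t
      rw [← Ideal.Quotient.mkₐ_eq_mk A, ← map_smul, hk a ha, map_zero]
    have hker₁ : RingHom.ker π₁ ≤ N.map (Ideal.Quotient.mk I) := by
      intro y hy
      obtain ⟨t, rfl⟩ := Ideal.Quotient.mk_surjective y
      rw [RingHom.mem_ker, hπ₁mk] at hy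
      exact Ideal.mem_map_of_mem _ hy
    have h𝔞₁ : 𝔞.map (algebraMap A (T ⧸ I)) = (𝔞.map (algebraMap A T)).map (Ideal.Quotient.mk I) := by
      rw [Ideal.map_map]
      rfl
    have hK₁ : (RingHom.ker π₁ ⊔ 𝔞.map (algebraMap A (T ⧸ I))) ^ n * RingHom.ker π₁ = ⊥ := by
      rw [eq_bot_iff]
      have h1 : RingHom.ker π₁ ⊔ 𝔞.map (algebraMap A (T ⧸ I)) ≤ K.map (Ideal.Quotient.mk I) := by
        rw [hKdef, Ideal.map_sup, h𝔞₁]
        exact sup_le_sup_right hker₁ _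
      refine (Ideal.mul_mono (Ideal.pow_right_mono h1 n) hker₁).trans ?_
      rw [← Ideal.map_pow, ← Ideal.map_mul, ← hI, Ideal.map_quotient_self]
    obtain ⟨v₁, hv₁c, hv₁⟩ := ih π₁ hπ₁ hT₁ hK₁ u hu
    have hII : ∀ x y : T, x ∈ I → y ∈ I → x * y = 0 := by
      intro x y hx hy
      have : x * y ∈ K * I := Ideal.mul_mem_mul (hNK (hIN hx)) hy
      rwa [hKI, Ideal.mem_bot] at this
    have h𝔞I : ∀ a ∈ 𝔞, ∀ x : T, x ∈ I → a • x = 0 := by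
      intro a ha x hx
      have : algebraMap A T a * x ∈ K * I :=
        Ideal.mul_mem_mul (le_sup_right (a := N) (Ideal.mem_map_of_mem _ ha)) hx
      rw [hKI, Ideal.mem_bot] at this
      rw [Algebra.smul_def, this]
    obtain ⟨v, hvc, hv⟩ := step hproj hred (Ideal.Quotient.mkₐ A I)
      (Ideal.Quotient.mkₐ_surjective A I) hT
      (fun x y hx hy => hII x y (Ideal.Quotient.eq_zero_iff_mem.1 hx)
        (Ideal.Quotient.eq_zero_iff_mem.1 hy))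
      (fun a ha x hx => h𝔞I a ha x (Ideal.Quotient.eq_zero_iff_mem.1 hx)) v₁ hv₁c
    refine ⟨v, hvc, ?_⟩
    have hπfac : π = π₁.comp (Ideal.Quotient.mkₐ A I) := AlgHom.ext fun t => rfl
    rw [hπfac, AlgHom.comp_assoc, hv, hv₁]

theorem isFormallySmoothAdic_of_redLift (hproj : FormallyProjective 𝔞 𝔟) (hred : RedLift 𝔞 𝔟) :
    IsFormallySmoothAdic A 𝔞 B 𝔟 := by
  intro C _ _ J hJ h𝔞 u hu
  obtain ⟨s, hs⟩ := hJ
  obtain ⟨k, hk⟩ := h𝔞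
  have hker : RingHom.ker (Ideal.Quotient.mkₐ A J) = J := by
    ext e
    rw [RingHom.mem_ker]
    exact Ideal.Quotient.eq_zero_iff_mem
  have hT : ∃ k : ℕ, ∀ a ∈ 𝔞 ^ k, ∀ t : C, a • t = 0 := by
    refine ⟨k, fun a ha t => ?_⟩
    have : algebraMap A C a ∈ (𝔞 ^ k).map (algebraMap A C) := Ideal.mem_map_of_mem _ ha
    rw [hk, Ideal.mem_bot] at this
    rw [Algebra.smul_def, this, zero_mul]
  have hK : (RingHom.ker (Ideal.Quotient.mkₐ A J) ⊔ 𝔞.map (algebraMap A C)) ^ (s + k) *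
      RingHom.ker (Ideal.Quotient.mkₐ A J) = ⊥ := by
    rw [hker, eq_bot_iff]
    refine Ideal.mul_le_left.trans ?_
    refine (Ideal.sup_pow_add_le_pow_sup_pow).trans ?_
    rw [hs, ← Ideal.map_pow, hk, Ideal.zero_eq_bot, sup_bot_eq]
  obtain ⟨v, -, hv⟩ := lift_of_filtration hproj hred (s + k) (Ideal.Quotient.mkₐ A J)
    (Ideal.Quotient.mkₐ_surjective A J) hT hK u hu
  exact ⟨v, hv⟩

end Filtration

section Quotient

theorem redLift_of_quotient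
    (h₀ : IsFormallySmoothAdic (A ⧸ 𝔞) ⊥ (B ⧸ 𝔞.map (algebraMap A B))
      (𝔟.map (Ideal.Quotient.mk (𝔞.map (algebraMap A B))))) : RedLift 𝔞 𝔟 := by
  intro T₀ _ _ hkill J₀ hnil u hu
  let algT : Algebra (A ⧸ 𝔞) T₀ := (Ideal.Quotient.lift 𝔞 (algebraMap A T₀) hkill).toAlgebra
  have halgT : ∀ a : A, algebraMap (A ⧸ 𝔞) T₀ (Ideal.Quotient.mk 𝔞 a) = algebraMap A T₀ a :=
    fun a => rfl
  have hu𝔞 : ∀ x ∈ 𝔞.map (algebraMap A B), u.toRingHom x = 0 := by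
    have : 𝔞.map (algebraMap A B) ≤ RingHom.ker u.toRingHom := by
      rw [Ideal.map_le_iff_le_comap]
      intro a ha
      rw [Ideal.mem_comap, RingHom.mem_ker]
      change u (algebraMap A B a) = 0
      rw [AlgHom.commutes]
      change Ideal.Quotient.mk J₀ (algebraMap A T₀ a) = 0
      rw [hkill a ha, map_zero]
    exact fun x hx => this hx
  let u₀ : (B ⧸ 𝔞.map (algebraMap A B)) →ₐ[A ⧸ 𝔞] T₀ ⧸ J₀ :=
    { Ideal.Quotient.lift (𝔞.map (algebraMap A B)) u.toRingHom hu𝔞 with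
      commutes' := by
        intro y
        obtain ⟨a, rfl⟩ := Ideal.Quotient.mk_surjective y
        change u (algebraMap A B a) = Ideal.Quotient.mk J₀ (algebraMap (A ⧸ 𝔞) T₀ _)
        rw [halgT, AlgHom.commutes]
        rfl }
  have hu₀mk : ∀ b, u₀ (Ideal.Quotient.mk _ b) = u b := fun b => rfl
  have hu₀ : ∃ m : ℕ, ∀ x ∈ (𝔟.map (Ideal.Quotient.mk (𝔞.map (algebraMap A B)))) ^ m,
      u₀ x = 0 := by
    obtain ⟨m, hm⟩ := hu
    refine ⟨m, fun x hx => ?_⟩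
    rw [← Ideal.map_pow] at hx
    obtain ⟨b, hb, rfl⟩ := (Ideal.mem_map_iff_of_surjective _ Ideal.Quotient.mk_surjective).1 hx
    rw [hu₀mk, hm b hb]
  obtain ⟨v₀, hv₀⟩ := h₀ T₀ J₀ hnil ⟨1, by rw [pow_one, Ideal.map_bot]⟩ u₀ hu₀
  let v : B →ₐ[A] T₀ :=
    { v₀.toRingHom.comp (Ideal.Quotient.mk (𝔞.map (algebraMap A B))) with
      commutes' := by
        intro a
        change v₀ (algebraMap (A ⧸ 𝔞) (B ⧸ 𝔞.map (algebraMap A B)) (Ideal.Quotient.mk 𝔞 a)) = _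
        rw [AlgHom.commutes, halgT] }
  refine ⟨v, AlgHom.ext fun b => ?_⟩
  change Ideal.Quotient.mk J₀ (v₀ (Ideal.Quotient.mk _ b)) = u b
  have := AlgHom.congr_fun hv₀ (Ideal.Quotient.mk _ b)
  change Ideal.Quotient.mk J₀ (v₀ (Ideal.Quotient.mk _ b)) = u₀ (Ideal.Quotient.mk _ b) at this
  rw [this, hu₀mk]

theorem quotient_of_isFormallySmoothAdic (h : IsFormallySmoothAdic A 𝔞 B 𝔟) :
    IsFormallySmoothAdic (A ⧸ 𝔞) ⊥ (B ⧸ 𝔞.map (algebraMap A B))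
      (𝔟.map (Ideal.Quotient.mk (𝔞.map (algebraMap A B)))) := by
  intro C₀ _ _ J hJ _ u₀ hu₀
  let algC : Algebra A C₀ := Algebra.compHom C₀ (Ideal.Quotient.mk 𝔞)
  have halgC : ∀ a : A, algebraMap A C₀ a = algebraMap (A ⧸ 𝔞) C₀ (Ideal.Quotient.mk 𝔞 a) :=
    fun a => rfl
  have hkill : ∀ a ∈ 𝔞, algebraMap A C₀ a = 0 := by
    intro a ha
    rw [halgC, Ideal.Quotient.eq_zero_iff_mem.2 ha, map_zero]
  let u : B →ₐ[A] C₀ ⧸ J :=
    { u₀.toRingHom.comp (Ideal.Quotient.mk (𝔞.map (algebraMap A B))) with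
      commutes' := by
        intro a
        change u₀ (algebraMap (A ⧸ 𝔞) (B ⧸ 𝔞.map (algebraMap A B)) (Ideal.Quotient.mk 𝔞 a)) = _
        rw [AlgHom.commutes]
        rfl }
  have humk : ∀ b, u b = u₀ (Ideal.Quotient.mk _ b) := fun b => rfl
  have hu : ∃ m : ℕ, ∀ x ∈ 𝔟 ^ m, u x = 0 := by
    obtain ⟨m, hm⟩ := hu₀
    refine ⟨m, fun x hx => ?_⟩
    rw [humk]
    apply hm
    rw [← Ideal.map_pow]
    exact Ideal.mem_map_of_mem _ hx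
  have h𝔞C : ∃ k : ℕ, (𝔞 ^ k).map (algebraMap A C₀) = ⊥ := by
    refine ⟨1, ?_⟩
    rw [pow_one, eq_bot_iff, Ideal.map_le_iff_le_comap]
    intro a ha
    rw [Ideal.mem_comap, Ideal.mem_bot]
    exact hkill a ha
  obtain ⟨v, hv⟩ := h C₀ J hJ h𝔞C u hu
  have hv𝔞 : ∀ x ∈ 𝔞.map (algebraMap A B), v.toRingHom x = 0 := by
    have : 𝔞.map (algebraMap A B) ≤ RingHom.ker v.toRingHom := by
      rw [Ideal.map_le_iff_le_comap]
      intro a ha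
      rw [Ideal.mem_comap, RingHom.mem_ker]
      change v (algebraMap A B a) = 0
      rw [AlgHom.commutes, hkill a ha]
    exact fun x hx => this hx
  let v₀ : (B ⧸ 𝔞.map (algebraMap A B)) →ₐ[A ⧸ 𝔞] C₀ :=
    { Ideal.Quotient.lift (𝔞.map (algebraMap A B)) v.toRingHom hv𝔞 with
      commutes' := by
        intro y
        obtain ⟨a, rfl⟩ := Ideal.Quotient.mk_surjective y
        change v (algebraMap A B a) = _
        rw [AlgHom.commutes, halgC] }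
  refine ⟨v₀, AlgHom.ext fun y => ?_⟩
  obtain ⟨b, rfl⟩ := Ideal.Quotient.mk_surjective y
  change Ideal.Quotient.mk J (v b) = u₀ (Ideal.Quotient.mk _ b)
  have := AlgHom.congr_fun hv b
  change Ideal.Quotient.mk J (v b) = u b at this
  rw [this, humk]

theorem isFormallySmoothAdic_iff_quotient (hproj : FormallyProjective 𝔞 𝔟) :
    IsFormallySmoothAdic A 𝔞 B 𝔟 ↔
      IsFormallySmoothAdic (A ⧸ 𝔞) ⊥ (B ⧸ 𝔞.map (algebraMap A B))
        (𝔟.map (Ideal.Quotient.mk (𝔞.map (algebraMap A B)))) :=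
  ⟨quotient_of_isFormallySmoothAdic 𝔞 𝔟,
    fun h₀ => isFormallySmoothAdic_of_redLift hproj (redLift_of_quotient 𝔞 𝔟 h₀)⟩

end Quotient

end Groth.Agent.Lib.Helper5.FormallyProj
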