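import Mathlib
import Groth.Prelude.Def_CAlgX
import Groth.Prelude.Def_EGA41
import Groth.Agent.Lib.Helper5.PowSerEval

set_option autoImplicit false

namespace Groth.Agent.Lib.Helper5.PowSer

open MvPowerSeries

universe u

/-- power series over an adically formally smooth algebra are adically formally smooth -/
theorem adicSmooth_of_adicSmooth {R K : Type u} [CommRing R] [CommRing K] [Algebra R K]
    (𝔫₀ : Ideal K) (hK : CAlgX.IsAdicFormallySmooth R K 𝔫₀)
    {σ : Type} [Finite σ] (𝔫 : Ideal (MvPowerSeries σ K))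
    (h𝔫 : Ideal.span (Set.range (X : σ → MvPowerSeries σ K)) ≤ 𝔫)
    (h𝔫₀ : 𝔫₀.map (algebraMap K (MvPowerSeries σ K)) ≤ 𝔫) :
    CAlgX.IsAdicFormallySmooth R (MvPowerSeries σ K) 𝔫 := by
  intro A _ _ J hJ ψ hψ
  obtain ⟨k, hk⟩ := hψ
  have hJn : IsNilpotent J := ⟨2, hJ⟩
  let ψ₀ : K →ₐ[R] A ⧸ J := ψ.comp (IsScalarTower.toAlgHom R K (MvPowerSeries σ K))
  obtain ⟨φ, hφ'⟩ := hK A J hJ ψ₀ ⟨k, by
    intro x hx
    apply hk
    have : algebraMap K (MvPowerSeries σ K) x ∈ (𝔫₀ ^ k).map (algebraMap K (MvPowerSeries σ K)) :=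
      Ideal.mem_map_of_mem _ hx
    rw [Ideal.map_pow] at this
    exact Ideal.pow_right_mono h𝔫₀ k this⟩
  have hφ : ∀ a : K, Ideal.Quotient.mk J (φ a) = ψ₀ a :=
    fun a => congrArg (fun f => f a) hφ'
  let _ : Algebra K A := φ.toRingHom.toAlgebra
  have _ : IsScalarTower R K A := IsScalarTower.of_algebraMap_eq (fun r => (φ.commutes r).symm)
  let ψK : MvPowerSeries σ K →ₐ[K] A ⧸ J :=
    { ψ.toRingHom with
      commutes' := by
        intro a
        exact (hφ a).symm }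
  obtain ⟨v, hv, -⟩ := exists_lift_of_nilpotent J hJn ψK k (by
    intro x hx
    exact hk x (Ideal.pow_right_mono h𝔫 k hx))
  refine ⟨v.restrictScalars R, ?_⟩
  ext x
  exact congrArg (fun f => f x) hv

/-- passing from a genuinely adic base to a discrete base -/
theorem adicSmooth_of_isFormallySmoothAdic {A B : Type u} [CommRing A] [CommRing B] [Algebra A B]
    (𝔞 : Ideal A) (𝔟 : Ideal B) (h : EGA41.IsFormallySmoothAdic A 𝔞 B 𝔟)
    (hle : 𝔞.map (algebraMap A B) ≤ 𝔟) : CAlgX.IsAdicFormallySmooth A B 𝔟 := by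
  intro C _ _ J hJ ψ hψ
  obtain ⟨k, hk⟩ := hψ
  have hJn : IsNilpotent J := ⟨2, hJ⟩
  refine h C J hJn ⟨2 * k, ?_⟩ ψ ⟨k, hk⟩
  have h1 : (𝔞 ^ k).map (algebraMap A C) ≤ J := by
    rw [Ideal.map_le_iff_le_comap]
    intro a ha
    rw [Ideal.mem_comap, ← Ideal.Quotient.eq_zero_iff_mem]
    have h2 : algebraMap A B a ∈ 𝔟 ^ k := by
      have : algebraMap A B a ∈ (𝔞 ^ k).map (algebraMap A B) := Ideal.mem_map_of_mem _ ha
      rw [Ideal.map_pow] at this
      exact Ideal.pow_right_mono hle k this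
    have h3 := hk _ h2
    rw [AlgHom.commutes] at h3
    exact h3
  rw [mul_comm, pow_mul, Ideal.map_pow, eq_bot_iff, ← hJ]
  exact Ideal.pow_right_mono h1 2

end Groth.Agent.Lib.Helper5.PowSer
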