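import Mathlib
import Groth.Prelude.Def_CAlgX
import Groth.Prelude.Def_EGA41
import Groth.Prelude.Def_Found
import Groth.Agent.Lib.Helper5.PowSerSmooth
import Groth.Agent.Lib.Helper5.PowSerAdic
import Groth.Agent.Lib.Helper5.FormallyProj
import Groth.Agent.Lib.Helper5.FlatLiftNilp

set_option autoImplicit false

namespace Groth.Agent.Lib.Helper5.CohenRingSmooth

open IsLocalRing EGA41

universe u

section General

variable {A B : Type u} [CommRing A] [CommRing B] [Algebra A B] (𝔞 : Ideal A) [𝔞.IsMaximal]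

theorem formallyProjective_of_flat_max [Module.Flat A B] :
    FormallyProj.FormallyProjective 𝔞 (𝔞.map (algebraMap A B)) := by
  intro n P Q _ _ _ _ hP hQ f hf v _
  obtain ⟨w, hw⟩ := FlatLiftNilp.exists_lift_of_flat 𝔞 n hP hQ f hf v
  refine ⟨w, ⟨n, fun x hx => ?_⟩, hw⟩
  rw [← Ideal.map_pow] at hx
  have hx' : x ∈ (𝔞 ^ n • ⊤ : Submodule A B) := by
    rw [Ideal.smul_top_eq_map]
    exact hx
  refine Submodule.smul_induction_on hx' (fun a ha b _ => ?_) (fun y z hy hz => ?_)
  · rw [map_smul, hP a ha]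
  · rw [map_add, hy, hz, add_zero]

theorem formallySmooth_quotient_of_finite (hB : (𝔞.map (algebraMap A B)).IsMaximal)
    [Finite (A ⧸ 𝔞)] : Algebra.FormallySmooth (A ⧸ 𝔞) (B ⧸ 𝔞.map (algebraMap A B)) := by
  let _ : Field (A ⧸ 𝔞) := Ideal.Quotient.field 𝔞
  let _ : Field (B ⧸ 𝔞.map (algebraMap A B)) := Ideal.Quotient.field _
  have : PerfectField (A ⧸ 𝔞) := PerfectField.ofFinite
  exact PowSer.formallySmooth_of_perfectField

/-- flat, with closed fibre a field over a finite residue field -/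
theorem isFormallySmoothAdic_of_flat_finite [Module.Flat A B]
    (hB : (𝔞.map (algebraMap A B)).IsMaximal) [Finite (A ⧸ 𝔞)] :
    IsFormallySmoothAdic A 𝔞 B (𝔞.map (algebraMap A B)) := by
  refine (FormallyProj.isFormallySmoothAdic_iff_quotient 𝔞 _
    (formallyProjective_of_flat_max 𝔞)).2 ?_
  have hfs := formallySmooth_quotient_of_finite 𝔞 hB
  intro C _ _ J hJ _ u _
  exact Algebra.FormallySmooth.exists_lift J hJ u

end General

theorem charZero_of_isCohenRing (Λ : Type u) [CommRing Λ] [IsLocalRing Λ]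
    (hΛ : CAlg.IsCohenRing Λ) : CharZero Λ := by
  obtain ⟨hdom, hdvr, -, p, hp, hmax⟩ := hΛ
  have hp0 : (p : Λ) ≠ 0 := by
    intro h0
    apply IsDiscreteValuationRing.not_a_field Λ
    rw [hmax, h0, Ideal.span_singleton_eq_bot]
  have hpm : (p : Λ) ∈ maximalIdeal Λ := by
    rw [hmax]
    exact Ideal.subset_span rfl
  obtain ⟨q, hq⟩ := CharP.exists Λ
  rcases CharP.char_is_prime_or_zero Λ q with h | h
  · exfalso
    by_cases hqp : q = p
    · subst hqp
      exact hp0 (CharP.cast_eq_zero Λ q)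
    · have hcop : Nat.Coprime p q := (Nat.coprime_primes hp h).2 (Ne.symm hqp)
      have h1 : ((p : ℤ) : Λ) * ((Nat.gcdA p q : ℤ) : Λ) + ((q : ℤ) : Λ) * ((Nat.gcdB p q : ℤ) : Λ) = 1 := by
        have := Nat.gcd_eq_gcd_ab p q
        rw [hcop.gcd_eq_one] at this
        have h2 := congrArg (fun z : ℤ => (z : Λ)) this
        simp only [Int.cast_add, Int.cast_mul, Nat.cast_one, Int.cast_one] at h2
        exact h2.symm
      rw [Int.cast_natCast, Int.cast_natCast, CharP.cast_eq_zero Λ q, zero_mul, add_zero] at h1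
      have : IsUnit (p : Λ) := IsUnit.of_mul_eq_one _ h1
      exact (mem_maximalIdeal _).mp hpm this
  · subst h
    exact CharP.charP_to_charZero Λ

theorem adicSmooth_int_of_isCohenRing (Λ : Type) [CommRing Λ] [IsLocalRing Λ]
    (hΛ : CAlg.IsCohenRing Λ) : CAlgX.IsAdicFormallySmooth ℤ Λ (maximalIdeal Λ) := by
  have hchar : CharZero Λ := charZero_of_isCohenRing Λ hΛ
  obtain ⟨hdom, hdvr, -, p, hp, hmax⟩ := hΛ
  have : Fact p.Prime := ⟨hp⟩
  have hmap : (Ideal.span {(p : ℤ)}).map (algebraMap ℤ Λ) = maximalIdeal Λ := by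
    rw [Ideal.map_span, Set.image_singleton, hmax]
    simp
  have hB : ((Ideal.span {(p : ℤ)}).map (algebraMap ℤ Λ)).IsMaximal := by
    rw [hmap]
    infer_instance
  have h1 := isFormallySmoothAdic_of_flat_finite (A := ℤ) (B := Λ) (Ideal.span {(p : ℤ)}) hB
  rw [hmap] at h1
  exact PowSer.adicSmooth_of_isFormallySmoothAdic _ _ h1 (le_of_eq hmap)

end Groth.Agent.Lib.Helper5.CohenRingSmooth
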