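import Mathlib
import Groth.Prelude.Def_Found
import Groth.Agent.Lib.Helper5.PowSerSmooth
import Groth.Agent.Lib.Helper5.FormallyProjU
import Groth.Agent.Lib.Helper5.FlatLiftNilp
import Groth.Agent.Lib.Helper5.CohenRingSmooth

set_option autoImplicit false

namespace Groth.Agent.Lib.Helper5.CohenRingSmoothU

open IsLocalRing FormallyProjU

universe u v

section General

variable {A : Type v} {B : Type u} [CommRing A] [CommRing B] [Algebra A B] (𝔞 : Ideal A)
  [𝔞.IsMaximal]

theorem formallyProjective_of_flat_max [Module.Flat A B] :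
    FormallyProjective 𝔞 (𝔞.map (algebraMap A B)) := by
  intro n P Q _ _ _ _ hP hQ f hf v _
  obtain ⟨w, hw⟩ := FlatLiftNilp.exists_lift_of_flat 𝔞 n hP hQ f hf v
  refine ⟨w, ⟨n, fun x hx => ?_⟩, hw⟩
  rw [← Ideal.map_pow] at hx
  have hx' : x ∈ (𝔞 ^ n • ⊤ : Submodule A B) := by
    rw [Ideal.smul_top_eq_map]
    exact hx
  refine Submodule.smul_induction_on hx' (fun a ha b _ => ?_) (fun y z hy hz => ?_)
  · rw [map_smul, hP a ha]
  · rw [map_add, hy, hz, add_zero]

theorem formallySmooth_quotient_of_finite (hB : (𝔞.map (algebraMap A B)).IsMaximal)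
    [Finite (A ⧸ 𝔞)] : Algebra.FormallySmooth (A ⧸ 𝔞) (B ⧸ 𝔞.map (algebraMap A B)) := by
  let _ : Field (A ⧸ 𝔞) := Ideal.Quotient.field 𝔞
  let _ : Field (B ⧸ 𝔞.map (algebraMap A B)) := Ideal.Quotient.field _
  have : PerfectField (A ⧸ 𝔞) := PerfectField.ofFinite
  exact PowSer.formallySmooth_of_perfectField

theorem isFSA_of_flat_finite [Module.Flat A B]
    (hB : (𝔞.map (algebraMap A B)).IsMaximal) [Finite (A ⧸ 𝔞)] :
    IsFSA A 𝔞 B (𝔞.map (algebraMap A B)) := by
  refine (isFormallySmoothAdic_iff_quotient 𝔞 _ (formallyProjective_of_flat_max 𝔞)).2 ?_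
  have hfs := formallySmooth_quotient_of_finite 𝔞 hB
  intro C _ _ J hJ _ u _
  exact Algebra.FormallySmooth.exists_lift J hJ u

end General

theorem isFSA_int_of_isCohenRing (W : Type u) [CommRing W] [IsLocalRing W]
    (hW : CAlg.IsCohenRing W) : ∃ p : ℕ, p.Prime ∧ maximalIdeal W = Ideal.span {(p : W)} ∧
      IsFSA ℤ (Ideal.span {(p : ℤ)}) W (maximalIdeal W) := by
  have hchar : CharZero W := CohenRingSmooth.charZero_of_isCohenRing W hW
  obtain ⟨hdom, hdvr, -, p, hp, hmax⟩ := hW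
  have : Fact p.Prime := ⟨hp⟩
  have hmap : (Ideal.span {(p : ℤ)}).map (algebraMap ℤ W) = maximalIdeal W := by
    rw [Ideal.map_span, Set.image_singleton, hmax]
    simp
  have hB : ((Ideal.span {(p : ℤ)}).map (algebraMap ℤ W)).IsMaximal := by
    rw [hmap]
    infer_instance
  have h1 := isFSA_of_flat_finite (A := ℤ) (B := W) (Ideal.span {(p : ℤ)}) hB
  rw [hmap] at h1
  exact ⟨p, hp, hmax, h1⟩

theorem isFSA_int_of_field (W : Type u) [CommRing W] (hW : IsField W) [CharZero W] :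
    IsFSA ℤ ⊥ W ⊥ := by
  let _ : Field W := hW.toField
  intro C _ _ J hJ _ u _
  have hunit : ∀ y : nonZeroDivisors ℤ, IsUnit (Int.castRingHom C y) := by
    intro y
    rw [← IsNilpotent.isUnit_quotient_mk_iff hJ]
    have h1 : Ideal.Quotient.mk J (Int.castRingHom C y) = u ((y : ℤ) : W) := by
      rw [eq_intCast, map_intCast, map_intCast]
    rw [h1]
    apply IsUnit.map
    rw [isUnit_iff_ne_zero]
    exact Int.cast_ne_zero.mpr (nonZeroDivisors.ne_zero y.2)
  let fQ : ℚ →+* C := IsLocalization.lift (M := nonZeroDivisors ℤ) hunit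
  let _ : Algebra ℚ C := fQ.toAlgebra
  have hfs : Algebra.FormallySmooth ℚ W := SepSmooth.formallySmooth_of_charZero
  let uQ : W →ₐ[ℚ] C ⧸ J :=
    { u.toRingHom with
      commutes' := by
        intro q
        exact congrArg (fun f : ℚ →+* C ⧸ J => f q)
          (Subsingleton.elim (u.toRingHom.comp (algebraMap ℚ W)) (algebraMap ℚ (C ⧸ J))) }
  obtain ⟨vQ, hvQ⟩ := Algebra.FormallySmooth.exists_lift J hJ uQ
  refine ⟨{ vQ.toRingHom with commutes' := fun n => by simp }, ?_⟩
  ext x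
  exact congrArg (fun f => f x) hvQ

end Groth.Agent.Lib.Helper5.CohenRingSmoothU
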