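import Mathlib
import Groth.Agent.Lib.Helper5.CohenRingSmoothU
import Groth.Agent.Lib.Helper5.AdicLiftU

set_option autoImplicit false

namespace Groth.Agent.Lib.Helper5.CohenRingLift

open IsLocalRing FormallyProjU

universe u

theorem exists_local_lift {W C : Type u} [CommRing W] [IsLocalRing W] [CommRing C] [IsLocalRing C]
    [IsNoetherianRing C] [IsAdicComplete (maximalIdeal C) C] (𝔞 : Ideal ℤ) (𝔟 : Ideal W)
    (hfs : IsFSA ℤ 𝔞 W 𝔟) (h𝔞 : 𝔞.map (algebraMap ℤ W) ≤ maximalIdeal W)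
    (h𝔟 : 𝔟 ≤ maximalIdeal W)
    (J : Ideal C) (hJ : J ≠ ⊤) [IsLocalRing (C ⧸ J)] (u : W →+* C ⧸ J) [IsLocalHom u] :
    ∃ v : W →+* C, IsLocalHom v ∧ (Ideal.Quotient.mk J).comp v = u := by
  have hmk : IsLocalHom (Ideal.Quotient.mk J) :=
    IsLocalHom.of_surjective _ Ideal.Quotient.mk_surjective
  have hH : IsHausdorff ((maximalIdeal C).map (Ideal.Quotient.mk J)) (C ⧸ J) :=
    IsHausdorff.of_isLocalRing _ _ (ne_of_lt (map_maximalIdeal_lt_top _))
  have hlift : ∀ x ∈ maximalIdeal W, u x ∈ (maximalIdeal C).map (Ideal.Quotient.mk J) := by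
    intro x hx
    obtain ⟨c, hc⟩ := Ideal.Quotient.mk_surjective (u x)
    rw [← hc]
    apply Ideal.mem_map_of_mem
    rw [mem_maximalIdeal, mem_nonunits_iff]
    intro hcu
    have h1 : IsUnit (u x) := hc ▸ hcu.map (Ideal.Quotient.mk J)
    exact (mem_maximalIdeal x).mp hx (isUnit_of_map_unit u x h1)
  let u' : W →ₐ[ℤ] C ⧸ J := { u with commutes' := fun n => by simp }
  obtain ⟨v, -, hv⟩ := AdicLiftU.exists_lift_adicComplete 𝔞 𝔟 (maximalIdeal C) hfs
    ⟨1, by
      rw [pow_one, Ideal.map_le_iff_le_comap]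
      intro a ha
      rw [Ideal.mem_comap, mem_maximalIdeal, mem_nonunits_iff]
      intro hcu
      have h1 : IsUnit (u (algebraMap ℤ W a)) := by
        have : u (algebraMap ℤ W a) = Ideal.Quotient.mk J (algebraMap ℤ C a) := by simp
        rw [this]
        exact hcu.map _
      exact (mem_maximalIdeal _).mp (h𝔞 (Ideal.mem_map_of_mem _ ha)) (isUnit_of_map_unit u _ h1)⟩
    J ⟨1, by rw [pow_one]; exact le_maximalIdeal hJ⟩ u' ⟨1, by
      rw [pow_one, Ideal.map_le_iff_le_comap]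
      intro x hx
      exact hlift x (h𝔟 hx)⟩
  have hv' : ∀ x, Ideal.Quotient.mk J (v x) = u x := fun x => congrArg (fun f => f x) hv
  refine ⟨v, ⟨fun x hx => ?_⟩, RingHom.ext hv'⟩
  apply isUnit_of_map_unit u
  rw [← hv']
  exact hx.map _

end Groth.Agent.Lib.Helper5.CohenRingLift
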