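import Groth.Prelude.Def_CAlgX
import Mathlib.Algebra.TrivSqZeroExt.Basic
import Mathlib.RingTheory.Derivation.Basic
import Mathlib.RingTheory.Ideal.Quotient.Operations

set_option autoImplicit false
set_option linter.unusedSectionVars false
universe u

namespace Groth.Agent.Lib.Helper5.AdicSmoothDer

section

variable {k A L : Type u} [CommRing k] [CommRing A] [CommRing L] [Algebra k A] [Algebra A L]
  [Algebra k L] [IsScalarTower k A L] (D : Derivation ℤ k L)

/-- the twisted structure map `k → L ⊕ L ε` -/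
def twist : k →+* TrivSqZeroExt L L where
  toFun t := TrivSqZeroExt.inl (algebraMap k L t) + TrivSqZeroExt.inr (D t)
  map_one' := by
    rw [Derivation.map_one_eq_zero, TrivSqZeroExt.inr_zero, add_zero, map_one,
      TrivSqZeroExt.inl_one]
  map_mul' t t' := by
    apply TrivSqZeroExt.ext
    · simp
    · simp only [TrivSqZeroExt.snd_add, TrivSqZeroExt.snd_inl, TrivSqZeroExt.snd_inr, zero_add,
        TrivSqZeroExt.snd_mul, TrivSqZeroExt.fst_add, TrivSqZeroExt.fst_inl, TrivSqZeroExt.fst_inr,
        add_zero, Derivation.leibniz, op_smul_eq_smul, algebraMap_smul]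
  map_zero' := by
    rw [map_zero, map_zero, TrivSqZeroExt.inl_zero, TrivSqZeroExt.inr_zero, add_zero]
  map_add' t t' := by
    rw [map_add, map_add, TrivSqZeroExt.inl_add, TrivSqZeroExt.inr_add]
    abel

lemma twist_fst (t : k) : (twist D t).fst = algebraMap k L t := by
  simp [twist]

lemma twist_snd (t : k) : (twist D t).snd = D t := by
  simp [twist]

end

section Main

variable {k A L : Type u} [CommRing k] [CommRing A] [CommRing L] [Algebra k A] [Algebra A L]
  [Algebra k L] [IsScalarTower k A L]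

/-- over an adically formally smooth algebra, derivations of the base with values in a discrete
quotient extend -/
theorem exists_derivation_extends (𝔫 : Ideal A) (h : CAlgX.IsAdicFormallySmooth k A 𝔫)
    (hL : ∃ n : ℕ, ∀ x ∈ 𝔫 ^ n, algebraMap A L x = 0) (D : Derivation ℤ k L) :
    ∃ D' : Derivation ℤ A L, ∀ t, D' (algebraMap k A t) = D t := by
  letI algC : Algebra k (TrivSqZeroExt L L) := (twist D).toAlgebra
  let f : TrivSqZeroExt L L →ₐ[k] L :=
    { (TrivSqZeroExt.fstHom L L L).toRingHom with
      commutes' := fun t => twist_fst D t }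
  have hf : Function.Surjective f := fun l => ⟨TrivSqZeroExt.inl l, rfl⟩
  have hJ : (RingHom.ker f) ^ 2 = ⊥ := by
    rw [pow_two, eq_bot_iff, Ideal.mul_le]
    intro x hx y hy
    have hx0 : x.fst = 0 := hx
    have hy0 : y.fst = 0 := hy
    rw [Ideal.mem_bot]
    apply TrivSqZeroExt.ext
    · rw [TrivSqZeroExt.fst_mul, hx0, zero_mul, TrivSqZeroExt.fst_zero]
    · rw [TrivSqZeroExt.snd_mul, hx0, hy0, zero_smul, TrivSqZeroExt.snd_zero]
      simp
  let e := Ideal.quotientKerAlgEquivOfSurjective hf
  let ψ : A →ₐ[k] TrivSqZeroExt L L ⧸ RingHom.ker f :=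
    e.symm.toAlgHom.comp (IsScalarTower.toAlgHom k A L)
  have hψ : ∃ n : ℕ, ∀ x ∈ 𝔫 ^ n, ψ x = 0 := by
    obtain ⟨n, hn⟩ := hL
    refine ⟨n, fun x hx => ?_⟩
    change e.symm (algebraMap A L x) = 0
    rw [hn x hx, map_zero]
  obtain ⟨χ, hχ⟩ := h (TrivSqZeroExt L L) (RingHom.ker f) hJ ψ hψ
  have hfst : ∀ a, (χ a).fst = algebraMap A L a := by
    intro a
    have h1 := AlgHom.congr_fun hχ a
    have h2 : e (Ideal.Quotient.mk _ (χ a)) = e (ψ a) := congrArg e h1
    rw [Ideal.quotientKerAlgEquivOfSurjective_mk] at h2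
    have h3 : e (ψ a) = algebraMap A L a := e.apply_symm_apply _
    rw [h3] at h2
    exact h2
  refine ⟨Derivation.mk'
    (AddMonoidHom.toIntLinearMap
      { toFun := fun a => (χ a).snd
        map_zero' := by rw [map_zero, TrivSqZeroExt.snd_zero]
        map_add' := fun a a' => by rw [map_add, TrivSqZeroExt.snd_add] })
    (fun a a' => ?_), fun t => ?_⟩
  · change (χ (a * a')).snd = a • (χ a').snd + a' • (χ a).snd
    rw [map_mul, TrivSqZeroExt.snd_mul, hfst, hfst, op_smul_eq_smul, algebraMap_smul,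
      algebraMap_smul]
  · change (χ (algebraMap k A t)).snd = D t
    rw [χ.commutes]
    exact twist_snd D t

end Main

end Groth.Agent.Lib.Helper5.AdicSmoothDer
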