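import Groth.Agent.Lib.Helper5.RegAdjoinRoot
import Mathlib

set_option autoImplicit false
universe u

namespace Groth.Agent.Lib.Helper5.RegAdjoinRoot

open IsLocalRing Polynomial

section quotloc

variable {R : Type u} [CommRing R] (I : Ideal R) (n : Ideal R) [hn : n.IsPrime]

theorem map_mk_isPrime (hIn : I ≤ n) : (n.map (Ideal.Quotient.mk I)).IsPrime :=
  Ideal.map_isPrime_of_surjective Ideal.Quotient.mk_surjective (by
    rw [Ideal.mk_ker]
    exact hIn)

noncomputable def quotLocEquiv (hIn : I ≤ n) :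
    @Localization.AtPrime _ _ (n.map (Ideal.Quotient.mk I)) (map_mk_isPrime I n hIn) ≃+*
      (Localization.AtPrime n ⧸ I.map (algebraMap R (Localization.AtPrime n))) := by
  let Rn := Localization.AtPrime n
  let qb : Ideal (R ⧸ I) := n.map (Ideal.Quotient.mk I)
  have hqb : qb.IsPrime := map_mk_isPrime I n hIn
  have hsub : Algebra.algebraMapSubmonoid (R ⧸ I) n.primeCompl = qb.primeCompl := by
    ext x
    constructor
    · rintro ⟨y, hy, rfl⟩
      intro hmem
      exact hy ((Ideal.mem_quotient_iff_mem hIn).1 hmem)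
    · intro hx
      obtain ⟨y, rfl⟩ := Ideal.Quotient.mk_surjective x
      refine ⟨y, ?_, rfl⟩
      intro hy
      exact hx ((Ideal.mem_quotient_iff_mem hIn).2 hy)
  have hloc : IsLocalization (Algebra.algebraMapSubmonoid (R ⧸ I) n.primeCompl)
      (Rn ⧸ I.map (algebraMap R Rn)) := inferInstance
  rw [hsub] at hloc
  exact (IsLocalization.algEquiv qb.primeCompl (Localization.AtPrime qb)
    (Rn ⧸ I.map (algebraMap R Rn))).toRingEquiv

end quotloc

section general

variable (A : Type u) [CommRing A] (s : A) (e : ℕ)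

theorem root_mem_nonZeroDivisors' (he : 0 < e) (hs : s ∈ nonZeroDivisors A) :
    AdjoinRoot.root (X ^ e - C s : A[X]) ∈ nonZeroDivisors (AdjoinRoot (X ^ e - C s : A[X])) := by
  have hmonic : (X ^ e - C s : A[X]).Monic := monic_X_pow_sub_C s he.ne'
  have := hmonic.free_adjoinRoot
  rw [mem_nonZeroDivisors_iff_right]
  intro b hb
  have h1 : b * (AdjoinRoot.root (X ^ e - C s : A[X])) ^ e = 0 := by
    rw [← mul_pow_sub_one he.ne' (AdjoinRoot.root (X ^ e - C s : A[X])), ← mul_assoc, hb, zero_mul]
  rw [root_pow, ← AdjoinRoot.algebraMap_eq, mul_comm, ← Algebra.smul_def] at h1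
  exact (Module.Flat.isSMulRegular_of_nonZeroDivisors hs) (h1.trans (smul_zero s).symm)

theorem isRegularRing_adjoinRoot' [IsRegularRing A] (he : 0 < e) (hs : s ∈ nonZeroDivisors A)
    (hreg : IsRegularRing (A ⧸ Ideal.span ({s} : Set A))) (heu : IsUnit (e : A)) :
    IsRegularRing (AdjoinRoot (X ^ e - C s : A[X])) := by
  have hmonic : (X ^ e - C s : A[X]).Monic := monic_X_pow_sub_C s he.ne'
  have hfin : Module.Finite A (AdjoinRoot (X ^ e - C s : A[X])) := hmonic.finite_adjoinRoot
  have hnoeth : IsNoetherianRing (AdjoinRoot (X ^ e - C s : A[X])) :=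
    IsNoetherianRing.of_finite A _
  have hfp : Algebra.FinitePresentation A (AdjoinRoot (X ^ e - C s : A[X])) :=
    Algebra.FinitePresentation.of_finiteType.mp inferInstance
  rw [isRegularRing_iff]
  intro q hq
  by_cases hsq : AdjoinRoot.of (X ^ e - C s : A[X]) s ∈ q
  · have hroot : AdjoinRoot.root (X ^ e - C s : A[X]) ∈ q := by
      rw [← root_pow] at hsq
      exact hq.mem_of_pow_mem e hsq
    apply regular_localization_of_quotient _ q hroot (root_mem_nonZeroDivisors' A s e he hs)
    exact IsRegularRing.of_ringEquiv (quotEquiv A s e he).symm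
  · obtain ⟨u, hu⟩ := heu.exists_right_inv
    have hfs := formallySmooth_away A s e he u hu
    have hsub := (Algebra.basicOpen_subset_smoothLocus_iff (R := A)
      (f := AdjoinRoot.of (X ^ e - C s : A[X]) s)).2 hfs
    have hmem : (⟨q, hq⟩ : PrimeSpectrum _) ∈ Algebra.smoothLocus A
        (AdjoinRoot (X ^ e - C s : A[X])) := hsub hsq
    have hsm : Algebra.IsSmoothAt A q := hmem
    exact Groth.Agent.Lib.Helper5.RegSmoothCore.regular_of_isSmoothAt A _ q

end general

section converse

open DualNumber TrivSqZeroExt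

variable (A : Type u) [CommRing A] (s : A) (e : ℕ)

theorem root_notMem_sq (he : 2 ≤ e) (q : Ideal (AdjoinRoot (X ^ e - C s : A[X]))) [hq : q.IsPrime]
    (hroot : AdjoinRoot.root (X ^ e - C s : A[X]) ∈ q) :
    algebraMap _ (Localization.AtPrime q) (AdjoinRoot.root (X ^ e - C s : A[X])) ∉
      maximalIdeal (Localization.AtPrime q) ^ 2 := by
  let B := AdjoinRoot (X ^ e - C s : A[X])
  let κ := q.ResidueField
  let g : B →+* κ := algebraMap B κ
  have hgker : ∀ x : B, g x = 0 ↔ x ∈ q := fun x => by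
    rw [← RingHom.mem_ker, Ideal.ker_algebraMap_residueField]
  have hgs : g (AdjoinRoot.of _ s) = 0 := by
    rw [hgker, ← root_pow]
    exact Ideal.pow_mem_of_mem _ hroot e (by omega)
  have heps : (ε : DualNumber κ) ^ e = 0 := by
    obtain ⟨m, rfl⟩ : ∃ m, e = 2 + m := ⟨e - 2, by omega⟩
    rw [pow_add, eps_pow_two, zero_mul]
  let i : A →+* DualNumber κ := (inlHom κ κ).comp (g.comp (AdjoinRoot.of _))
  let φ : B →+* DualNumber κ := AdjoinRoot.lift i ε (by
    rw [eval₂_sub, eval₂_X_pow, eval₂_C, heps, zero_sub, neg_eq_zero]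
    change inl (g (AdjoinRoot.of _ s)) = 0
    rw [hgs, inl_zero])
  have hφroot : φ (AdjoinRoot.root _) = ε := AdjoinRoot.lift_root _
  have hφof : ∀ a : A, φ (AdjoinRoot.of _ a) = inl (g (AdjoinRoot.of _ a)) :=
    fun a => AdjoinRoot.lift_of _
  have hfst : (fstHom κ κ κ : DualNumber κ →ₐ[κ] κ).toRingHom.comp φ = g := by
    apply AdjoinRoot.ringHom_ext
    · ext a
      change fst (φ (AdjoinRoot.of _ a)) = g (AdjoinRoot.of _ a)
      rw [hφof, fst_inl]
    · change fst (φ (AdjoinRoot.root _)) = g (AdjoinRoot.root _)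
      rw [hφroot, fst_eps, (hgker _).2 hroot]
  have hfst' : ∀ x : B, fst (φ x) = g x := fun x => RingHom.congr_fun hfst x
  have hsq : ∀ y ∈ q ^ 2, φ y = 0 := by
    intro y hy
    rw [pow_two] at hy
    refine Submodule.mul_induction_on hy ?_ ?_
    · intro a ha b hb
      have ha' : fst (φ a) = 0 := by rw [hfst', (hgker a).2 ha]
      have hb' : fst (φ b) = 0 := by rw [hfst', (hgker b).2 hb]
      rw [map_mul]
      ext
      · rw [fst_mul, ha', zero_mul, fst_zero]
      · rw [DualNumber.snd_mul, ha', hb', zero_mul, mul_zero, add_zero, snd_zero]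
    · intro a b ha hb
      rw [map_add, ha, hb, add_zero]
  intro hmem
  rw [← Localization.AtPrime.map_eq_maximalIdeal, ← Ideal.map_pow,
    IsLocalization.mem_map_algebraMap_iff q.primeCompl] at hmem
  obtain ⟨⟨y, u⟩, hyu⟩ := hmem
  rw [← map_mul] at hyu
  obtain ⟨c, hc⟩ := (IsLocalization.eq_iff_exists q.primeCompl _).1 hyu
  have h1 : (c : B) * (AdjoinRoot.root _ * (u : B)) ∈ q ^ 2 := by
    rw [hc]
    exact Ideal.mul_mem_left _ _ y.2
  have h2 := hsq _ h1
  rw [map_mul, map_mul, hφroot] at h2
  have h3 := congrArg snd h2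
  rw [DualNumber.snd_mul, DualNumber.snd_mul, TrivSqZeroExt.fst_mul, snd_eps, fst_eps, snd_zero,
    hfst', hfst', zero_mul, zero_mul, mul_zero, zero_add, one_mul, add_zero] at h3
  have hcq : g c ≠ 0 := fun h => c.2 ((hgker _).1 h)
  have huq : g u ≠ 0 := fun h => u.2 ((hgker _).1 h)
  rcases mul_eq_zero.1 h3 with h | h
  · exact hcq h
  · exact huq h

theorem isRegularRing_quotient_of_adjoinRoot (he : 2 ≤ e)
    [hB : IsRegularRing (AdjoinRoot (X ^ e - C s : A[X]))] :
    IsRegularRing (A ⧸ Ideal.span ({s} : Set A)) := by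
  let B := AdjoinRoot (X ^ e - C s : A[X])
  let I : Ideal B := Ideal.span ({AdjoinRoot.root (X ^ e - C s : A[X])} : Set B)
  have he0 : 0 < e := by omega
  suffices h : IsRegularRing (B ⧸ I) from IsRegularRing.of_ringEquiv (quotEquiv A s e he0)
  rw [isRegularRing_iff]
  intro P hP
  let q : Ideal B := P.comap (Ideal.Quotient.mk I)
  have hq : q.IsPrime := Ideal.comap_isPrime _ _
  have hIq : I ≤ q := by
    intro x hx
    change Ideal.Quotient.mk I x ∈ P
    rw [Ideal.Quotient.eq_zero_iff_mem.2 hx]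
    exact Ideal.zero_mem _
  have hroot : AdjoinRoot.root (X ^ e - C s : A[X]) ∈ q :=
    hIq (Ideal.subset_span (Set.mem_singleton _))
  have hmap : q.map (Ideal.Quotient.mk I) = P :=
    Ideal.map_comap_of_surjective _ Ideal.Quotient.mk_surjective P
  have hBq : IsRegularLocalRing (Localization.AtPrime q) :=
    IsRegularRing.isRegularLocalRing_localization q
  have hrm : algebraMap B (Localization.AtPrime q) (AdjoinRoot.root _) ∈
      maximalIdeal (Localization.AtPrime q) := by
    rw [← Localization.AtPrime.map_eq_maximalIdeal]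
    exact Ideal.mem_map_of_mem _ hroot
  have hr2 := root_notMem_sq A s e he q hroot
  have h1 := (Groth.Agent.Lib.helper19.isRegularLocalRing_quotient_span_singleton hrm hr2).1
  have hImap : I.map (algebraMap B (Localization.AtPrime q)) =
      Ideal.span ({algebraMap B (Localization.AtPrime q) (AdjoinRoot.root _)} : Set _) := by
    rw [Ideal.map_span, Set.image_singleton]
  rw [← hImap] at h1
  have h2 : IsRegularLocalRing
      (@Localization.AtPrime _ _ (q.map (Ideal.Quotient.mk I)) (map_mk_isPrime I q hIq)) :=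
    IsRegularLocalRing.of_ringEquiv (quotLocEquiv I q hIq).symm
  have key : ∀ (P' : Ideal (B ⧸ I)) (hP' : P'.IsPrime), P' = P →
      IsRegularLocalRing (@Localization.AtPrime _ _ P' hP') → 
      IsRegularLocalRing (Localization.AtPrime P) := by
    intro P' hP' hPP' h
    subst hPP'
    exact h
  exact key _ _ hmap h2

end converse

end Groth.Agent.Lib.Helper5.RegAdjoinRoot
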