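import Mathlib
import Groth.Agent.Lib.Helper12.CohenStructB

set_option autoImplicit false
set_option linter.unusedSectionVars false

namespace Groth.Agent.Lib.Helper5.FibreComp

open IsLocalRing Groth.Agent.Lib.Helper12

universe u

section Step

variable (A B : Type u) [CommRing A] [IsLocalRing A] [CommRing B] [IsLocalRing B] [Algebra A B]
  [IsLocalHom (algebraMap A B)] (J : Ideal A)

theorem flat_quotient [Module.Flat A B] : Module.Flat (A ⧸ J) (B ⧸ J.map (algebraMap A B)) :=
  Module.Flat.of_linearEquiv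
    (Algebra.TensorProduct.quotIdealMapEquivQuotTensor B J).toLinearEquiv

theorem map_maximalIdeal_le : (maximalIdeal A).map (algebraMap A B) ≤ maximalIdeal B :=
  ((local_hom_TFAE (algebraMap A B)).out 0 2).1 ‹_›

theorem map_le_maximalIdeal_of_le (hJ : J ≤ maximalIdeal A) :
    J.map (algebraMap A B) ≤ maximalIdeal B :=
  (Ideal.map_mono hJ).trans (map_maximalIdeal_le A B)

theorem isLocalRing_quotient {D : Type*} [CommRing D] [IsLocalRing D] (K : Ideal D)
    (hK : K ≤ maximalIdeal D) : IsLocalRing (D ⧸ K) := by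
  have hne : K ≠ ⊤ := ne_top_of_le_ne_top (maximalIdeal.isMaximal D).ne_top hK
  have _ : Nontrivial (D ⧸ K) := Ideal.Quotient.nontrivial_iff.2 hne
  exact IsLocalRing.of_surjective' (Ideal.Quotient.mk K) Ideal.Quotient.mk_surjective

theorem isLocalHom_quotient (hJ : J ≤ maximalIdeal A)
    [IsLocalRing (A ⧸ J)] [IsLocalRing (B ⧸ J.map (algebraMap A B))] :
    IsLocalHom (algebraMap (A ⧸ J) (B ⧸ J.map (algebraMap A B))) := by
  have _ : IsLocalHom (Ideal.Quotient.mk (J.map (algebraMap A B))) :=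
    IsLocalHom.of_surjective _ Ideal.Quotient.mk_surjective
  refine ⟨fun a ha => ?_⟩
  obtain ⟨a, rfl⟩ := Ideal.Quotient.mk_surjective a
  have h1 : IsUnit (Ideal.Quotient.mk (J.map (algebraMap A B)) (algebraMap A B a)) := ha
  have h2 : IsUnit (algebraMap A B a) := isUnit_of_map_unit _ _ h1
  have h3 : IsUnit a := isUnit_of_map_unit (algebraMap A B) _ h2
  exact h3.map _

/-- The closed fibre does not change on passing to the quotient. -/
noncomputable def fibreEquiv (hJ : J ≤ maximalIdeal A) [IsLocalRing (A ⧸ J)] :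
    ((B ⧸ J.map (algebraMap A B)) ⧸
      (maximalIdeal (A ⧸ J)).map (algebraMap (A ⧸ J) (B ⧸ J.map (algebraMap A B)))) ≃+*
      (B ⧸ (maximalIdeal A).map (algebraMap A B)) :=
  (Ideal.quotEquivOfEq (by
    change Ideal.map (algebraMap (A ⧸ J) (B ⧸ J.map (algebraMap A B))) (maximalIdeal (A ⧸ J)) =
      Ideal.map (Ideal.Quotient.mk (J.map (algebraMap A B)))
        ((maximalIdeal A).map (algebraMap A B))
    rw [← CohenStruct.map_maximalIdeal_of_surjective (Ideal.Quotient.mk J)
      Ideal.Quotient.mk_surjective, Ideal.map_map, Ideal.map_map]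
    rfl)).trans
    (DoubleQuot.quotQuotEquivQuotOfLE (Ideal.map_mono hJ))

end Step

/-- A property of local rings governed by flat local homomorphisms. -/
structure FlatLocalProp (P : ∀ (R : Type u) [CommRing R], Prop) : Prop where
  noeth : ∀ (R : Type u) [CommRing R], P R → IsNoetherianRing R
  equiv : ∀ (R S : Type u) [CommRing R] [CommRing S], (R ≃+* S) → P R → P S
  flat_iff : ∀ (A B : Type u) [CommRing A] [CommRing B] [IsNoetherianRing A] [IsNoetherianRing B]
    [IsLocalRing A] [IsLocalRing B] [Algebra A B] [IsLocalHom (algebraMap A B)]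
    [Module.Flat A B], P B ↔ (P A ∧ P (B ⧸ (maximalIdeal A).map (algebraMap A B)))

section Comp

variable {P : ∀ (R : Type u) [CommRing R], Prop} (hP : FlatLocalProp P)
  {A B C : Type u} [CommRing A] [CommRing B] [CommRing C] [IsLocalRing A] [IsLocalRing B]
  [IsLocalRing C] (φ : A →+* B) (ψ : B →+* C) [IsLocalHom φ] [IsLocalHom ψ]

include hP in
/-- The composition principle for fibre properties. -/
theorem comp_iff (hflat : ψ.Flat)
    (hNB : IsNoetherianRing (B ⧸ (maximalIdeal A).map φ))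
    (hNC : IsNoetherianRing (C ⧸ (maximalIdeal A).map (ψ.comp φ))) :
    P (C ⧸ (maximalIdeal A).map (ψ.comp φ)) ↔
      (P (B ⧸ (maximalIdeal A).map φ) ∧ P (C ⧸ (maximalIdeal B).map ψ)) := by
  letI : Algebra B C := ψ.toAlgebra
  have hloc : IsLocalHom (algebraMap B C) := ‹IsLocalHom ψ›
  have hfl : Module.Flat B C := hflat
  set J : Ideal B := (maximalIdeal A).map φ with hJdef
  have hJ : J ≤ maximalIdeal B := ((local_hom_TFAE φ).out 0 2).1 ‹_›
  have hK : J.map (algebraMap B C) = (maximalIdeal A).map (ψ.comp φ) := by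
    rw [hJdef, Ideal.map_map]
    rfl
  have _ : IsLocalRing (B ⧸ J) := isLocalRing_quotient J hJ
  have _ : IsLocalRing (C ⧸ J.map (algebraMap B C)) :=
    isLocalRing_quotient _ (map_le_maximalIdeal_of_le B C J hJ)
  have _ : Module.Flat (B ⧸ J) (C ⧸ J.map (algebraMap B C)) := flat_quotient B C J
  have _ : IsLocalHom (algebraMap (B ⧸ J) (C ⧸ J.map (algebraMap B C))) :=
    isLocalHom_quotient B C J hJ
  have hNC' : IsNoetherianRing (C ⧸ J.map (algebraMap B C)) :=
    isNoetherianRing_of_ringEquiv _ (Ideal.quotEquivOfEq hK.symm)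
  have h1 := hP.flat_iff (B ⧸ J) (C ⧸ J.map (algebraMap B C))
  have h2 : P (C ⧸ J.map (algebraMap B C)) ↔ P (C ⧸ (maximalIdeal A).map (ψ.comp φ)) :=
    ⟨hP.equiv _ _ (Ideal.quotEquivOfEq hK), hP.equiv _ _ (Ideal.quotEquivOfEq hK.symm)⟩
  have h3 : P ((C ⧸ J.map (algebraMap B C)) ⧸
      (maximalIdeal (B ⧸ J)).map (algebraMap (B ⧸ J) (C ⧸ J.map (algebraMap B C)))) ↔
      P (C ⧸ (maximalIdeal B).map ψ) :=
    ⟨hP.equiv _ _ (fibreEquiv B C J hJ), hP.equiv _ _ (fibreEquiv B C J hJ).symm⟩
  rw [← h2, h1, h3]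

end Comp

end Groth.Agent.Lib.Helper5.FibreComp
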