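import Groth.Agent.Lib.Helper5.RegHomBC
import Mathlib

set_option autoImplicit false
universe u

namespace Groth.Agent.Lib.Helper5.RegHom

open TensorProduct IsLocalRing

/-- composition of regular homomorphisms (with Noetherian fibres of the composite). -/
theorem isRegularHom_comp (A B C : Type u) [CommRing A] [CommRing B] [CommRing C]
    [Algebra A B] [Algebra B C] [Algebra A C] [IsScalarTower A B C]
    (hAB : CAlg.IsRegularHom A B) (hBC : CAlg.IsRegularHom B C)
    (hN : ∀ (p : Ideal A) [p.IsPrime], IsNoetherianRing (p.Fiber C)) :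
    CAlg.IsRegularHom A C := by
  have hf1 : Module.Flat A B := hAB.1
  have hf2 : Module.Flat B C := hBC.1
  refine ⟨Module.Flat.trans A B C, fun p hp => ⟨hN p, ?_⟩⟩
  intro k' _ _ hfin
  have hNC : IsNoetherianRing (p.Fiber C) := hN p
  let _ : Algebra A k' := ((algebraMap p.ResidueField k').comp (algebraMap A p.ResidueField)).toAlgebra
  have hst : IsScalarTower A p.ResidueField k' := IsScalarTower.of_algebraMap_eq (fun _ => rfl)
  have hess1 : Algebra.EssFiniteType p.ResidueField k' := inferInstance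
  have hess : Algebra.EssFiniteType A k' := Algebra.EssFiniteType.comp A p.ResidueField k'
  -- B' = B ⊗ k' is regular
  have hB1 : IsRegularRing (k' ⊗[p.ResidueField] (p.Fiber B)) := (hAB.2 p).2 k' hfin
  have hB2 : IsRegularRing (k' ⊗[A] B) :=
    IsRegularRing.of_ringEquiv
      (Algebra.TensorProduct.cancelBaseChange A p.ResidueField k' k' B).toRingEquiv
  have hB3 : IsRegularRing (B ⊗[A] k') :=
    IsRegularRing.of_ringEquiv (Algebra.TensorProduct.comm A k' B).toRingEquiv
  have hreg : CAlg.IsRegularHom (B ⊗[A] k') ((B ⊗[A] k') ⊗[B] C) :=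
    isRegularHom_baseChange B C (B ⊗[A] k') hBC
  -- the target
  let e1 : (B ⊗[A] k') ⊗[B] C ≃ₐ[B] C ⊗[B] (B ⊗[A] k') := Algebra.TensorProduct.comm B _ _
  let e2 : C ⊗[B] (B ⊗[A] k') ≃ₐ[C] C ⊗[A] k' := Algebra.TensorProduct.cancelBaseChange A B C C k'
  let e3 : C ⊗[A] k' ≃ₐ[A] k' ⊗[A] C := Algebra.TensorProduct.comm A C k'
  let e4 : k' ⊗[p.ResidueField] (p.ResidueField ⊗[A] C) ≃ₐ[k'] k' ⊗[A] C :=
    Algebra.TensorProduct.cancelBaseChange A p.ResidueField k' k' C
  let e : (B ⊗[A] k') ⊗[B] C ≃+* k' ⊗[p.ResidueField] (p.Fiber C) :=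
    e1.toRingEquiv.trans (e2.toRingEquiv.trans (e3.toRingEquiv.trans e4.symm.toRingEquiv))
  have hfinT : Module.Finite (p.Fiber C) ((p.Fiber C) ⊗[p.ResidueField] k') := inferInstance
  have hNT : IsNoetherianRing ((p.Fiber C) ⊗[p.ResidueField] k') :=
    IsNoetherianRing.of_finite (p.Fiber C) _
  have hNT2 : IsNoetherianRing (k' ⊗[p.ResidueField] (p.Fiber C)) :=
    isNoetherianRing_of_ringEquiv _
      (Algebra.TensorProduct.comm p.ResidueField (p.Fiber C) k').toRingEquiv
  have hNT3 : IsNoetherianRing ((B ⊗[A] k') ⊗[B] C) := isNoetherianRing_of_ringEquiv _ e.symm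
  have h1 : IsRegularRing ((B ⊗[A] k') ⊗[B] C) :=
    isRegularRing_of_isRegularHom (B ⊗[A] k') _ hreg
  exact IsRegularRing.of_ringEquiv e

end Groth.Agent.Lib.Helper5.RegHom
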