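import Groth.Agent.Lib.Helper5.RegHomBC
import Mathlib

set_option autoImplicit false
universe u

namespace Groth.Agent.Lib.Helper5.RegHom

open TensorProduct IsLocalRing

/-- flatness descends: `A → C` flat and `B → C` faithfully flat give `A → B` flat. -/
theorem flat_of_comp_faithfullyFlat (A B C : Type u) [CommRing A] [CommRing B] [CommRing C]
    [Algebra A B] [Algebra B C] [Algebra A C] [IsScalarTower A B C] [Module.Flat A C]
    [Module.FaithfullyFlat B C] : Module.Flat A B := by
  rw [Module.Flat.iff_lTensor_preserves_injective_linearMap]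
  intro N P _ _ _ _ f hf
  have h0 : Function.Injective (f.baseChange B) := by
    rw [← Module.FaithfullyFlat.lTensor_injective_iff_injective B C]
    have h1 : Function.Injective (f.lTensor C) := Module.Flat.lTensor_preserves_injective_linearMap f hf
    let eN := TensorProduct.AlgebraTensorModule.cancelBaseChange A B C C N
    let eP := TensorProduct.AlgebraTensorModule.cancelBaseChange A B C C P
    have hcomm : ∀ x, eP ((f.baseChange B).lTensor C x) = f.lTensor C (eN x) := by
      intro x
      induction x using TensorProduct.induction_on with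
      | zero => simp
      | add x y hx hy => simp only [map_add, hx, hy]
      | tmul c y =>
        induction y using TensorProduct.induction_on with
        | zero => simp
        | add x y hx hy => simp only [map_add, tmul_add, hx, hy]
        | tmul b n => simp [eN, eP]
    intro x y hxy
    apply eN.injective
    apply h1
    rw [← hcomm, ← hcomm, hxy]
  exact h0

/-- regularity of `T ⊗ B` descends from `T ⊗ C` when `B → C` is faithfully flat. -/
theorem regular_tensor_descent (A B C T : Type u) [CommRing A] [CommRing B] [CommRing C]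
    [CommRing T] [Algebra A B] [Algebra B C] [Algebra A C] [IsScalarTower A B C] [Algebra A T]
    [Module.FaithfullyFlat B C] (h : IsRegularRing (T ⊗[A] C)) : IsRegularRing (T ⊗[A] B) := by
  let e1 : (B ⊗[A] T) ⊗[B] C ≃ₐ[B] C ⊗[B] (B ⊗[A] T) := Algebra.TensorProduct.comm B _ _
  let e2 : C ⊗[B] (B ⊗[A] T) ≃ₐ[C] C ⊗[A] T := Algebra.TensorProduct.cancelBaseChange A B C C T
  let e3 : C ⊗[A] T ≃ₐ[A] T ⊗[A] C := Algebra.TensorProduct.comm A _ _
  have h1 : IsRegularRing ((B ⊗[A] T) ⊗[B] C) :=
    IsRegularRing.of_ringEquiv ((e1.toRingEquiv.trans e2.toRingEquiv).trans e3.toRingEquiv).symm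
  have h2 : IsRegularRing (B ⊗[A] T) :=
    Groth.Agent.Lib.Helper5.SerreLoc.isRegularRing_of_faithfullyFlat (B ⊗[A] T)
      ((B ⊗[A] T) ⊗[B] C)
  exact IsRegularRing.of_ringEquiv (Algebra.TensorProduct.comm A B T).toRingEquiv

/-- if `A → C` is regular and `B → C` is faithfully flat then `A → B` is regular. -/
theorem isRegularHom_of_comp_faithfullyFlat (A B C : Type u) [CommRing A] [CommRing B]
    [CommRing C] [Algebra A B] [Algebra B C] [Algebra A C] [IsScalarTower A B C]
    (hAC : CAlg.IsRegularHom A C) [Module.FaithfullyFlat B C] : CAlg.IsRegularHom A B := by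
  have hflatAC : Module.Flat A C := hAC.1
  have hflat : Module.Flat A B := flat_of_comp_faithfullyFlat A B C
  refine ⟨hflat, fun p hp => ?_⟩
  have hgeom : CAlg.IsGeometricallyRegular p.ResidueField (p.Fiber B) := by
    intro K' _ _ hfin
    have h1 : IsRegularRing (K' ⊗[p.ResidueField] (p.Fiber C)) := (hAC.2 p).2 K' hfin
    let _ : Algebra A K' :=
      ((algebraMap p.ResidueField K').comp (algebraMap A p.ResidueField)).toAlgebra
    have hst : IsScalarTower A p.ResidueField K' := IsScalarTower.of_algebraMap_eq (fun _ => rfl)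
    let eC : K' ⊗[p.ResidueField] (p.ResidueField ⊗[A] C) ≃ₐ[K'] K' ⊗[A] C :=
      Algebra.TensorProduct.cancelBaseChange A p.ResidueField K' K' C
    let eB : K' ⊗[p.ResidueField] (p.ResidueField ⊗[A] B) ≃ₐ[K'] K' ⊗[A] B :=
      Algebra.TensorProduct.cancelBaseChange A p.ResidueField K' K' B
    have h2 : IsRegularRing (K' ⊗[A] C) := IsRegularRing.of_ringEquiv eC.toRingEquiv
    have h3 : IsRegularRing (K' ⊗[A] B) := regular_tensor_descent A B C K' h2
    exact IsRegularRing.of_ringEquiv eB.symm.toRingEquiv
  have h2 : IsRegularRing (p.Fiber B) := isRegularRing_of_geomRegular _ _ hgeom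
  exact ⟨inferInstance, hgeom⟩

end Groth.Agent.Lib.Helper5.RegHom
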