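import Groth.Agent.Lib.Helper5.RegHomBC
import Mathlib

set_option autoImplicit false
universe u

namespace Groth.Agent.Lib.Helper5.RegHom

open TensorProduct IsLocalRing

/-- regular homomorphisms are invariant under isomorphism of the target algebra. -/
theorem isRegularHom_of_algEquiv (R S S' : Type u) [CommRing R] [CommRing S] [CommRing S']
    [Algebra R S] [Algebra R S'] (e : S ≃ₐ[R] S') (h : CAlg.IsRegularHom R S) :
    CAlg.IsRegularHom R S' := by
  have hflat : Module.Flat R S := h.1
  refine ⟨Module.Flat.of_linearEquiv e.toLinearEquiv.symm, fun p hp => ?_⟩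
  let e' : p.Fiber S ≃ₐ[p.ResidueField] p.Fiber S' :=
    Algebra.TensorProduct.congr (AlgEquiv.refl : p.ResidueField ≃ₐ[p.ResidueField] p.ResidueField) e
  have hN : IsNoetherianRing (p.Fiber S) := (h.2 p).1
  exact ⟨isNoetherianRing_of_ringEquiv _ e'.toRingEquiv,
    geomRegular_of_algEquiv _ _ _ e' (h.2 p).2⟩

/-- localization of a regular homomorphism. -/
theorem isRegularHom_localization (A B : Type u) [CommRing A] [CommRing B]
    [Algebra A B] (h : CAlg.IsRegularHom A B) (S : Submonoid A)
    (A' B' : Type u) [CommRing A'] [CommRing B'] [Algebra A A'] [Algebra B B'] [Algebra A' B']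
    [Algebra A B'] [IsScalarTower A A' B'] [IsScalarTower A B B'] [IsLocalization S A']
    [IsLocalization (Algebra.algebraMapSubmonoid B S) B'] :
    CAlg.IsRegularHom A' B' := by
  have hp : Algebra.IsPushout A B A' B' := Algebra.isPushout_of_isLocalization S A' B B'
  have hp' : Algebra.IsPushout A A' B B' := hp.symm
  let e : A' ⊗[A] B ≃ₐ[A'] B' := Algebra.IsPushout.equiv A A' B B'
  have hess : Algebra.EssFiniteType A A' := Algebra.EssFiniteType.of_isLocalization A' S
  have h1 := isRegularHom_baseChange A B A' h
  exact isRegularHom_of_algEquiv A' _ _ e h1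

end Groth.Agent.Lib.Helper5.RegHom
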