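import Mathlib
import Groth.Prelude

set_option autoImplicit false
set_option linter.unusedSectionVars false

namespace Groth.Agent.Lib.Helper5.GorFibre

open TensorProduct IsLocalRing

universe u

section Fibre

variable (A B : Type u) [CommRing A] [CommRing B] [Algebra A B] (q : Ideal A) [q.IsPrime]

theorem isNoetherianRing_fiber [IsNoetherianRing B] : IsNoetherianRing (q.Fiber B) := by
  have : Algebra.EssFiniteType B (TensorProduct A B q.ResidueField) := inferInstance
  have : IsNoetherianRing (TensorProduct A B q.ResidueField) :=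
    Algebra.EssFiniteType.isNoetherianRing B _
  exact isNoetherianRing_of_ringEquiv _
    (Algebra.TensorProduct.comm A B q.ResidueField).toRingEquiv

/-- A property of the local rings of the fibre passes to the quotients of the local rings of the
total space. -/
theorem quotient_localization_of_fiber (P : ∀ (R : Type u) [CommRing R], Prop)
    (hP : ∀ (R S : Type u) [CommRing R] [CommRing S], (R ≃+* S) → P R → P S)
    (h : ∀ (q' : Ideal (q.Fiber B)) [q'.IsPrime], P (Localization.AtPrime q'))
    (p : Ideal B) [hp : p.IsPrime] [hpq : p.LiesOver q] :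
    P (Localization.AtPrime p ⧸ q.map (algebraMap A (Localization.AtPrime p))) := by
  have hmem : (⟨p, hp⟩ : PrimeSpectrum B) ∈
      PrimeSpectrum.comap (algebraMap A B) ⁻¹' {(⟨q, inferInstance⟩ : PrimeSpectrum A)} := by
    rw [Set.mem_preimage, Set.mem_singleton_iff]
    apply PrimeSpectrum.ext
    exact (Ideal.over_def p q).symm
  let q' := PrimeSpectrum.preimageEquivFiber A B ⟨q, inferInstance⟩ ⟨⟨p, hp⟩, hmem⟩
  have hq' : q'.asIdeal.comap (Algebra.TensorProduct.includeRight : B →ₐ[A] q.Fiber B) = p := by
    have := (PrimeSpectrum.preimageEquivFiber A B ⟨q, inferInstance⟩).left_inv ⟨⟨p, hp⟩, hmem⟩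
    exact congrArg (fun z => z.1.asIdeal) this
  have key : ∀ (r' : Ideal B) (hr' : r'.IsPrime), r' = p →
      P (Localization.AtPrime r' ⧸ q.map (algebraMap A (Localization.AtPrime r'))) →
      P (Localization.AtPrime p ⧸ q.map (algebraMap A (Localization.AtPrime p))) := by
    intro r' hr' heq h
    subst heq
    exact h
  have hr' : (q'.asIdeal.comap
      (Algebra.TensorProduct.includeRight : B →ₐ[A] q.Fiber B)).IsPrime :=
    Ideal.comap_isPrime _ _
  have hover : (q'.asIdeal.comap
      (Algebra.TensorProduct.includeRight : B →ₐ[A] q.Fiber B)).LiesOver q := by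
    constructor
    ext x
    have h2 : q = Ideal.under A q'.asIdeal := Ideal.over_def q'.asIdeal q
    have h3 : x ∈ q ↔ x ∈ Ideal.under A q'.asIdeal := by rw [← h2]
    rw [h3, Ideal.under_def, Ideal.under_def, Ideal.mem_comap, Ideal.mem_comap, Ideal.mem_comap,
      AlgHom.commutes]
  let _ := Localization.AtPrime.algebraOfLiesOver q
    (q'.asIdeal.comap (Algebra.TensorProduct.includeRight : B →ₐ[A] q.Fiber B))
  have e := Ideal.Fiber.localizationAlgEquivQuotient q q'.asIdeal
  exact key _ hr' hq' (hP _ _ e.toRingEquiv (h q'.asIdeal))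

/-- Conversely, from the quotient of the local ring to the local ring of the fibre. -/
theorem localization_fiber_of_quotient (P : ∀ (R : Type u) [CommRing R], Prop)
    (hP : ∀ (R S : Type u) [CommRing R] [CommRing S], (R ≃+* S) → P R → P S)
    (q' : Ideal (q.Fiber B)) [q'.IsPrime]
    (h : P (Localization.AtPrime
        (q'.comap (Algebra.TensorProduct.includeRight : B →ₐ[A] q.Fiber B)) ⧸
      q.map (algebraMap A (Localization.AtPrime
        (q'.comap (Algebra.TensorProduct.includeRight : B →ₐ[A] q.Fiber B)))))) :
    P (Localization.AtPrime q') := by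
  have hover : (q'.comap
      (Algebra.TensorProduct.includeRight : B →ₐ[A] q.Fiber B)).LiesOver q := by
    constructor
    ext x
    have h2 : q = Ideal.under A q' := Ideal.over_def q' q
    have h3 : x ∈ q ↔ x ∈ Ideal.under A q' := by rw [← h2]
    rw [h3, Ideal.under_def, Ideal.under_def, Ideal.mem_comap, Ideal.mem_comap, Ideal.mem_comap,
      AlgHom.commutes]
  let _ := Localization.AtPrime.algebraOfLiesOver q
    (q'.comap (Algebra.TensorProduct.includeRight : B →ₐ[A] q.Fiber B))
  have e := Ideal.Fiber.localizationAlgEquivQuotient q q'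
  exact hP _ _ e.symm.toRingEquiv h

theorem comap_includeRight_liesOver (q' : Ideal (q.Fiber B)) [q'.IsPrime] :
    (q'.comap (Algebra.TensorProduct.includeRight : B →ₐ[A] q.Fiber B)).LiesOver q := by
  constructor
  ext x
  have h2 : q = Ideal.under A q' := Ideal.over_def q' q
  have h3 : x ∈ q ↔ x ∈ Ideal.under A q' := by rw [← h2]
  rw [h3, Ideal.under_def, Ideal.under_def, Ideal.mem_comap, Ideal.mem_comap, Ideal.mem_comap,
    AlgHom.commutes]

end Fibre

end Groth.Agent.Lib.Helper5.GorFibre
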