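import Groth.Agent.Lib.Helper5.StalkBCD
import Groth.Agent.Lib.Helper5.RegCompletion
import Mathlib

set_option autoImplicit false
universe u

open CategoryTheory AlgebraicGeometry TensorProduct IsLocalRing

namespace Groth.Agent.Lib.Helper5.StalkBC

attribute [local instance] Curv2.stalkAlgebra

variable (k : Type u) [Field k] (X : Scheme.{u}) [X.Over (Spec (CommRingCat.of k))]
  (k' : Type u) [Field k'] [Algebra k k']

/-- every point over `x` has local ring a localization of the tensor product at a prime over the
maximal ideal (with the point downstairs fixed). -/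
theorem exists_equiv_of_point' (x : X) (x' : Curv2.bc k X k') (hx : Curv2.bcFst k X k' x' = x) :
    ∃ (Q : Ideal ((X.presheaf.stalk x) ⊗[k] k')) (_ : Q.IsPrime),
      Q.comap (Algebra.TensorProduct.includeLeftRingHom :
        X.presheaf.stalk x →+* _) = maximalIdeal _ ∧
      Nonempty ((Curv2.bc k X k').presheaf.stalk x' ≃+* Localization.AtPrime Q) := by
  subst hx
  exact exists_equiv_of_point k X k' x'

theorem regular_point_of_regular_tensor (x : X) (h : IsRegularRing ((X.presheaf.stalk x) ⊗[k] k'))
    (x' : Curv2.bc k X k') (hx : Curv2.bcFst k X k' x' = x) :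
    IsRegularLocalRing ((Curv2.bc k X k').presheaf.stalk x') := by
  obtain ⟨Q, hQ, -, ⟨e⟩⟩ := exists_equiv_of_point' k X k' x x' hx
  have : IsRegularLocalRing (Localization.AtPrime Q) := h.isRegularLocalRing_localization Q
  exact IsRegularLocalRing.of_ringEquiv e.symm

theorem comap_eq_maximalIdeal_of_isMaximal [Algebra.IsIntegral k k'] (x : X)
    (m : Ideal ((X.presheaf.stalk x) ⊗[k] k')) [hm : m.IsMaximal] :
    m.comap (Algebra.TensorProduct.includeLeftRingHom :
      X.presheaf.stalk x →+* _) = maximalIdeal _ := by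
  have hint : Algebra.IsIntegral (X.presheaf.stalk x) ((X.presheaf.stalk x) ⊗[k] k') :=
    Algebra.IsIntegral.tensorProduct k (X.presheaf.stalk x) k'
  have h1 : (m.comap (algebraMap (X.presheaf.stalk x) ((X.presheaf.stalk x) ⊗[k] k'))).IsMaximal :=
    Ideal.isMaximal_comap_of_isIntegral_of_isMaximal m
  exact IsLocalRing.eq_maximalIdeal h1

theorem regular_tensor_of_regular_points [Algebra.IsIntegral k k'] (x : X)
    [IsNoetherianRing ((X.presheaf.stalk x) ⊗[k] k')]
    (h : ∀ x' : Curv2.bc k X k', Curv2.bcFst k X k' x' = x →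
      IsRegularLocalRing ((Curv2.bc k X k').presheaf.stalk x')) :
    IsRegularRing ((X.presheaf.stalk x) ⊗[k] k') := by
  apply Groth.Agent.Lib.Helper5.RegCompletion.isRegularRing_of_maximal
  intro m hm
  have hcm := comap_eq_maximalIdeal_of_isMaximal k X k' x m
  obtain ⟨x', hx', ⟨e⟩⟩ := exists_point_of_prime k X k' x m hcm
  have := h x' hx'
  exact IsRegularLocalRing.of_ringEquiv e

end Groth.Agent.Lib.Helper5.StalkBC
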