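import Groth.Agent.Lib.Helper5.FlatCohenE
import Groth.Agent.Lib.Helper5.AdicBase
import Groth.Agent.Lib.Helper5.AdicRegE
import Groth.Agent.Lib.Helper5.RegHomBasic
import Mathlib

set_option autoImplicit false
set_option linter.unusedSectionVars false
universe u

namespace Groth.Agent.Lib.Helper5.RegHomSmooth

open TensorProduct IsLocalRing

section Base

variable {A Aₘ C : Type u} [CommRing A] [CommRing Aₘ] [CommRing C] [Algebra A Aₘ] [Algebra Aₘ C]
  [Algebra A C] [IsScalarTower A Aₘ C]

/-- extension of the base along a localization -/
theorem adic_extendBase (M₀ : Submonoid A) [IsLocalization M₀ Aₘ] (I : Ideal C)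
    (h : CAlgX.IsAdicFormallySmooth A C I) : CAlgX.IsAdicFormallySmooth Aₘ C I := by
  intro E _ _ J hJ ψ hψ
  let _ : Algebra A E := ((algebraMap Aₘ E).comp (algebraMap A Aₘ)).toAlgebra
  have _ : IsScalarTower A Aₘ E := IsScalarTower.of_algebraMap_eq (fun _ => rfl)
  obtain ⟨χ, hχ⟩ := h E J hJ (ψ.restrictScalars A) hψ
  have hcomm : (χ : C →+* E).comp (algebraMap Aₘ C) = algebraMap Aₘ E := by
    refine IsLocalization.ringHom_ext M₀ ?_
    ext a
    simp only [RingHom.comp_apply]
    rw [← IsScalarTower.algebraMap_apply A Aₘ C, ← IsScalarTower.algebraMap_apply A Aₘ E]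
    exact χ.commutes a
  refine ⟨{ (χ : C →+* E) with commutes' := fun r => RingHom.congr_fun hcomm r }, ?_⟩
  ext x
  exact congrArg (fun f : C →ₐ[A] E ⧸ J => f x) hχ

end Base

/-- a Noetherian algebra formally smooth over a field is a regular ring -/
theorem isRegularRing_of_formallySmooth_field (k T : Type u) [Field k] [CommRing T] [Algebra k T]
    [IsNoetherianRing T] [Algebra.FormallySmooth k T] : IsRegularRing T := by
  refine ⟨fun P _ => ?_⟩
  have h1 : Algebra.FormallySmooth T (Localization.AtPrime P) :=
    Algebra.FormallySmooth.of_isLocalization P.primeCompl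
  have h2 : Algebra.FormallySmooth k (Localization.AtPrime P) :=
    Algebra.FormallySmooth.comp k T (Localization.AtPrime P)
  exact AdicReg.isRegularLocalRing_of_adicSmooth (k := k)
    (AdicBase.adic_of_formallySmooth (R := k) (maximalIdeal (Localization.AtPrime P)))

variable (A B : Type u) [CommRing A] [CommRing B] [Algebra A B] [IsNoetherianRing A]
  [IsNoetherianRing B] [Algebra.FormallySmooth A B]

theorem flat_of_formallySmooth : Module.Flat A B := by
  rw [← RingHom.flat_algebraMap_iff]
  apply RingHom.Flat.ofLocalizationPrime
  intro J hJ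
  let _ : Algebra (Localization.AtPrime (J.comap (algebraMap A B))) (Localization.AtPrime J) :=
    (Localization.localRingHom (J.comap (algebraMap A B)) J (algebraMap A B) rfl).toAlgebra
  have halg : algebraMap (Localization.AtPrime (J.comap (algebraMap A B)))
      (Localization.AtPrime J) =
      Localization.localRingHom (J.comap (algebraMap A B)) J (algebraMap A B) rfl :=
    RingHom.algebraMap_toAlgebra _
  have hloc : IsLocalHom (algebraMap (Localization.AtPrime (J.comap (algebraMap A B)))
      (Localization.AtPrime J)) := by
    rw [halg]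
    infer_instance
  have htower : IsScalarTower A (Localization.AtPrime (J.comap (algebraMap A B)))
      (Localization.AtPrime J) := by
    refine IsScalarTower.of_algebraMap_eq (fun a => ?_)
    rw [halg, Localization.localRingHom_to_map]
    exact IsScalarTower.algebraMap_apply A B (Localization.AtPrime J) a
  have h1 : Algebra.FormallySmooth B (Localization.AtPrime J) :=
    Algebra.FormallySmooth.of_isLocalization J.primeCompl
  have h2 : Algebra.FormallySmooth A (Localization.AtPrime J) :=
    Algebra.FormallySmooth.comp A B (Localization.AtPrime J)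
  have h3 : CAlgX.IsAdicFormallySmooth A (Localization.AtPrime J)
      (maximalIdeal (Localization.AtPrime J)) := AdicBase.adic_of_formallySmooth _
  have h4 : CAlgX.IsAdicFormallySmooth (Localization.AtPrime (J.comap (algebraMap A B)))
      (Localization.AtPrime J) (maximalIdeal (Localization.AtPrime J)) :=
    adic_extendBase (J.comap (algebraMap A B)).primeCompl _ h3
  have h5 := FlatCohen.flat_of_adicSmooth h4
  rw [← halg]
  exact RingHom.flat_algebraMap_iff.2 h5

theorem isRegularHom_of_formallySmooth : CAlg.IsRegularHom A B := by
  refine ⟨flat_of_formallySmooth A B, fun p hp => ?_⟩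
  have hN : IsNoetherianRing (p.Fiber B) := by
    have : Algebra.EssFiniteType B (TensorProduct A B p.ResidueField) := inferInstance
    have : IsNoetherianRing (TensorProduct A B p.ResidueField) :=
      Algebra.EssFiniteType.isNoetherianRing B _
    exact isNoetherianRing_of_ringEquiv _
      (Algebra.TensorProduct.comm A B p.ResidueField).toRingEquiv
  refine ⟨hN, ?_⟩
  intro k' _ _ hfin
  have hfinT : Module.Finite (p.Fiber B) ((p.Fiber B) ⊗[p.ResidueField] k') := inferInstance
  have hNT : IsNoetherianRing ((p.Fiber B) ⊗[p.ResidueField] k') :=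
    IsNoetherianRing.of_finite (p.Fiber B) _
  have hNT2 : IsNoetherianRing (k' ⊗[p.ResidueField] (p.Fiber B)) :=
    isNoetherianRing_of_ringEquiv _
      (Algebra.TensorProduct.comm p.ResidueField (p.Fiber B) k').toRingEquiv
  have hs1 : Algebra.FormallySmooth p.ResidueField (p.Fiber B) := inferInstance
  have hs2 : Algebra.FormallySmooth k' (k' ⊗[p.ResidueField] (p.Fiber B)) := inferInstance
  exact isRegularRing_of_formallySmooth_field k' _

end Groth.Agent.Lib.Helper5.RegHomSmooth
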