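import Groth.Agent.Lib.Helper5.RegHomBasic
import Mathlib

set_option autoImplicit false
universe u

namespace Groth.Agent.Lib.Helper5.RegHom

open TensorProduct IsLocalRing

/-- geometric regularity is invariant under isomorphism of algebras. -/
theorem geomRegular_of_algEquiv (K A B : Type u) [Field K] [CommRing A] [CommRing B] [Algebra K A]
    [Algebra K B] (e : A ≃ₐ[K] B) (h : CAlg.IsGeometricallyRegular K A) :
    CAlg.IsGeometricallyRegular K B := by
  intro K' _ _ hfin
  have h1 := h K' hfin
  exact IsRegularRing.of_ringEquiv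
    (Algebra.TensorProduct.congr (AlgEquiv.refl : K' ≃ₐ[K] K') e).toRingEquiv

/-- the fibre of a base change over a prime `p'` lying over `p`. -/
theorem fiber_baseChange (R Λ R' : Type u) [CommRing R] [CommRing Λ] [CommRing R']
    [Algebra R Λ] [Algebra R R'] [Algebra.EssFiniteType R R'] (p : Ideal R) [p.IsPrime]
    (p' : Ideal R') [p'.IsPrime] [p'.LiesOver p]
    (h : CAlg.IsGeometricallyRegular p.ResidueField (p.Fiber Λ)) :
    CAlg.IsGeometricallyRegular p'.ResidueField (p'.Fiber (R' ⊗[R] Λ)) := by
  let _ := Localization.AtPrime.algebraOfLiesOver p p'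
  have hess : Algebra.EssFiniteType p.ResidueField p'.ResidueField := inferInstance
  have h1 := Groth.Agent.Lib.Helper5.GeomRegFG.geomRegular_baseChange p.ResidueField (p.Fiber Λ)
    p'.ResidueField h
  have hst : IsScalarTower R p.ResidueField p'.ResidueField := inferInstance
  let e1 : p'.ResidueField ⊗[p.ResidueField] (p.ResidueField ⊗[R] Λ) ≃ₐ[p'.ResidueField]
      p'.ResidueField ⊗[R] Λ :=
    Algebra.TensorProduct.cancelBaseChange R p.ResidueField p'.ResidueField p'.ResidueField Λ
  let e2 : p'.ResidueField ⊗[R'] (R' ⊗[R] Λ) ≃ₐ[p'.ResidueField] p'.ResidueField ⊗[R] Λ :=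
    Algebra.TensorProduct.cancelBaseChange R R' p'.ResidueField p'.ResidueField Λ
  exact geomRegular_of_algEquiv _ _ _ (e1.trans e2.symm) h1

end Groth.Agent.Lib.Helper5.RegHom

namespace Groth.Agent.Lib.Helper5.RegHom

open TensorProduct IsLocalRing

/-- base change of a regular homomorphism along a map essentially of finite type. -/
theorem isRegularHom_baseChange (R Λ R' : Type u) [CommRing R] [CommRing Λ] [CommRing R']
    [Algebra R Λ] [Algebra R R'] [Algebra.EssFiniteType R R'] (h : CAlg.IsRegularHom R Λ) :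
    CAlg.IsRegularHom R' (R' ⊗[R] Λ) := by
  have hflat : Module.Flat R Λ := h.1
  refine ⟨inferInstance, fun p' hp' => ?_⟩
  have hp : (p'.comap (algebraMap R R')).IsPrime := Ideal.comap_isPrime _ _
  have hover : p'.LiesOver (p'.comap (algebraMap R R')) := ⟨rfl⟩
  have h1 := fiber_baseChange R Λ R' (p'.comap (algebraMap R R')) p'
    (h.2 (p'.comap (algebraMap R R'))).2
  have h2 : IsRegularRing (p'.Fiber (R' ⊗[R] Λ)) := isRegularRing_of_geomRegular _ _ h1
  exact ⟨inferInstance, h1⟩

end Groth.Agent.Lib.Helper5.RegHom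

namespace Groth.Agent.Lib.Helper5.RegHom

open TensorProduct IsLocalRing

/-- descent of regular homomorphisms along a faithfully flat base change. -/
theorem isRegularHom_of_baseChange_faithfullyFlat (A B A' : Type u) [CommRing A] [CommRing B]
    [CommRing A'] [Algebra A B] [Algebra A A'] [Module.FaithfullyFlat A A']
    (h : CAlg.IsRegularHom A' (A' ⊗[A] B)) : CAlg.IsRegularHom A B := by
  have hflat' : Module.Flat A' (A' ⊗[A] B) := h.1
  have hflat : Module.Flat A B := Module.Flat.of_flat_tensorProduct A B A'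
  refine ⟨hflat, fun p hp => ?_⟩
  obtain ⟨p', hp', hover⟩ := Ideal.exists_isPrime_liesOver_of_faithfullyFlat (B := A') p
  let _ := Localization.AtPrime.algebraOfLiesOver p p'
  have hst : IsScalarTower A p.ResidueField p'.ResidueField := inferInstance
  have h1 := (h.2 p').2
  let e1 : p'.ResidueField ⊗[p.ResidueField] (p.ResidueField ⊗[A] B) ≃ₐ[p'.ResidueField]
      p'.ResidueField ⊗[A] B :=
    Algebra.TensorProduct.cancelBaseChange A p.ResidueField p'.ResidueField p'.ResidueField B
  let e2 : p'.ResidueField ⊗[A'] (A' ⊗[A] B) ≃ₐ[p'.ResidueField] p'.ResidueField ⊗[A] B :=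
    Algebra.TensorProduct.cancelBaseChange A A' p'.ResidueField p'.ResidueField B
  have h2 : CAlg.IsGeometricallyRegular p'.ResidueField
      (p'.ResidueField ⊗[p.ResidueField] (p.Fiber B)) :=
    geomRegular_of_algEquiv _ _ _ (e2.trans e1.symm) h1
  have h3 : CAlg.IsGeometricallyRegular p.ResidueField (p.Fiber B) :=
    Groth.Agent.Lib.Helper5.GeomRegFG.geomRegular_of_baseChange p.ResidueField (p.Fiber B)
      p'.ResidueField h2
  have h4 : IsRegularRing (p.Fiber B) := isRegularRing_of_geomRegular _ _ h3
  exact ⟨inferInstance, h3⟩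

end Groth.Agent.Lib.Helper5.RegHom
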