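import Groth.Agent.Lib.Helper5.RegHomBasic

set_option autoImplicit false
set_option linter.unusedSectionVars false
universe u

namespace Groth.Agent.Lib.Helper5.RegHom

open IsLocalRing TensorProduct

/-- local ascent of regularity along a regular homomorphism -/
theorem regular_localization_of_isRegularHom (R S : Type u) [CommRing R] [CommRing S]
    [Algebra R S] [IsNoetherianRing S] (h : CAlg.IsRegularHom R S) (r : Ideal S) [hr : r.IsPrime]
    (hreg : IsRegularLocalRing (Localization.AtPrime (r.comap (algebraMap R S)))) :
    IsRegularLocalRing (Localization.AtPrime r) := by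
  have hflat : Module.Flat R S := h.1
  have hp : (r.comap (algebraMap R S)).IsPrime := Ideal.comap_isPrime _ _
  have hfib : IsRegularRing ((r.comap (algebraMap R S)).Fiber S) :=
    isRegularRing_of_geomRegular _ _ (h.2 (r.comap (algebraMap R S))).2
  let q := PrimeSpectrum.preimageEquivFiber R S ⟨r.comap (algebraMap R S), hp⟩ ⟨⟨r, hr⟩, rfl⟩
  have hq : q.asIdeal.comap (Algebra.TensorProduct.includeRight :
      S →ₐ[R] (r.comap (algebraMap R S)).Fiber S) = r := by
    have := (PrimeSpectrum.preimageEquivFiber R S ⟨r.comap (algebraMap R S), hp⟩).left_inv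
      ⟨⟨r, hr⟩, rfl⟩
    exact congrArg (fun z => z.1.asIdeal) this
  have key : ∀ (r' : Ideal S) (hr' : r'.IsPrime), r' = r →
      IsRegularLocalRing (Localization.AtPrime r') →
      IsRegularLocalRing (Localization.AtPrime r) := by
    intro r' hr' heq h
    subst heq
    exact h
  have hq' : (q.asIdeal.comap (Algebra.TensorProduct.includeRight :
      S →ₐ[R] (r.comap (algebraMap R S)).Fiber S)).IsPrime := Ideal.comap_isPrime _ _
  have h1 := regular_localization_of_fiber R S (r.comap (algebraMap R S)) q.asIdeal
  exact key _ hq' hq h1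

end Groth.Agent.Lib.Helper5.RegHom
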