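import Groth.Agent.Lib.Helper5.RegLimitC
import Mathlib

set_option autoImplicit false
set_option linter.unusedSectionVars false
universe u

namespace Groth.Agent.Lib.Helper5.RegLimit

open IsLocalRing

variable {ι : Type u} [Preorder ι] [Nonempty ι] [IsDirectedOrder ι]
  (G : ι → Type u) [∀ i, CommRing (G i)]
  (f : ∀ i j, i ≤ j → G i →+* G j) [DirectedSystem G (fun i j h ↦ f i j h)]

theorem regular_directLimit (hreg : ∀ i, IsRegularRing (G i)) [IsNoetherianRing (Lim G f)] :
    IsRegularRing (Lim G f) := by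
  classical
  rw [isRegularRing_iff]
  intro p hp
  let B := Localization.AtPrime p
  let alg : Lim G f →+* B := algebraMap (Lim G f) B
  have hTm : (alg '' (p : Set (Lim G f))) ⊆ (maximalIdeal B : Set B) := by
    rintro _ ⟨a, ha, rfl⟩
    exact (IsLocalization.AtPrime.to_map_mem_maximal_iff B p a).2 ha
  have hTspan : Ideal.span (alg '' (p : Set (Lim G f))) = maximalIdeal B :=
    Localization.AtPrime.map_eq_maximalIdeal
  obtain ⟨x, e, hxT, hm, hInd⟩ := exists_indep (alg '' (p : Set (Lim G f))) hTm hTspan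
  have hex : ∀ l, ∃ a : Lim G f, l < e → alg a = x l := by
    intro l
    by_cases hl : l < e
    · obtain ⟨a, _, ha⟩ := hxT l hl
      exact ⟨a, fun _ => ha⟩
    · exact ⟨0, fun h => absurd h hl⟩
  choose a ha using hex
  obtain ⟨i0, hi0⟩ := exists_stage G f ((Finset.range e).image a)
  have hex2 : ∀ l, ∃ y : G i0, l < e → ofL G f i0 y = a l := by
    intro l
    by_cases hl : l < e
    · obtain ⟨y, hy⟩ := hi0 (a l) (Finset.mem_image_of_mem a (Finset.mem_range.2 hl))
      exact ⟨y, fun _ => hy⟩
    · exact ⟨0, fun h => absurd h hl⟩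
  choose a0 ha0 using hex2
  let x' : ℕ → B := fun l => alg (ofL G f i0 (a0 l))
  have hxx' : ∀ l < e, x l = x' l := by
    intro l hl
    change x l = alg (ofL G f i0 (a0 l))
    rw [ha0 l hl, ha l hl]
  have hm' : I x' e = maximalIdeal B := by rw [← I_congr hxx', hm]
  have hInd' : IndepN x' e := hInd.congr hxx'
  have hx'm : ∀ l < e, x' l ∈ maximalIdeal B := by
    intro l hl
    rw [← hxx' l hl]
    exact hTm (hxT l hl)
  apply regular_of_chain hm' hInd'
  intro n hn
  have hx'I : I x' n = ((I a0 n).map (ofL G f i0)).map alg := by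
    rw [map_I, map_I]
  rw [Ideal.isPrime_iff]
  constructor
  · intro htop
    have h1 : I x' n ≤ maximalIdeal B := (I_mono x' hn).trans hm'.le
    rw [htop] at h1
    exact (maximalIdeal.isMaximal B).ne_top (top_le_iff.1 h1)
  · intro β γ hβγ
    obtain ⟨a1, s1, rfl⟩ := IsLocalization.exists_mk'_eq p.primeCompl β
    obtain ⟨b1, t1, rfl⟩ := IsLocalization.exists_mk'_eq p.primeCompl γ
    rw [← IsLocalization.mk'_mul, IsLocalization.mk'_mem_iff] at hβγ
    rw [IsLocalization.mk'_mem_iff, IsLocalization.mk'_mem_iff]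
    rw [hx'I, IsLocalization.mem_map_algebraMap_iff p.primeCompl] at hβγ
    obtain ⟨⟨c, v⟩, hcv⟩ := hβγ
    rw [← map_mul, IsLocalization.eq_iff_exists p.primeCompl] at hcv
    obtain ⟨w, hw⟩ := hcv
    have hmem : (w : Lim G f) * (v : Lim G f) * a1 * b1 ∈ (I a0 n).map (ofL G f i0) := by
      have h1 : (w : Lim G f) * (v : Lim G f) * a1 * b1 = w * (a1 * b1 * v) := by ring
      rw [h1, hw]
      exact Ideal.mul_mem_left _ _ c.2
    have hwv : (w : Lim G f) * (v : Lim G f) ∉ p := (w * v).2
    obtain ⟨i1, hi1⟩ := exists_stage G f {(w : Lim G f) * (v : Lim G f), a1, b1}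
    obtain ⟨v1, hv1⟩ := hi1 ((w : Lim G f) * (v : Lim G f)) (by simp)
    obtain ⟨a1', ha1'⟩ := hi1 a1 (by simp)
    obtain ⟨b1', hb1'⟩ := hi1 b1 (by simp)
    have hz : ofL G f i1 (v1 * a1' * b1') ∈ (I a0 n).map (ofL G f i0) := by
      rw [map_mul, map_mul, hv1, ha1', hb1']
      exact hmem
    obtain ⟨j, h0, h1, hj⟩ := exists_stage_mem G f (I a0 n) _ hz
    let pj : Ideal (G j) := p.comap (ofL G f j)
    have hpj : pj.IsPrime := Ideal.comap_isPrime _ _
    have hRj : IsRegularRing (G j) := hreg j
    have hRjreg : IsRegularLocalRing (Localization.AtPrime pj) := inferInstance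
    let φ : Localization.AtPrime pj →+* B := Localization.localRingHom pj p (ofL G f j) rfl
    have hφloc : IsLocalHom φ := Localization.isLocalHom_localRingHom pj p (ofL G f j) rfl
    let algj : G j →+* Localization.AtPrime pj := algebraMap (G j) (Localization.AtPrime pj)
    have hφalg : ∀ y : G j, φ (algj y) = alg (ofL G f j y) :=
      fun y => Localization.localRingHom_to_map pj p (ofL G f j) rfl y
    let ξ : ℕ → Localization.AtPrime pj := fun l => algj (f i0 j h0 (a0 l))
    have hφξ : (fun l => φ (ξ l)) = x' := by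
      funext l
      change φ (algj (f i0 j h0 (a0 l))) = alg (ofL G f i0 (a0 l))
      rw [hφalg, ofL_f]
    have hξInd : IndepN ξ n := by
      apply IndepN.of_hom φ
      rw [hφξ]
      exact hInd'.mono hn
    have hξm : ∀ l < n, ξ l ∈ maximalIdeal (Localization.AtPrime pj) := by
      intro l hl
      rw [mem_maximalIdeal, mem_nonunits_iff]
      intro hu
      have h2 : IsUnit (x' l) := by
        rw [← hφξ]
        exact hu.map φ
      exact (mem_nonunits_iff.1 ((mem_maximalIdeal _).1 (hx'm l (hl.trans_le hn)))) h2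
    have hprime := prime_I (Localization.AtPrime pj) ξ n hξm hξInd
    have hξI : I ξ n = ((I a0 n).map (f i0 j h0)).map algj := by
      rw [map_I, map_I]
    have hmemj : algj (f i1 j h1 (v1 * a1' * b1')) ∈ I ξ n := by
      rw [hξI]
      exact Ideal.mem_map_of_mem _ hj
    rw [map_mul, map_mul, map_mul, map_mul, mul_assoc] at hmemj
    have hvunit : IsUnit (algj (f i1 j h1 v1)) := by
      apply IsLocalization.map_units (Localization.AtPrime pj) (⟨f i1 j h1 v1, ?_⟩ : pj.primeCompl)
      change f i1 j h1 v1 ∉ pj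
      change ¬ (ofL G f j (f i1 j h1 v1) ∈ p)
      rw [ofL_f, hv1]
      exact hwv
    have hab : algj (f i1 j h1 a1') * algj (f i1 j h1 b1') ∈ I ξ n := by
      rcases hprime.mem_or_mem hmemj with h | h
      · exact absurd (Ideal.eq_top_of_isUnit_mem _ h hvunit) hprime.ne_top
      · exact h
    have hφI : ∀ y, y ∈ I ξ n → φ y ∈ I x' n := by
      intro y hy
      have := Ideal.mem_map_of_mem φ hy
      rwa [map_I, hφξ] at this
    rcases hprime.mem_or_mem hab with h | h
    · left
      have := hφI _ h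
      rwa [hφalg, ofL_f, ha1'] at this
    · right
      have := hφI _ h
      rwa [hφalg, ofL_f, hb1'] at this

end Groth.Agent.Lib.Helper5.RegLimit
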