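import Mathlib.AlgebraicGeometry.AffineTransitionLimit
import Mathlib.AlgebraicGeometry.PullbackCarrier
import Mathlib.AlgebraicGeometry.ResidueField

set_option autoImplicit false
universe u

open CategoryTheory AlgebraicGeometry Limits

namespace Groth.Agent.Lib.Helper5

/-- A point of a stage which is in the image of every transition map is in the image of the limit.
(Fibre diagram over the residue field; the argument is the one helper27 used for S4758.) -/
theorem mem_range_π_of_forall_mem_range {I : Type u} [SmallCategory I] [IsCofiltered I]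
    (D : I ⥤ Scheme.{u}) (c : Cone D) (hc : IsLimit c)
    [∀ {i j : I} (f : i ⟶ j), IsAffineHom (D.map f)] (i : I) (s : D.obj i)
    (h : ∀ (j : I) (φ : j ⟶ i), s ∈ Set.range ⇑(D.map φ)) :
    s ∈ Set.range ⇑(c.π.app i) := by
  let g := (D.obj i).fromSpecResidueField s
  let F : Over i ⥤ Scheme := Over.post D ⋙ Over.pullback g ⋙ Over.forget _
  let c' : Cone F :=
    (Over.pullback g ⋙ Over.forget _).mapCone ((Over.conePost _ _).obj c)
  have hc' : IsLimit c' :=
    isLimitOfPreserves (Over.pullback g ⋙ Over.forget _) (Over.isLimitConePost _ hc)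
  have hAff : ∀ j, IsAffine (F.obj j) := by
    intro j
    change IsAffine (pullback (D.map j.hom) g)
    have : IsAffineHom (pullback.snd (D.map j.hom) g) :=
      MorphismProperty.pullback_snd _ _ inferInstance
    exact isAffine_of_isAffineHom (pullback.snd (D.map j.hom) g)
  have hNe : ∀ j, Nonempty (F.obj j) := by
    intro j
    obtain ⟨x, hx⟩ := h j.left j.hom
    obtain ⟨y, hy⟩ : ∃ y, g y = s := ⟨Classical.arbitrary _, by simp [g]⟩
    obtain ⟨z, -⟩ := Scheme.Pullback.exists_preimage_pullback (f := D.map j.hom) (g := g) x y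
      (hx.trans hy.symm)
    exact ⟨z⟩
  have hAffHom : ∀ {j k} (f : j ⟶ k), IsAffineHom (F.map f) := by
    intro j k f
    infer_instance
  have hCpt : ∀ j, CompactSpace (F.obj j) := by
    intro j
    infer_instance
  obtain ⟨z⟩ := Scheme.nonempty_of_isLimit F c' hc'
  refine ⟨(pullback.fst (c.π.app i) g) z, ?_⟩
  have := pullback.condition (f := c.π.app i) (g := g)
  have h2 := congrArg (fun φ => φ z) this
  simp only [Scheme.Hom.comp_apply] at h2
  rw [h2]
  simp [g]

end Groth.Agent.Lib.Helper5
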