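import Groth.Agent.Lib.Helper5.RegSmooth
import Groth.Agent.Lib.Helper5.SerreFlat
import Mathlib

set_option autoImplicit false
set_option linter.unusedSectionVars false
set_option backward.isDefEq.respectTransparency.types false
universe u

namespace Groth.Agent.Lib.Helper5.RegSmooth

open IsLocalRing TensorProduct

theorem regular_localization_of_le (B T : Type u) [CommRing B] [CommRing T] [Algebra B T]
    (M : Submonoid B) [IsLocalization M T] [IsRegularRing T] (q : Ideal B) [q.IsPrime]
    (hle : M ≤ q.primeCompl) : IsRegularLocalRing (Localization.AtPrime q) := by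
  let _ : Algebra T (Localization.AtPrime q) :=
    IsLocalization.localizationAlgebraOfSubmonoidLe _ _ M q.primeCompl hle
  have htow : IsScalarTower B T (Localization.AtPrime q) :=
    IsLocalization.localization_isScalarTower_of_submonoid_le _ _ M q.primeCompl hle
  have hloc2 : IsLocalization (q.primeCompl.map (algebraMap B T)) (Localization.AtPrime q) :=
    IsLocalization.isLocalization_of_submonoid_le _ _ M q.primeCompl hle
  have h3 : IsRegularRing (Localization.AtPrime q) :=
    Groth.Agent.Lib.Helper5.RegularProd.isRegularRing_of_isLocalization
      (q.primeCompl.map (algebraMap B T)) (Localization.AtPrime q)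
  exact IsRegularLocalRing.of_isRegularRing_of_isLocalRing _

theorem regular_of_smooth_of_regular_base (A B : Type u) [CommRing A] [CommRing B] [Algebra A B]
    [IsNoetherianRing A] [Algebra.Smooth A B] (p : Ideal A) [p.IsPrime] (q : Ideal B) [q.IsPrime]
    [q.LiesOver p] [IsRegularLocalRing (Localization.AtPrime p)] :
    IsRegularLocalRing (Localization.AtPrime q) := by
  have h0 : IsRegularRing (Localization.AtPrime p) :=
    Groth.Agent.Lib.Helper5.RegCompletion.isRegularRing_of_isRegularLocalRing _
  have h1 : IsRegularRing (Localization.AtPrime p ⊗[A] B) :=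
    isRegularRing_of_smooth (Localization.AtPrime p) _
  have h2 : IsRegularRing (B ⊗[A] Localization.AtPrime p) :=
    IsRegularRing.of_ringEquiv (Algebra.TensorProduct.comm A (Localization.AtPrime p) B).toRingEquiv
  have hloc : IsLocalization (Algebra.algebraMapSubmonoid B p.primeCompl)
      (B ⊗[A] Localization.AtPrime p) := inferInstance
  have hle : Algebra.algebraMapSubmonoid B p.primeCompl ≤ q.primeCompl := by
    rintro _ ⟨a, ha, rfl⟩ haq
    apply ha
    have : a ∈ q.comap (algebraMap A B) := haq
    rwa [← Ideal.under_def, ← Ideal.over_def q p] at this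
  exact regular_localization_of_le B (B ⊗[A] Localization.AtPrime p)
    (Algebra.algebraMapSubmonoid B p.primeCompl) q hle

theorem regular_iff_of_smooth (A B : Type u) [CommRing A] [CommRing B] [Algebra A B]
    [IsNoetherianRing A] [Algebra.Smooth A B] (p : Ideal A) [p.IsPrime] (q : Ideal B) [q.IsPrime]
    [q.LiesOver p] :
    IsRegularLocalRing (Localization.AtPrime q) ↔ IsRegularLocalRing (Localization.AtPrime p) := by
  constructor
  · intro h
    let _ := Localization.AtPrime.algebraOfLiesOver p q
    have hloc : IsLocalHom (algebraMap (Localization.AtPrime p) (Localization.AtPrime q)) := by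
      rw [RingHom.algebraMap_toAlgebra]
      exact Localization.isLocalHom_localRingHom p q (algebraMap A B) Ideal.LiesOver.over
    have hflat : Module.Flat (Localization.AtPrime p) (Localization.AtPrime q) := inferInstance
    exact Groth.Agent.Lib.Helper5.SerreLoc.regular_of_flat (Localization.AtPrime p)
      (Localization.AtPrime q)
  · intro h
    exact regular_of_smooth_of_regular_base A B p q

end Groth.Agent.Lib.Helper5.RegSmooth
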