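import Groth.Agent.S4606
import Mathlib.RingTheory.FiniteType
import Mathlib.RingTheory.Polynomial.Basic

set_option autoImplicit false
set_option linter.unusedSectionVars false
universe u

namespace Groth.Agent.Lib.Helper5.AdicStalk

open IsLocalRing

/-- for a prime of a finite type algebra over a Noetherian ring: formal smoothness of the local
ring, adic formal smoothness over the local ring of the base, and formal smoothness of a
principal localization are equivalent -/
theorem tfae_of_finiteType {A C : Type u} [CommRing A] [CommRing C]
    [Algebra A C] [IsNoetherianRing A] [Algebra.FiniteType A C]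
    (J : Ideal C) [J.IsPrime]
    [Algebra (Localization.AtPrime (J.comap (algebraMap A C))) (Localization.AtPrime J)]
    [IsScalarTower A (Localization.AtPrime (J.comap (algebraMap A C))) (Localization.AtPrime J)] :
    [Algebra.FormallySmooth A (Localization.AtPrime J),
      CAlgX.IsAdicFormallySmooth (Localization.AtPrime (J.comap (algebraMap A C)))
        (Localization.AtPrime J) (maximalIdeal (Localization.AtPrime J)),
      ∃ f : C, f ∉ J ∧ Algebra.FormallySmooth A (Localization.Away f)].TFAE := by
  obtain ⟨n, φ, hφ⟩ := Algebra.FiniteType.iff_quotient_mvPolynomial''.1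
    (inferInstance : Algebra.FiniteType A C)
  let _ : Algebra (MvPolynomial (Fin n) A) C := φ.toRingHom.toAlgebra
  have _ : IsScalarTower A (MvPolynomial (Fin n) A) C :=
    IsScalarTower.of_algebraMap_eq (fun a => (φ.commutes a).symm)
  have hsurj : Function.Surjective (algebraMap (MvPolynomial (Fin n) A) C) := hφ
  have h46 := Groth.Agent.S4606.result (A := A) (B := MvPolynomial (Fin n) A) hsurj J
  have hfinJ : Module.Finite (MvPolynomial (Fin n) A)
      (RingHom.ker (algebraMap (MvPolynomial (Fin n) A) C)) :=
    Module.Finite.iff_fg.2 (IsNoetherian.noetherian _)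
  have _ : Module.Finite (MvPolynomial (Fin n) A)
      (RingHom.ker (algebraMap (MvPolynomial (Fin n) A) C)).Cotangent :=
    Module.Finite.of_surjective (RingHom.ker (algebraMap (MvPolynomial (Fin n) A) C)).toCotangent
      (Ideal.toCotangent_surjective _)
  have htfae := Groth.Agent.S2463.result (A := A) (B := MvPolynomial (Fin n) A) hsurj J
  tfae_have 1 ↔ 2 := (htfae.out 0 1).trans h46.symm
  tfae_have 1 ↔ 3 := htfae.out 0 2
  tfae_finish

end Groth.Agent.Lib.Helper5.AdicStalk
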