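import Groth.Agent.Lib.Helper5.RegSmoothPerfect
import Mathlib

set_option autoImplicit false
set_option linter.unusedSectionVars false
universe u

namespace Groth.Agent.Lib.Helper5.RegSmoothCore

open AlgebraicGeometry CategoryTheory

set_option backward.isDefEq.respectTransparency.types false in
theorem mem_smoothLocus_iff_regular (k : Type u) [Field k] [PerfectField k] (X : Scheme.{u})
    (f : X ⟶ Spec (CommRingCat.of k)) [LocallyOfFinitePresentation f] (x : X) :
    x ∈ f.smoothLocus ↔ IsRegularLocalRing (X.presheaf.stalk x) := by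
  obtain ⟨V, hV, hxV, -⟩ := exists_isAffineOpen_mem_and_subset (x := x) (U := ⊤) trivial
  have hU : IsAffineOpen (⊤ : (Spec (CommRingCat.of k)).Opens) := isAffineOpen_top _
  have hVU : V ≤ f ⁻¹ᵁ ⊤ := le_top
  have hft := f.finiteType_appLE hU hV hVU
  rw [Scheme.Hom.mem_smoothLocus, formallySmooth_stalkMap_iff ⊤ hU V hV hVU hxV]
  algebraize [(f.appLE ⊤ V hVU).hom]
  let e : k ≃+* Γ(Spec (CommRingCat.of k), ⊤) :=
    (Scheme.ΓSpecIso (CommRingCat.of k)).symm.commRingCatIsoToRingEquiv
  let _ : Field Γ(Spec (CommRingCat.of k), ⊤) := (e.symm.isField (Field.toIsField k)).toField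
  let _ : Algebra k Γ(Spec (CommRingCat.of k), ⊤) := e.toRingHom.toAlgebra
  have halg : Algebra.IsAlgebraic k Γ(Spec (CommRingCat.of k), ⊤) := by
    refine ⟨fun a => ?_⟩
    obtain ⟨c, rfl⟩ := e.surjective a
    exact isAlgebraic_algebraMap c
  have hperf : PerfectField Γ(Spec (CommRingCat.of k), ⊤) :=
    Algebra.IsAlgebraic.perfectField (K := k) (L := Γ(Spec (CommRingCat.of k), ⊤))
  have key := regular_iff_isSmoothAt Γ(Spec (CommRingCat.of k), ⊤) Γ(X, V)
    (hV.primeIdealOf ⟨x, hxV⟩).asIdeal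
  let _ := X.presheaf.algebra_section_stalk ⟨x, hxV⟩
  have hloc := hV.isLocalization_stalk ⟨x, hxV⟩
  let eX := (IsLocalization.algEquiv (hV.primeIdealOf ⟨x, hxV⟩).asIdeal.primeCompl
      (Localization.AtPrime (hV.primeIdealOf ⟨x, hxV⟩).asIdeal) (X.presheaf.stalk x)).toRingEquiv
  constructor
  · intro h
    have := key.2 h
    exact IsRegularLocalRing.of_ringEquiv eX
  · intro h
    have : IsRegularLocalRing (Localization.AtPrime (hV.primeIdealOf ⟨x, hxV⟩).asIdeal) :=
      IsRegularLocalRing.of_ringEquiv eX.symm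
    exact key.1 this

end Groth.Agent.Lib.Helper5.RegSmoothCore
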