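import Groth.Agent.Lib.Helper5.StalkBCE
import Groth.Agent.Lib.Helper22.GeomRed2
import Mathlib

set_option autoImplicit false
universe u

open CategoryTheory AlgebraicGeometry TensorProduct IsLocalRing

namespace Groth.Agent.Lib.Helper5.StalkBC

attribute [local instance] Curv2.stalkAlgebra

variable (k : Type u) [Field k] (X : Scheme.{u}) [X.Over (Spec (CommRingCat.of k))]
  (k' : Type u) [Field k'] [Algebra k k']

/-- a point of the base change whose image generizes `x` has local ring a localization of the
tensor product of the local ring at `x` with the extension field. -/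
theorem exists_equiv_of_specializes (x : X) (x' : Curv2.bc k X k')
    (hx : Curv2.bcFst k X k' x' ⤳ x) :
    ∃ (Q : Ideal ((X.presheaf.stalk x) ⊗[k] k')) (_ : Q.IsPrime),
      Nonempty ((Curv2.bc k X k').presheaf.stalk x' ≃+* Localization.AtPrime Q) := by
  have hmem : Curv2.bcFst k X k' x' ∈ Set.range (X.fromSpecStalk x) := by
    rw [Scheme.range_fromSpecStalk]
    exact hx
  obtain ⟨z, hz⟩ := hmem
  obtain ⟨w, hw1, hw2⟩ := Scheme.Pullback.exists_preimage_pullback
    (f := X.fromSpecStalk x) (g := Curv2.bcFst k X k') z x' hz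
  refine ⟨(primeOf k X k' x w).asIdeal, (primeOf k X k' x w).isPrime, ?_⟩
  obtain ⟨e⟩ := nonempty_stalk_equiv k X k' x w
  rw [hw2] at e
  exact ⟨e⟩

theorem reduced_point_of_reduced_tensor (x : X) (h : IsReduced ((X.presheaf.stalk x) ⊗[k] k'))
    (x' : Curv2.bc k X k') (hx : Curv2.bcFst k X k' x' ⤳ x) :
    IsReduced ((Curv2.bc k X k').presheaf.stalk x') := by
  obtain ⟨Q, hQ, ⟨e⟩⟩ := exists_equiv_of_specializes k X k' x x' hx
  have : IsReduced (Localization.AtPrime Q) := inferInstance
  exact isReduced_of_injective e.toRingHom e.injective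

theorem reduced_tensor_of_reduced_points [Algebra.IsIntegral k k'] (x : X)
    (h : ∀ x' : Curv2.bc k X k', Curv2.bcFst k X k' x' = x →
      IsReduced ((Curv2.bc k X k').presheaf.stalk x')) :
    IsReduced ((X.presheaf.stalk x) ⊗[k] k') := by
  apply isReduced_ofLocalizationMaximal
  intro m hm
  have hcm := comap_eq_maximalIdeal_of_isMaximal k X k' x m
  obtain ⟨x', hx', ⟨e⟩⟩ := exists_point_of_prime k X k' x m hcm
  have := h x' hx'
  exact isReduced_of_injective e.symm.toRingHom e.symm.injective

/-- geometric reducedness at a point in terms of the local ring. -/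
theorem isGeomReducedAt_iff (x : X) :
    Curv2.IsGeomReducedAt k X x ↔ Algebra.IsGeometricallyReduced k (X.presheaf.stalk x) := by
  constructor
  · intro h
    have h1 : IsReduced ((X.presheaf.stalk x) ⊗[k] (AlgebraicClosure k)) :=
      reduced_tensor_of_reduced_points k X (AlgebraicClosure k) x
        (fun x' hx' => h (AlgebraicClosure k) x' hx')
    rw [Algebra.isGeometricallyReduced_field_iff]
    exact isReduced_of_injective
      (Algebra.TensorProduct.comm k (AlgebraicClosure k) (X.presheaf.stalk x))
      (Algebra.TensorProduct.comm k (AlgebraicClosure k) (X.presheaf.stalk x)).injective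
  · intro h k' _ _ x' hx'
    have h1 : IsReduced (k' ⊗[k] (X.presheaf.stalk x)) :=
      Groth.Agent.Lib.Helper22.GeomRed.isReduced_tensor_of_isGeometricallyReduced
    have h2 : IsReduced ((X.presheaf.stalk x) ⊗[k] k') :=
      isReduced_of_injective (Algebra.TensorProduct.comm k (X.presheaf.stalk x) k')
        (Algebra.TensorProduct.comm k (X.presheaf.stalk x) k').injective
    exact reduced_point_of_reduced_tensor k X k' x h2 x' (hx' ▸ specializes_rfl)

theorem reduced_tensor_of_isGeomReducedAt (x : X) (h : Curv2.IsGeomReducedAt k X x) :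
    IsReduced ((X.presheaf.stalk x) ⊗[k] k') := by
  have := (isGeomReducedAt_iff k X x).mp h
  have h1 : IsReduced (k' ⊗[k] (X.presheaf.stalk x)) :=
    Groth.Agent.Lib.Helper22.GeomRed.isReduced_tensor_of_isGeometricallyReduced
  exact isReduced_of_injective (Algebra.TensorProduct.comm k (X.presheaf.stalk x) k')
    (Algebra.TensorProduct.comm k (X.presheaf.stalk x) k').injective

end Groth.Agent.Lib.Helper5.StalkBC
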