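import Groth.Agent.Lib.Helper5.FrobRed
import Groth.Agent.Lib.Helper5.StalkBCH
import Mathlib

set_option autoImplicit false
universe u

open CategoryTheory CategoryTheory.Limits AlgebraicGeometry TensorProduct

namespace Groth.Agent.Lib.Helper5.FrobRed

/-- the field `k` regarded as an extension of itself through the `p`-th power map. -/
def FrobK (k : Type u) [Field k] (p : ℕ) [Fact p.Prime] [CharP k p] : Type u := k

variable (k : Type u) [Field k] (p : ℕ) [Fact p.Prime] [CharP k p]

noncomputable instance : Field (FrobK k p) := inferInstanceAs (Field k)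

noncomputable instance : Algebra k (FrobK k p) := (frobenius k p).toAlgebra

theorem algebraMap_frobK (a : k) : algebraMap k (FrobK k p) a = (a : k) ^ p := rfl

theorem frobK_pthRoots (a : k) : ∃ c : FrobK k p, c ^ p = algebraMap k (FrobK k p) a :=
  ⟨a, rfl⟩

instance : Algebra.IsIntegral k (FrobK k p) := by
  refine ⟨fun c => ?_⟩
  let c' : k := c
  refine ⟨(Polynomial.X ^ p - Polynomial.C c' : Polynomial k), ?_, ?_⟩
  · exact Polynomial.monic_X_pow_sub_C _ (Fact.out : p.Prime).ne_zero
  · rw [Polynomial.eval₂_sub, Polynomial.eval₂_pow, Polynomial.eval₂_X, Polynomial.eval₂_C]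
    exact sub_self _

attribute [local instance] Curv2.stalkAlgebra

variable (X : Scheme.{u}) [X.Over (Spec (CommRingCat.of k))]

theorem geomReducedAt_of_isReduced_frob
    (h : AlgebraicGeometry.IsReduced (Curv2.bc k X (FrobK k p))) (x : X) :
    Curv2.IsGeomReducedAt k X x := by
  rw [Groth.Agent.Lib.Helper5.StalkBC.isGeomReducedAt_iff]
  have h1 : IsReduced ((X.presheaf.stalk x) ⊗[k] (FrobK k p)) :=
    Groth.Agent.Lib.Helper5.StalkBC.reduced_tensor_of_reduced_points k X (FrobK k p) x
      (fun x' _ => inferInstance)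
  have h2 : IsReduced ((FrobK k p) ⊗[k] (X.presheaf.stalk x)) :=
    isReduced_of_injective (Algebra.TensorProduct.comm k (FrobK k p) (X.presheaf.stalk x))
      (Algebra.TensorProduct.comm k (FrobK k p) (X.presheaf.stalk x)).injective
  exact isGeometricallyReduced_of_pthRoots k (FrobK k p) (X.presheaf.stalk x) p (frobK_pthRoots k p)

theorem isReduced_bc_of_forall_geomReducedAt (h : ∀ x : X, Curv2.IsGeomReducedAt k X x)
    (K : Type u) [Field K] [Algebra k K] : AlgebraicGeometry.IsReduced (Curv2.bc k X K) := by
  have : ∀ x' : Curv2.bc k X K, _root_.IsReduced ((Curv2.bc k X K).presheaf.stalk x') :=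
    fun x' => h _ K x' rfl
  exact isReduced_of_isReduced_stalk _

end Groth.Agent.Lib.Helper5.FrobRed
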