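import Mathlib
import Groth.Agent.Lib.Helper5.LciB

/-!
# Exchange lemma in a local ring
-/

set_option autoImplicit false
universe u

namespace Groth.Agent.Lib.Helper5.Lci

variable {S : Type u} [CommRing S] [IsLocalRing S]

theorem exists_exchange (J : Ideal S) :
    ∀ (n : ℕ) (t : Fin n → S) (γ : Finset S), Ideal.span (γ : Set S) = J → (∀ k, t k ∈ J) →
      (∀ c : Fin n → S, ∑ k, c k * t k ∈ IsLocalRing.maximalIdeal S * J →
        ∀ k, c k ∈ IsLocalRing.maximalIdeal S) →
      ∃ ρ : Finset S, ρ ⊆ γ ∧ ρ.card + n ≤ γ.card ∧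
        Ideal.span (Set.range t ∪ (ρ : Set S)) = J := by
  classical
  intro n
  induction n with
  | zero =>
    intro t γ hγ _ _
    refine ⟨γ, subset_rfl, le_rfl, ?_⟩
    rw [Set.range_eq_empty, Set.empty_union, hγ]
  | succ n ih =>
    intro t γ hγ ht hind
    set t₀ : Fin n → S := fun k => t k.castSucc with ht₀
    have hind₀ : ∀ c : Fin n → S, ∑ k, c k * t₀ k ∈ IsLocalRing.maximalIdeal S * J →
        ∀ k, c k ∈ IsLocalRing.maximalIdeal S := by
      intro c hc k
      have h1 := hind (Fin.snoc c 0) (by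
        rw [Fin.sum_univ_castSucc]
        simp only [Fin.snoc_castSucc, Fin.snoc_last, zero_mul, add_zero]
        exact hc) k.castSucc
      simpa using h1
    obtain ⟨ρ, hργ, hcard, hspan⟩ := ih t₀ γ hγ (fun k => ht _) hind₀
    have hρJ : ∀ r ∈ ρ, r ∈ J := fun r hr => by
      rw [← hspan]
      exact Ideal.subset_span (Or.inr hr)
    have hτ : t (Fin.last n) ∈ Ideal.span (Set.range t₀) ⊔ Ideal.span (ρ : Set S) := by
      rw [← Ideal.span_union, hspan]
      exact ht _
    obtain ⟨y, hy, z, hz, hyz⟩ := Submodule.mem_sup.1 hτ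
    obtain ⟨c₀, hc₀⟩ := (Ideal.mem_span_range_iff_exists_fun).1 hy
    obtain ⟨d, -, hd⟩ := (Submodule.mem_span_finset).1 hz
    have hex : ∃ r₀ ∈ ρ, d r₀ ∉ IsLocalRing.maximalIdeal S := by
      by_contra hcon
      push Not at hcon
      have hzm : z ∈ IsLocalRing.maximalIdeal S * J := by
        rw [← hd]
        refine Ideal.sum_mem _ fun r hr => ?_
        rw [smul_eq_mul]
        exact Ideal.mul_mem_mul (hcon r hr) (hρJ r hr)
      have h1 := hind (Fin.snoc (fun k => - c₀ k) 1) (by
        rw [Fin.sum_univ_castSucc]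
        simp only [Fin.snoc_castSucc, Fin.snoc_last, one_mul, neg_mul, Finset.sum_neg_distrib]
        have : ∑ k, c₀ k * t k.castSucc = y := hc₀
        rw [this, ← hyz]
        simpa using hzm) (Fin.last n)
      simp only [Fin.snoc_last] at h1
      exact (Ideal.ne_top_iff_one _).1 (IsLocalRing.maximalIdeal.isMaximal S).ne_top h1
    obtain ⟨r₀, hr₀, hdr₀⟩ := hex
    have hu : IsUnit (d r₀) := (IsLocalRing.notMem_maximalIdeal).1 hdr₀
    refine ⟨ρ.erase r₀, (Finset.erase_subset _ _).trans hργ, ?_, ?_⟩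
    · rw [Finset.card_erase_of_mem hr₀]
      have : 1 ≤ ρ.card := Finset.card_pos.2 ⟨r₀, hr₀⟩
      omega
    · apply le_antisymm
      · rw [Ideal.span_le]
        rintro x (⟨k, rfl⟩ | hx)
        · exact ht k
        · exact hρJ x (Finset.mem_of_mem_erase hx)
      · rw [← hspan, Ideal.span_le]
        have ht₀mem : ∀ k, t₀ k ∈ Ideal.span (Set.range t ∪ ((ρ.erase r₀ : Finset S) : Set S)) :=
          fun k => Ideal.subset_span (Or.inl ⟨k.castSucc, rfl⟩)
        have hρ'mem : ∀ r ∈ ρ.erase r₀,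
            r ∈ Ideal.span (Set.range t ∪ ((ρ.erase r₀ : Finset S) : Set S)) :=
          fun r hr => Ideal.subset_span (Or.inr hr)
        have hr₀mem : r₀ ∈ Ideal.span (Set.range t ∪ ((ρ.erase r₀ : Finset S) : Set S)) := by
          have h1 : d r₀ * r₀ = t (Fin.last n) - y - ∑ r ∈ ρ.erase r₀, d r • r := by
            have := Finset.add_sum_erase ρ (fun r => d r • r) hr₀
            rw [hd] at this
            rw [← hyz, ← this, smul_eq_mul]
            ring
          rw [← Ideal.unit_mul_mem_iff_mem _ hu, h1]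
          refine Ideal.sub_mem _ (Ideal.sub_mem _ (Ideal.subset_span (Or.inl ⟨_, rfl⟩)) ?_) ?_
          · rw [← hc₀]
            exact Ideal.sum_mem _ fun k _ => Ideal.mul_mem_left _ _ (ht₀mem k)
          · exact Ideal.sum_mem _ fun r hr => by
              rw [smul_eq_mul]
              exact Ideal.mul_mem_left _ _ (hρ'mem r hr)
        rintro x (⟨k, rfl⟩ | hx)
        · exact ht₀mem k
        · by_cases hxr : x = r₀
          · rw [hxr]; exact hr₀mem
          · exact hρ'mem x (Finset.mem_erase.2 ⟨hxr, hx⟩)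

/-- list form of the exchange lemma -/
theorem exists_exchange_list (J : Ideal S) (t γ : List S) (hγ : Ideal.ofList γ = J)
    (ht : ∀ x ∈ t, x ∈ J)
    (hind : ∀ c : Fin t.length → S, ∑ k, c k * t.get k ∈ IsLocalRing.maximalIdeal S * J →
      ∀ k, c k ∈ IsLocalRing.maximalIdeal S) :
    ∃ ρ : List S, (∀ x ∈ ρ, x ∈ γ) ∧ ρ.length + t.length ≤ γ.length ∧
      Ideal.ofList (ρ ++ t) = J := by
  classical
  obtain ⟨ρ, hργ, hcard, hspan⟩ := exists_exchange J t.length t.get γ.toFinset
    (by
      rw [← hγ]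
      unfold Ideal.ofList
      congr 1
      ext x
      simp) (fun k => ht _ (List.get_mem t k)) hind
  refine ⟨ρ.toList, fun x hx => ?_, ?_, ?_⟩
  · have := hργ (Finset.mem_toList.1 hx)
    simpa using this
  · rw [Finset.length_toList]
    exact hcard.trans (List.toFinset_card_le γ)
  · rw [← hspan]
    unfold Ideal.ofList
    congr 1
    ext x
    simp only [List.mem_append, Finset.mem_toList, Set.mem_ofPred_eq, Set.mem_union, Set.mem_range,
      Finset.mem_coe]
    constructor
    · rintro (h | h)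
      · exact Or.inr h
      · obtain ⟨k, rfl⟩ := List.mem_iff_get.1 h
        exact Or.inl ⟨k, rfl⟩
    · rintro (⟨k, rfl⟩ | h)
      · exact Or.inr (List.get_mem t k)
      · exact Or.inl h

/-- function form of the exchange lemma -/
theorem exists_exchange_list' (J : Ideal S) (n : ℕ) (t : Fin n → S) (γ : List S)
    (hγ : Ideal.ofList γ = J) (ht : ∀ k, t k ∈ J)
    (hind : ∀ c : Fin n → S, ∑ k, c k * t k ∈ IsLocalRing.maximalIdeal S * J →
      ∀ k, c k ∈ IsLocalRing.maximalIdeal S) :
    ∃ ρ : List S, (∀ x ∈ ρ, x ∈ γ) ∧ ρ.length + n ≤ γ.length ∧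
      Ideal.ofList (ρ ++ List.ofFn t) = J := by
  classical
  obtain ⟨ρ, hργ, hcard, hspan⟩ := exists_exchange J n t γ.toFinset
    (by
      rw [← hγ]
      unfold Ideal.ofList
      congr 1
      ext x
      simp) ht hind
  refine ⟨ρ.toList, fun x hx => ?_, ?_, ?_⟩
  · have := hργ (Finset.mem_toList.1 hx)
    simpa using this
  · rw [Finset.length_toList]
    exact hcard.trans (List.toFinset_card_le γ)
  · rw [← hspan]
    unfold Ideal.ofList
    congr 1
    ext x
    simp only [List.mem_append, Finset.mem_toList, Set.mem_ofPred_eq, Set.mem_union, Set.mem_range,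
      Finset.mem_coe, List.mem_ofFn]
    tauto

omit [IsLocalRing S] in
theorem exists_preimage_list {T : Type u} (f : T → S) (a : List T) (ρ : List S)
    (h : ∀ x ∈ ρ, x ∈ a.map f) : ∃ σ : List T, σ.map f = ρ ∧ ∀ x ∈ σ, x ∈ a := by
  induction ρ with
  | nil => exact ⟨[], rfl, by simp⟩
  | cons x l ih =>
    obtain ⟨σ, hσ, hσa⟩ := ih (fun y hy => h y (List.mem_cons_of_mem _ hy))
    obtain ⟨y, hya, hy⟩ := List.mem_map.1 (h x List.mem_cons_self)
    refine ⟨y :: σ, by rw [List.map_cons, hy, hσ], ?_⟩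
    intro z hz
    rcases List.mem_cons.1 hz with rfl | hz
    · exact hya
    · exact hσa z hz

end Groth.Agent.Lib.Helper5.Lci
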