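import Mathlib
import Groth.Agent.Lib.Helper5.LciC

/-!
# Koszul-regular ideals: extension through a quotient, and cancellation
-/

set_option autoImplicit false
universe u

namespace Groth.Agent.Lib.Helper5.Lci

open Groth.Agent.Lib.Helper5.KosDesc Groth.Agent.Lib.Helper5.KosPerm

variable {T Tb : Type u} [CommRing T] [CommRing Tb]

theorem isUnit_algebraMap_away_mul_left (g₁ g₂ : T) :
    IsUnit (algebraMap T (Localization.Away (g₁ * g₂)) g₁) := by
  have h := IsLocalization.Away.algebraMap_isUnit (S := Localization.Away (g₁ * g₂)) (g₁ * g₂)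
  rw [map_mul] at h
  exact isUnit_of_mul_isUnit_left h

theorem isUnit_algebraMap_away_mul_right (g₁ g₂ : T) :
    IsUnit (algebraMap T (Localization.Away (g₁ * g₂)) g₂) := by
  have h := IsLocalization.Away.algebraMap_isUnit (S := Localization.Away (g₁ * g₂)) (g₁ * g₂)
  rw [map_mul] at h
  exact isUnit_of_mul_isUnit_right h

theorem exists_lift_list {π : T →+* Tb} (hπ : Function.Surjective π) (K : Ideal T)
    (cb : List Tb) (hcb : ∀ x ∈ cb, x ∈ K.map π) :
    ∃ c : List T, c.map π = cb ∧ ∀ x ∈ c, x ∈ K := by
  induction cb with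
  | nil => exact ⟨[], rfl, by simp⟩
  | cons x l ih =>
    obtain ⟨c, hc, hcK⟩ := ih (fun y hy => hcb y (List.mem_cons_of_mem _ hy))
    obtain ⟨y, hyK, hy⟩ := (Ideal.mem_map_iff_of_surjective π hπ).1 (hcb x List.mem_cons_self)
    refine ⟨y :: c, by rw [List.map_cons, hy, hc], ?_⟩
    intro z hz
    rcases List.mem_cons.1 hz with rfl | hz
    · exact hyK
    · exact hcK z hz

/-- **Extension**: if the kernel of a surjection `π` is Koszul-regular and the image of `K ⊇ ker π`
is Koszul-regular, then `K` is Koszul-regular. -/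
theorem isKoszulRegularIdeal_of_quotient (π : T →+* Tb) (hπ : Function.Surjective π)
    (K : Ideal T) (hle : RingHom.ker π ≤ K) (hI : LCI.IsKoszulRegularIdeal (RingHom.ker π))
    (hK : LCI.IsKoszulRegularIdeal (K.map π)) : LCI.IsKoszulRegularIdeal K := by
  apply isKoszulRegularIdeal_of_local
  intro q _ hKq
  have hIq : RingHom.ker π ≤ q := hle.trans hKq
  obtain ⟨g₁, hg₁, a, haI, haKR, haspan⟩ := exists_global_gens _ hI q hIq
  have hqb : (q.map π).IsPrime := Ideal.map_isPrime_of_surjective hπ hIq
  obtain ⟨gb₂, hgb₂, cb, hcbK, hcbKR, hcbspan⟩ :=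
    exists_global_gens _ hK (q.map π) (Ideal.map_mono hKq)
  obtain ⟨g₂, rfl⟩ := hπ gb₂
  have hg₂ : g₂ ∉ q := fun h => hgb₂ (Ideal.mem_map_of_mem _ h)
  obtain ⟨c, rfl, hcK⟩ := exists_lift_list hπ K cb hcbK
  have hG : g₁ * g₂ ∉ q := fun h => (Ideal.IsPrime.mem_or_mem inferInstance h).elim hg₁ hg₂
  have haKR' : LCI.IsKoszulRegularSeq (Localization.Away (g₁ * g₂))
      (a.map (algebraMap T (Localization.Away (g₁ * g₂)))) :=
    kr_away_mono a g₁ _ haKR fun q' _ hq' h => hq' (Ideal.mul_mem_right _ _ h)
  have haspan' : (RingHom.ker π).map (algebraMap T (Localization.Away (g₁ * g₂))) =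
      Ideal.ofList (a.map (algebraMap T (Localization.Away (g₁ * g₂)))) :=
    map_eq_ofList_of_isUnit _ a g₁ haspan _ (isUnit_algebraMap_away_mul_left g₁ g₂)
  have hcKR' : LCI.IsKoszulRegularSeq (Localization.Away (π (g₁ * g₂)))
      ((c.map π).map (algebraMap Tb (Localization.Away (π (g₁ * g₂))))) :=
    kr_away_mono (c.map π) (π g₂) _ hcbKR fun q' _ hq' h => hq' (by
      rw [map_mul]; exact Ideal.mul_mem_left _ _ h)
  have hcspan' : (K.map π).map (algebraMap Tb (Localization.Away (π (g₁ * g₂)))) =
      Ideal.ofList ((c.map π).map (algebraMap Tb (Localization.Away (π (g₁ * g₂))))) :=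
    map_eq_ofList_of_isUnit _ (c.map π) (π g₂) hcbspan _ (by
      have := isUnit_algebraMap_away_mul_right (π g₁) (π g₂)
      rwa [← map_mul] at this)
  exact ⟨g₁ * g₂, hG, c ++ a, (kr_transfer (g₁ * g₂) hπ a c haspan' haKR').2 hcKR',
    span_transfer_up (g₁ * g₂) hπ K a c haspan' hle hcK hcspan'⟩

/-- independence modulo `q • J` passes to the localization at `q` -/
theorem indep_atPrime (J : Ideal T) (q : Ideal T) [q.IsPrime] (n : ℕ) (t : Fin n → T)
    (hind : ∀ c : Fin n → T, ∑ k, c k * t k ∈ q * J → ∀ k, c k ∈ q)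
    (c : Fin n → Localization.AtPrime q)
    (hc : ∑ k, c k * algebraMap T (Localization.AtPrime q) (t k) ∈
      IsLocalRing.maximalIdeal (Localization.AtPrime q) *
        J.map (algebraMap T (Localization.AtPrime q))) :
    ∀ k, c k ∈ IsLocalRing.maximalIdeal (Localization.AtPrime q) := by
  obtain ⟨u, hu⟩ := IsLocalization.exist_integer_multiples q.primeCompl Finset.univ c
  have hx : ∀ k, ∃ x : T, algebraMap T (Localization.AtPrime q) x = (u : T) • c k :=
    fun k => hu k (Finset.mem_univ k)
  choose x hx using hx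
  have huu : IsUnit (algebraMap T (Localization.AtPrime q) (u : T)) :=
    IsLocalization.map_units _ u
  have h1 : algebraMap T (Localization.AtPrime q) (∑ k, x k * t k) ∈
      (q * J).map (algebraMap T (Localization.AtPrime q)) := by
    rw [Ideal.map_mul, Localization.AtPrime.map_eq_maximalIdeal, map_sum]
    have h2 : ∑ k, algebraMap T (Localization.AtPrime q) (x k * t k) =
        algebraMap T (Localization.AtPrime q) (u : T) *
          ∑ k, c k * algebraMap T (Localization.AtPrime q) (t k) := by
      rw [Finset.mul_sum]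
      refine Finset.sum_congr rfl fun k _ => ?_
      rw [map_mul, hx k, Algebra.smul_def]
      ring
    rw [h2]
    exact Ideal.mul_mem_left _ _ hc
  obtain ⟨v, hv, hvm⟩ :=
    (IsLocalization.algebraMap_mem_map_algebraMap_iff q.primeCompl _ _ _).1 h1
  have h3 := hind (fun k => v * x k) (by
    have : ∑ k, v * x k * t k = v * ∑ k, x k * t k := by
      rw [Finset.mul_sum]
      exact Finset.sum_congr rfl fun k _ => by ring
    rw [this]
    exact hvm)
  intro k
  have hxk : x k ∈ q := ((Ideal.IsPrime.mem_or_mem inferInstance (h3 k)).resolve_left hv)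
  have h4 : algebraMap T (Localization.AtPrime q) (x k) ∈
      IsLocalRing.maximalIdeal (Localization.AtPrime q) := by
    rw [← Localization.AtPrime.map_eq_maximalIdeal]
    exact Ideal.mem_map_of_mem _ hxk
  rw [hx k, Algebra.smul_def] at h4
  exact (Ideal.unit_mul_mem_iff_mem _ huu).1 h4

/-- **Cancellation**: if `J` is Koszul-regular and contains a Koszul-regular sequence `t` which is
part of a minimal system of generators at every prime containing `J`, then the image of `J` in
the quotient by `t` is Koszul-regular. -/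
theorem isKoszulRegularIdeal_map_of_cancel (π : T →+* Tb) (hπ : Function.Surjective π)
    (J : Ideal T) (hJ : LCI.IsKoszulRegularIdeal J) (t : List T) (ht : ∀ x ∈ t, x ∈ J)
    (hker : RingHom.ker π = Ideal.ofList t) (htKR : LCI.IsKoszulRegularSeq T t)
    (hind : ∀ (q : Ideal T) [q.IsPrime], J ≤ q → ∀ c : Fin t.length → T,
      ∑ k, c k * t.get k ∈ q * J → ∀ k, c k ∈ q) :
    LCI.IsKoszulRegularIdeal (J.map π) := by
  apply isKoszulRegularIdeal_of_local
  intro pb _ hpb
  set q : Ideal T := pb.comap π with hq
  have hJq : J ≤ q := Ideal.map_le_iff_le_comap.1 hpb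
  obtain ⟨g, hg, a, haJ, haKR, haspan⟩ := exists_global_gens J hJ q hJq
  have haKRq := kr_atPrime_of_kr_away a g haKR q hg
  have haspanq : J.map (algebraMap T (Localization.AtPrime q)) =
      Ideal.ofList (a.map (algebraMap T (Localization.AtPrime q))) :=
    map_eq_ofList_of_isUnit J a g haspan _ (IsLocalization.map_units _ (⟨g, hg⟩ : q.primeCompl))
  obtain ⟨ρ, hρa, hlen, hρspan⟩ := exists_exchange_list'
    (J.map (algebraMap T (Localization.AtPrime q))) t.length
    (fun k => algebraMap T (Localization.AtPrime q) (t.get k))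
    (a.map (algebraMap T (Localization.AtPrime q))) haspanq.symm
    (fun k => Ideal.mem_map_of_mem _ (ht _ (List.get_mem t k)))
    (indep_atPrime J q t.length t.get (hind q hJq))
  obtain ⟨σ, hσρ, hσa⟩ := exists_preimage_list _ a ρ hρa
  have htmap : List.ofFn (fun k => algebraMap T (Localization.AtPrime q) (t.get k)) =
      t.map (algebraMap T (Localization.AtPrime q)) := by
    conv_rhs => rw [← List.ofFn_get t, List.map_ofFn]
    rfl
  have hdJ : ∀ x ∈ σ ++ t, x ∈ J := by
    intro x hx
    rcases List.mem_append.1 hx with h | h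
    · exact haJ x (hσa x h)
    · exact ht x h
  have hdspanq : J.map (algebraMap T (Localization.AtPrime q)) =
      Ideal.ofList ((σ ++ t).map (algebraMap T (Localization.AtPrime q))) := by
    rw [List.map_append, hσρ, ← htmap]
    exact hρspan.symm
  have hne : Ideal.ofList (a.map (algebraMap T (Localization.AtPrime q))) ≠ ⊤ := by
    rw [← haspanq]
    intro htop
    have h1 : J.map (algebraMap T (Localization.AtPrime q)) ≤
        IsLocalRing.maximalIdeal (Localization.AtPrime q) := by
      rw [← Localization.AtPrime.map_eq_maximalIdeal]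
      exact Ideal.map_mono hJq
    rw [htop] at h1
    exact (IsLocalRing.maximalIdeal.isMaximal _).ne_top (top_le_iff.1 h1)
  have hdlen : (σ ++ t).length = a.length := by
    apply le_antisymm
    · have : ρ.length = σ.length := by rw [← hσρ, List.length_map]
      rw [List.length_append, ← this]
      simpa using hlen
    · have := length_le_of_isKoszulRegularSeq _
        ((σ ++ t).map (algebraMap T (Localization.AtPrime q))) haKRq hne
        (hdspanq.symm.trans haspanq)
      simpa using this
  obtain ⟨h0, hh0, hgen⟩ := exists_mul_mem_of_atPrime J (fg_of_koszulRegularIdeal J hJ)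
    (σ ++ t) q (le_of_eq hdspanq)
  have hG' : g * h0 ∉ q := fun h => (Ideal.IsPrime.mem_or_mem inferInstance h).elim hg hh0
  have hdKR : LCI.IsKoszulRegularSeq (Localization.Away (g * h0))
      ((σ ++ t).map (algebraMap T (Localization.Away (g * h0)))) := by
    apply kr_away_of_forall_atPrime
    intro q' _ hq'
    have hg' : g ∉ q' := fun h => hq' (Ideal.mul_mem_right _ _ h)
    have hh' : h0 ∉ q' := fun h => hq' (Ideal.mul_mem_left _ _ h)
    have h1 := kr_atPrime_of_kr_away a g haKR q' hg'
    have h2 : J.map (algebraMap T (Localization.AtPrime q')) =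
        Ideal.ofList (a.map (algebraMap T (Localization.AtPrime q'))) :=
      map_eq_ofList_of_isUnit J a g haspan _
        (IsLocalization.map_units _ (⟨g, hg'⟩ : q'.primeCompl))
    have h3 : J.map (algebraMap T (Localization.AtPrime q')) =
        Ideal.ofList ((σ ++ t).map (algebraMap T (Localization.AtPrime q'))) :=
      map_eq_ofList_of_mul_mem J _ hdJ h0 hgen _
        (IsLocalization.map_units _ (⟨h0, hh'⟩ : q'.primeCompl))
    exact isKoszulRegularSeq_of_length_eq _ _ h1 (by
      rw [List.length_map, List.length_map, hdlen]) (h3.symm.trans h2)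
  have hdspan : J.map (algebraMap T (Localization.Away (g * h0))) =
      Ideal.ofList ((σ ++ t).map (algebraMap T (Localization.Away (g * h0)))) :=
    map_eq_ofList_of_mul_mem J _ hdJ h0 hgen _ (isUnit_algebraMap_away_mul_right g h0)
  have hkerG : (RingHom.ker π).map (algebraMap T (Localization.Away (g * h0))) =
      Ideal.ofList (t.map (algebraMap T (Localization.Away (g * h0)))) := by
    rw [hker, Ideal.map_ofList]
  have htKRG : LCI.IsKoszulRegularSeq (Localization.Away (g * h0))
      (t.map (algebraMap T (Localization.Away (g * h0)))) :=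
    Groth.Agent.Lib.Helper5.KosBC.isKoszulRegularSeq_map _
      ((RingHom.flat_algebraMap_iff).2 (IsLocalization.flat _ (Submonoid.powers (g * h0)))) t htKR
  exact ⟨π (g * h0), fun h => hG' h, σ.map π,
    (kr_transfer (g * h0) hπ t σ hkerG htKRG).1 hdKR,
    span_transfer_down (g * h0) hπ J t σ hkerG hdspan⟩

end Groth.Agent.Lib.Helper5.Lci
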