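import Mathlib
import Groth.Prelude.Def_RegImm
import Groth.Agent.Lib.Helper5.KosComp

/-!
# Koszul-regular immersions: shrinking witnesses and composition
-/

set_option autoImplicit false
universe u

open CategoryTheory CategoryTheory.Limits AlgebraicGeometry

namespace Groth.Agent.Lib.Helper5.RegImmA


variable {X Z : Scheme.{u}} (i : Z ⟶ X)

theorem isClosedImmersion_restrict_of_le {U U' : X.Opens} (h : U' ≤ U)
    [IsClosedImmersion (i ∣_ U)] : IsClosedImmersion (i ∣_ U') := by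
  have h1 : IsClosedImmersion (i ∣_ U ∣_ (U.ι ⁻¹ᵁ U')) := inferInstance
  have h2 : IsClosedImmersion (i ∣_ U.ι ''ᵁ (U.ι ⁻¹ᵁ U')) :=
    ((MorphismProperty.arrow_mk_iso_iff @IsClosedImmersion
      (morphismRestrictRestrict i U (U.ι ⁻¹ᵁ U')))).mp h1
  have himg : U.ι ''ᵁ (U.ι ⁻¹ᵁ U') = U' := by
    rw [Scheme.Hom.image_preimage_eq_opensRange_inf, Scheme.Opens.opensRange_ι]
    exact inf_eq_right.mpr h
  have hW : ∀ W : X.Opens, U.ι ''ᵁ (U.ι ⁻¹ᵁ U') = W → IsClosedImmersion (i ∣_ W) := by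
    rintro _ rfl
    exact h2
  exact hW _ himg

theorem flat_res {U U' : X.Opens} (hU : IsAffineOpen U) (hU' : IsAffineOpen U') (h : U' ≤ U) :
    (X.presheaf.map (homOfLE h).op).hom.Flat := by
  have := HasRingHomProperty.appLE (P := @Flat) (𝟙 X) inferInstance ⟨U, hU⟩ ⟨U', hU'⟩ h
  have e : (𝟙 X : X ⟶ X).appLE U U' h = X.presheaf.map (homOfLE h).op := by
    unfold Scheme.Hom.appLE
    rw [Scheme.Hom.id_app]
    exact Category.id_comp _
  rwa [e] at this




theorem ker_morphismRestrict_app (U : X.Opens) (V : U.toScheme.Opens) :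
    RingHom.ker ((i ∣_ U).app V).hom = RingHom.ker (i.app (U.ι ''ᵁ V)).hom := by
  ext x
  have hx : ((i ∣_ U).app V).hom x =
      (Z.presheaf.map (eqToHom (image_morphismRestrict_preimage i U V)).op).hom
        ((i.app (U.ι ''ᵁ V)).hom x) :=
    ConcreteCategory.congr_hom (morphismRestrict_app i U V) x
  have hinj : Function.Injective
      (Z.presheaf.map (eqToHom (image_morphismRestrict_preimage i U V)).op).hom :=
    (ConcreteCategory.bijective_of_isIso
      (Z.presheaf.map (eqToHom (image_morphismRestrict_preimage i U V)).op)).1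
  constructor
  · intro h
    have h0 : ((i ∣_ U).app V).hom x = 0 := h
    rw [hx] at h0
    exact hinj (h0.trans (map_zero _).symm)
  · intro h
    have h0 : (i.app (U.ι ''ᵁ V)).hom x = 0 := h
    change ((i ∣_ U).app V).hom x = 0
    rw [hx, h0]
    exact map_zero _

theorem ker_map_aux (W₁ W₂ W₁' W₂' : X.Opens) (e₁ : W₁ = W₁') (e₂ : W₂ = W₂') (h : W₂ ≤ W₁)
    (h' : W₂' ≤ W₁')
    (H : (RingHom.ker (i.app W₁).hom).map (X.presheaf.map (homOfLE h).op).hom =
      RingHom.ker (i.app W₂).hom) :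
    (RingHom.ker (i.app W₁').hom).map (X.presheaf.map (homOfLE h').op).hom =
      RingHom.ker (i.app W₂').hom := by
  subst e₁ e₂
  exact H

theorem ker_map_res {U U' : X.Opens} (hU : IsAffineOpen U) (hU' : IsAffineOpen U') (h : U' ≤ U)
    [IsClosedImmersion (i ∣_ U)] :
    (RingHom.ker (i.app U).hom).map (X.presheaf.map (homOfLE h).op).hom =
      RingHom.ker (i.app U').hom := by
  have himg : U.ι ''ᵁ (U.ι ⁻¹ᵁ U') = U' := by
    rw [Scheme.Hom.image_preimage_eq_opensRange_inf, Scheme.Opens.opensRange_ι]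
    exact inf_eq_right.mpr h
  have htop : U.ι ''ᵁ (⊤ : U.toScheme.Opens) = U := by
    rw [Scheme.Hom.image_top_eq_opensRange, Scheme.Opens.opensRange_ι]
  have hV : IsAffineOpen (U.ι ⁻¹ᵁ U') := by
    rw [← Scheme.Hom.isAffineOpen_iff_of_isOpenImmersion U.ι, himg]
    exact hU'
  have hT : IsAffineOpen (⊤ : U.toScheme.Opens) := by
    have : IsAffine U.toScheme := hU
    exact isAffineOpen_top _
  have key := (i ∣_ U).ker.map_ideal (U := ⟨U.ι ⁻¹ᵁ U', hV⟩) (V := ⟨⊤, hT⟩)
    (show (⟨U.ι ⁻¹ᵁ U', hV⟩ : U.toScheme.affineOpens) ≤ ⟨⊤, hT⟩ from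
    (le_top : U.ι ⁻¹ᵁ U' ≤ (⊤ : U.toScheme.Opens)))
  rw [Scheme.Hom.ker_apply, Scheme.Hom.ker_apply] at key
  have key' : (RingHom.ker (i.app (U.ι ''ᵁ (⊤ : U.toScheme.Opens))).hom).map
      (X.presheaf.map (homOfLE (show U.ι ''ᵁ (U.ι ⁻¹ᵁ U') ≤ U.ι ''ᵁ (⊤ : U.toScheme.Opens) from
        U.ι.image_mono le_top)).op).hom =
      RingHom.ker (i.app (U.ι ''ᵁ (U.ι ⁻¹ᵁ U'))).hom := by
    rw [← ker_morphismRestrict_app, ← ker_morphismRestrict_app]
    exact key
  exact ker_map_aux i _ _ _ _ htop himg _ h key'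




theorem surj_aux (W W' : X.Opens) (e : W = W') (H : Function.Surjective (i.app W).hom) :
    Function.Surjective (i.app W').hom := by
  subst e
  exact H

theorem app_surjective_of_restrict {U : X.Opens} (hU : IsAffineOpen U)
    [IsClosedImmersion (i ∣_ U)] : Function.Surjective (i.app U).hom := by
  have htop : U.ι ''ᵁ (⊤ : U.toScheme.Opens) = U := by
    rw [Scheme.Hom.image_top_eq_opensRange, Scheme.Opens.opensRange_ι]
  have hT : IsAffineOpen (⊤ : U.toScheme.Opens) := by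
    have : IsAffine U.toScheme := hU
    exact isAffineOpen_top _
  have h1 : Function.Surjective ((i ∣_ U).app ⊤).hom := (i ∣_ U).app_surjective ⊤ hT
  have h2 : Function.Surjective (i.app (U.ι ''ᵁ (⊤ : U.toScheme.Opens))).hom := by
    intro y
    have hbij := ConcreteCategory.bijective_of_isIso
      (Z.presheaf.map (eqToHom (image_morphismRestrict_preimage i U ⊤)).op)
    obtain ⟨x, hx⟩ := h1 ((Z.presheaf.map (eqToHom (image_morphismRestrict_preimage i U ⊤)).op).hom y)
    refine ⟨x, ?_⟩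
    have hx' : ((i ∣_ U).app ⊤).hom x =
        (Z.presheaf.map (eqToHom (image_morphismRestrict_preimage i U ⊤)).op).hom
          ((i.app (U.ι ''ᵁ ⊤)).hom x) :=
      ConcreteCategory.congr_hom (morphismRestrict_app i U ⊤) x
    exact hbij.1 (hx'.symm.trans hx)
  exact surj_aux i _ _ htop h2

theorem isAffineOpen_preimage_of_restrict {U : X.Opens} (hU : IsAffineOpen U)
    [IsClosedImmersion (i ∣_ U)] : IsAffineOpen (i ⁻¹ᵁ U) := by
  have : IsAffine U.toScheme := hU
  exact isAffine_of_isAffineHom (i ∣_ U)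



/-- composition of two quotients by Koszul-regular sequences -/
theorem exists_koszul_comp {A B C : Type u} [CommRing A] [CommRing B] [CommRing C]
    (φ : A →+* B) (hφ : Function.Surjective φ) (ψ : B →+* C)
    (fs : List A) (hfs : LCI.IsKoszulRegularSeq A fs) (hkf : RingHom.ker φ = Ideal.ofList fs)
    (gs : List B) (hgs : LCI.IsKoszulRegularSeq B gs) (hkg : RingHom.ker ψ = Ideal.ofList gs) :
    ∃ rs : List A, rs.length = gs.length + fs.length ∧ LCI.IsKoszulRegularSeq A rs ∧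
      RingHom.ker (ψ.comp φ) = Ideal.ofList rs := by
  let gt : List A := gs.map (Function.surjInv hφ)
  have hgt : gt.map φ = gs := by
    rw [List.map_map]
    conv_rhs => rw [← List.map_id gs]
    apply List.map_congr_left
    intro b _
    exact Function.surjInv_eq hφ b
  refine ⟨gt ++ fs, by simp [gt], ?_, ?_⟩
  · -- Koszul-regularity
    let e0 : (A ⧸ RingHom.ker φ) ≃+* B := RingHom.quotientKerEquivOfSurjective hφ
    let e1 : (A ⧸ Ideal.ofList fs) ≃+* (A ⧸ RingHom.ker φ) := Ideal.quotEquivOfEq hkf.symm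
    let e : (A ⧸ Ideal.ofList fs) ≃+* B := e1.trans e0
    have he : ∀ a : A, e (Ideal.Quotient.mk (Ideal.ofList fs) a) = φ a := fun a => rfl
    have hff : (e : (A ⧸ Ideal.ofList fs) →+* B).FaithfullyFlat :=
      RingHom.FaithfullyFlat.of_bijective e.bijective
    have hmap : (gt.map (Ideal.Quotient.mk (Ideal.ofList fs))).map (e : (A ⧸ Ideal.ofList fs) →+* B)
        = gs := by
      rw [List.map_map, ← hgt]
      apply List.map_congr_left
      intro a _
      exact he a
    have hq : LCI.IsKoszulRegularSeq (A ⧸ Ideal.ofList fs)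
        (gt.map (Ideal.Quotient.mk (Ideal.ofList fs))) :=
      Groth.Agent.Lib.Helper5.KosBC.isKoszulRegularSeq_of_map _ hff _ (hmap ▸ hgs)
    exact Groth.Agent.Lib.Helper5.KosComp.isKoszulRegularSeq_append fs gt hfs hq
  · rw [← RingHom.comap_ker, hkg, ← hgt, ← Ideal.map_ofList,
      Ideal.comap_map_of_surjective φ hφ, Ideal.ofList_append]
    congr 1


section Shrink

variable {X Z : Scheme.{u}} (i : Z ⟶ X)

/-- a Koszul-regular witness on an affine open restricts to any smaller affine open -/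
theorem shrink {U U' : X.Opens} (hU : IsAffineOpen U) (hU' : IsAffineOpen U') (h : U' ≤ U)
    [IsClosedImmersion (i ∣_ U)] (rs : List Γ(X, U)) (hrs : LCI.IsKoszulRegularSeq Γ(X, U) rs)
    (hker : RingHom.ker (i.app U).hom = Ideal.ofList rs) :
    IsClosedImmersion (i ∣_ U') ∧
      LCI.IsKoszulRegularSeq Γ(X, U') (rs.map (X.presheaf.map (homOfLE h).op).hom) ∧
      RingHom.ker (i.app U').hom = Ideal.ofList (rs.map (X.presheaf.map (homOfLE h).op).hom) := by
  refine ⟨isClosedImmersion_restrict_of_le i h, ?_, ?_⟩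
  · exact Groth.Agent.Lib.Helper5.KosBC.isKoszulRegularSeq_map _ (flat_res hU hU' h) rs hrs
  · rw [← ker_map_res i hU hU' h, hker, Ideal.map_ofList]

end Shrink

section Comp

variable {X Y Z : Scheme.{u}} (i : Y ⟶ X) (j : Z ⟶ Y)

theorem comp_at [IsImmersion i] (z : Z)
    (U : X.affineOpens) (hxU : i (j z) ∈ U.1) (hUc : IsClosedImmersion (i ∣_ U.1))
    (fs : List Γ(X, U.1)) (hfs : LCI.IsKoszulRegularSeq Γ(X, U.1) fs)
    (hkf : RingHom.ker (i.app U.1).hom = Ideal.ofList fs)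
    (V : Y.affineOpens) (hyV : j z ∈ V.1) (hVc : IsClosedImmersion (j ∣_ V.1))
    (gs : List Γ(Y, V.1)) (hgs : LCI.IsKoszulRegularSeq Γ(Y, V.1) gs)
    (hkg : RingHom.ker (j.app V.1).hom = Ideal.ofList gs) :
    ∃ U' : X.affineOpens, (j ≫ i) z ∈ U'.1 ∧ IsClosedImmersion ((j ≫ i) ∣_ U'.1) ∧
      ∃ rs : List Γ(X, U'.1), rs.length = gs.length + fs.length ∧
        LCI.IsKoszulRegularSeq Γ(X, U'.1) rs ∧
        RingHom.ker ((j ≫ i).app U'.1).hom = Ideal.ofList rs := by
  obtain ⟨O, hO, hOV⟩ := i.isEmbedding.isInducing.isOpen_iff.mp V.1.isOpen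
  have hxO : i (j z) ∈ O := by
    have : j z ∈ i ⁻¹' O := by rw [hOV]; exact hyV
    exact this
  obtain ⟨a, ha, hxa⟩ := U.2.exists_basicOpen_le (V := ⟨O, hO⟩) ⟨i (j z), hxO⟩ hxU
  have hU' : IsAffineOpen (X.basicOpen a) := U.2.basicOpen a
  have hle : X.basicOpen a ≤ U.1 := X.basicOpen_le a
  have hW'V : i ⁻¹ᵁ (X.basicOpen a) ≤ V.1 := by
    intro y hy
    have h1 : i y ∈ O := ha hy
    have h2 : y ∈ i ⁻¹' O := h1
    rw [hOV] at h2
    exact h2
  obtain ⟨hc1, hf1, hk1⟩ := shrink i U.2 hU' hle fs hfs hkf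
  have hW' : IsAffineOpen (i ⁻¹ᵁ (X.basicOpen a)) := isAffineOpen_preimage_of_restrict i hU'
  obtain ⟨hc2, hg2, hk2⟩ := shrink j V.2 hW' hW'V gs hgs hkg
  have hsurj := app_surjective_of_restrict i hU'
  obtain ⟨rs, hlen, hreg, hker⟩ := exists_koszul_comp (i.app (X.basicOpen a)).hom hsurj
    (j.app (i ⁻¹ᵁ (X.basicOpen a))).hom _ hf1 hk1 _ hg2 hk2
  have hcc : IsClosedImmersion ((j ≫ i) ∣_ X.basicOpen a) := by
    rw [morphismRestrict_comp]
    exact @IsClosedImmersion.comp _ _ _ _ _ hc2 hc1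
  have hkk : RingHom.ker ((j ≫ i).app (X.basicOpen a)).hom = Ideal.ofList rs := by
    rw [← hker, Scheme.Hom.comp_app]
    rfl
  have hll : rs.length = gs.length + fs.length := by simpa using hlen
  exact ⟨⟨X.basicOpen a, hU'⟩, hxa, hcc, rs, hll, hreg, hkk⟩

end Comp

end Groth.Agent.Lib.Helper5.RegImmA
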