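import Mathlib
import Groth.Prelude.Def_RegImm
import Groth.Agent.Lib.Helper5.RegImmA
import Groth.Agent.Lib.Helper2.KosTor2

/-!
# Regular sequences are Koszul-regular; Koszul-regular immersions and isomorphisms
-/

set_option autoImplicit false
universe u

open CategoryTheory CategoryTheory.Limits AlgebraicGeometry

namespace Groth.Agent.Lib.Helper5.RegImmB

theorem isKoszulRegularSeq_of_isWeaklyRegular {A : Type u} [CommRing A] (l : List A)
    (h : RingTheory.Sequence.IsWeaklyRegular A l) : LCI.IsKoszulRegularSeq A l := by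
  intro n hn
  rcases lt_or_gt_of_ne hn with h1 | h1
  · have := Groth.Agent.Lib.Helper2.KosTor2.exactAt_koszul l h n h1
    exact this.isZero_homology
  · have hz : (Koszul.koszul A l).ExactAt n :=
      ShortComplex.exact_of_isZero_X₂ _ (Groth.Agent.Lib.Helper2.KosTor2.isZero_koszul_X l n h1)
    exact hz.isZero_homology

variable {X Z Z' : Scheme.{u}}

theorem koszul_of_regular (i : Z ⟶ X) (hi : RegImm.IsRegularImmersion .regular i) :
    RegImm.IsRegularImmersion .koszul i := by
  obtain ⟨h1, h2⟩ := hi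
  refine ⟨h1, fun z => ?_⟩
  obtain ⟨U, hzU, hc, rs, hrs, hker⟩ := h2 z
  exact ⟨U, hzU, hc, rs,
    isKoszulRegularSeq_of_isWeaklyRegular rs (hrs : RingTheory.Sequence.IsRegular _ rs).toIsWeaklyRegular,
    hker⟩

theorem koszul_iso_comp (e : Z' ⟶ Z) [IsIso e] (i : Z ⟶ X)
    (hi : RegImm.IsRegularImmersion .koszul i) : RegImm.IsRegularImmersion .koszul (e ≫ i) := by
  obtain ⟨h1, h2⟩ := hi
  refine ⟨inferInstance, fun z => ?_⟩
  obtain ⟨U, hzU, hc, rs, hrs, hker⟩ := h2 (e z)
  refine ⟨U, hzU, ?_, rs, hrs, ?_⟩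
  · rw [morphismRestrict_comp]
    have he : IsClosedImmersion (e ∣_ i ⁻¹ᵁ U.1) := inferInstance
    exact @IsClosedImmersion.comp _ _ _ _ _ he hc
  · have hinj : Function.Injective (e.app (i ⁻¹ᵁ U.1)).hom :=
      (ConcreteCategory.bijective_of_isIso (e.app (i ⁻¹ᵁ U.1))).1
    ext x
    rw [← hker]
    have hx : ((e ≫ i).app U.1).hom x = (e.app (i ⁻¹ᵁ U.1)).hom ((i.app U.1).hom x) :=
      ConcreteCategory.congr_hom (Scheme.Hom.comp_app e i U.1) x
    constructor
    · intro h
      have h0 : ((e ≫ i).app U.1).hom x = 0 := h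
      rw [hx] at h0
      exact hinj (h0.trans (map_zero _).symm)
    · intro h
      have h0 : (i.app U.1).hom x = 0 := h
      change ((e ≫ i).app U.1).hom x = 0
      rw [hx, h0]
      exact map_zero _

end Groth.Agent.Lib.Helper5.RegImmB
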