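import Mathlib
import Groth.Agent.Lib.Helper5.LciD
import Groth.Agent.Lib.Helper5.RegImmB
import Groth.Agent.Lib.Helper21.KosPoly

/-!
# Polynomial rings: variables minus constants
-/

set_option autoImplicit false
universe u

namespace Groth.Agent.Lib.Helper5.Lci

open MvPolynomial Groth.Agent.Lib.Helper5.KosDesc

variable {R : Type u} [CommRing R]

theorem isWeaklyRegular_X (n : ℕ) :
    RingTheory.Sequence.IsWeaklyRegular (MvPolynomial (Fin n) R)
      (List.ofFn fun j : Fin n => (X j : MvPolynomial (Fin n) R)) := by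
  constructor
  intro i hi
  rw [isSMulRegular_quotient_iff_mem_of_smul_mem]
  have hI : (Ideal.ofList ((List.ofFn (fun j : Fin n =>
      (X j : MvPolynomial (Fin n) R))).take i) •
        (⊤ : Submodule (MvPolynomial (Fin n) R) (MvPolynomial (Fin n) R))) =
      Ideal.span ((fun j : Fin n => (X j : MvPolynomial (Fin n) R) ^ 1) ''
        {j | j.val < i}) := by
    rw [Ideal.smul_eq_mul, Ideal.mul_top, Ideal.ofList]
    have := Groth.Agent.Lib.Helper21.KosPoly.setOf_mem_take_ofFn (fun j : Fin n =>
      (X j : MvPolynomial (Fin n) R)) i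
    rw [this]
    simp only [pow_one]
  rw [hI]
  intro p hp
  rw [List.getElem_ofFn, smul_eq_mul] at hp
  have hi' : i < n := by
    rw [List.length_ofFn] at hi
    exact hi
  refine Groth.Agent.Lib.Helper21.KosPoly.mem_of_X_pow_mul_mem {j : Fin n | j.val < i} 1
    ⟨i, hi'⟩ ?_ p (by rwa [pow_one])
  intro h
  exact lt_irrefl i h

/-- translation of the variables -/
noncomputable def transl {σ : Type*} (f : σ → R) : MvPolynomial σ R ≃ₐ[R] MvPolynomial σ R :=
  AlgEquiv.ofAlgHom (aeval fun i => X i - C (f i)) (aeval fun i => X i + C (f i))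
    (by ext i; simp) (by ext i; simp)

@[simp]
theorem transl_X {σ : Type*} (f : σ → R) (i : σ) : transl f (X i) = X i - C (f i) := by
  simp [transl]

theorem kr_X_sub_C {n : ℕ} (f : Fin n → R) :
    LCI.IsKoszulRegularSeq (MvPolynomial (Fin n) R)
      (List.ofFn fun i : Fin n => (X i - C (f i) : MvPolynomial (Fin n) R)) := by
  have h1 := Groth.Agent.Lib.Helper5.RegImmB.isKoszulRegularSeq_of_isWeaklyRegular _
    (isWeaklyRegular_X (R := R) n)
  have h2 := isKoszulRegularSeq_ringEquiv (transl f).toRingEquiv _ h1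
  rw [List.map_ofFn] at h2
  convert h2 using 2
  funext i
  simp

theorem sub_C_aeval_mem {σ : Type*} (f : σ → R) (p : MvPolynomial σ R) :
    p - C (aeval f p) ∈ Ideal.span (Set.range fun i => (X i - C (f i) : MvPolynomial σ R)) := by
  induction p using MvPolynomial.induction_on with
  | C a => simp
  | add p q hp hq =>
    have : p + q - C (aeval f (p + q)) = (p - C (aeval f p)) + (q - C (aeval f q)) := by
      rw [map_add, map_add]; ring
    rw [this]
    exact Ideal.add_mem _ hp hq
  | mul_X p i hp =>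
    have : p * X i - C (aeval f (p * X i)) =
        (p - C (aeval f p)) * X i + C (aeval f p) * (X i - C (f i)) := by
      rw [map_mul, aeval_X, map_mul]; ring
    rw [this]
    exact Ideal.add_mem _ (Ideal.mul_mem_right _ _ hp)
      (Ideal.mul_mem_left _ _ (Ideal.subset_span ⟨i, rfl⟩))

theorem ker_aeval_eq_span {σ : Type*} (f : σ → R) :
    RingHom.ker (aeval f : MvPolynomial σ R →ₐ[R] R).toRingHom =
      Ideal.span (Set.range fun i => (X i - C (f i) : MvPolynomial σ R)) := by
  apply le_antisymm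
  · intro p hp
    have h0 : aeval f p = 0 := hp
    have := sub_C_aeval_mem f p
    rwa [h0, map_zero, sub_zero] at this
  · rw [Ideal.span_le]
    rintro _ ⟨i, rfl⟩
    change aeval f (X i - C (f i)) = 0
    simp

theorem ker_aeval_eq_ofList {n : ℕ} (f : Fin n → R) :
    RingHom.ker (aeval f : MvPolynomial (Fin n) R →ₐ[R] R).toRingHom =
      Ideal.ofList (List.ofFn fun i : Fin n => (X i - C (f i) : MvPolynomial (Fin n) R)) := by
  rw [ker_aeval_eq_span, ofList_ofFn]

theorem derivation_mem_of_mem_mul {A : Type u} [CommRing A] (D : Derivation ℤ A A)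
    (q J : Ideal A) (hJq : J ≤ q) (z : A) (hz : z ∈ q * J) : D z ∈ q := by
  refine Submodule.smul_induction_on hz ?_ ?_
  · intro u hu v hv
    rw [smul_eq_mul, D.leibniz]
    refine Ideal.add_mem _ ?_ ?_
    · rw [smul_eq_mul]; exact Ideal.mul_mem_right _ _ hu
    · rw [smul_eq_mul]; exact Ideal.mul_mem_right _ _ (hJq hv)
  · intro x y hx hy
    rw [map_add]
    exact Ideal.add_mem _ hx hy

theorem indep_X_sub_C {n : ℕ} (f : Fin n → R) (q J : Ideal (MvPolynomial (Fin n) R))
    (hJq : J ≤ q) (hJ : ∀ i, (X i - C (f i) : MvPolynomial (Fin n) R) ∈ J)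
    (c : Fin n → MvPolynomial (Fin n) R)
    (hc : ∑ k, c k * (X k - C (f k)) ∈ q * J) : ∀ k, c k ∈ q := by
  classical
  intro i
  let D : Derivation ℤ (MvPolynomial (Fin n) R) (MvPolynomial (Fin n) R) :=
    (pderiv i).restrictScalars ℤ
  have h1 : pderiv i (∑ k, c k * (X k - C (f k))) ∈ q :=
    derivation_mem_of_mem_mul D q J hJq _ hc
  have h2 : pderiv i (∑ k, c k * (X k - C (f k))) =
      c i + ∑ k, (X k - C (f k)) * pderiv i (c k) := by
    rw [map_sum]
    simp only [Derivation.leibniz, map_sub, pderiv_X, pderiv_C, sub_zero, smul_eq_mul]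
    rw [Finset.sum_add_distrib]
    congr 1
    rw [Finset.sum_eq_single i]
    · simp
    · intro k _ hk
      simp [hk]
    · simp
  rw [h2] at h1
  have h3 : ∑ k, (X k - C (f k)) * pderiv i (c k) ∈ q :=
    Ideal.sum_mem _ fun k _ => Ideal.mul_mem_right _ _ (hJq (hJ k))
  exact (Ideal.add_mem_iff_left _ h3).1 h1

end Groth.Agent.Lib.Helper5.Lci
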