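import Mathlib
import Groth.Agent.Lib.Helper5.LciE

/-!
# A section of a standard smooth ring map is locally cut out by a regular sequence
-/

set_option autoImplicit false
universe u

namespace Groth.Agent.Lib.Helper5.SecReg

open TensorProduct MvPolynomial Groth.Agent.Lib.Helper5.Lci Groth.Agent.Lib.Helper5.KosDesc

/-- the kernel of a retraction of an etale algebra is generated by an idempotent -/
theorem ker_eq_span_idempotent {R E T : Type u} [CommRing R] [CommRing E] [CommRing T]
    [Algebra R E] [Algebra.Etale R E]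
    (τ : E →+* T) (hτ : Function.Surjective τ)
    (hb : Function.Bijective (τ.comp (algebraMap R E))) :
    ∃ e : E, IsIdempotentElem e ∧ RingHom.ker τ = Ideal.span {e} := by
  let _ : Algebra R T := (τ.comp (algebraMap R E)).toAlgebra
  let _ : Algebra E T := τ.toAlgebra
  have : IsScalarTower R E T := IsScalarTower.of_algebraMap_eq (fun x => rfl)
  let eq : R ≃ₐ[R] T := AlgEquiv.ofBijective (Algebra.ofId R T) hb
  have : Algebra.FormallySmooth R T := Algebra.FormallySmooth.of_equiv eq
  have : Algebra.FinitePresentation R T := Algebra.FinitePresentation.equiv eq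
  have hsurj : Function.Surjective (algebraMap E T) := hτ
  have h1 : Function.Injective (KaehlerDifferential.kerCotangentToTensor R E T) :=
    (Algebra.FormallySmooth.kerCotangentToTensor_injective_iff hsurj).2
      Algebra.FormallySmooth.subsingleton_h1Cotangent
  have : Subsingleton (Ω[E⁄R]) := inferInstance
  have : Subsingleton (T ⊗[E] Ω[E⁄R]) := inferInstance
  have h2 : Subsingleton (RingHom.ker (algebraMap E T)).Cotangent := h1.subsingleton
  rw [Ideal.cotangent_subsingleton_iff] at h2
  have hfg : (RingHom.ker (algebraMap E T)).FG :=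
    Algebra.FinitePresentation.ker_fG_of_surjective (IsScalarTower.toAlgHom R E T) hsurj
  exact (Ideal.isIdempotentElem_iff_of_fg _ hfg).1 h2

theorem isWeaklyRegular_X_sub_C {C : Type u} [CommRing C] {n : ℕ} (a : Fin n → C) :
    RingTheory.Sequence.IsWeaklyRegular (MvPolynomial (Fin n) C)
      (List.ofFn fun i : Fin n => (X i - MvPolynomial.C (a i) : MvPolynomial (Fin n) C)) := by
  have h1 := isWeaklyRegular_X (R := C) n
  have h2 := (AddEquiv.isWeaklyRegular_congr (e := (transl a).toAddEquiv)
    (as := List.ofFn fun j : Fin n => (X j : MvPolynomial (Fin n) C))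
    (bs := (List.ofFn fun j : Fin n => (X j : MvPolynomial (Fin n) C)).map (transl a)) ?_).1 h1
  · rw [List.map_ofFn] at h2
    convert h2 using 2
    funext i
    simp
  · rw [List.forall₂_map_right_iff]
    apply List.forall₂_same.2
    intro r _ x
    change transl a (r * x) = transl a r * transl a x
    rw [map_mul]

/-- the coordinates centred at the section -/
noncomputable def secSeq {C D : Type u} [CommRing C] [CommRing D] {n : ℕ}
    (g : MvPolynomial (Fin n) C →+* D) (σ : D →+* C) : List D :=
  List.ofFn fun i : Fin n => g (X i - MvPolynomial.C (σ (g (X i))))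

theorem secReg {C D : Type u} [CommRing C] [CommRing D] (f : C →+* D) (n : ℕ)
    (g : MvPolynomial (Fin n) C →+* D) (hgC : g.comp MvPolynomial.C = f) (hg : g.Etale)
    (σ : D →+* C) (hσ : σ.comp f = RingHom.id C) :
    RingTheory.Sequence.IsWeaklyRegular D (secSeq g σ) ∧
    (∀ y ∈ secSeq g σ, y ∈ RingHom.ker σ) ∧
    ∃ e : D, e ∈ RingHom.ker σ ∧
      ∀ j ∈ RingHom.ker σ, (1 - e) * j ∈ Ideal.ofList (secSeq g σ) := by
  set P := MvPolynomial (Fin n) C with hP
  let a : Fin n → C := fun i => σ (g (X i))
  let α : P →+* C := (aeval a : P →ₐ[C] C).toRingHom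
  have hσg : σ.comp g = α := by
    apply MvPolynomial.ringHom_ext
    · intro c
      change σ (g (MvPolynomial.C c)) = aeval a (MvPolynomial.C c)
      rw [aeval_C]
      have h1 : g (MvPolynomial.C c) = f c := RingHom.congr_fun hgC c
      rw [h1]
      exact RingHom.congr_fun hσ c
    · intro i
      change σ (g (X i)) = aeval a (X i)
      rw [aeval_X]
  let I : Ideal P := RingHom.ker α
  have hI : I = Ideal.ofList (List.ofFn fun i : Fin n => (X i - MvPolynomial.C (a i) : P)) :=
    ker_aeval_eq_ofList a
  let _ : Algebra P D := g.toAlgebra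
  have hEt : Algebra.Etale P D := hg
  have hImap : I.map (algebraMap P D) = Ideal.ofList (secSeq g σ) := by
    rw [hI, Ideal.map_ofList, List.map_ofFn]
    rfl
  refine ⟨?_, ?_, ?_⟩
  · have h1 := (isWeaklyRegular_X_sub_C a).of_flat (S := D)
    rw [List.map_ofFn] at h1
    exact h1
  · intro y hy
    obtain ⟨i, rfl⟩ := (List.mem_ofFn' _ y).1 hy
    change σ (g (X i - MvPolynomial.C (σ (g (X i))))) = 0
    have h1 : σ (g (X i - MvPolynomial.C (σ (g (X i))))) = α (X i - MvPolynomial.C (a i)) :=
      RingHom.congr_fun hσg _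
    rw [h1]
    change aeval a (X i - MvPolynomial.C (a i)) = 0
    simp
  · let K : Ideal D := I.map (algebraMap P D)
    let eq : (D ⧸ K) ≃ₐ[P ⧸ I] (P ⧸ I) ⊗[P] D :=
      Algebra.TensorProduct.quotIdealMapEquivQuotTensor D I
    have hEtE : Algebra.Etale (P ⧸ I) (D ⧸ K) := by
      exact Algebra.Etale.of_equiv (A := (P ⧸ I) ⊗[P] D) (B := D ⧸ K) eq.symm
    have hKσ : K ≤ RingHom.ker σ := by
      rw [Ideal.map_le_iff_le_comap]
      intro p hp
      change σ (g p) = 0
      have h1 : σ (g p) = α p := RingHom.congr_fun hσg p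
      rw [h1]
      exact hp
    let τ : (D ⧸ K) →+* C := Ideal.Quotient.lift K σ (fun x hx => hKσ hx)
    have hτmk : ∀ d : D, τ (Ideal.Quotient.mk K d) = σ d := fun d => Ideal.Quotient.lift_mk K σ _
    have hτ : Function.Surjective τ := by
      intro c
      refine ⟨Ideal.Quotient.mk K (f c), ?_⟩
      rw [hτmk]
      exact RingHom.congr_fun hσ c
    have hcomp : ∀ p : P, τ (algebraMap (P ⧸ I) (D ⧸ K) (Ideal.Quotient.mk I p)) = α p := by
      intro p
      have h1 : algebraMap (P ⧸ I) (D ⧸ K) (Ideal.Quotient.mk I p) =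
          Ideal.Quotient.mk K (algebraMap P D p) := rfl
      rw [h1, hτmk]
      exact RingHom.congr_fun hσg p
    have hb : Function.Bijective (τ.comp (algebraMap (P ⧸ I) (D ⧸ K))) := by
      constructor
      · rw [injective_iff_map_eq_zero]
        intro x hx
        obtain ⟨p, rfl⟩ := Ideal.Quotient.mk_surjective x
        rw [RingHom.comp_apply, hcomp] at hx
        exact Ideal.Quotient.eq_zero_iff_mem.2 hx
      · intro c
        refine ⟨Ideal.Quotient.mk I (MvPolynomial.C c), ?_⟩
        rw [RingHom.comp_apply, hcomp]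
        change aeval a (MvPolynomial.C c) = c
        rw [aeval_C]
        rfl
    obtain ⟨ē, hē, hker⟩ := ker_eq_span_idempotent τ hτ hb
    obtain ⟨e, rfl⟩ := Ideal.Quotient.mk_surjective ē
    refine ⟨e, ?_, ?_⟩
    · have h1 : Ideal.Quotient.mk K e ∈ RingHom.ker τ := by
        rw [hker]
        exact Ideal.subset_span rfl
      rw [RingHom.mem_ker, hτmk] at h1
      exact h1
    · intro j hj
      have h1 : Ideal.Quotient.mk K j ∈ Ideal.span {Ideal.Quotient.mk K e} := by
        rw [← hker, RingHom.mem_ker, hτmk]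
        exact hj
      obtain ⟨t, ht⟩ := Ideal.mem_span_singleton'.1 h1
      rw [← hImap, ← Ideal.Quotient.eq_zero_iff_mem, map_mul, map_sub, map_one, ← ht]
      have h2 : Ideal.Quotient.mk K e * Ideal.Quotient.mk K e = Ideal.Quotient.mk K e := hē
      linear_combination (-t) * h2

theorem exists_regular_of_section {C D : Type u} [CommRing C] [CommRing D] (f : C →+* D)
    (hf : f.IsStandardSmooth) (σ : D →+* C) (hσ : σ.comp f = RingHom.id C)
    (q : Ideal D) [hq : q.IsPrime] (hle : RingHom.ker σ ≤ q) :
    ∃ g : D, g ∉ q ∧ ∃ rs : List D, ∀ (T : Type u) [CommRing T] [Algebra D T]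
      [IsLocalization.Away g T],
      RingTheory.Sequence.IsWeaklyRegular T (rs.map (algebraMap D T)) ∧
      (RingHom.ker σ).map (algebraMap D T) = Ideal.ofList (rs.map (algebraMap D T)) := by
  obtain ⟨n, g, hgC, hg⟩ := hf.exists_etale_mvPolynomial
  obtain ⟨hwr, hmem, e, he, hspan⟩ := secReg f n g hgC hg σ hσ
  refine ⟨1 - e, ?_, secSeq g σ, ?_⟩
  · intro h
    have h1 : (1 : D) ∈ q := by
      have : (1 : D) = (1 - e) + e := by ring
      rw [this]
      exact Ideal.add_mem _ h (hle he)
    exact hq.ne_top ((Ideal.eq_top_iff_one q).2 h1)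
  · intro T _ _ _
    refine ⟨hwr.of_isLocalization T (Submonoid.powers (1 - e)), ?_⟩
    rw [← Ideal.map_ofList]
    apply le_antisymm
    · rw [Ideal.map_le_iff_le_comap]
      intro j hj
      have h1 := Ideal.mem_map_of_mem (algebraMap D T) (hspan j hj)
      rw [map_mul] at h1
      have hu : IsUnit (algebraMap D T (1 - e)) := IsLocalization.Away.algebraMap_isUnit (1 - e)
      obtain ⟨u, hu'⟩ := hu
      have h2 : algebraMap D T j = ↑u⁻¹ * (algebraMap D T (1 - e) * algebraMap D T j) := by
        rw [← hu', ← mul_assoc, Units.inv_mul, one_mul]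
      change algebraMap D T j ∈ Ideal.map (algebraMap D T) (Ideal.ofList (secSeq g σ))
      rw [h2]
      exact Ideal.mul_mem_left _ _ h1
    · apply Ideal.map_mono
      unfold Ideal.ofList
      rw [Ideal.span_le]
      intro y hy
      exact hmem y hy

end Groth.Agent.Lib.Helper5.SecReg
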