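import Mathlib
import Groth.Agent.Lib.Helper5.RegImmA
import Groth.Prelude.Def_Mor2

set_option autoImplicit false
universe u

open CategoryTheory CategoryTheory.Limits AlgebraicGeometry RingTheory.Sequence

namespace Groth.Agent.Lib.Helper5.RegComp

theorem ofList_ne_top_of_isRegular {A : Type u} [CommRing A] {rs : List A} (h : IsRegular A rs) :
    Ideal.ofList rs ≠ ⊤ := by
  intro htop
  apply h.2
  rw [htop]
  simp

theorem isRegular_of_weaklyRegular_of_ne_top {A : Type u} [CommRing A] {rs : List A}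
    (h : IsWeaklyRegular A rs) (hne : Ideal.ofList rs ≠ ⊤) : IsRegular A rs := by
  refine ⟨h, fun htop => hne ?_⟩
  rw [smul_eq_mul, Ideal.mul_top] at htop
  exact htop.symm

/-- composition of two quotients by regular sequences -/
theorem exists_regular_comp {A B C : Type u} [CommRing A] [CommRing B] [CommRing C]
    (φ : A →+* B) (hφ : Function.Surjective φ) (ψ : B →+* C)
    (fs : List A) (hfs : IsRegular A fs) (hkf : RingHom.ker φ = Ideal.ofList fs)
    (gs : List B) (hgs : IsRegular B gs) (hkg : RingHom.ker ψ = Ideal.ofList gs) :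
    ∃ rs : List A, IsRegular A rs ∧ RingHom.ker (ψ.comp φ) = Ideal.ofList rs := by
  let gt : List A := gs.map (Function.surjInv hφ)
  have hgt : gt.map φ = gs := by
    rw [List.map_map]
    conv_rhs => rw [← List.map_id gs]
    apply List.map_congr_left
    intro b _
    exact Function.surjInv_eq hφ b
  have hker : RingHom.ker (ψ.comp φ) = Ideal.ofList (fs ++ gt) := by
    rw [← RingHom.comap_ker, hkg, ← hgt, ← Ideal.map_ofList,
      Ideal.comap_map_of_surjective φ hφ, Ideal.ofList_append, sup_comm]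
    congr 1
  refine ⟨fs ++ gt, isRegular_of_weaklyRegular_of_ne_top ?_ ?_, hker⟩
  · rw [isWeaklyRegular_append_iff]
    refine ⟨hfs.1, ?_⟩
    let _ : Algebra A B := φ.toAlgebra
    have hsm : (Ideal.ofList fs • ⊤ : Submodule A A) = LinearMap.ker (Algebra.linearMap A B) := by
      rw [smul_eq_mul, Ideal.mul_top, ← hkf]
      rfl
    let e : (A ⧸ (Ideal.ofList fs • ⊤ : Submodule A A)) ≃ₗ[A] B :=
      (Submodule.quotEquivOfEq _ _ hsm).trans
        (LinearMap.quotKerEquivOfSurjective (Algebra.linearMap A B) hφ)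
    rw [e.isWeaklyRegular_congr gt, ← isWeaklyRegular_map_algebraMap_iff B B gt]
    have : gt.map (algebraMap A B) = gs := hgt
    rw [this]
    exact hgs.1
  · rw [← hker]
    intro htop
    have h1 : (1 : A) ∈ RingHom.ker (ψ.comp φ) := by rw [htop]; trivial
    have h2 : ψ 1 = 0 := by
      have := (RingHom.mem_ker).1 h1
      simpa using this
    apply ofList_ne_top_of_isRegular hgs
    rw [← hkg, Ideal.eq_top_iff_one]
    exact h2

open Groth.Agent.Lib.Helper5.RegImmA

section Shrink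

variable {X Z : Scheme.{u}} (i : Z ⟶ X)

/-- a regular witness on an affine open restricts to any smaller affine open meeting the source -/
theorem shrinkReg {U U' : X.Opens} (hU : IsAffineOpen U) (hU' : IsAffineOpen U') (h : U' ≤ U)
    [IsClosedImmersion (i ∣_ U)] (rs : List Γ(X, U)) (hrs : IsRegular Γ(X, U) rs)
    (hker : RingHom.ker (i.app U).hom = Ideal.ofList rs) (hne : Nontrivial Γ(Z, i ⁻¹ᵁ U')) :
    IsRegular Γ(X, U') (rs.map (X.presheaf.map (homOfLE h).op).hom) ∧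
      RingHom.ker (i.app U').hom = Ideal.ofList (rs.map (X.presheaf.map (homOfLE h).op).hom) := by
  have hk : RingHom.ker (i.app U').hom =
      Ideal.ofList (rs.map (X.presheaf.map (homOfLE h).op).hom) := by
    rw [← ker_map_res i hU hU' h, hker, Ideal.map_ofList]
  refine ⟨isRegular_of_weaklyRegular_of_ne_top ?_ ?_, hk⟩
  · let _ : Algebra Γ(X, U) Γ(X, U') := (X.presheaf.map (homOfLE h).op).hom.toAlgebra
    have hfl : Module.Flat Γ(X, U) Γ(X, U') := flat_res hU hU' h
    exact IsWeaklyRegular.of_flat hrs.1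
  · rw [← hk]
    intro htop
    have h1 : (1 : Γ(X, U')) ∈ RingHom.ker (i.app U').hom := by rw [htop]; trivial
    have h2 : (i.app U').hom 1 = 0 := h1
    rw [map_one] at h2
    exact one_ne_zero h2

end Shrink

theorem comp {Z Y X : Scheme.{u}} (i : Z ⟶ Y) (j : Y ⟶ X)
    (hi : Mor2.IsRegularClosedImmersion i) (hj : Mor2.IsRegularClosedImmersion j) :
    Mor2.IsRegularClosedImmersion (i ≫ j) := by
  obtain ⟨hci, hi'⟩ := hi
  obtain ⟨hcj, hj'⟩ := hj
  refine ⟨inferInstance, fun z => ?_⟩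
  obtain ⟨U, hU, hyU, fs, hfs, hkf⟩ := hj' (i z)
  obtain ⟨V, hV, hzV, gs, hgs, hkg⟩ := hi' z
  rw [Scheme.Hom.ker_apply] at hkf hkg
  obtain ⟨O, hO, hOV⟩ := j.isEmbedding.isInducing.isOpen_iff.mp V.isOpen
  have hxO : j (i z) ∈ O := by
    have : i z ∈ j ⁻¹' O := by rw [hOV]; exact hzV
    exact this
  obtain ⟨a, ha, hxa⟩ := hU.exists_basicOpen_le (V := ⟨O, hO⟩) ⟨j (i z), hxO⟩ hyU
  have hW : IsAffineOpen (X.basicOpen a) := hU.basicOpen a
  have hle : X.basicOpen a ≤ U := X.basicOpen_le a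
  have hW'V : j ⁻¹ᵁ (X.basicOpen a) ≤ V := by
    intro y hy
    have h1 : j y ∈ O := ha hy
    have h2 : y ∈ j ⁻¹' O := h1
    rw [hOV] at h2
    exact h2
  have hW' : IsAffineOpen (j ⁻¹ᵁ (X.basicOpen a)) := isAffineOpen_preimage_of_restrict j hW
  have hn1 : Nontrivial Γ(Y, j ⁻¹ᵁ (X.basicOpen a)) := by
    have : Nonempty ↥(j ⁻¹ᵁ (X.basicOpen a)) := ⟨⟨i z, hxa⟩⟩
    infer_instance
  have hn2 : Nontrivial Γ(Z, i ⁻¹ᵁ (j ⁻¹ᵁ (X.basicOpen a))) := by
    have : Nonempty ↥(i ⁻¹ᵁ (j ⁻¹ᵁ (X.basicOpen a))) := ⟨⟨z, hxa⟩⟩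
    infer_instance
  obtain ⟨hf1, hk1⟩ := shrinkReg j hU hW hle fs hfs hkf hn1
  obtain ⟨hg2, hk2⟩ := shrinkReg i hV hW' hW'V gs hgs hkg hn2
  have hsurj := app_surjective_of_restrict j hW
  obtain ⟨rs, hreg, hker⟩ := exists_regular_comp (j.app (X.basicOpen a)).hom hsurj
    (i.app (j ⁻¹ᵁ (X.basicOpen a))).hom _ hf1 hk1 _ hg2 hk2
  refine ⟨X.basicOpen a, hW, hxa, rs, hreg, ?_⟩
  rw [Scheme.Hom.ker_apply, ← hker, Scheme.Hom.comp_app]
  rfl


end Groth.Agent.Lib.Helper5.RegComp
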