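import Mathlib
import Groth.Agent.Lib.Helper21.DepthKit14
import Groth.Agent.Lib.Helper7.RegSeqSpread

/-!
# Spreading out a regular sequence generating an ideal from a local ring of a Noetherian ring
-/

set_option autoImplicit false
universe u

namespace Groth.Agent.Lib.Helper5.RegSpreadRing

open RingTheory.Sequence

theorem ofList_eq_of_forall₂_unit {R : Type*} [CommRing R] {rs rs' : List R}
    (h : List.Forall₂ (fun r r' => ∃ u : R, IsUnit u ∧ r' = u * r) rs rs') :
    Ideal.ofList rs' = Ideal.ofList rs := by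
  induction h with
  | nil => rfl
  | cons hrr' _ ih =>
    obtain ⟨u, hu, rfl⟩ := hrr'
    rw [Ideal.ofList_cons, Ideal.ofList_cons, ih, Ideal.span_singleton_mul_left_unit hu]

variable {A : Type u} [CommRing A]

theorem exists_lift_list (p : Ideal A) [p.IsPrime] (R : Type u) [CommRing R] [Algebra A R]
    [IsLocalization.AtPrime R p] (I : Ideal A) (rs : List R)
    (hrs : ∀ r ∈ rs, r ∈ I.map (algebraMap A R)) :
    ∃ xs : List A, (∀ x ∈ xs, x ∈ I) ∧
      List.Forall₂ (fun r r' => ∃ u : R, IsUnit u ∧ r' = u * r) rs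
        (xs.map (algebraMap A R)) := by
  induction rs with
  | nil => exact ⟨[], by simp, List.Forall₂.nil⟩
  | cons r rs ih =>
    obtain ⟨xs, h1, h2⟩ := ih (fun r' hr' => hrs r' (List.mem_cons_of_mem _ hr'))
    obtain ⟨⟨a, t⟩, hat⟩ := (IsLocalization.mem_map_algebraMap_iff p.primeCompl R).1
      (hrs r List.mem_cons_self)
    refine ⟨a.1 :: xs, ?_, ?_⟩
    · intro x hx
      rcases List.mem_cons.1 hx with rfl | hx
      exacts [a.2, h1 x hx]
    · rw [List.map_cons]
      exact List.Forall₂.cons ⟨algebraMap A R t.1, IsLocalization.map_units R t, by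
        rw [← hat, mul_comm]⟩ h2

theorem exists_away_ideal_eq [IsNoetherianRing A] (p : Ideal A) [p.IsPrime] (R : Type u)
    [CommRing R] [Algebra A R] [IsLocalization.AtPrime R p] (I : Ideal A) (rs : List R)
    (hI : I.map (algebraMap A R) = Ideal.ofList rs) :
    ∃ g ∉ p, ∃ xs : List A,
      List.Forall₂ (fun r r' => ∃ u : R, IsUnit u ∧ r' = u * r) rs (xs.map (algebraMap A R)) ∧
      ∀ (S : Type u) [CommRing S] [Algebra A S] [IsLocalization.Away g S],
        I.map (algebraMap A S) = Ideal.ofList (xs.map (algebraMap A S)) := by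
  classical
  obtain ⟨xs, hxsI, hF⟩ := exists_lift_list p R I rs (fun r hr => by
    rw [hI]; exact Ideal.subset_span (by simpa using hr))
  have hJ : (Ideal.ofList xs).map (algebraMap A R) = I.map (algebraMap A R) := by
    rw [Ideal.map_ofList, ofList_eq_of_forall₂_unit hF, hI]
  obtain ⟨F, hF'⟩ := (IsNoetherian.noetherian I : I.FG)
  have key : ∀ b ∈ F, ∃ s ∈ p.primeCompl, s * b ∈ Ideal.ofList xs := by
    intro b hb
    have : algebraMap A R b ∈ (Ideal.ofList xs).map (algebraMap A R) := by
      rw [hJ]
      exact Ideal.mem_map_of_mem _ (hF' ▸ Ideal.subset_span hb)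
    exact (IsLocalization.algebraMap_mem_map_algebraMap_iff p.primeCompl R _ b).1 this
  choose! s hs hsb using key
  refine ⟨∏ b ∈ F, s b, ?_, xs, hF, ?_⟩
  · intro hmem
    obtain ⟨b, hb, hb'⟩ := (Ideal.IsPrime.prod_mem_iff (hp := inferInstance)).1 hmem
    exact hs b hb hb'
  · intro S _ _ _
    rw [← Ideal.map_ofList]
    apply le_antisymm
    · rw [Ideal.map_le_iff_le_comap, ← hF']
      change Ideal.span (F : Set A) ≤ _
      rw [Ideal.span_le]
      intro b hb
      rw [SetLike.mem_coe, Ideal.mem_comap]
      have hunit : IsUnit (algebraMap A S (∏ b ∈ F, s b)) :=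
        IsLocalization.Away.algebraMap_isUnit _
      have hmem : (∏ b' ∈ F, s b') * b ∈ Ideal.ofList xs := by
        rw [← Finset.mul_prod_erase F s hb, mul_comm (s b), mul_assoc]
        exact Ideal.mul_mem_left _ _ (hsb b hb)
      have h1 := Ideal.mem_map_of_mem (algebraMap A S) hmem
      rw [map_mul] at h1
      exact (Ideal.unit_mul_mem_iff_mem _ hunit).1 h1
    · apply Ideal.map_mono
      rw [Ideal.ofList, Ideal.span_le]
      intro x hx
      exact hxsI x (by simpa using hx)

theorem exists_away_weaklyRegular [IsNoetherianRing A] (p : Ideal A) [p.IsPrime] (R : Type u)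
    [CommRing R] [Algebra A R] [IsLocalization.AtPrime R p] (xs : List A)
    (h : IsWeaklyRegular R (xs.map (algebraMap A R))) :
    ∃ g ∉ p, ∀ (S : Type u) [CommRing S] [Algebra A S] [IsLocalization.Away g S],
      IsWeaklyRegular S (xs.map (algebraMap A S)) := by
  have h1 : IsWeaklyRegular R xs := (isWeaklyRegular_map_algebraMap_iff R R xs).1 h
  let e : LocalizedModule p.primeCompl A ≃ₗ[A] R :=
    IsLocalizedModule.iso p.primeCompl (Algebra.linearMap A R)
  have h2 : IsWeaklyRegular (LocalizedModule p.primeCompl A) xs :=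
    (e.isWeaklyRegular_congr xs).2 h1
  have h3 := (isWeaklyRegular_map_algebraMap_iff (Localization.AtPrime p)
    (LocalizedModule p.primeCompl A) xs).2 h2
  obtain ⟨g, hg, h4⟩ := Groth.Agent.Lib.Helper21.DepthKit.exists_isWeaklyRegular_away xs A p h3
  refine ⟨g, hg, fun S _ _ _ => ?_⟩
  have h5 := (isWeaklyRegular_map_algebraMap_iff (Localization (Submonoid.powers g))
    (LocalizedModule (Submonoid.powers g) A) xs).1 h4
  let e' : LocalizedModule (Submonoid.powers g) A ≃ₗ[A] S :=
    IsLocalizedModule.iso (Submonoid.powers g) (Algebra.linearMap A S)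
  exact (isWeaklyRegular_map_algebraMap_iff S S xs).2 ((e'.isWeaklyRegular_congr xs).1 h5)

/-- variant of `exists_away_ideal_eq`: the equality holds over every algebra in which `g` becomes a
unit -/
theorem exists_away_ideal_eq' [IsNoetherianRing A] (p : Ideal A) [p.IsPrime] (R : Type u)
    [CommRing R] [Algebra A R] [IsLocalization.AtPrime R p] (I : Ideal A) (rs : List R)
    (hI : I.map (algebraMap A R) = Ideal.ofList rs) :
    ∃ g ∉ p, ∃ xs : List A,
      List.Forall₂ (fun r r' => ∃ u : R, IsUnit u ∧ r' = u * r) rs (xs.map (algebraMap A R)) ∧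
      ∀ (S : Type u) [CommRing S] [Algebra A S], IsUnit (algebraMap A S g) →
        I.map (algebraMap A S) = Ideal.ofList (xs.map (algebraMap A S)) := by
  classical
  obtain ⟨xs, hxsI, hF⟩ := exists_lift_list p R I rs (fun r hr => by
    rw [hI]; exact Ideal.subset_span (by simpa using hr))
  have hJ : (Ideal.ofList xs).map (algebraMap A R) = I.map (algebraMap A R) := by
    rw [Ideal.map_ofList, ofList_eq_of_forall₂_unit hF, hI]
  obtain ⟨F, hF'⟩ := (IsNoetherian.noetherian I : I.FG)
  have key : ∀ b ∈ F, ∃ s ∈ p.primeCompl, s * b ∈ Ideal.ofList xs := by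
    intro b hb
    have : algebraMap A R b ∈ (Ideal.ofList xs).map (algebraMap A R) := by
      rw [hJ]
      exact Ideal.mem_map_of_mem _ (hF' ▸ Ideal.subset_span hb)
    exact (IsLocalization.algebraMap_mem_map_algebraMap_iff p.primeCompl R _ b).1 this
  choose! s hs hsb using key
  refine ⟨∏ b ∈ F, s b, ?_, xs, hF, ?_⟩
  · intro hmem
    obtain ⟨b, hb, hb'⟩ := (Ideal.IsPrime.prod_mem_iff (hp := inferInstance)).1 hmem
    exact hs b hb hb'
  · intro S _ _ hunit
    rw [← Ideal.map_ofList]
    apply le_antisymm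
    · rw [Ideal.map_le_iff_le_comap, ← hF']
      change Ideal.span (F : Set A) ≤ _
      rw [Ideal.span_le]
      intro b hb
      rw [SetLike.mem_coe, Ideal.mem_comap]
      have hmem : (∏ b' ∈ F, s b') * b ∈ Ideal.ofList xs := by
        rw [← Finset.mul_prod_erase F s hb, mul_comm (s b), mul_assoc]
        exact Ideal.mul_mem_left _ _ (hsb b hb)
      have h1 := Ideal.mem_map_of_mem (algebraMap A S) hmem
      rw [map_mul] at h1
      exact (Ideal.unit_mul_mem_iff_mem _ hunit).1 h1
    · apply Ideal.map_mono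
      rw [Ideal.ofList, Ideal.span_le]
      intro x hx
      exact hxsI x (by simpa using hx)

/-- variant of `exists_away_weaklyRegular` valid for all multiples of `g` -/
theorem exists_away_weaklyRegular' [IsNoetherianRing A] (p : Ideal A) [p.IsPrime] (R : Type u)
    [CommRing R] [Algebra A R] [IsLocalization.AtPrime R p] (xs : List A)
    (h : IsWeaklyRegular R (xs.map (algebraMap A R))) :
    ∃ g ∉ p, ∀ h' : A, g ∣ h' → ∀ (S : Type u) [CommRing S] [Algebra A S]
      [IsLocalization.Away h' S], IsWeaklyRegular S (xs.map (algebraMap A S)) := by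
  classical
  have h1 : IsWeaklyRegular R xs := (isWeaklyRegular_map_algebraMap_iff R R xs).1 h
  let e : LocalizedModule p.primeCompl A ≃ₗ[A] R :=
    IsLocalizedModule.iso p.primeCompl (Algebra.linearMap A R)
  have h2 : IsWeaklyRegular (LocalizedModule p.primeCompl A) xs :=
    (e.isWeaklyRegular_congr xs).2 h1
  have h3 := (isWeaklyRegular_map_algebraMap_iff (Localization.AtPrime p)
    (LocalizedModule p.primeCompl A) xs).2 h2
  rw [Groth.Agent.Lib.Helper7.RegSpread.isWeaklyRegular_localization_iff] at h3
  have key : ∀ i : Fin xs.length, ∃ g ∉ p, ∀ h' : A, g ∣ h' →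
      IsSMulRegular (LocalizedModule (Submonoid.powers h')
        (A ⧸ (Ideal.ofList (xs.take i) • ⊤ : Submodule A A)))
        (algebraMap A (Localization (Submonoid.powers h')) xs[i]) := by
    intro i
    exact Groth.Agent.Lib.Helper21.DepthKit.exists_isSMulRegular_away xs[i] _ p (h3 i i.2)
  choose g hgp hg using key
  refine ⟨∏ i : Fin xs.length, g i, ?_, ?_⟩
  · intro hmem
    obtain ⟨i, -, hi⟩ := (Ideal.IsPrime.prod_mem_iff (hp := inferInstance)).1 hmem
    exact hgp i hi
  · intro h' hh' S _ _ _
    have h4 : IsWeaklyRegular (LocalizedModule (Submonoid.powers h') A)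
        (xs.map (algebraMap A (Localization (Submonoid.powers h')))) := by
      rw [Groth.Agent.Lib.Helper21.DepthKit.isWeaklyRegular_localization_iff']
      intro i hi
      exact hg ⟨i, hi⟩ _ ((Finset.dvd_prod_of_mem _ (Finset.mem_univ _)).trans hh')
    have h5 := (isWeaklyRegular_map_algebraMap_iff (Localization (Submonoid.powers h'))
      (LocalizedModule (Submonoid.powers h') A) xs).1 h4
    let e' : LocalizedModule (Submonoid.powers h') A ≃ₗ[A] S :=
      IsLocalizedModule.iso (Submonoid.powers h') (Algebra.linearMap A S)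
    exact (isWeaklyRegular_map_algebraMap_iff S S xs).2 ((e'.isWeaklyRegular_congr xs).1 h5)

end Groth.Agent.Lib.Helper5.RegSpreadRing
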