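import Mathlib
import Groth.Agent.Lib.Helper5.RegImmA

/-!
# Kernel of the stalk map of a (locally) closed immersion
-/

set_option autoImplicit false
universe u
open CategoryTheory CategoryTheory.Limits AlgebraicGeometry TopologicalSpace

namespace Groth.Agent.Lib.Helper5.StalkKer

open Groth.Agent.Lib.Helper5.RegImmA

variable {X Z : Scheme.{u}} (i : Z ⟶ X)

theorem ker_stalkMap_eq_map {U : X.Opens} (hU : IsAffineOpen U) [IsClosedImmersion (i ∣_ U)]
    (z : Z) (hz : i z ∈ U) :
    RingHom.ker (i.stalkMap z).hom =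
      (RingHom.ker (i.app U).hom).map (X.presheaf.germ U (i z) hz).hom := by
  have hV : IsAffineOpen (i ⁻¹ᵁ U) := isAffineOpen_preimage_of_restrict i hU
  have hsurj : Function.Surjective (i.app U).hom := app_surjective_of_restrict i hU
  let _ := X.presheaf.algebra_section_stalk ⟨i z, hz⟩
  have locX := hU.isLocalization_stalk ⟨i z, hz⟩
  let _ := Z.presheaf.algebra_section_stalk (U := i ⁻¹ᵁ U) ⟨z, hz⟩
  have locZ := hV.isLocalization_stalk ⟨z, hz⟩
  have hnat : ∀ a, (i.stalkMap z).hom ((X.presheaf.germ U (i z) hz).hom a) =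
      (Z.presheaf.germ (i ⁻¹ᵁ U) z hz).hom ((i.app U).hom a) :=
    fun a => Scheme.Hom.germ_stalkMap_apply i U z hz a
  apply le_antisymm
  · intro r hr
    obtain ⟨⟨s, t⟩, hst⟩ :=
      IsLocalization.surj (hU.primeIdealOf ⟨i z, hz⟩).asIdeal.primeCompl r
    have hst' : r * (X.presheaf.germ U (i z) hz).hom t.1 = (X.presheaf.germ U (i z) hz).hom s :=
      hst
    have hunit_t : IsUnit ((X.presheaf.germ U (i z) hz).hom t.1) :=
      IsLocalization.map_units (X.presheaf.stalk (i z)) t
    have h1 : (i.stalkMap z).hom ((X.presheaf.germ U (i z) hz).hom s) = 0 := by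
      rw [← hst', map_mul, (RingHom.mem_ker).1 hr, zero_mul]
    have h2 : (Z.presheaf.germ (i ⁻¹ᵁ U) z hz).hom ((i.app U).hom s) = 0 := by
      rw [← hnat]; exact h1
    obtain ⟨b, hb⟩ := (IsLocalization.map_eq_zero_iff
      (hV.primeIdealOf ⟨z, hz⟩).asIdeal.primeCompl (Z.presheaf.stalk z) _).1 h2
    obtain ⟨a, ha⟩ := hsurj b.1
    have hunit_a : IsUnit ((X.presheaf.germ U (i z) hz).hom a) := by
      apply isUnit_of_map_unit (i.stalkMap z).hom
      rw [hnat, ha]
      exact IsLocalization.map_units (Z.presheaf.stalk z) b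
    have has : a * s ∈ RingHom.ker (i.app U).hom := by
      rw [RingHom.mem_ker, map_mul, ha, hb]
    obtain ⟨u, hu⟩ := hunit_a.mul hunit_t
    have hr' : r = ↑u⁻¹ * (X.presheaf.germ U (i z) hz).hom (a * s) := by
      rw [map_mul, ← hst', Units.eq_inv_mul_iff_mul_eq, hu]
      ring
    rw [hr']
    exact Ideal.mul_mem_left _ _ (Ideal.mem_map_of_mem _ has)
  · rw [Ideal.map_le_iff_le_comap]
    intro a ha
    rw [Ideal.mem_comap, RingHom.mem_ker, hnat, (RingHom.mem_ker).1 ha, map_zero]

open RingTheory.Sequence in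
/-- a regular witness on an affine open gives a regular sequence generating the kernel of the
stalk map -/
theorem isRegular_germ {U : X.Opens} (hU : IsAffineOpen U) [IsClosedImmersion (i ∣_ U)]
    (z : Z) (hz : i z ∈ U) (rs : List Γ(X, U)) (hrs : IsWeaklyRegular Γ(X, U) rs)
    (hker : RingHom.ker (i.app U).hom = Ideal.ofList rs) :
    IsRegular (X.presheaf.stalk (i z)) (rs.map (X.presheaf.germ U (i z) hz).hom) ∧
      RingHom.ker (i.stalkMap z).hom =
        Ideal.ofList (rs.map (X.presheaf.germ U (i z) hz).hom) := by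
  refine ⟨?_, by rw [ker_stalkMap_eq_map i hU z hz, hker, Ideal.map_ofList]⟩
  let _ := X.presheaf.algebra_section_stalk ⟨i z, hz⟩
  have locX := hU.isLocalization_stalk ⟨i z, hz⟩
  refine IsWeaklyRegular.isRegular_of_isLocalization_of_mem (X.presheaf.stalk (i z))
    (hU.primeIdealOf ⟨i z, hz⟩).asIdeal hrs ?_
  intro r hr
  by_contra hnot
  have hunit : IsUnit ((X.presheaf.germ U (i z) hz).hom r) :=
    (IsLocalization.AtPrime.isUnit_to_map_iff (X.presheaf.stalk (i z))
      (hU.primeIdealOf ⟨i z, hz⟩).asIdeal r).2 hnot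
  have hmem : r ∈ RingHom.ker (i.app U).hom := by
    rw [hker]
    exact Ideal.subset_span (by simpa using hr)
  have h0 : (i.stalkMap z).hom ((X.presheaf.germ U (i z) hz).hom r) = 0 := by
    have := Scheme.Hom.germ_stalkMap_apply i U z hz r
    rw [(RingHom.mem_ker).1 hmem, map_zero] at this
    exact this
  have := hunit.map (i.stalkMap z).hom
  rw [h0] at this
  exact not_isUnit_zero this

end Groth.Agent.Lib.Helper5.StalkKer
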