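import Mathlib
import Groth.Agent.Lib.Helper5.StalkKer
import Groth.Agent.Lib.Helper5.RegSpreadRing

/-!
# Spreading out a regular sequence generating the kernel of a stalk map (locally Noetherian case)
-/

set_option autoImplicit false
universe u
open CategoryTheory CategoryTheory.Limits AlgebraicGeometry TopologicalSpace

namespace Groth.Agent.Lib.Helper5.RegSpreadSch

open Groth.Agent.Lib.Helper5.RegImmA Groth.Agent.Lib.Helper5.StalkKer
open Groth.Agent.Lib.Helper5.RegSpreadRing RingTheory.Sequence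

variable {X Z : Scheme.{u}} (i : Z ⟶ X)

theorem step {U : X.Opens} (hU : IsAffineOpen U) [IsClosedImmersion (i ∣_ U)] (z : Z)
    (hz : i z ∈ U) (g : Γ(X, U)) (hg : g ∉ (hU.primeIdealOf ⟨i z, hz⟩).asIdeal) :
    IsAffineOpen (X.basicOpen g) ∧ IsClosedImmersion (i ∣_ X.basicOpen g) ∧
      ∃ hz' : i z ∈ X.basicOpen g,
      IsLocalization.Away g Γ(X, X.basicOpen g) ∧
      (∀ a, (X.presheaf.germ (X.basicOpen g) (i z) hz').hom
          (algebraMap Γ(X, U) Γ(X, X.basicOpen g) a) = (X.presheaf.germ U (i z) hz).hom a) ∧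
      RingHom.ker (i.app (X.basicOpen g)).hom =
        (RingHom.ker (i.app U).hom).map (algebraMap Γ(X, U) Γ(X, X.basicOpen g)) := by
  have hz' : i z ∈ X.basicOpen g := by
    rw [X.mem_basicOpen g (i z) hz]
    let _ := X.presheaf.algebra_section_stalk ⟨i z, hz⟩
    have locX := hU.isLocalization_stalk ⟨i z, hz⟩
    exact (IsLocalization.AtPrime.isUnit_to_map_iff (X.presheaf.stalk (i z))
      (hU.primeIdealOf ⟨i z, hz⟩).asIdeal g).2 hg
  refine ⟨hU.basicOpen g, isClosedImmersion_restrict_of_le i (X.basicOpen_le g), hz',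
    hU.isLocalization_basicOpen g, ?_, ?_⟩
  · intro a
    exact TopCat.Presheaf.germ_res_apply X.presheaf (homOfLE (X.basicOpen_le g)) (i z) hz' a
  · exact (ker_map_res i hU (hU.basicOpen g) (X.basicOpen_le g)).symm

theorem exists_regular_nhd [IsLocallyNoetherian X] {U : X.Opens} (hU : IsAffineOpen U)
    [IsClosedImmersion (i ∣_ U)] (z : Z) (hz : i z ∈ U)
    (rs : List (X.presheaf.stalk (i z))) (hrs : IsWeaklyRegular (X.presheaf.stalk (i z)) rs)
    (hker : RingHom.ker (i.stalkMap z).hom = Ideal.ofList rs) :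
    ∃ U' : X.Opens, IsAffineOpen U' ∧ U' ≤ U ∧ i z ∈ U' ∧ IsClosedImmersion (i ∣_ U') ∧
      ∃ xs : List Γ(X, U'), IsWeaklyRegular Γ(X, U') xs ∧
        RingHom.ker (i.app U').hom = Ideal.ofList xs := by
  have hN : IsNoetherianRing Γ(X, U) := IsLocallyNoetherian.component_noetherian ⟨U, hU⟩
  let alg := X.presheaf.algebra_section_stalk ⟨i z, hz⟩
  have locX := hU.isLocalization_stalk ⟨i z, hz⟩
  have hI : (RingHom.ker (i.app U).hom).map (algebraMap Γ(X, U) (X.presheaf.stalk (i z))) =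
      Ideal.ofList rs := by
    rw [← hker, ker_stalkMap_eq_map i hU z hz]
    rfl
  obtain ⟨g₁, hg₁, xs, hF, hS⟩ := exists_away_ideal_eq (hU.primeIdealOf ⟨i z, hz⟩).asIdeal
    (X.presheaf.stalk (i z)) (RingHom.ker (i.app U).hom) rs hI
  obtain ⟨hU₁, hc₁, hz₁, loc₁, hgerm₁, hk₁⟩ := step i hU z hz g₁ hg₁
  have hwr : IsWeaklyRegular (X.presheaf.stalk (i z))
      (xs.map (algebraMap Γ(X, U) (X.presheaf.stalk (i z)))) :=
    Groth.Agent.Lib.Helper7.RegSpread.isWeaklyRegular_of_forall₂_unit hF _ hrs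
  have hk₁' : RingHom.ker (i.app (X.basicOpen g₁)).hom =
      Ideal.ofList (xs.map (algebraMap Γ(X, U) Γ(X, X.basicOpen g₁))) := by
    rw [hk₁]
    exact hS Γ(X, X.basicOpen g₁)
  have hN₁ : IsNoetherianRing Γ(X, X.basicOpen g₁) :=
    IsLocallyNoetherian.component_noetherian ⟨_, hU₁⟩
  let alg₁ := X.presheaf.algebra_section_stalk ⟨i z, hz₁⟩
  have locX₁ := hU₁.isLocalization_stalk ⟨i z, hz₁⟩
  have hwr₁ : IsWeaklyRegular (X.presheaf.stalk (i z))
      ((xs.map (algebraMap Γ(X, U) Γ(X, X.basicOpen g₁))).map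
        (algebraMap Γ(X, X.basicOpen g₁) (X.presheaf.stalk (i z)))) := by
    rw [List.map_map]
    have : (algebraMap Γ(X, X.basicOpen g₁) (X.presheaf.stalk (i z))) ∘
        (algebraMap Γ(X, U) Γ(X, X.basicOpen g₁)) =
        algebraMap Γ(X, U) (X.presheaf.stalk (i z)) := by
      funext a
      exact hgerm₁ a
    rw [this]
    exact hwr
  have : IsClosedImmersion (i ∣_ X.basicOpen g₁) := hc₁
  obtain ⟨g₂, hg₂, hS₂⟩ := exists_away_weaklyRegular (hU₁.primeIdealOf ⟨i z, hz₁⟩).asIdeal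
    (X.presheaf.stalk (i z)) (xs.map (algebraMap Γ(X, U) Γ(X, X.basicOpen g₁))) hwr₁
  obtain ⟨hU₂, hc₂, hz₂, loc₂, -, hk₂⟩ := step i hU₁ z hz₁ g₂ hg₂
  refine ⟨X.basicOpen g₂, hU₂, (X.basicOpen_le g₂).trans (X.basicOpen_le g₁), hz₂, hc₂,
    (xs.map (algebraMap Γ(X, U) Γ(X, X.basicOpen g₁))).map
      (algebraMap Γ(X, X.basicOpen g₁) Γ(X, X.basicOpen g₂)), hS₂ Γ(X, X.basicOpen g₂), ?_⟩
  rw [hk₂, hk₁', Ideal.map_ofList]

theorem exists_regular_nhd_length [IsLocallyNoetherian X] {U : X.Opens} (hU : IsAffineOpen U)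
    [IsClosedImmersion (i ∣_ U)] (z : Z) (hz : i z ∈ U)
    (rs : List (X.presheaf.stalk (i z))) (hrs : IsWeaklyRegular (X.presheaf.stalk (i z)) rs)
    (hker : RingHom.ker (i.stalkMap z).hom = Ideal.ofList rs) :
    ∃ U' : X.Opens, IsAffineOpen U' ∧ U' ≤ U ∧ i z ∈ U' ∧ IsClosedImmersion (i ∣_ U') ∧
      ∃ xs : List Γ(X, U'), xs.length = rs.length ∧ IsWeaklyRegular Γ(X, U') xs ∧
        RingHom.ker (i.app U').hom = Ideal.ofList xs := by
  have hN : IsNoetherianRing Γ(X, U) := IsLocallyNoetherian.component_noetherian ⟨U, hU⟩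
  let alg := X.presheaf.algebra_section_stalk ⟨i z, hz⟩
  have locX := hU.isLocalization_stalk ⟨i z, hz⟩
  have hI : (RingHom.ker (i.app U).hom).map (algebraMap Γ(X, U) (X.presheaf.stalk (i z))) =
      Ideal.ofList rs := by
    rw [← hker, ker_stalkMap_eq_map i hU z hz]
    rfl
  obtain ⟨g₁, hg₁, xs, hF, hS⟩ := exists_away_ideal_eq (hU.primeIdealOf ⟨i z, hz⟩).asIdeal
    (X.presheaf.stalk (i z)) (RingHom.ker (i.app U).hom) rs hI
  obtain ⟨hU₁, hc₁, hz₁, loc₁, hgerm₁, hk₁⟩ := step i hU z hz g₁ hg₁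
  have hwr : IsWeaklyRegular (X.presheaf.stalk (i z))
      (xs.map (algebraMap Γ(X, U) (X.presheaf.stalk (i z)))) :=
    Groth.Agent.Lib.Helper7.RegSpread.isWeaklyRegular_of_forall₂_unit hF _ hrs
  have hk₁' : RingHom.ker (i.app (X.basicOpen g₁)).hom =
      Ideal.ofList (xs.map (algebraMap Γ(X, U) Γ(X, X.basicOpen g₁))) := by
    rw [hk₁]
    exact hS Γ(X, X.basicOpen g₁)
  have hN₁ : IsNoetherianRing Γ(X, X.basicOpen g₁) :=
    IsLocallyNoetherian.component_noetherian ⟨_, hU₁⟩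
  let alg₁ := X.presheaf.algebra_section_stalk ⟨i z, hz₁⟩
  have locX₁ := hU₁.isLocalization_stalk ⟨i z, hz₁⟩
  have hwr₁ : IsWeaklyRegular (X.presheaf.stalk (i z))
      ((xs.map (algebraMap Γ(X, U) Γ(X, X.basicOpen g₁))).map
        (algebraMap Γ(X, X.basicOpen g₁) (X.presheaf.stalk (i z)))) := by
    rw [List.map_map]
    have : (algebraMap Γ(X, X.basicOpen g₁) (X.presheaf.stalk (i z))) ∘
        (algebraMap Γ(X, U) Γ(X, X.basicOpen g₁)) =
        algebraMap Γ(X, U) (X.presheaf.stalk (i z)) := by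
      funext a
      exact hgerm₁ a
    rw [this]
    exact hwr
  have : IsClosedImmersion (i ∣_ X.basicOpen g₁) := hc₁
  obtain ⟨g₂, hg₂, hS₂⟩ := exists_away_weaklyRegular (hU₁.primeIdealOf ⟨i z, hz₁⟩).asIdeal
    (X.presheaf.stalk (i z)) (xs.map (algebraMap Γ(X, U) Γ(X, X.basicOpen g₁))) hwr₁
  obtain ⟨hU₂, hc₂, hz₂, loc₂, -, hk₂⟩ := step i hU₁ z hz₁ g₂ hg₂
  refine ⟨X.basicOpen g₂, hU₂, (X.basicOpen_le g₂).trans (X.basicOpen_le g₁), hz₂, hc₂,
    (xs.map (algebraMap Γ(X, U) Γ(X, X.basicOpen g₁))).map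
      (algebraMap Γ(X, X.basicOpen g₁) Γ(X, X.basicOpen g₂)), ?_, hS₂ Γ(X, X.basicOpen g₂), ?_⟩
  · have := hF.length_eq
    rw [List.length_map] at this
    rw [List.length_map, List.length_map, this]
  · rw [hk₂, hk₁', Ideal.map_ofList]

end Groth.Agent.Lib.Helper5.RegSpreadSch
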