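import Mathlib
import Groth.Agent.Lib.Helper5.SecRegA
import Groth.Agent.Lib.Helper5.RegSpreadSch
import Groth.Agent.Lib.Helper5.RegComp
import Groth.Prelude.Def_Mor2

set_option autoImplicit false
universe u

namespace Groth.Agent.Lib.Helper5.SecReg

open AlgebraicGeometry CategoryTheory Limits

variable {X S : Scheme.{u}}

theorem presheaf_map_injective_of_le (U W : S.Opens) (e1 : U ≤ W) (e2 : W ≤ U) :
    Function.Injective (S.presheaf.map (homOfLE e1).op).hom := by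
  obtain rfl : U = W := le_antisymm e1 e2
  have : S.presheaf.map (homOfLE e1).op = 𝟙 _ := by
    rw [show homOfLE e1 = 𝟙 U from rfl, op_id, S.presheaf.map_id]
  rw [this]
  exact Function.injective_id

theorem appLE_eq_id_of_eq_id (h : S ⟶ S) (hh : h = 𝟙 S) (U : S.Opens) (e : U ≤ h ⁻¹ᵁ U) :
    h.appLE U U e = 𝟙 _ := by
  subst hh
  have h1 : (𝟙 S : S ⟶ S).appLE U U e = S.presheaf.map (homOfLE e).op := by
    unfold Scheme.Hom.appLE
    rw [Scheme.Hom.id_app]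
    exact Category.id_comp _
  rw [h1]
  exact S.presheaf.map_id _

/-- a smooth morphism with a section restricts, near a point of the section, to a standard smooth
ring map with a retraction -/
theorem exists_affine_section (f : X ⟶ S) [Smooth f] (σ : S ⟶ X) (hσ : σ ≫ f = 𝟙 S) (z : S) :
    ∃ (U : S.Opens) (V : X.Opens), IsAffineOpen U ∧ IsAffineOpen V ∧ z ∈ U ∧
      ∃ (eV : V ≤ f ⁻¹ᵁ U) (_ : U ≤ σ ⁻¹ᵁ V), (f.appLE U V eV).hom.IsStandardSmooth := by
  obtain ⟨U₂, hU₂, V₂, hV₂, hxV₂, e₂, hstd⟩ := Smooth.exists_isStandardSmooth f (σ z)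
  have hfσ : ∀ s : S, f (σ s) = s := by
    intro s
    have := congrArg (fun g : S ⟶ S => g s) hσ
    simpa using this
  have hzU₂ : z ∈ U₂ := by
    have := e₂ hxV₂
    change f (σ z) ∈ U₂ at this
    rwa [hfσ] at this
  obtain ⟨r, hrW, hzr⟩ := hU₂.exists_basicOpen_le (V := σ ⁻¹ᵁ V₂ ⊓ U₂)
    ⟨z, ⟨hxV₂, hzU₂⟩⟩ hzU₂
  have eV : X.basicOpen (f.appLE U₂ V₂ e₂ r) ≤ f ⁻¹ᵁ S.basicOpen r := by
    simp [Scheme.Hom.appLE]
  have hVle : X.basicOpen (f.appLE U₂ V₂ e₂ r) = V₂ ⊓ f ⁻¹ᵁ S.basicOpen r := by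
    simp [Scheme.Hom.appLE, Scheme.preimage_basicOpen]
  refine ⟨S.basicOpen r, X.basicOpen (f.appLE U₂ V₂ e₂ r), hU₂.basicOpen r, hV₂.basicOpen _,
    hzr, eV, ?_, ?_⟩
  · intro s hs
    rw [hVle]
    refine ⟨(hrW hs).1, ?_⟩
    change f (σ s) ∈ S.basicOpen r
    rwa [hfσ]
  · rw [IsAffineOpen.appLE_eq_away_map f hU₂ hV₂ e₂ r]
    have := hU₂.isLocalization_basicOpen r
    have := hV₂.isLocalization_basicOpen (f.appLE U₂ V₂ e₂ r)
    exact RingHom.isStandardSmooth_localizationPreserves.away _ r _ _ hstd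

theorem section_isRegularClosedImmersion (f : X ⟶ S) [Smooth f] (σ : S ⟶ X) (hσ : σ ≫ f = 𝟙 S)
    [IsClosedImmersion σ] : Mor2.IsRegularClosedImmersion σ := by
  refine ⟨inferInstance, fun z => ?_⟩
  obtain ⟨U, V, hU, hV, hzU, eV, eU, hstd⟩ := exists_affine_section f σ hσ z
  have hzV : σ z ∈ V := eU hzU
  have hτφ : (σ.appLE V U eU).hom.comp (f.appLE U V eV).hom = RingHom.id _ := by
    have h1 := Scheme.Hom.appLE_comp_appLE σ f U V U eV eU
    rw [appLE_eq_id_of_eq_id (σ ≫ f) hσ U] at h1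
    have h3 := congrArg CommRingCat.Hom.hom h1
    exact h3
  have hle : RingHom.ker (σ.appLE V U eU).hom ≤ (hV.primeIdealOf ⟨σ z, hzV⟩).asIdeal := by
    have h1 := IsAffineOpen.comap_primeIdealOf_appLE V hV U hU eU (x := z) hzU
    intro a ha
    rw [← h1]
    change (σ.appLE V U eU).hom a ∈ (hU.primeIdealOf ⟨z, hzU⟩).asIdeal
    have h0 : (σ.appLE V U eU).hom a = 0 := ha
    rw [h0]
    exact zero_mem _
  obtain ⟨g, hg, rs, hT⟩ := exists_regular_of_section (f.appLE U V eV).hom hstd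
    (σ.appLE V U eU).hom hτφ (hV.primeIdealOf ⟨σ z, hzV⟩).asIdeal hle
  have : IsClosedImmersion (σ ∣_ V) := inferInstance
  obtain ⟨hU₁, hc₁, hz₁, loc₁, -, hk₁⟩ :=
    Groth.Agent.Lib.Helper5.RegSpreadSch.step σ hV z hzV g hg
  obtain ⟨hwr, hspan⟩ := hT Γ(X, X.basicOpen g)
  have hkerτ : RingHom.ker (σ.appLE V U eU).hom = RingHom.ker (σ.app V).hom := by
    have hWU : σ ⁻¹ᵁ V ≤ U := by
      intro s hs
      have h1 : f (σ s) ∈ U := eV hs
      have h2 : f (σ s) = s := by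
        have := congrArg (fun g : S ⟶ S => g s) hσ
        simpa using this
      rwa [h2] at h1
    have hinj := presheaf_map_injective_of_le U (σ ⁻¹ᵁ V) eU hWU
    ext a
    rw [RingHom.mem_ker, RingHom.mem_ker]
    have h3 : (σ.appLE V U eU).hom a = (S.presheaf.map (homOfLE eU).op).hom ((σ.app V).hom a) := rfl
    rw [h3]
    constructor
    · intro h
      apply hinj
      rw [h, map_zero]
    · intro h
      rw [h, map_zero]
  refine ⟨X.basicOpen g, hU₁, hz₁, rs.map (algebraMap Γ(X, V) Γ(X, X.basicOpen g)), ?_, ?_⟩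
  · apply Groth.Agent.Lib.Helper5.RegComp.isRegular_of_weaklyRegular_of_ne_top hwr
    rw [← hspan, hkerτ, ← hk₁]
    intro htop
    have h1 : (1 : Γ(X, X.basicOpen g)) ∈ RingHom.ker (σ.app (X.basicOpen g)).hom := by
      rw [htop]; trivial
    rw [RingHom.mem_ker, map_one] at h1
    have : Nontrivial Γ(S, σ ⁻¹ᵁ X.basicOpen g) := by
      have : Nonempty ↥(σ ⁻¹ᵁ X.basicOpen g) := ⟨⟨z, hz₁⟩⟩
      infer_instance
    exact one_ne_zero h1
  · rw [Scheme.Hom.ker_apply, hk₁, ← hkerτ, hspan]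

end Groth.Agent.Lib.Helper5.SecReg
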