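import Groth.Agent.Lib.Helper5.GorIso
import Groth.Agent.Lib.Helper21.DepthKit1
import Groth.Agent.Lib.Helper12.CohenStructB
import Groth.Agent.S0341
import Groth.Agent.S0343
import Groth.Agent.S0395

set_option autoImplicit false
set_option linter.unusedSectionVars false
universe u

namespace Groth.Agent.Lib.Helper5.GorFactor

open IsLocalRing Groth.Agent.Lib.Helper12

/-- a Gorenstein local ring of positive dimension has a regular element in its maximal ideal -/
theorem exists_regular_of_dim_pos (F : Type u) [CommRing F] [hG : LocCoh.IsGorensteinLocalRing F]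
    (h : ¬ ringKrullDim F ≤ 0) : ∃ r ∈ maximalIdeal F, IsSMulRegular F r := by
  have hCM := Groth.Agent.S0341.result F
  have h1 : Module.supportDim F F = ((LocCoh.depth F F : ℕ∞) : WithBot ℕ∞) :=
    hCM.supportDim_eq_depth
  rw [Module.supportDim_self_eq_ringKrullDim] at h1
  have h2 : (1 : ℕ∞) ≤ LocCoh.depth F F := by
    rw [ENat.one_le_iff_ne_zero]
    intro h0
    apply h
    rw [h1, h0]
    rfl
  obtain ⟨rs, hlen, hm, hreg⟩ :=
    (Groth.Agent.Lib.Helper21.DepthKit.natCast_le_depth_iff (A := F) (M := F) 1).1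
      (by exact_mod_cast h2)
  match rs, hlen, hm, hreg with
  | [r], _, hm, hreg =>
    refine ⟨r, hm r (List.mem_singleton.2 rfl), ?_⟩
    exact ((RingTheory.Sequence.isWeaklyRegular_cons_iff F r []).1 hreg).1

theorem isLocalRing_quotient {D : Type*} [CommRing D] [IsLocalRing D] (K : Ideal D)
    (hK : K ≤ maximalIdeal D) : IsLocalRing (D ⧸ K) := by
  have hne : K ≠ ⊤ := ne_top_of_le_ne_top (maximalIdeal.isMaximal D).ne_top hK
  have _ : Nontrivial (D ⧸ K) := Ideal.Quotient.nontrivial_iff.2 hne
  exact IsLocalRing.of_surjective' (Ideal.Quotient.mk K) Ideal.Quotient.mk_surjective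

section Art

variable {A C : Type u} [CommRing A] [IsLocalRing A] [IsArtinianRing A]
  [CommRing C] [IsLocalRing C] [IsNoetherianRing C] [Algebra A C] [IsLocalHom (algebraMap A C)]

theorem map_le_maximalIdeal : (maximalIdeal A).map (algebraMap A C) ≤ maximalIdeal C :=
  ((local_hom_TFAE (algebraMap A C)).out 0 2).1 ‹_›

/-- a Noetherian local algebra over an Artinian local ring with zero-dimensional closed fibre is
Artinian -/
theorem isArtinianRing_of_fibre [IsLocalRing (C ⧸ (maximalIdeal A).map (algebraMap A C))]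
    (h : ringKrullDim (C ⧸ (maximalIdeal A).map (algebraMap A C)) ≤ 0) : IsArtinianRing C := by
  set I := (maximalIdeal A).map (algebraMap A C) with hI
  have hK : Ring.KrullDimLE 0 (C ⧸ I) := Ring.krullDimLE_iff.2 (by exact_mod_cast h)
  have hArtF : IsArtinianRing (C ⧸ I) := isArtinianRing_iff_krullDimLE_zero.2 hK
  obtain ⟨a, ha⟩ := (isArtinianRing_iff_isNilpotent_maximalIdeal (C ⧸ I)).1 hArtF
  obtain ⟨b, hb⟩ := (isArtinianRing_iff_isNilpotent_maximalIdeal A).1 inferInstance
  have hmF : (maximalIdeal C).map (Ideal.Quotient.mk I) = maximalIdeal (C ⧸ I) :=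
    CohenStruct.map_maximalIdeal_of_surjective _ Ideal.Quotient.mk_surjective
  have h1 : maximalIdeal C ^ a ≤ I := by
    intro x hx
    have h2 : Ideal.Quotient.mk I x ∈ maximalIdeal (C ⧸ I) ^ a := by
      rw [← hmF, ← Ideal.map_pow]
      exact Ideal.mem_map_of_mem _ hx
    rw [ha] at h2
    exact Ideal.Quotient.eq_zero_iff_mem.1 h2
  have h3 : I ^ b = ⊥ := by
    rw [hI, ← Ideal.map_pow, hb, Ideal.zero_eq_bot, Ideal.map_bot]
  rw [isArtinianRing_iff_isNilpotent_maximalIdeal]
  refine ⟨a * b, ?_⟩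
  rw [Ideal.zero_eq_bot, eq_bot_iff, pow_mul, ← h3]
  exact Ideal.pow_right_mono h1 b

end Art

end Groth.Agent.Lib.Helper5.GorFactor
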