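import Mathlib
import Groth.Prelude
import Groth.Agent.Lib.helper11.GorHull
import Groth.Agent.Lib.Helper7.DefModScalar

set_option autoImplicit false

namespace Groth.Agent.Lib.Helper5.GorFlat

open CategoryTheory Abelian TensorProduct IsLocalRing

universe u

section Socle

variable (A : Type u) [CommRing A] [IsLocalRing A] [IsNoetherianRing A]

/-- A zero-dimensional Gorenstein local ring has a simple socle. -/
theorem exists_socle_generator (hG : LocCoh.IsGorensteinLocalRing A) (h0 : ringKrullDim A = 0) :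
    ∃ s : A, (∀ a : A, a * s = 0 ↔ a ∈ maximalIdeal A) ∧
      ∀ t : A, (∀ a ∈ maximalIdeal A, a * t = 0) → ∃ c : A, t = c * s := by
  have hlen := Groth.Agent.Lib.helper11.GorHull.gor_type_one (R := A)
    hG.exists_hasInjectiveDimensionLT 0 (by rw [h0]; rfl)
  let e₁ : Ext (ModuleCat.of A (ResidueField A)) (ModuleCat.of A A) 0 ≃ₗ[A]
      (ResidueField A →ₗ[A] A) :=
    (Ext.linearEquiv₀ (R := A)) ≪≫ₗ
      (ModuleCat.homLinearEquiv (M := ModuleCat.of A (ResidueField A)) (N := ModuleCat.of A A)
        (S := A))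
  rw [e₁.length_eq] at hlen
  have hsimple : IsSimpleModule A (ResidueField A →ₗ[A] A) := Module.length_eq_one_iff.1 hlen
  -- homs from socle elements
  have hker : ∀ t : A, (∀ a ∈ maximalIdeal A, a * t = 0) →
      maximalIdeal A ≤ LinearMap.ker (LinearMap.toSpanSingleton A A t) := by
    intro t ht a ha
    rw [LinearMap.mem_ker, LinearMap.toSpanSingleton_apply, smul_eq_mul]
    exact ht a ha
  let φ : ∀ t : A, (∀ a ∈ maximalIdeal A, a * t = 0) → (ResidueField A →ₗ[A] A) :=
    fun t ht => Submodule.liftQ (maximalIdeal A) (LinearMap.toSpanSingleton A A t) (hker t ht)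
  have hφ1 : ∀ t ht, φ t ht (residue A 1) = t := by
    intro t ht
    change Submodule.liftQ (maximalIdeal A) (LinearMap.toSpanSingleton A A t) (hker t ht)
      (Submodule.Quotient.mk 1) = t
    rw [Submodule.liftQ_apply, LinearMap.toSpanSingleton_apply, one_smul]
  have hnt : Nontrivial (ResidueField A →ₗ[A] A) := IsSimpleModule.nontrivial A _
  obtain ⟨φ₀, hφ₀⟩ := exists_ne (0 : ResidueField A →ₗ[A] A)
  have hval : ∀ (ψ : ResidueField A →ₗ[A] A) (a : A), ψ (residue A a) = a * ψ (residue A 1) := by
    intro ψ a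
    have : residue A a = a • residue A 1 := by
      rw [Algebra.smul_def, map_one, mul_one]
      rfl
    rw [this, map_smul, smul_eq_mul]
  set s := φ₀ (residue A 1) with hs
  have hs0 : s ≠ 0 := by
    intro h
    apply hφ₀
    ext x
    obtain ⟨a, rfl⟩ := residue_surjective x
    rw [hval, ← hs, h, mul_zero, LinearMap.zero_apply]
  have hsoc : ∀ a ∈ maximalIdeal A, a * s = 0 := by
    intro a ha
    rw [hs, ← hval, (residue_eq_zero_iff a).2 ha, map_zero]
  refine ⟨s, fun a => ⟨fun h => ?_, hsoc a⟩, fun t ht => ?_⟩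
  · by_contra hna
    have hu : IsUnit a := by
      by_contra hnu
      exact hna ((mem_maximalIdeal a).2 hnu)
    exact hs0 (hu.mul_right_eq_zero.1 h)
  · have htop : Submodule.span A {φ₀} = ⊤ := by
      rcases eq_bot_or_eq_top (Submodule.span A {φ₀}) with h | h
      · exact absurd ((Submodule.span_singleton_eq_bot).1 h) hφ₀
      · exact h
    have hmem : φ t ht ∈ Submodule.span A {φ₀} := by
      rw [htop]
      trivial
    obtain ⟨c, hc⟩ := Submodule.mem_span_singleton.1 hmem
    refine ⟨c, ?_⟩
    rw [← hφ1 t ht, ← hc, LinearMap.smul_apply, smul_eq_mul]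

end Socle

end Groth.Agent.Lib.Helper5.GorFlat
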