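import Mathlib
import Groth.Prelude
import Groth.Agent.Lib.helper11.ExtBC
import Groth.Agent.Lib.helper11.InjDimKappa
import Groth.Agent.Lib.helper11.BassDepth

set_option autoImplicit false

namespace Groth.Agent.Lib.Helper5.GorFlat

open CategoryTheory Abelian TensorProduct IsLocalRing

universe u

variable (A B : Type u) [CommRing A] [CommRing B] [Algebra A B]

/-- `B ⊗[A] A ≅ B` in `ModuleCat B`. -/
noncomputable def tensorSelfIso : ModuleCat.of B (B ⊗[A] A) ≅ ModuleCat.of B B :=
  (TensorProduct.AlgebraTensorModule.rid A B B).toModuleIso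

variable [IsLocalRing A] [IsNoetherianRing A] [IsLocalRing B] [IsNoetherianRing B]
  [IsLocalHom (algebraMap A B)] [Module.Flat A B]

/-- Descent of the Gorenstein property along a flat local homomorphism. -/
theorem isGorensteinLocalRing_of_flat (hB : LocCoh.IsGorensteinLocalRing B) :
    LocCoh.IsGorensteinLocalRing A := by
  obtain ⟨n, hn⟩ := hB.exists_hasInjectiveDimensionLT
  have hff : Module.FaithfullyFlat A B := Module.FaithfullyFlat.of_flat_of_isLocalHom
  have key : ∀ i : ℕ, n ≤ i →
      Subsingleton (Ext (ModuleCat.of A (ResidueField A)) (ModuleCat.of A A) i) := by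
    intro i hi
    obtain ⟨e⟩ := Groth.Agent.Lib.helper11.ExtBC.ext_baseChange A B A i (ResidueField A)
    have h0 : Subsingleton (Ext (ModuleCat.of B (B ⊗[A] ResidueField A)) (ModuleCat.of B B) i) :=
      HasInjectiveDimensionLT.subsingleton (ModuleCat.of B B) n i hi _
    have h1 : Subsingleton (Ext (ModuleCat.of B (B ⊗[A] ResidueField A))
        (ModuleCat.of B (B ⊗[A] A)) i) :=
      Groth.Agent.Lib.helper11.BassDepth.subsingleton_ext_of_iso (Iso.refl _)
        (tensorSelfIso A B) h0
    have h2 : Subsingleton (B ⊗[A] Ext (ModuleCat.of A (ResidueField A)) (ModuleCat.of A A) i) :=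
      e.toEquiv.subsingleton
    exact Module.FaithfullyFlat.lTensor_reflects_triviality A B _
  have hfin := (Groth.Agent.Lib.helper11.InjDimKappa.exists_hasInjectiveDimensionLT_iff
    (A := A) A).2 ⟨n, key⟩
  exact { exists_hasInjectiveDimensionLT := hfin }

end Groth.Agent.Lib.Helper5.GorFlat
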