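import Mathlib
import Groth.Agent.Lib.Helper21.ReesExt
import Groth.Agent.Lib.helper11.ExtShift

set_option autoImplicit false

namespace Groth.Agent.Lib.Helper5.GorFlat

open CategoryTheory Abelian

universe u

section ChangeOfRings

variable {B F : Type u} [CommRing B] [CommRing F] (f : B →+* F)

/-- Restriction of scalars along `f`. -/
noncomputable abbrev Res : ModuleCat.{u} F ⥤ ModuleCat.{u} B := ModuleCat.restrictScalars f

lemma shortExact_map_Res {S : ShortComplex (ModuleCat.{u} F)} (hS : S.ShortExact) :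
    (S.map (Res f)).ShortExact := by
  have h1 := (ShortComplex.ShortExact.moduleCat_exact_iff_function_exact S).1 hS.exact
  have h2 := (ModuleCat.mono_iff_injective S.f).1 hS.mono_f
  have h3 := (ModuleCat.epi_iff_surjective S.g).1 hS.epi_g
  exact ModuleCat.shortComplex_shortExact _ h1 h2 h3

variable {Y : ModuleCat.{u} B} {Ybar : ModuleCat.{u} F} (ι : (Res f).obj Ybar ⟶ Y)

/-- Composition with `ι`. -/
noncomputable def Phi (N : ModuleCat.{u} F) (ψ : N ⟶ Ybar) : (Res f).obj N ⟶ Y :=
  (Res f).map ψ ≫ ι

lemma Phi_natural {N N' : ModuleCat.{u} F} (α : N' ⟶ N) (ψ : N ⟶ Ybar) :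
    Phi f ι N' (α ≫ ψ) = (Res f).map α ≫ Phi f ι N ψ := by
  unfold Phi
  rw [Functor.map_comp, Category.assoc]

open Groth.Agent.Lib.Helper21.ReesExt Groth.Agent.Lib.helper11.ExtShift in
/-- Change of rings, vanishing form. -/
theorem subsingleton_ext_iff [IsNoetherianRing F]
    (hfree : ∀ n k : ℕ,
      Subsingleton (Ext ((Res f).obj (ModuleCat.of F (Fin n → F))) Y (k + 1)))
    (hΦ : ∀ (N : Type u) [AddCommGroup N] [Module F N] [Module.Finite F N],
      Function.Bijective (Phi f ι (ModuleCat.of F N))) (i : ℕ) :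
    ∀ (N : Type u) [AddCommGroup N] [Module F N] [Module.Finite F N],
      (Subsingleton (Ext ((Res f).obj (ModuleCat.of F N)) Y i) ↔
        Subsingleton (Ext (ModuleCat.of F N) Ybar i)) := by
  induction i with
  | zero =>
    intro N _ _ _
    have e1 : (ModuleCat.of F N ⟶ Ybar) ≃ ((Res f).obj (ModuleCat.of F N) ⟶ Y) :=
      Equiv.ofBijective _ (hΦ N)
    have e2 : (ModuleCat.of F N ⟶ Ybar) ≃ Ext (ModuleCat.of F N) Ybar 0 :=
      Equiv.ofBijective _ (Ext.mk₀_bijective _ _)
    have e3 : ((Res f).obj (ModuleCat.of F N) ⟶ Y) ≃ Ext ((Res f).obj (ModuleCat.of F N)) Y 0 :=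
      Equiv.ofBijective _ (Ext.mk₀_bijective _ _)
    exact ((e3.symm.trans e1.symm).trans e2).subsingleton_congr
  | succ i ih =>
    intro N _ _ _
    obtain ⟨n, g, hg⟩ := Module.Finite.exists_fin' F N
    let K := LinearMap.ker g
    have hi : Function.Injective K.subtype := Submodule.subtype_injective K
    have hex : Function.Exact K.subtype g := LinearMap.exact_subtype_ker_map g
    have hSN : (sc K.subtype g hex).ShortExact := sc_shortExact K.subtype g hi hg hex
    have hSF := shortExact_map_Res f hSN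
    have hproj : Projective (ModuleCat.of F (Fin n → F)) :=
      (IsProjective.iff_projective (R := F) (P := (Fin n → F))).mp inferInstance
    have hP : ∀ k, Subsingleton (Ext (ModuleCat.of F (Fin n → F)) Ybar (k + 1)) := fun k =>
      ⟨fun a b => by rw [Ext.eq_zero_of_projective a, Ext.eq_zero_of_projective b]⟩
    rcases i with _ | i
    · have hA := subsingleton_X₃_succ_iff_surjective hSF Y 0 (hfree n 0)
      have hB := subsingleton_X₃_succ_iff_surjective hSN Ybar 0 (hP 0)
      refine hA.trans (Iff.trans ?_ hB.symm)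
      have hC : Function.Surjective
            (fun ψ : ModuleCat.of F (Fin n → F) ⟶ Ybar => (sc K.subtype g hex).f ≫ ψ) ↔
          Function.Surjective
            (fun φ : (Res f).obj (ModuleCat.of F (Fin n → F)) ⟶ Y =>
              (Res f).map (sc K.subtype g hex).f ≫ φ) :=
        surjective_iff_of_square _ _ (Phi f ι _) (Phi f ι _) (hΦ _) (hΦ K)
          (fun ψ => Phi_natural f ι _ ψ)
      have hD : Function.Surjective
            (fun ψ : ModuleCat.of F (Fin n → F) ⟶ Ybar => (sc K.subtype g hex).f ≫ ψ) ↔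
          Function.Surjective (fun e : Ext (sc K.subtype g hex).X₂ Ybar 0 =>
            (Ext.mk₀ (sc K.subtype g hex).f).comp e (zero_add 0)) :=
        surjective_iff_of_square _ _ Ext.mk₀ Ext.mk₀
          (Ext.mk₀_bijective _ _) (Ext.mk₀_bijective _ _)
          (fun ψ => (Ext.mk₀_comp_mk₀ _ _).symm)
      have hE : Function.Surjective
            (fun φ : (Res f).obj (ModuleCat.of F (Fin n → F)) ⟶ Y =>
              (Res f).map (sc K.subtype g hex).f ≫ φ) ↔
          Function.Surjective (fun e : Ext ((sc K.subtype g hex).map (Res f)).X₂ Y 0 =>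
            (Ext.mk₀ ((sc K.subtype g hex).map (Res f)).f).comp e (zero_add 0)) :=
        surjective_iff_of_square _ _ Ext.mk₀ Ext.mk₀
          (Ext.mk₀_bijective _ _) (Ext.mk₀_bijective _ _)
          (fun ψ => (Ext.mk₀_comp_mk₀ _ _).symm)
      exact hE.symm.trans (hC.symm.trans hD)
    · have hA := subsingleton_X₃_succ_iff hSF Y (i + 1) (hfree n i) (hfree n (i + 1))
      have hB := subsingleton_X₃_succ_iff hSN Ybar (i + 1) (hP i) (hP (i + 1))
      exact hA.trans ((ih K).trans hB.symm)

end ChangeOfRings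

end Groth.Agent.Lib.Helper5.GorFlat
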