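import Mathlib
import Groth.Agent.Lib.Helper7.DefModScalar

set_option autoImplicit false

namespace Groth.Agent.Lib.Helper5.GorFlat

open TensorProduct IsLocalRing

universe u

section SocleBC

variable {A B : Type u} [CommRing A] [IsLocalRing A] [IsNoetherianRing A] [CommRing B]
  [Algebra A B] [Module.Flat A B] (s : A)

include s in
theorem mem_map_of_mul_eq_zero (hs1 : ∀ a : A, a * s = 0 ↔ a ∈ maximalIdeal A) (b : B)
    (hb : algebraMap A B s * b = 0) : b ∈ (maximalIdeal A).map (algebraMap A B) := by
  have h1 : s • b ∈ (⊥ : Ideal A) • (⊤ : Submodule A B) := by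
    rw [Submodule.bot_smul, Submodule.mem_bot, Algebra.smul_def]
    exact hb
  have h2 := Groth.Agent.Lib.Helper7.DefMod.mem_colon_smul_of_flat ⊥ s b h1
  have h3 : Groth.Agent.Lib.Helper7.DefMod.colonElt (⊥ : Ideal A) s = maximalIdeal A := by
    ext a
    rw [Groth.Agent.Lib.Helper7.DefMod.mem_colonElt, Ideal.mem_bot, mul_comm, hs1]
  rw [h3, Ideal.smul_top_eq_map] at h2
  exact h2

theorem exists_mul_of_annihilates (hs1 : ∀ a : A, a * s = 0 ↔ a ∈ maximalIdeal A)
    (hs2 : ∀ t : A, (∀ a ∈ maximalIdeal A, a * t = 0) → ∃ c : A, t = c * s) (b : B)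
    (hb : ∀ a ∈ maximalIdeal A, algebraMap A B a * b = 0) :
    ∃ c : B, b = algebraMap A B s * c := by
  obtain ⟨r, g, hg⟩ := Submodule.fg_iff_exists_fin_generating_family.1
    (IsNoetherian.noetherian (maximalIdeal A))
  have hgm : ∀ j, g j ∈ maximalIdeal A := fun j => by
    rw [← hg]
    exact Submodule.subset_span ⟨j, rfl⟩
  let μ : A →ₗ[A] A := LinearMap.toSpanSingleton A A s
  let ν : A →ₗ[A] (Fin r → A) := LinearMap.pi (fun j => LinearMap.toSpanSingleton A A (g j))
  have hμ : ∀ a, μ a = a * s := fun a => by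
    change a • s = a * s
    rfl
  have hν : ∀ a j, ν a j = a * g j := fun a j => by
    change a • g j = a * g j
    rfl
  have hex : Function.Exact μ ν := by
    intro t
    constructor
    · intro ht
      have hann : ∀ a ∈ maximalIdeal A, a * t = 0 := by
        intro a ha
        rw [← hg] at ha
        induction ha using Submodule.span_induction with
        | mem x hx =>
          obtain ⟨j, rfl⟩ := hx
          have := congrFun ht j
          rw [hν] at this
          rw [mul_comm]
          exact this
        | zero => exact zero_mul t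
        | add x y _ _ hx hy => rw [add_mul, hx, hy, add_zero]
        | smul c x _ hx => rw [smul_eq_mul, mul_assoc, hx, mul_zero]
      obtain ⟨c, hc⟩ := hs2 t hann
      exact ⟨c, by rw [hμ, hc]⟩
    · rintro ⟨c, rfl⟩
      funext j
      rw [hν, hμ, mul_assoc, mul_comm s, (hs1 (g j)).2 (hgm j), mul_zero]
      rfl
  have hexB : Function.Exact (μ.lTensor B) (ν.lTensor B) := Module.Flat.lTensor_exact B hex
  have h0 : (ν.lTensor B) (b ⊗ₜ[A] (1 : A)) = 0 := by
    rw [LinearMap.lTensor_tmul]
    have h1 : ν 1 = ∑ j, g j • (Pi.single j (1 : A) : Fin r → A) := by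
      funext k
      rw [hν, one_mul, Finset.sum_apply]
      simp [Pi.single_apply]
    rw [h1, TensorProduct.tmul_sum]
    refine Finset.sum_eq_zero fun j _ => ?_
    rw [TensorProduct.tmul_smul, TensorProduct.smul_tmul', Algebra.smul_def, hb _ (hgm j),
      TensorProduct.zero_tmul]
  obtain ⟨z, hz⟩ := (hexB (b ⊗ₜ[A] (1 : A))).1 h0
  have key : ∀ z : B ⊗[A] A, TensorProduct.rid A B ((μ.lTensor B) z) =
      algebraMap A B s * TensorProduct.rid A B z := by
    intro z
    induction z using TensorProduct.induction_on with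
    | zero => simp
    | tmul x a =>
      rw [LinearMap.lTensor_tmul, TensorProduct.rid_tmul, TensorProduct.rid_tmul, hμ,
        mul_comm a s, mul_smul, Algebra.smul_def s]
    | add x y hx hy => rw [map_add, map_add, hx, hy, map_add, mul_add]
  refine ⟨TensorProduct.rid A B z, ?_⟩
  have h2 := congrArg (TensorProduct.rid A B) hz
  rw [key, TensorProduct.rid_tmul, one_smul] at h2
  exact h2.symm

end SocleBC

end Groth.Agent.Lib.Helper5.GorFlat
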