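import Mathlib
import Groth.Agent.Lib.Helper5.GorFlatA
import Groth.Agent.Lib.Helper5.GorFlatD

set_option autoImplicit false

namespace Groth.Agent.Lib.Helper5.GorFlat

open CategoryTheory Abelian TensorProduct IsLocalRing

universe u

section Iota

variable {A B : Type u} [CommRing A] [IsLocalRing A] [IsNoetherianRing A] [CommRing B]
  [Algebra A B] [Module.Flat A B] (s : A)

variable (A B) in
/-- The extension of the maximal ideal. -/
abbrev mB : Ideal B := (maximalIdeal A).map (algebraMap A B)

lemma mB_le_ker (hs1 : ∀ a : A, a * s = 0 ↔ a ∈ maximalIdeal A) :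
    mB A B ≤ LinearMap.ker (LinearMap.mulLeft B (algebraMap A B s)) := by
  change Ideal.map (algebraMap A B) (maximalIdeal A) ≤
    (LinearMap.ker (LinearMap.mulLeft B (algebraMap A B s)) : Ideal B)
  rw [Ideal.map_le_iff_le_comap]
  intro a ha
  rw [Ideal.mem_comap]
  change (LinearMap.mulLeft B (algebraMap A B s)) (algebraMap A B a) = 0
  rw [LinearMap.mulLeft_apply, ← map_mul, mul_comm, (hs1 a).2 ha, map_zero]

/-- Multiplication by the socle generator, on the closed fibre. -/
noncomputable def iotaLin (hs1 : ∀ a : A, a * s = 0 ↔ a ∈ maximalIdeal A) :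
    (B ⧸ mB A B) →ₗ[B] B :=
  Submodule.liftQ (mB A B) (LinearMap.mulLeft B (algebraMap A B s)) (mB_le_ker s hs1)

lemma iotaLin_mk (hs1 : ∀ a : A, a * s = 0 ↔ a ∈ maximalIdeal A) (y : B) :
    iotaLin s hs1 (Ideal.Quotient.mk (mB A B) y) = algebraMap A B s * y := rfl

lemma iotaLin_injective (hs1 : ∀ a : A, a * s = 0 ↔ a ∈ maximalIdeal A) :
    Function.Injective (iotaLin (B := B) s hs1) := by
  rw [injective_iff_map_eq_zero]
  intro x hx
  obtain ⟨y, rfl⟩ := Ideal.Quotient.mk_surjective x
  rw [iotaLin_mk] at hx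
  exact Ideal.Quotient.eq_zero_iff_mem.2 (mem_map_of_mul_eq_zero s hs1 y hx)

/-- `ι` as a morphism of `B`-modules out of the restriction of scalars. -/
noncomputable def iota (hs1 : ∀ a : A, a * s = 0 ↔ a ∈ maximalIdeal A) :
    (Res (Ideal.Quotient.mk (mB A B))).obj (ModuleCat.of (B ⧸ mB A B) (B ⧸ mB A B)) ⟶
      ModuleCat.of B B :=
  ModuleCat.ofHom
    { toFun := fun x => iotaLin s hs1 x
      map_add' := fun x y => map_add (iotaLin s hs1) x y
      map_smul' := fun b x => by
        obtain ⟨y, rfl⟩ := Ideal.Quotient.mk_surjective (I := mB A B) x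
        change iotaLin s hs1 (Ideal.Quotient.mk (mB A B) b * Ideal.Quotient.mk (mB A B) y) =
          b * iotaLin s hs1 (Ideal.Quotient.mk (mB A B) y)
        rw [← map_mul, iotaLin_mk, iotaLin_mk]
        ring }

lemma iota_apply (hs1 : ∀ a : A, a * s = 0 ↔ a ∈ maximalIdeal A) (x : B ⧸ mB A B) :
    (iota (B := B) s hs1).hom x = iotaLin s hs1 x := rfl

theorem Phi_bijective (hs1 : ∀ a : A, a * s = 0 ↔ a ∈ maximalIdeal A)
    (hs2 : ∀ t : A, (∀ a ∈ maximalIdeal A, a * t = 0) → ∃ c : A, t = c * s)
    (N : Type u) [AddCommGroup N] [Module (B ⧸ mB A B) N] :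
    Function.Bijective (Phi (Ideal.Quotient.mk (mB A B)) (iota (B := B) s hs1)
      (ModuleCat.of (B ⧸ mB A B) N)) := by
  constructor
  · intro ψ ψ' h
    ext n
    apply iotaLin_injective s hs1
    have := congrArg (fun g => g.hom n) h
    exact this
  · intro φ
    have hann : ∀ n : N, ∀ a ∈ maximalIdeal A, algebraMap A B a * φ.hom n = 0 := by
      intro n a ha
      have h1 : algebraMap A B a * φ.hom n = φ.hom
          ((algebraMap A B a) • (show ((Res (Ideal.Quotient.mk (mB A B))).obj
            (ModuleCat.of (B ⧸ mB A B) N)) from n)) :=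
        (map_smul φ.hom (algebraMap A B a) _).symm
      have h2 : ((algebraMap A B a) • (show ((Res (Ideal.Quotient.mk (mB A B))).obj
            (ModuleCat.of (B ⧸ mB A B) N)) from n)) = 0 := by
        change Ideal.Quotient.mk (mB A B) (algebraMap A B a) • n = 0
        rw [Ideal.Quotient.eq_zero_iff_mem.2 (Ideal.mem_map_of_mem _ ha), zero_smul]
      rw [h1, h2, map_zero]
    have hex : ∀ n : N, ∃ c : B ⧸ mB A B, iotaLin s hs1 c = φ.hom n := by
      intro n
      obtain ⟨c, hc⟩ := exists_mul_of_annihilates s hs1 hs2 (φ.hom n) (hann n)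
      exact ⟨Ideal.Quotient.mk _ c, by rw [iotaLin_mk, hc]⟩
    choose ψ₀ hψ₀ using hex
    let ψ : N →ₗ[B ⧸ mB A B] (B ⧸ mB A B) :=
      { toFun := ψ₀
        map_add' := fun n n' => by
          apply iotaLin_injective s hs1
          rw [map_add, hψ₀, hψ₀, hψ₀]
          exact map_add φ.hom n n'
        map_smul' := fun r n => by
          apply iotaLin_injective s hs1
          obtain ⟨b, rfl⟩ := Ideal.Quotient.mk_surjective r
          rw [RingHom.id_apply, hψ₀]
          have h1 : iotaLin s hs1 (Ideal.Quotient.mk (mB A B) b • ψ₀ n) =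
              b * iotaLin s hs1 (ψ₀ n) := by
            obtain ⟨y, hy⟩ := Ideal.Quotient.mk_surjective (ψ₀ n)
            rw [← hy, smul_eq_mul, ← map_mul, iotaLin_mk, iotaLin_mk]
            ring
          rw [h1, hψ₀]
          exact map_smul φ.hom b (show ((Res (Ideal.Quotient.mk (mB A B))).obj
            (ModuleCat.of (B ⧸ mB A B) N)) from n) }
    refine ⟨ModuleCat.ofHom ψ, ?_⟩
    ext n
    exact hψ₀ n

end Iota

end Groth.Agent.Lib.Helper5.GorFlat
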