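import Mathlib
import Groth.Agent.Lib.Helper5.GorFlatB
import Groth.Agent.Lib.Helper5.GorFlatE

set_option autoImplicit false

namespace Groth.Agent.Lib.Helper5.GorFlat

open CategoryTheory Abelian TensorProduct IsLocalRing

universe u

section Free

variable (A B : Type u) [CommRing A] [IsLocalRing A] [IsNoetherianRing A] [CommRing B]
  [Algebra A B] [Module.Flat A B]

/-- The free module over the closed fibre, restricted to `B`, as a base change. -/
noncomputable def freeEquiv (n : ℕ) :
    ((Res (Ideal.Quotient.mk (mB A B))).obj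
      (ModuleCat.of (B ⧸ mB A B) (Fin n → B ⧸ mB A B))) ≃ₗ[B]
      B ⊗[A] (Fin n → A ⧸ maximalIdeal A) :=
  LinearEquiv.symm
    ((TensorProduct.piRight A B B (fun _ : Fin n => A ⧸ maximalIdeal A)).trans
      ((LinearEquiv.piCongrRight (fun _ : Fin n =>
        (Algebra.TensorProduct.quotIdealMapEquivTensorQuot B (maximalIdeal A)).symm.toLinearEquiv)).trans
        { toFun := fun v => v
          invFun := fun v => v
          left_inv := fun _ => rfl
          right_inv := fun _ => rfl
          map_add' := fun _ _ => rfl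
          map_smul' := fun b v => by
            funext j
            obtain ⟨y, hy⟩ := Ideal.Quotient.mk_surjective (I := mB A B) (v j)
            change b • v j = Ideal.Quotient.mk (mB A B) b * v j
            rw [← hy]
            rfl }))

theorem subsingleton_ext_free (hinj : HasInjectiveDimensionLT (ModuleCat.of A A) 1) (n k : ℕ) :
    Subsingleton (Ext ((Res (Ideal.Quotient.mk (mB A B))).obj
      (ModuleCat.of (B ⧸ mB A B) (Fin n → B ⧸ mB A B))) (ModuleCat.of B B) (k + 1)) := by
  obtain ⟨e⟩ := Groth.Agent.Lib.helper11.ExtBC.ext_baseChange A B A (k + 1)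
    (Fin n → A ⧸ maximalIdeal A)
  have h0 : Subsingleton (Ext (ModuleCat.of A (Fin n → A ⧸ maximalIdeal A)) (ModuleCat.of A A)
      (k + 1)) :=
    HasInjectiveDimensionLT.subsingleton (ModuleCat.of A A) 1 (k + 1) (by omega) _
  have h2 : Subsingleton (Ext (ModuleCat.of B (B ⊗[A] (Fin n → A ⧸ maximalIdeal A)))
      (ModuleCat.of B (B ⊗[A] A)) (k + 1)) := e.symm.toEquiv.subsingleton
  exact Groth.Agent.Lib.helper11.BassDepth.subsingleton_ext_of_iso
    (freeEquiv A B n).toModuleIso (tensorSelfIso A B).symm h2

end Free

end Groth.Agent.Lib.Helper5.GorFlat
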