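import Mathlib
import Groth.Agent.Lib.Helper5.GorFlatC
import Groth.Agent.Lib.Helper5.GorFlatF

set_option autoImplicit false
set_option linter.unusedSectionVars false

namespace Groth.Agent.Lib.Helper5.GorFlat

open CategoryTheory Abelian TensorProduct IsLocalRing

universe u

section Residue

variable {B F : Type u} [CommRing B] [IsLocalRing B] [CommRing F] [IsLocalRing F] (f : B →+* F)
  [IsLocalHom f]

/-- The map on residue fields, as a `B`-linear map. -/
noncomputable def residueLin :
    ResidueField B →ₗ[B] ((Res f).obj (ModuleCat.of F (ResidueField F))) where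
  toFun := fun x => ResidueField.map f x
  map_add' := fun x y => map_add (ResidueField.map f) x y
  map_smul' := fun b x => by
    change ResidueField.map f (b • x) = residue F (f b) * ResidueField.map f x
    rw [Algebra.smul_def, map_mul]
    rfl

/-- The residue field of a quotient, restricted, is the residue field. -/
noncomputable def residueEquiv (hf : Function.Surjective f) :
    ResidueField B ≃ₗ[B] ((Res f).obj (ModuleCat.of F (ResidueField F))) :=
  LinearEquiv.ofBijective (residueLin f)
    (by
      constructor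
      · exact (ResidueField.map f).injective
      · intro y
        obtain ⟨z, rfl⟩ := residue_surjective (show ResidueField F from y)
        obtain ⟨b, rfl⟩ := hf z
        exact ⟨residue B b, rfl⟩)

end Residue

section Base

variable (A B : Type u) [CommRing A] [IsLocalRing A] [IsNoetherianRing A] [CommRing B]
  [IsLocalRing B] [IsNoetherianRing B] [Algebra A B] [IsLocalHom (algebraMap A B)]
  [Module.Flat A B]

theorem mB_le_maximalIdeal : mB A B ≤ maximalIdeal B :=
  ((local_hom_TFAE (algebraMap A B)).out 0 2).1 ‹_›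

theorem isLocalRing_fibre : IsLocalRing (B ⧸ mB A B) := by
  have hne : mB A B ≠ ⊤ :=
    ne_top_of_le_ne_top (maximalIdeal.isMaximal B).ne_top (mB_le_maximalIdeal A B)
  have _ : Nontrivial (B ⧸ mB A B) := Ideal.Quotient.nontrivial_iff.2 hne
  exact IsLocalRing.of_surjective' (Ideal.Quotient.mk (mB A B)) Ideal.Quotient.mk_surjective

/-- The zero-dimensional case. -/
theorem gorenstein_iff_fibre_of_dim_zero (hA : LocCoh.IsGorensteinLocalRing A)
    (h0 : ringKrullDim A = 0) :
    LocCoh.IsGorensteinLocalRing B ↔ LocCoh.IsGorensteinLocalRing (B ⧸ mB A B) := by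
  have hlocF : IsLocalRing (B ⧸ mB A B) := isLocalRing_fibre A B
  have _ : IsLocalHom (Ideal.Quotient.mk (mB A B)) :=
    IsLocalHom.of_surjective _ Ideal.Quotient.mk_surjective
  obtain ⟨s, hs1, hs2⟩ := exists_socle_generator A hA h0
  have hinj1 : HasInjectiveDimensionLT (ModuleCat.of A A) (0 + 1) :=
    (Groth.Agent.Lib.helper11.GorensteinLocal.gorenstein_main
      hA.exists_hasInjectiveDimensionLT 0 (by rw [h0]; rfl)).1
  have key := fun i => subsingleton_ext_iff (Ideal.Quotient.mk (mB A B)) (iota (B := B) s hs1)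
    (subsingleton_ext_free A B hinj1) (fun N _ _ _ => Phi_bijective s hs1 hs2 N) i
    (ResidueField (B ⧸ mB A B))
  have hiso : ModuleCat.of B (ResidueField B) ≅
      (Res (Ideal.Quotient.mk (mB A B))).obj
        (ModuleCat.of (B ⧸ mB A B) (ResidueField (B ⧸ mB A B))) :=
    (residueEquiv (Ideal.Quotient.mk (mB A B)) Ideal.Quotient.mk_surjective).toModuleIso
  have hiff : ∀ i, Subsingleton (Ext (ModuleCat.of B (ResidueField B)) (ModuleCat.of B B) i) ↔
      Subsingleton (Ext (ModuleCat.of (B ⧸ mB A B) (ResidueField (B ⧸ mB A B)))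
        (ModuleCat.of (B ⧸ mB A B) (B ⧸ mB A B)) i) := fun i =>
    (Groth.Agent.Lib.helper11.BassDepth.subsingleton_ext_iff_of_iso hiso (Iso.refl _)).trans
      (key i)
  constructor
  · intro hB
    obtain ⟨N0, hN0⟩ := (Groth.Agent.Lib.helper11.InjDimKappa.exists_hasInjectiveDimensionLT_iff
      (A := B) B).1 hB.exists_hasInjectiveDimensionLT
    have hfin := (Groth.Agent.Lib.helper11.InjDimKappa.exists_hasInjectiveDimensionLT_iff
      (A := B ⧸ mB A B) (B ⧸ mB A B)).2 ⟨N0, fun i hi => (hiff i).1 (hN0 i hi)⟩
    exact { exists_hasInjectiveDimensionLT := hfin }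
  · intro hF
    obtain ⟨N0, hN0⟩ := (Groth.Agent.Lib.helper11.InjDimKappa.exists_hasInjectiveDimensionLT_iff
      (A := B ⧸ mB A B) (B ⧸ mB A B)).1 hF.exists_hasInjectiveDimensionLT
    have hfin := (Groth.Agent.Lib.helper11.InjDimKappa.exists_hasInjectiveDimensionLT_iff
      (A := B) B).2 ⟨N0, fun i hi => (hiff i).2 (hN0 i hi)⟩
    exact { exists_hasInjectiveDimensionLT := hfin }

end Base

end Groth.Agent.Lib.Helper5.GorFlat
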