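import Mathlib
import Groth.Agent.Lib.Helper5.GorFlatG
import Groth.Agent.Lib.Helper5.GorFactorA
import Groth.Agent.Lib.Helper5.GorIso
import Groth.Agent.S0343

set_option autoImplicit false
set_option linter.unusedSectionVars false

namespace Groth.Agent.Lib.Helper5.GorFlat

open CategoryTheory Abelian TensorProduct IsLocalRing Groth.Agent.Lib.Helper12

universe u

section Step

variable (A B : Type u) [CommRing A] [IsLocalRing A] [IsNoetherianRing A] [CommRing B]
  [IsLocalRing B] [IsNoetherianRing B] [Algebra A B] [IsLocalHom (algebraMap A B)]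
  [Module.Flat A B] (J : Ideal A)

theorem flat_quotient : Module.Flat (A ⧸ J) (B ⧸ J.map (algebraMap A B)) :=
  Module.Flat.of_linearEquiv
    (Algebra.TensorProduct.quotIdealMapEquivQuotTensor B J).toLinearEquiv

theorem map_le_maximalIdeal_of_le (hJ : J ≤ maximalIdeal A) :
    J.map (algebraMap A B) ≤ maximalIdeal B :=
  (Ideal.map_mono hJ).trans (mB_le_maximalIdeal A B)

theorem isLocalHom_quotient (hJ : J ≤ maximalIdeal A)
    [IsLocalRing (A ⧸ J)] [IsLocalRing (B ⧸ J.map (algebraMap A B))] :
    IsLocalHom (algebraMap (A ⧸ J) (B ⧸ J.map (algebraMap A B))) := by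
  have _ : IsLocalHom (Ideal.Quotient.mk (J.map (algebraMap A B))) :=
    IsLocalHom.of_surjective _ Ideal.Quotient.mk_surjective
  refine ⟨fun a ha => ?_⟩
  obtain ⟨a, rfl⟩ := Ideal.Quotient.mk_surjective a
  have h1 : IsUnit (Ideal.Quotient.mk (J.map (algebraMap A B)) (algebraMap A B a)) := ha
  have h2 : IsUnit (algebraMap A B a) := isUnit_of_map_unit _ _ h1
  have h3 : IsUnit a := isUnit_of_map_unit (algebraMap A B) _ h2
  exact h3.map _

/-- The closed fibre does not change on passing to the quotient. -/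
noncomputable def fibreEquiv (hJ : J ≤ maximalIdeal A) [IsLocalRing (A ⧸ J)] :
    ((B ⧸ J.map (algebraMap A B)) ⧸ mB (A ⧸ J) (B ⧸ J.map (algebraMap A B))) ≃+*
      (B ⧸ mB A B) :=
  (Ideal.quotEquivOfEq (by
    change Ideal.map (algebraMap (A ⧸ J) (B ⧸ J.map (algebraMap A B))) (maximalIdeal (A ⧸ J)) =
      Ideal.map (Ideal.Quotient.mk (J.map (algebraMap A B))) (mB A B)
    rw [← CohenStruct.map_maximalIdeal_of_surjective (Ideal.Quotient.mk J)
      Ideal.Quotient.mk_surjective, Ideal.map_map, Ideal.map_map]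
    rfl)).trans
    (DoubleQuot.quotQuotEquivQuotOfLE (Ideal.map_mono hJ))

end Step

section Main

theorem gorenstein_iff_fibre : ∀ (d : ℕ) (A B : Type u) [CommRing A] [IsLocalRing A]
    [IsNoetherianRing A] [CommRing B] [IsLocalRing B] [IsNoetherianRing B] [Algebra A B]
    [IsLocalHom (algebraMap A B)] [Module.Flat A B],
    LocCoh.IsGorensteinLocalRing A → ringKrullDim A = d →
    (LocCoh.IsGorensteinLocalRing B ↔ LocCoh.IsGorensteinLocalRing (B ⧸ mB A B)) := by
  intro d
  induction d with
  | zero =>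
    intro A B _ _ _ _ _ _ _ _ _ hA hd
    exact gorenstein_iff_fibre_of_dim_zero A B hA (by rw [hd]; rfl)
  | succ d ih =>
    intro A B _ _ _ _ _ _ _ _ _ hA hd
    have hpos : ¬ ringKrullDim A ≤ 0 := by
      rw [hd]
      intro h
      have : ((d + 1 : ℕ) : WithBot ℕ∞) ≤ ((0 : ℕ) : WithBot ℕ∞) := h
      rw [Nat.cast_le (α := WithBot ℕ∞)] at this
      omega
    obtain ⟨x, hxm, hxreg⟩ := GorFactor.exists_regular_of_dim_pos A hpos
    set J : Ideal A := Ideal.span {x} with hJdef
    have hJ : J ≤ maximalIdeal A := by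
      rw [hJdef, Ideal.span_le, Set.singleton_subset_iff]
      exact hxm
    have _ : IsLocalRing (A ⧸ J) := GorFactor.isLocalRing_quotient J hJ
    have _ : IsLocalRing (B ⧸ J.map (algebraMap A B)) :=
      GorFactor.isLocalRing_quotient _ (map_le_maximalIdeal_of_le A B J hJ)
    have _ : Module.Flat (A ⧸ J) (B ⧸ J.map (algebraMap A B)) := flat_quotient A B J
    have _ : IsLocalHom (algebraMap (A ⧸ J) (B ⧸ J.map (algebraMap A B))) :=
      isLocalHom_quotient A B J hJ
    have hA' : LocCoh.IsGorensteinLocalRing (A ⧸ J) :=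
      (Groth.Agent.S0343.result A x hxm hxreg).1 hA
    have hd' : ringKrullDim (A ⧸ J) = d := by
      have h1 := ringKrullDim_quotient_span_singleton_succ_eq_ringKrullDim hxreg hxm
      rw [hd] at h1
      push_cast at h1
      apply le_antisymm
      · exact ENat.WithBot.add_le_add_one_right_iff.1 h1.le
      · exact ENat.WithBot.add_le_add_one_right_iff.1 h1.ge
    have hIH := ih (A ⧸ J) (B ⧸ J.map (algebraMap A B)) hA' hd'
    -- the element in `B`
    have hym : algebraMap A B x ∈ maximalIdeal B :=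
      mB_le_maximalIdeal A B (Ideal.mem_map_of_mem _ hxm)
    have hxnzd : x ∈ nonZeroDivisors A := by
      rw [mem_nonZeroDivisors_iff_right]
      intro z hz
      apply hxreg
      change x • z = x • 0
      rw [smul_eq_mul, smul_zero, mul_comm]
      exact hz
    have hyreg : IsSMulRegular B (algebraMap A B x) := by
      have h1 : IsSMulRegular B x := Module.Flat.isSMulRegular_of_nonZeroDivisors hxnzd
      intro b b' h
      apply h1
      change x • b = x • b'
      rw [Algebra.smul_def, Algebra.smul_def]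
      exact h
    have hB := Groth.Agent.S0343.result B (algebraMap A B x) hym hyreg
    let e₁ : (B ⧸ Ideal.span {algebraMap A B x}) ≃+* (B ⧸ J.map (algebraMap A B)) :=
      Ideal.quotEquivOfEq (by rw [hJdef, Ideal.map_span, Set.image_singleton])
    have hB' : LocCoh.IsGorensteinLocalRing (B ⧸ Ideal.span {algebraMap A B x}) ↔
        LocCoh.IsGorensteinLocalRing (B ⧸ J.map (algebraMap A B)) :=
      ⟨fun h => GorIso.isGorensteinLocalRing_of_ringEquiv e₁,
        fun h => GorIso.isGorensteinLocalRing_of_ringEquiv e₁.symm⟩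
    have hF : LocCoh.IsGorensteinLocalRing ((B ⧸ J.map (algebraMap A B)) ⧸
          mB (A ⧸ J) (B ⧸ J.map (algebraMap A B))) ↔
        LocCoh.IsGorensteinLocalRing (B ⧸ mB A B) :=
      ⟨fun h => GorIso.isGorensteinLocalRing_of_ringEquiv (fibreEquiv A B J hJ),
        fun h => GorIso.isGorensteinLocalRing_of_ringEquiv (fibreEquiv A B J hJ).symm⟩
    exact hB.trans (hB'.trans (hIH.trans hF))

end Main

end Groth.Agent.Lib.Helper5.GorFlat
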