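import Groth.Agent.Lib.Helper5.StalkBCC
import Mathlib

set_option autoImplicit false
universe u

open CategoryTheory AlgebraicGeometry TensorProduct IsLocalRing

namespace Groth.Agent.Lib.Helper5.StalkBC

attribute [local instance] Curv2.stalkAlgebra

variable (k : Type u) [Field k] (X : Scheme.{u}) [X.Over (Spec (CommRingCat.of k))]
  (k' : Type u) [Field k'] [Algebra k k']

theorem fst_eq (x : X) (w : W k X k' x) :
    (Limits.pullback.fst (X.fromSpecStalk x) (Curv2.bcFst k X k')) w =
      (Spec.map (CommRingCat.ofHom (Algebra.TensorProduct.includeLeftRingHom :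
        X.presheaf.stalk x →+* (X.presheaf.stalk x) ⊗[k] k'))) ((eW k X k' x).hom w) := by
  rw [← eW_inv_fst, ← Scheme.Hom.comp_apply, Iso.hom_inv_id_assoc]

/-- every point of the base change has local ring a localization of the tensor product of the
local ring downstairs with the field extension, at a prime over the maximal ideal. -/
theorem exists_equiv_of_point (x' : Curv2.bc k X k') :
    ∃ (Q : Ideal ((X.presheaf.stalk (Curv2.bcFst k X k' x')) ⊗[k] k')) (_ : Q.IsPrime),
      Q.comap (Algebra.TensorProduct.includeLeftRingHom :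
        X.presheaf.stalk (Curv2.bcFst k X k' x') →+* _) = maximalIdeal _ ∧
      Nonempty ((Curv2.bc k X k').presheaf.stalk x' ≃+* Localization.AtPrime Q) := by
  set x := Curv2.bcFst k X k' x' with hx
  obtain ⟨w, hw1, hw2⟩ := Scheme.Pullback.exists_preimage_pullback
    (f := X.fromSpecStalk x) (g := Curv2.bcFst k X k') (closedPoint (X.presheaf.stalk x)) x'
    (by rw [Scheme.fromSpecStalk_closedPoint])
  refine ⟨(primeOf k X k' x w).asIdeal, (primeOf k X k' x w).isPrime, ?_, ?_⟩
  · have h1 := fst_eq k X k' x w
    rw [hw1] at h1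
    have h2 := congrArg PrimeSpectrum.asIdeal h1
    exact h2.symm
  · obtain ⟨e⟩ := nonempty_stalk_equiv k X k' x w
    rw [hw2] at e
    exact ⟨e⟩

/-- every prime of the tensor product over the maximal ideal comes from a point of the base
change over `x`, whose local ring is the localization at that prime. -/
theorem exists_point_of_prime (x : X) (Q : Ideal ((X.presheaf.stalk x) ⊗[k] k')) [hQ : Q.IsPrime]
    (hQm : Q.comap (Algebra.TensorProduct.includeLeftRingHom :
      X.presheaf.stalk x →+* _) = maximalIdeal _) :
    ∃ x' : Curv2.bc k X k', Curv2.bcFst k X k' x' = x ∧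
      Nonempty ((Curv2.bc k X k').presheaf.stalk x' ≃+* Localization.AtPrime Q) := by
  let q : Spec (CommRingCat.of ((X.presheaf.stalk x) ⊗[k] k')) := ⟨Q, hQ⟩
  let w : W k X k' x := (eW k X k' x).inv q
  have hprime : primeOf k X k' x w = q := by
    change (eW k X k' x).hom ((eW k X k' x).inv q) = q
    rw [← Scheme.Hom.comp_apply, Iso.inv_hom_id]
    rfl
  refine ⟨(Limits.pullback.snd (X.fromSpecStalk x) (Curv2.bcFst k X k')) w, ?_, ?_⟩
  · rw [← Scheme.Hom.comp_apply, ← Limits.pullback.condition, Scheme.Hom.comp_apply]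
    have h1 := fst_eq k X k' x w
    have h2 : (eW k X k' x).hom w = q := hprime
    rw [h2] at h1
    have h3 : (Spec.map (CommRingCat.ofHom (Algebra.TensorProduct.includeLeftRingHom :
        X.presheaf.stalk x →+* (X.presheaf.stalk x) ⊗[k] k'))) q =
        closedPoint (X.presheaf.stalk x) := by
      apply PrimeSpectrum.ext
      exact hQm
    rw [h1, h3, Scheme.fromSpecStalk_closedPoint]
  · obtain ⟨e⟩ := nonempty_stalk_equiv k X k' x w
    rw [hprime] at e
    exact ⟨e⟩

end Groth.Agent.Lib.Helper5.StalkBC
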