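import Mathlib
import Groth.Agent.Lib.Helper5.GorFibreA
import Groth.Agent.Lib.Helper5.GorFlatH
import Groth.Agent.Lib.Helper5.RegHomBasic
import Groth.Agent.S0342
import Groth.Agent.S0344

set_option autoImplicit false
set_option linter.unusedSectionVars false

namespace Groth.Agent.Lib.Helper5.GorFibre

open TensorProduct IsLocalRing Groth.Agent.Lib.Helper5.GorFlat

universe u

section Ascent

variable (A B C : Type u) [CommRing A] [CommRing B] [CommRing C] [IsNoetherianRing B]
  [IsNoetherianRing C] [Algebra A B] [Algebra B C] [Algebra A C] [IsScalarTower A B C]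

/-- The closed fibres of the local maps of a regular homomorphism are regular. -/
theorem regular_closedFibre (hBC : CAlg.IsRegularHom B C) (n : Ideal C) [n.IsPrime] :
    IsRegularLocalRing (Localization.AtPrime n ⧸
      (n.under B).map (algebraMap B (Localization.AtPrime n))) := by
  have hfib : IsRegularRing ((n.under B).Fiber C) :=
    RegHom.isRegularRing_of_geomRegular _ _ (hBC.2 (n.under B)).2
  exact quotient_localization_of_fiber B C (n.under B)
    (fun R _ => IsRegularLocalRing R)
    (fun R S _ _ e h => by
      have := h
      exact IsRegularLocalRing.of_ringEquiv e)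
    (fun q' _ => inferInstance) n

theorem gorenstein_quotient_of_regular [Module.Flat B C] (hBC : CAlg.IsRegularHom B C)
    (q : Ideal A) [q.IsPrime] (n : Ideal C) [n.IsPrime] [n.LiesOver q]
    (hB : LocCoh.IsGorensteinLocalRing (Localization.AtPrime (n.under B) ⧸
      q.map (algebraMap A (Localization.AtPrime (n.under B))))) :
    LocCoh.IsGorensteinLocalRing (Localization.AtPrime n ⧸
      q.map (algebraMap A (Localization.AtPrime n))) := by
  set p := n.under B with hp
  have hpq : p.LiesOver q := Ideal.under_liesOver_of_liesOver B n q
  let _ := Localization.AtPrime.algebraOfLiesOver p n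
  have hloc : IsLocalHom (algebraMap (Localization.AtPrime p) (Localization.AtPrime n)) := by
    rw [RingHom.algebraMap_toAlgebra]
    exact Localization.isLocalHom_localRingHom p _ (algebraMap B C) Ideal.LiesOver.over
  have hflat : Module.Flat (Localization.AtPrime p) (Localization.AtPrime n) := inferInstance
  set J : Ideal (Localization.AtPrime p) := q.map (algebraMap A (Localization.AtPrime p)) with hJ
  have hJle : J ≤ maximalIdeal (Localization.AtPrime p) := by
    rw [hJ, IsScalarTower.algebraMap_eq A B (Localization.AtPrime p), ← Ideal.map_map,
      ← Localization.AtPrime.map_eq_maximalIdeal]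
    apply Ideal.map_mono
    rw [Ideal.map_le_iff_le_comap]
    exact (Ideal.over_def p q).le
  have _ : IsLocalRing (Localization.AtPrime p ⧸ J) := GorFactor.isLocalRing_quotient J hJle
  have _ : IsLocalRing (Localization.AtPrime n ⧸
      J.map (algebraMap (Localization.AtPrime p) (Localization.AtPrime n))) :=
    GorFactor.isLocalRing_quotient _ (map_le_maximalIdeal_of_le _ _ J hJle)
  have _ : Module.Flat (Localization.AtPrime p ⧸ J) (Localization.AtPrime n ⧸
      J.map (algebraMap (Localization.AtPrime p) (Localization.AtPrime n))) :=
    flat_quotient _ _ J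
  have _ : IsLocalHom (algebraMap (Localization.AtPrime p ⧸ J) (Localization.AtPrime n ⧸
      J.map (algebraMap (Localization.AtPrime p) (Localization.AtPrime n)))) :=
    isLocalHom_quotient _ _ J hJle
  -- the closed fibre
  have hreg := regular_closedFibre B C hBC n
  have hmap : mB (Localization.AtPrime p) (Localization.AtPrime n) =
      p.map (algebraMap B (Localization.AtPrime n)) := by
    change (maximalIdeal (Localization.AtPrime p)).map _ = _
    rw [← Localization.AtPrime.map_eq_maximalIdeal, Ideal.map_map, ← IsScalarTower.algebraMap_eq]
  have hG0 : LocCoh.IsGorensteinLocalRing (Localization.AtPrime n ⧸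
      p.map (algebraMap B (Localization.AtPrime n))) := Groth.Agent.S0342.result _
  have hG1 : LocCoh.IsGorensteinLocalRing (Localization.AtPrime n ⧸
      mB (Localization.AtPrime p) (Localization.AtPrime n)) :=
    GorIso.isGorensteinLocalRing_of_ringEquiv (Ideal.quotEquivOfEq hmap.symm)
  have hG2 : LocCoh.IsGorensteinLocalRing ((Localization.AtPrime n ⧸
      J.map (algebraMap (Localization.AtPrime p) (Localization.AtPrime n))) ⧸
      mB (Localization.AtPrime p ⧸ J) (Localization.AtPrime n ⧸
        J.map (algebraMap (Localization.AtPrime p) (Localization.AtPrime n)))) :=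
    GorIso.isGorensteinLocalRing_of_ringEquiv
      (fibreEquiv (Localization.AtPrime p) (Localization.AtPrime n) J hJle).symm
  have hG3 : LocCoh.IsGorensteinLocalRing (Localization.AtPrime n ⧸
      J.map (algebraMap (Localization.AtPrime p) (Localization.AtPrime n))) :=
    (Groth.Agent.S0344.result (Localization.AtPrime p ⧸ J) (Localization.AtPrime n ⧸
      J.map (algebraMap (Localization.AtPrime p) (Localization.AtPrime n)))).2 ⟨hB, hG2⟩
  have hJmap : J.map (algebraMap (Localization.AtPrime p) (Localization.AtPrime n)) =
      q.map (algebraMap A (Localization.AtPrime n)) := by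
    rw [hJ, Ideal.map_map, ← IsScalarTower.algebraMap_eq]
  exact GorIso.isGorensteinLocalRing_of_ringEquiv (Ideal.quotEquivOfEq hJmap)

end Ascent

end Groth.Agent.Lib.Helper5.GorFibre
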