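import Mathlib
import Groth.Agent.Lib.Helper5.GorFibreB

set_option autoImplicit false
set_option linter.unusedSectionVars false

namespace Groth.Agent.Lib.Helper5.GorFibre

open TensorProduct IsLocalRing Groth.Agent.Lib.Helper5.GorFlat

universe u

/-- The Gorenstein property of rings is invariant under isomorphism. -/
theorem isGorensteinRing_of_ringEquiv {R S : Type u} [CommRing R] [CommRing S] (e : R ≃+* S)
    (h : LocCoh.IsGorensteinRing R) : LocCoh.IsGorensteinRing S := by
  have hN : IsNoetherianRing S := isNoetherianRing_of_ringEquiv R e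
  refine { isGorensteinLocalRing_localization := fun p _ => ?_ }
  have hp : (p.comap (e : R →+* S)).IsPrime := Ideal.comap_isPrime _ _
  have := h.isGorensteinLocalRing_localization (p.comap (e : R →+* S))
  exact GorIso.isGorensteinLocalRing_of_ringEquiv
    (Localization.localRingEquiv (p.comap (e : R →+* S)) p e rfl)

section Fib

variable (D T : Type u) [CommRing D] [CommRing T] [IsNoetherianRing D] [IsNoetherianRing T]
  [Algebra D T] [Module.Flat D T]

/-- The closed fibre of the local map at a prime of a flat algebra with Gorenstein local ring is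
Gorenstein. -/
theorem gorenstein_closedFibre (𝔭 : Ideal D) [𝔭.IsPrime] (n : Ideal T) [n.IsPrime] [n.LiesOver 𝔭]
    (hT : LocCoh.IsGorensteinLocalRing (Localization.AtPrime n)) :
    LocCoh.IsGorensteinLocalRing (Localization.AtPrime n ⧸
      𝔭.map (algebraMap D (Localization.AtPrime n))) := by
  let _ := Localization.AtPrime.algebraOfLiesOver 𝔭 n
  have hloc : IsLocalHom (algebraMap (Localization.AtPrime 𝔭) (Localization.AtPrime n)) := by
    rw [RingHom.algebraMap_toAlgebra]
    exact Localization.isLocalHom_localRingHom 𝔭 _ (algebraMap D T) Ideal.LiesOver.over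
  have hflat : Module.Flat (Localization.AtPrime 𝔭) (Localization.AtPrime n) := inferInstance
  have hmap : mB (Localization.AtPrime 𝔭) (Localization.AtPrime n) =
      𝔭.map (algebraMap D (Localization.AtPrime n)) := by
    change (maximalIdeal (Localization.AtPrime 𝔭)).map _ = _
    rw [← Localization.AtPrime.map_eq_maximalIdeal, Ideal.map_map, ← IsScalarTower.algebraMap_eq]
  have h1 := ((Groth.Agent.S0344.result (Localization.AtPrime 𝔭) (Localization.AtPrime n)).1 hT).2
  exact GorIso.isGorensteinLocalRing_of_ringEquiv (Ideal.quotEquivOfEq hmap)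

/-- A flat algebra with Gorenstein total space has Gorenstein fibres. -/
theorem isGorensteinRing_fiber (hT : LocCoh.IsGorensteinRing T) (𝔭 : Ideal D) [𝔭.IsPrime] :
    LocCoh.IsGorensteinRing (𝔭.Fiber T) := by
  have hN : IsNoetherianRing (𝔭.Fiber T) := isNoetherianRing_fiber D T 𝔭
  refine { isGorensteinLocalRing_localization := fun n' _ => ?_ }
  have hover := comap_includeRight_liesOver D T 𝔭 n'
  have hprime : (n'.comap (Algebra.TensorProduct.includeRight : T →ₐ[D] 𝔭.Fiber T)).IsPrime :=
    Ideal.comap_isPrime _ _
  apply localization_fiber_of_quotient D T 𝔭 (fun R _ => LocCoh.IsGorensteinLocalRing R)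
    (fun R S _ _ e h => by
      have := h
      exact GorIso.isGorensteinLocalRing_of_ringEquiv e)
  exact gorenstein_closedFibre D T 𝔭 _ (hT.isGorensteinLocalRing_localization _)

end Fib

end Groth.Agent.Lib.Helper5.GorFibre
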