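import Mathlib
import Groth.Agent.Lib.Helper5.GorFibreC

set_option autoImplicit false
set_option linter.unusedSectionVars false

namespace Groth.Agent.Lib.Helper5.GorFibre

open TensorProduct IsLocalRing Groth.Agent.Lib.Helper5.GorFlat

universe u

section Loc

variable (A T : Type u) [CommRing A] [CommRing T] [IsNoetherianRing A] [IsNoetherianRing T]
  [Algebra A T] [Module.Flat A T]

/-- For a flat algebra with Gorenstein fibre over `p`, the local rings over `p` are Gorenstein
exactly when the local ring at `p` is. -/
theorem gorenstein_localization_iff (p : Ideal A) [p.IsPrime] (n : Ideal T) [n.IsPrime]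
    [n.LiesOver p] (hfib : LocCoh.IsGorensteinRing (p.Fiber T)) :
    LocCoh.IsGorensteinLocalRing (Localization.AtPrime p) ↔
      LocCoh.IsGorensteinLocalRing (Localization.AtPrime n) := by
  let _ := Localization.AtPrime.algebraOfLiesOver p n
  have hloc : IsLocalHom (algebraMap (Localization.AtPrime p) (Localization.AtPrime n)) := by
    rw [RingHom.algebraMap_toAlgebra]
    exact Localization.isLocalHom_localRingHom p _ (algebraMap A T) Ideal.LiesOver.over
  have hflat : Module.Flat (Localization.AtPrime p) (Localization.AtPrime n) := inferInstance
  have hmap : mB (Localization.AtPrime p) (Localization.AtPrime n) =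
      p.map (algebraMap A (Localization.AtPrime n)) := by
    change (maximalIdeal (Localization.AtPrime p)).map _ = _
    rw [← Localization.AtPrime.map_eq_maximalIdeal, Ideal.map_map, ← IsScalarTower.algebraMap_eq]
  have h0 : LocCoh.IsGorensteinLocalRing (Localization.AtPrime n ⧸
      p.map (algebraMap A (Localization.AtPrime n))) :=
    quotient_localization_of_fiber A T p (fun R _ => LocCoh.IsGorensteinLocalRing R)
      (fun R S _ _ e h => by
        have := h
        exact GorIso.isGorensteinLocalRing_of_ringEquiv e)
      (fun q' _ => hfib.isGorensteinLocalRing_localization q') n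
  have h1 : LocCoh.IsGorensteinLocalRing (Localization.AtPrime n ⧸
      mB (Localization.AtPrime p) (Localization.AtPrime n)) :=
    GorIso.isGorensteinLocalRing_of_ringEquiv (Ideal.quotEquivOfEq hmap.symm)
  have h2 := Groth.Agent.S0344.result (Localization.AtPrime p) (Localization.AtPrime n)
  exact ⟨fun h => h2.2 ⟨h, h1⟩, fun h => (h2.1 h).1⟩

end Loc

section Tensor

variable (k A L : Type u) [CommRing k] [CommRing A] [CommRing L] [Algebra k A] [Algebra k L]

/-- The fibre of a base change is the base change of the residue field. -/
noncomputable def fiberTensorEquiv (p : Ideal A) [p.IsPrime] :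
    p.Fiber (A ⊗[k] L) ≃+* p.ResidueField ⊗[k] L :=
  (Algebra.TensorProduct.cancelBaseChange k A p.ResidueField p.ResidueField L).toRingEquiv

end Tensor

end Groth.Agent.Lib.Helper5.GorFibre
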