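import Mathlib
import Groth.Agent.Lib.Helper5.GorFibreD

set_option autoImplicit false
set_option linter.unusedSectionVars false

namespace Groth.Agent.Lib.Helper5.GorFibre

open TensorProduct IsLocalRing

universe u

/-- Regular rings are Gorenstein. -/
theorem isGorensteinRing_of_isRegularRing (T : Type u) [CommRing T] [hT : IsRegularRing T] :
    LocCoh.IsGorensteinRing T := by
  have hN : IsNoetherianRing T := inferInstance
  refine { isGorensteinLocalRing_localization := fun p _ => ?_ }
  have : IsRegularLocalRing (Localization.AtPrime p) := (isRegularRing_iff.1 hT) p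
  exact Groth.Agent.S0342.result _

section Field

variable (k : Type u) [Field k]

/-- Residue fields of polynomial rings over a field have Gorenstein base changes. -/
theorem isGorensteinRing_residueField_tensor (ι : Type u) [Finite ι]
    (𝔭 : Ideal (MvPolynomial ι k)) [𝔭.IsPrime] (κ : Type u) [Field κ] [Algebra k κ] :
    LocCoh.IsGorensteinRing (𝔭.ResidueField ⊗[k] κ) := by
  let e : (MvPolynomial ι k ⊗[k] κ) ≃+* MvPolynomial ι κ :=
    (Algebra.TensorProduct.comm k (MvPolynomial ι k) κ).toRingEquiv.trans
      (MvPolynomial.algebraTensorAlgEquiv k κ).toRingEquiv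
  have hreg : IsRegularRing (MvPolynomial ι κ) := inferInstance
  have hregT : IsRegularRing (MvPolynomial ι k ⊗[k] κ) := IsRegularRing.of_ringEquiv e.symm
  have hNT : IsNoetherianRing (MvPolynomial ι k ⊗[k] κ) := inferInstance
  have hG : LocCoh.IsGorensteinRing (MvPolynomial ι k ⊗[k] κ) :=
    isGorensteinRing_of_isRegularRing _
  have hfib := isGorensteinRing_fiber (MvPolynomial ι k) (MvPolynomial ι k ⊗[k] κ) hG 𝔭
  exact isGorensteinRing_of_ringEquiv (fiberTensorEquiv k (MvPolynomial ι k) κ 𝔭) hfib

end Field

end Groth.Agent.Lib.Helper5.GorFibre
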