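import Mathlib
import Groth.Agent.Lib.Helper5.GorFibreE

set_option autoImplicit false
set_option linter.unusedSectionVars false

namespace Groth.Agent.Lib.Helper5.GorFibre

open TensorProduct IsLocalRing

universe u

section Field

variable (k : Type u) [Field k]

/-- Residue fields of finite type algebras over a field have Gorenstein base changes. -/
theorem isGorensteinRing_residueField_tensor_of_finiteType (C : Type u) [CommRing C] [Algebra k C]
    [hft : Algebra.FiniteType k C] (p : Ideal C) [p.IsPrime] (k' : Type u) [Field k']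
    [Algebra k k'] : LocCoh.IsGorensteinRing (p.ResidueField ⊗[k] k') := by
  obtain ⟨s, hs⟩ := hft.out
  let φ : MvPolynomial s k →ₐ[k] C := MvPolynomial.aeval (Subtype.val : s → C)
  have hφ : Function.Surjective φ := by
    rw [← AlgHom.range_eq_top, ← Algebra.adjoin_range_eq_range_aeval, Subtype.range_coe_subtype]
    exact hs
  have h𝔭 : (p.comap φ.toRingHom).IsPrime := Ideal.comap_isPrime _ _
  have hbij : Function.Bijective (Ideal.ResidueField.mapₐ (p.comap φ.toRingHom) p φ rfl) :=
    RingHom.SurjectiveOnStalks.residueFieldMap_bijective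
      (RingHom.surjectiveOnStalks_of_surjective hφ) _ p rfl
  let e : (p.comap φ.toRingHom).ResidueField ≃ₐ[k] p.ResidueField := AlgEquiv.ofBijective _ hbij
  have h1 := isGorensteinRing_residueField_tensor k s (p.comap φ.toRingHom) k'
  exact isGorensteinRing_of_ringEquiv
    (Algebra.TensorProduct.congr e (AlgEquiv.refl : k' ≃ₐ[k] k')).toRingEquiv h1

/-- Finitely generated field extensions have Gorenstein base changes. -/
theorem isGorensteinRing_tensor_of_fg (K : Type u) [Field K] [Algebra k K]
    (hK : ∃ s : Finset K, IntermediateField.adjoin k (s : Set K) = ⊤) (κ : Type u) [Field κ]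
    [Algebra k κ] : LocCoh.IsGorensteinRing (κ ⊗[k] K) := by
  obtain ⟨s, hs⟩ := hK
  let φ : MvPolynomial s k →ₐ[k] K := MvPolynomial.aeval (Subtype.val : s → K)
  have h𝔭 : (RingHom.ker φ.toRingHom).IsPrime := RingHom.ker_isPrime _
  have hunits : (RingHom.ker φ.toRingHom).primeCompl ≤ (IsUnit.submonoid K).comap φ := by
    intro x hx
    rw [Submonoid.mem_comap, IsUnit.mem_submonoid_iff, isUnit_iff_ne_zero]
    exact hx
  let ψ : (RingHom.ker φ.toRingHom).ResidueField →ₐ[k] K :=
    Ideal.ResidueField.liftₐ (RingHom.ker φ.toRingHom) φ le_rfl hunits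
  have hψ : Function.Bijective ψ := by
    refine ⟨ψ.toRingHom.injective, ?_⟩
    rw [← AlgHom.fieldRange_eq_top, eq_top_iff, ← hs, IntermediateField.adjoin_le_iff]
    intro x hx
    refine ⟨algebraMap (MvPolynomial s k) (RingHom.ker φ.toRingHom).ResidueField
      (MvPolynomial.X (⟨x, hx⟩ : s)), ?_⟩
    change ψ (algebraMap (MvPolynomial s k) (RingHom.ker φ.toRingHom).ResidueField
      (MvPolynomial.X (⟨x, hx⟩ : s))) = x
    rw [Ideal.ResidueField.liftₐ_algebraMap]
    exact MvPolynomial.aeval_X _ _
  let e : (RingHom.ker φ.toRingHom).ResidueField ≃ₐ[k] K := AlgEquiv.ofBijective ψ hψ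
  have h1 := isGorensteinRing_residueField_tensor k s (RingHom.ker φ.toRingHom) κ
  exact isGorensteinRing_of_ringEquiv
    ((Algebra.TensorProduct.congr e (AlgEquiv.refl : κ ≃ₐ[k] κ)).toRingEquiv.trans
      (Algebra.TensorProduct.comm k K κ).toRingEquiv) h1

end Field

end Groth.Agent.Lib.Helper5.GorFibre
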