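import Mathlib
import Groth.Agent.Lib.Helper5.StalkBCA

set_option autoImplicit false
universe u

open CategoryTheory CategoryTheory.Limits AlgebraicGeometry TensorProduct IsLocalRing

namespace Groth.Agent.Lib.Helper5.FibreStalk

variable {X Y : Scheme.{u}} (f : X ⟶ Y) (x : X)

/-- the stalk of the source as an algebra over the stalk of the target -/
noncomputable abbrev stalkAlgebra : Algebra (Y.presheaf.stalk (f x)) (X.presheaf.stalk x) :=
  (f.stalkMap x).hom.toAlgebra

attribute [local instance] stalkAlgebra

/-- the tensor product of the local ring with the residue field of the image -/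
abbrev R : Type u :=
  (X.presheaf.stalk x) ⊗[Y.presheaf.stalk (f x)] (ResidueField (Y.presheaf.stalk (f x)))

/-- the fibre product of `Spec O_{X,x}` and the fibre over `X`. -/
noncomputable abbrev W : Scheme.{u} :=
  pullback (X.fromSpecStalk x) (pullback.fst f (Y.fromSpecResidueField (f x)))

theorem comp_eq : X.fromSpecStalk x ≫ f =
    Spec.map (CommRingCat.ofHom (algebraMap (Y.presheaf.stalk (f x)) (X.presheaf.stalk x))) ≫
      Y.fromSpecStalk (f x) :=
  (Scheme.SpecMap_stalkMap_fromSpecStalk f (x := x)).symm

theorem residue_eq : Y.fromSpecResidueField (f x) =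
    Spec.map (CommRingCat.ofHom (algebraMap (Y.presheaf.stalk (f x))
      (ResidueField (Y.presheaf.stalk (f x))))) ≫
      Y.fromSpecStalk (f x) := rfl

/-- pullbacks over a monomorphism -/
noncomputable def pullbackCompMonoIso {A B C D : Scheme.{u}} (a : A ⟶ C) (b : B ⟶ C) (m : C ⟶ D)
    [Mono m] : pullback (a ≫ m) (b ≫ m) ≅ pullback a b :=
  (IsPullback.of_hasPullback (a ≫ m) (b ≫ m)).isoIsPullback _ _
    (IsPullback.of_isLimit (pullbackIsPullbackOfCompMono a b m))

theorem pullbackCompMonoIso_hom_fst {A B C D : Scheme.{u}} (a : A ⟶ C) (b : B ⟶ C) (m : C ⟶ D)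
    [Mono m] : (pullbackCompMonoIso a b m).hom ≫ pullback.fst a b = pullback.fst _ _ :=
  IsPullback.isoIsPullback_hom_fst _ _ _ _

/-- the fibre product is the spectrum of the tensor product. -/
noncomputable def eW : W f x ≅ Spec (CommRingCat.of (R f x)) :=
  pullbackRightPullbackFstIso _ _ _ ≪≫
    pullback.congrHom (comp_eq f x) (residue_eq f x) ≪≫
    pullbackCompMonoIso _ _ _ ≪≫
    pullbackSpecIso (Y.presheaf.stalk (f x)) (X.presheaf.stalk x)
      (ResidueField (Y.presheaf.stalk (f x)))

end Groth.Agent.Lib.Helper5.FibreStalk
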