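import Mathlib
import Groth.Agent.Lib.Helper5.FibreStalkA

set_option autoImplicit false
universe u

open CategoryTheory CategoryTheory.Limits AlgebraicGeometry TensorProduct IsLocalRing

namespace Groth.Agent.Lib.Helper5.FibreStalk

variable {X Y : Scheme.{u}} (f : X ⟶ Y) (x : X)

attribute [local instance] stalkAlgebra

theorem eW_hom_fst :
    (eW f x).hom ≫ Spec.map (CommRingCat.ofHom (Algebra.TensorProduct.includeLeftRingHom :
        X.presheaf.stalk x →+* R f x)) =
      pullback.fst (X.fromSpecStalk x) (pullback.fst f (Y.fromSpecResidueField (f x))) := by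
  have s4 := pullbackSpecIso_hom_fst (Y.presheaf.stalk (f x)) (X.presheaf.stalk x)
    (ResidueField (Y.presheaf.stalk (f x)))
  have s3 := pullbackCompMonoIso_hom_fst
    (Spec.map (CommRingCat.ofHom (algebraMap (Y.presheaf.stalk (f x)) (X.presheaf.stalk x))))
    (Spec.map (CommRingCat.ofHom (algebraMap (Y.presheaf.stalk (f x))
      (ResidueField (Y.presheaf.stalk (f x)))))) (Y.fromSpecStalk (f x))
  have s2 : (pullback.congrHom (comp_eq f x) (residue_eq f x)).hom ≫
      pullback.fst _ _ = pullback.fst _ _ := by
    rw [pullback.congrHom_hom]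
    erw [pullback.lift_fst]
    rw [Category.comp_id]
  have s1 := pullbackRightPullbackFstIso_hom_fst f (Y.fromSpecResidueField (f x))
    (X.fromSpecStalk x)
  refine Eq.trans ?_ s1
  refine Eq.trans ?_ (congrArg (fun t => (pullbackRightPullbackFstIso f
    (Y.fromSpecResidueField (f x)) (X.fromSpecStalk x)).hom ≫ t) s2)
  refine Eq.trans ?_ (congrArg (fun t => (pullbackRightPullbackFstIso f
    (Y.fromSpecResidueField (f x)) (X.fromSpecStalk x)).hom ≫
    (pullback.congrHom (comp_eq f x) (residue_eq f x)).hom ≫ t) s3)
  refine Eq.trans ?_ (congrArg (fun t => (pullbackRightPullbackFstIso f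
    (Y.fromSpecResidueField (f x)) (X.fromSpecStalk x)).hom ≫
    (pullback.congrHom (comp_eq f x) (residue_eq f x)).hom ≫
    (pullbackCompMonoIso _ _ _).hom ≫ t) s4)
  simp only [eW, Iso.trans_hom, Category.assoc]
  rfl

/-- the ideal generated by the maximal ideal of the image point -/
noncomputable abbrev mX : Ideal (X.presheaf.stalk x) :=
  (maximalIdeal (Y.presheaf.stalk (f x))).map (f.stalkMap x).hom

/-- the tensor product is the quotient -/
noncomputable def equivQuot : R f x ≃+* (X.presheaf.stalk x ⧸ mX f x) :=
  (Algebra.TensorProduct.quotIdealMapEquivTensorQuot (X.presheaf.stalk x)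
    (maximalIdeal (Y.presheaf.stalk (f x)))).symm.toRingEquiv

theorem mX_le : mX f x ≤ maximalIdeal (X.presheaf.stalk x) :=
  ((local_hom_TFAE (f.stalkMap x).hom).out 0 2).1 (inferInstance : IsLocalHom (f.stalkMap x).hom)

instance isLocalRing_quot : IsLocalRing (X.presheaf.stalk x ⧸ mX f x) := by
  have hne : mX f x ≠ ⊤ :=
    ne_top_of_le_ne_top (maximalIdeal.isMaximal _).ne_top (mX_le f x)
  have _ : Nontrivial (X.presheaf.stalk x ⧸ mX f x) := Ideal.Quotient.nontrivial_iff.2 hne
  exact IsLocalRing.of_surjective' (Ideal.Quotient.mk (mX f x)) Ideal.Quotient.mk_surjective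

instance isLocalRing_R : IsLocalRing (R f x) := (equivQuot f x).symm.isLocalRing

theorem includeLeft_surjective :
    Function.Surjective (Algebra.TensorProduct.includeLeftRingHom :
      X.presheaf.stalk x →+* R f x) :=
  Algebra.TensorProduct.includeLeft_surjective (R := Y.presheaf.stalk (f x))
    (T := ResidueField (Y.presheaf.stalk (f x))) (X.presheaf.stalk x) (X.presheaf.stalk x)
    residue_surjective

instance isLocalHom_includeLeft :
    IsLocalHom (Algebra.TensorProduct.includeLeftRingHom : X.presheaf.stalk x →+* R f x) :=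
  IsLocalHom.of_surjective _ (includeLeft_surjective f x)

/-- the point of `W` over the closed point -/
noncomputable def w₀ : W f x := (eW f x).inv (closedPoint (R f x))

theorem eW_hom_w₀ : (eW f x).hom (w₀ f x) = closedPoint (R f x) := by
  unfold w₀
  rw [← Scheme.Hom.comp_apply, Iso.inv_hom_id]
  rfl

theorem fst_w₀ :
    pullback.fst (X.fromSpecStalk x) (pullback.fst f (Y.fromSpecResidueField (f x))) (w₀ f x) =
    closedPoint (X.presheaf.stalk x) := by
  rw [← eW_hom_fst, Scheme.Hom.comp_apply, eW_hom_w₀]
  change PrimeSpectrum.comap (Algebra.TensorProduct.includeLeftRingHom :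
    X.presheaf.stalk x →+* R f x) (closedPoint (R f x)) = _
  exact comap_closedPoint _

theorem snd_w₀ :
    pullback.snd (X.fromSpecStalk x) (pullback.fst f (Y.fromSpecResidueField (f x))) (w₀ f x) =
      f.asFiber x := by
  apply (f.fiberι (f x)).isEmbedding.injective
  rw [Scheme.Hom.fiberι_asFiber]
  change (pullback.snd (X.fromSpecStalk x) (pullback.fst f (Y.fromSpecResidueField (f x))) ≫
    pullback.fst f (Y.fromSpecResidueField (f x))) (w₀ f x) = x
  rw [← pullback.condition, Scheme.Hom.comp_apply, fst_w₀]
  exact Scheme.fromSpecStalk_closedPoint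

/-- **The local ring of the fibre** is the quotient of the local ring by the extension of the
maximal ideal of the image point. -/
theorem nonempty_fibreStalk_equiv :
    Nonempty ((f.fiber (f x)).presheaf.stalk (f.asFiber x) ≃+*
      (X.presheaf.stalk x ⧸ mX f x)) := by
  have key : ∀ x' : f.fiber (f x),
      pullback.snd (X.fromSpecStalk x) (pullback.fst f (Y.fromSpecResidueField (f x)))
        (w₀ f x) = x' →
      Nonempty ((f.fiber (f x)).presheaf.stalk x' ≃+* (X.presheaf.stalk x ⧸ mX f x)) := by
    intro x' hx'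
    subst hx'
    let e1 : (f.fiber (f x)).presheaf.stalk
        (pullback.snd (X.fromSpecStalk x) (pullback.fst f (Y.fromSpecResidueField (f x)))
          (w₀ f x)) ≃+*
        (W f x).presheaf.stalk (w₀ f x) :=
      RingEquiv.ofBijective _ (StalkBC.stalkMap_bijective (pullback.snd _ _) (w₀ f x))
    let e2 : (Spec (CommRingCat.of (R f x))).presheaf.stalk ((eW f x).hom (w₀ f x)) ≃+*
        (W f x).presheaf.stalk (w₀ f x) :=
      (asIso ((eW f x).hom.stalkMap (w₀ f x))).commRingCatIsoToRingEquiv
    have key2 : ∀ P : PrimeSpectrum (R f x), P = closedPoint (R f x) →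
        Nonempty ((Spec (CommRingCat.of (R f x))).presheaf.stalk P ≃+* R f x) := by
      intro P hP
      subst hP
      let e3 : (Spec (CommRingCat.of (R f x))).presheaf.stalk (closedPoint (R f x)) ≃+*
          Localization.AtPrime (closedPoint (R f x)).asIdeal :=
        (Spec.stalkIso (CommRingCat.of (R f x)) (closedPoint (R f x))).commRingCatIsoToRingEquiv
      let e4 : R f x ≃ₐ[R f x] Localization.AtPrime (maximalIdeal (R f x)) :=
        IsLocalization.atUnits (R f x) (maximalIdeal (R f x)).primeCompl
          (fun y => by simpa using! fun a => a)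
      exact ⟨e3.trans e4.toRingEquiv.symm⟩
    obtain ⟨e34⟩ := key2 _ (eW_hom_w₀ f x)
    exact ⟨e1.trans (e2.symm.trans (e34.trans (equivQuot f x)))⟩
  exact key _ (snd_w₀ f x)

end Groth.Agent.Lib.Helper5.FibreStalk
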