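import Mathlib
import Groth.Prelude
import Groth.Agent.Lib.Helper5.FibreStalkB
import Groth.Agent.Lib.Helper5.FibreCompA
import Groth.Agent.Lib.Helper5.CMFlatLocal
import Groth.Agent.Lib.Helper5.GorIso
import Groth.Agent.Lib.Helper5.RegHomDescent
import Groth.Agent.S0344

set_option autoImplicit false
universe u

open CategoryTheory CategoryTheory.Limits AlgebraicGeometry TensorProduct IsLocalRing

namespace Groth.Agent.Lib.Helper5.FibreStalk

open Groth.Agent.Lib.Helper5.FibreComp

/-- Gorenstein local rings form a flat-local property. -/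
theorem flatLocalProp_gorenstein :
    FlatLocalProp (fun (R : Type u) [CommRing R] => LocCoh.IsGorensteinLocalRing R) where
  noeth := fun R _ h => by
    have := h
    infer_instance
  equiv := fun R S _ _ e h => by
    have := h
    exact GorIso.isGorensteinLocalRing_of_ringEquiv e
  flat_iff := fun A B _ _ _ _ _ _ _ _ _ => Groth.Agent.S0344.result A B

/-- Cohen–Macaulay local rings form a flat-local property. -/
theorem flatLocalProp_cm :
    FlatLocalProp (fun (R : Type u) [CommRing R] => LocCoh.IsCohenMacaulayLocalRing R) where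
  noeth := fun R _ h => by
    have := h
    infer_instance
  equiv := fun R S _ _ e h => by
    have := h
    exact CMFlatLocal.isCohenMacaulayLocalRing_of_ringEquiv e
  flat_iff := fun A B _ _ _ _ _ _ _ _ _ => CMFlatLocal.isCohenMacaulayLocalRing_flat_iff A B

variable {X Y Z : Scheme.{u}}

/-- the property at a point, in ring terms -/
def FibP (P : ∀ (R : Type u) [CommRing R], Prop) (f : X ⟶ Y) (x : X) : Prop :=
  (f.stalkMap x).hom.Flat ∧ P (X.presheaf.stalk x ⧸ mX f x)

variable {P : ∀ (R : Type u) [CommRing R], Prop} (hP : FlatLocalProp P)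

include hP in
theorem fibP_iff (f : X ⟶ Y) (x : X) :
    FibP P f x ↔
      ((f.stalkMap x).hom.Flat ∧ P ((f.fiber (f x)).presheaf.stalk (f.asFiber x))) := by
  obtain ⟨e⟩ := nonempty_fibreStalk_equiv f x
  exact Iff.rfl.and ⟨hP.equiv _ _ e.symm, hP.equiv _ _ e⟩

theorem isNoetherianRing_quot_of_fiber (f : X ⟶ Y) (x : X)
    [IsLocallyNoetherian (f.fiber (f x))] : IsNoetherianRing (X.presheaf.stalk x ⧸ mX f x) := by
  obtain ⟨e⟩ := nonempty_fibreStalk_equiv f x
  exact isNoetherianRing_of_ringEquiv _ e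

theorem mX_comp (f : X ⟶ Y) (g : Y ⟶ Z) (x : X) :
    mX (f ≫ g) x =
      (maximalIdeal (Z.presheaf.stalk (g (f x)))).map
        ((f.stalkMap x).hom.comp (g.stalkMap (f x)).hom) := by
  unfold mX
  rw [Scheme.Hom.stalkMap_comp]
  rfl

include hP in
/-- composition -/
theorem fibP_comp (f : X ⟶ Y) (g : Y ⟶ Z) (x : X)
    (hN : IsNoetherianRing (X.presheaf.stalk x ⧸ mX (f ≫ g) x))
    (hf : FibP P f x) (hg : FibP P g (f x)) : FibP P (f ≫ g) x := by
  refine ⟨?_, ?_⟩
  · rw [Scheme.Hom.stalkMap_comp]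
    exact hg.1.comp hf.1
  · have hNB : IsNoetherianRing (Y.presheaf.stalk (f x) ⧸ mX g (f x)) := hP.noeth _ hg.2
    rw [mX_comp] at hN ⊢
    exact (comp_iff hP (g.stalkMap (f x)).hom (f.stalkMap x).hom hf.1 hNB hN).2 ⟨hg.2, hf.2⟩

include hP in
/-- decomposition -/
theorem fibP_of_comp (f : X ⟶ Y) (g : Y ⟶ Z) (x : X)
    (hNB : IsNoetherianRing (Y.presheaf.stalk (f x) ⧸ mX g (f x)))
    (h : FibP P (f ≫ g) x) (hfl : (f.stalkMap x).hom.Flat) :
    FibP P f x ∧ FibP P g (f x) := by
  have hN : IsNoetherianRing (X.presheaf.stalk x ⧸ mX (f ≫ g) x) := hP.noeth _ h.2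
  have h2 := h.2
  rw [mX_comp] at hN h2
  have h3 := (comp_iff hP (g.stalkMap (f x)).hom (f.stalkMap x).hom hfl hNB hN).1 h2
  refine ⟨⟨hfl, h3.2⟩, ⟨?_, h3.1⟩⟩
  have h1 := h.1
  rw [Scheme.Hom.stalkMap_comp] at h1
  let _ : Algebra (Z.presheaf.stalk (g (f x))) (Y.presheaf.stalk (f x)) :=
    (g.stalkMap (f x)).hom.toAlgebra
  let _ : Algebra (Y.presheaf.stalk (f x)) (X.presheaf.stalk x) := (f.stalkMap x).hom.toAlgebra
  let _ : Algebra (Z.presheaf.stalk (g (f x))) (X.presheaf.stalk x) :=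
    ((f.stalkMap x).hom.comp (g.stalkMap (f x)).hom).toAlgebra
  have hst : IsScalarTower (Z.presheaf.stalk (g (f x))) (Y.presheaf.stalk (f x))
      (X.presheaf.stalk x) := IsScalarTower.of_algebraMap_eq (fun _ => rfl)
  have hflAC : Module.Flat (Z.presheaf.stalk (g (f x))) (X.presheaf.stalk x) := h1
  have hflBC : Module.Flat (Y.presheaf.stalk (f x)) (X.presheaf.stalk x) := hfl
  have hlocBC : IsLocalHom (algebraMap (Y.presheaf.stalk (f x)) (X.presheaf.stalk x)) := by
    change IsLocalHom (f.stalkMap x).hom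
    infer_instance
  have hff : Module.FaithfullyFlat (Y.presheaf.stalk (f x)) (X.presheaf.stalk x) :=
    Module.FaithfullyFlat.of_flat_of_isLocalHom
  exact RegHom.flat_of_comp_faithfullyFlat (Z.presheaf.stalk (g (f x)))
    (Y.presheaf.stalk (f x)) (X.presheaf.stalk x)

include hP in
/-- flat morphisms from a source with the property -/
theorem fibP_of_flat_of_source (f : X ⟶ Y) [Flat f] (x : X)
    [IsNoetherianRing (X.presheaf.stalk x)] [IsNoetherianRing (Y.presheaf.stalk (f x))]
    (hX : P (X.presheaf.stalk x)) : FibP P f x ∧ P (Y.presheaf.stalk (f x)) := by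
  have hflat : (f.stalkMap x).hom.Flat := Flat.stalkMap f x
  let _ : Algebra (Y.presheaf.stalk (f x)) (X.presheaf.stalk x) := (f.stalkMap x).hom.toAlgebra
  have hfl : Module.Flat (Y.presheaf.stalk (f x)) (X.presheaf.stalk x) := hflat
  have hloc : IsLocalHom (algebraMap (Y.presheaf.stalk (f x)) (X.presheaf.stalk x)) := by
    change IsLocalHom (f.stalkMap x).hom
    infer_instance
  have h := (hP.flat_iff (Y.presheaf.stalk (f x)) (X.presheaf.stalk x)).1 hX
  exact ⟨⟨hflat, h.2⟩, h.1⟩

end Groth.Agent.Lib.Helper5.FibreStalk
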