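import Mathlib
import Groth.Agent.Lib.Helper29.IdealComap
import Groth.Agent.Lib.Helper5.RegComp
import Groth.Agent.Lib.Helper5.RegImmA

/-!
# Kernel ideal of the base change of a closed immersion; regular sequences under flat base change
-/

set_option autoImplicit false
universe u
open CategoryTheory CategoryTheory.Limits AlgebraicGeometry TopologicalSpace
open RingTheory.Sequence

namespace Groth.Agent.Lib.Helper5.RegBC

open Groth.Agent.Lib.Helper29.EffCart Groth.Agent.Lib.Helper5.RegComp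

theorem ker_eq_comap_of_isPullback {X X' Y Y' : Scheme.{u}} (i : Y ⟶ X) (g : X' ⟶ X)
    (i' : Y' ⟶ X') (g' : Y' ⟶ Y) (hsq : IsPullback g' i' i g) [IsClosedImmersion i] :
    i'.ker = i.ker.comap g := by
  have h1 : i' = hsq.flip.isoPullback.hom ≫ pullback.fst g i :=
    (hsq.flip.isoPullback_hom_fst).symm
  rw [h1, Scheme.Hom.ker_comp_of_isIso, Scheme.IdealSheafData.ker_fst_of_isClosedImmersion]

theorem ker_ideal_of_isPullback {X X' Y Y' : Scheme.{u}} (i : Y ⟶ X) (g : X' ⟶ X)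
    (i' : Y' ⟶ X') (g' : Y' ⟶ Y) (hsq : IsPullback g' i' i g) [IsClosedImmersion i]
    (U : X.affineOpens) (U' : X'.affineOpens) (e : U'.1 ≤ g ⁻¹ᵁ U.1) :
    i'.ker.ideal U' = (i.ker.ideal U).map (g.appLE U.1 U'.1 e).hom := by
  rw [ker_eq_comap_of_isPullback i g i' g' hsq, ideal_comap_eq_map]

/-- a regular sequence maps to a regular sequence under a flat ring map, provided the image ideal
is proper -/
theorem isRegular_map_of_flat {A B : Type u} [CommRing A] [CommRing B] (φ : A →+* B)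
    (hφ : φ.Flat) (rs : List A) (hrs : IsRegular A rs) (hne : Ideal.ofList (rs.map φ) ≠ ⊤) :
    IsRegular B (rs.map φ) := by
  refine isRegular_of_weaklyRegular_of_ne_top ?_ hne
  let _ : Algebra A B := φ.toAlgebra
  have hfl : Module.Flat A B := hφ
  exact IsWeaklyRegular.of_flat hrs.1

theorem ker_ideal_ne_top {X Z : Scheme.{u}} (i : Z ⟶ X) [QuasiCompact i] (U : X.affineOpens)
    (z : Z) (hz : i z ∈ U.1) : i.ker.ideal U ≠ ⊤ := by
  intro htop
  have h1 : (1 : Γ(X, U.1)) ∈ i.ker.ideal U := by rw [htop]; trivial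
  rw [Scheme.Hom.ker_apply, RingHom.mem_ker, map_one] at h1
  have : Nontrivial Γ(Z, i ⁻¹ᵁ U.1) := by
    have : Nonempty ↥(i ⁻¹ᵁ U.1) := ⟨⟨z, hz⟩⟩
    infer_instance
  exact one_ne_zero h1

section Restricted

open Groth.Agent.Lib.Helper5.RegImmA

variable {X X' Y Y' : Scheme.{u}} (i : Y ⟶ X) (g : X' ⟶ X) (i' : Y' ⟶ X') (g' : Y' ⟶ Y)

theorem preimage_le_of_isPullback (hsq : IsPullback g' i' i g) {U : X.Opens} {U' : X'.Opens}
    (e : U' ≤ g ⁻¹ᵁ U) : i' ⁻¹ᵁ U' ≤ g' ⁻¹ᵁ (i ⁻¹ᵁ U) := by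
  intro z hz
  change i (g' z) ∈ U
  rw [← Scheme.Hom.comp_apply, hsq.w, Scheme.Hom.comp_apply]
  exact e hz

theorem isPullback_restrict (hsq : IsPullback g' i' i g) {U : X.Opens} {U' : X'.Opens}
    (e : U' ≤ g ⁻¹ᵁ U) :
    IsPullback (g'.resLE (i ⁻¹ᵁ U) (i' ⁻¹ᵁ U') (preimage_le_of_isPullback i g i' g' hsq e))
      (i' ∣_ U') (i ∣_ U) (g.resLE U U' e) := by
  have h := Scheme.Hom.isPullback_resLE hsq (US := U) (UT := U') (UX := i ⁻¹ᵁ U) e le_rfl
    (UY := i' ⁻¹ᵁ U')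
    (le_antisymm (le_inf (preimage_le_of_isPullback i g i' g' hsq e) le_rfl) inf_le_right)
  rw [Scheme.Hom.resLE_eq_morphismRestrict, Scheme.Hom.resLE_eq_morphismRestrict] at h
  exact h

theorem ker_map_appLE_aux (W₁ W₁' : X.Opens) (W₂ W₂' : X'.Opens) (e₁ : W₁ = W₁')
    (e₂ : W₂ = W₂') (h : W₂ ≤ g ⁻¹ᵁ W₁) (h' : W₂' ≤ g ⁻¹ᵁ W₁')
    (H : RingHom.ker (i'.app W₂).hom =
      (RingHom.ker (i.app W₁).hom).map (g.appLE W₁ W₂ h).hom) :
    RingHom.ker (i'.app W₂').hom =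
      (RingHom.ker (i.app W₁').hom).map (g.appLE W₁' W₂' h').hom := by
  subst e₁ e₂
  exact H

/-- base change of a morphism that is a closed immersion over an affine open `U`, seen on an affine
open `U'` of the new base lying over `U` -/
theorem ker_app_of_isPullback (hsq : IsPullback g' i' i g) {U : X.Opens} (hU : IsAffineOpen U)
    {U' : X'.Opens} (hU' : IsAffineOpen U') (e : U' ≤ g ⁻¹ᵁ U) [IsClosedImmersion (i ∣_ U)] :
    IsClosedImmersion (i' ∣_ U') ∧
      RingHom.ker (i'.app U').hom = (RingHom.ker (i.app U).hom).map (g.appLE U U' e).hom := by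
  have H := isPullback_restrict i g i' g' hsq e
  have hci : IsClosedImmersion (i' ∣_ U') :=
    MorphismProperty.of_isPullback (P := @IsClosedImmersion) H inferInstance
  refine ⟨hci, ?_⟩
  have hT : IsAffineOpen (⊤ : U.toScheme.Opens) := by
    have : IsAffine U.toScheme := hU
    exact isAffineOpen_top _
  have hT' : IsAffineOpen (⊤ : U'.toScheme.Opens) := by
    have : IsAffine U'.toScheme := hU'
    exact isAffineOpen_top _
  have key := ker_ideal_of_isPullback (i ∣_ U) (g.resLE U U' e) (i' ∣_ U') _ H ⟨⊤, hT⟩ ⟨⊤, hT'⟩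
    le_top
  rw [Scheme.Hom.ker_apply, Scheme.Hom.ker_apply, ker_morphismRestrict_app,
    ker_morphismRestrict_app] at key
  have htop : U.ι ''ᵁ (⊤ : U.toScheme.Opens) = U := by
    rw [Scheme.Hom.image_top_eq_opensRange, Scheme.Opens.opensRange_ι]
  have htop' : U'.ι ''ᵁ (⊤ : U'.toScheme.Opens) = U' := by
    rw [Scheme.Hom.image_top_eq_opensRange, Scheme.Opens.opensRange_ι]
  have hle : U'.ι ''ᵁ (⊤ : U'.toScheme.Opens) ≤ g ⁻¹ᵁ (U.ι ''ᵁ (⊤ : U.toScheme.Opens)) := by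
    rw [htop, htop']; exact e
  have key' : RingHom.ker (i'.app (U'.ι ''ᵁ (⊤ : U'.toScheme.Opens))).hom =
      (RingHom.ker (i.app (U.ι ''ᵁ (⊤ : U.toScheme.Opens))).hom).map
        (g.appLE (U.ι ''ᵁ ⊤) (U'.ι ''ᵁ ⊤) hle).hom := by
    rw [key]
    congr 2
    exact Scheme.Hom.resLE_appLE _ _ _ _ _
  exact ker_map_appLE_aux i g i' _ _ _ _ htop htop' hle e key'

end Restricted

end Groth.Agent.Lib.Helper5.RegBC
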