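import Mathlib
import Groth.Prelude.Def_RegImm
import Groth.Agent.Lib.Helper5.RegBC
import Groth.Agent.Lib.Helper5.KosBCB
import Groth.Agent.Lib.Helper21.QRDescent

/-!
# The four kinds of sequences under a flat ring map
-/

set_option autoImplicit false
universe u
open CategoryTheory CategoryTheory.Limits AlgebraicGeometry TopologicalSpace

namespace Groth.Agent.Lib.Helper5.FlatKind

theorem h1_of_flat {R R' : Type u} [CommRing R] [CommRing R'] [Algebra R R'] [Module.Flat R R']
    {c : ℕ} (f : Fin c → R) (h : CAlgX.IsH1Regular f) :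
    CAlgX.IsH1Regular (algebraMap R R' ∘ f) := by
  classical
  intro a' ha'
  have hrel : ∑ i, f i • a' i = 0 := by
    rw [← ha']
    refine Finset.sum_congr rfl fun i _ => ?_
    rw [Algebra.smul_def, mul_comm]; rfl
  obtain ⟨k, α, y, hx, hα⟩ :=
    Module.Flat.isTrivialRelation_of_sum_smul_eq_zero (R := R) (M := R') hrel
  let Φ : (Fin c → R) →ₗ[R] (Fin c → R') := (Algebra.linearMap R R').compLeft (Fin c)
  have hΦ : ∀ v ∈ Submodule.span R
      {v : Fin c → R | ∃ i j : Fin c, v = Pi.single i (f j) - Pi.single j (f i)},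
      Φ v ∈ Submodule.span R' {v : Fin c → R' | ∃ i j : Fin c,
        v = Pi.single i ((algebraMap R R' ∘ f) j) - Pi.single j ((algebraMap R R' ∘ f) i)} := by
    intro v hv
    induction hv using Submodule.span_induction with
    | mem v hv =>
      obtain ⟨i, j, rfl⟩ := hv
      apply Submodule.subset_span
      refine ⟨i, j, ?_⟩
      ext l
      simp only [Φ, LinearMap.compLeft_apply, Function.comp_apply, Pi.sub_apply,
        Algebra.linearMap_apply, map_sub, Pi.single_apply]
      split_ifs <;> simp
    | zero => rw [map_zero]; exact zero_mem _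
    | add x y _ _ hx hy => rw [map_add]; exact add_mem hx hy
    | smul r x _ hx =>
      rw [map_smul, ← algebraMap_smul R' r (Φ x)]
      exact Submodule.smul_mem _ _ hx
  have hcol : ∀ j, (fun i => α i j) ∈ Submodule.span R
      {v : Fin c → R | ∃ i j : Fin c, v = Pi.single i (f j) - Pi.single j (f i)} := fun j =>
    h _ (by rw [← hα j]; exact Finset.sum_congr rfl fun i _ => mul_comm _ _)
  have ha : a' = ∑ j, y j • Φ (fun i => α i j) := by
    ext i
    rw [hx i, Finset.sum_apply]
    refine Finset.sum_congr rfl fun j _ => ?_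
    simp only [Φ, LinearMap.compLeft_apply, Function.comp_apply, Pi.smul_apply,
      Algebra.linearMap_apply, smul_eq_mul]
    rw [Algebra.smul_def, mul_comm]
  rw [ha]
  exact Submodule.sum_mem _ fun j _ => Submodule.smul_mem _ _ (hΦ _ (hcol j))

theorem h1_congr {R : Type u} [CommRing R] {c c' : ℕ} (hc : c = c') (f : Fin c → R)
    (g : Fin c' → R) (hfg : ∀ i, f i = g (Fin.cast hc i)) (h : CAlgX.IsH1Regular f) :
    CAlgX.IsH1Regular g := by
  subst hc
  have : f = g := funext hfg
  subst this
  exact h

theorem qr_congr {R : Type u} [CommRing R] {c c' : ℕ} (hc : c = c') (f : Fin c → R)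
    (g : Fin c' → R) (hfg : ∀ i, f i = g (Fin.cast hc i)) (h : CAlgX.IsQuasiRegular f) :
    CAlgX.IsQuasiRegular g := by
  subst hc
  have : f = g := funext hfg
  subst this
  exact h

theorem kind_seq_map_of_flat (k : RegImm.Kind) {A B : Type u} [CommRing A] [CommRing B]
    (φ : A →+* B) (hφ : φ.Flat) (rs : List A) (h : k.Seq A rs)
    (hne : Ideal.ofList (rs.map φ) ≠ ⊤) : k.Seq B (rs.map φ) := by
  let _ : Algebra A B := φ.toAlgebra
  have hfl : Module.Flat A B := hφ
  have hc : rs.length = (rs.map φ).length := (List.length_map φ).symm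
  have hfg : ∀ i, (algebraMap A B ∘ rs.get) i = (rs.map φ).get (Fin.cast hc i) := by
    intro i
    simp only [Function.comp_apply, List.get_eq_getElem, Fin.val_cast, List.getElem_map]
    rfl
  cases k with
  | regular => exact Groth.Agent.Lib.Helper5.RegBC.isRegular_map_of_flat φ hφ rs h hne
  | koszul => exact Groth.Agent.Lib.Helper5.KosBC.isKoszulRegularSeq_map φ hφ rs h
  | h1 => exact h1_congr hc _ _ hfg (h1_of_flat rs.get h)
  | quasi =>
    exact qr_congr hc _ _ hfg (Groth.Agent.Lib.Helper21.QRDescent.qr_of_flat rs.get h)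

end Groth.Agent.Lib.Helper5.FlatKind
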