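import Mathlib
import Groth.Prelude.Def_CAlgX
import Groth.Agent.Lib.Helper26.QRegMon
import Groth.Agent.Lib.helper11.H1QR

/-!
# Helper5 — QRAppA

`H_1`-regularity of `g` modulo powers of a quasi-regular ideal `J` (Stacks 15.30.13, first half).
-/

set_option autoImplicit false
universe u

namespace Groth.Agent.Lib.Helper5.QRApp

open Groth.Agent.Lib.Helper26.QRegBC

variable {A : Type u} [CommRing A] {n m : ℕ} (f : Fin n → A) (g : Fin m → A)

/-- trivial (Koszul) relations -/
def Bnd : Submodule A (Fin m → A) :=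
  Submodule.span A {v | ∃ i j : Fin m, v = Pi.single i (g j) - Pi.single j (g i)}

theorem sum_mul_of_mem_Bnd {c : Fin m → A} (hc : c ∈ Bnd g) : ∑ j, c j * g j = 0 := by
  classical
  induction hc using Submodule.span_induction with
  | mem v hv =>
    obtain ⟨i, j, rfl⟩ := hv
    simp only [Pi.sub_apply, sub_mul, Finset.sum_sub_distrib, Pi.single_apply, ite_mul, zero_mul,
      Finset.sum_ite_eq', Finset.mem_univ, if_true]
    ring
  | zero => simp
  | add x y _ _ hx hy =>
    simp only [Pi.add_apply, add_mul, Finset.sum_add_distrib, hx, hy, add_zero]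
  | smul a x _ hx =>
    simp only [Pi.smul_apply, smul_eq_mul, mul_assoc, ← Finset.mul_sum, hx, mul_zero]

/-- finite-sum version of quasi-regularity -/
theorem qreg_finset (hf : CAlgX.IsQuasiRegular f) (k : ℕ) (c : (Fin n →₀ ℕ) → A)
    (hc : ∑ N ∈ Mn n k, c N * mval f N ∈ Ideal.span (Set.range f) ^ (k + 1)) :
    ∀ N ∈ Mn n k, c N ∈ Ideal.span (Set.range f) := by
  intro N hN
  have h1 : ∑ N : ↥(Mn n k), c N.1 * mfam f k N = ∑ N ∈ Mn n k, c N * mval f N :=
    Finset.sum_coe_sort (Mn n k) (fun N => c N * mval f N)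
  exact qreg_coeff f hf k (fun N => c N.1) (by rw [h1]; exact hc) ⟨N, hN⟩

/-- elements of `J^k` are combinations of monomials -/
theorem exists_coeff_of_mem_pow (k : ℕ) (x : A) (hx : x ∈ Ideal.span (Set.range f) ^ k) :
    ∃ w : (Fin n →₀ ℕ) → A, x = ∑ N ∈ Mn n k, w N * mval f N := by
  classical
  rw [← span_mfam, Ideal.mem_span_range_iff_exists_fun] at hx
  obtain ⟨w, hw⟩ := hx
  refine ⟨fun N => if h : N ∈ Mn n k then w ⟨N, h⟩ else 0, ?_⟩
  rw [← hw, ← Finset.sum_coe_sort (Mn n k)]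
  refine Finset.sum_congr rfl fun N _ => ?_
  simp only [dif_pos N.2]
  rfl

/-- lifting of `H_1`-regularity modulo an ideal -/
theorem h1_one (K : Ideal A)
    (hg : CAlgX.IsH1Regular (fun j => Ideal.Quotient.mk K (g j)))
    (b : Fin m → A) (hb : ∑ j, b j * g j ∈ K) :
    ∃ c ∈ Bnd g, ∀ j, b j - c j ∈ K := by
  classical
  have h0 : ∑ j, (Ideal.Quotient.mk K (b j)) * (Ideal.Quotient.mk K (g j)) = 0 := by
    simp only [← map_mul, ← map_sum]
    exact Ideal.Quotient.eq_zero_iff_mem.2 hb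
  have h1 := hg (fun j => Ideal.Quotient.mk K (b j)) h0
  have key : ∀ x ∈ Submodule.span (A ⧸ K) {v : Fin m → A ⧸ K | ∃ i j : Fin m,
      v = Pi.single i (Ideal.Quotient.mk K (g j)) - Pi.single j (Ideal.Quotient.mk K (g i))},
      ∃ c ∈ Bnd g, ∀ j, Ideal.Quotient.mk K (c j) = x j := by
    intro x hx
    induction hx using Submodule.span_induction with
    | mem v hv =>
      obtain ⟨i, j, rfl⟩ := hv
      refine ⟨Pi.single i (g j) - Pi.single j (g i), Submodule.subset_span ⟨i, j, rfl⟩, ?_⟩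
      intro l
      simp only [Pi.sub_apply, Pi.single_apply, map_sub]
      split_ifs <;> simp
    | zero => exact ⟨0, Submodule.zero_mem _, fun j => by simp⟩
    | add x y _ _ hx hy =>
      obtain ⟨c, hc, hcx⟩ := hx
      obtain ⟨c', hc', hcy⟩ := hy
      exact ⟨c + c', Submodule.add_mem _ hc hc', fun j => by
        simp only [Pi.add_apply, map_add, hcx, hcy]⟩
    | smul a x _ hx =>
      obtain ⟨c, hc, hcx⟩ := hx
      obtain ⟨r, rfl⟩ := Ideal.Quotient.mk_surjective a
      exact ⟨r • c, Submodule.smul_mem _ _ hc, fun j => by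
        simp only [Pi.smul_apply, smul_eq_mul, map_mul, hcx]⟩
  obtain ⟨c, hc, hcb⟩ := key _ h1
  refine ⟨c, hc, fun j => ?_⟩
  rw [← Ideal.Quotient.eq]
  exact (hcb j).symm

theorem h1_pow (hf : CAlgX.IsQuasiRegular f)
    (hg : CAlgX.IsH1Regular (fun j => Ideal.Quotient.mk (Ideal.span (Set.range f)) (g j)))
    (k : ℕ) : ∀ (b : Fin m → A), ∑ j, b j * g j ∈ Ideal.span (Set.range f) ^ k →
    ∃ c ∈ Bnd g, ∀ j, b j - c j ∈ Ideal.span (Set.range f) ^ k := by
  classical
  induction k with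
  | zero =>
    intro b _
    exact ⟨0, Submodule.zero_mem _, fun j => by simp⟩
  | succ k ih =>
    intro b hb
    obtain ⟨c₀, hc₀, hu⟩ := ih b (Ideal.pow_le_pow_right (Nat.le_succ k) hb)
    choose w hw using fun j => exists_coeff_of_mem_pow f k _ (hu j)
    have hsum : ∑ j, b j * g j = ∑ N ∈ Mn n k, (∑ j, w j N * g j) * mval f N := by
      have h1 : ∑ j, b j * g j = ∑ j, (b j - c₀ j) * g j := by
        simp only [sub_mul, Finset.sum_sub_distrib, sum_mul_of_mem_Bnd g hc₀, sub_zero]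
      rw [h1]
      simp only [hw, Finset.sum_mul]
      rw [Finset.sum_comm]
      refine Finset.sum_congr rfl fun N _ => Finset.sum_congr rfl fun j _ => ?_
      ring
    rw [hsum] at hb
    have h2 := qreg_finset f hf k (fun N => ∑ j, w j N * g j) hb
    have h3 : ∀ N : Fin n →₀ ℕ, ∃ c ∈ Bnd g, N ∈ Mn n k →
        ∀ j, w j N - c j ∈ Ideal.span (Set.range f) := by
      intro N
      by_cases hN : N ∈ Mn n k
      · obtain ⟨c, hc, hcj⟩ := h1_one g _ hg (fun j => w j N) (h2 N hN)
        exact ⟨c, hc, fun _ => hcj⟩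
      · exact ⟨0, Submodule.zero_mem _, fun h => absurd h hN⟩
    choose cN hcN hcN' using h3
    refine ⟨c₀ + ∑ N ∈ Mn n k, mval f N • cN N, ?_, ?_⟩
    · exact Submodule.add_mem _ hc₀
        (Submodule.sum_mem _ fun N _ => Submodule.smul_mem _ _ (hcN N))
    · intro j
      have h4 : b j - (c₀ + ∑ N ∈ Mn n k, mval f N • cN N) j =
          ∑ N ∈ Mn n k, (w j N - cN N j) * mval f N := by
        simp only [Pi.add_apply, Finset.sum_apply, Pi.smul_apply, smul_eq_mul, sub_mul,
          Finset.sum_sub_distrib]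
        rw [← hw j]
        have h5 : ∑ N ∈ Mn n k, mval f N * cN N j = ∑ N ∈ Mn n k, cN N j * mval f N :=
          Finset.sum_congr rfl fun N _ => mul_comm _ _
        rw [h5]
        ring
      rw [h4, pow_succ']
      refine Ideal.sum_mem _ fun N hN => ?_
      exact Ideal.mul_mem_mul (hcN' N hN j) (mval_mem f hN)

theorem isH1Regular_quot_pow (hf : CAlgX.IsQuasiRegular f)
    (hg : CAlgX.IsH1Regular (fun j => Ideal.Quotient.mk (Ideal.span (Set.range f)) (g j)))
    (k : ℕ) :
    CAlgX.IsH1Regular (fun j => Ideal.Quotient.mk (Ideal.span (Set.range f) ^ k) (g j)) := by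
  classical
  intro a ha
  choose b hb using fun j => Ideal.Quotient.mk_surjective (a j)
  have h0 : ∑ j, b j * g j ∈ Ideal.span (Set.range f) ^ k := by
    rw [← Ideal.Quotient.eq_zero_iff_mem, map_sum]
    simp only [map_mul, hb]
    exact ha
  obtain ⟨c, hc, hcb⟩ := h1_pow f g hf hg k b h0
  have hac : a = fun j => Ideal.Quotient.mk (Ideal.span (Set.range f) ^ k) (c j) := by
    funext j
    rw [← hb j]
    exact Ideal.Quotient.eq.2 (hcb j)
  rw [hac]
  clear hac hcb h0 hb ha
  induction hc using Submodule.span_induction with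
  | mem v hv =>
    obtain ⟨i, j, rfl⟩ := hv
    refine Submodule.subset_span ⟨i, j, ?_⟩
    funext l
    simp only [Pi.sub_apply, Pi.single_apply, map_sub]
    split_ifs <;> simp
  | zero =>
    have : (fun j => Ideal.Quotient.mk (Ideal.span (Set.range f) ^ k) ((0 : Fin m → A) j)) = 0 := by
      funext j; simp
    rw [this]
    exact Submodule.zero_mem _
  | add x y _ _ hx hy =>
    have : (fun j => Ideal.Quotient.mk (Ideal.span (Set.range f) ^ k) ((x + y) j)) =
        (fun j => Ideal.Quotient.mk (Ideal.span (Set.range f) ^ k) (x j)) +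
          (fun j => Ideal.Quotient.mk (Ideal.span (Set.range f) ^ k) (y j)) := by
      funext j; simp
    rw [this]
    exact Submodule.add_mem _ hx hy
  | smul r x _ hx =>
    have : (fun j => Ideal.Quotient.mk (Ideal.span (Set.range f) ^ k) ((r • x) j)) =
        (Ideal.Quotient.mk (Ideal.span (Set.range f) ^ k) r) •
          (fun j => Ideal.Quotient.mk (Ideal.span (Set.range f) ^ k) (x j)) := by
      funext j; simp
    rw [this]
    exact Submodule.smul_mem _ _ hx

theorem mval_map {B : Type u} [CommRing B] (φ : A →+* B) (M : Fin m →₀ ℕ) :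
    mval (fun j => φ (g j)) M = φ (mval g M) := by
  rw [mval_eq, mval_eq, map_prod]
  simp only [map_pow]

/-- `g` is quasi-regular modulo `J^k`, coefficient form -/
theorem coeff_mem_of_sum_mem (hf : CAlgX.IsQuasiRegular f)
    (hg : CAlgX.IsH1Regular (fun j => Ideal.Quotient.mk (Ideal.span (Set.range f)) (g j)))
    (k e : ℕ) (a : (Fin m →₀ ℕ) → A)
    (h : ∑ M ∈ Mn m e, a M * mval g M ∈
      Ideal.span (Set.range g) ^ (e + 1) ⊔ Ideal.span (Set.range f) ^ k) :
    ∀ M ∈ Mn m e, a M ∈ Ideal.span (Set.range g) ⊔ Ideal.span (Set.range f) ^ k := by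
  intro M hM
  have hq := Groth.Agent.Lib.helper11.H1QR.main _ (isH1Regular_quot_pow f g hf hg k)
  have hspan : Ideal.span (Set.range
      (fun j => Ideal.Quotient.mk (Ideal.span (Set.range f) ^ k) (g j))) =
      (Ideal.span (Set.range g)).map (Ideal.Quotient.mk (Ideal.span (Set.range f) ^ k)) := by
    rw [Ideal.map_span, ← Set.range_comp]
    rfl
  have h1 := qreg_finset _ hq e
    (fun M => Ideal.Quotient.mk (Ideal.span (Set.range f) ^ k) (a M)) (by
      simp only [mval_map, ← map_mul, ← map_sum]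
      rw [hspan, ← Ideal.map_pow]
      obtain ⟨y, hy, z, hz, hyz⟩ := Submodule.mem_sup.1 h
      rw [← hyz, map_add, Ideal.Quotient.eq_zero_iff_mem.2 hz, add_zero]
      exact Ideal.mem_map_of_mem _ hy) M hM
  rw [hspan] at h1
  obtain ⟨y, hy, hya⟩ := (Ideal.mem_map_iff_of_surjective _ Ideal.Quotient.mk_surjective).1 h1
  have h2 : a M - y ∈ Ideal.span (Set.range f) ^ k := by
    rw [← Ideal.Quotient.eq, hya]
  have h3 : a M = y + (a M - y) := by ring
  rw [h3]
  exact Submodule.add_mem_sup hy h2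

/-- `J^k ∩ (G + J^(k+1)) ⊆ J^k G + J^(k+1)` -/
theorem mem_mul_sup_of_mem (hf : CAlgX.IsQuasiRegular f)
    (hg : CAlgX.IsH1Regular (fun j => Ideal.Quotient.mk (Ideal.span (Set.range f)) (g j)))
    (k : ℕ) (x : A) (hx : x ∈ Ideal.span (Set.range f) ^ k)
    (hx' : x ∈ Ideal.span (Set.range g) ⊔ Ideal.span (Set.range f) ^ (k + 1)) :
    x ∈ Ideal.span (Set.range f) ^ k * Ideal.span (Set.range g) ⊔
      Ideal.span (Set.range f) ^ (k + 1) := by
  obtain ⟨y, hy, z, hz, rfl⟩ := Submodule.mem_sup.1 hx'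
  refine Submodule.add_mem_sup ?_ hz
  obtain ⟨b, rfl⟩ := (Ideal.mem_span_range_iff_exists_fun).1 hy
  have hyk : ∑ j, b j * g j ∈ Ideal.span (Set.range f) ^ k := by
    have := (Ideal.span (Set.range f) ^ k).sub_mem hx (Ideal.pow_le_pow_right (Nat.le_succ k) hz)
    rwa [add_sub_cancel_right] at this
  obtain ⟨c, hc, hcb⟩ := h1_pow f g hf hg k b hyk
  have h1 : ∑ j, b j * g j = ∑ j, (b j - c j) * g j := by
    simp only [sub_mul, Finset.sum_sub_distrib, sum_mul_of_mem_Bnd g hc, sub_zero]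
  rw [h1]
  exact Ideal.sum_mem _ fun j _ =>
    Ideal.mul_mem_mul (hcb j) (Ideal.subset_span (Set.mem_range_self j))

/-- elements of `J^k G` are combinations of monomials with coefficients in `G` -/
theorem exists_coeff_of_mem_pow_mul (k : ℕ) (G : Ideal A) (y : A)
    (hy : y ∈ Ideal.span (Set.range f) ^ k * G) :
    ∃ b : (Fin n →₀ ℕ) → A, (∀ N, b N ∈ G) ∧ y = ∑ N ∈ Mn n k, b N * mval f N := by
  refine Submodule.mul_induction_on hy ?_ ?_
  · intro p hp q hq
    obtain ⟨w, rfl⟩ := exists_coeff_of_mem_pow f k p hp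
    refine ⟨fun N => w N * q, fun N => Ideal.mul_mem_left _ _ hq, ?_⟩
    rw [Finset.sum_mul]
    exact Finset.sum_congr rfl fun N _ => by ring
  · rintro x y ⟨b, hb, rfl⟩ ⟨b', hb', rfl⟩
    refine ⟨fun N => b N + b' N, fun N => Ideal.add_mem _ (hb N) (hb' N), ?_⟩
    rw [← Finset.sum_add_distrib]
    exact Finset.sum_congr rfl fun N _ => by ring

/-- pigeonhole for powers of a sum of ideals -/
theorem sup_pow_le (I K : Ideal A) (a b : ℕ) :
    (I ⊔ K) ^ (a + b + 1) ≤ I ^ (a + 1) ⊔ K ^ (b + 1) := by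
  rw [← Ideal.add_eq_sup, ← Ideal.add_eq_sup, add_pow, Ideal.sum_eq_sup]
  apply Finset.sup_le
  intro i hi
  by_cases h : a + 1 ≤ i
  · exact (Ideal.mul_le_left.trans (Ideal.mul_le_left.trans
      ((Ideal.pow_le_pow_right h).trans le_sup_left)))
  · refine (Ideal.mul_le_left.trans (Ideal.mul_le_right.trans
      ((Ideal.pow_le_pow_right ?_).trans le_sup_right)))
    omega

end Groth.Agent.Lib.Helper5.QRApp
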