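import Mathlib
import Groth.Agent.Lib.Helper5.QRAppA

/-!
# Helper5 — QRAppB

Appending an `H_1`-regular (mod `J`) sequence to a quasi-regular sequence is quasi-regular.
-/

set_option autoImplicit false
universe u

namespace Groth.Agent.Lib.Helper5.QRApp

open Groth.Agent.Lib.Helper26.QRegBC

variable {A : Type u} [CommRing A] {n m : ℕ} (f : Fin n → A) (g : Fin m → A)

/-- left part of an exponent -/
noncomputable def Dl (D : Fin (n + m) →₀ ℕ) : Fin n →₀ ℕ :=
  Finsupp.equivFunOnFinite.symm (fun i => D (Fin.castAdd m i))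

/-- right part of an exponent -/
noncomputable def Dr (D : Fin (n + m) →₀ ℕ) : Fin m →₀ ℕ :=
  Finsupp.equivFunOnFinite.symm (fun j => D (Fin.natAdd n j))

/-- combine exponents -/
noncomputable def comb (N : Fin n →₀ ℕ) (M : Fin m →₀ ℕ) : Fin (n + m) →₀ ℕ :=
  Finsupp.equivFunOnFinite.symm (Fin.append (fun i => N i) (fun j => M j))

@[simp] theorem Dl_apply (D : Fin (n + m) →₀ ℕ) (i : Fin n) : Dl D i = D (Fin.castAdd m i) := rfl
@[simp] theorem Dr_apply (D : Fin (n + m) →₀ ℕ) (j : Fin m) : Dr D j = D (Fin.natAdd n j) := rfl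

@[simp] theorem comb_castAdd (N : Fin n →₀ ℕ) (M : Fin m →₀ ℕ) (i : Fin n) :
    comb N M (Fin.castAdd m i) = N i := by
  simp [comb]

@[simp] theorem comb_natAdd (N : Fin n →₀ ℕ) (M : Fin m →₀ ℕ) (j : Fin m) :
    comb N M (Fin.natAdd n j) = M j := by
  simp [comb]

@[simp] theorem Dl_comb (N : Fin n →₀ ℕ) (M : Fin m →₀ ℕ) : Dl (comb N M) = N := by
  ext i; simp

@[simp] theorem Dr_comb (N : Fin n →₀ ℕ) (M : Fin m →₀ ℕ) : Dr (comb N M) = M := by
  ext j; simp

@[simp] theorem comb_Dl_Dr (D : Fin (n + m) →₀ ℕ) : comb (Dl D) (Dr D) = D := by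
  ext i
  refine Fin.addCases (fun i => ?_) (fun j => ?_) i <;> simp

theorem sum_split (D : Fin (n + m) →₀ ℕ) :
    ∑ i, D i = ∑ i, Dl D i + ∑ j, Dr D j := by
  rw [Fin.sum_univ_add]
  rfl

theorem mval_append (D : Fin (n + m) →₀ ℕ) :
    mval (Fin.append f g) D = mval f (Dl D) * mval g (Dr D) := by
  rw [mval_eq, mval_eq, mval_eq, Fin.prod_univ_add]
  simp

theorem span_append : Ideal.span (Set.range (Fin.append f g)) =
    Ideal.span (Set.range g) ⊔ Ideal.span (Set.range f) := by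
  have h : Set.range (Fin.append f g) = Set.range f ∪ Set.range g := by
    ext x
    constructor
    · rintro ⟨i, rfl⟩
      refine Fin.addCases (fun i => ?_) (fun j => ?_) i
      · rw [Fin.append_left]
        exact Or.inl ⟨i, rfl⟩
      · rw [Fin.append_right]
        exact Or.inr ⟨j, rfl⟩
    · rintro (⟨i, rfl⟩ | ⟨j, rfl⟩)
      · exact ⟨Fin.castAdd m i, Fin.append_left f g i⟩
      · exact ⟨Fin.natAdd n j, Fin.append_right f g j⟩
  rw [h, Ideal.span_union, sup_comm]

theorem core (hf : CAlgX.IsQuasiRegular f)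
    (hg : CAlgX.IsH1Regular (fun j => Ideal.Quotient.mk (Ideal.span (Set.range f)) (g j)))
    (d : ℕ) (c : (Fin (n + m) →₀ ℕ) → A)
    (hc : ∑ D ∈ Mn (n + m) d, c D * mval (Fin.append f g) D ∈
      Ideal.span (Set.range (Fin.append f g)) ^ (d + 1)) :
    ∀ D ∈ Mn (n + m) d, c D ∈ Ideal.span (Set.range (Fin.append f g)) := by
  classical
  intro D₀ hD₀
  rw [span_append] at hc ⊢
  obtain ⟨e₀, he₀⟩ : ∃ e₀, e₀ = ∑ j, Dr D₀ j := ⟨_, rfl⟩
  obtain ⟨k, hk⟩ : ∃ k, k = ∑ i, Dl D₀ i := ⟨_, rfl⟩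
  have hd : k + e₀ = d := by
    rw [hk, he₀, ← sum_split]
    exact mem_Mn.1 hD₀
  have hM₀ : Dr D₀ ∈ Mn m e₀ := mem_Mn.2 he₀.symm
  have hN₀ : Dl D₀ ∈ Mn n k := mem_Mn.2 hk.symm
  have hA : ∑ D ∈ (Mn (n + m) d).filter (fun D => ∑ j, Dr D j = e₀),
      c D * mval (Fin.append f g) D ∈
      Ideal.span (Set.range g) ^ (e₀ + 1) ⊔ Ideal.span (Set.range f) ^ (k + 1) := by
    have h1 := Finset.sum_filter_add_sum_filter_not (Mn (n + m) d)
      (fun D => ∑ j, Dr D j = e₀) (fun D => c D * mval (Fin.append f g) D)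
    have h2 : ∑ D ∈ (Mn (n + m) d).filter (fun D => ¬ ∑ j, Dr D j = e₀),
        c D * mval (Fin.append f g) D ∈
        Ideal.span (Set.range g) ^ (e₀ + 1) ⊔ Ideal.span (Set.range f) ^ (k + 1) := by
      refine Ideal.sum_mem _ fun D hD => ?_
      rw [Finset.mem_filter] at hD
      obtain ⟨hD1, hD2⟩ := hD
      rw [mval_append]
      have hsum := sum_split D
      rw [mem_Mn.1 hD1] at hsum
      rcases lt_or_gt_of_ne hD2 with hlt | hgt
      · refine Ideal.mul_mem_left _ _ (Ideal.mul_mem_right _ _ ?_)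
        apply Ideal.mem_sup_right
        exact Ideal.pow_le_pow_right (by omega) (mval_mem f (mem_Mn.2 rfl))
      · refine Ideal.mul_mem_left _ _ (Ideal.mul_mem_left _ _ ?_)
        apply Ideal.mem_sup_left
        exact Ideal.pow_le_pow_right (by omega) (mval_mem g (mem_Mn.2 rfl))
    have h3 : ∑ D ∈ Mn (n + m) d, c D * mval (Fin.append f g) D ∈
        Ideal.span (Set.range g) ^ (e₀ + 1) ⊔ Ideal.span (Set.range f) ^ (k + 1) := by
      apply sup_pow_le _ _ e₀ k
      have h4 : e₀ + k + 1 = d + 1 := by omega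
      rw [h4]
      exact hc
    rw [← h1] at h3
    exact (Submodule.add_mem_iff_left _ h2).1 h3
  have hB : ∑ D ∈ (Mn (n + m) d).filter (fun D => ∑ j, Dr D j = e₀),
      c D * mval (Fin.append f g) D =
      ∑ M ∈ Mn m e₀, (∑ N ∈ Mn n k, c (comb N M) * mval f N) * mval g M := by
    simp only [Finset.sum_mul]
    rw [← Finset.sum_product']
    refine Finset.sum_nbij' (fun D => (Dr D, Dl D)) (fun x => comb x.2 x.1) ?_ ?_ ?_ ?_ ?_
    · intro D hD
      rw [Finset.mem_filter] at hD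
      rw [Finset.mem_product]
      have hsum := sum_split D
      rw [mem_Mn.1 hD.1, hD.2] at hsum
      refine ⟨mem_Mn.2 hD.2, mem_Mn.2 ?_⟩
      change ∑ i, Dl D i = k
      omega
    · intro x hx
      rw [Finset.mem_product] at hx
      rw [Finset.mem_filter, mem_Mn, sum_split, Dl_comb, Dr_comb, mem_Mn.1 hx.1, mem_Mn.1 hx.2]
      exact ⟨by omega, rfl⟩
    · intro D _
      exact comb_Dl_Dr D
    · intro x _
      simp
    · intro D _
      rw [mval_append, comb_Dl_Dr]
      ring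
  rw [hB] at hA
  have hC := coeff_mem_of_sum_mem f g hf hg (k + 1) e₀
    (fun M => ∑ N ∈ Mn n k, c (comb N M) * mval f N) hA (Dr D₀) hM₀
  have hCk : ∑ N ∈ Mn n k, c (comb N (Dr D₀)) * mval f N ∈ Ideal.span (Set.range f) ^ k :=
    Ideal.sum_mem _ fun N hN => Ideal.mul_mem_left _ _ (mval_mem f hN)
  have hE := mem_mul_sup_of_mem f g hf hg k _ hCk hC
  obtain ⟨y, hy, z, hz, hyz⟩ := Submodule.mem_sup.1 hE
  obtain ⟨b, hb, rfl⟩ := exists_coeff_of_mem_pow_mul f k _ y hy
  have hF : ∑ N ∈ Mn n k, (c (comb N (Dr D₀)) - b N) * mval f N ∈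
      Ideal.span (Set.range f) ^ (k + 1) := by
    have : ∑ N ∈ Mn n k, (c (comb N (Dr D₀)) - b N) * mval f N = z := by
      simp only [sub_mul, Finset.sum_sub_distrib]
      rw [← hyz]
      ring
    rw [this]
    exact hz
  have hG := qreg_finset f hf k _ hF (Dl D₀) hN₀
  rw [comb_Dl_Dr] at hG
  have : c D₀ = b (Dl D₀) + (c D₀ - b (Dl D₀)) := by ring
  rw [this]
  exact Submodule.add_mem_sup (hb _) hG

theorem main (hf : CAlgX.IsQuasiRegular f)
    (hg : CAlgX.IsH1Regular (fun j => Ideal.Quotient.mk (Ideal.span (Set.range f)) (g j))) :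
    CAlgX.IsQuasiRegular (Fin.append f g) := by
  intro d P hP hev D
  by_cases hD : D ∈ Mn (n + m) d
  · refine core f g hf hg d (fun D => P.coeff D) ?_ D hD
    rw [eval_of_hom _ P hP] at hev
    rw [← Finset.sum_coe_sort (Mn (n + m) d)]
    exact hev
  · have : P.coeff D = 0 := by
      by_contra h
      apply hD
      rw [mem_Mn']
      have := hP h
      rw [Finsupp.degree_eq_weight_one]
      exact this
    rw [this]
    exact Ideal.zero_mem _

end Groth.Agent.Lib.Helper5.QRApp
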