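import Mathlib.RingTheory.Flat.Equalizer
import Mathlib.RingTheory.Flat.Stability

set_option autoImplicit false
universe u v

open TensorProduct

namespace Groth.Agent.Lib.Helper5

/-- The kernel of a surjection between flat modules is flat. -/
theorem flat_of_exact_of_flat {R : Type u} [CommRing R] {M N P : Type v}
    [AddCommGroup M] [Module R M] [AddCommGroup N] [Module R N] [AddCommGroup P] [Module R P]
    (g : M →ₗ[R] N) (f : N →ₗ[R] P) (hg : Function.Injective g) (hf : Function.Surjective f)
    (H : Function.Exact g f) [Module.Flat R N] [Module.Flat R P] : Module.Flat R M := by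
  rw [Module.Flat.iff_rTensor_preserves_injective_linearMap]
  intro X Y _ _ _ _ j hj
  have h1 : Function.Injective (g.lTensor X) :=
    LinearMap.lTensor_injective_of_exact_of_flat f hf g hg H X
  have h2 : Function.Injective (j.rTensor N) :=
    Module.Flat.rTensor_preserves_injective_linearMap j hj
  have h3 : (g.lTensor Y).comp (j.rTensor M) = (j.rTensor N).comp (g.lTensor X) := by
    rw [LinearMap.lTensor_comp_rTensor, LinearMap.rTensor_comp_lTensor]
  have h4 : Function.Injective ((g.lTensor Y).comp (j.rTensor M)) := by
    rw [h3]
    exact h2.comp h1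
  exact Function.Injective.of_comp (f := g.lTensor Y) h4

/-- A binary product of flat modules is flat. -/
theorem flat_prod {R : Type u} [CommRing R] {M N : Type v}
    [AddCommGroup M] [Module R M] [AddCommGroup N] [Module R N]
    [Module.Flat R M] [Module.Flat R N] : Module.Flat R (M × N) := by
  rw [Module.Flat.iff_rTensor_preserves_injective_linearMap]
  intro X Y _ _ _ _ j hj
  rw [injective_iff_map_eq_zero]
  intro z hz
  have hid : (LinearMap.inl R M N).comp (LinearMap.fst R M N) +
      (LinearMap.inr R M N).comp (LinearMap.snd R M N) = LinearMap.id := by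
    apply LinearMap.ext
    intro x
    simp
  have hdecomp : ∀ (W : Type (max u v)) [AddCommGroup W] [Module R W] (w : W ⊗[R] (M × N)),
      w = (LinearMap.inl R M N).lTensor W ((LinearMap.fst R M N).lTensor W w) +
        (LinearMap.inr R M N).lTensor W ((LinearMap.snd R M N).lTensor W w) := by
    intro W _ _ w
    rw [← LinearMap.comp_apply, ← LinearMap.comp_apply, ← LinearMap.lTensor_comp,
      ← LinearMap.lTensor_comp, ← LinearMap.add_apply, ← LinearMap.lTensor_add, hid,
      LinearMap.lTensor_id, LinearMap.id_apply]
  have e1 : (LinearMap.fst R M N).lTensor X z = 0 := by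
    apply Module.Flat.rTensor_preserves_injective_linearMap (M := M) j hj
    rw [map_zero, ← LinearMap.comp_apply, LinearMap.rTensor_comp_lTensor,
      ← LinearMap.lTensor_comp_rTensor, LinearMap.comp_apply, hz, map_zero]
  have e2 : (LinearMap.snd R M N).lTensor X z = 0 := by
    apply Module.Flat.rTensor_preserves_injective_linearMap (M := N) j hj
    rw [map_zero, ← LinearMap.comp_apply, LinearMap.rTensor_comp_lTensor,
      ← LinearMap.lTensor_comp_rTensor, LinearMap.comp_apply, hz, map_zero]
  rw [hdecomp X z, e1, e2, map_zero, map_zero, add_zero]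

end Groth.Agent.Lib.Helper5
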