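import Mathlib
import Groth.Prelude.Def_RegImm

set_option autoImplicit false
universe u

namespace Groth.Agent.Lib.Helper5.KL

open TensorProduct RingTheory.Sequence

/-- `B` Noetherian, `f` in the Jacobson radical, a nonzerodivisor with `B/fB` flat over `A`:
then `B` is flat over `A`. -/
theorem flat_of_regular_of_flat_quotient (A B : Type u) [CommRing A] [CommRing B] [Algebra A B]
    [IsNoetherianRing B] (f : B) (hf : f ∈ (⊥ : Ideal B).jacobson)
    (hreg : IsSMulRegular B f) (hfl : Module.Flat A (B ⧸ Ideal.span {f})) : Module.Flat A B := by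
  rw [Module.Flat.iff_lTensor_injective]
  intro I hI
  have : Module.Finite A I := Module.Finite.iff_fg.mpr hI
  -- the `B`-linear version
  let θ : B ⊗[A] I →ₗ[B] B ⊗[A] A := TensorProduct.AlgebraTensorModule.lTensor B B I.subtype
  have hθ : ∀ x, θ x = LinearMap.lTensor B I.subtype x := fun x => rfl
  let T : Submodule B (B ⊗[A] I) := LinearMap.ker θ
  have hTfg : T.FG := IsNoetherian.noetherian T
  have key : T ≤ Ideal.span {f} • T := by
    intro τ hτ
    have hτ0 : LinearMap.lTensor B I.subtype τ = 0 := hτ
    let π : B →ₗ[A] (B ⧸ Ideal.span {f}) := (Ideal.Quotient.mkₐ A (Ideal.span {f})).toLinearMap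
    have hπs : Function.Surjective π := Ideal.Quotient.mk_surjective
    have hinj : Function.Injective (LinearMap.lTensor (B ⧸ Ideal.span {f}) I.subtype) :=
      Module.Flat.lTensor_preserves_injective_linearMap _ Subtype.val_injective
    have h1 : LinearMap.rTensor I π τ = 0 := by
      apply hinj
      rw [map_zero, ← LinearMap.comp_apply, LinearMap.lTensor_comp_rTensor,
        ← LinearMap.rTensor_comp_lTensor, LinearMap.comp_apply, hτ0, map_zero]
    have hex : Function.Exact (LinearMap.rTensor I (LinearMap.ker π).subtype)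
        (LinearMap.rTensor I π) :=
      rTensor_exact I (LinearMap.exact_subtype_ker_map π) hπs
    obtain ⟨s, hs⟩ := (hex τ).mp h1
    have h2 : ∀ s : (LinearMap.ker π) ⊗[A] I,
        ∃ σ : B ⊗[A] I, LinearMap.rTensor I (LinearMap.ker π).subtype s = f • σ := by
      intro s
      induction s using TensorProduct.induction_on with
      | zero => exact ⟨0, by simp⟩
      | tmul y i =>
        have hy : (y : B) ∈ Ideal.span {f} := by
          have := y.2
          rw [LinearMap.mem_ker] at this
          exact Ideal.Quotient.eq_zero_iff_mem.mp this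
        obtain ⟨b, hb⟩ := Ideal.mem_span_singleton'.mp hy
        refine ⟨b ⊗ₜ i, ?_⟩
        rw [LinearMap.rTensor_tmul, TensorProduct.smul_tmul']
        congr 1
        rw [smul_eq_mul, mul_comm, hb]
        rfl
      | add x y hx hy =>
        obtain ⟨σ₁, h₁⟩ := hx
        obtain ⟨σ₂, h₂⟩ := hy
        exact ⟨σ₁ + σ₂, by rw [map_add, h₁, h₂, smul_add]⟩
    obtain ⟨σ, hσ⟩ := h2 s
    rw [hs] at hσ
    have h3 : σ ∈ T := by
      change θ σ = 0
      have h4 : f • θ σ = 0 := by
        rw [← map_smul, ← hσ]
        exact hτ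
      -- `f` is regular on `B ⊗ A`
      let e : B ⊗[A] A ≃ₗ[B] B := TensorProduct.AlgebraTensorModule.rid A B B
      have h5 : f • e (θ σ) = 0 := by rw [← map_smul, h4, map_zero]
      have h6 : e (θ σ) = 0 := by
        rw [isSMulRegular_iff_right_eq_zero_of_smul] at hreg
        exact hreg _ h5
      exact e.injective (h6.trans (map_zero e).symm)
    rw [hσ]
    exact Submodule.smul_mem_smul (Ideal.mem_span_singleton_self f) h3
  have hjac : Ideal.span {f} ≤ (⊥ : Ideal B).jacobson := by
    rw [Ideal.span_le, Set.singleton_subset_iff]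
    exact hf
  have hT : T = ⊥ := Submodule.eq_bot_of_le_smul_of_le_jacobson_bot _ T hTfg key hjac
  intro x y hxy
  have h1 : x - y ∈ T := by
    change θ (x - y) = 0
    rw [hθ, map_sub, hxy, sub_self]
  rw [hT, Submodule.mem_bot] at h1
  exact sub_eq_zero.mp h1


theorem isSMulRegular_quot_iff {B : Type u} [CommRing B] (I : Ideal B) (x : B) :
    IsSMulRegular (B ⧸ (I • ⊤ : Submodule B B)) x ↔
      IsSMulRegular (B ⧸ I) (Ideal.Quotient.mk I x) := by
  have h1 : (I • ⊤ : Submodule B B) = I := by rw [smul_eq_mul, Ideal.mul_top]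
  rw [h1, isSMulRegular_iff_right_eq_zero_of_smul, isSMulRegular_iff_right_eq_zero_of_smul]
  constructor
  · intro h m hm
    refine h m ?_
    rw [← hm, Algebra.smul_def]
    rfl
  · intro h m hm
    refine h m ?_
    rw [← hm, Algebra.smul_def]
    rfl

theorem ofList_take_succ {B : Type u} [CommRing B] (fs : List B) (j : ℕ) (hj : j < fs.length) :
    Ideal.ofList (fs.take (j + 1)) = Ideal.ofList (fs.take j) ⊔ Ideal.span {fs[j]} := by
  rw [List.take_succ_eq_append_getElem hj, Ideal.ofList_append, Ideal.ofList_singleton]

/-- a weakly regular sequence in the Jacobson radical of a Noetherian ring with flat quotient has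
all its partial quotients flat. -/
theorem isTransRegularSeq_of_regular_of_flat_quotient (A B : Type u) [CommRing A] [CommRing B]
    [Algebra A B] [IsNoetherianRing B] (fs : List B) (hfs : ∀ f ∈ fs, f ∈ Ring.jacobson B)
    (hreg : IsWeaklyRegular B fs) (hfl : Module.Flat A (B ⧸ Ideal.ofList fs)) :
    RegImm.IsTransRegularSeq A B fs := by
  refine ⟨hreg, ?_⟩
  have key : ∀ k : ℕ, k ≤ fs.length →
      Module.Flat A (B ⧸ Ideal.ofList (fs.take (fs.length - k))) := by
    intro k
    induction k with
    | zero =>
      intro _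
      rw [Nat.sub_zero, List.take_length]
      exact hfl
    | succ k ih =>
      intro hk
      have ihk := ih (Nat.le_of_succ_le hk)
      obtain ⟨j, hjdef⟩ : ∃ j, j = fs.length - (k + 1) := ⟨_, rfl⟩
      have hj : j < fs.length := by omega
      have hj1 : fs.length - k = j + 1 := by omega
      rw [← hjdef]
      rw [hj1] at ihk
      have hx := hreg.regular_mod_prev j hj
      rw [isSMulRegular_quot_iff] at hx
      refine flat_of_regular_of_flat_quotient A (B ⧸ Ideal.ofList (fs.take j))
        (Ideal.Quotient.mk _ fs[j]) ?_ hx ?_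
      · rw [Ideal.jacobson_bot]
        exact Ring.le_comap_jacobson (Ideal.Quotient.mk (Ideal.ofList (fs.take j)))
          (hfs _ (List.getElem_mem hj))
      · have e1 := DoubleQuot.quotQuotEquivQuotSupₐ A (Ideal.ofList (fs.take j))
          (Ideal.span {fs[j]})
        have hmap : (Ideal.span {fs[j]}).map
            (Ideal.Quotient.mkₐ A (Ideal.ofList (fs.take j))) =
            Ideal.span {Ideal.Quotient.mk (Ideal.ofList (fs.take j)) fs[j]} := by
          rw [Ideal.map_span, Set.image_singleton]
          rfl
        rw [← ofList_take_succ fs j hj] at e1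
        rw [hmap] at e1
        exact Module.Flat.of_linearEquiv e1.toLinearEquiv
  intro j hj
  have := key (fs.length - j) (Nat.sub_le _ _)
  rwa [Nat.sub_sub_self hj] at this

end Groth.Agent.Lib.Helper5.KL
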