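import Mathlib

set_option autoImplicit false
universe u

namespace Groth.Agent.Lib.Helper5.KL

open TensorProduct

section Stage

variable {R₀ : Type*} [CommRing R₀] {A : Type*} [CommRing A] [Algebra R₀ A]
  (N : Type*) [AddCommGroup N] [Module R₀ N]

/-- the map from the stage of a subalgebra to the whole tensor product. -/
noncomputable def toTop (A₁ : Subalgebra R₀ A) : A₁ ⊗[R₀] N →ₗ[R₀] A ⊗[R₀] N :=
  LinearMap.rTensor N A₁.val.toLinearMap

/-- the transition map between stages. -/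
noncomputable def trans {A₁ A₂ : Subalgebra R₀ A} (h : A₁ ≤ A₂) : A₁ ⊗[R₀] N →ₗ[R₀] A₂ ⊗[R₀] N :=
  LinearMap.rTensor N (Subalgebra.inclusion h).toLinearMap

@[simp] theorem toTop_tmul (A₁ : Subalgebra R₀ A) (a : A₁) (n : N) :
    toTop N A₁ (a ⊗ₜ n) = (a : A) ⊗ₜ n := rfl

@[simp] theorem trans_tmul {A₁ A₂ : Subalgebra R₀ A} (h : A₁ ≤ A₂) (a : A₁) (n : N) :
    trans N h (a ⊗ₜ n) = (Subalgebra.inclusion h a) ⊗ₜ n := rfl

theorem toTop_trans {A₁ A₂ : Subalgebra R₀ A} (h : A₁ ≤ A₂) (x : A₁ ⊗[R₀] N) :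
    toTop N A₂ (trans N h x) = toTop N A₁ x := by
  induction x using TensorProduct.induction_on with
  | zero => simp
  | tmul a n => rfl
  | add x y hx hy => rw [map_add, map_add, map_add, hx, hy]

theorem trans_trans {A₁ A₂ A₃ : Subalgebra R₀ A} (h : A₁ ≤ A₂) (h' : A₂ ≤ A₃)
    (x : A₁ ⊗[R₀] N) : trans N h' (trans N h x) = trans N (h.trans h') x := by
  induction x using TensorProduct.induction_on with
  | zero => simp
  | tmul a n => rfl
  | add x y hx hy => rw [map_add, map_add, map_add, hx, hy]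

/-- every element of `A ⊗ N` comes from a finitely generated stage. -/
theorem exists_fg_mem_range_toTop (x : A ⊗[R₀] N) :
    ∃ A₁ : Subalgebra R₀ A, A₁.FG ∧ x ∈ LinearMap.range (toTop N A₁) := by
  induction x using TensorProduct.induction_on with
  | zero => exact ⟨⊥, Subalgebra.fg_bot, zero_mem _⟩
  | tmul a n =>
    refine ⟨Algebra.adjoin R₀ {a}, Subalgebra.fg_adjoin_finset {a} |> (by simpa using ·), ?_⟩
    exact ⟨(⟨a, Algebra.subset_adjoin (Set.mem_singleton a)⟩ : Algebra.adjoin R₀ {a}) ⊗ₜ n, rfl⟩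
  | add x y hx hy =>
    obtain ⟨A₁, h₁, x', rfl⟩ := hx
    obtain ⟨A₂, h₂, y', rfl⟩ := hy
    refine ⟨A₁ ⊔ A₂, h₁.sup h₂, trans N le_sup_left x' + trans N le_sup_right y', ?_⟩
    rw [map_add, toTop_trans, toTop_trans]


theorem lTensor_toTop {N N' : Type*} [AddCommGroup N] [Module R₀ N] [AddCommGroup N']
    [Module R₀ N'] (g : N →ₗ[R₀] N') (A₁ : Subalgebra R₀ A) (x : A₁ ⊗[R₀] N) :
    LinearMap.lTensor A g (toTop N A₁ x) = toTop N' A₁ (LinearMap.lTensor A₁ g x) := by
  unfold toTop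
  rw [← LinearMap.comp_apply, ← LinearMap.comp_apply, LinearMap.lTensor_comp_rTensor,
    LinearMap.rTensor_comp_lTensor]

theorem lTensor_trans {N N' : Type*} [AddCommGroup N] [Module R₀ N] [AddCommGroup N']
    [Module R₀ N'] (g : N →ₗ[R₀] N') {A₁ A₂ : Subalgebra R₀ A} (h : A₁ ≤ A₂) (x : A₁ ⊗[R₀] N) :
    LinearMap.lTensor A₂ g (trans N h x) = trans N' h (LinearMap.lTensor A₁ g x) := by
  unfold trans
  rw [← LinearMap.comp_apply, ← LinearMap.comp_apply, LinearMap.lTensor_comp_rTensor,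
    LinearMap.rTensor_comp_lTensor]

theorem exists_trans_eq_zero_aux {F : Type*} [AddCommGroup F] [Module R₀ F] [Module.Flat R₀ F]
    (π : F →ₗ[R₀] N) (hπ : Function.Surjective π)
    {A₁ : Subalgebra R₀ A} (x : A₁ ⊗[R₀] N) (hx : toTop N A₁ x = 0) :
    ∃ (A₂ : Subalgebra R₀ A) (h : A₁ ≤ A₂), (A₁.FG → A₂.FG) ∧ trans N h x = 0 := by
  have hex0 : Function.Exact (LinearMap.ker π).subtype π := LinearMap.exact_subtype_ker_map π
  have hexA : Function.Exact (LinearMap.lTensor A (LinearMap.ker π).subtype)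
      (LinearMap.lTensor A π) :=
    lTensor_exact (R := R₀) (M := LinearMap.ker π) (N := F) (P := N)
      (f := (LinearMap.ker π).subtype) (g := π) A hex0 hπ
  obtain ⟨y, hy⟩ := LinearMap.lTensor_surjective A₁ hπ x
  have h1 : LinearMap.lTensor A π (toTop F A₁ y) = 0 := by
    rw [lTensor_toTop, hy, hx]
  obtain ⟨w, hw⟩ := (hexA (toTop F A₁ y)).mp h1
  obtain ⟨Aw, hfg, w', hw'⟩ := exists_fg_mem_range_toTop (LinearMap.ker π) w
  have hinj : Function.Injective (toTop F (A₁ ⊔ Aw)) :=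
    Module.Flat.rTensor_preserves_injective_linearMap _ Subtype.val_injective
  have h2 : trans F le_sup_left y =
      LinearMap.lTensor (A₁ ⊔ Aw : Subalgebra R₀ A) (LinearMap.ker π).subtype
        (trans (LinearMap.ker π) le_sup_right w') := by
    apply hinj
    rw [toTop_trans, ← hw, ← hw', ← lTensor_toTop, toTop_trans]
  refine ⟨A₁ ⊔ Aw, le_sup_left, fun h => h.sup hfg, ?_⟩
  rw [← hy, ← lTensor_trans, h2]
  have hex2 : Function.Exact
      (LinearMap.lTensor (A₁ ⊔ Aw : Subalgebra R₀ A) (LinearMap.ker π).subtype)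
      (LinearMap.lTensor (A₁ ⊔ Aw : Subalgebra R₀ A) π) :=
    lTensor_exact (R := R₀) (M := LinearMap.ker π) (N := F) (P := N)
      (f := (LinearMap.ker π).subtype) (g := π) (A₁ ⊔ Aw : Subalgebra R₀ A) hex0 hπ
  exact (hex2 _).mpr ⟨_, rfl⟩

/-- an element of a stage dying in `A ⊗ N` dies at a later stage. -/
theorem exists_trans_eq_zero {A₁ : Subalgebra R₀ A} (x : A₁ ⊗[R₀] N) (hx : toTop N A₁ x = 0) :
    ∃ (A₂ : Subalgebra R₀ A) (h : A₁ ≤ A₂), (A₁.FG → A₂.FG) ∧ trans N h x = 0 :=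
  exists_trans_eq_zero_aux N (Finsupp.linearCombination R₀ id)
    (Finsupp.linearCombination_id_surjective R₀ N) x hx


theorem range_toTop_mono {A₁ A₂ : Subalgebra R₀ A} (h : A₁ ≤ A₂) :
    LinearMap.range (toTop N A₁) ≤ LinearMap.range (toTop N A₂) := by
  rintro _ ⟨x, rfl⟩
  exact ⟨trans N h x, toTop_trans N h x⟩

/-- finitely many elements of `A ⊗ N` come from a common finitely generated stage. -/
theorem exists_fg_forall_mem_range_toTop {ι : Type*} [Finite ι] (c : ι → A ⊗[R₀] N) :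
    ∃ A₁ : Subalgebra R₀ A, A₁.FG ∧ ∀ p, c p ∈ LinearMap.range (toTop N A₁) := by
  classical
  have := Fintype.ofFinite ι
  choose Ap hfg hmem using fun p => exists_fg_mem_range_toTop N (c p)
  refine ⟨Finset.univ.sup Ap, ?_, fun p => ?_⟩
  · exact Finset.sup_induction Subalgebra.fg_bot (fun a ha b hb => ha.sup hb) (fun p _ => hfg p)
  · exact range_toTop_mono N (Finset.le_sup (Finset.mem_univ p)) (hmem p)

/-- finitely many elements of a stage dying in `A ⊗ N` die at a common later stage. -/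
theorem exists_forall_trans_eq_zero {ι : Type*} [Finite ι] {A₁ : Subalgebra R₀ A}
    (x : ι → A₁ ⊗[R₀] N) (hx : ∀ p, toTop N A₁ (x p) = 0) :
    ∃ (A₂ : Subalgebra R₀ A) (h : A₁ ≤ A₂), (A₁.FG → A₂.FG) ∧ ∀ p, trans N h (x p) = 0 := by
  classical
  have := Fintype.ofFinite ι
  have key : ∀ s : Finset ι, ∃ (A₂ : Subalgebra R₀ A) (h : A₁ ≤ A₂), (A₁.FG → A₂.FG) ∧
      ∀ p ∈ s, trans N h (x p) = 0 := by
    intro s
    induction s using Finset.induction_on with
    | empty => exact ⟨A₁, le_rfl, id, fun p hp => absurd hp (Finset.notMem_empty p)⟩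
    | insert p₀ s _ ih =>
      obtain ⟨A₂, h, hfg, H⟩ := ih
      obtain ⟨A₃, h', hfg', H'⟩ := exists_trans_eq_zero N (trans N h (x p₀))
        (by rw [toTop_trans]; exact hx p₀)
      refine ⟨A₃, h.trans h', fun h0 => hfg' (hfg h0), fun p hp => ?_⟩
      rw [← trans_trans N h h']
      rcases Finset.mem_insert.mp hp with rfl | hp
      · exact H'
      · rw [H p hp, map_zero]
  obtain ⟨A₂, h, hfg, H⟩ := key Finset.univ
  exact ⟨A₂, h, hfg, fun p => H p (Finset.mem_univ p)⟩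

end Stage

end Groth.Agent.Lib.Helper5.KL
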