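import Mathlib
import Groth.Prelude.Def_CAlgX
import Groth.Agent.Lib.Helper26.H1RegBC
import Groth.Agent.Lib.Helper5.KLB

set_option autoImplicit false
universe u

namespace Groth.Agent.Lib.Helper5.KL

open TensorProduct
open Groth.Agent.Lib.Helper26.H1RegBC

section BC

variable (A B A' : Type u) [CommRing A] [CommRing B] [CommRing A'] [Algebra A B] [Algebra A A']
  (r : ℕ) (f : Fin r → B)

/-- with flat quotient, the relations after base change are generated by the relations before. -/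
theorem rel_mem_span_of_flat (hflat : Module.Flat A (B ⧸ Ideal.span (Set.range f)))
    (a' : Fin r → A' ⊗[A] B) (ha' : ∑ i, a' i * ((1 : A') ⊗ₜ[A] f i) = 0) :
    a' ∈ Submodule.span (A' ⊗[A] B)
      {v : Fin r → A' ⊗[A] B | ∃ κ : Fin r → B, ∑ i, κ i * f i = 0 ∧
        v = fun i => (1 : A') ⊗ₜ[A] κ i} := by
  set e := TensorProduct.piRight A A A' (fun _ : Fin r => B) with he
  obtain ⟨t, rfl⟩ := e.surjective a'
  have h1 : (phi A B r f).lTensor A' t = 0 := by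
    rw [key1]
    exact ha'
  have : Module.Flat A (B ⧸ JA A B r f) :=
    Module.Flat.of_linearEquiv (Submodule.Quotient.restrictScalarsEquiv A (Ideal.span (Set.range f)))
  have hinj := Groth.Agent.Lib.Helper26.FlatQuotPure.lTensor_injective_of_flat_quotient
    (JA A B r f) A'
  have h2 : (phi' A B r f).lTensor A' t = 0 := by
    apply hinj
    rw [map_zero, ← LinearMap.comp_apply, ← LinearMap.lTensor_comp, subtype_comp_phi']
    exact h1
  have hex : Function.Exact ((LinearMap.ker (phi' A B r f)).subtype.lTensor A')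
      ((phi' A B r f).lTensor A') :=
    lTensor_exact A' (LinearMap.exact_subtype_ker_map (phi' A B r f)) (phi'_surj A B r f)
  obtain ⟨s, rfl⟩ := (hex t).mp h2
  clear h2 h1 ha'
  induction s using TensorProduct.induction_on with
  | zero => simp
  | tmul x κ =>
    rw [LinearMap.lTensor_tmul]
    have hκ : ∑ i, κ.1 i * f i = 0 := by
      have := κ.2
      rw [LinearMap.mem_ker] at this
      have h3 : phi A B r f κ.1 = 0 := congrArg Subtype.val this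
      rw [phi_apply] at h3
      exact h3
    have h4 : e (x ⊗ₜ[A] ((LinearMap.ker (phi' A B r f)).subtype κ)) =
        (x ⊗ₜ[A] (1 : B)) • (fun i => (1 : A') ⊗ₜ[A] κ.1 i) := by
      rw [he, TensorProduct.piRight_apply, TensorProduct.piRightHom_tmul]
      funext i
      simp [Algebra.TensorProduct.tmul_mul_tmul]
    rw [h4]
    exact Submodule.smul_mem _ _ (Submodule.subset_span ⟨κ.1, hκ, rfl⟩)
  | add x y hx hy =>
    rw [map_add, map_add]
    exact Submodule.add_mem _ hx hy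

end BC


section Descent

variable {R₀ S₀ A : Type u} [CommRing R₀] [CommRing S₀] [CommRing A] [Algebra R₀ S₀]
  [Algebra R₀ A] {r : ℕ} (f₀ : Fin r → S₀)

/-- the map from a stage to the top, as an algebra map. -/
noncomputable def toTopA (A₁ : Subalgebra R₀ A) : A₁ ⊗[R₀] S₀ →ₐ[R₀] A ⊗[R₀] S₀ :=
  Algebra.TensorProduct.map A₁.val (AlgHom.id R₀ S₀)

/-- the transition map between stages, as an algebra map. -/
noncomputable def transA {A₁ A₂ : Subalgebra R₀ A} (h : A₁ ≤ A₂) :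
    A₁ ⊗[R₀] S₀ →ₐ[R₀] A₂ ⊗[R₀] S₀ :=
  Algebra.TensorProduct.map (Subalgebra.inclusion h) (AlgHom.id R₀ S₀)

theorem toTopA_apply (A₁ : Subalgebra R₀ A) (x : A₁ ⊗[R₀] S₀) :
    toTopA A₁ x = toTop S₀ A₁ x := rfl

theorem transA_apply {A₁ A₂ : Subalgebra R₀ A} (h : A₁ ≤ A₂) (x : A₁ ⊗[R₀] S₀) :
    transA h x = trans S₀ h x := rfl

theorem toTopA_one_tmul (A₁ : Subalgebra R₀ A) (s : S₀) :
    toTopA A₁ ((1 : A₁) ⊗ₜ[R₀] s) = (1 : A) ⊗ₜ[R₀] s := by
  unfold toTopA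
  rw [Algebra.TensorProduct.map_tmul, map_one]
  rfl

theorem transA_one_tmul {A₁ A₂ : Subalgebra R₀ A} (h : A₁ ≤ A₂) (s : S₀) :
    transA h ((1 : A₁) ⊗ₜ[R₀] s) = (1 : A₂) ⊗ₜ[R₀] s := by
  unfold transA
  rw [Algebra.TensorProduct.map_tmul, map_one]
  rfl

/-- the trivial relations over `Q ⊗ S₀`. -/
noncomputable def τ (Q : Type u) [CommRing Q] [Algebra R₀ Q] (p : Fin r × Fin r) :
    Fin r → Q ⊗[R₀] S₀ :=
  Pi.single p.1 ((1 : Q) ⊗ₜ[R₀] f₀ p.2) - Pi.single p.2 ((1 : Q) ⊗ₜ[R₀] f₀ p.1)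

theorem T'_eq_span_range (Q : Type u) [CommRing Q] [Algebra R₀ Q] :
    T' R₀ S₀ Q r f₀ = Submodule.span (Q ⊗[R₀] S₀) (Set.range (τ f₀ Q)) := by
  unfold T'
  congr 1
  ext v
  constructor
  · rintro ⟨i, j, rfl⟩; exact ⟨(i, j), rfl⟩
  · rintro ⟨p, rfl⟩; exact ⟨p.1, p.2, rfl⟩

theorem toTopA_τ (A₁ : Subalgebra R₀ A) (p : Fin r × Fin r) (i : Fin r) :
    toTopA A₁ (τ f₀ A₁ p i) = τ f₀ A p i := by
  unfold τ
  simp only [Pi.sub_apply, Pi.single_apply, map_sub, apply_ite (toTopA A₁), map_zero,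
    toTopA_one_tmul]

theorem transA_τ {A₁ A₂ : Subalgebra R₀ A} (h : A₁ ≤ A₂) (p : Fin r × Fin r) (i : Fin r) :
    transA h (τ f₀ A₁ p i) = τ f₀ A₂ p i := by
  unfold τ
  simp only [Pi.sub_apply, Pi.single_apply, map_sub, apply_ite (transA h), map_zero,
    transA_one_tmul]

theorem exists_stage_mem_T'
    (hH1 : CAlgX.IsH1Regular (fun i => ((1 : A) ⊗ₜ[R₀] f₀ i : A ⊗[R₀] S₀)))
    (κ : Fin r → S₀) (hκ : ∑ i, κ i * f₀ i = 0) :
    ∃ Aκ : Subalgebra R₀ A, Aκ.FG ∧ ∀ A' : Subalgebra R₀ A, Aκ ≤ A' →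
      (fun i => ((1 : A') ⊗ₜ[R₀] κ i : A' ⊗[R₀] S₀)) ∈ T' R₀ S₀ A' r f₀ := by
  have hrel : ∑ i, ((1 : A) ⊗ₜ[R₀] κ i : A ⊗[R₀] S₀) * ((1 : A) ⊗ₜ[R₀] f₀ i) = 0 := by
    simp_rw [Algebra.TensorProduct.tmul_mul_tmul, mul_one]
    rw [← TensorProduct.tmul_sum, hκ, TensorProduct.tmul_zero]
  have h1 : (fun i => ((1 : A) ⊗ₜ[R₀] κ i : A ⊗[R₀] S₀)) ∈ T' R₀ S₀ A r f₀ := hH1 _ hrel
  rw [T'_eq_span_range, Submodule.mem_span_range_iff_exists_fun] at h1
  obtain ⟨c, hc⟩ := h1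
  obtain ⟨A₁, hfg₁, hmem⟩ := exists_fg_forall_mem_range_toTop S₀ c
  choose c' hc' using hmem
  obtain ⟨w, hwdef⟩ : ∃ w : Fin r → A₁ ⊗[R₀] S₀,
      w = fun i => ((1 : A₁) ⊗ₜ[R₀] κ i) - ∑ p, c' p * τ f₀ A₁ p i := ⟨_, rfl⟩
  have hw : ∀ i, toTop S₀ A₁ (w i) = 0 := by
    intro i
    rw [← toTopA_apply, hwdef]
    simp only [map_sub, map_sum, map_mul, toTopA_τ, toTopA_one_tmul]
    have h2 := congrFun hc i
    simp only [Finset.sum_apply, Pi.smul_apply, smul_eq_mul] at h2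
    rw [← h2, sub_eq_zero]
    refine Finset.sum_congr rfl fun p _ => ?_
    rw [toTopA_apply, hc']
  obtain ⟨A₂, h12, hfg₂, H⟩ := exists_forall_trans_eq_zero S₀ w hw
  refine ⟨A₂, hfg₂ hfg₁, fun A' hA' => ?_⟩
  rw [T'_eq_span_range, Submodule.mem_span_range_iff_exists_fun]
  refine ⟨fun p => transA (h12.trans hA') (c' p), ?_⟩
  funext i
  have h3 : transA (h12.trans hA') (w i) = 0 := by
    rw [transA_apply, ← trans_trans S₀ h12 hA', H i, map_zero]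
  rw [hwdef] at h3
  simp only [map_sub, map_sum, map_mul, transA_τ, transA_one_tmul] at h3
  simp only [Finset.sum_apply, Pi.smul_apply, smul_eq_mul]
  exact (sub_eq_zero.mp h3).symm

/-- **descent of `H₁`-regularity to a finitely generated stage.** -/
theorem exists_fg_isH1Regular [IsNoetherianRing S₀]
    (hflat : Module.Flat R₀ (S₀ ⧸ Ideal.span (Set.range f₀)))
    (hH1 : CAlgX.IsH1Regular (fun i => ((1 : A) ⊗ₜ[R₀] f₀ i : A ⊗[R₀] S₀))) :
    ∃ A' : Subalgebra R₀ A, A'.FG ∧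
      CAlgX.IsH1Regular (fun i => ((1 : A') ⊗ₜ[R₀] f₀ i : A' ⊗[R₀] S₀)) := by
  classical
  obtain ⟨G, hG⟩ : (LinearMap.ker (Fintype.linearCombination S₀ f₀)).FG :=
    IsNoetherian.noetherian _
  have hGrel : ∀ κ ∈ G, ∑ i, κ i * f₀ i = 0 := by
    intro κ hκ
    have h1 : κ ∈ LinearMap.ker (Fintype.linearCombination S₀ f₀) :=
      hG ▸ Submodule.subset_span hκ
    rw [LinearMap.mem_ker, Fintype.linearCombination_apply] at h1
    simpa [smul_eq_mul] using h1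
  choose Aκ hfgκ hAκ using fun κ : G => exists_stage_mem_T' f₀ hH1 κ.1 (hGrel κ.1 κ.2)
  refine ⟨G.attach.sup Aκ, ?_, ?_⟩
  · exact Finset.sup_induction Subalgebra.fg_bot (fun a ha b hb => ha.sup hb) (fun κ _ => hfgκ κ)
  intro a' ha'
  change a' ∈ T' R₀ S₀ (G.attach.sup Aκ : Subalgebra R₀ A) r f₀
  have h1 := rel_mem_span_of_flat R₀ S₀ (G.attach.sup Aκ : Subalgebra R₀ A) r f₀ hflat a' ha'
  refine Submodule.span_le.mpr ?_ h1
  rintro _ ⟨κ, hκ, rfl⟩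
  have hκZ : κ ∈ Submodule.span S₀ (G : Set (Fin r → S₀)) := by
    rw [hG, LinearMap.mem_ker, Fintype.linearCombination_apply]
    simpa [smul_eq_mul] using hκ
  clear hκ
  induction hκZ using Submodule.span_induction with
  | mem κ hκ =>
    exact hAκ ⟨κ, hκ⟩ _ (Finset.le_sup (f := Aκ) (Finset.mem_attach G ⟨κ, hκ⟩))
  | zero =>
    have : (fun i => ((1 : (G.attach.sup Aκ : Subalgebra R₀ A)) ⊗ₜ[R₀] (0 : Fin r → S₀) i :
        (G.attach.sup Aκ : Subalgebra R₀ A) ⊗[R₀] S₀)) = 0 := by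
      funext i; simp
    rw [SetLike.mem_coe, this]
    exact zero_mem _
  | add κ₁ κ₂ _ _ h₁ h₂ =>
    have : (fun i => ((1 : (G.attach.sup Aκ : Subalgebra R₀ A)) ⊗ₜ[R₀] (κ₁ + κ₂) i :
        (G.attach.sup Aκ : Subalgebra R₀ A) ⊗[R₀] S₀)) =
        (fun i => (1 : (G.attach.sup Aκ : Subalgebra R₀ A)) ⊗ₜ[R₀] κ₁ i) +
          (fun i => (1 : (G.attach.sup Aκ : Subalgebra R₀ A)) ⊗ₜ[R₀] κ₂ i) := by
      funext i; simp [TensorProduct.tmul_add]
    rw [SetLike.mem_coe, this]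
    exact add_mem h₁ h₂
  | smul s κ _ h =>
    have : (fun i => ((1 : (G.attach.sup Aκ : Subalgebra R₀ A)) ⊗ₜ[R₀] (s • κ) i :
        (G.attach.sup Aκ : Subalgebra R₀ A) ⊗[R₀] S₀)) =
        ((1 : (G.attach.sup Aκ : Subalgebra R₀ A)) ⊗ₜ[R₀] s) •
          (fun i => (1 : (G.attach.sup Aκ : Subalgebra R₀ A)) ⊗ₜ[R₀] κ i) := by
      funext i; simp [Algebra.TensorProduct.tmul_mul_tmul]
    rw [SetLike.mem_coe, this]
    exact Submodule.smul_mem _ _ h

end Descent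

end Groth.Agent.Lib.Helper5.KL
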