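import Mathlib
import Groth.Prelude.Def_RegImm
import Groth.Agent.Lib.Helper5.RegImmA
import Groth.Agent.Lib.Helper5.FlatKind

/-!
# From a regular immersion (of some kind) to a locally regular kernel ideal on an affine open
-/

set_option autoImplicit false
universe u
open CategoryTheory CategoryTheory.Limits AlgebraicGeometry TopologicalSpace

namespace Groth.Agent.Lib.Helper5.RegDesc

open Groth.Agent.Lib.Helper5.RegImmA Groth.Agent.Lib.Helper5.FlatKind

/-- ring-level: `I` is locally (around the primes containing it) generated by a sequence of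
kind `k` -/
def KindIdeal (k : RegImm.Kind) {A : Type u} [CommRing A] (I : Ideal A) : Prop :=
  ∀ 𝔭 : PrimeSpectrum A, I ≤ 𝔭.asIdeal → ∃ g : A, g ∉ 𝔭.asIdeal ∧
    ∃ l : List (Localization.Away g), k.Seq (Localization.Away g) l ∧
      I.map (algebraMap A (Localization.Away g)) = Ideal.ofList l

theorem kind_seq_map_of_flat' (k : RegImm.Kind) (hk : k ≠ RegImm.Kind.regular)
    {A B : Type u} [CommRing A] [CommRing B]
    (φ : A →+* B) (hφ : φ.Flat) (rs : List A) (h : k.Seq A rs) : k.Seq B (rs.map φ) := by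
  let _ : Algebra A B := φ.toAlgebra
  have hfl : Module.Flat A B := hφ
  have hc : rs.length = (rs.map φ).length := (List.length_map φ).symm
  have hfg : ∀ i, (algebraMap A B ∘ rs.get) i = (rs.map φ).get (Fin.cast hc i) := by
    intro i
    simp only [Function.comp_apply, List.get_eq_getElem, Fin.val_cast, List.getElem_map]
    rfl
  cases k with
  | regular => exact absurd rfl hk
  | koszul => exact Groth.Agent.Lib.Helper5.KosBC.isKoszulRegularSeq_map φ hφ rs h
  | h1 => exact h1_congr hc _ _ hfg (h1_of_flat rs.get h)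
  | quasi =>
    exact qr_congr hc _ _ hfg (Groth.Agent.Lib.Helper21.QRDescent.qr_of_flat rs.get h)

variable {X Z : Scheme.{u}} (i : Z ⟶ X)

theorem mem_basicOpen_fromSpec_iff {W : X.Opens} (hW : IsAffineOpen W)
    (𝔮 : PrimeSpectrum Γ(X, W)) (f : Γ(X, W)) :
    hW.fromSpec 𝔮 ∈ X.basicOpen f ↔ f ∉ 𝔮.asIdeal := by
  have h1 : hW.fromSpec 𝔮 ∈ X.basicOpen f ↔ 𝔮 ∈ hW.fromSpec ⁻¹ᵁ X.basicOpen f := Iff.rfl
  rw [h1, hW.fromSpec_preimage_basicOpen f]
  exact Iff.rfl

theorem fromSpec_mem {W : X.Opens} (hW : IsAffineOpen W) (𝔮 : PrimeSpectrum Γ(X, W)) :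
    hW.fromSpec 𝔮 ∈ W := by
  have : hW.fromSpec 𝔮 ∈ Set.range hW.fromSpec := Set.mem_range_self 𝔮
  rwa [hW.range_fromSpec] at this

/-- a point of `W` outside the image of `i` is not in the zero locus of the kernel -/
theorem exists_mem_ker_of_notMem_range {W : X.Opens} (hW : IsAffineOpen W)
    [IsClosedImmersion (i ∣_ W)] (x : X) (hxW : x ∈ W) (hx : x ∉ Set.range i) :
    ∃ f ∈ RingHom.ker (i.app W).hom, x ∈ X.basicOpen f := by
  have hcl : IsClosed (Set.range (i ∣_ W)) := (i ∣_ W).isClosedEmbedding.isClosed_range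
  let O' : W.toScheme.Opens := ⟨(Set.range (i ∣_ W))ᶜ, hcl.isOpen_compl⟩
  let O : X.Opens := W.ι ''ᵁ O'
  have hxO : x ∈ O := by
    refine ⟨⟨x, hxW⟩, ?_, rfl⟩
    rintro ⟨z', hz'⟩
    apply hx
    refine ⟨z'.1, ?_⟩
    have := morphismRestrict_base_coe i W z'
    rw [hz'] at this
    exact this.symm
  have hO : ∀ z : Z, i z ∉ O := by
    rintro z ⟨w, hw, hwz⟩
    apply hw
    have hzW : z ∈ i ⁻¹ᵁ W := by
      change i z ∈ W
      rw [← hwz]
      exact w.2
    refine ⟨⟨z, hzW⟩, ?_⟩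
    apply Subtype.ext
    rw [morphismRestrict_base_coe]
    exact hwz.symm
  obtain ⟨f0, hf0le, hxf0⟩ := hW.exists_basicOpen_le ⟨x, hxO⟩ hxW
  have hbot : Z.basicOpen ((i.app W).hom f0) = ⊥ := by
    rw [← Scheme.preimage_basicOpen]
    ext z
    simp only [Opens.coe_bot, Set.mem_empty_iff_false, iff_false]
    intro hz
    exact hO z (hf0le hz)
  have hcomp : IsCompact (i ⁻¹ᵁ W : Z.Opens).carrier :=
    (isAffineOpen_preimage_of_restrict i hW).isCompact
  obtain ⟨n, hn⟩ := (Scheme.isNilpotent_iff_basicOpen_eq_bot_of_isCompact hcomp _).2 hbot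
  refine ⟨f0 ^ n, ?_, ?_⟩
  · rw [RingHom.mem_ker, map_pow]
    exact hn
  · by_cases hn0 : n = 0
    · subst hn0
      rw [pow_zero, Scheme.basicOpen_one]
      exact hxW
    · rw [Scheme.basicOpen_pow _ _ (Nat.pos_of_ne_zero hn0)]
      exact hxf0

/-- **From immersions to ideals**: if `i` restricts to a closed immersion over the affine open
`W` and is a regular immersion of kind `k` at all points over `W`, then the kernel of
`Γ(X, W) → Γ(Z, i⁻¹ W)` is locally generated by sequences of kind `k`. -/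
theorem kindIdeal_ker_app (k : RegImm.Kind) (hk : k ≠ RegImm.Kind.regular)
    {W : X.Opens} (hW : IsAffineOpen W) [IsClosedImmersion (i ∣_ W)]
    (h : ∀ z : Z, i z ∈ W → RegImm.IsRegularImmersionAt k i z) :
    KindIdeal k (RingHom.ker (i.app W).hom) := by
  intro 𝔮 hK
  set x := hW.fromSpec 𝔮 with hx
  have hxW : x ∈ W := fromSpec_mem hW 𝔮
  by_cases hxi : x ∈ Set.range i
  · obtain ⟨z, hz⟩ := hxi
    obtain ⟨U'', hzU'', hU''c, rs, hrs, hker⟩ := h z (hz ▸ hxW)
    have hxU'' : x ∈ U''.1 := hz ▸ hzU''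
    obtain ⟨f, hfle, hxf⟩ := hW.exists_basicOpen_le ⟨x, hxU''⟩ hxW
    have hV : IsAffineOpen (X.basicOpen f) := hW.basicOpen f
    have hVW : X.basicOpen f ≤ W := X.basicOpen_le f
    refine ⟨f, (mem_basicOpen_fromSpec_iff hW 𝔮 f).1 hxf, ?_⟩
    have : IsClosedImmersion (i ∣_ U''.1) := hU''c
    have h1 : k.Seq Γ(X, X.basicOpen f) (rs.map (X.presheaf.map (homOfLE hfle).op).hom) :=
      kind_seq_map_of_flat' k hk _ (flat_res U''.2 hV hfle) rs hrs
    have hk1 : RingHom.ker (i.app (X.basicOpen f)).hom =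
        Ideal.ofList (rs.map (X.presheaf.map (homOfLE hfle).op).hom) := by
      rw [← ker_map_res i U''.2 hV hfle, hker, Ideal.map_ofList]
    have hk2 : (RingHom.ker (i.app W).hom).map (algebraMap Γ(X, W) Γ(X, X.basicOpen f)) =
        RingHom.ker (i.app (X.basicOpen f)).hom := ker_map_res i hW hV hVW
    have hloc : IsLocalization.Away f Γ(X, X.basicOpen f) := hW.isLocalization_basicOpen f
    let e : Γ(X, X.basicOpen f) ≃ₐ[Γ(X, W)] Localization.Away f :=
      IsLocalization.algEquiv (Submonoid.powers f) _ _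
    refine ⟨(rs.map (X.presheaf.map (homOfLE hfle).op).hom).map (e : Γ(X, X.basicOpen f) →+* _),
      ?_, ?_⟩
    · exact kind_seq_map_of_flat' k hk _ (RingHom.Flat.of_bijective e.bijective) _ h1
    · have hcomp : (e : Γ(X, X.basicOpen f) →+* Localization.Away f).comp
          (algebraMap Γ(X, W) Γ(X, X.basicOpen f)) = algebraMap Γ(X, W) (Localization.Away f) :=
        RingHom.ext (fun a => e.commutes a)
      rw [← Ideal.map_ofList, ← hk1, ← hk2, Ideal.map_map, hcomp]
  · exfalso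
    obtain ⟨f, hfK, hxf⟩ := exists_mem_ker_of_notMem_range i hW x hxW hxi
    exact (mem_basicOpen_fromSpec_iff hW 𝔮 f).1 hxf (hK hfK)

end Groth.Agent.Lib.Helper5.RegDesc
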