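import Mathlib
import Groth.Agent.Lib.Helper21.FlatLocal3

/-!
# Helper5 — RelGCIE

Base change of a weakly regular sequence with flat partial quotients: if `ys` is weakly regular on
the `S`-module `N` and all `N/(y_1..y_i)N` are flat over `R`, then `ys` is weakly regular on
`N ⊗[R] M` for every `R`-module `M`.
-/

set_option autoImplicit false
universe u

namespace Groth.Agent.Lib.Helper5.RelGCI

open RingTheory.Sequence TensorProduct Pointwise Groth.Agent.Lib.Helper21.FlatLocal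

section Tensor

variable {R S : Type u} [CommRing R] [CommRing S] [Algebra R S]
variable (M : Type u) [AddCommGroup M] [Module R M]

theorem isWeaklyRegular_tensor (ys : List S) :
    ∀ (N : Type u) [AddCommGroup N] [Module S N] [Module R N] [IsScalarTower R S N],
      IsWeaklyRegular N ys →
      (∀ i : ℕ, Module.Flat R (N ⧸ (Ideal.ofList (ys.take i) • ⊤ : Submodule S N))) →
      IsWeaklyRegular (N ⊗[R] M) ys := by
  induction ys with
  | nil =>
    intro N _ _ _ _ _ _
    exact IsWeaklyRegular.nil S _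
  | cons y ys ih =>
    intro N _ _ _ _ h hfl
    rw [isWeaklyRegular_cons_iff] at h ⊢
    obtain ⟨h1, h2⟩ := h
    have hflat1 : Module.Flat R (QuotSMulTop y N) := by
      have h := hfl 1
      have heq : (Ideal.ofList ((y :: ys).take 1) • ⊤ : Submodule S N) = y • (⊤ : Submodule S N) := by
        rw [List.take_succ_cons, List.take_zero, Ideal.ofList_singleton,
          Submodule.ideal_span_singleton_smul]
      exact Module.Flat.of_linearEquiv ((Submodule.quotEquivOfEq _ _ heq).restrictScalars R).symm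
    refine ⟨isSMulRegular_tensor_of_flat_quot M y h1, ?_⟩
    refine ((quotSMulTopTensorEquiv' M y).isWeaklyRegular_congr ys).2 (ih (QuotSMulTop y N) h2 ?_)
    intro i
    have h := hfl (i + 1)
    rw [List.take_succ_cons] at h
    exact Module.Flat.of_linearEquiv
      ((Submodule.quotOfListConsSMulTopEquivQuotSMulTopInner N y (ys.take i)).restrictScalars R).symm

end Tensor


section Pushout

variable {R₀ R P₀ P L₀ : Type u} [CommRing R₀] [CommRing R] [CommRing P₀] [CommRing P]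
  [CommRing L₀] [Algebra R₀ R] [Algebra R₀ P₀] [Algebra R₀ P] [Algebra R P] [Algebra P₀ P]
  [IsScalarTower R₀ R P] [IsScalarTower R₀ P₀ P] [Algebra.IsPushout R₀ R P₀ P]
  [Algebra P₀ L₀] [Algebra R₀ L₀] [IsScalarTower R₀ P₀ L₀]

/-- the additive comparison `L₀ ⊗[R₀] R ≃ P ⊗[P₀] L₀`. -/
noncomputable def swapEquiv : L₀ ⊗[R₀] R ≃+ P ⊗[P₀] L₀ :=
  (TensorProduct.comm R₀ L₀ R).toAddEquiv.trans
    (Algebra.IsPushout.cancelBaseChange R₀ R P₀ P L₀).symm.toAddEquiv

theorem swapEquiv_tmul (l : L₀) (r : R) :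
    swapEquiv (R₀ := R₀) (P₀ := P₀) (P := P) (l ⊗ₜ[R₀] r) = algebraMap R P r ⊗ₜ[P₀] l := by
  simp [swapEquiv]

theorem swapEquiv_smul (y : L₀) (x : L₀ ⊗[R₀] R) :
    swapEquiv (R₀ := R₀) (P₀ := P₀) (P := P) (y • x) =
      ((1 : P) ⊗ₜ[P₀] y) • swapEquiv (R₀ := R₀) (P₀ := P₀) (P := P) x := by
  induction x using TensorProduct.induction_on with
  | zero => simp
  | tmul l r =>
    rw [TensorProduct.smul_tmul', swapEquiv_tmul, swapEquiv_tmul]
    simp only [smul_eq_mul, Algebra.TensorProduct.tmul_mul_tmul, one_mul]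
  | add a b ha hb => rw [smul_add, map_add, ha, hb, map_add, smul_add]

variable (R₀ R) in
include R₀ R in
theorem isWeaklyRegular_tensor_pushout (ys : List L₀) (hreg : IsWeaklyRegular L₀ ys)
    (hfl : ∀ i : ℕ, Module.Flat R₀ (L₀ ⧸ Ideal.ofList (ys.take i))) :
    IsWeaklyRegular (P ⊗[P₀] L₀)
      (ys.map (Algebra.TensorProduct.includeRight : L₀ →ₐ[P₀] P ⊗[P₀] L₀)) := by
  have h1 : IsWeaklyRegular (L₀ ⊗[R₀] R) ys := by
    refine isWeaklyRegular_tensor R ys L₀ hreg ?_
    intro i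
    have heq : (Ideal.ofList (ys.take i) • ⊤ : Submodule L₀ L₀) = Ideal.ofList (ys.take i) := by
      rw [smul_eq_mul, Ideal.mul_top]
    exact Module.Flat.of_linearEquiv ((Submodule.quotEquivOfEq _ _ heq).restrictScalars R₀)
  refine (AddEquiv.isWeaklyRegular_congr (e := swapEquiv (R₀ := R₀) (P₀ := P₀) (P := P)) ?_).1 h1
  rw [List.forall₂_map_right_iff, List.forall₂_same]
  intro y _ x
  exact swapEquiv_smul y x

variable (R₀) in
theorem flat_quotient_tensor_pushout (J : Ideal L₀) (h : Module.Flat R₀ (L₀ ⧸ J)) :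
    Module.Flat R ((P ⊗[P₀] L₀) ⧸
      J.map (Algebra.TensorProduct.includeRight : L₀ →ₐ[P₀] P ⊗[P₀] L₀)) := by
  let e1 := Algebra.TensorProduct.tensorQuotientEquiv (R := P₀) P L₀ P J
  let e2 := Algebra.IsPushout.cancelBaseChangeAlg R₀ R P₀ P (L₀ ⧸ J)
  exact Module.Flat.of_linearEquiv
    ((e1.symm.restrictScalars R).toLinearEquiv.trans e2.toLinearEquiv)

end Pushout


section Loc

variable {R₀ R P₀ P L₀ L : Type u} [CommRing R₀] [CommRing R] [CommRing P₀] [CommRing P]
  [CommRing L₀] [CommRing L] [Algebra R₀ R] [Algebra R₀ P₀] [Algebra R₀ P] [Algebra R P]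
  [Algebra P₀ P] [IsScalarTower R₀ R P] [IsScalarTower R₀ P₀ P] [Algebra.IsPushout R₀ R P₀ P]
  [Algebra P₀ L₀] [Algebra R₀ L₀] [IsScalarTower R₀ P₀ L₀]
  (M₀ : Submonoid P₀) [IsLocalization M₀ L₀]
  (N : Submonoid P) [Algebra P L] [IsLocalization N L] [Algebra R L] [IsScalarTower R P L]

theorem map_includeRight_eq (gs : List P₀) :
    (gs.map (algebraMap P₀ L₀)).map (Algebra.TensorProduct.includeRight : L₀ →ₐ[P₀] P ⊗[P₀] L₀) =
      (gs.map (algebraMap P₀ P)).map (algebraMap P (P ⊗[P₀] L₀)) := by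
  rw [List.map_map, List.map_map]
  apply List.map_congr_left
  intro g _
  simp only [Function.comp_apply, Algebra.TensorProduct.includeRight_apply,
    Algebra.TensorProduct.algebraMap_apply, Algebra.algebraMap_self, RingHom.id_apply]
  rw [Algebra.algebraMap_eq_smul_one, Algebra.algebraMap_eq_smul_one, TensorProduct.smul_tmul]

include M₀ in
theorem regular_flat_baseChange (hle : Algebra.algebraMapSubmonoid P M₀ ≤ N) (fs₀ : List P₀)
    (hreg : IsWeaklyRegular L₀ (fs₀.map (algebraMap P₀ L₀)))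
    (hfl : ∀ i : ℕ, Module.Flat R₀ (L₀ ⧸ Ideal.ofList ((fs₀.take i).map (algebraMap P₀ L₀)))) :
    IsWeaklyRegular L ((fs₀.map (algebraMap P₀ P)).map (algebraMap P L)) ∧
      ∀ i : ℕ, Module.Flat R (L ⧸ Ideal.ofList
        (((fs₀.take i).map (algebraMap P₀ P)).map (algebraMap P L))) := by
  have hB' : IsLocalization (Algebra.algebraMapSubmonoid P M₀) (P ⊗[P₀] L₀) := inferInstance
  letI : Algebra (P ⊗[P₀] L₀) L :=
    IsLocalization.localizationAlgebraOfSubmonoidLe (P ⊗[P₀] L₀) L _ N hle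
  have htow : IsScalarTower P (P ⊗[P₀] L₀) L :=
    IsLocalization.localization_isScalarTower_of_submonoid_le (P ⊗[P₀] L₀) L _ N hle
  have hL : IsLocalization (N.map (algebraMap P (P ⊗[P₀] L₀))) L :=
    IsLocalization.isLocalization_of_submonoid_le (P ⊗[P₀] L₀) L _ N hle
  have htow' : IsScalarTower R (P ⊗[P₀] L₀) L := IsScalarTower.to₁₃₄ R P (P ⊗[P₀] L₀) L
  have hlist : ∀ gs : List P, (gs.map (algebraMap P (P ⊗[P₀] L₀))).map
      (algebraMap (P ⊗[P₀] L₀) L) = gs.map (algebraMap P L) := by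
    intro gs
    rw [List.map_map]
    apply List.map_congr_left
    intro x _
    exact (IsScalarTower.algebraMap_apply P (P ⊗[P₀] L₀) L x).symm
  constructor
  · have h1 := isWeaklyRegular_tensor_pushout R₀ R (P₀ := P₀) (P := P)
      (fs₀.map (algebraMap P₀ L₀)) hreg (by intro i; rw [← List.map_take]; exact hfl i)
    rw [map_includeRight_eq] at h1
    have h2 := h1.of_isLocalization L (N.map (algebraMap P (P ⊗[P₀] L₀)))
    rwa [hlist] at h2
  · intro i
    have h3 := flat_quotient_tensor_pushout (R := R) (P₀ := P₀) (P := P) R₀ _ (hfl i)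
    have hmap : (Ideal.ofList ((fs₀.take i).map (algebraMap P₀ L₀))).map
        (Algebra.TensorProduct.includeRight : L₀ →ₐ[P₀] P ⊗[P₀] L₀) =
        Ideal.ofList (((fs₀.take i).map (algebraMap P₀ L₀)).map
          (Algebra.TensorProduct.includeRight : L₀ →ₐ[P₀] P ⊗[P₀] L₀)) :=
      Ideal.map_ofList (Algebra.TensorProduct.includeRight : L₀ →ₐ[P₀] P ⊗[P₀] L₀).toRingHom _
    rw [hmap] at h3
    have h3' : Module.Flat R ((P ⊗[P₀] L₀) ⧸ Ideal.ofList
        (((fs₀.take i).map (algebraMap P₀ P)).map (algebraMap P (P ⊗[P₀] L₀)))) := by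
      rw [← map_includeRight_eq]; exact h3
    obtain ⟨J', hJ'⟩ : ∃ J' : Ideal (P ⊗[P₀] L₀), J' = Ideal.ofList
        (((fs₀.take i).map (algebraMap P₀ P)).map (algebraMap P (P ⊗[P₀] L₀))) := ⟨_, rfl⟩
    rw [← hJ'] at h3'
    have hJL : Ideal.ofList (((fs₀.take i).map (algebraMap P₀ P)).map (algebraMap P L)) =
        J'.map (algebraMap (P ⊗[P₀] L₀) L) := by
      rw [hJ', Ideal.map_ofList, hlist]
    rw [hJL]
    have hfl' : Module.Flat ((P ⊗[P₀] L₀) ⧸ J') (L ⧸ J'.map (algebraMap (P ⊗[P₀] L₀) L)) :=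
      IsLocalization.flat _ (Algebra.algebraMapSubmonoid ((P ⊗[P₀] L₀) ⧸ J')
        (N.map (algebraMap P (P ⊗[P₀] L₀))))
    have hst : IsScalarTower R ((P ⊗[P₀] L₀) ⧸ J') (L ⧸ J'.map (algebraMap (P ⊗[P₀] L₀) L)) := by
      refine IsScalarTower.of_algebraMap_eq (R := R) (S := (P ⊗[P₀] L₀) ⧸ J')
        (A := L ⧸ J'.map (algebraMap (P ⊗[P₀] L₀) L)) fun a => ?_
      have e1 : algebraMap R ((P ⊗[P₀] L₀) ⧸ J') a =
          Ideal.Quotient.mk _ (algebraMap R (P ⊗[P₀] L₀) a) := rfl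
      have e2 : algebraMap R (L ⧸ J'.map (algebraMap (P ⊗[P₀] L₀) L)) a =
          Ideal.Quotient.mk _ (algebraMap R L a) := rfl
      rw [e1, e2, Ideal.Quotient.algebraMap_quotient_map_quotient,
        ← IsScalarTower.algebraMap_apply R (P ⊗[P₀] L₀) L]
    exact Module.Flat.trans R ((P ⊗[P₀] L₀) ⧸ J') _

end Loc

end Groth.Agent.Lib.Helper5.RelGCI
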