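import Mathlib
import Groth.Prelude.Def_RegImm
import Groth.Agent.Lib.Helper5.RelGCIE

set_option autoImplicit false
universe u

namespace Groth.Agent.Lib.Helper5.TransNbhd

open TensorProduct RingTheory.Sequence

/-- transversally regular sequences are stable under arbitrary base change. -/
theorem isTransRegularSeq_baseChange (A B A' B' : Type u) [CommRing A] [CommRing B] [CommRing A']
    [CommRing B'] [Algebra A B] [Algebra A A'] [Algebra A B'] [Algebra B B'] [Algebra A' B']
    [IsScalarTower A B B'] [IsScalarTower A A' B'] [Algebra.IsPushout A B A' B'] (rs : List B)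
    (h : RegImm.IsTransRegularSeq A B rs) :
    RegImm.IsTransRegularSeq A' B' (rs.map (algebraMap B B')) := by
  obtain ⟨hwr, hfl⟩ := h
  have hfl' : ∀ i : ℕ, Module.Flat A (B ⧸ Ideal.ofList (rs.take i)) := by
    intro i
    by_cases hi : i ≤ rs.length
    · exact hfl i hi
    · have : rs.take i = rs.take rs.length := by
        rw [List.take_length, List.take_of_length_le (le_of_not_ge hi)]
      rw [this]
      exact hfl _ le_rfl
  constructor
  · have h1 : IsWeaklyRegular (B ⊗[A] A') rs := by
      refine Groth.Agent.Lib.Helper5.RelGCI.isWeaklyRegular_tensor A' rs B hwr ?_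
      intro i
      have heq : (Ideal.ofList (rs.take i) • ⊤ : Submodule B B) = Ideal.ofList (rs.take i) := by
        rw [smul_eq_mul, Ideal.mul_top]
      have := hfl' i
      exact Module.Flat.of_linearEquiv ((Submodule.quotEquivOfEq _ _ heq).restrictScalars A)
    have h2 : IsWeaklyRegular B' rs :=
      ((Algebra.IsPushout.equiv A B A' B').toLinearEquiv.isWeaklyRegular_congr rs).mp h1
    exact (isWeaklyRegular_map_algebraMap_iff B' B' rs).mpr h2
  · intro j _
    have : Algebra.IsPushout A A' B B' := Algebra.IsPushout.symm inferInstance
    have hJ : Ideal.ofList ((rs.map (algebraMap B B')).take j) =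
        (Ideal.ofList (rs.take j)).map (algebraMap B B') := by
      rw [Ideal.map_ofList, List.map_take]
    rw [hJ]
    have := hfl' j
    let e1 := Algebra.TensorProduct.quotIdealMapEquivTensorQuot B' (Ideal.ofList (rs.take j))
    let e2 := Algebra.IsPushout.cancelBaseChange A A' B B' (B ⧸ Ideal.ofList (rs.take j))
    exact Module.Flat.of_linearEquiv ((e1.toLinearEquiv.restrictScalars A').trans e2)

end Groth.Agent.Lib.Helper5.TransNbhd
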