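import Mathlib
import Groth.Prelude.Def_RegImm
import Groth.Agent.Lib.Helper5.TransNbhdC

set_option autoImplicit false
universe u
open CategoryTheory CategoryTheory.Limits AlgebraicGeometry TopologicalSpace TensorProduct

namespace Groth.Agent.Lib.Helper5.TransNbhd

open RingTheory.Sequence

theorem appLE_SpecMap_fromSpec {S : Scheme.{u}} {V : S.Opens} (hV : IsAffineOpen V)
    (R : CommRingCat.{u}) (α : Γ(S, V) ⟶ R)
    (e : ⊤ ≤ (Spec.map α ≫ hV.fromSpec) ⁻¹ᵁ V) :
    (Spec.map α ≫ hV.fromSpec).appLE V ⊤ e ≫ (Scheme.ΓSpecIso R).hom = α := by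
  rw [← Scheme.Hom.appLE_comp_appLE (Spec.map α) hV.fromSpec V ⊤ ⊤
    (by rw [hV.fromSpec_preimage_self]) le_top]
  simp only [Scheme.Hom.appLE, IsAffineOpen.fromSpec_app_self, Category.assoc]
  rw [← Functor.map_comp_assoc]
  have h1 : ∀ (φ : (Opposite.op (⊤ : (Spec Γ(S, V)).Opens)) ⟶ Opposite.op ⊤),
      (Spec Γ(S, V)).presheaf.map φ = 𝟙 _ := fun φ => by
    rw [Subsingleton.elim φ (𝟙 _), CategoryTheory.Functor.map_id]
  have h2 : ∀ (φ : (Opposite.op (⊤ : (Spec R).Opens)) ⟶ Opposite.op ⊤),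
      (Spec R).presheaf.map φ = 𝟙 _ := fun φ => by
    rw [Subsingleton.elim φ (𝟙 _), CategoryTheory.Functor.map_id]
  simp

/-- transport of transversally regular sequences along a ring isomorphism. -/
theorem isTransRegularSeq_ringEquiv (A B B₂ : Type u) [CommRing A] [CommRing B] [CommRing B₂]
    [Algebra A B] [Algebra A B₂] (e : B ≃+* B₂)
    (he : ∀ a, e (algebraMap A B a) = algebraMap A B₂ a) (rs : List B)
    (h : RegImm.IsTransRegularSeq A B rs) : RegImm.IsTransRegularSeq A B₂ (rs.map e) := by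
  obtain ⟨hwr, hfl⟩ := h
  let e' : B ≃ₐ[A] B₂ := { e with commutes' := he }
  constructor
  · let _ : Algebra B B₂ := e.toRingHom.toAlgebra
    let eL : B ≃ₗ[B] B₂ :=
      { e.toAddEquiv with
        map_smul' := fun b x => by
          change e (b * x) = e b * e x
          exact map_mul e b x }
    have h2 : IsWeaklyRegular B₂ rs := (eL.isWeaklyRegular_congr rs).mp hwr
    exact (isWeaklyRegular_map_algebraMap_iff B₂ B₂ rs).mpr h2
  · intro j hj
    rw [List.length_map] at hj
    have := hfl j hj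
    have hJ : Ideal.ofList ((rs.map e).take j) = (Ideal.ofList (rs.take j)).map (e' : B →+* B₂) := by
      rw [Ideal.map_ofList, List.map_take]
      rfl
    exact Module.Flat.of_linearEquiv
      (Ideal.quotientEquivAlg (Ideal.ofList (rs.take j)) _ e' hJ).symm.toLinearEquiv

/-- the kernel of `Γ(Spec R, ⊤) → Γ(Spec (R/I), ⊤)`. -/
theorem ker_specMap_mk_appTop (R : CommRingCat.{u}) (rs : List R) :
    RingHom.ker ((Spec.map (CommRingCat.ofHom (Ideal.Quotient.mk (Ideal.ofList rs)))).app ⊤).hom =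
      Ideal.ofList (rs.map (Scheme.ΓSpecIso R).commRingCatIsoToRingEquiv.symm) := by
  let e : Γ(Spec R, ⊤) ≃+* R := (Scheme.ΓSpecIso R).commRingCatIsoToRingEquiv
  have hnat := Scheme.ΓSpecIso_naturality (CommRingCat.ofHom (Ideal.Quotient.mk (Ideal.ofList rs)))
  have hker : RingHom.ker ((Spec.map (CommRingCat.ofHom
      (Ideal.Quotient.mk (Ideal.ofList rs)))).appTop).hom =
      (Ideal.ofList rs).comap (e : Γ(Spec R, ⊤) →+* R) := by
    ext a
    rw [RingHom.mem_ker, Ideal.mem_comap]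
    have h1 := congrArg (fun φ => φ.hom a) hnat
    simp only [CommRingCat.hom_comp, RingHom.comp_apply, CommRingCat.hom_ofHom] at h1
    constructor
    · intro ha
      rw [ha, map_zero] at h1
      exact Ideal.Quotient.eq_zero_iff_mem.mp h1.symm
    · intro ha
      have h2 : Ideal.Quotient.mk (Ideal.ofList rs) (e a) = 0 :=
        Ideal.Quotient.eq_zero_iff_mem.mpr ha
      have h3 : (Scheme.ΓSpecIso (CommRingCat.of (R ⧸ Ideal.ofList rs))).hom.hom
          (((Spec.map (CommRingCat.ofHom (Ideal.Quotient.mk (Ideal.ofList rs)))).appTop).hom a) = 0 :=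
        h1.trans h2
      have hinj : Function.Injective
          (Scheme.ΓSpecIso (CommRingCat.of (R ⧸ Ideal.ofList rs))).hom.hom :=
        ((ConcreteCategory.isIso_iff_bijective _).mp inferInstance).1
      exact hinj (h3.trans (map_zero _).symm)
  show RingHom.ker ((Spec.map (CommRingCat.ofHom
      (Ideal.Quotient.mk (Ideal.ofList rs)))).appTop).hom = _
  rw [hker]
  have h5 : (Ideal.ofList rs).comap (e : Γ(Spec R, ⊤) →+* R) =
      (Ideal.ofList rs).map (e.symm : (R : Type u) →+* Γ(Spec R, ⊤)) := by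
    ext a
    rw [Ideal.mem_comap]
    constructor
    · intro ha
      have h6 := Ideal.mem_map_of_mem (e.symm : (R : Type u) →+* Γ(Spec R, ⊤)) ha
      simpa using h6
    · intro ha
      have h6 := Ideal.mem_map_of_mem (e : Γ(Spec R, ⊤) →+* R) ha
      rw [Ideal.map_map] at h6
      simpa using h6
  rw [h5]
  exact Ideal.map_ofList (e.symm : (R : Type u) →+* Γ(Spec R, ⊤)) rs

set_option maxHeartbeats 800000 in
/-- `Spec (R/(rs)) → Spec R` is transversally regular over `S` when `rs` is transversally regular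
over the sections of an affine open of `S` through which `Spec R` maps. -/
theorem isTransRegularImmersionAt_Spec {S : Scheme.{u}} {V : S.Opens} (hV : IsAffineOpen V)
    (R : CommRingCat.{u}) (α : Γ(S, V) ⟶ R) (rs : List R)
    (h : letI := α.hom.toAlgebra
      RegImm.IsTransRegularSeq Γ(S, V) R rs)
    (z : Spec (CommRingCat.of (R ⧸ Ideal.ofList rs))) :
    RegImm.IsTransRegularImmersionAt (Spec.map α ≫ hV.fromSpec)
      (Spec.map (CommRingCat.ofHom (Ideal.Quotient.mk (Ideal.ofList rs)))) z := by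
  have e : (⊤ : (Spec R).Opens) ≤ (Spec.map α ≫ hV.fromSpec) ⁻¹ᵁ V := by
    rw [Scheme.Hom.comp_preimage, hV.fromSpec_preimage_self]
    exact le_rfl
  let e₀ : Γ(Spec R, ⊤) ≃+* R := (Scheme.ΓSpecIso R).commRingCatIsoToRingEquiv
  refine ⟨⟨⊤, isAffineOpen_top _⟩, ⟨V, hV⟩, e, trivial, inferInstance, rs.map e₀.symm, ?_,
    ker_specMap_mk_appTop R rs⟩
  let _ : Algebra Γ(S, V) R := α.hom.toAlgebra
  let _ : Algebra Γ(S, V) Γ(Spec R, ⊤) :=
    ((Spec.map α ≫ hV.fromSpec).appLE V ⊤ e).hom.toAlgebra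
  refine isTransRegularSeq_ringEquiv Γ(S, V) R Γ(Spec R, ⊤) e₀.symm ?_ rs h
  intro a
  rw [RingEquiv.symm_apply_eq]
  have h1 := congrArg (fun φ => φ.hom a) (appLE_SpecMap_fromSpec hV R α e)
  exact h1.symm

end Groth.Agent.Lib.Helper5.TransNbhd
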