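import Mathlib
import Groth.Agent.S3824
import Groth.Agent.S5802
import Groth.Agent.S5803
import Groth.Agent.Lib.Helper5.RegComp

/-!
# Regular sequences in Noetherian local rings: independence of the generators, exchange
-/

set_option autoImplicit false
universe u

namespace Groth.Agent.Lib.Helper5.RegGens

open RingTheory.Sequence IsLocalRing

variable {A : Type u} [CommRing A]

theorem ofList_eq_span_range_get (L : List A) :
    Ideal.ofList L = Ideal.span (Set.range L.get) := by
  unfold Ideal.ofList
  congr 1
  ext x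
  simp [List.mem_iff_get]

theorem ofFn_get_cast (L : List A) {n : ℕ} (h : n = L.length) :
    List.ofFn (fun i : Fin n => L.get (Fin.cast h i)) = L := by
  subst h
  exact List.ofFn_get L

/-- in a Noetherian local ring, a family of the same length generating the same ideal as a
regular sequence is a regular sequence -/
theorem isRegular_of_ofList_eq [IsLocalRing A] [IsNoetherianRing A] (rs L : List A)
    (hrs : IsRegular A rs) (hlen : L.length = rs.length)
    (hL : Ideal.ofList L = Ideal.ofList rs) : IsRegular A L := by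
  have hne : Ideal.ofList rs ≠ ⊤ := Groth.Agent.Lib.Helper5.RegComp.ofList_ne_top_of_isRegular hrs
  refine Groth.Agent.Lib.Helper5.RegComp.isRegular_of_weaklyRegular_of_ne_top ?_ (hL ▸ hne)
  have h1 : CAlgX.IsQuasiRegular rs.get :=
    Groth.Agent.S5802.result A rs.length rs.get (by rw [List.ofFn_get]; exact hrs.1)
  let f' : Fin rs.length → A := fun i => L.get (Fin.cast hlen.symm i)
  have hf' : List.ofFn f' = L := ofFn_get_cast L hlen.symm
  have hspan : Ideal.span (Set.range f') = Ideal.span (Set.range rs.get) := by
    rw [← ofList_eq_span_range_get rs, ← hL, ofList_eq_span_range_get L]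
    congr 1
    exact (finCongr hlen.symm).surjective.range_comp L.get
  have h2 : CAlgX.IsQuasiRegular f' := Groth.Agent.S3824.result rs.get f' h1 hspan
  have h3 := Groth.Agent.S5803.result A rs.length f' (fun i => by
    rw [IsLocalRing.ringJacobson_eq_maximalIdeal]
    have hmem : f' i ∈ Ideal.ofList L := Ideal.subset_span (by simp [f'])
    exact IsLocalRing.le_maximalIdeal (hL ▸ hne) hmem) h2
  rwa [hf'] at h3

/-- one exchange step -/
theorem exchange_step [IsLocalRing A] (I : Ideal A) (xs gs : List A) (x : A)
    (hI : Ideal.ofList (xs ++ gs) = I) (hxI : x ∈ I)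
    (hx : x ∉ Ideal.ofList xs ⊔ maximalIdeal A * I) :
    ∃ gs' : List A, gs'.length + 1 = gs.length ∧ Ideal.ofList ((xs ++ [x]) ++ gs') = I := by
  classical
  have hxsI : Ideal.ofList xs ≤ I := by rw [← hI, Ideal.ofList_append]; exact le_sup_left
  have hgsI : Ideal.ofList gs ≤ I := by rw [← hI, Ideal.ofList_append]; exact le_sup_right
  have hx' := hxI
  rw [← hI, Ideal.ofList_append, Submodule.mem_sup] at hx'
  obtain ⟨y, hy, w, hw, hyw⟩ := hx'
  rw [ofList_eq_span_range_get, Ideal.mem_span_range_iff_exists_fun] at hw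
  obtain ⟨c, hc⟩ := hw
  have hex : ∃ i, IsUnit (c i) := by
    by_contra hcon
    push Not at hcon
    apply hx
    rw [← hyw]
    refine Submodule.add_mem_sup hy ?_
    rw [← hc]
    refine Ideal.sum_mem _ fun i _ => Ideal.mul_mem_mul ?_ (hgsI (Ideal.subset_span ?_))
    · exact (IsLocalRing.mem_maximalIdeal _).2 (hcon i)
    · exact List.get_mem gs i
  obtain ⟨i₀, hi₀⟩ := hex
  refine ⟨gs.eraseIdx i₀, ?_, ?_⟩
  · rw [List.length_eraseIdx, if_pos i₀.2]
    have := i₀.2
    omega
  · set K := Ideal.ofList ((xs ++ [x]) ++ gs.eraseIdx i₀) with hK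
    have hxsK : Ideal.ofList xs ≤ K := by
      rw [hK, Ideal.ofList_append, Ideal.ofList_append]
      exact le_sup_of_le_left le_sup_left
    have hxK : x ∈ K := Ideal.subset_span (by simp)
    have hgK : ∀ i : Fin gs.length, i ≠ i₀ → gs.get i ∈ K := by
      intro i hi
      refine Ideal.subset_span ?_
      change gs.get i ∈ (xs ++ [x]) ++ gs.eraseIdx i₀
      refine List.mem_append_right _ ?_
      rw [List.mem_eraseIdx_iff_getElem]
      exact ⟨i.1, i.2, fun h => hi (Fin.ext h), rfl⟩
    apply le_antisymm
    · rw [hK, Ideal.ofList, Ideal.span_le]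
      intro z hz
      have hz' : z ∈ (xs ++ [x]) ++ gs.eraseIdx i₀ := hz
      rcases List.mem_append.1 hz' with h1 | h1
      · rcases List.mem_append.1 h1 with h2 | h2
        · exact hxsI (Ideal.subset_span h2)
        · rw [List.mem_singleton] at h2
          rw [h2]; exact hxI
      · exact hgsI (Ideal.subset_span (List.mem_of_mem_eraseIdx h1))
    · rw [← hI, Ideal.ofList_append, sup_le_iff]
      refine ⟨hxsK, ?_⟩
      rw [ofList_eq_span_range_get, Ideal.span_le]
      rintro _ ⟨i, rfl⟩
      by_cases hi : i = i₀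
      · subst hi
        have h1 : c i * gs.get i = x - y - ∑ j ∈ Finset.univ.erase i, c j * gs.get j := by
          rw [← hyw, ← hc, ← Finset.add_sum_erase Finset.univ _ (Finset.mem_univ i)]
          ring
        have h2 : c i * gs.get i ∈ K := by
          rw [h1]
          refine K.sub_mem (K.sub_mem hxK (hxsK hy)) (Ideal.sum_mem _ fun j hj => ?_)
          exact Ideal.mul_mem_left _ _ (hgK j (Finset.ne_of_mem_erase hj))
        exact (Ideal.unit_mul_mem_iff_mem _ hi₀).1 h2
      · exact hgK i hi

theorem exists_adapted_generators [IsLocalRing A] (I : Ideal A) :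
    ∀ (xs done gs : List A), Ideal.ofList (done ++ gs) = I → (∀ x ∈ xs, x ∈ I) →
      (∀ p q x, xs = p ++ x :: q → x ∉ Ideal.ofList (done ++ p) ⊔ maximalIdeal A * I) →
      ∃ gs' : List A, gs'.length + xs.length = gs.length ∧
        Ideal.ofList ((done ++ xs) ++ gs') = I := by
  intro xs
  induction xs with
  | nil =>
    intro done gs hI _ _
    exact ⟨gs, by simp, by simpa using hI⟩
  | cons x xs ih =>
    intro done gs hI hmem hind
    obtain ⟨gs₁, hlen₁, hI₁⟩ := exchange_step I done gs x hI (hmem x List.mem_cons_self)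
      (by simpa using hind [] xs x rfl)
    obtain ⟨gs', hlen', hI'⟩ := ih (done ++ [x]) gs₁ hI₁
      (fun y hy => hmem y (List.mem_cons_of_mem _ hy))
      (fun p q y hpq => by
        have := hind (x :: p) q y (by rw [hpq]; rfl)
        simpa using this)
    refine ⟨gs', ?_, ?_⟩
    · rw [List.length_cons]; omega
    · simpa using hI'

/-- descent of a regular sequence to the quotient by its initial part -/
theorem isRegular_map_of_append {B : Type u} [CommRing B] (φ : A →+* B)
    (hφ : Function.Surjective φ) (fs gs : List A) (hkf : RingHom.ker φ = Ideal.ofList fs)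
    (h : IsRegular A (fs ++ gs)) : IsRegular B (gs.map φ) := by
  refine Groth.Agent.Lib.Helper5.RegComp.isRegular_of_weaklyRegular_of_ne_top ?_ ?_
  · have h1 := ((isWeaklyRegular_append_iff A fs gs).1 h.1).2
    let _ : Algebra A B := φ.toAlgebra
    have hsm : (Ideal.ofList fs • ⊤ : Submodule A A) = LinearMap.ker (Algebra.linearMap A B) := by
      rw [smul_eq_mul, Ideal.mul_top, ← hkf]
      rfl
    let e : (A ⧸ (Ideal.ofList fs • ⊤ : Submodule A A)) ≃ₗ[A] B :=
      (Submodule.quotEquivOfEq _ _ hsm).trans
        (LinearMap.quotKerEquivOfSurjective (Algebra.linearMap A B) hφ)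
    rw [e.isWeaklyRegular_congr gs, ← isWeaklyRegular_map_algebraMap_iff B B gs] at h1
    exact h1
  · intro htop
    apply Groth.Agent.Lib.Helper5.RegComp.ofList_ne_top_of_isRegular h
    have h2 := congrArg (Ideal.comap φ) htop
    rw [← Ideal.map_ofList, Ideal.comap_map_of_surjective' φ hφ, Ideal.comap_top, hkf] at h2
    rw [Ideal.ofList_append, sup_comm]
    exact h2

end Groth.Agent.Lib.Helper5.RegGens
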