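import Mathlib
import Groth.Prelude.Def_RegImm
import Groth.Agent.S5802
import Groth.Agent.Lib.Helper26.QRegFlat
import Groth.Agent.Lib.Helper5.FlatKer
import Groth.Agent.Lib.Helper5.RegGens

/-!
# Helper5 — TransPowA

For an ideal `J` generated by a transversally regular sequence (relative to `A`), the quotients
`B/J^n`, `J^n/J^m` and the localisations of `J^n` are flat over `A`.
-/

set_option autoImplicit false
universe u

namespace Groth.Agent.Lib.Helper5.TransPow

open RingTheory.Sequence TensorProduct

theorem flat_of_isLocalizedModule_of_flat {A B : Type u} [CommRing A] [CommRing B] [Algebra A B]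
    (S : Submonoid B) {M M' : Type u} [AddCommGroup M] [Module A M] [Module B M]
    [IsScalarTower A B M] [AddCommGroup M'] [Module A M'] [Module B M'] [IsScalarTower A B M']
    (g : M →ₗ[B] M') [IsLocalizedModule S g] [Module.Flat A M] : Module.Flat A M' := by
  rw [Module.Flat.iff_lTensor_injectiveₛ]
  intro P _ _ N
  have h := IsLocalizedModule.map_lTensor (R := A) B S N.subtype g
  have h2 : Function.Injective (AlgebraTensorModule.lTensor B M' N.subtype) := by
    rw [← h]
    apply IsLocalizedModule.map_injective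
    exact Module.Flat.lTensor_preserves_injective_linearMap _ N.injective_subtype
  exact h2

variable (A B : Type u) [CommRing A] [CommRing B] [Algebra A B]

theorem flat_quotient_pow (rs : List B) (hrs : RegImm.IsTransRegularSeq A B rs) (n : ℕ) :
    Module.Flat A (B ⧸ Ideal.ofList rs ^ n) := by
  have hq : CAlgX.IsQuasiRegular rs.get :=
    Groth.Agent.S5802.result B rs.length rs.get (by rw [List.ofFn_get]; exact hrs.1)
  have hfl : Module.Flat A (B ⧸ Ideal.span (Set.range rs.get)) := by
    have h1 := hrs.2 rs.length le_rfl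
    rw [List.take_length, Groth.Agent.Lib.Helper5.RegGens.ofList_eq_span_range_get] at h1
    exact h1
  have h2 := Groth.Agent.Lib.Helper26.QRegBC.flat_pow A B rs.length rs.get hfl hq n
  rw [← Groth.Agent.Lib.Helper5.RegGens.ofList_eq_span_range_get] at h2
  exact h2

theorem flat_self (rs : List B) (hrs : RegImm.IsTransRegularSeq A B rs) : Module.Flat A B := by
  have h1 := hrs.2 0 (Nat.zero_le _)
  rw [List.take_zero, Ideal.ofList_nil] at h1
  exact Module.Flat.of_linearEquiv (AlgEquiv.quotientBot A B).toLinearEquiv.symm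

set_option backward.isDefEq.respectTransparency false in
theorem flat_pow_quot (J : Ideal B) (n m : ℕ) (hnm : n ≤ m) (h1 : Module.Flat A (B ⧸ J ^ n))
    (h2 : Module.Flat A (B ⧸ J ^ m)) :
    Module.Flat A (RestrictScalars A B
      (↥(J ^ n) ⧸ (Submodule.comap (J ^ n).subtype (J ^ m)))) := by
  let g : (↥(J ^ n) ⧸ (Submodule.comap (J ^ n).subtype (J ^ m))) →ₗ[B] B ⧸ J ^ m :=
    Submodule.mapQ _ (J ^ m) (J ^ n).subtype le_rfl
  let f : (B ⧸ J ^ m) →ₗ[B] B ⧸ J ^ n :=
    Submodule.mapQ (J ^ m) (J ^ n) LinearMap.id (Ideal.pow_le_pow_right hnm)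
  let g' : RestrictScalars A B (↥(J ^ n) ⧸ (Submodule.comap (J ^ n).subtype (J ^ m))) →ₗ[A]
      B ⧸ J ^ m :=
    letI : Module B (RestrictScalars A B (↥(J ^ n) ⧸ (Submodule.comap (J ^ n).subtype (J ^ m)))) :=
      RestrictScalars.moduleOrig A B _
    (show RestrictScalars A B (↥(J ^ n) ⧸ (Submodule.comap (J ^ n).subtype (J ^ m))) →ₗ[B]
      B ⧸ J ^ m from g).restrictScalars A
  have hg : Function.Injective g' := by
    rw [injective_iff_map_eq_zero]
    intro x hx
    obtain ⟨x, rfl⟩ := Submodule.Quotient.mk_surjective _ x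
    change Submodule.Quotient.mk (x : B) = 0 at hx
    rw [Submodule.Quotient.mk_eq_zero] at hx
    exact (Submodule.Quotient.mk_eq_zero _).2 hx
  have hf : Function.Surjective (f.restrictScalars A) := by
    intro y
    obtain ⟨y, rfl⟩ := Submodule.Quotient.mk_surjective _ y
    exact ⟨Submodule.Quotient.mk y, rfl⟩
  have H : Function.Exact g' (f.restrictScalars A) := by
    intro y
    obtain ⟨y, rfl⟩ := Submodule.Quotient.mk_surjective _ y
    change Submodule.Quotient.mk y = 0 ↔ _
    rw [Submodule.Quotient.mk_eq_zero]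
    constructor
    · intro hy
      exact ⟨Submodule.Quotient.mk ⟨y, hy⟩, rfl⟩
    · rintro ⟨x, hx⟩
      obtain ⟨x, rfl⟩ := Submodule.Quotient.mk_surjective _ x
      change Submodule.Quotient.mk (x : B) = Submodule.Quotient.mk y at hx
      rw [Submodule.Quotient.eq] at hx
      have h3 := (J ^ n).sub_mem x.2 (Ideal.pow_le_pow_right hnm hx)
      rwa [sub_sub_cancel] at h3
  exact Groth.Agent.Lib.Helper5.flat_of_exact_of_flat g' (f.restrictScalars A) hg hf H

theorem flat_ideal (J : Ideal B) (h0 : Module.Flat A B) (h1 : Module.Flat A (B ⧸ J)) :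
    Module.Flat A ↥J := by
  refine Groth.Agent.Lib.Helper5.flat_of_exact_of_flat (J.subtype.restrictScalars A)
    (J.mkQ.restrictScalars A) J.injective_subtype (Submodule.mkQ_surjective J) ?_
  intro y
  change Submodule.Quotient.mk y = 0 ↔ _
  rw [Submodule.Quotient.mk_eq_zero]
  constructor
  · intro hy
    exact ⟨⟨y, hy⟩, rfl⟩
  · rintro ⟨x, rfl⟩
    exact x.2

set_option backward.isDefEq.respectTransparency false in
theorem main (rs : List B) (hrs : RegImm.IsTransRegularSeq A B rs) (n m : ℕ) (hnm : n < m) :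
    Module.Flat A (RestrictScalars A B
      (↥(Ideal.ofList rs ^ n) ⧸ (Submodule.comap (Ideal.ofList rs ^ n).subtype (Ideal.ofList rs ^ m)))) ∧
      ∀ (q : Ideal B) [q.IsPrime], Ideal.ofList rs ≤ q →
        Module.Flat A (RestrictScalars A B (LocalizedModule q.primeCompl ↥(Ideal.ofList rs ^ n))) := by
  refine ⟨flat_pow_quot A B _ n m hnm.le (flat_quotient_pow A B rs hrs n)
    (flat_quotient_pow A B rs hrs m), ?_⟩
  intro q _ _
  have h1 : Module.Flat A ↥(Ideal.ofList rs ^ n) :=
    flat_ideal A B _ (flat_self A B rs hrs) (flat_quotient_pow A B rs hrs n)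
  let _ : Module B (RestrictScalars A B (LocalizedModule q.primeCompl ↥(Ideal.ofList rs ^ n))) :=
    RestrictScalars.moduleOrig A B _
  have hloc : IsLocalizedModule q.primeCompl
      (show ↥(Ideal.ofList rs ^ n) →ₗ[B]
        RestrictScalars A B (LocalizedModule q.primeCompl ↥(Ideal.ofList rs ^ n)) from
        LocalizedModule.mkLinearMap q.primeCompl ↥(Ideal.ofList rs ^ n)) :=
    inferInstanceAs (IsLocalizedModule q.primeCompl
      (LocalizedModule.mkLinearMap q.primeCompl ↥(Ideal.ofList rs ^ n)))
  exact flat_of_isLocalizedModule_of_flat q.primeCompl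
    (M' := RestrictScalars A B (LocalizedModule q.primeCompl ↥(Ideal.ofList rs ^ n)))
    (show ↥(Ideal.ofList rs ^ n) →ₗ[B]
        RestrictScalars A B (LocalizedModule q.primeCompl ↥(Ideal.ofList rs ^ n)) from
        LocalizedModule.mkLinearMap q.primeCompl ↥(Ideal.ofList rs ^ n))

end Groth.Agent.Lib.Helper5.TransPow
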