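import Mathlib
import Groth.Prelude.Def_RegImm
import Groth.Agent.Lib.Helper5.KLA
import Groth.Agent.Lib.Helper5.KLC
import Groth.Agent.Lib.Helper5.TransNbhdC
import Groth.Agent.Lib.Helper5.TransNbhdE
import Groth.Agent.Lib.Helper5.TransPowA
import Groth.Agent.Lib.Helper5.RegDescA
import Groth.Agent.Lib.helper11.H1QR
import Groth.Agent.Lib.Helper21.QuasiRegJac
import Groth.Agent.Lib.Helper21.FlatDescQ16

set_option autoImplicit false
universe u

namespace Groth.Agent.Lib.Helper5.KL

open TensorProduct RingTheory.Sequence IsLocalRing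

/-- near the prime `q` (on a principal open containing it), `fs` is transversally regular. -/
def TransNear (A B : Type u) [CommRing A] [CommRing B] [Algebra A B] (fs : List B)
    (q : Ideal B) : Prop :=
  ∃ g : B, g ∉ q ∧ ∀ (Bg : Type u) [CommRing Bg] [Algebra B Bg] [Algebra A Bg]
    [IsScalarTower A B Bg] [IsLocalization.Away g Bg],
    RegImm.IsTransRegularSeq A Bg (fs.map (algebraMap B Bg))

theorem TransNear.of_algEquiv {A B B₂ : Type u} [CommRing A] [CommRing B] [CommRing B₂]
    [Algebra A B] [Algebra A B₂] (e : B ≃ₐ[A] B₂) (fs : List B) (q : Ideal B)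
    (h : TransNear A B₂ (fs.map e) (q.comap (e.symm : B₂ →+* B))) : TransNear A B fs q := by
  obtain ⟨g₂, hg₂, H⟩ := h
  refine ⟨e.symm g₂, fun hq => hg₂ (by rw [Ideal.mem_comap]; exact hq), ?_⟩
  intro Bg _ _ _ _ _
  let _ : Algebra B₂ Bg := ((algebraMap B Bg).comp (e.symm : B₂ →+* B)).toAlgebra
  have hmap : ∀ x : B₂, algebraMap B₂ Bg x = algebraMap B Bg (e.symm x) := fun x => rfl
  have : IsScalarTower A B₂ Bg := IsScalarTower.of_algebraMap_eq fun a => by
    rw [hmap, AlgEquiv.commutes, ← IsScalarTower.algebraMap_apply]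
  have hloc : IsLocalization.Away g₂ Bg := by
    refine IsLocalization.of_ringEquiv_left (K := Bg) (e.symm : B₂ ≃+* B)
      (M₁ := Submonoid.powers (e.symm g₂)) (M₂ := Submonoid.powers g₂) ?_ hmap
    rw [Submonoid.map_powers]
    rfl
  have := H Bg
  rw [List.map_map] at this
  have h3 : (algebraMap B₂ Bg) ∘ (e : B → B₂) = algebraMap B Bg := by
    funext x
    rw [Function.comp_apply, hmap, AlgEquiv.symm_apply_apply]
  rw [h3] at this
  exact this


attribute [local instance] Algebra.TensorProduct.rightAlgebra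

set_option maxHeartbeats 1600000 in
set_option synthInstance.maxHeartbeats 200000 in
/-- **Noetherian model ⇒ transversal regularity after arbitrary base change**: over a Noetherian
base `A'`, an `H₁`-regular sequence `fs'` in a finite type algebra `S'` with `S'/(fs')` flat over
`A'` becomes transversally regular, near every prime containing it, in `A ⊗ S'`. -/
theorem transNear_of_model (A' A S' : Type u) [CommRing A'] [CommRing A] [CommRing S']
    [Algebra A' A] [Algebra A' S'] [IsNoetherianRing A'] [Algebra.FiniteType A' S']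
    (fs' : List S') (hH1 : CAlgX.IsH1Regular fs'.get)
    (hflat : Module.Flat A' (S' ⧸ Ideal.ofList fs'))
    (q : Ideal (A ⊗[A'] S')) [q.IsPrime] (hq : ∀ f ∈ fs', ((1 : A) ⊗ₜ[A'] f : A ⊗[A'] S') ∈ q) :
    TransNear A (A ⊗[A'] S') (fs'.map (fun f => ((1 : A) ⊗ₜ[A'] f : A ⊗[A'] S'))) q := by
  classical
  have hN : IsNoetherianRing S' := Algebra.FiniteType.isNoetherianRing A' S'
  have hfp : Algebra.FinitePresentation A' S' :=
    Algebra.FinitePresentation.of_finiteType.mp inferInstance
  obtain ⟨q', hq'def⟩ : ∃ q' : Ideal S', q' = q.comap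
      (Algebra.TensorProduct.includeRight : S' →ₐ[A'] A ⊗[A'] S').toRingHom := ⟨_, rfl⟩
  have hq'prime : q'.IsPrime := hq'def ▸ Ideal.comap_isPrime _ q
  have hfsq' : ∀ f ∈ fs', f ∈ q' := by
    intro f hf
    rw [hq'def, Ideal.mem_comap]
    exact hq f hf
  -- the local ring
  obtain ⟨gs, hgsdef⟩ : ∃ gs : List (Localization.AtPrime q'),
      gs = fs'.map (algebraMap S' (Localization.AtPrime q')) := ⟨_, rfl⟩
  have hflO : (algebraMap S' (Localization.AtPrime q')).Flat :=
    RingHom.flat_algebraMap_iff.mpr (IsLocalization.flat _ q'.primeCompl)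
  have hgsH1 : CAlgX.IsH1Regular gs.get := by
    have := Groth.Agent.Lib.Helper5.RegDesc.kind_seq_map_of_flat' RegImm.Kind.h1 (by decide)
      (algebraMap S' (Localization.AtPrime q')) hflO fs' hH1
    rw [← hgsdef] at this
    exact this
  have hgsq : CAlgX.IsQuasiRegular gs.get := Groth.Agent.Lib.helper11.H1QR.main _ hgsH1
  have hgsm : ∀ x ∈ gs, x ∈ maximalIdeal (Localization.AtPrime q') := by
    intro x hx
    rw [hgsdef] at hx
    obtain ⟨f, hf, rfl⟩ := List.mem_map.mp hx
    exact (IsLocalization.AtPrime.to_map_mem_maximal_iff (Localization.AtPrime q') q' f).mpr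
      (hfsq' f hf)
  have hNO : IsNoetherianRing (Localization.AtPrime q') :=
    IsLocalization.isNoetherianRing q'.primeCompl _ hN
  have hgswr : IsWeaklyRegular (Localization.AtPrime q') gs := by
    have := Groth.Agent.Lib.Helper21.QuasiRegJac.isWeaklyRegular_of_qr gs.length
      (Localization.AtPrime q') gs.get (fun i => by
        rw [← Ideal.jacobson_bot, IsLocalRing.jacobson_eq_maximalIdeal ⊥ bot_ne_top]
        exact hgsm _ (List.get_mem gs i)) hgsq
    rwa [List.ofFn_get] at this
  -- flatness of the quotient of the local ring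
  have hloc : (Ideal.ofList fs').localized' (Localization.AtPrime q') q'.primeCompl
      (Algebra.linearMap S' (Localization.AtPrime q')) = Ideal.ofList gs := by
    rw [Ideal.localized'_eq_map, Ideal.map_ofList, hgsdef]
  have hF1 : Module.Flat A' (Localization.AtPrime q' ⧸ (Ideal.ofList fs').localized'
      (Localization.AtPrime q') q'.primeCompl (Algebra.linearMap S' (Localization.AtPrime q'))) :=
    Groth.Agent.Lib.Helper5.TransPow.flat_of_isLocalizedModule_of_flat q'.primeCompl
      ((Ideal.ofList fs').toLocalizedQuotient' (Localization.AtPrime q') q'.primeCompl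
        (Algebra.linearMap S' (Localization.AtPrime q')))
  have hF2 : Module.Flat A' (Localization.AtPrime q' ⧸ Ideal.ofList gs) :=
    Module.Flat.of_linearEquiv ((Submodule.quotEquivOfEq _ _ hloc).symm.restrictScalars A')
  have htrO : RegImm.IsTransRegularSeq A' (Localization.AtPrime q') gs :=
    isTransRegularSeq_of_regular_of_flat_quotient A' (Localization.AtPrime q') gs (fun x hx => by
      rw [← Ideal.jacobson_bot, IsLocalRing.jacobson_eq_maximalIdeal ⊥ bot_ne_top]
      exact hgsm x hx) hgswr hF2
  -- spreading out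
  obtain ⟨g', hg', H⟩ := Groth.Agent.Lib.Helper21.FlatDesc.exists_away_weaklyRegular_flat_stalk
    A' S' q' fs' (Localization.AtPrime q') (by rw [← hgsdef]; exact htrO.1) (by
      intro i hi
      rw [← hgsdef]
      have := htrO.2 i (by rw [hgsdef, List.length_map]; exact hi)
      have heq : (Ideal.ofList (gs.take i) • ⊤ : Submodule (Localization.AtPrime q')
          (Localization.AtPrime q')) = Ideal.ofList (gs.take i) := by
        rw [smul_eq_mul, Ideal.mul_top]
      exact Module.Flat.of_linearEquiv ((Submodule.quotEquivOfEq _ _ heq).restrictScalars A'))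
  obtain ⟨hwr₁, hfl₁⟩ := H g' dvd_rfl (Localization.Away g')
  have htr₁ : RegImm.IsTransRegularSeq A' (Localization.Away g')
      (fs'.map (algebraMap S' (Localization.Away g'))) :=
    ⟨hwr₁, fun j hj => hfl₁ j (by rw [List.length_map] at hj; exact hj)⟩
  -- base change
  have htr₂ := Groth.Agent.Lib.Helper5.TransNbhd.isTransRegularSeq_baseChange A' (Localization.Away g') A
    (A ⊗[A'] Localization.Away g') _ htr₁
  refine ⟨(1 : A) ⊗ₜ[A'] g', fun hmem => hg' (show g' ∈ q' by
    rw [hq'def, Ideal.mem_comap]; exact hmem), ?_⟩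
  intro Bg _ _ _ _ _
  let e₁ := IsLocalization.Away.tensorProductEquivTMulRight A' A g' (Localization.Away g')
  let e₂ := IsLocalization.algEquiv (Submonoid.powers ((1 : A) ⊗ₜ[A'] g' : A ⊗[A'] S'))
    (Localization.Away ((1 : A) ⊗ₜ[A'] g' : A ⊗[A'] S')) Bg
  have htr₃ := Groth.Agent.Lib.Helper5.TransNbhd.isTransRegularSeq_ringEquiv A
    (A ⊗[A'] Localization.Away g') (Localization.Away ((1 : A) ⊗ₜ[A'] g' : A ⊗[A'] S'))
    e₁.toRingEquiv (fun a => e₁.commutes a) _ htr₂
  have htr₄ := Groth.Agent.Lib.Helper5.TransNbhd.isTransRegularSeq_ringEquiv A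
    (Localization.Away ((1 : A) ⊗ₜ[A'] g' : A ⊗[A'] S')) Bg e₂.toRingEquiv (fun a => by
    rw [IsScalarTower.algebraMap_apply A (A ⊗[A'] S')
      (Localization.Away ((1 : A) ⊗ₜ[A'] g' : A ⊗[A'] S'))]
    rw [IsScalarTower.algebraMap_apply A (A ⊗[A'] S') Bg]
    exact e₂.commutes _) _ htr₃
  rw [List.map_map, List.map_map, List.map_map] at htr₄
  rw [List.map_map]
  convert htr₄ using 2
  funext f
  simp only [Function.comp_apply]
  symm
  have h1 : (algebraMap (Localization.Away g') (A ⊗[A'] Localization.Away g'))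
      (algebraMap S' (Localization.Away g') f) =
      (1 : A) ⊗ₜ[A'] (algebraMap S' (Localization.Away g') f) := rfl
  rw [h1]
  have h2 := IsLocalization.Away.tensorProductEquivTMulRight_tmul (R := A') (S := A) S' g'
    (Localization.Away g') (1 : A) f
  change e₂ (e₁ _) = _
  rw [h2]
  exact e₂.commutes _

end Groth.Agent.Lib.Helper5.KL
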