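import Mathlib
import Groth.Prelude.Def_RegImm
import Groth.Agent.Lib.Helper5.KLD
import Groth.Agent.Lib.Helper5.FlatKind

set_option autoImplicit false
universe u

namespace Groth.Agent.Lib.Helper5.KL

open TensorProduct RingTheory.Sequence IsLocalRing

set_option backward.isDefEq.respectTransparency false in
set_option maxHeartbeats 1600000 in
set_option synthInstance.maxHeartbeats 200000 in
/-- **T1**: over a Noetherian base `R₀` with flat quotient `S₀/(f₀)`, if `1 ⊗ f₀` is `H₁`-regular in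
`A ⊗ S₀` then it is transversally regular near every prime containing it. -/
theorem transNear_of_flat_model (R₀ S₀ A : Type u) [CommRing R₀] [CommRing S₀] [CommRing A]
    [Algebra R₀ S₀] [Algebra R₀ A] [IsNoetherianRing R₀] [Algebra.FiniteType R₀ S₀] {r : ℕ}
    (f₀ : Fin r → S₀) (hflat : Module.Flat R₀ (S₀ ⧸ Ideal.span (Set.range f₀)))
    (hH1 : CAlgX.IsH1Regular (fun i => ((1 : A) ⊗ₜ[R₀] f₀ i : A ⊗[R₀] S₀)))
    (q : Ideal (A ⊗[R₀] S₀)) [q.IsPrime] (hq : ∀ i, ((1 : A) ⊗ₜ[R₀] f₀ i : A ⊗[R₀] S₀) ∈ q) :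
    TransNear A (A ⊗[R₀] S₀) (List.ofFn (fun i => ((1 : A) ⊗ₜ[R₀] f₀ i : A ⊗[R₀] S₀))) q := by
  classical
  have hNS : IsNoetherianRing S₀ := Algebra.FiniteType.isNoetherianRing R₀ S₀
  obtain ⟨A', hfg, hH1'⟩ := exists_fg_isH1Regular f₀ hflat hH1
  have hft : Algebra.FiniteType R₀ A' := (Subalgebra.fg_iff_finiteType A').1 hfg
  have hNA' : IsNoetherianRing A' := Algebra.FiniteType.isNoetherianRing R₀ A'
  -- the model over `A'`
  obtain ⟨fs', hfs'⟩ : ∃ fs' : List (A' ⊗[R₀] S₀),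
      fs' = List.ofFn (fun i => ((1 : A') ⊗ₜ[R₀] f₀ i : A' ⊗[R₀] S₀)) := ⟨_, rfl⟩
  have hlen : r = fs'.length := by rw [hfs', List.length_ofFn]
  have hH1'' : CAlgX.IsH1Regular fs'.get := by
    refine Groth.Agent.Lib.Helper5.FlatKind.h1_congr hlen _ _ ?_ hH1'
    intro i
    subst hfs'
    simp
  have hflat' : Module.Flat A' ((A' ⊗[R₀] S₀) ⧸ Ideal.ofList fs') := by
    have e := Algebra.TensorProduct.tensorQuotientEquiv (R := R₀) A' S₀ A'
      (Ideal.span (Set.range f₀))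
    have hI : (Ideal.span (Set.range f₀)).map
        (Algebra.TensorProduct.includeRight (A := A') (R := R₀) (B := S₀)) = Ideal.ofList fs' := by
      rw [Ideal.map_span, hfs']
      unfold Ideal.ofList
      congr 1
      ext x
      simp only [Set.mem_image, Set.mem_range, exists_exists_eq_and, List.mem_ofFn,
        Set.mem_setOf_eq]
      rfl
    have h1 : Module.Flat A' (A' ⊗[R₀] (S₀ ⧸ Ideal.span (Set.range f₀))) := inferInstance
    have h2 : Module.Flat A' ((A' ⊗[R₀] S₀) ⧸ (Ideal.span (Set.range f₀)).map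
        (Algebra.TensorProduct.includeRight (A := A') (R := R₀) (B := S₀))) :=
      Module.Flat.of_linearEquiv e.toLinearEquiv.symm
    rw [← hI]
    exact h2
  -- transport along cancelBaseChange
  let e : A ⊗[R₀] S₀ ≃ₐ[A] A ⊗[A'] (A' ⊗[R₀] S₀) :=
    (Algebra.TensorProduct.cancelBaseChange R₀ A' A A S₀).symm
  have he : ∀ s : S₀, e ((1 : A) ⊗ₜ[R₀] s) = (1 : A) ⊗ₜ[A'] ((1 : A') ⊗ₜ[R₀] s) := by
    intro s
    exact Algebra.TensorProduct.cancelBaseChange_symm_tmul R₀ A' A A S₀ 1 s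
  have key : ∀ q' : Ideal (A ⊗[A'] (A' ⊗[R₀] S₀)), q'.IsPrime →
      (∀ i, e ((1 : A) ⊗ₜ[R₀] f₀ i) ∈ q') →
      TransNear A (A ⊗[A'] (A' ⊗[R₀] S₀))
        ((List.ofFn (fun i => ((1 : A) ⊗ₜ[R₀] f₀ i : A ⊗[R₀] S₀))).map e) q' := by
    intro q' hq'prime hq'
    have hmain := transNear_of_model A' A (A' ⊗[R₀] S₀) fs' hH1'' hflat' q' (by
      intro f hf
      rw [hfs', List.mem_ofFn] at hf
      obtain ⟨i, rfl⟩ := hf
      rw [← he]
      exact hq' i)
    convert hmain using 1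
    rw [hfs', List.map_ofFn, List.map_ofFn]
    congr 1
  apply TransNear.of_algEquiv (B₂ := A ⊗[A'] (A' ⊗[R₀] S₀)) e
  apply key
  · exact Ideal.comap_isPrime _ q
  · intro i
    rw [Ideal.mem_comap]
    change e.symm (e _) ∈ q
    rw [AlgEquiv.symm_apply_apply]
    exact hq i

end Groth.Agent.Lib.Helper5.KL
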