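import Mathlib
import Groth.Prelude.Def_RegImm
import Groth.Agent.Lib.Helper5.RegDescA
import Groth.Agent.Lib.Helper5.KosPermD
import Groth.Agent.Lib.Helper26.H1RegBC
import Groth.Agent.Lib.Helper26.QRegMain

/-!
# Base change of `H₁`-regular / quasi-regular sequences with flat quotient (ring level, pushouts)
-/

set_option autoImplicit false
universe u
open CategoryTheory CategoryTheory.Limits AlgebraicGeometry TopologicalSpace TensorProduct

namespace Groth.Agent.Lib.Helper5.RelBC

open Groth.Agent.Lib.Helper5.RegDesc Groth.Agent.Lib.Helper5.FlatKind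
  Groth.Agent.Lib.Helper5.KosPerm

theorem kind_seq_ofFn_get (k : RegImm.Kind) (hk : k = RegImm.Kind.h1 ∨ k = RegImm.Kind.quasi)
    {T : Type u} [CommRing T] {r : ℕ} (f : Fin r → T)
    (h : (k = RegImm.Kind.h1 → CAlgX.IsH1Regular f) ∧
      (k = RegImm.Kind.quasi → CAlgX.IsQuasiRegular f)) : k.Seq T (List.ofFn f) := by
  have hc : r = (List.ofFn f).length := (List.length_ofFn).symm
  have hfg : ∀ i, f i = (List.ofFn f).get (Fin.cast hc i) := by
    intro i
    simp
  rcases hk with rfl | rfl
  · exact h1_congr hc f _ hfg (h.1 rfl)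
  · exact qr_congr hc f _ hfg (h.2 rfl)

theorem kind_seq_baseChange (k : RegImm.Kind) (hk : k = RegImm.Kind.h1 ∨ k = RegImm.Kind.quasi)
    (A B A' B' : Type u) [CommRing A] [CommRing B] [CommRing A'] [CommRing B']
    [Algebra A B] [Algebra A A'] [Algebra B B'] [Algebra A' B'] [Algebra A B']
    [IsScalarTower A A' B'] [IsScalarTower A B B'] [hpo : Algebra.IsPushout A B A' B']
    (rs : List B) (hrs : k.Seq B rs) (hflat : Module.Flat A (B ⧸ Ideal.ofList rs)) :
    k.Seq B' (rs.map (algebraMap B B')) := by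
  have hne : k ≠ RegImm.Kind.regular := by
    rcases hk with rfl | rfl <;> decide
  have : Algebra.IsPushout A A' B B' := Algebra.IsPushout.symm hpo
  let e : A' ⊗[A] B ≃ₐ[A'] B' := Algebra.IsPushout.equiv A A' B B'
  have hflat' : Module.Flat A (B ⧸ Ideal.span (Set.range rs.get)) := by
    rw [← ofList_eq_span_range_get]
    exact hflat
  have h1 : k.Seq (A' ⊗[A] B) (List.ofFn (fun i => ((1 : A') ⊗ₜ[A] rs.get i : A' ⊗[A] B))) := by
    apply kind_seq_ofFn_get k hk
    refine ⟨?_, ?_⟩
    · rintro rfl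
      exact Groth.Agent.Lib.Helper26.H1RegBC.main A B A' rs.length rs.get hflat' hrs
    · rintro rfl
      exact Groth.Agent.Lib.Helper26.QRegBC.main A B A' rs.length rs.get hflat' hrs
  have h2 := kind_seq_map_of_flat' k hne (e : A' ⊗[A] B →+* B')
    (RingHom.Flat.of_bijective e.bijective) _ h1
  have h3 : (List.ofFn (fun i => ((1 : A') ⊗ₜ[A] rs.get i : A' ⊗[A] B))).map
      (e : A' ⊗[A] B →+* B') = rs.map (algebraMap B B') := by
    rw [List.map_ofFn]
    conv_rhs => rw [← List.ofFn_get rs, List.map_ofFn]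
    congr 1
    funext i
    simp only [Function.comp_apply]
    change e ((1 : A') ⊗ₜ[A] rs.get i) = _
    rw [Algebra.IsPushout.equiv_tmul, map_one, one_mul]
  rw [h3] at h2
  exact h2

end Groth.Agent.Lib.Helper5.RelBC
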