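import Mathlib
import Groth.Prelude.Def_RegImm
import Groth.Agent.Lib.Helper5.KLE
import Groth.Agent.Lib.Helper5.RelBCA

set_option autoImplicit false
universe u

namespace Groth.Agent.Lib.Helper5.KL

open TensorProduct RingTheory.Sequence IsLocalRing

set_option backward.isDefEq.respectTransparency false in
set_option maxHeartbeats 1600000 in
set_option synthInstance.maxHeartbeats 200000 in
/-- **T1'**: pushout form of `transNear_of_flat_model`. -/
theorem transNear_of_flat_model_pushout (R₀ S₀ A B : Type u) [CommRing R₀] [CommRing S₀]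
    [CommRing A] [CommRing B] [Algebra R₀ S₀] [Algebra R₀ A] [Algebra A B] [Algebra S₀ B]
    [Algebra R₀ B] [IsScalarTower R₀ A B] [IsScalarTower R₀ S₀ B] [Algebra.IsPushout R₀ A S₀ B]
    [IsNoetherianRing R₀] [Algebra.FiniteType R₀ S₀] {r : ℕ}
    (f₀ : Fin r → S₀) (hflat : Module.Flat R₀ (S₀ ⧸ Ideal.span (Set.range f₀)))
    (hH1 : CAlgX.IsH1Regular (fun i => algebraMap S₀ B (f₀ i)))
    (q : Ideal B) [q.IsPrime] (hq : ∀ i, algebraMap S₀ B (f₀ i) ∈ q) :
    TransNear A B (List.ofFn (fun i => algebraMap S₀ B (f₀ i))) q := by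
  classical
  let e : A ⊗[R₀] S₀ ≃ₐ[A] B := Algebra.IsPushout.equiv R₀ A S₀ B
  have he : ∀ s : S₀, e.symm (algebraMap S₀ B s) = (1 : A) ⊗ₜ[R₀] s := fun s =>
    Algebra.IsPushout.equiv_symm_algebraMap_right R₀ A S₀ B s
  have he' : ∀ s : S₀, e ((1 : A) ⊗ₜ[R₀] s) = algebraMap S₀ B s := fun s => by
    rw [← he, AlgEquiv.apply_symm_apply]
  have hH1' : CAlgX.IsH1Regular (fun i => ((1 : A) ⊗ₜ[R₀] f₀ i : A ⊗[R₀] S₀)) := by
    have h1 : RegImm.Kind.h1.Seq B (List.ofFn (fun i => algebraMap S₀ B (f₀ i))) :=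
      Groth.Agent.Lib.Helper5.RelBC.kind_seq_ofFn_get _ (Or.inl rfl) _
        ⟨fun _ => hH1, fun h => by cases h⟩
    have h2 := Groth.Agent.Lib.Helper5.RegDesc.kind_seq_map_of_flat' RegImm.Kind.h1 (by decide)
      (e.symm : B →+* A ⊗[R₀] S₀) (RingHom.Flat.of_bijective e.symm.bijective) _ h1
    rw [List.map_ofFn] at h2
    have h3 : CAlgX.IsH1Regular
        (List.ofFn ((e.symm : B →+* A ⊗[R₀] S₀) ∘ fun i => algebraMap S₀ B (f₀ i))).get := h2
    refine Groth.Agent.Lib.Helper5.FlatKind.h1_congr (List.length_ofFn) _ _ ?_ h3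
    intro i
    simp only [List.get_eq_getElem, List.getElem_ofFn, Function.comp_apply]
    exact he _
  have key : ∀ q' : Ideal (A ⊗[R₀] S₀), q'.IsPrime →
      (∀ i, ((1 : A) ⊗ₜ[R₀] f₀ i : A ⊗[R₀] S₀) ∈ q') →
      TransNear A (A ⊗[R₀] S₀)
        ((List.ofFn (fun i => algebraMap S₀ B (f₀ i))).map e.symm) q' := by
    intro q' hq'prime hq'
    have hmain := transNear_of_flat_model R₀ S₀ A f₀ hflat hH1' q' hq'
    convert hmain using 1
    rw [List.map_ofFn]
    congr 1
    funext i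
    exact he _
  apply TransNear.of_algEquiv (B₂ := A ⊗[R₀] S₀) e.symm
  apply key
  · exact Ideal.comap_isPrime _ q
  · intro i
    rw [Ideal.mem_comap]
    change e.symm.symm _ ∈ q
    rw [AlgEquiv.symm_symm, he']
    exact hq i

end Groth.Agent.Lib.Helper5.KL
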