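import Mathlib
import Groth.Prelude.Def_RegImm
import Groth.Agent.Lib.Helper21.FlatDescP

set_option autoImplicit false
set_option linter.style.haveILetI false
universe u

namespace Groth.Agent.Lib.Helper5.KL

open TensorProduct Function MvPolynomial
open Groth.Agent.Lib.Helper21.FlatDesc

attribute [local instance] MvPolynomial.algebraMvPolynomial
attribute [local instance] modelAlgebra

set_option synthInstance.maxHeartbeats 400000 in
set_option maxHeartbeats 1000000 in
/-- a finitely presented algebra together with finitely many elements descends to a finite type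
`ℤ`-algebra. -/
theorem exists_model_elements (A B : Type u) [CommRing A] [CommRing B] [Algebra A B]
    [Algebra.FinitePresentation A B] {r : ℕ} (b : Fin r → B) :
    ∃ (R₁ : Type u) (_ : CommRing R₁) (_ : Algebra R₁ A) (S₁ : Type u) (_ : CommRing S₁)
      (_ : Algebra R₁ S₁) (_ : Algebra S₁ B) (_ : Algebra R₁ B) (_ : IsScalarTower R₁ A B)
      (_ : IsScalarTower R₁ S₁ B) (f₁ : Fin r → S₁),
      Algebra.FiniteType ℤ R₁ ∧ Algebra.FiniteType R₁ S₁ ∧ Algebra.IsPushout R₁ A S₁ B ∧
        ∀ i, algebraMap S₁ B (f₁ i) = b i := by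
  classical
  let P := Algebra.Presentation.ofFinitePresentation A B
  have hsurj : Function.Surjective (MvPolynomial.aeval (R := A) P.val) :=
    P.toGenerators.aeval_val_surjective
  choose p hp using fun (i : Fin r) => hsurj (b i)
  let T : Set A := ⋃ (i : Fin r), ((p i).coeffs : Set A)
  have hT : T.Finite := Set.finite_iUnion fun i => Finset.finite_toSet _
  haveI h1 : Algebra.FiniteType ℤ P.Core := inferInstance
  haveI h2 : Algebra.FiniteType P.Core (Algebra.adjoin P.Core T) :=
    Algebra.FiniteType.adjoin_of_finite hT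
  haveI h3 : Algebra.FiniteType ℤ (Algebra.adjoin P.Core T) := Algebra.FiniteType.trans h1 h2
  have hTsub : ∀ (i : Fin r), ((p i).coeffs : Set A) ⊆
      Set.range (algebraMap (Algebra.adjoin P.Core T) A) := by
    intro i c hc
    have hcT : c ∈ T := Set.mem_iUnion.2 ⟨i, hc⟩
    exact ⟨⟨c, Algebra.subset_adjoin hcT⟩, rfl⟩
  choose p₀ hp₀ using fun (i : Fin r) =>
    (MvPolynomial.mem_range_map_iff_coeffs_subset
      (f := algebraMap (Algebra.adjoin P.Core T) A)).2 (hTsub i)
  haveI := model_isScalarTower P (Algebra.adjoin P.Core T)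
  haveI := model_isPushout P (Algebra.adjoin P.Core T)
  have key : ∀ (i : Fin r), algebraMap (P.ModelOfHasCoeffs (Algebra.adjoin P.Core T)) B
      (Ideal.Quotient.mk _ (p₀ i)) = b i := by
    intro i
    have h1 : algebraMap (P.ModelOfHasCoeffs (Algebra.adjoin P.Core T)) B
        (Ideal.Quotient.mk _ (p₀ i)) = MvPolynomial.aeval P.val (p₀ i) :=
      modelHom_mk P (Algebra.adjoin P.Core T) (p₀ i)
    rw [h1, ← MvPolynomial.aeval_map_algebraMap A, hp₀ i, hp i]
  have hft : Algebra.FiniteType (Algebra.adjoin P.Core T)
      (P.ModelOfHasCoeffs (Algebra.adjoin P.Core T)) := inferInstance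
  exact ⟨Algebra.adjoin P.Core T, inferInstance, inferInstance,
    P.ModelOfHasCoeffs (Algebra.adjoin P.Core T), inferInstance, inferInstance, inferInstance,
    inferInstance, inferInstance, inferInstance, fun i => Ideal.Quotient.mk _ (p₀ i),
    h3, hft, inferInstance, key⟩

end Groth.Agent.Lib.Helper5.KL
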