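import Mathlib
import Groth.Prelude.Def_RegImm
import Groth.Agent.Lib.Helper5.KLF
import Groth.Agent.Lib.Helper5.KLG

set_option autoImplicit false
set_option linter.style.haveILetI false
universe u

namespace Groth.Agent.Lib.Helper5.KL

open TensorProduct RingTheory.Sequence IsLocalRing
open Groth.Agent.Lib.Helper21.FlatDesc

attribute [local instance] Algebra.TensorProduct.rightAlgebra

set_option backward.isDefEq.respectTransparency false in
set_option maxHeartbeats 1600000 in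
set_option synthInstance.maxHeartbeats 400000 in
/-- **T2** (EGA IV 11.3.8 b ⇒ a, finitely presented case): an `H₁`-regular sequence with flat
quotient in a finitely presented algebra is transversally regular near each prime containing it. -/
theorem transNear_of_h1 (A B : Type u) [CommRing A] [CommRing B] [Algebra A B]
    [Algebra.FinitePresentation A B] (fs : List B) (hH1 : CAlgX.IsH1Regular fs.get)
    (hflat : Module.Flat A (B ⧸ Ideal.ofList fs)) (q : Ideal B) [q.IsPrime]
    (hq : ∀ f ∈ fs, f ∈ q) : TransNear A B fs q := by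
  classical
  obtain ⟨R₁, _, _, S₁, _, _, _, _, _, _, f₁, hft1, hft2, hpo, hf₁⟩ :=
    exists_model_elements A B fs.get
  haveI : IsNoetherianRing R₁ := Algebra.FiniteType.isNoetherianRing ℤ R₁
  let e : A ⊗[R₁] S₁ ≃ₐ[A] B := Algebra.IsPushout.equiv R₁ A S₁ B
  have he : ∀ s : S₁, e ((1 : A) ⊗ₜ[R₁] s) = algebraMap S₁ B s := fun s => by
    rw [Algebra.IsPushout.equiv_tmul, map_one, one_mul]
  have hI : Ideal.ofList fs = ((Ideal.span (Set.range f₁)).map
      (Algebra.TensorProduct.includeRight (A := A) (R := R₁) (B := S₁))).map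
        (e : A ⊗[R₁] S₁ →+* B) := by
    rw [Ideal.map_span, Ideal.map_span, Groth.Agent.Lib.Helper5.KosPerm.ofList_eq_span_range_get]
    congr 1
    ext x
    simp only [Set.mem_range, Set.mem_image, exists_exists_eq_and]
    constructor
    · rintro ⟨i, rfl⟩
      refine ⟨i, ?_⟩
      rw [← hf₁ i]
      exact he _
    · rintro ⟨i, rfl⟩
      refine ⟨i, ?_⟩
      rw [← hf₁ i]
      exact (he _).symm
  haveI hflat₁ : Module.Flat A (A ⊗[R₁] (S₁ ⧸ Ideal.span (Set.range f₁))) :=
    Module.Flat.of_linearEquiv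
      ((Algebra.TensorProduct.tensorQuotientEquiv (R := R₁) A S₁ A
        (Ideal.span (Set.range f₁))).trans (Ideal.quotientEquivAlg _ _ e hI)).toLinearEquiv
  obtain ⟨A', hfg, hflatA'⟩ := exists_fg_flat_baseChange (R₁ := R₁) (S₁ := S₁)
    (S₁ ⧸ Ideal.span (Set.range f₁)) A
  haveI : Algebra.FiniteType R₁ A' := (Subalgebra.fg_iff_finiteType A').1 hfg
  haveI : IsNoetherianRing A' := Algebra.FiniteType.isNoetherianRing R₁ A'
  let φ : A' ⊗[R₁] S₁ →ₐ[R₁] B :=
    Algebra.TensorProduct.lift (IsScalarTower.toAlgHom R₁ A' B) (IsScalarTower.toAlgHom R₁ S₁ B)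
      (fun _ _ => Commute.all _ _)
  letI algSf : Algebra (A' ⊗[R₁] S₁) B := φ.toRingHom.toAlgebra
  have hφ : ∀ x, algebraMap (A' ⊗[R₁] S₁) B x = φ x := fun _ => rfl
  haveI : IsScalarTower A' (A' ⊗[R₁] S₁) B :=
    IsScalarTower.of_algebraMap_eq (R := A') (S := A' ⊗[R₁] S₁) (A := B) fun a => by
      rw [hφ, Algebra.TensorProduct.algebraMap_apply]
      simp [φ]
  haveI : IsScalarTower S₁ (A' ⊗[R₁] S₁) B :=
    IsScalarTower.of_algebraMap_eq (R := S₁) (S := A' ⊗[R₁] S₁) (A := B) fun s => by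
      rw [hφ]
      show algebraMap S₁ B s = φ ((1 : A') ⊗ₜ s)
      simp [φ]
  haveI : IsScalarTower R₁ (A' ⊗[R₁] S₁) B :=
    IsScalarTower.of_algebraMap_eq (R := R₁) (S := A' ⊗[R₁] S₁) (A := B) fun r => by
      rw [hφ, AlgHom.commutes]
  haveI : Algebra.IsPushout A' A (A' ⊗[R₁] S₁) B :=
    (Algebra.IsPushout.comp_iff R₁ A' S₁ (A' ⊗[R₁] S₁) (T := A) (T' := B)).1 inferInstance
  have hf₀ : ∀ i, algebraMap (A' ⊗[R₁] S₁) B ((1 : A') ⊗ₜ[R₁] f₁ i) = fs.get i := by
    intro i
    rw [hφ, ← hf₁ i]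
    simp [φ]
  have hflat₀ : Module.Flat A' ((A' ⊗[R₁] S₁) ⧸ Ideal.span (Set.range
      (fun i => ((1 : A') ⊗ₜ[R₁] f₁ i : A' ⊗[R₁] S₁)))) := by
    have hI' : (Ideal.span (Set.range f₁)).map
        (Algebra.TensorProduct.includeRight (A := A') (R := R₁) (B := S₁)) =
        Ideal.span (Set.range (fun i => ((1 : A') ⊗ₜ[R₁] f₁ i : A' ⊗[R₁] S₁))) := by
      rw [Ideal.map_span]
      congr 1
      ext x
      simp only [Set.mem_range, Set.mem_image, exists_exists_eq_and]
      rfl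
    rw [← hI']
    exact Module.Flat.of_linearEquiv (Algebra.TensorProduct.tensorQuotientEquiv (R := R₁) A' S₁ A'
      (Ideal.span (Set.range f₁))).toLinearEquiv.symm
  have hfun : (fun i => algebraMap (A' ⊗[R₁] S₁) B ((1 : A') ⊗ₜ[R₁] f₁ i)) = fs.get :=
    funext hf₀
  have hmain := transNear_of_flat_model_pushout A' (A' ⊗[R₁] S₁) A B
    (fun i => ((1 : A') ⊗ₜ[R₁] f₁ i : A' ⊗[R₁] S₁)) hflat₀ (by rw [hfun]; exact hH1) q (by
      intro i
      rw [hf₀ i]
      exact hq _ (List.get_mem fs i))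
  rw [hfun, List.ofFn_get] at hmain
  exact hmain

end Groth.Agent.Lib.Helper5.KL
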