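import Mathlib
import Groth.Prelude.Def_RegImm
import Groth.Agent.Lib.Helper5.RelBCA
import Groth.Agent.Lib.Helper5.RegBC

/-!
# Base change of relative `H₁`-regular / quasi-regular immersions
-/

set_option autoImplicit false
universe u
open CategoryTheory CategoryTheory.Limits AlgebraicGeometry TopologicalSpace TensorProduct

namespace Groth.Agent.Lib.Helper5.RelBC

open Groth.Agent.Lib.Helper5.RegDesc Groth.Agent.Lib.Helper5.FlatKind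
  Groth.Agent.Lib.Helper5.RegImmA

theorem isAffineOpen_inf_preimage {X S X' S' : Scheme.{u}} {f : X ⟶ S} {g : S' ⟶ S}
    {f' : X' ⟶ S'} {g' : X' ⟶ X}
    (hc : IsPullback g' f' f g) {W : S.Opens} {W' : S'.Opens} {U : X.Opens}
    (hW'W : W' ≤ g ⁻¹ᵁ W) (hUW : U ≤ f ⁻¹ᵁ W) {U' : X'.Opens} (hU' : U' = g' ⁻¹ᵁ U ⊓ f' ⁻¹ᵁ W')
    (hW : IsAffineOpen W) (hW' : IsAffineOpen W') (hU : IsAffineOpen U) : IsAffineOpen U' := by
  have : IsAffine _ := hW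
  have : IsAffine _ := hW'
  have : IsAffine _ := hU
  exact .of_isIso (Scheme.Hom.isPullback_resLE hc hW'W hUW hU').isoPullback.hom

/-- flatness of the quotient by the kernel, from flatness of the composite -/
theorem flat_quotient_ker {Z X S : Scheme.{u}} (f : X ⟶ S) (i : Z ⟶ X) (hfl : Flat (i ≫ f))
    {V : S.Opens} (hV : IsAffineOpen V) {U : X.Opens} (hU : IsAffineOpen U) (hUV : U ≤ f ⁻¹ᵁ V)
    [IsClosedImmersion (i ∣_ U)] :
    letI : Algebra Γ(S, V) Γ(X, U) := (f.appLE V U hUV).hom.toAlgebra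
    Module.Flat Γ(S, V) (Γ(X, U) ⧸ RingHom.ker (i.app U).hom) := by
  let _ : Algebra Γ(S, V) Γ(X, U) := (f.appLE V U hUV).hom.toAlgebra
  let _ : Algebra Γ(S, V) Γ(Z, i ⁻¹ᵁ U) :=
    ((i.app U).hom.comp (f.appLE V U hUV).hom).toAlgebra
  let ψ : Γ(X, U) →ₐ[Γ(S, V)] Γ(Z, i ⁻¹ᵁ U) :=
    { (i.app U).hom with commutes' := fun a => rfl }
  have hsurj : Function.Surjective ψ := app_surjective_of_restrict i hU
  have hle : i ⁻¹ᵁ U ≤ (i ≫ f) ⁻¹ᵁ V := fun z hz => hUV hz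
  have haff : IsAffineOpen (i ⁻¹ᵁ U) := isAffineOpen_preimage_of_restrict i hU
  have h1 : ((i ≫ f).appLE V (i ⁻¹ᵁ U) hle).hom.Flat := Flat.flat_appLE (i ≫ f) hV haff hle
  have h2 : (i ≫ f).appLE V (i ⁻¹ᵁ U) hle = f.appLE V U hUV ≫ i.app U := by
    rw [Scheme.Hom.app_eq_appLE, Scheme.Hom.appLE_comp_appLE]
  have hC : Module.Flat Γ(S, V) Γ(Z, i ⁻¹ᵁ U) := by
    rw [h2] at h1
    exact h1
  let e : (Γ(X, U) ⧸ RingHom.ker ψ) ≃ₐ[Γ(S, V)] Γ(Z, i ⁻¹ᵁ U) :=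
    Ideal.quotientKerAlgEquivOfSurjective hsurj
  exact Module.Flat.of_linearEquiv e.toLinearEquiv

theorem isRegularImmersionAt_baseChange (k : RegImm.Kind)
    (hk : k = RegImm.Kind.h1 ∨ k = RegImm.Kind.quasi)
    {Z X S S' X' Z' : Scheme.{u}} (f : X ⟶ S) (i : Z ⟶ X) (g : S' ⟶ S)
    (pr₁ : X' ⟶ X) (f' : X' ⟶ S') (H2 : IsPullback pr₁ f' f g)
    (q : Z' ⟶ Z) (i' : Z' ⟶ X') (H1 : IsPullback q i' i pr₁)
    (hflat : Flat (i ≫ f)) (z' : Z') (hz : RegImm.IsRegularImmersionAt k i (q z')) :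
    RegImm.IsRegularImmersionAt k i' z' := by
  have hne : k ≠ RegImm.Kind.regular := by
    rcases hk with rfl | rfl <;> decide
  obtain ⟨U, hzU, hUc, rs, hrs, hker⟩ := hz
  have : IsClosedImmersion (i ∣_ U.1) := hUc
  have hx : pr₁ (i' z') = i (q z') := by
    have h := congrArg (fun φ : Z' ⟶ X => φ z') H1.w
    exact h.symm
  have hs : g (f' (i' z')) = f (pr₁ (i' z')) := by
    have h := congrArg (fun φ : X' ⟶ S => φ (i' z')) H2.w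
    exact h.symm
  obtain ⟨_, ⟨V, hV, rfl⟩, hsV, -⟩ :=
    S.isBasis_affineOpens.exists_subset_of_mem_open (Set.mem_univ (f (pr₁ (i' z')))) isOpen_univ
  obtain ⟨_, ⟨V', hV', rfl⟩, hsV', hV'le⟩ :=
    S'.isBasis_affineOpens.exists_subset_of_mem_open
      (show f' (i' z') ∈ (g ⁻¹ᵁ V : S'.Opens) from by
        change g (f' (i' z')) ∈ V
        rw [hs]; exact hsV) (g ⁻¹ᵁ V).2
  obtain ⟨_, ⟨U₁, hU₁, rfl⟩, hxU₁, hU₁le⟩ :=
    X.isBasis_affineOpens.exists_subset_of_mem_open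
      (show pr₁ (i' z') ∈ (U.1 ⊓ f ⁻¹ᵁ V : X.Opens) from ⟨hx ▸ hzU, hsV⟩) (U.1 ⊓ f ⁻¹ᵁ V).2
  have hle1 : U₁ ≤ U.1 := fun y hy => (hU₁le hy).1
  have hle2 : U₁ ≤ f ⁻¹ᵁ V := fun y hy => (hU₁le hy).2
  have hc1 : IsClosedImmersion (i ∣_ U₁) := isClosedImmersion_restrict_of_le i hle1
  have hrs₁ : k.Seq Γ(X, U₁) (rs.map (X.presheaf.map (homOfLE hle1).op).hom) :=
    kind_seq_map_of_flat' k hne _ (flat_res U.2 hU₁ hle1) rs hrs
  have hker₁ : RingHom.ker (i.app U₁).hom =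
      Ideal.ofList (rs.map (X.presheaf.map (homOfLE hle1).op).hom) := by
    rw [← ker_map_res i U.2 hU₁ hle1, hker, Ideal.map_ofList]
  set rs₁ := rs.map (X.presheaf.map (homOfLE hle1).op).hom with hrs₁def
  let UY : X'.Opens := pr₁ ⁻¹ᵁ U₁ ⊓ f' ⁻¹ᵁ V'
  have hUY : IsAffineOpen UY := isAffineOpen_inf_preimage H2 hV'le hle2 rfl hV hV' hU₁
  have hx'UY : i' z' ∈ UY := ⟨hxU₁, hsV'⟩
  have hUYle : UY ≤ pr₁ ⁻¹ᵁ U₁ := inf_le_left
  have hUYle' : UY ≤ f' ⁻¹ᵁ V' := inf_le_right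
  let _ : Algebra Γ(S, V) Γ(X, U₁) := (f.appLE V U₁ hle2).hom.toAlgebra
  let _ : Algebra Γ(S, V) Γ(S', V') := (g.appLE V V' hV'le).hom.toAlgebra
  let _ : Algebra Γ(X, U₁) Γ(X', UY) := (pr₁.appLE U₁ UY hUYle).hom.toAlgebra
  let _ : Algebra Γ(S', V') Γ(X', UY) := (f'.appLE V' UY hUYle').hom.toAlgebra
  let _ : Algebra Γ(S, V) Γ(X', UY) :=
    ((f'.appLE V' UY hUYle').hom.comp (g.appLE V V' hV'le).hom).toAlgebra
  have : IsScalarTower Γ(S, V) Γ(S', V') Γ(X', UY) := IsScalarTower.of_algebraMap_eq' rfl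
  have : IsScalarTower Γ(S, V) Γ(X, U₁) Γ(X', UY) := by
    refine IsScalarTower.of_algebraMap_eq' ?_
    change (f'.appLE V' UY hUYle').hom.comp (g.appLE V V' hV'le).hom =
      (pr₁.appLE U₁ UY hUYle).hom.comp (f.appLE V U₁ hle2).hom
    rw [← CommRingCat.hom_comp, ← CommRingCat.hom_comp]
    congr 1
    simp only [Scheme.Hom.appLE_comp_appLE, H2.w]
  have hpo : CategoryTheory.IsPushout (f.appLE V U₁ hle2) (g.appLE V V' hV'le)
      (pr₁.appLE U₁ UY hUYle) (f'.appLE V' UY hUYle') :=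
    (isIso_pushoutSection_iff H2 hV'le hle2 rfl).1
      (isIso_pushoutSection_of_isAffineOpen H2 hV'le hle2 rfl hV hV' hU₁)
  have : Algebra.IsPushout Γ(S, V) Γ(X, U₁) Γ(S', V') Γ(X', UY) :=
    CommRingCat.isPushout_iff_isPushout.mp hpo
  have hflatQ : Module.Flat Γ(S, V) (Γ(X, U₁) ⧸ Ideal.ofList rs₁) := by
    rw [← hker₁]
    exact flat_quotient_ker f i hflat hV hU₁ hle2
  have hseq : k.Seq Γ(X', UY) (rs₁.map (algebraMap Γ(X, U₁) Γ(X', UY))) :=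
    kind_seq_baseChange k hk Γ(S, V) Γ(X, U₁) Γ(S', V') Γ(X', UY) rs₁ hrs₁ hflatQ
  obtain ⟨hci', hk'⟩ :=
    Groth.Agent.Lib.Helper5.RegBC.ker_app_of_isPullback i pr₁ i' q H1 hU₁ hUY hUYle
  refine ⟨⟨UY, hUY⟩, hx'UY, hci', rs₁.map (pr₁.appLE U₁ UY hUYle).hom, hseq, ?_⟩
  rw [hk', hker₁, Ideal.map_ofList]

end Groth.Agent.Lib.Helper5.RelBC
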