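import Mathlib
import Groth.Prelude.Def_RegImm
import Groth.Agent.Lib.Helper26.QRegMain
import Groth.Agent.Lib.Helper21.QuasiRegJac
import Groth.Agent.Lib.Helper21.QRDescent

set_option autoImplicit false
universe u

namespace Groth.Agent.Lib.Helper5.TransNbhd

open TensorProduct IsLocalRing RingTheory.Sequence

theorem mk_mem_jacobson {O : Type u} [CommRing O] [IsLocalRing O] (I : Ideal O) {h : O}
    (hh : h ∈ maximalIdeal O) : Ideal.Quotient.mk I h ∈ Ring.jacobson (O ⧸ I) := by
  rw [Ring.jacobson_eq_sInf_isMaximal, Ideal.mem_sInf]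
  intro M hM
  have hM' : M.IsMaximal := hM
  have h1 : (M.comap (Ideal.Quotient.mk I)).IsMaximal :=
    Ideal.comap_isMaximal_of_surjective _ Ideal.Quotient.mk_surjective
  have h2 : M.comap (Ideal.Quotient.mk I) = maximalIdeal O := IsLocalRing.eq_maximalIdeal h1
  have h3 : h ∈ M.comap (Ideal.Quotient.mk I) := h2 ▸ hh
  exact h3

/-- quasi-regular with flat quotient gives a weakly regular sequence on the closed fibre -/
theorem isWeaklyRegular_fibre_of_quasi (R O : Type u) [CommRing R] [CommRing O] [Algebra R O]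
    [IsLocalRing O] (m : Ideal R)
    [IsNoetherianRing (O ⧸ m.map (algebraMap R O))] (hs : List O)
    (hm : ∀ h ∈ hs, h ∈ maximalIdeal O) (hq : CAlgX.IsQuasiRegular hs.get)
    (hflat : Module.Flat R (O ⧸ Ideal.ofList hs)) :
    IsWeaklyRegular (O ⧸ m.map (algebraMap R O))
      (hs.map (Ideal.Quotient.mk (m.map (algebraMap R O)))) := by
  have hspan : Ideal.span (Set.range hs.get) = Ideal.ofList hs := by
    unfold Ideal.ofList
    congr 1
    ext x
    simp [List.mem_iff_get]
  have h1 : CAlgX.IsQuasiRegular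
      (fun i => ((1 : R ⧸ m) ⊗ₜ[R] hs.get i : (R ⧸ m) ⊗[R] O)) :=
    Groth.Agent.Lib.Helper26.QRegBC.main R O (R ⧸ m) hs.length hs.get (by rw [hspan]; exact hflat) hq
  let e := (Algebra.TensorProduct.quotIdealMapEquivQuotTensor O m).symm
  let _ : Algebra ((R ⧸ m) ⊗[R] O) (O ⧸ m.map (algebraMap R O)) := e.toRingHom.toAlgebra
  have hfl : Module.Flat ((R ⧸ m) ⊗[R] O) (O ⧸ m.map (algebraMap R O)) :=
    RingHom.Flat.of_bijective e.bijective
  have h2 := Groth.Agent.Lib.Helper21.QRDescent.qr_of_flat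
    (R' := O ⧸ m.map (algebraMap R O)) _ h1
  have h3 : (algebraMap ((R ⧸ m) ⊗[R] O) (O ⧸ m.map (algebraMap R O)) ∘
      fun i => ((1 : R ⧸ m) ⊗ₜ[R] hs.get i : (R ⧸ m) ⊗[R] O)) =
      fun i => Ideal.Quotient.mk (m.map (algebraMap R O)) (hs.get i) := by
    funext i
    change e _ = _
    rw [AlgEquiv.symm_apply_eq]
    exact (Algebra.TensorProduct.quotIdealMapEquivQuotTensor_mk O m _).symm
  rw [h3] at h2
  have h4 := Groth.Agent.Lib.Helper21.QuasiRegJac.isWeaklyRegular_of_qr hs.length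
    (O ⧸ m.map (algebraMap R O)) _ (fun i => mk_mem_jacobson _ (hm _ (List.get_mem hs i))) h2
  have h5 : List.ofFn (fun i => Ideal.Quotient.mk (m.map (algebraMap R O)) (hs.get i)) =
      hs.map (Ideal.Quotient.mk (m.map (algebraMap R O))) := by
    have : (fun i => Ideal.Quotient.mk (m.map (algebraMap R O)) (hs.get i)) =
        (Ideal.Quotient.mk (m.map (algebraMap R O))) ∘ hs.get := rfl
    rw [this, ← List.map_ofFn, List.ofFn_get]
  rwa [h5] at h4

end Groth.Agent.Lib.Helper5.TransNbhd
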