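import Mathlib
import Groth.Prelude.Def_RegImm
import Groth.Agent.S1349
import Groth.Agent.Lib.Helper5.TransNbhdA
import Groth.Agent.Lib.Helper5.TransPowA
import Groth.Agent.Lib.Helper5.RelBCB
import Groth.Agent.Lib.Helper5.FibreStalkC

set_option autoImplicit false
universe u

namespace Groth.Agent.Lib.Helper5.TransNbhd

open AlgebraicGeometry CategoryTheory Limits TensorProduct IsLocalRing RingTheory.Sequence
open Groth.Agent.Lib.Helper21.FlatDesc Groth.Agent.Lib.Helper21.FibreStalk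
open Groth.Agent.Lib.Helper5.RegDesc Groth.Agent.Lib.Helper5.RegImmA
open scoped Pointwise

theorem mem_primeIdealOf_of_mem_ker {Z X : Scheme.{u}} (i : Z ⟶ X) (z : Z) {U : X.Opens}
    (hU : IsAffineOpen U) (hz : i z ∈ U) {b : Γ(X, U)} (hb : b ∈ RingHom.ker (i.app U).hom) :
    b ∈ (hU.primeIdealOf ⟨i z, hz⟩).asIdeal := by
  let _ : Algebra Γ(X, U) (X.presheaf.stalk (i z)) := X.presheaf.algebra_section_stalk ⟨i z, hz⟩
  have : IsLocalization.AtPrime (X.presheaf.stalk (i z)) (hU.primeIdealOf ⟨i z, hz⟩).asIdeal :=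
    hU.isLocalization_stalk ⟨i z, hz⟩
  rw [← IsLocalization.AtPrime.to_map_mem_maximal_iff (X.presheaf.stalk (i z)) _ b]
  change X.presheaf.germ U (i z) hz b ∈ maximalIdeal _
  rw [mem_maximalIdeal, mem_nonunits_iff]
  intro hu
  have h1 := hu.map (i.stalkMap z).hom
  have h2 : (i.stalkMap z).hom (X.presheaf.germ U (i z) hz b) =
      Z.presheaf.germ (i ⁻¹ᵁ U) z hz (i.app U b) := Scheme.Hom.germ_stalkMap_apply i U z hz b
  rw [h2] at h1
  have h3 : (i.app U) b = 0 := RingHom.mem_ker.mp hb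
  rw [h3, map_zero] at h1
  exact not_isUnit_zero h1

set_option maxHeartbeats 3200000 in
set_option synthInstance.maxHeartbeats 200000 in
/-- a quasi-regular immersion with flat source into a flat lfp scheme is transversally regular
at each point. -/
theorem isTransRegularImmersionAt_of_quasi {Z X S : Scheme.{u}} (f : X ⟶ S) [Flat f]
    [LocallyOfFinitePresentation f] (i : Z ⟶ X) (hfl : Flat (i ≫ f)) (z : Z)
    (hz : RegImm.IsRegularImmersionAt RegImm.Kind.quasi i z) :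
    RegImm.IsTransRegularImmersionAt f i z := by
  classical
  obtain ⟨U, hzU, hUc, rs, hrs, hker⟩ := hz
  have : IsClosedImmersion (i ∣_ U.1) := hUc
  obtain ⟨x, hx⟩ : ∃ x : X, x = i z := ⟨_, rfl⟩
  rw [← hx] at hzU
  obtain ⟨_, ⟨V, hV : IsAffineOpen V, rfl⟩, hfxV, -⟩ :=
    S.isBasis_affineOpens.exists_subset_of_mem_open (Set.mem_univ (f x)) isOpen_univ
  obtain ⟨_, ⟨U₀, hU₀ : IsAffineOpen U₀, rfl⟩, hxU₀, hU₀le⟩ :=
    X.isBasis_affineOpens.exists_subset_of_mem_open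
      (show x ∈ ((U.1 ⊓ f ⁻¹ᵁ V : X.Opens) : Set X) from ⟨hzU, hfxV⟩) (U.1 ⊓ f ⁻¹ᵁ V).isOpen
  have hle1 : U₀ ≤ U.1 := fun y hy => (hU₀le hy).1
  have hU₀V : U₀ ≤ f ⁻¹ᵁ V := fun y hy => (hU₀le hy).2
  have hc1 : IsClosedImmersion (i ∣_ U₀) := isClosedImmersion_restrict_of_le i hle1
  obtain ⟨bs, hbsdef⟩ : ∃ bs : List Γ(X, U₀),
      bs = rs.map (X.presheaf.map (homOfLE hle1).op).hom := ⟨_, rfl⟩
  have hbsq : RegImm.Kind.quasi.Seq Γ(X, U₀) bs := by
    rw [hbsdef]
    exact kind_seq_map_of_flat' _ (by decide) _ (flat_res U.2 hU₀ hle1) rs hrs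
  have hker₀ : RingHom.ker (i.app U₀).hom = Ideal.ofList bs := by
    rw [hbsdef, ← ker_map_res i U.2 hU₀ hle1, hker, Ideal.map_ofList]
  -- ring data
  let aAB : Algebra Γ(S, V) Γ(X, U₀) := (f.appLE V U₀ hU₀V).hom.toAlgebra
  have : Algebra.FinitePresentation Γ(S, V) Γ(X, U₀) :=
    (HasRingHomProperty.appLE @LocallyOfFinitePresentation f inferInstance ⟨V, hV⟩ ⟨U₀, hU₀⟩ hU₀V :
      RingHom.FinitePresentation _)
  let q : Ideal Γ(X, U₀) := (hU₀.primeIdealOf ⟨x, hxU₀⟩).asIdeal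
  let aBO : Algebra Γ(X, U₀) (X.presheaf.stalk x) := X.presheaf.algebra_section_stalk ⟨x, hxU₀⟩
  have locO : IsLocalization.AtPrime (X.presheaf.stalk x) q := hU₀.isLocalization_stalk ⟨x, hxU₀⟩
  let aAA₀ : Algebra Γ(S, V) (S.presheaf.stalk (f x)) :=
    S.presheaf.algebra_section_stalk ⟨f x, hfxV⟩
  have locA₀ := hV.isLocalization_stalk ⟨f x, hfxV⟩
  let aO : Algebra (S.presheaf.stalk (f x)) (X.presheaf.stalk x) := (f.stalkMap x).hom.toAlgebra
  let aAO : Algebra Γ(S, V) (X.presheaf.stalk x) :=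
    ((algebraMap Γ(X, U₀) (X.presheaf.stalk x)).comp (algebraMap Γ(S, V) Γ(X, U₀))).toAlgebra
  have tw1 : IsScalarTower Γ(S, V) Γ(X, U₀) (X.presheaf.stalk x) :=
    IsScalarTower.of_algebraMap_eq fun a => rfl
  have tw2 : IsScalarTower Γ(S, V) (S.presheaf.stalk (f x)) (X.presheaf.stalk x) :=
    IsScalarTower.of_algebraMap_eq fun a => by
      show X.presheaf.germ U₀ x hxU₀ (f.appLE V U₀ hU₀V a) =
        f.stalkMap x (S.presheaf.germ V (f x) hfxV a)
      rw [Scheme.Hom.germ_stalkMap_apply, Scheme.Hom.appLE]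
      exact (TopCat.Presheaf.germ_res_apply X.presheaf (homOfLE hU₀V) x hxU₀ _)
  have : Module.Flat Γ(S, V) (S.presheaf.stalk (f x)) :=
    IsLocalization.flat _ (hV.primeIdealOf ⟨f x, hfxV⟩).asIdeal.primeCompl
  -- the germs
  obtain ⟨hs, hsdef⟩ : ∃ hs : List (X.presheaf.stalk x),
      hs = bs.map (algebraMap Γ(X, U₀) (X.presheaf.stalk x)) := ⟨_, rfl⟩
  have hbsq' : ∀ b ∈ bs, b ∈ q := by
    intro b hb
    have h1 : b ∈ RingHom.ker (i.app U₀).hom := by
      rw [hker₀]; exact Ideal.subset_span hb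
    subst hx
    exact mem_primeIdealOf_of_mem_ker i z hU₀ hxU₀ h1
  have hsm : ∀ h ∈ hs, h ∈ maximalIdeal (X.presheaf.stalk x) := by
    intro h hh
    rw [hsdef] at hh
    obtain ⟨b, hb, rfl⟩ := List.mem_map.mp hh
    exact (IsLocalization.AtPrime.to_map_mem_maximal_iff (X.presheaf.stalk x) q b).mpr (hbsq' b hb)
  have hflatQ : Module.Flat Γ(S, V) (Γ(X, U₀) ⧸ Ideal.ofList bs) := by
    rw [← hker₀]
    exact Groth.Agent.Lib.Helper5.RelBC.flat_quotient_ker f i hfl hV hU₀ hU₀V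
  have hloc : (Ideal.ofList bs).localized' (X.presheaf.stalk x) q.primeCompl
      (Algebra.linearMap Γ(X, U₀) (X.presheaf.stalk x)) = Ideal.ofList hs := by
    rw [Ideal.localized'_eq_map, Ideal.map_ofList, hsdef]
  have hF1 : Module.Flat Γ(S, V) (X.presheaf.stalk x ⧸ (Ideal.ofList bs).localized'
      (X.presheaf.stalk x) q.primeCompl (Algebra.linearMap Γ(X, U₀) (X.presheaf.stalk x))) :=
    Groth.Agent.Lib.Helper5.TransPow.flat_of_isLocalizedModule_of_flat q.primeCompl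
      ((Ideal.ofList bs).toLocalizedQuotient' (X.presheaf.stalk x) q.primeCompl
        (Algebra.linearMap Γ(X, U₀) (X.presheaf.stalk x)))
  have hF2 : Module.Flat Γ(S, V) (X.presheaf.stalk x ⧸ Ideal.ofList hs) :=
    Module.Flat.of_linearEquiv ((Submodule.quotEquivOfEq _ _ hloc).symm.restrictScalars Γ(S, V))
  have hF3 : Module.Flat (S.presheaf.stalk (f x)) (X.presheaf.stalk x ⧸ Ideal.ofList hs) :=
    (Module.flat_iff_of_isLocalization (S.presheaf.stalk (f x))
      (hV.primeIdealOf ⟨f x, hfxV⟩).asIdeal.primeCompl _).2 hF2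
  have hqs : CAlgX.IsQuasiRegular hs.get := by
    have h1 : RegImm.Kind.quasi.Seq (X.presheaf.stalk x)
        (bs.map (algebraMap Γ(X, U₀) (X.presheaf.stalk x))) :=
      kind_seq_map_of_flat' _ (by decide) _
        (RingHom.flat_algebraMap_iff.mpr (IsLocalization.flat _ q.primeCompl)) bs hbsq
    rw [← hsdef] at h1
    exact h1
  have : LocallyOfFiniteType (f.fiberToSpecResidueField (f x)) := by
    have h0 : LocallyOfFiniteType f := inferInstance
    unfold Scheme.Hom.fiberToSpecResidueField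
    exact MorphismProperty.pullback_snd _ _ h0
  have : IsLocallyNoetherian (f.fiber (f x)) :=
    LocallyOfFiniteType.isLocallyNoetherian (f.fiberToSpecResidueField (f x))
  have hN : IsNoetherianRing (X.presheaf.stalk x ⧸
      (maximalIdeal (S.presheaf.stalk (f x))).map
        (algebraMap (S.presheaf.stalk (f x)) (X.presheaf.stalk x))) :=
    Groth.Agent.Lib.Helper5.FibreStalk.isNoetherianRing_quot_of_fiber f x
  have hreg := isWeaklyRegular_fibre_of_quasi (S.presheaf.stalk (f x)) (X.presheaf.stalk x)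
    (maximalIdeal (S.presheaf.stalk (f x))) hs hsm hqs hF3
  obtain ⟨hwr, hflq⟩ := Groth.Agent.S1349.stalk_step_list f x (Flat.stalkMap f x) hs hsm hreg
  obtain ⟨g₀, hg₀, H⟩ := exists_away_weaklyRegular_flat_stalk Γ(S, V) Γ(X, U₀) q bs
    (X.presheaf.stalk x) (by rw [← hsdef]; exact hwr) (by
      intro i hi
      rw [← hsdef]
      have := hflq i (by rw [hsdef, List.length_map]; exact hi)
      exact Module.Flat.trans Γ(S, V) (S.presheaf.stalk (f x)) _)
  have hU' : IsAffineOpen (X.basicOpen g₀) := hU₀.basicOpen g₀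
  have hxU' : x ∈ X.basicOpen g₀ := by
    rw [Scheme.mem_basicOpen _ _ _ hxU₀]
    exact (IsLocalization.AtPrime.isUnit_to_map_iff (X.presheaf.stalk x) q g₀).mpr hg₀
  have locB' : IsLocalization.Away g₀ Γ(X, X.basicOpen g₀) := hU₀.isLocalization_basicOpen g₀
  have hUV' : X.basicOpen g₀ ≤ f ⁻¹ᵁ V := (X.basicOpen_le g₀).trans hU₀V
  let aAB' : Algebra Γ(S, V) Γ(X, X.basicOpen g₀) :=
    (f.appLE V (X.basicOpen g₀) hUV').hom.toAlgebra
  have tw3 : IsScalarTower Γ(S, V) Γ(X, U₀) Γ(X, X.basicOpen g₀) :=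
    IsScalarTower.of_algebraMap_eq fun a => by
      show f.appLE V (X.basicOpen g₀) hUV' a =
        X.presheaf.map (homOfLE (X.basicOpen_le g₀)).op (f.appLE V U₀ hU₀V a)
      rw [← CommRingCat.comp_apply, Scheme.Hom.appLE_map]
  obtain ⟨hwr', hfl'⟩ := H g₀ dvd_rfl Γ(X, X.basicOpen g₀)
  have hc2 : IsClosedImmersion (i ∣_ X.basicOpen g₀) :=
    isClosedImmersion_restrict_of_le i (X.basicOpen_le g₀)
  refine ⟨⟨X.basicOpen g₀, hU'⟩, ⟨V, hV⟩, hUV', hx ▸ hxU', hc2,
    bs.map (algebraMap Γ(X, U₀) Γ(X, X.basicOpen g₀)), ⟨hwr', ?_⟩, ?_⟩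
  · intro j hj
    rw [List.length_map] at hj
    exact hfl' j hj
  · rw [← ker_map_res i hU₀ hU' (X.basicOpen_le g₀), hker₀, Ideal.map_ofList]
    rfl

theorem isRegularImmersionAt_of_trans {Z X S : Scheme.{u}} (f : X ⟶ S) (i : Z ⟶ X) (z : Z)
    (h : RegImm.IsTransRegularImmersionAt f i z) :
    RegImm.IsRegularImmersionAt RegImm.Kind.regular i z := by
  obtain ⟨U, V, e, hzU, hc, rs, ⟨hwr, -⟩, hker⟩ := h
  refine ⟨U, hzU, hc, rs, ?_, hker⟩
  refine Groth.Agent.Lib.Helper5.RegComp.isRegular_of_weaklyRegular_of_ne_top hwr ?_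
  rw [← hker]
  intro htop
  have h1 : (1 : Γ(X, U.1)) ∈ RingHom.ker (i.app U.1).hom := htop ▸ Submodule.mem_top
  have h2 := mem_primeIdealOf_of_mem_ker i z U.2 hzU h1
  exact (U.2.primeIdealOf ⟨i z, hzU⟩).isPrime.ne_top ((Ideal.eq_top_iff_one _).mpr h2)

/-- relative quasi-regular immersions into flat lfp schemes are regular immersions. -/
theorem isRegularImmersion_of_relQuasi {Z X S : Scheme.{u}} (f : X ⟶ S) [Flat f]
    [LocallyOfFinitePresentation f] (i : Z ⟶ X)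
    (hi : RegImm.IsRelRegularImmersion RegImm.Kind.quasi f i) :
    RegImm.IsTransRegularImmersion f i ∧ RegImm.IsRegularImmersion RegImm.Kind.regular i :=
  ⟨⟨hi.1.1, fun z => isTransRegularImmersionAt_of_quasi f i hi.2 z (hi.1.2 z)⟩,
    hi.1.1, fun z => isRegularImmersionAt_of_trans f i z
      (isTransRegularImmersionAt_of_quasi f i hi.2 z (hi.1.2 z))⟩

theorem isRelRegularImmersion_quasi_baseChange {Z X S : Scheme.{u}} (f : X ⟶ S) (i : Z ⟶ X)
    (hi : RegImm.IsRelRegularImmersion RegImm.Kind.quasi f i) {S' : Scheme.{u}} (g : S' ⟶ S) :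
    RegImm.IsRelRegularImmersion RegImm.Kind.quasi (pullback.snd f g)
      (pullback.snd i (pullback.fst f g)) := by
  have H2 : IsPullback (pullback.fst f g) (pullback.snd f g) f g := IsPullback.of_hasPullback f g
  have H1 : IsPullback (pullback.fst i (pullback.fst f g)) (pullback.snd i (pullback.fst f g)) i
      (pullback.fst f g) := IsPullback.of_hasPullback _ _
  have : IsImmersion i := hi.1.1
  refine ⟨⟨inferInstance, fun z' => ?_⟩, ?_⟩
  · exact Groth.Agent.Lib.Helper5.RelBC.isRegularImmersionAt_baseChange RegImm.Kind.quasi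
      (Or.inr rfl) f i g _ _ H2 _ _ H1 hi.2 z' (hi.1.2 _)
  · exact MorphismProperty.of_isPullback (P := @Flat) (H1.paste_vert H2) hi.2

end Groth.Agent.Lib.Helper5.TransNbhd
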