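import Mathlib
import Groth.Prelude.Def_RegImm
import Groth.Agent.Lib.Helper5.KLH
import Groth.Agent.Lib.Helper5.TransNbhdB

set_option autoImplicit false
universe u

namespace Groth.Agent.Lib.Helper5.KL

open AlgebraicGeometry CategoryTheory Limits TensorProduct IsLocalRing RingTheory.Sequence
open Groth.Agent.Lib.Helper5.RegDesc Groth.Agent.Lib.Helper5.RegImmA
open Groth.Agent.Lib.Helper5.TransNbhd

set_option maxHeartbeats 3200000 in
set_option synthInstance.maxHeartbeats 200000 in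
/-- an `H₁`-regular immersion with flat source into a lfp scheme (not assumed flat) is
transversally regular at each point. -/
theorem isTransRegularImmersionAt_of_h1 {Z X S : Scheme.{u}} (f : X ⟶ S)
    [LocallyOfFinitePresentation f] (i : Z ⟶ X) (hfl : Flat (i ≫ f)) (z : Z)
    (hz : RegImm.IsRegularImmersionAt RegImm.Kind.h1 i z) :
    RegImm.IsTransRegularImmersionAt f i z := by
  classical
  obtain ⟨U, hzU, hUc, rs, hrs, hker⟩ := hz
  have : IsClosedImmersion (i ∣_ U.1) := hUc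
  obtain ⟨x, hx⟩ : ∃ x : X, x = i z := ⟨_, rfl⟩
  rw [← hx] at hzU
  obtain ⟨_, ⟨V, hV : IsAffineOpen V, rfl⟩, hfxV, -⟩ :=
    S.isBasis_affineOpens.exists_subset_of_mem_open (Set.mem_univ (f x)) isOpen_univ
  obtain ⟨_, ⟨U₀, hU₀ : IsAffineOpen U₀, rfl⟩, hxU₀, hU₀le⟩ :=
    X.isBasis_affineOpens.exists_subset_of_mem_open
      (show x ∈ ((U.1 ⊓ f ⁻¹ᵁ V : X.Opens) : Set X) from ⟨hzU, hfxV⟩) (U.1 ⊓ f ⁻¹ᵁ V).isOpen
  have hle1 : U₀ ≤ U.1 := fun y hy => (hU₀le hy).1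
  have hU₀V : U₀ ≤ f ⁻¹ᵁ V := fun y hy => (hU₀le hy).2
  have hc1 : IsClosedImmersion (i ∣_ U₀) := isClosedImmersion_restrict_of_le i hle1
  obtain ⟨bs, hbsdef⟩ : ∃ bs : List Γ(X, U₀),
      bs = rs.map (X.presheaf.map (homOfLE hle1).op).hom := ⟨_, rfl⟩
  have hbsq : RegImm.Kind.h1.Seq Γ(X, U₀) bs := by
    rw [hbsdef]
    exact kind_seq_map_of_flat' _ (by decide) _ (flat_res U.2 hU₀ hle1) rs hrs
  have hker₀ : RingHom.ker (i.app U₀).hom = Ideal.ofList bs := by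
    rw [hbsdef, ← ker_map_res i U.2 hU₀ hle1, hker, Ideal.map_ofList]
  -- ring data
  let aAB : Algebra Γ(S, V) Γ(X, U₀) := (f.appLE V U₀ hU₀V).hom.toAlgebra
  have : Algebra.FinitePresentation Γ(S, V) Γ(X, U₀) :=
    (HasRingHomProperty.appLE @LocallyOfFinitePresentation f inferInstance ⟨V, hV⟩ ⟨U₀, hU₀⟩ hU₀V :
      RingHom.FinitePresentation _)
  let q : Ideal Γ(X, U₀) := (hU₀.primeIdealOf ⟨x, hxU₀⟩).asIdeal
  have hbsq' : ∀ b ∈ bs, b ∈ q := by
    intro b hb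
    have h1 : b ∈ RingHom.ker (i.app U₀).hom := by
      rw [hker₀]; exact Ideal.subset_span hb
    subst hx
    exact mem_primeIdealOf_of_mem_ker i z hU₀ hxU₀ h1
  have hflatQ : Module.Flat Γ(S, V) (Γ(X, U₀) ⧸ Ideal.ofList bs) := by
    rw [← hker₀]
    exact Groth.Agent.Lib.Helper5.RelBC.flat_quotient_ker f i hfl hV hU₀ hU₀V
  obtain ⟨g₀, hg₀, H⟩ := transNear_of_h1 Γ(S, V) Γ(X, U₀) bs hbsq hflatQ q hbsq'
  have hU' : IsAffineOpen (X.basicOpen g₀) := hU₀.basicOpen g₀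
  have hxU' : x ∈ X.basicOpen g₀ := by
    let aBO : Algebra Γ(X, U₀) (X.presheaf.stalk x) := X.presheaf.algebra_section_stalk ⟨x, hxU₀⟩
    have locO : IsLocalization.AtPrime (X.presheaf.stalk x) q :=
      hU₀.isLocalization_stalk ⟨x, hxU₀⟩
    rw [Scheme.mem_basicOpen _ _ _ hxU₀]
    exact (IsLocalization.AtPrime.isUnit_to_map_iff (X.presheaf.stalk x) q g₀).mpr hg₀
  have locB' : IsLocalization.Away g₀ Γ(X, X.basicOpen g₀) := hU₀.isLocalization_basicOpen g₀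
  have hUV' : X.basicOpen g₀ ≤ f ⁻¹ᵁ V := (X.basicOpen_le g₀).trans hU₀V
  let aAB' : Algebra Γ(S, V) Γ(X, X.basicOpen g₀) :=
    (f.appLE V (X.basicOpen g₀) hUV').hom.toAlgebra
  have tw3 : IsScalarTower Γ(S, V) Γ(X, U₀) Γ(X, X.basicOpen g₀) :=
    IsScalarTower.of_algebraMap_eq fun a => by
      show f.appLE V (X.basicOpen g₀) hUV' a =
        X.presheaf.map (homOfLE (X.basicOpen_le g₀)).op (f.appLE V U₀ hU₀V a)
      rw [← CommRingCat.comp_apply, Scheme.Hom.appLE_map]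
  have htr := H Γ(X, X.basicOpen g₀)
  have hc2 : IsClosedImmersion (i ∣_ X.basicOpen g₀) :=
    isClosedImmersion_restrict_of_le i (X.basicOpen_le g₀)
  refine ⟨⟨X.basicOpen g₀, hU'⟩, ⟨V, hV⟩, hUV', hx ▸ hxU', hc2,
    bs.map (algebraMap Γ(X, U₀) Γ(X, X.basicOpen g₀)), htr, ?_⟩
  rw [← ker_map_res i hU₀ hU' (X.basicOpen_le g₀), hker₀, Ideal.map_ofList]
  rfl

end Groth.Agent.Lib.Helper5.KL
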