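import Mathlib
import Groth.Prelude.Def_RegImm
import Groth.Agent.Lib.Helper5.TransNbhdC
import Groth.Agent.Lib.Helper5.RelBCB

set_option autoImplicit false
universe u
open CategoryTheory CategoryTheory.Limits AlgebraicGeometry TopologicalSpace TensorProduct

namespace Groth.Agent.Lib.Helper5.TransNbhd

open Groth.Agent.Lib.Helper5.RegDesc Groth.Agent.Lib.Helper5.FlatKind
  Groth.Agent.Lib.Helper5.RegImmA Groth.Agent.Lib.Helper5.RelBC

set_option maxHeartbeats 1600000 in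
/-- transversally regular immersions are stable under arbitrary base change (pointwise). -/
theorem isTransRegularImmersionAt_baseChange
    {Z X S S' X' Z' : Scheme.{u}} (f : X ⟶ S) (i : Z ⟶ X) (g : S' ⟶ S)
    (pr₁ : X' ⟶ X) (f' : X' ⟶ S') (H2 : IsPullback pr₁ f' f g)
    (q : Z' ⟶ Z) (i' : Z' ⟶ X') (H1 : IsPullback q i' i pr₁)
    (z' : Z') (hz : RegImm.IsTransRegularImmersionAt f i (q z')) :
    RegImm.IsTransRegularImmersionAt f' i' z' := by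
  obtain ⟨U, V, e, hzU, hUc, rs, hrs, hker⟩ := hz
  have : IsClosedImmersion (i ∣_ U.1) := hUc
  have hx : pr₁ (i' z') = i (q z') := by
    have h := congrArg (fun φ : Z' ⟶ X => φ z') H1.w
    exact h.symm
  have hs : g (f' (i' z')) = f (pr₁ (i' z')) := by
    have h := congrArg (fun φ : X' ⟶ S => φ (i' z')) H2.w
    exact h.symm
  have hxU : pr₁ (i' z') ∈ U.1 := hx ▸ hzU
  obtain ⟨_, ⟨V', hV', rfl⟩, hsV', hV'le⟩ :=
    S'.isBasis_affineOpens.exists_subset_of_mem_open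
      (show f' (i' z') ∈ (g ⁻¹ᵁ V.1 : S'.Opens) from by
        change g (f' (i' z')) ∈ V.1
        rw [hs]; exact e hxU) (g ⁻¹ᵁ V.1).2
  let UY : X'.Opens := pr₁ ⁻¹ᵁ U.1 ⊓ f' ⁻¹ᵁ V'
  have hUY : IsAffineOpen UY := isAffineOpen_inf_preimage H2 hV'le e rfl V.2 hV' U.2
  have hx'UY : i' z' ∈ UY := ⟨hxU, hsV'⟩
  have hUYle : UY ≤ pr₁ ⁻¹ᵁ U.1 := inf_le_left
  have hUYle' : UY ≤ f' ⁻¹ᵁ V' := inf_le_right
  let _ : Algebra Γ(S, V.1) Γ(X, U.1) := (f.appLE V.1 U.1 e).hom.toAlgebra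
  let _ : Algebra Γ(S, V.1) Γ(S', V') := (g.appLE V.1 V' hV'le).hom.toAlgebra
  let _ : Algebra Γ(X, U.1) Γ(X', UY) := (pr₁.appLE U.1 UY hUYle).hom.toAlgebra
  let _ : Algebra Γ(S', V') Γ(X', UY) := (f'.appLE V' UY hUYle').hom.toAlgebra
  let _ : Algebra Γ(S, V.1) Γ(X', UY) :=
    ((f'.appLE V' UY hUYle').hom.comp (g.appLE V.1 V' hV'le).hom).toAlgebra
  have : IsScalarTower Γ(S, V.1) Γ(S', V') Γ(X', UY) := IsScalarTower.of_algebraMap_eq' rfl
  have : IsScalarTower Γ(S, V.1) Γ(X, U.1) Γ(X', UY) := by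
    refine IsScalarTower.of_algebraMap_eq' ?_
    change (f'.appLE V' UY hUYle').hom.comp (g.appLE V.1 V' hV'le).hom =
      (pr₁.appLE U.1 UY hUYle).hom.comp (f.appLE V.1 U.1 e).hom
    rw [← CommRingCat.hom_comp, ← CommRingCat.hom_comp]
    congr 1
    simp only [Scheme.Hom.appLE_comp_appLE, H2.w]
  have hpo : CategoryTheory.IsPushout (f.appLE V.1 U.1 e) (g.appLE V.1 V' hV'le)
      (pr₁.appLE U.1 UY hUYle) (f'.appLE V' UY hUYle') :=
    (isIso_pushoutSection_iff H2 hV'le e rfl).1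
      (isIso_pushoutSection_of_isAffineOpen H2 hV'le e rfl V.2 hV' U.2)
  have : Algebra.IsPushout Γ(S, V.1) Γ(X, U.1) Γ(S', V') Γ(X', UY) :=
    CommRingCat.isPushout_iff_isPushout.mp hpo
  have hseq := isTransRegularSeq_baseChange Γ(S, V.1) Γ(X, U.1) Γ(S', V') Γ(X', UY) rs hrs
  obtain ⟨hci', hk'⟩ :=
    Groth.Agent.Lib.Helper5.RegBC.ker_app_of_isPullback i pr₁ i' q H1 U.2 hUY hUYle
  refine ⟨⟨UY, hUY⟩, ⟨V', hV'⟩, hUYle', hx'UY, hci', rs.map (pr₁.appLE U.1 UY hUYle).hom,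
    hseq, ?_⟩
  rw [hk', hker, Ideal.map_ofList]

end Groth.Agent.Lib.Helper5.TransNbhd
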