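import Mathlib
import Groth.Prelude.Def_RegImm
import Groth.Agent.Lib.Helper5.KLI
import Groth.Agent.Lib.Helper5.TransNbhdD
import Groth.Agent.S0386

set_option autoImplicit false
universe u

namespace Groth.Agent.Lib.Helper5.KL

open AlgebraicGeometry CategoryTheory Limits TensorProduct IsLocalRing RingTheory.Sequence
open Groth.Agent.Lib.Helper5.TransNbhd

/-- flatness of the ring map of an affine chart gives flatness of the stalk maps on the chart. -/
theorem flat_stalkMap_of_flat_appLE {X S : Scheme.{u}} (f : X ⟶ S) {U : X.Opens} {V : S.Opens}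
    (hU : IsAffineOpen U) (hV : IsAffineOpen V) (e : U ≤ f ⁻¹ᵁ V)
    (h : (f.appLE V U e).hom.Flat) (x : X) (hx : x ∈ U) : (f.stalkMap x).hom.Flat := by
  have hfxV : f x ∈ V := e hx
  let aAB : Algebra Γ(S, V) Γ(X, U) := (f.appLE V U e).hom.toAlgebra
  let q : Ideal Γ(X, U) := (hU.primeIdealOf ⟨x, hx⟩).asIdeal
  let aBO : Algebra Γ(X, U) (X.presheaf.stalk x) := X.presheaf.algebra_section_stalk ⟨x, hx⟩
  have locO : IsLocalization.AtPrime (X.presheaf.stalk x) q := hU.isLocalization_stalk ⟨x, hx⟩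
  let aAA₀ : Algebra Γ(S, V) (S.presheaf.stalk (f x)) :=
    S.presheaf.algebra_section_stalk ⟨f x, hfxV⟩
  have locA₀ := hV.isLocalization_stalk ⟨f x, hfxV⟩
  let aO : Algebra (S.presheaf.stalk (f x)) (X.presheaf.stalk x) := (f.stalkMap x).hom.toAlgebra
  let aAO : Algebra Γ(S, V) (X.presheaf.stalk x) :=
    ((algebraMap Γ(X, U) (X.presheaf.stalk x)).comp (algebraMap Γ(S, V) Γ(X, U))).toAlgebra
  have tw1 : IsScalarTower Γ(S, V) Γ(X, U) (X.presheaf.stalk x) :=
    IsScalarTower.of_algebraMap_eq fun a => rfl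
  have tw2 : IsScalarTower Γ(S, V) (S.presheaf.stalk (f x)) (X.presheaf.stalk x) :=
    IsScalarTower.of_algebraMap_eq fun a => by
      show X.presheaf.germ U x hx (f.appLE V U e a) =
        f.stalkMap x (S.presheaf.germ V (f x) hfxV a)
      rw [Scheme.Hom.germ_stalkMap_apply, Scheme.Hom.appLE]
      exact (TopCat.Presheaf.germ_res_apply X.presheaf (homOfLE e) x hx _)
  have h1 : Module.Flat Γ(S, V) Γ(X, U) := h
  have h2 : Module.Flat Γ(X, U) (X.presheaf.stalk x) := IsLocalization.flat _ q.primeCompl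
  have h3 : Module.Flat Γ(S, V) (X.presheaf.stalk x) := Module.Flat.trans Γ(S, V) Γ(X, U) _
  exact (Module.flat_iff_of_isLocalization (S.presheaf.stalk (f x))
    (hV.primeIdealOf ⟨f x, hfxV⟩).asIdeal.primeCompl _).2 h3

/-- the ambient scheme is flat at the points of a transversally regular immersion. -/
theorem flat_stalkMap_of_isTransRegularImmersionAt {Z X S : Scheme.{u}} (f : X ⟶ S) (i : Z ⟶ X)
    (z : Z) (h : RegImm.IsTransRegularImmersionAt f i z) : (f.stalkMap (i z)).hom.Flat := by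
  obtain ⟨U, V, e, hzU, -, rs, ⟨-, hfl⟩, -⟩ := h
  refine flat_stalkMap_of_flat_appLE f U.2 V.2 e ?_ (i z) hzU
  let _ : Algebra Γ(S, V.1) Γ(X, U.1) := (f.appLE V.1 U.1 e).hom.toAlgebra
  have h0 := hfl 0 (Nat.zero_le _)
  have hbot : Ideal.ofList (rs.take 0) = (⊥ : Ideal Γ(X, U.1)) := by
    rw [List.take_zero, Ideal.ofList_nil]
  have h1 : Module.Flat Γ(S, V.1) Γ(X, U.1) :=
    Module.Flat.of_linearEquiv
      ((Submodule.quotEquivOfEqBot _ hbot).symm.restrictScalars Γ(S, V.1))
  exact h1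

/-- the flat locus of a lfp morphism, as an open subscheme. -/
noncomputable def flatLocus {X S : Scheme.{u}} (f : X ⟶ S) [LocallyOfFinitePresentation f] :
    X.Opens :=
  ⟨{x : X | (f.stalkMap x).hom.Flat}, Groth.Agent.S0386.result f⟩

theorem mem_flatLocus {X S : Scheme.{u}} (f : X ⟶ S) [LocallyOfFinitePresentation f] (x : X) :
    x ∈ flatLocus f ↔ (f.stalkMap x).hom.Flat := Iff.rfl

/-- the flat locus of a lfp morphism is flat over the base. -/
theorem flat_flatLocus {X S : Scheme.{u}} (f : X ⟶ S) [LocallyOfFinitePresentation f] :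
    Flat ((flatLocus f).ι ≫ f) := by
  rw [Flat.iff_flat_stalkMap]
  intro u
  rw [Scheme.Hom.stalkMap_comp]
  have h1 : (f.stalkMap u.1).hom.Flat := u.2
  have h2 : ((flatLocus f).ι.stalkMap u).hom.Flat :=
    RingHom.Flat.of_bijective (ConcreteCategory.bijective_of_isIso _)
  exact RingHom.Flat.comp h1 h2

end Groth.Agent.Lib.Helper5.KL
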