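import Mathlib
import Groth.Prelude.Def_LCI2
import Groth.Prelude.Def_CAlgX
import Groth.Agent.Lib.Helper5.KosLow

/-!
# The Koszul complex (mapping cone model) in degrees `0, -1, -2` and `H₁`-regularity
-/

set_option autoImplicit false
universe u

open CategoryTheory CategoryTheory.Limits CochainComplex HomComplex

namespace Groth.Agent.Lib.Helper5.KosH1

open Groth.Agent.Lib.Helper5.KosLow

variable {R : Type u} [CommRing R]

/-- the module of trivial (Koszul) relations among a finite family -/
def Triv {c : ℕ} (f : Fin c → R) : Submodule R (Fin c → R) :=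
  Submodule.span R {v | ∃ i j : Fin c, v = Pi.single i (f j) - Pi.single j (f i)}

theorem isH1Regular_iff {c : ℕ} (f : Fin c → R) :
    CAlgX.IsH1Regular f ↔ ∀ a : Fin c → R, ∑ i, a i * f i = 0 → a ∈ Triv f := Iff.rfl

section algebra

variable {c : ℕ} (x : R) (g : Fin c → R)

/-- prepend a zero coordinate -/
def consZero : (Fin c → R) →ₗ[R] (Fin (c + 1) → R) where
  toFun t := Fin.cons 0 t
  map_add' t t' := by
    ext i
    refine Fin.cases ?_ (fun j => ?_) i <;> simp
  map_smul' a t := by
    ext i
    refine Fin.cases ?_ (fun j => ?_) i <;> simp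

/-- the relations between `x` and the `g i` -/
def psi1 : (Fin c → R) →ₗ[R] (Fin (c + 1) → R) where
  toFun b := Fin.cons (-∑ i, b i * g i) (x • b)
  map_add' b b' := by
    ext i
    refine Fin.cases ?_ (fun j => ?_) i
    · simp only [Fin.cons_zero, Pi.add_apply, add_mul, Finset.sum_add_distrib, neg_add]
    · simp [mul_add]
  map_smul' a b := by
    ext i
    refine Fin.cases ?_ (fun j => ?_) i
    · simp only [Fin.cons_zero, Pi.smul_apply, smul_eq_mul, RingHom.id_apply, mul_assoc,
        ← Finset.mul_sum, mul_neg]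
    · simp [mul_left_comm]

@[simp] theorem consZero_zero (t : Fin c → R) : consZero t 0 = 0 := rfl
@[simp] theorem consZero_succ (t : Fin c → R) (j : Fin c) : consZero t j.succ = t j := rfl
@[simp] theorem psi1_zero (b : Fin c → R) : psi1 x g b 0 = -∑ i, b i * g i := rfl
@[simp] theorem psi1_succ (b : Fin c → R) (j : Fin c) : psi1 x g b j.succ = x * b j := rfl

theorem psi1_single [DecidableEq (Fin c)] (i : Fin c) :
    psi1 x g (Pi.single i 1) = Pi.single i.succ x - Pi.single 0 (g i) := by
  ext k
  refine Fin.cases ?_ (fun j => ?_) k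
  · simp [Pi.single_apply, Fin.succ_ne_zero]
  · simp only [psi1_succ, Pi.sub_apply, Pi.single_apply, Fin.succ_inj]
    have h0 : j.succ ≠ 0 := Fin.succ_ne_zero j
    simp only [h0, if_false, sub_zero]
    split_ifs <;> simp

theorem consZero_gen [DecidableEq (Fin c)] (i j : Fin c) :
    consZero (Pi.single i (g j) - Pi.single j (g i)) =
      (Pi.single i.succ (g j) - Pi.single j.succ (g i) : Fin (c + 1) → R) := by
  ext k
  refine Fin.cases ?_ (fun m => ?_) k
  · simp [Pi.single_apply, Fin.succ_ne_zero, (Fin.succ_ne_zero _).symm]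
  · simp only [consZero_succ, Pi.sub_apply, Pi.single_apply, Fin.succ_inj]

theorem psi1_mem (b : Fin c → R) : psi1 x g b ∈ Triv (Fin.cons x g : Fin (c + 1) → R) := by
  classical
  have hb : b = ∑ i, b i • (Pi.single i 1 : Fin c → R) := by
    ext k
    simp [Finset.sum_apply, Pi.single_apply]
  rw [hb, map_sum]
  refine Submodule.sum_mem _ (fun i _ => ?_)
  rw [map_smul]
  refine Submodule.smul_mem _ _ (Submodule.subset_span ⟨i.succ, 0, ?_⟩)
  rw [psi1_single]
  simp

theorem consZero_mem (t : Fin c → R) (ht : t ∈ Triv g) :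
    consZero t ∈ Triv (Fin.cons x g : Fin (c + 1) → R) := by
  classical
  unfold Triv at ht
  induction ht using Submodule.span_induction with
  | mem v hv =>
    obtain ⟨i, j, rfl⟩ := hv
    refine Submodule.subset_span ⟨i.succ, j.succ, ?_⟩
    rw [consZero_gen]
    simp
  | zero => rw [map_zero]; exact Submodule.zero_mem _
  | add a b _ _ ha hb => rw [map_add]; exact Submodule.add_mem _ ha hb
  | smul r a _ ha => rw [map_smul]; exact Submodule.smul_mem _ _ ha

theorem triv_cons_le (S : Submodule R (Fin (c + 1) → R))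
    (h1 : ∀ b : Fin c → R, psi1 x g b ∈ S)
    (h2 : ∀ t ∈ Triv g, consZero t ∈ S) : Triv (Fin.cons x g : Fin (c + 1) → R) ≤ S := by
  classical
  unfold Triv
  rw [Submodule.span_le]
  rintro v ⟨i', j', rfl⟩
  have hpair : ∀ i : Fin c, (Pi.single i.succ x - Pi.single 0 (g i) : Fin (c + 1) → R) ∈ S := by
    intro i
    rw [← psi1_single]
    exact h1 _
  refine Fin.cases ?_ (fun i => ?_) i' <;> refine Fin.cases ?_ (fun j => ?_) j'
  · simp only [sub_self]
    exact S.zero_mem
  · have := S.neg_mem (hpair j)
    simpa using this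
  · simpa using hpair i
  · have := h2 _ (Submodule.subset_span ⟨i, j, rfl⟩ : (Pi.single i (g j) - Pi.single j (g i)) ∈
      Triv g)
    rw [consZero_gen] at this
    simpa using this

end algebra

theorem get_cons (x : R) (l : List R) :
    (x :: l).get = (Fin.cons x l.get : Fin (l.length + 1) → R) := by
  funext i
  refine Fin.cases ?_ (fun j => ?_) i <;> rfl

end Groth.Agent.Lib.Helper5.KosH1
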