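import Mathlib
import Groth.Prelude.Def_LCI2
import Groth.Prelude.Def_CAlgX
import Groth.Agent.Lib.Helper5.KosH1A

/-!
# `H₁`-regularity is the vanishing of the first Koszul homology (mapping cone model)
-/

set_option autoImplicit false
universe u

open CategoryTheory CategoryTheory.Limits CochainComplex HomComplex

namespace Groth.Agent.Lib.Helper5.KosH1

open Groth.Agent.Lib.Helper5.KosLow

variable {R : Type u} [CommRing R]

/-- explicit description of the Koszul complex in degrees `0`, `-1` and of the image of the
differential from degree `-2`. -/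
theorem low2 : ∀ l : List R, ∃ (e0 : (Koszul.koszul R l).X 0 ≃ₗ[R] R)
    (e1 : (Koszul.koszul R l).X (-1) ≃ₗ[R] (Fin l.length → R)),
    (∀ v, e0 (((Koszul.koszul R l).d (-1) 0).hom v) = ∑ i, e1 v i * l.get i) ∧
    Submodule.map e1.toLinearMap (LinearMap.range ((Koszul.koszul R l).d (-2) (-1)).hom) =
      Triv l.get
  | [] => by
    have e : (Koszul.koszul R ([] : List R)).X 0 ≃ₗ[R] R :=
      (HomologicalComplex.singleObjXSelf (ComplexShape.up ℤ) 0 (ModuleCat.of R R)).toLinearEquiv
    have hz : IsZero ((Koszul.koszul R ([] : List R)).X (-1)) :=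
      HomologicalComplex.isZero_single_obj_X _ _ _ _ (by norm_num)
    have : Subsingleton ((Koszul.koszul R ([] : List R)).X (-1)) :=
      ModuleCat.subsingleton_of_isZero hz
    have : Subsingleton (Fin ([] : List R).length → R) :=
      ⟨fun a b => funext fun i => i.elim0⟩
    refine ⟨e, LinearEquiv.ofSubsingleton _ _, ?_, ?_⟩
    · intro v
      have hv : v = 0 := Subsingleton.elim _ _
      subst hv
      rw [map_zero, map_zero]
      exact (Finset.sum_eq_zero (fun i _ => i.elim0)).symm
    · exact (Submodule.eq_bot_of_subsingleton).trans (Submodule.eq_bot_of_subsingleton).symm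
  | x :: l => by
    obtain ⟨e0, e1, hd, him⟩ := low2 l
    let φ : Koszul.koszul R l ⟶ Koszul.koszul R l := x • 𝟙 (Koszul.koszul R l)
    have hφ : φ = x • 𝟙 (Koszul.koszul R l) := rfl
    have hφf : ∀ (j : ℤ) (v : (Koszul.koszul R l).X j), (φ.f j).hom v = x • v := by
      intro j v
      rw [hφ]; simp
    have hz : ∀ a : (Koszul.koszul R l).X 1, a = 0 := fun a =>
      (ModuleCat.isZero_iff_subsingleton.1
        (Groth.Agent.Lib.Helper2.KosTor2.isZero_koszul_X l 1 (by norm_num))).elim _ _
    let s0 : (mappingCone φ).X 0 ≃ₗ[R] (Koszul.koszul R l).X 0 :=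
      LinearEquiv.ofBijective (csnd φ 0) ⟨by
        rw [injective_iff_map_eq_zero]
        intro v hv
        rw [decomp φ 0 1 rfl v, hv, hz (cfst φ 0 1 rfl v), map_zero, map_zero, add_zero],
        fun b => ⟨cinr φ 0 b, csnd_cinr φ 0 b⟩⟩
    let e1' : (mappingCone φ).X (-1) ≃ₗ[R] (Fin (l.length + 1) → R) :=
      { toFun := fun v => Fin.cons (e0 (cfst φ (-1) 0 (by norm_num) v)) (e1 (csnd φ (-1) v))
        map_add' := fun v w => by
          rw [map_add, map_add, map_add, map_add]
          ext i
          refine Fin.cases ?_ (fun j => ?_) i <;> simp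
        map_smul' := fun a v => by
          rw [map_smul, map_smul, map_smul, map_smul]
          ext i
          refine Fin.cases ?_ (fun j => ?_) i <;> simp
        invFun := fun a => cinl φ (-1) 0 (by norm_num) (e0.symm (a 0)) +
          cinr φ (-1) (e1.symm (Fin.tail a))
        left_inv := fun v => by
          simp only [Fin.cons_zero, Fin.tail_cons, LinearEquiv.symm_apply_apply]
          exact (decomp φ (-1) 0 (by norm_num) v).symm
        right_inv := fun a => by
          simp only [map_add, cfst_cinl, cfst_cinr, csnd_cinl, csnd_cinr, add_zero, zero_add,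
            LinearEquiv.apply_symm_apply]
          exact Fin.cons_self_tail a }
    have he1'0 : ∀ v, e1' v 0 = e0 (cfst φ (-1) 0 (by norm_num) v) := fun v => rfl
    have he1's : ∀ v (j : Fin l.length), e1' v j.succ = e1 (csnd φ (-1) v) j := fun v j => rfl
    -- the formula for the differential from degree -2
    have hF : ∀ w : (mappingCone φ).X (-2),
        e1' (((mappingCone φ).d (-2) (-1)).hom w) =
          psi1 x l.get (e1 (cfst φ (-2) (-1) (by norm_num) w)) +
            consZero (e1 (((Koszul.koszul R l).d (-2) (-1)).hom (csnd φ (-2) w))) := by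
      intro w
      ext i
      refine Fin.cases ?_ (fun j => ?_) i
      · rw [he1'0, cfst_d φ (-2) (-1) 0 (by norm_num) (by norm_num) w, map_neg, hd]
        simp
      · rw [he1's, csnd_d φ (-2) (-1) (by norm_num) w, map_add, hφf, map_smul]
        simp
    refine ⟨s0.trans e0, e1', ?_, ?_⟩
    · intro v
      change e0 (csnd φ 0 (((mappingCone φ).d (-1) 0).hom v)) = _
      rw [csnd_d φ (-1) 0 (by norm_num) v, map_add, hd, hφf, map_smul]
      change _ = ∑ i : Fin (l.length + 1), e1' v i * (x :: l).get i
      rw [Fin.sum_univ_succ, he1'0]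
      congr 1
      exact mul_comm _ _
    · change Submodule.map e1'.toLinearMap (LinearMap.range ((mappingCone φ).d (-2) (-1)).hom) =
        Triv (x :: l).get
      rw [get_cons]
      apply le_antisymm
      · rintro _ ⟨_, ⟨w, rfl⟩, rfl⟩
        change e1' (((mappingCone φ).d (-2) (-1)).hom w) ∈ _
        rw [hF]
        refine Submodule.add_mem _ (psi1_mem x l.get _) (consZero_mem x l.get _ ?_)
        rw [← him]
        exact ⟨_, ⟨_, rfl⟩, rfl⟩
      · apply triv_cons_le
        · intro b
          refine ⟨_, ⟨cinl φ (-2) (-1) (by norm_num) (e1.symm b), rfl⟩, ?_⟩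
          change e1' (((mappingCone φ).d (-2) (-1)).hom _) = _
          rw [hF, cfst_cinl, csnd_cinl, map_zero, map_zero, map_zero, add_zero,
            LinearEquiv.apply_symm_apply]
        · intro t ht
          rw [← him] at ht
          obtain ⟨_, ⟨u, rfl⟩, rfl⟩ := ht
          refine ⟨_, ⟨cinr φ (-2) u, rfl⟩, ?_⟩
          change e1' (((mappingCone φ).d (-2) (-1)).hom _) = _
          rw [hF, cfst_cinr, csnd_cinr, map_zero, map_zero, zero_add]
          rfl

end Groth.Agent.Lib.Helper5.KosH1
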