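import Mathlib
import Groth.Prelude.Def_LCI2
import Groth.Agent.Lib.Helper5.KosPermC

/-!
# Vanishing of the first Koszul homology does not depend on the generators
-/

set_option autoImplicit false
universe u

open CategoryTheory CategoryTheory.Limits CochainComplex HomComplex

namespace Groth.Agent.Lib.Helper5.KosPerm

variable {R : Type u} [CommRing R]

theorem TTpow_finite_ge (h : ℤ → ModuleCat.{u} R) (n : ℤ)
    (hf : ∀ j, n ≤ j → Module.Finite R (h j)) :
    ∀ (s : ℕ) (j : ℤ), n ≤ j → Module.Finite R (TTpow s h j) := by
  intro s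
  induction s with
  | zero => exact hf
  | succ s ih =>
    intro j hj
    have := ih j hj
    have := ih (j + 1) (by omega)
    exact Module.Finite.prod

/-- a list with the same length and the same ideal as a list with vanishing first Koszul
homology has vanishing first Koszul homology -/
theorem isZero_homology_neg_one_of_length_eq (l a : List R)
    (hl : IsZero ((Koszul.koszul R l).homology (-1)))
    (hlen : a.length = l.length) (hspan : Ideal.ofList a = Ideal.ofList l) :
    IsZero ((Koszul.koszul R a).homology (-1)) := by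
  classical
  set s := l.length with hs
  set ha : ℤ → ModuleCat.{u} R := fun j => (Koszul.koszul R a).homology j with hha
  set hL : ℤ → ModuleCat.{u} R := fun j => (Koszul.koszul R l).homology j with hhL
  have k1 : KIso (a ++ l) (List.replicate s 0 ++ l) := by
    have := KIso.replicate_append a l (fun z hz => by
      rw [← hspan]; exact Ideal.subset_span hz)
    rwa [hlen] at this
  have k2 : KIso (l ++ a) (List.replicate s 0 ++ a) :=
    KIso.replicate_append l a (fun z hz => by rw [hspan]; exact Ideal.subset_span hz)
  have k3 : KIso (List.replicate s 0 ++ a) (List.replicate s 0 ++ l) :=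
    k2.symm.trans ((KIso.perm List.perm_append_comm).trans k1)
  have hT : Nonempty (TTpow s ha (-1) ≃ₗ[R] TTpow s hL (-1)) := by
    obtain ⟨e1⟩ := homology_replicate a s (-1)
    obtain ⟨e2⟩ := homology_replicate l s (-1)
    obtain ⟨e3⟩ := k3.homology (-1)
    exact ⟨e1.symm.trans (e3.trans e2)⟩
  have hLpos : ∀ j : ℤ, 0 < j → Subsingleton (hL j) := fun j hj =>
    ModuleCat.subsingleton_of_isZero (ShortComplex.isZero_homology_of_isZero_X₂ _
      (Groth.Agent.Lib.Helper2.KosTor2.isZero_koszul_X l j hj))
  have hapos : ∀ j : ℤ, 0 < j → Subsingleton (ha j) := fun j hj =>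
    ModuleCat.subsingleton_of_isZero (ShortComplex.isZero_homology_of_isZero_X₂ _
      (Groth.Agent.Lib.Helper2.KosTor2.isZero_koszul_X a j hj))
  have hL1 : Subsingleton (hL (-1)) := ModuleCat.subsingleton_of_isZero hl
  obtain ⟨ea⟩ := Groth.Agent.Lib.Helper15.RelPC15.homology_zero_koszul a
  obtain ⟨eL⟩ := Groth.Agent.Lib.Helper15.RelPC15.homology_zero_koszul l
  have e0 : ha 0 ≃ₗ[R] hL 0 :=
    ea.toLinearEquiv.trans ((Submodule.quotEquivOfEq _ _ hspan).trans eL.toLinearEquiv.symm)
  have hLfin : ∀ j, (-1 : ℤ) ≤ j → Module.Finite R (hL j) := by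
    intro j hj
    rcases lt_trichotomy j 0 with h | h | h
    · have : j = -1 := by omega
      subst this
      infer_instance
    · subst h
      exact Module.Finite.equiv eL.toLinearEquiv.symm
    · have := hLpos j h
      infer_instance
  have hcomp : ∀ j', (-1 : ℤ) < j' → Nonempty (ha j' ≃ₗ[R] hL j') := by
    intro j' hj'
    rcases lt_or_eq_of_le (show (0 : ℤ) ≤ j' by omega) with h | h
    · have := hapos j' h
      have := hLpos j' h
      exact ⟨LinearEquiv.ofSubsingleton _ _⟩
    · subst h
      exact ⟨e0⟩
  obtain ⟨e1⟩ := TTpow_split ha hL (-1) hcomp hL1 s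
  obtain ⟨e2⟩ := hT
  have := TTpow_finite_ge hL (-1) hLfin s (-1) le_rfl
  have : Subsingleton (ha (-1)) := subsingleton_of_prod_equiv (e1.symm.trans e2)
  exact ModuleCat.isZero_of_subsingleton _

end Groth.Agent.Lib.Helper5.KosPerm
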