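import Mathlib
import Groth.Prelude.Def_LCI2
import Groth.Agent.Lib.Helper5.KosDescB

/-!
# Faithfully flat descent of "ideals locally generated by good sequences", axiomatically

`SeqProp` packages a property `Q` of finite sequences of ring elements that is stable under flat
base change, descends along faithfully flat maps, holds for sequences generating the unit ideal,
is local at the maximal ideals, depends only on the ideal and the length, and forces relations
to have coefficients in the ideal.  Koszul-regular and `H₁`-regular sequences are examples.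
-/

set_option autoImplicit false
universe u

open CategoryTheory CategoryTheory.Limits

namespace Groth.Agent.Lib.Helper5.SeqDesc

open Groth.Agent.Lib.Helper5.KosPerm Groth.Agent.Lib.Helper5.KosDesc
open Groth.Agent.Lib.Helper21.QRDescent

/-- an axiomatized property of finite sequences of ring elements -/
structure SeqProp : Type (u + 1) where
  Q : ∀ (R : Type u) [CommRing R], List R → Prop
  flat : ∀ {R R' : Type u} [CommRing R] [CommRing R'] (φ : R →+* R'), φ.Flat →
    ∀ l : List R, Q R l → Q R' (l.map φ)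
  descent : ∀ {R R' : Type u} [CommRing R] [CommRing R'] (φ : R →+* R'), φ.FaithfullyFlat →
    ∀ l : List R, Q R' (l.map φ) → Q R l
  top : ∀ {R : Type u} [CommRing R] (l : List R), Ideal.ofList l = ⊤ → Q R l
  loc : ∀ {R : Type u} [CommRing R] (l : List R),
    (∀ (P : Ideal R) [P.IsMaximal],
      Q (Localization.AtPrime P) (l.map (algebraMap R (Localization.AtPrime P)))) → Q R l
  indep : ∀ {R : Type u} [CommRing R] (l a : List R), Q R l → a.length = l.length →
    Ideal.ofList a = Ideal.ofList l → Q R a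
  rel : ∀ {R : Type u} [CommRing R] (l : List R), Q R l → ∀ c : Fin l.length → R,
    ∑ i, c i * l.get i = 0 → ∀ i, c i ∈ Ideal.ofList l

/-- the ideal `I` is locally (around the primes containing it) generated by `Q`-sequences -/
def SeqProp.IsIdeal (S : SeqProp.{u}) {A : Type u} [CommRing A] (I : Ideal A) : Prop :=
  ∀ 𝔭 : PrimeSpectrum A, I ≤ 𝔭.asIdeal → ∃ g : A, g ∉ 𝔭.asIdeal ∧
    ∃ l : List (Localization.Away g), S.Q (Localization.Away g) l ∧
      I.map (algebraMap A (Localization.Away g)) = Ideal.ofList l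

section Length

variable {R : Type u} [CommRing R]

theorem coeff_mem_of_sum_mem_sq {r : ℕ} (g : Fin r → R)
    (hrel : ∀ c : Fin r → R, ∑ i, c i * g i = 0 → ∀ i, c i ∈ Ideal.span (Set.range g))
    (c : Fin r → R) (hc : ∑ i, c i * g i ∈ (Ideal.span (Set.range g)) ^ 2) (i : Fin r) :
    c i ∈ Ideal.span (Set.range g) := by
  rw [pow_two] at hc
  obtain ⟨b, hb, hsum⟩ := KosLow.exists_of_mem_mul_span_range _ g _ hc
  have h2 : ∑ j : Fin r, (c j - b j) * g j = 0 := by
    simp_rw [sub_mul]
    rw [Finset.sum_sub_distrib, hsum, sub_self]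
  have h3 := Ideal.add_mem _ (hrel (fun j => c j - b j) h2 i) (hb i)
  rwa [sub_add_cancel] at h3

theorem exists_basis_cotangent {r : ℕ} (g : Fin r → R)
    (hrel : ∀ c : Fin r → R, ∑ i, c i * g i = 0 → ∀ i, c i ∈ Ideal.span (Set.range g)) :
    Nonempty (Module.Basis (Fin r) (R ⧸ Ideal.span (Set.range g))
      (Ideal.span (Set.range g)).Cotangent) := by
  set I := Ideal.span (Set.range g) with hI
  let gI : Fin r → I := fun i => ⟨g i, Ideal.subset_span (Set.mem_range_self i)⟩
  let v : Fin r → I.Cotangent := fun i => I.toCotangent (gI i)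
  have hsmul : ∀ (c : R) (m : I.Cotangent), (Ideal.Quotient.mk I c) • m = c • m := fun c m =>
    algebraMap_smul (R ⧸ I) c m
  have hli : LinearIndependent (R ⧸ I) v := by
    rw [Fintype.linearIndependent_iff]
    intro w hw i
    choose c hc using fun i => Ideal.Quotient.mk_surjective (w i)
    have h2 : I.toCotangent (∑ j, c j • gI j) = 0 := by
      rw [map_sum, ← hw]
      refine Finset.sum_congr rfl (fun j _ => ?_)
      rw [map_smul, ← hc j, hsmul]
    rw [Ideal.toCotangent_eq_zero] at h2
    have h3 : ((∑ j, c j • gI j : I) : R) = ∑ j, c j * g j := by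
      rw [AddSubmonoidClass.coe_finsetSum]
      rfl
    rw [h3] at h2
    have := coeff_mem_of_sum_mem_sq g hrel c h2 i
    rw [← hc i]
    exact Ideal.Quotient.eq_zero_iff_mem.2 this
  have hsp : ⊤ ≤ Submodule.span (R ⧸ I) (Set.range v) := by
    intro m _
    obtain ⟨x, rfl⟩ := Ideal.toCotangent_surjective I m
    obtain ⟨t, ht⟩ := (Ideal.mem_span_range_iff_exists_fun).1 x.2
    have hx : x = ∑ j, t j • gI j := by
      apply Subtype.ext
      rw [AddSubmonoidClass.coe_finsetSum, ← ht]
      rfl
    rw [hx, map_sum]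
    refine Submodule.sum_mem _ (fun j _ => ?_)
    rw [map_smul, ← hsmul]
    exact Submodule.smul_mem _ _ (Submodule.subset_span (Set.mem_range_self j))
  exact ⟨Module.Basis.mk hli hsp⟩

/-- a generating sequence of a proper ideal all of whose relations have coefficients in the
ideal has minimal length -/
theorem length_le_of_rel (f h : List R)
    (hrel : ∀ c : Fin f.length → R, ∑ i, c i * f.get i = 0 → ∀ i, c i ∈ Ideal.ofList f)
    (hne : Ideal.ofList f ≠ ⊤) (hh : Ideal.ofList h = Ideal.ofList f) :
    f.length ≤ h.length := by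
  have hIf : Ideal.ofList f = Ideal.span (Set.range f.get) := ofList_eq_span_range_get f
  obtain ⟨b⟩ := exists_basis_cotangent f.get (fun c hc i => hIf ▸ hrel c hc i)
  set I := Ideal.span (Set.range f.get) with hI
  have hne' : I ≠ ⊤ := hIf ▸ hne
  have : Nontrivial (R ⧸ I) := Ideal.Quotient.nontrivial_iff.2 hne'
  have hmem : ∀ j : Fin h.length, h.get j ∈ I := by
    intro j
    rw [← hIf, ← hh, ofList_eq_span_range_get h]
    exact Ideal.subset_span (Set.mem_range_self j)
  let v : Fin h.length → I.Cotangent := fun j => I.toCotangent ⟨h.get j, hmem j⟩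
  have hsmul : ∀ (c : R) (m : I.Cotangent), (Ideal.Quotient.mk I c) • m = c • m := fun c m =>
    algebraMap_smul (R ⧸ I) c m
  have hsp : Submodule.span (R ⧸ I) (Set.range v) = ⊤ := by
    rw [eq_top_iff]
    intro m _
    obtain ⟨x, rfl⟩ := Ideal.toCotangent_surjective I m
    have hx : (x : R) ∈ Ideal.span (Set.range h.get) := by
      rw [← ofList_eq_span_range_get h, hh, hIf]
      exact x.2
    obtain ⟨t, ht⟩ := (Ideal.mem_span_range_iff_exists_fun).1 hx
    have hx' : x = ∑ j, t j • (⟨h.get j, hmem j⟩ : I) := by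
      apply Subtype.ext
      rw [AddSubmonoidClass.coe_finsetSum, ← ht]
      rfl
    rw [hx', map_sum]
    refine Submodule.sum_mem _ (fun j _ => ?_)
    rw [map_smul, ← hsmul]
    exact Submodule.smul_mem _ _ (Submodule.subset_span (Set.mem_range_self j))
  have h2 : Module.finrank (R ⧸ I) I.Cotangent = f.length := by
    rw [Module.finrank_eq_card_basis b, Fintype.card_fin]
  have h3 := finrank_range_le_card (R := R ⧸ I) v
  unfold Set.finrank at h3
  rw [hsp, finrank_top, h2, Fintype.card_fin] at h3
  exact h3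

end Length

variable (S : SeqProp.{u})

theorem SeqProp.length_eq {R : Type u} [CommRing R] (f h : List R) (hf : S.Q R f) (hh' : S.Q R h)
    (hne : Ideal.ofList f ≠ ⊤) (hh : Ideal.ofList h = Ideal.ofList f) : f.length = h.length :=
  le_antisymm (length_le_of_rel f h (S.rel f hf) hne hh)
    (length_le_of_rel h f (S.rel h hh') (hh ▸ hne) hh.symm)

theorem SeqProp.ringEquiv {R R' : Type u} [CommRing R] [CommRing R'] (e : R ≃+* R') (l : List R)
    (hl : S.Q R l) : S.Q R' (l.map e) :=
  S.flat (e : R →+* R') (RingHom.Flat.of_bijective e.bijective) l hl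

variable {A B : Type u} [CommRing A] [CommRing B] [Algebra A B]

/-- push a generating `Q`-sequence from `B_g` to `B_Q`. -/
theorem atPrime_of_away (J : Ideal B) (g : B) (l : List (Localization.Away g))
    (hl : S.Q (Localization.Away g) l)
    (hspan : J.map (algebraMap B (Localization.Away g)) = Ideal.ofList l)
    (Q : Ideal B) [Q.IsPrime] (hg : g ∉ Q) :
    ∃ l' : List (Localization.AtPrime Q), S.Q (Localization.AtPrime Q) l' ∧
      l'.length = l.length ∧
      Ideal.ofList l' = J.map (algebraMap B (Localization.AtPrime Q)) := by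
  have hu : IsUnit (algebraMap B (Localization.AtPrime Q) g) :=
    IsLocalization.map_units _ (⟨g, hg⟩ : Q.primeCompl)
  have hflat := flat_lift g Q hg hu
  refine ⟨l.map (IsLocalization.Away.lift (S := Localization.Away g) g hu),
    S.flat _ hflat l hl, List.length_map _, ?_⟩
  have h3 : (IsLocalization.Away.lift (S := Localization.Away g) g hu).comp
      (algebraMap B (Localization.Away g)) = algebraMap B (Localization.AtPrime Q) :=
    IsLocalization.Away.lift_comp g hu
  have h1 : Ideal.ofList l = J.map (algebraMap B (Localization.Away g)) := hspan.symm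
  have h2 := (Ideal.map_ofList (IsLocalization.Away.lift (S := Localization.Away g) g hu) l).symm
  rw [h2, h1, Ideal.map_map, h3]

theorem fg_of_isIdeal (J : Ideal B) (h : S.IsIdeal J) : J.FG := by
  classical
  let t : Set B := {g | (J.map (algebraMap B (Localization.Away g))).FG}
  apply Ideal.fg_of_localizationSpan t ?_ (fun g => g.2)
  by_contra hne
  obtain ⟨Q, hQmax, hQ⟩ := Ideal.exists_le_maximal _ hne
  have := hQmax.isPrime
  by_cases hJQ : J ≤ Q
  · obtain ⟨g, hg, l, -, hspan⟩ := h ⟨Q, inferInstance⟩ hJQ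
    apply hg
    apply hQ
    apply Ideal.subset_span
    show (J.map _).FG
    rw [hspan]
    exact ⟨l.toFinset, by simp [Ideal.ofList]⟩
  · obtain ⟨g, hgJ, hgQ⟩ := Set.not_subset.1 hJQ
    apply hgQ
    apply hQ
    apply Ideal.subset_span
    show (J.map _).FG
    have : J.map (algebraMap B (Localization.Away g)) = ⊤ := by
      apply Ideal.eq_top_of_isUnit_mem _ (Ideal.mem_map_of_mem _ hgJ)
      exact IsLocalization.Away.algebraMap_isUnit g
    rw [this]
    exact ⟨{1}, by simp⟩

theorem isOpen_W (I : Ideal A)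
    (hB : S.IsIdeal (I.map (algebraMap A B)))
    {s : ℕ} (a : Fin s → A) (ha : ∀ i, a i ∈ I) (h0 : A)
    (hgen : ∀ x ∈ I, h0 * x ∈ Ideal.span (Set.range a)) :
    IsOpen {Q' : PrimeSpectrum B | algebraMap A B h0 ∉ Q'.asIdeal ∧
      S.Q (Localization.AtPrime Q'.asIdeal)
        (List.ofFn (algebraMap A (Localization.AtPrime Q'.asIdeal) ∘ a))} := by
  have hsp : ∀ (Q : Ideal B) [Q.IsPrime], algebraMap A B h0 ∉ Q →
      Ideal.ofList (List.ofFn (algebraMap A (Localization.AtPrime Q) ∘ a)) =
        (I.map (algebraMap A B)).map (algebraMap B (Localization.AtPrime Q)) := by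
    intro Q _ hQ
    rw [ofList_ofFn, Groth.Agent.S9252.span_eq_map_of_isUnit I a ha h0 hgen (Localization.AtPrime Q),
      Ideal.map_map, ← IsScalarTower.algebraMap_eq]
    rw [IsScalarTower.algebraMap_apply A B (Localization.AtPrime Q)]
    exact IsLocalization.map_units _ (⟨_, hQ⟩ : Q.primeCompl)
  rw [isOpen_iff_forall_mem_open]
  rintro Q' ⟨hh0, hkr⟩
  by_cases hJQ : I.map (algebraMap A B) ≤ Q'.asIdeal
  · obtain ⟨g, hg, l, hl, hspan⟩ := hB Q' hJQ
    obtain ⟨l', hl', hlen', hspan'⟩ := atPrime_of_away S _ g l hl hspan Q'.asIdeal hg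
    have hne : Ideal.ofList l' ≠ ⊤ := by
      rw [hspan']
      intro htop
      have h1 : (I.map (algebraMap A B)).map (algebraMap B (Localization.AtPrime Q'.asIdeal)) ≤
          IsLocalRing.maximalIdeal (Localization.AtPrime Q'.asIdeal) := by
        rw [← Localization.AtPrime.map_eq_maximalIdeal]
        exact Ideal.map_mono hJQ
      rw [htop] at h1
      exact (IsLocalRing.maximalIdeal.isMaximal _).ne_top (top_le_iff.1 h1)
    have hss : l.length = s := by
      rw [← hlen', S.length_eq l' _ hl' hkr hne (by rw [hsp _ hh0, hspan'])]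
      exact List.length_ofFn
    refine ⟨(PrimeSpectrum.basicOpen (g * algebraMap A B h0) : Set (PrimeSpectrum B)), ?_,
      (PrimeSpectrum.basicOpen _).2, ?_⟩
    · intro Q'' hQ''
      have hQ''2 : g * algebraMap A B h0 ∉ Q''.asIdeal := hQ''
      have hg'' : g ∉ Q''.asIdeal := fun h => hQ''2 (Ideal.mul_mem_right _ _ h)
      have hh'' : algebraMap A B h0 ∉ Q''.asIdeal := fun h => hQ''2 (Ideal.mul_mem_left _ _ h)
      refine ⟨hh'', ?_⟩
      obtain ⟨l'', hl'', hlen'', hspan''⟩ := atPrime_of_away S _ g l hl hspan Q''.asIdeal hg''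
      apply S.indep l'' _ hl''
      · rw [List.length_ofFn, hlen'', hss]
      · rw [hsp _ hh'', hspan'']
    · show g * algebraMap A B h0 ∉ Q'.asIdeal
      exact fun h => (Ideal.IsPrime.mem_or_mem Q'.2 h).elim hg hh0
  · obtain ⟨g, hgJ, hgQ⟩ := Set.not_subset.1 hJQ
    refine ⟨(PrimeSpectrum.basicOpen (g * algebraMap A B h0) : Set (PrimeSpectrum B)), ?_,
      (PrimeSpectrum.basicOpen _).2, ?_⟩
    · intro Q'' hQ''
      have hQ''2 : g * algebraMap A B h0 ∉ Q''.asIdeal := hQ''
      have hg'' : g ∉ Q''.asIdeal := fun h => hQ''2 (Ideal.mul_mem_right _ _ h)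
      have hh'' : algebraMap A B h0 ∉ Q''.asIdeal := fun h => hQ''2 (Ideal.mul_mem_left _ _ h)
      refine ⟨hh'', S.top _ ?_⟩
      rw [hsp _ hh'']
      apply Ideal.eq_top_of_isUnit_mem _ (Ideal.mem_map_of_mem _ hgJ)
      exact IsLocalization.map_units _ (⟨g, hg''⟩ : Q''.asIdeal.primeCompl)
    · show g * algebraMap A B h0 ∉ Q'.asIdeal
      exact fun h => (Ideal.IsPrime.mem_or_mem Q'.2 h).elim hgQ hh0

section
attribute [local instance] Localization.AtPrime.algebraOfLiesOver

theorem atPrime_iff [Module.Flat A B] {s : ℕ} (a : Fin s → A) (P' : Ideal A) [P'.IsPrime]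
    (Q' : Ideal B) [Q'.IsPrime] [Q'.LiesOver P'] :
    S.Q (Localization.AtPrime Q')
        (List.ofFn (algebraMap A (Localization.AtPrime Q') ∘ a)) ↔
      S.Q (Localization.AtPrime P')
        (List.ofFn (algebraMap A (Localization.AtPrime P') ∘ a)) := by
  have hff : Module.FaithfullyFlat (Localization.AtPrime P') (Localization.AtPrime Q') :=
    Module.FaithfullyFlat.of_flat_of_isLocalHom
  have hff' : (algebraMap (Localization.AtPrime P') (Localization.AtPrime Q')).FaithfullyFlat :=
    RingHom.faithfullyFlat_algebraMap_iff.2 hff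
  have hcomp := map_ofFn_algebraMap (A := A)
    (algebraMap (Localization.AtPrime P') (Localization.AtPrime Q'))
    (fun x => (IsScalarTower.algebraMap_apply A (Localization.AtPrime P')
      (Localization.AtPrime Q') x).symm) a
  rw [← hcomp]
  constructor
  · exact S.descent _ hff' _
  · exact S.flat _ hff'.flat _

end

theorem isOpen_U [Module.FaithfullyFlat A B] (I : Ideal A)
    (hB : S.IsIdeal (I.map (algebraMap A B)))
    {s : ℕ} (a : Fin s → A) (ha : ∀ i, a i ∈ I) (h0 : A)
    (hgen : ∀ x ∈ I, h0 * x ∈ Ideal.span (Set.range a)) :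
    IsOpen {P' : PrimeSpectrum A | h0 ∉ P'.asIdeal ∧
      S.Q (Localization.AtPrime P'.asIdeal)
        (List.ofFn (algebraMap A (Localization.AtPrime P'.asIdeal) ∘ a))} := by
  have hq : Topology.IsQuotientMap (PrimeSpectrum.comap (algebraMap A B)) :=
    PrimeSpectrum.isQuotientMap_of_generalizingMap
      PrimeSpectrum.comap_surjective_of_faithfullyFlat
      (RingHom.Flat.generalizingMap_comap (f := algebraMap A B)
        (by rw [RingHom.flat_algebraMap_iff]; infer_instance))
  rw [← hq.isOpen_preimage]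
  convert isOpen_W S (B := B) I hB a ha h0 hgen using 1
  ext Q'
  simp only [Set.mem_preimage, Set.mem_ofPred_eq]
  have : Q'.asIdeal.LiesOver (Q'.asIdeal.comap (algebraMap A B)) := ⟨rfl⟩
  exact and_congr Iff.rfl (atPrime_iff S a (Q'.asIdeal.comap (algebraMap A B)) Q'.asIdeal).symm

theorem away_of_forall {s : ℕ} (a : Fin s → A) (g : A)
    (h : ∀ (P' : Ideal A) [P'.IsPrime], g ∉ P' →
      S.Q (Localization.AtPrime P')
        (List.ofFn (algebraMap A (Localization.AtPrime P') ∘ a))) :
    S.Q (Localization.Away g)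
      (List.ofFn (algebraMap A (Localization.Away g) ∘ a)) := by
  apply S.loc
  intro mm hmm
  set T := Localization.Away g
  let P' : Ideal A := mm.comap (algebraMap A T)
  have : P'.IsPrime := Ideal.comap_isPrime _ _
  have hg : g ∉ P' := by
    intro hmem
    have hu : IsUnit (algebraMap A T g) := IsLocalization.Away.algebraMap_isUnit g
    exact (Ideal.IsPrime.ne_top inferInstance) (mm.eq_top_of_isUnit_mem hmem hu)
  have : IsLocalization.AtPrime (Localization.AtPrime mm) P' :=
    IsLocalization.isLocalization_isLocalization_atPrime_isLocalization (Submonoid.powers g)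
      (Localization.AtPrime mm) mm
  let e : Localization.AtPrime P' ≃ₐ[A] Localization.AtPrime mm :=
    IsLocalization.algEquiv P'.primeCompl _ _
  have h1 := S.ringEquiv e.toRingEquiv _ (h P' hg)
  have h2 := map_ofFn_algebraMap (A := A) (T := Localization.AtPrime P')
    (T' := Localization.AtPrime mm) (e.toRingEquiv : Localization.AtPrime P' →+* _)
    (fun x => e.commutes x) a
  have h3 := map_ofFn_algebraMap (A := A) (T := T)
    (T' := Localization.AtPrime mm) (algebraMap T (Localization.AtPrime mm))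
    (fun x => (IsScalarTower.algebraMap_apply A T (Localization.AtPrime mm) x).symm) a
  rw [h3, ← h2]
  exact h1

/-- **Descent along faithfully flat ring maps.** -/
theorem isIdeal_of_faithfullyFlat [Module.FaithfullyFlat A B] (I : Ideal A)
    (h : S.IsIdeal (Ideal.map (algebraMap A B) I)) : S.IsIdeal I := by
  classical
  rintro ⟨P, hPprime⟩ hIP
  have hIP : I ≤ P := hIP
  have hIfg : I.FG := Ideal.FG.of_FG_map_of_faithfullyFlat (fg_of_isIdeal S _ h)
  obtain ⟨m, b, hb⟩ : ∃ (m : ℕ) (b : Fin m → A), Ideal.span (Set.range b) = I := by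
    obtain ⟨t, ht⟩ := hIfg
    refine ⟨t.card, fun i => (t.equivFin.symm i : A), ?_⟩
    rw [← ht]
    congr 1
    ext x
    simp only [Set.mem_range, Finset.mem_coe]
    constructor
    · rintro ⟨i, rfl⟩; exact (t.equivFin.symm i).2
    · intro hx; exact ⟨t.equivFin ⟨x, hx⟩, by simp⟩
  obtain ⟨Q, hQprime, hQP⟩ := Ideal.exists_isPrime_liesOver_of_faithfullyFlat (B := B) P
  have hJQ : I.map (algebraMap A B) ≤ Q := by
    rw [Ideal.map_le_iff_le_comap]
    exact hIP.trans (le_of_eq (Ideal.LiesOver.over (p := P) (P := Q)))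
  obtain ⟨g0, hg0, l0, hl0, hl0span⟩ := h ⟨Q, hQprime⟩ hJQ
  obtain ⟨lQ, hlQ, -, hlQspan⟩ := atPrime_of_away S _ g0 l0 hl0 hl0span Q hg0
  set s := lQ.length with hs
  let γQ : Fin s → Localization.AtPrime Q := lQ.get
  have hγspan : Ideal.span (Set.range γQ) = Ideal.ofList lQ :=
    (ofList_eq_span_range_get lQ).symm
  have hbQ : Ideal.span (Set.range (algebraMap A (Localization.AtPrime Q) ∘ b)) =
      Ideal.span (Set.range γQ) := by
    rw [span_range_comp, hb, hγspan, hlQspan, Ideal.map_map, ← IsScalarTower.algebraMap_eq]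
  have hLmax : Ideal.span (Set.range γQ) ≤ IsLocalRing.maximalIdeal (Localization.AtPrime Q) := by
    rw [hγspan, hlQspan, ← Localization.AtPrime.map_eq_maximalIdeal]
    exact Ideal.map_mono hJQ
  have hrel : ∀ c : Fin s → Localization.AtPrime Q, ∑ k, c k * γQ k = 0 →
      ∀ k, c k ∈ Ideal.span (Set.range γQ) := by
    intro c hc k
    rw [hγspan]
    exact S.rel lQ hlQ c hc k
  obtain ⟨e, hespan⟩ := exists_sub_of_rel γQ hrel hLmax _ hbQ
  let a : Fin s → A := b ∘ e
  have ha : ∀ i, a i ∈ I := fun i => hb ▸ Ideal.subset_span ⟨e i, rfl⟩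
  have hΦ : S.Q (Localization.AtPrime Q)
      (List.ofFn (algebraMap A (Localization.AtPrime Q) ∘ a)) := by
    apply S.indep lQ _ hlQ
    · rw [List.length_ofFn]
    · rw [ofList_ofFn, ← hγspan]
      exact hespan
  have hΨ : S.Q (Localization.AtPrime P)
      (List.ofFn (algebraMap A (Localization.AtPrime P) ∘ a)) :=
    (atPrime_iff S a P Q).1 hΦ
  have hex : ∀ i, ∃ t : A, t ∉ P ∧ t * b i ∈ Ideal.span (Set.range a) := by
    intro i
    have h1 : algebraMap A (Localization.AtPrime Q) (b i) ∈
        (Ideal.span (Set.range a)).map (algebraMap A (Localization.AtPrime Q)) := by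
      rw [← span_range_comp]
      change _ ∈ Ideal.span (Set.range ((algebraMap A (Localization.AtPrime Q) ∘ b) ∘ e))
      rw [hespan, ← hbQ]
      exact Ideal.subset_span ⟨i, rfl⟩
    have h2 := Groth.Agent.S9252.mem_map_atPrime_of_mem_map _ P Q _ h1
    rw [IsLocalization.mem_map_algebraMap_iff P.primeCompl] at h2
    obtain ⟨⟨x, t⟩, hxt⟩ := h2
    rw [← map_mul] at hxt
    obtain ⟨c, hc⟩ := (IsLocalization.eq_iff_exists P.primeCompl _).1 hxt
    refine ⟨c * t, fun hmem => ?_, ?_⟩
    · exact (Submonoid.mul_mem _ c.2 t.2) hmem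
    · have : (c : A) * (t : A) * b i = c * (x : A) := by
        rw [mul_assoc, mul_comm (t : A), hc]
      rw [this]
      exact Ideal.mul_mem_left _ _ x.2
  choose t ht htb using hex
  let h0 : A := ∏ i, t i
  have hh0 : h0 ∉ P := by
    intro hmem
    obtain ⟨i, -, hi⟩ := (Ideal.IsPrime.prod_mem_iff).1 hmem
    exact ht i hi
  have hgen : ∀ x ∈ I, h0 * x ∈ Ideal.span (Set.range a) := by
    intro x hx
    rw [← hb] at hx
    obtain ⟨c, rfl⟩ := (Ideal.mem_span_range_iff_exists_fun).1 hx
    rw [Finset.mul_sum]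
    refine Ideal.sum_mem _ fun i _ => ?_
    have : h0 * (c i * b i) = (c i * ∏ j ∈ Finset.univ.erase i, t j) * (t i * b i) := by
      simp only [h0]
      rw [← Finset.mul_prod_erase Finset.univ t (Finset.mem_univ i)]
      ring
    rw [this]
    exact Ideal.mul_mem_left _ _ (htb i)
  have hU := isOpen_U S (B := B) I h a ha h0 hgen
  have hPU : (⟨P, hPprime⟩ : PrimeSpectrum A) ∈ {P' : PrimeSpectrum A | h0 ∉ P'.asIdeal ∧
      S.Q (Localization.AtPrime P'.asIdeal)
        (List.ofFn (algebraMap A (Localization.AtPrime P'.asIdeal) ∘ a))} := ⟨hh0, hΨ⟩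
  obtain ⟨_, ⟨h1, rfl⟩, hP1, hsub⟩ :=
    PrimeSpectrum.isTopologicalBasis_basic_opens.exists_subset_of_mem_open hPU hU
  have hh1 : h1 ∉ P := hP1
  refine ⟨h1 * h0, fun hmem => (Ideal.IsPrime.mem_or_mem hPprime hmem).elim hh1 hh0,
    List.ofFn (algebraMap A (Localization.Away (h1 * h0)) ∘ a), ?_, ?_⟩
  · apply away_of_forall S
    intro P' _ hP'
    have h1' : h1 ∉ P' := fun hm => hP' (Ideal.mul_mem_right _ _ hm)
    exact (hsub (show (⟨P', inferInstance⟩ : PrimeSpectrum A) ∈
      (PrimeSpectrum.basicOpen h1 : Set (PrimeSpectrum A)) from h1')).2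
  · rw [ofList_ofFn]
    symm
    apply Groth.Agent.S9252.span_eq_map_of_isUnit I a ha h0 hgen
    have hu : IsUnit (algebraMap A (Localization.Away (h1 * h0)) (h1 * h0)) :=
      IsLocalization.Away.algebraMap_isUnit _
    rw [map_mul] at hu
    exact isUnit_of_mul_isUnit_right hu

end Groth.Agent.Lib.Helper5.SeqDesc
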