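import Mathlib
import Groth.Prelude.Def_LCI2
import Groth.Prelude.Def_CAlgX
import Groth.Agent.Lib.Helper5.KosH1B
import Groth.Agent.Lib.Helper5.KosPermE
import Groth.Agent.Lib.Helper5.SeqDescA

/-!
# `H₁`-regular sequences as a `SeqProp`; faithfully flat descent of locally `H₁`-regular ideals
-/

set_option autoImplicit false
universe u

open CategoryTheory CategoryTheory.Limits CochainComplex HomComplex

namespace Groth.Agent.Lib.Helper5.KosH1

open Groth.Agent.Lib.Helper5.KosLow Groth.Agent.Lib.Helper5.KosBC

variable {R : Type u} [CommRing R]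

/-- **`H₁`-regularity is the vanishing of the first Koszul homology.** -/
theorem isH1Regular_iff_isZero (l : List R) :
    CAlgX.IsH1Regular l.get ↔ IsZero ((Koszul.koszul R l).homology (-1)) := by
  obtain ⟨e0, e1, hd, him⟩ := low2 l
  rw [← HomologicalComplex.exactAt_iff_isZero_homology,
    HomologicalComplex.exactAt_iff' _ (-2) (-1) 0 (by simp) (by simp),
    ShortComplex.ShortExact.moduleCat_exact_iff_function_exact, isH1Regular_iff]
  constructor
  · intro h v
    constructor
    · intro hv
      have h1 : ∑ i, e1 v i * l.get i = 0 := by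
        rw [← hd]
        change e0 (((Koszul.koszul R l).d (-1) 0).hom v) = 0
        have : ((Koszul.koszul R l).d (-1) 0).hom v = 0 := hv
        rw [this, map_zero]
      have h2 := h _ h1
      rw [← him] at h2
      obtain ⟨_, ⟨w, rfl⟩, hw⟩ := h2
      exact ⟨w, e1.injective hw⟩
    · rintro ⟨w, rfl⟩
      have := (Koszul.koszul R l).d_comp_d (-2) (-1) 0
      exact congrArg (fun g => g.hom w) this
  · intro h a ha
    have h1 : ((Koszul.koszul R l).d (-1) 0).hom (e1.symm a) = 0 := by
      apply e0.injective
      rw [hd, map_zero, LinearEquiv.apply_symm_apply]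
      exact ha
    obtain ⟨w, hw⟩ := (h (e1.symm a)).1 h1
    rw [← him]
    refine ⟨_, ⟨w, rfl⟩, ?_⟩
    change e1 (((Koszul.koszul R l).d (-2) (-1)).hom w) = a
    have hw' : ((Koszul.koszul R l).d (-2) (-1)).hom w = e1.symm a := hw
    rw [hw', LinearEquiv.apply_symm_apply]

/-- vanishing of the first Koszul homology, as an axiomatized property of sequences -/
noncomputable def h1Seq : Groth.Agent.Lib.Helper5.SeqDesc.SeqProp.{u} where
  Q R _ l := IsZero ((Koszul.koszul R l).homology (-1))
  flat φ hφ l hl := IsZero.of_iso ((E φ).map_isZero hl) (koszulHomologyIso φ hφ l (-1))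
  descent φ hφ l hl :=
    isZero_of_isZero_E φ hφ _ (IsZero.of_iso hl (koszulHomologyIso φ hφ.flat l (-1)).symm)
  top l h := Groth.Agent.Lib.Helper5.KosDesc.isKoszulRegularSeq_of_ofList_eq_top l h (-1)
    (by norm_num)
  loc {R'} _ l h := by
    apply Groth.Agent.Lib.Helper5.KosDesc.isZero_of_forall_maximal
    intro P _
    have hflat : (algebraMap R' (Localization.AtPrime P)).Flat := by
      rw [RingHom.flat_algebraMap_iff]
      exact IsLocalization.flat _ P.primeCompl
    exact IsZero.of_iso (h P) (koszulHomologyIso _ hflat l (-1)).symm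
  indep l a hl hlen hspan :=
    Groth.Agent.Lib.Helper5.KosPerm.isZero_homology_neg_one_of_length_eq l a hl hlen hspan
  rel l hl c hc i := coeff_mem_of_sum_eq_zero l hl c hc i

end Groth.Agent.Lib.Helper5.KosH1
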