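import Mathlib
import Groth.Prelude.Def_RegImm
import Groth.Agent.S1349
import Groth.Agent.Lib.Helper5.RegComp

set_option autoImplicit false
universe u

namespace Groth.Agent.Lib.Helper5.TransNbhd

open AlgebraicGeometry CategoryTheory Limits
open Groth.Agent.Lib.Helper21.FlatDesc Groth.Agent.Lib.Helper21.FibreStalk IsLocalRing
open RingTheory.Sequence
open scoped Pointwise

set_option maxHeartbeats 3200000 in
set_option synthInstance.maxHeartbeats 200000 in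
/-- chart form of the spreading-out of a fibrewise regular sequence of germs. -/
theorem slice_core {X S : Scheme.{u}} (f : X ⟶ S) [LocallyOfFinitePresentation f] (x : X)
    (hflat : (f.stalkMap x).hom.Flat) (hs : List ↑(X.presheaf.stalk x))
    (hsm : ∀ h ∈ hs, h ∈ maximalIdeal (X.presheaf.stalk x))
    (hreg : IsWeaklyRegular (X.presheaf.stalk x ⧸ fibIdeal f x)
      (hs.map (Ideal.Quotient.mk (fibIdeal f x))))
    (W₀ : X.Opens) (hxW₀ : x ∈ W₀) :
    ∃ (V : S.Opens) (hV : IsAffineOpen V) (U₀ : X.Opens) (hU₀ : IsAffineOpen U₀) (hxU₀ : x ∈ U₀)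
      (hU₀V : U₀ ≤ f ⁻¹ᵁ V) (_ : U₀ ≤ W₀) (bs : List Γ(X, U₀)) (g₀ : Γ(X, U₀)),
      bs.map (X.presheaf.germ U₀ x hxU₀) = hs ∧ x ∈ X.basicOpen g₀ ∧
      ∀ g' : Γ(X, U₀), g₀ ∣ g' →
        (letI := (f.appLE V (X.basicOpen g') ((X.basicOpen_le g').trans hU₀V)).hom.toAlgebra
         RegImm.IsTransRegularSeq Γ(S, V) Γ(X, X.basicOpen g')
           (bs.map (X.presheaf.map (homOfLE (X.basicOpen_le g')).op).hom)) := by
  classical
  let aO : Algebra (S.presheaf.stalk (f x)) (X.presheaf.stalk x) := (f.stalkMap x).hom.toAlgebra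
  obtain ⟨hwr, hfl⟩ := Groth.Agent.S1349.stalk_step_list f x hflat hs hsm hreg
  obtain ⟨_, ⟨V, hV : IsAffineOpen V, rfl⟩, hfxV, -⟩ :=
    S.isBasis_affineOpens.exists_subset_of_mem_open (Set.mem_univ (f x)) isOpen_univ
  obtain ⟨W, hxW, bs₀, hbs₀⟩ := Groth.Agent.S1349.exists_germs_list x hs
  obtain ⟨_, ⟨U₀, hU₀ : IsAffineOpen U₀, rfl⟩, hxU₀, hU₀le⟩ :=
    X.isBasis_affineOpens.exists_subset_of_mem_open
      (show x ∈ (((W ⊓ W₀) ⊓ f ⁻¹ᵁ V : X.Opens) : Set X) from ⟨⟨hxW, hxW₀⟩, hfxV⟩)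
      ((W ⊓ W₀) ⊓ f ⁻¹ᵁ V).isOpen
  have hU₀W : U₀ ≤ W := fun y hy => (hU₀le hy).1.1
  have hU₀W₀ : U₀ ≤ W₀ := fun y hy => (hU₀le hy).1.2
  have hU₀V : U₀ ≤ f ⁻¹ᵁ V := fun y hy => (hU₀le hy).2
  let bs : List Γ(X, U₀) := bs₀.map (fun b => X.presheaf.map (homOfLE hU₀W).op b)
  have hbs : bs.map (fun b => X.presheaf.germ U₀ x hxU₀ b) = hs := by
    rw [← hbs₀, List.map_map]
    apply List.map_congr_left
    intro b _
    exact TopCat.Presheaf.germ_res_apply X.presheaf (homOfLE hU₀W) x hxU₀ b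
  let aAB : Algebra Γ(S, V) Γ(X, U₀) := (f.appLE V U₀ hU₀V).hom.toAlgebra
  have : Algebra.FinitePresentation Γ(S, V) Γ(X, U₀) :=
    (HasRingHomProperty.appLE @LocallyOfFinitePresentation f inferInstance ⟨V, hV⟩ ⟨U₀, hU₀⟩ hU₀V :
      RingHom.FinitePresentation _)
  let q : Ideal Γ(X, U₀) := (hU₀.primeIdealOf ⟨x, hxU₀⟩).asIdeal
  let aBO : Algebra Γ(X, U₀) (X.presheaf.stalk x) := X.presheaf.algebra_section_stalk ⟨x, hxU₀⟩
  have locO : IsLocalization.AtPrime (X.presheaf.stalk x) q := hU₀.isLocalization_stalk ⟨x, hxU₀⟩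
  let aAA₀ : Algebra Γ(S, V) (S.presheaf.stalk (f x)) :=
    S.presheaf.algebra_section_stalk ⟨f x, hfxV⟩
  have locA₀ := hV.isLocalization_stalk ⟨f x, hfxV⟩
  let aAO : Algebra Γ(S, V) (X.presheaf.stalk x) :=
    ((algebraMap Γ(X, U₀) (X.presheaf.stalk x)).comp (algebraMap Γ(S, V) Γ(X, U₀))).toAlgebra
  have tw1 : IsScalarTower Γ(S, V) Γ(X, U₀) (X.presheaf.stalk x) :=
    IsScalarTower.of_algebraMap_eq fun a => rfl
  have tw2 : IsScalarTower Γ(S, V) (S.presheaf.stalk (f x)) (X.presheaf.stalk x) :=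
    IsScalarTower.of_algebraMap_eq fun a => by
      show X.presheaf.germ U₀ x hxU₀ (f.appLE V U₀ hU₀V a) =
        f.stalkMap x (S.presheaf.germ V (f x) hfxV a)
      rw [Scheme.Hom.germ_stalkMap_apply, Scheme.Hom.appLE]
      exact (TopCat.Presheaf.germ_res_apply X.presheaf (homOfLE hU₀V) x hxU₀ _)
  have : Module.Flat Γ(S, V) (S.presheaf.stalk (f x)) :=
    IsLocalization.flat _ (hV.primeIdealOf ⟨f x, hfxV⟩).asIdeal.primeCompl
  have hbs' : bs.map (algebraMap Γ(X, U₀) (X.presheaf.stalk x)) = hs := hbs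
  obtain ⟨g₀, hg₀, H⟩ := exists_away_weaklyRegular_flat_stalk Γ(S, V) Γ(X, U₀) q bs
    (X.presheaf.stalk x) (by rw [hbs']; exact hwr) (by
      intro i hi
      rw [hbs']
      have := hfl i (by rw [← hbs', List.length_map]; exact hi)
      exact Module.Flat.trans Γ(S, V) (S.presheaf.stalk (f x)) _)
  have hxU : x ∈ X.basicOpen g₀ := by
    rw [Scheme.mem_basicOpen _ _ _ hxU₀]
    exact (IsLocalization.AtPrime.isUnit_to_map_iff (X.presheaf.stalk x) q g₀).mpr hg₀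
  refine ⟨V, hV, U₀, hU₀, hxU₀, hU₀V, hU₀W₀, bs, g₀, hbs, hxU, fun g' hg' => ?_⟩
  have locB' : IsLocalization.Away g' Γ(X, X.basicOpen g') := hU₀.isLocalization_basicOpen g'
  let aAB' : Algebra Γ(S, V) Γ(X, X.basicOpen g') :=
    (f.appLE V (X.basicOpen g') ((X.basicOpen_le g').trans hU₀V)).hom.toAlgebra
  have tw3 : IsScalarTower Γ(S, V) Γ(X, U₀) Γ(X, X.basicOpen g') :=
    IsScalarTower.of_algebraMap_eq fun a => by
      show f.appLE V (X.basicOpen g') ((X.basicOpen_le g').trans hU₀V) a =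
        X.presheaf.map (homOfLE (X.basicOpen_le g')).op (f.appLE V U₀ hU₀V a)
      rw [← CommRingCat.comp_apply, Scheme.Hom.appLE_map]
  obtain ⟨hwr', hfl'⟩ := H g' hg' Γ(X, X.basicOpen g')
  refine ⟨hwr', fun j hj => hfl' j ?_⟩
  rw [List.length_map] at hj
  exact hj

end Groth.Agent.Lib.Helper5.TransNbhd
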