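import Mathlib
import Groth.Agent.Lib.Helper21.FlatDescA

set_option autoImplicit false
universe u

namespace Groth.Agent.Lib.Helper5.TransNbhd

open TensorProduct IsLocalRing

/-- an ideal with flat quotient which is generated modulo `m` by a subideal is equal to it. -/
theorem eq_of_le_sup_map_of_flat {A₀ O : Type u} [CommRing A₀] [CommRing O] [Algebra A₀ O]
    (m : Ideal A₀) (hm : m.map (algebraMap A₀ O) ≤ Ideal.jacobson ⊥) (I J : Ideal O)
    (hJI : J ≤ I) (hI : I.FG) [Module.Flat A₀ (O ⧸ I)]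
    (h : I ≤ J ⊔ m.map (algebraMap A₀ O)) : I = J := by
  refine le_antisymm ?_ hJI
  refine Submodule.le_of_le_smul_of_le_jacobson_bot (I := m.map (algebraMap A₀ O)) hI hm ?_
  intro x hx
  obtain ⟨j, hj, μ, hμ, rfl⟩ := Submodule.mem_sup.mp (h hx)
  refine Submodule.add_mem_sup hj ?_
  have hμI : μ ∈ I := by
    have := I.sub_mem hx (hJI hj)
    rwa [add_sub_cancel_left] at this
  -- `μ ∈ I ∩ mO`, so `μ ∈ m I`
  let IA : Submodule A₀ O := I.restrictScalars A₀
  have hinj : Function.Injective (IA.subtype.lTensor (A₀ ⧸ m)) :=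
    Groth.Agent.Lib.Helper21.FlatDesc.lTensor_injective_of_flat_coker IA.subtype
      ((Ideal.Quotient.mkₐ A₀ I).toLinearMap) IA.injective_subtype
      (by
        intro y
        constructor
        · intro hy
          exact ⟨⟨y, Ideal.Quotient.eq_zero_iff_mem.mp hy⟩, rfl⟩
        · rintro ⟨z, rfl⟩
          exact Ideal.Quotient.eq_zero_iff_mem.mpr z.2)
      (Ideal.Quotient.mkₐ_surjective A₀ I) (A₀ ⧸ m)
  have h0 : IA.subtype.lTensor (A₀ ⧸ m) ((1 : A₀ ⧸ m) ⊗ₜ[A₀] (⟨μ, hμI⟩ : IA)) = 0 := by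
    rw [LinearMap.lTensor_tmul, Groth.Agent.Lib.Helper21.FlatKit.one_tmul_eq_zero_iff]
    change μ ∈ m • (⊤ : Submodule A₀ O)
    have : (m • (⊤ : Submodule A₀ O)) = (m.map (algebraMap A₀ O)).restrictScalars A₀ :=
      Ideal.smul_top_eq_map m
    rw [this]
    exact hμ
  have h1 : (1 : A₀ ⧸ m) ⊗ₜ[A₀] (⟨μ, hμI⟩ : IA) = 0 := hinj (by rw [h0, map_zero])
  rw [Groth.Agent.Lib.Helper21.FlatKit.one_tmul_eq_zero_iff] at h1
  -- transfer to the ideal product
  have key : ∀ z : IA, z ∈ m • (⊤ : Submodule A₀ IA) →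
      (z : O) ∈ m.map (algebraMap A₀ O) • I := by
    intro z hz
    refine Submodule.smul_induction_on hz (fun a ha w _ => ?_) (fun a b ha hb => ?_)
    · change a • (w : O) ∈ _
      rw [← algebraMap_smul O a (w : O)]
      exact Submodule.smul_mem_smul (Ideal.mem_map_of_mem (algebraMap A₀ O) ha) w.2
    · exact Submodule.add_mem _ ha hb
  exact key _ h1

/-- one-sided spreading of an inclusion of extended ideals in a localization at a prime. -/
theorem exists_mul_mem_of_map_le {B O : Type u} [CommRing B] [CommRing O] [Algebra B O]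
    (q : Ideal B) [q.IsPrime] [IsLocalization.AtPrime O q] (J₁ J₂ : Ideal B) (h₁ : J₁.FG)
    (h : J₁.map (algebraMap B O) ≤ J₂.map (algebraMap B O)) :
    ∃ s : B, s ∉ q ∧ ∀ a ∈ J₁, s * a ∈ J₂ := by
  classical
  obtain ⟨G, rfl⟩ := h₁
  have hG : ∀ a ∈ G, ∃ t : B, t ∉ q ∧ t * a ∈ J₂ := by
    intro a ha
    have h1 : algebraMap B O a ∈ J₂.map (algebraMap B O) :=
      h (Ideal.mem_map_of_mem _ (Ideal.subset_span ha))
    rw [IsLocalization.mem_map_algebraMap_iff q.primeCompl] at h1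
    obtain ⟨⟨b, t⟩, hbt⟩ := h1
    rw [← map_mul, IsLocalization.eq_iff_exists q.primeCompl] at hbt
    obtain ⟨u, hu⟩ := hbt
    refine ⟨u * t, fun hq => ?_, ?_⟩
    · rcases Ideal.IsPrime.mem_or_mem ‹q.IsPrime› hq with h | h
      exacts [u.2 h, t.2 h]
    · have : (u : B) * (t : B) * a = u * (a * t) := by ring
      rw [this, hu]
      exact J₂.mul_mem_left _ b.2
  choose! t ht1 ht2 using hG
  refine ⟨∏ a ∈ G, t a, fun hq => ?_, ?_⟩
  · obtain ⟨a, ha, hta⟩ := (Ideal.IsPrime.prod_mem_iff).mp hq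
    exact ht1 a ha hta
  · intro a ha
    refine Submodule.span_induction (fun g hg => ?_) ?_ (fun x y _ _ hx hy => ?_)
      (fun c x _ hx => ?_) ha
    · obtain ⟨c, hc⟩ := Finset.dvd_prod_of_mem t hg
      rw [hc, mul_comm (t g) c, mul_assoc]
      exact J₂.mul_mem_left _ (ht2 g hg)
    · rw [mul_zero]; exact J₂.zero_mem
    · rw [mul_add]; exact J₂.add_mem hx hy
    · rw [smul_eq_mul, mul_left_comm]; exact J₂.mul_mem_left _ hx

theorem map_le_map_of_mul_mem {B B' : Type u} [CommRing B] [CommRing B'] [Algebra B B']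
    (J₁ J₂ : Ideal B) (s : B) (hs : IsUnit (algebraMap B B' s)) (h : ∀ a ∈ J₁, s * a ∈ J₂) :
    J₁.map (algebraMap B B') ≤ J₂.map (algebraMap B B') := by
  rw [Ideal.map_le_iff_le_comap]
  intro a ha
  rw [Ideal.mem_comap]
  have h1 : algebraMap B B' (s * a) ∈ J₂.map (algebraMap B B') :=
    Ideal.mem_map_of_mem _ (h a ha)
  rw [map_mul] at h1
  exact (Ideal.unit_mul_mem_iff_mem _ hs).mp h1

/-- two finitely generated ideals with the same extension to a localization at a prime have the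
same extension to a principal localization. -/
theorem exists_map_eq_of_map_eq {B O : Type u} [CommRing B] [CommRing O] [Algebra B O]
    (q : Ideal B) [q.IsPrime] [IsLocalization.AtPrime O q] (J₁ J₂ : Ideal B) (h₁ : J₁.FG)
    (h₂ : J₂.FG) (h : J₁.map (algebraMap B O) = J₂.map (algebraMap B O)) :
    ∃ s : B, s ∉ q ∧ ∀ (B' : Type u) [CommRing B'] [Algebra B B'],
      IsUnit (algebraMap B B' s) → J₁.map (algebraMap B B') = J₂.map (algebraMap B B') := by
  obtain ⟨s₁, hs₁, H₁⟩ := exists_mul_mem_of_map_le (O := O) q J₁ J₂ h₁ h.le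
  obtain ⟨s₂, hs₂, H₂⟩ := exists_mul_mem_of_map_le (O := O) q J₂ J₁ h₂ h.ge
  refine ⟨s₁ * s₂, fun hq => ?_, fun B' _ _ hu => ?_⟩
  · rcases Ideal.IsPrime.mem_or_mem ‹q.IsPrime› hq with h | h
    exacts [hs₁ h, hs₂ h]
  · rw [map_mul] at hu
    exact le_antisymm
      (map_le_map_of_mul_mem J₁ J₂ s₁ (isUnit_of_mul_isUnit_left hu) H₁)
      (map_le_map_of_mul_mem J₂ J₁ s₂ (isUnit_of_mul_isUnit_right hu) H₂)

end Groth.Agent.Lib.Helper5.TransNbhd
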