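import Mathlib
import Groth.Prelude.Def_RegImm
import Groth.Agent.Lib.Helper5.TransNbhdB
import Groth.Agent.Lib.Helper5.TransNbhdH
import Groth.Agent.Lib.Helper5.TransNbhdI
import Groth.Agent.Lib.Helper5.StalkKer

set_option autoImplicit false
universe u

namespace Groth.Agent.Lib.Helper5.TransNbhd

open AlgebraicGeometry CategoryTheory Limits
open Groth.Agent.Lib.Helper21.FlatDesc Groth.Agent.Lib.Helper21.FibreStalk IsLocalRing
open Groth.Agent.Lib.Helper5.RegImmA
open RingTheory.Sequence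
open scoped Pointwise

set_option maxHeartbeats 3200000 in
set_option synthInstance.maxHeartbeats 200000 in
/-- a closed subscheme, flat over the base at `y`, whose ideal at `f y` is generated modulo the
fibre ideal by germs which form a regular sequence on the fibre, is cut out near `f y` by a
transversally regular sequence. -/
theorem core0 {X Y S : Scheme.{u}} (g : X ⟶ S) [LocallyOfFinitePresentation g] (f : Y ⟶ X)
    [IsClosedImmersion f] [LocallyOfFinitePresentation (f ≫ g)] (y : Y)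
    (hflatX : (g.stalkMap (f y)).hom.Flat) (hflatY : ((f ≫ g).stalkMap y).hom.Flat)
    (hs : List (X.presheaf.stalk (f y)))
    (hsI : ∀ h ∈ hs, h ∈ RingHom.ker (f.stalkMap y).hom)
    (hgen : RingHom.ker (f.stalkMap y).hom ≤ Ideal.ofList hs ⊔ fibIdeal g (f y))
    (hreg : IsWeaklyRegular (X.presheaf.stalk (f y) ⧸ fibIdeal g (f y))
      (hs.map (Ideal.Quotient.mk (fibIdeal g (f y))))) :
    ∃ (U : X.Opens) (hU : IsAffineOpen U) (_ : f y ∈ U) (V : S.Opens) (_ : IsAffineOpen V)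
      (hUV : U ≤ g ⁻¹ᵁ V) (rs : List Γ(X, U)),
      (letI := (g.appLE V U hUV).hom.toAlgebra
       RegImm.IsTransRegularSeq Γ(S, V) Γ(X, U) rs) ∧ IsRegular Γ(X, U) rs ∧
      RingHom.ker (f.app U).hom = Ideal.ofList rs := by
  classical
  have hnt : Nontrivial (Y.presheaf.stalk y) := inferInstance
  have hIle : RingHom.ker (f.stalkMap y).hom ≤ maximalIdeal (X.presheaf.stalk (f y)) := by
    apply le_maximalIdeal
    exact RingHom.ker_ne_top _
  have hsm : ∀ h ∈ hs, h ∈ maximalIdeal (X.presheaf.stalk (f y)) := fun h hh => hIle (hsI h hh)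
  obtain ⟨V, hV, U₀, hU₀, hxU₀, hU₀V, -, bs, g₀, hgerms, hxg₀, H⟩ :=
    slice_core g (f y) hflatX hs hsm hreg ⊤ trivial
  -- the ideal of `Y` on `U₀`
  have hYaff : IsAffineOpen (f ⁻¹ᵁ U₀) := hU₀.preimage f
  have hYle : f ⁻¹ᵁ U₀ ≤ (f ≫ g) ⁻¹ᵁ V := fun z hz => hU₀V hz
  let aAB : Algebra Γ(S, V) Γ(X, U₀) := (g.appLE V U₀ hU₀V).hom.toAlgebra
  let aAC : Algebra Γ(S, V) Γ(Y, f ⁻¹ᵁ U₀) := ((f.app U₀).hom.comp (g.appLE V U₀ hU₀V).hom).toAlgebra
  have : Algebra.FinitePresentation Γ(S, V) Γ(X, U₀) :=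
    (HasRingHomProperty.appLE @LocallyOfFinitePresentation g inferInstance ⟨V, hV⟩ ⟨U₀, hU₀⟩ hU₀V :
      RingHom.FinitePresentation _)
  have : Algebra.FinitePresentation Γ(S, V) Γ(Y, f ⁻¹ᵁ U₀) := by
    have h1 : RingHom.FinitePresentation ((f ≫ g).appLE V (f ⁻¹ᵁ U₀) hYle).hom :=
      HasRingHomProperty.appLE @LocallyOfFinitePresentation (f ≫ g) inferInstance ⟨V, hV⟩
        ⟨f ⁻¹ᵁ U₀, hYaff⟩ hYle
    have h2 : (f ≫ g).appLE V (f ⁻¹ᵁ U₀) hYle = g.appLE V U₀ hU₀V ≫ f.app U₀ := by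
      rw [Scheme.Hom.app_eq_appLE, Scheme.Hom.appLE_comp_appLE]
    rw [h2] at h1
    exact h1
  let ψ : Γ(X, U₀) →ₐ[Γ(S, V)] Γ(Y, f ⁻¹ᵁ U₀) :=
    { (f.app U₀).hom with commutes' := fun a => rfl }
  have hsurj : Function.Surjective ψ := app_surjective_of_restrict f hU₀
  have hJ₂fg : (RingHom.ker (f.app U₀).hom).FG :=
    Algebra.FinitePresentation.ker_fG_of_surjective ψ hsurj
  -- the stalk ideal
  have hIeq : RingHom.ker (f.stalkMap y).hom =
      (RingHom.ker (f.app U₀).hom).map (X.presheaf.germ U₀ (f y) hxU₀).hom :=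
    Groth.Agent.Lib.Helper5.StalkKer.ker_stalkMap_eq_map f hU₀ y hxU₀
  have hIfg : (RingHom.ker (f.stalkMap y).hom).FG := by
    rw [hIeq]
    exact hJ₂fg.map _
  -- flatness of `O/I` over the local ring of the base
  let aO : Algebra (S.presheaf.stalk (g (f y))) (X.presheaf.stalk (f y)) :=
    (g.stalkMap (f y)).hom.toAlgebra
  let aOY : Algebra (S.presheaf.stalk (g (f y))) (Y.presheaf.stalk y) :=
    ((f.stalkMap y).hom.comp (g.stalkMap (f y)).hom).toAlgebra
  have hflY' : Module.Flat (S.presheaf.stalk (g (f y))) (Y.presheaf.stalk y) := by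
    have h1 : ((f ≫ g).stalkMap y).hom = (f.stalkMap y).hom.comp (g.stalkMap (f y)).hom := by
      rw [Scheme.Hom.stalkMap_comp]; rfl
    rw [h1] at hflatY
    exact hflatY
  let φ : X.presheaf.stalk (f y) →ₐ[S.presheaf.stalk (g (f y))] Y.presheaf.stalk y :=
    { (f.stalkMap y).hom with commutes' := fun a => rfl }
  have hφsurj : Function.Surjective φ := f.stalkMap_surjective y
  have hflQ : Module.Flat (S.presheaf.stalk (g (f y)))
      (X.presheaf.stalk (f y) ⧸ RingHom.ker (f.stalkMap y).hom) :=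
    Module.Flat.of_linearEquiv (Ideal.quotientKerAlgEquivOfSurjective hφsurj).toLinearEquiv
  have hJI : Ideal.ofList hs ≤ RingHom.ker (f.stalkMap y).hom := Ideal.span_le.mpr hsI
  have hI : RingHom.ker (f.stalkMap y).hom = Ideal.ofList hs :=
    eq_of_le_sup_map_of_flat (maximalIdeal (S.presheaf.stalk (g (f y))))
      (by
        rw [IsLocalRing.jacobson_eq_maximalIdeal ⊥ bot_ne_top]
        exact fibIdeal_le_maximalIdeal g (f y))
      _ _ hJI hIfg hgen
  -- spreading the equality of ideals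
  let q : Ideal Γ(X, U₀) := (hU₀.primeIdealOf ⟨f y, hxU₀⟩).asIdeal
  let aBO : Algebra Γ(X, U₀) (X.presheaf.stalk (f y)) :=
    X.presheaf.algebra_section_stalk ⟨f y, hxU₀⟩
  have locO : IsLocalization.AtPrime (X.presheaf.stalk (f y)) q :=
    hU₀.isLocalization_stalk ⟨f y, hxU₀⟩
  have hmapeq : (Ideal.ofList bs).map (algebraMap Γ(X, U₀) (X.presheaf.stalk (f y))) =
      (RingHom.ker (f.app U₀).hom).map (algebraMap Γ(X, U₀) (X.presheaf.stalk (f y))) := by
    rw [Ideal.map_ofList]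
    have h1 : bs.map (algebraMap Γ(X, U₀) (X.presheaf.stalk (f y))) = hs := hgerms
    rw [h1, ← hI, hIeq]
    rfl
  obtain ⟨s, hsq, Hs⟩ := exists_map_eq_of_map_eq (O := X.presheaf.stalk (f y)) q
    (Ideal.ofList bs) (RingHom.ker (f.app U₀).hom)
    (Submodule.fg_span (List.finite_toSet bs)) hJ₂fg hmapeq
  -- the final chart
  have hg₀q : g₀ ∉ q := by
    intro hq
    rw [Scheme.mem_basicOpen _ _ _ hxU₀] at hxg₀
    exact ((IsLocalization.AtPrime.isUnit_to_map_iff (X.presheaf.stalk (f y)) q g₀).mp hxg₀) hq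
  have hg'q : g₀ * s ∈ q.primeCompl := mul_mem (show g₀ ∈ q.primeCompl from hg₀q) hsq
  have hU : IsAffineOpen (X.basicOpen (g₀ * s)) := hU₀.basicOpen _
  have hxU : f y ∈ X.basicOpen (g₀ * s) := by
    rw [Scheme.mem_basicOpen _ _ _ hxU₀]
    exact (IsLocalization.AtPrime.isUnit_to_map_iff (X.presheaf.stalk (f y)) q _).mpr hg'q
  have locB' : IsLocalization.Away (g₀ * s) Γ(X, X.basicOpen (g₀ * s)) :=
    hU₀.isLocalization_basicOpen _
  have htr := H (g₀ * s) (dvd_mul_right g₀ s)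
  have hc2 : IsClosedImmersion (f ∣_ X.basicOpen (g₀ * s)) := inferInstance
  have hker : RingHom.ker (f.app (X.basicOpen (g₀ * s))).hom =
      Ideal.ofList (bs.map (X.presheaf.map (homOfLE (X.basicOpen_le (g₀ * s))).op).hom) := by
    rw [← ker_map_res f hU₀ hU (X.basicOpen_le (g₀ * s)), ← Ideal.map_ofList]
    have hu : IsUnit (algebraMap Γ(X, U₀) Γ(X, X.basicOpen (g₀ * s)) s) := by
      have h1 : IsUnit (algebraMap Γ(X, U₀) Γ(X, X.basicOpen (g₀ * s)) (g₀ * s)) :=
        IsLocalization.Away.algebraMap_isUnit _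
      rw [map_mul] at h1
      exact isUnit_of_mul_isUnit_right h1
    exact (Hs Γ(X, X.basicOpen (g₀ * s)) hu).symm
  refine ⟨X.basicOpen (g₀ * s), hU, hxU, V, hV, (X.basicOpen_le _).trans hU₀V, _, htr, ?_, hker⟩
  refine Groth.Agent.Lib.Helper5.RegComp.isRegular_of_weaklyRegular_of_ne_top htr.1 ?_
  rw [← hker]
  intro htop
  have h1 : (1 : Γ(X, X.basicOpen (g₀ * s))) ∈ RingHom.ker (f.app (X.basicOpen (g₀ * s))).hom :=
    htop ▸ Submodule.mem_top
  have h2 := mem_primeIdealOf_of_mem_ker f y hU hxU h1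
  exact (hU.primeIdealOf ⟨f y, hxU⟩).isPrime.ne_top ((Ideal.eq_top_iff_one _).mpr h2)

end Groth.Agent.Lib.Helper5.TransNbhd
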