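import Mathlib
import Groth.Agent.Lib.Helper21.DepthKit4
import Groth.Agent.S10834

/-!
# Helper5 — CIFieldA

Local algebra for complete intersections: regular sequences have no repetitions, and in a
Cohen-Macaulay local ring a list in the maximal ideal cutting the dimension by its length is a
regular sequence.
-/

set_option autoImplicit false
universe u

namespace Groth.Agent.Lib.Helper5.CIField

open RingTheory.Sequence IsLocalRing Module

theorem nodup_of_isRegular {R : Type*} [CommRing R] (rs : List R) (h : IsRegular R rs) :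
    rs.Nodup := by
  rw [List.nodup_iff_injective_get]
  intro i j hij
  by_contra hne
  wlog hlt : i < j generalizing i j
  · exact this hij.symm (Ne.symm hne) (lt_of_le_of_ne (not_lt.1 hlt) (Ne.symm hne))
  have hreg := h.regular_mod_prev j.1 j.2
  have hmem : rs[j.1] ∈ Ideal.ofList (rs.take j.1) := by
    have h1 : rs[j.1] = rs[i.1] := by
      have := hij
      simp only [List.get_eq_getElem] at this
      exact this.symm
    rw [h1]
    apply Ideal.subset_span
    change rs[i.1] ∈ rs.take j.1
    rw [List.mem_take_iff_getElem]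
    exact ⟨i.1, by simp [hlt, i.2.le], rfl⟩
  have h0 : rs[j.1] • (Submodule.Quotient.mk (1 : R) :
      R ⧸ (Ideal.ofList (rs.take j.1) • ⊤ : Submodule R R)) = rs[j.1] • 0 := by
    rw [smul_zero, ← Submodule.Quotient.mk_smul, Submodule.Quotient.mk_eq_zero, smul_eq_mul,
      Ideal.mul_top, smul_eq_mul, mul_one]
    exact hmem
  have h1 := hreg h0
  rw [Submodule.Quotient.mk_eq_zero, smul_eq_mul, Ideal.mul_top] at h1
  apply h.top_ne_smul
  rw [smul_eq_mul, Ideal.mul_top, eq_comm, Ideal.eq_top_iff_one]
  have hle : Ideal.ofList (rs.take j.1) ≤ Ideal.ofList rs := by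
    apply Ideal.span_mono
    intro x hx
    exact List.mem_of_mem_take hx
  exact hle h1

variable {R : Type u} [CommRing R] [IsLocalRing R] [IsNoetherianRing R]

theorem isRegular_of_dim_drop (hCM : LocCoh.IsCohenMacaulayModule R R) (xs : List R)
    (hmem : ∀ r ∈ xs, r ∈ maximalIdeal R)
    (hdim : ringKrullDim (R ⧸ Ideal.ofList xs) + xs.length = ringKrullDim R) :
    IsRegular R xs := by
  refine ⟨Groth.Agent.Lib.Helper21.DepthKit.isWeaklyRegular_of_supportDim_drop xs R hCM hmem ?_, ?_⟩
  · have eq : Ideal.ofList xs = Ideal.ofList xs • (⊤ : Ideal R) := by simp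
    rw [supportDim_self_eq_ringKrullDim, ← hdim,
      ringKrullDim_eq_of_ringEquiv (Ideal.quotientEquivAlgOfEq R eq).toRingEquiv,
      ← supportDim_quotient_eq_ringKrullDim]
  · rw [smul_eq_mul, Ideal.mul_top]
    intro htop
    have h1 : Ideal.ofList xs ≤ maximalIdeal R := by
      unfold Ideal.ofList
      rw [Ideal.span_le]
      exact fun x hx => hmem x hx
    rw [← htop] at h1
    exact (IsLocalRing.maximalIdeal.isMaximal R).ne_top (top_le_iff.1 h1)

theorem length_of_isRegular (rs : List R) (h : IsRegular R rs) (a b : ℕ)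
    (ha : ringKrullDim (R ⧸ Ideal.ofList rs) = (a : WithBot ℕ∞))
    (hb : ringKrullDim R = (b : WithBot ℕ∞)) : a + rs.length = b := by
  have h1 := ringKrullDim_add_length_eq_ringKrullDim_of_isRegular rs h
  rw [ha, hb] at h1
  exact_mod_cast h1

end Groth.Agent.Lib.Helper5.CIField
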