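import Mathlib
import Groth.Agent.Lib.Helper21.DepthKit4
import Groth.Agent.Lib.Helper7.AffineDimFormula
import Groth.Agent.Lib.helper11.RegularCounting
import Groth.Agent.S10834
import Groth.Agent.Lib.Helper7.LocQuotDim

/-!
# Helper5 — GCIReg

Over a field `K`, a list `xs` of `c` polynomials in `N` variables with `dim K[X]/(xs) ≤ N - c` is a
weakly regular sequence in the localization at every prime containing it.
-/

set_option autoImplicit false
universe u

namespace Groth.Agent.Lib.Helper5.GCIReg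

open RingTheory.Sequence IsLocalRing Module Groth.Agent.Lib.Helper21.DepthKit

theorem nat_of_add_eq {x : ℕ∞} {y : WithBot ℕ∞} {N : ℕ}
    (h : (x : WithBot ℕ∞) + y = (N : WithBot ℕ∞)) :
    ∃ a b : ℕ, x = a ∧ y = (b : WithBot ℕ∞) ∧ a + b = N := by
  induction y using WithBot.recBotCoe with
  | bot => rw [WithBot.add_bot] at h; exact absurd h (by simp)
  | coe y =>
    have h1 : x + y = (N : ℕ∞) := by
      have : ((x + y : ℕ∞) : WithBot ℕ∞) = ((N : ℕ∞) : WithBot ℕ∞) := by
        rw [WithBot.coe_add]; exact h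
      exact WithBot.coe_injective this
    have hx : x ≠ ⊤ := by
      intro hx; rw [hx, top_add] at h1; exact absurd h1 (by simp)
    have hy : y ≠ ⊤ := by
      intro hy; rw [hy, add_top] at h1; exact absurd h1 (by simp)
    obtain ⟨a, rfl⟩ := ENat.ne_top_iff_exists.1 hx
    obtain ⟨b, rfl⟩ := ENat.ne_top_iff_exists.1 hy
    refine ⟨a, b, rfl, rfl, ?_⟩
    exact_mod_cast h1

variable (K : Type u) [Field K] (N : ℕ)

local notation "T" => MvPolynomial (Fin N) K

theorem isWeaklyRegular_of_isLocalization (xs : List (MvPolynomial (Fin N) K))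
    (hlen : xs.length ≤ N)
    (hdim : ringKrullDim (MvPolynomial (Fin N) K ⧸ Ideal.ofList xs) ≤
      ((N - xs.length : ℕ) : WithBot ℕ∞))
    (Q : Ideal (MvPolynomial (Fin N) K)) [hQp : Q.IsPrime] (hQ : Ideal.ofList xs ≤ Q)
    (R : Type u) [CommRing R] [Algebra (MvPolynomial (Fin N) K) R] [IsLocalization.AtPrime R Q] :
    IsWeaklyRegular R (xs.map (algebraMap (MvPolynomial (Fin N) K) R)) := by
  have hloc : IsLocalRing R := IsLocalization.AtPrime.isLocalRing R Q
  have hnoe : IsNoetherianRing R := IsLocalization.isNoetherianRing Q.primeCompl R inferInstance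
  have hreg : IsRegularLocalRing R :=
    IsRegularLocalRing.of_ringEquiv
      (IsLocalization.algEquiv Q.primeCompl (Localization.AtPrime Q) R).toRingEquiv
  have hCM : LocCoh.IsCohenMacaulayModule R R := Groth.Agent.S10834.isCM_of_isRegularLocalRing R
  obtain ⟨J, hJ⟩ : ∃ J : Ideal (MvPolynomial (Fin N) K), J = Ideal.ofList xs := ⟨_, rfl⟩
  rw [← hJ] at hQ hdim
  have hmem : ∀ r ∈ xs.map (algebraMap T R), r ∈ maximalIdeal R := by
    intro r hr
    obtain ⟨x, hx, rfl⟩ := List.mem_map.1 hr
    rw [IsLocalization.AtPrime.to_map_mem_maximal_iff R Q]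
    exact hQ (hJ ▸ Ideal.subset_span hx)
  refine isWeaklyRegular_of_supportDim_drop _ R hCM hmem ?_
  apply le_antisymm
  · -- dimension count
    have hJ' : (Ideal.ofList (xs.map (algebraMap T R)) • ⊤ : Submodule R R) =
        J.map (algebraMap T R) := by
      rw [smul_eq_mul, Ideal.mul_top, hJ, Ideal.map_ofList]
    rw [hJ', Module.supportDim_quotient_eq_ringKrullDim, Module.supportDim_self_eq_ringKrullDim,
      List.length_map]
    have hQ' : (Q.map (Ideal.Quotient.mk J)).IsPrime :=
      Ideal.map_isPrime_of_surjective Ideal.Quotient.mk_surjective (by rw [Ideal.mk_ker]; exact hQ)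
    have hloc' : IsLocalization.AtPrime (R ⧸ J.map (algebraMap T R)) (Q.map (Ideal.Quotient.mk J)) := by
      unfold IsLocalization.AtPrime
      rw [← Groth.Agent.Lib.Helper7.LocQuotDim.algebraMapSubmonoid_primeCompl T Q J hQ]
      infer_instance
    have h1 := IsLocalization.AtPrime.ringKrullDim_eq_height (Q.map (Ideal.Quotient.mk J))
      (R ⧸ J.map (algebraMap T R))
    have h2 := IsLocalization.AtPrime.ringKrullDim_eq_height Q R
    have h3 := Groth.Agent.Lib.helper11.RegularCounting.height_add_ringKrullDim_quotient_le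
      (Q.map (Ideal.Quotient.mk J))
    have h4 : ringKrullDim ((T ⧸ J) ⧸ Q.map (Ideal.Quotient.mk J)) = ringKrullDim (T ⧸ Q) :=
      ringKrullDim_eq_of_ringEquiv (DoubleQuot.quotQuotEquivQuotOfLE hQ)
    have h5 := Groth.Agent.Lib.Helper7.AffDim.mvPolynomial_height_add K N Q
    obtain ⟨a, b, ha, hb, hab⟩ := nat_of_add_eq h5
    rw [h1, h2, ha]
    rw [h4, hb] at h3
    have h6 : ((Q.map (Ideal.Quotient.mk J)).height : WithBot ℕ∞) + (b : WithBot ℕ∞) ≤
        ((N - xs.length : ℕ) : WithBot ℕ∞) := h3.trans hdim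
    have hfin : (Q.map (Ideal.Quotient.mk J)).height ≠ ⊤ := by
      intro htop
      rw [htop] at h6
      have : ((⊤ : ℕ∞) : WithBot ℕ∞) + (b : WithBot ℕ∞) = ((⊤ : ℕ∞) : WithBot ℕ∞) := by
        rw [← WithBot.coe_natCast, ← WithBot.coe_add, top_add]
      rw [this] at h6
      have h7 : ((⊤ : ℕ∞) : WithBot ℕ∞) ≤ (((N - xs.length : ℕ) : ℕ∞) : WithBot ℕ∞) := h6
      rw [WithBot.coe_le_coe] at h7
      exact absurd h7 (by simp)
    obtain ⟨d, hd⟩ := ENat.ne_top_iff_exists.1 hfin
    rw [← hd] at h6 ⊢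
    have h8 : d + b ≤ N - xs.length := by
      have : ((d + b : ℕ) : WithBot ℕ∞) ≤ ((N - xs.length : ℕ) : WithBot ℕ∞) := by
        push_cast; exact h6
      exact_mod_cast this
    have : d + xs.length ≤ a := by omega
    exact_mod_cast this
  · exact supportDim_le_quot_ofList_add_length _ R hmem

end Groth.Agent.Lib.Helper5.GCIReg
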