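import Mathlib
import Groth.Agent.Lib.Helper5.LciE

/-!
# Koszul-regular ideals: flat base change, ideals of Koszul-regular sequences, ring isomorphisms
-/

set_option autoImplicit false
universe u

namespace Groth.Agent.Lib.Helper5.Lci

open Groth.Agent.Lib.Helper5.KosDesc

variable {T T' : Type u} [CommRing T] [CommRing T']

theorem isKoszulRegularIdeal_ofList (l : List T) (h : LCI.IsKoszulRegularSeq T l) :
    LCI.IsKoszulRegularIdeal (Ideal.ofList l) := by
  apply isKoszulRegularIdeal_of_local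
  intro q _ _
  refine ⟨1, fun h1 => (Ideal.IsPrime.ne_top inferInstance) ((Ideal.eq_top_iff_one q).2 h1), l, ?_, ?_⟩
  · exact Groth.Agent.Lib.Helper5.KosBC.isKoszulRegularSeq_map _
      ((RingHom.flat_algebraMap_iff).2 (IsLocalization.flat _ (Submonoid.powers (1 : T)))) l h
  · rw [Ideal.map_ofList]

/-- **Flat base change of Koszul-regular ideals.** -/
theorem isKoszulRegularIdeal_map_of_flat' (φ : T →+* T') (hφ : φ.Flat) (I : Ideal T)
    (hI : LCI.IsKoszulRegularIdeal I) : LCI.IsKoszulRegularIdeal (I.map φ) := by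
  apply isKoszulRegularIdeal_of_local
  intro q' _ hq'
  have hIq : I ≤ q'.comap φ := Ideal.map_le_iff_le_comap.1 hq'
  obtain ⟨g, hg, a, -, haKR, haspan⟩ := exists_global_gens I hI (q'.comap φ) hIq
  refine ⟨φ g, hg, a.map φ, ?_, ?_⟩
  · have hfl : (phi φ g).Flat :=
      RingHom.Flat.propertyIsLocal.localizationAwayPreserves φ g _ _ hφ
    have h1 := Groth.Agent.Lib.Helper5.KosBC.isKoszulRegularSeq_map _ hfl _ haKR
    rwa [map_phi] at h1
  · rw [Ideal.map_map, ← phi_comp, ← Ideal.map_map, haspan, Ideal.map_ofList, map_phi]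

theorem isKoszulRegularIdeal_map_ringEquiv (e : T ≃+* T') (I : Ideal T)
    (hI : LCI.IsKoszulRegularIdeal I) : LCI.IsKoszulRegularIdeal (I.map (e : T →+* T')) :=
  isKoszulRegularIdeal_map_of_flat' _ (RingHom.Flat.of_bijective e.bijective) I hI

theorem isKoszulRegularIdeal_comap_ringEquiv (e : T ≃+* T') (I : Ideal T')
    (hI : LCI.IsKoszulRegularIdeal I) : LCI.IsKoszulRegularIdeal (I.comap (e : T →+* T')) := by
  have h := isKoszulRegularIdeal_map_ringEquiv e.symm I hI
  have h2 : I.map (e.symm : T' →+* T) = I.comap (e : T →+* T') :=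
    Ideal.map_symm e
  rwa [h2] at h

end Groth.Agent.Lib.Helper5.Lci
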