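import Mathlib
import Groth.Agent.Lib.Helper5.LciF

/-!
# Koszul-regular ideals in polynomial rings: adding and removing variables
-/

set_option autoImplicit false
universe u

namespace Groth.Agent.Lib.Helper5.Lci

open MvPolynomial Groth.Agent.Lib.Helper5.KosDesc

variable {T Tb : Type u} [CommRing T] [CommRing Tb]

/-- function form of the cancellation theorem -/
theorem isKoszulRegularIdeal_map_of_cancel' (π : T →+* Tb) (hπ : Function.Surjective π)
    (J : Ideal T) (hJ : LCI.IsKoszulRegularIdeal J) {n : ℕ} (F : Fin n → T) (hF : ∀ k, F k ∈ J)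
    (hker : RingHom.ker π = Ideal.ofList (List.ofFn F))
    (hFKR : LCI.IsKoszulRegularSeq T (List.ofFn F))
    (hind : ∀ (q : Ideal T) [q.IsPrime], J ≤ q → ∀ c : Fin n → T,
      ∑ k, c k * F k ∈ q * J → ∀ k, c k ∈ q) :
    LCI.IsKoszulRegularIdeal (J.map π) := by
  refine isKoszulRegularIdeal_map_of_cancel π hπ J hJ (List.ofFn F) ?_ hker hFKR ?_
  · intro x hx
    obtain ⟨k, rfl⟩ := (List.mem_ofFn' F x).1 hx
    exact hF k
  · intro q _ hJq c hc k
    let e : Fin n ≃ Fin (List.ofFn F).length := finCongr (List.length_ofFn).symm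
    have h1 := hind q hJq (c ∘ e) (by
      have : ∑ k, (c ∘ e) k * F k = ∑ k, c k * (List.ofFn F).get k := by
        rw [← Equiv.sum_comp e]
        refine Finset.sum_congr rfl fun k _ => ?_
        simp [e]
      rw [this]
      exact hc) (e.symm k)
    simpa using h1

variable {R : Type u} [CommRing R]

theorem aeval_surjective {n : ℕ} (f : Fin n → R) :
    Function.Surjective (aeval f : MvPolynomial (Fin n) R →ₐ[R] R).toRingHom :=
  fun r => ⟨C r, by simp⟩

/-- **Adding variables.** -/
theorem isKoszulRegularIdeal_comap_aeval {m : ℕ} (g : Fin m → R) (I : Ideal R)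
    (hI : LCI.IsKoszulRegularIdeal I) :
    LCI.IsKoszulRegularIdeal
      (I.comap (aeval g : MvPolynomial (Fin m) R →ₐ[R] R).toRingHom) := by
  apply isKoszulRegularIdeal_of_quotient _ (aeval_surjective g)
  · exact Ideal.comap_mono bot_le
  · rw [ker_aeval_eq_ofList]
    exact isKoszulRegularIdeal_ofList _ (kr_X_sub_C g)
  · rwa [Ideal.map_comap_of_surjective _ (aeval_surjective g)]

/-- **Removing variables.** -/
theorem isKoszulRegularIdeal_map_aeval {n : ℕ} (f : Fin n → R)
    (J : Ideal (MvPolynomial (Fin n) R))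
    (hle : RingHom.ker (aeval f : MvPolynomial (Fin n) R →ₐ[R] R).toRingHom ≤ J)
    (hJ : LCI.IsKoszulRegularIdeal J) :
    LCI.IsKoszulRegularIdeal
      (J.map (aeval f : MvPolynomial (Fin n) R →ₐ[R] R).toRingHom) := by
  have hmem : ∀ i, (X i - C (f i) : MvPolynomial (Fin n) R) ∈ J := fun i => by
    apply hle
    rw [ker_aeval_eq_span]
    exact Ideal.subset_span ⟨i, rfl⟩
  exact isKoszulRegularIdeal_map_of_cancel' _ (aeval_surjective f) J hJ
    (fun i => (X i - C (f i) : MvPolynomial (Fin n) R)) hmem (ker_aeval_eq_ofList f)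
    (kr_X_sub_C f) (fun q _ hJq c hc => indep_X_sub_C f q J hJq hmem c hc)

end Groth.Agent.Lib.Helper5.Lci
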