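import Mathlib
import Groth.Agent.Lib.Helper5.LciG

/-!
# Koszul-regular ideals: from a basic open back to the ring
-/

set_option autoImplicit false
universe u

namespace Groth.Agent.Lib.Helper5.Lci

open Groth.Agent.Lib.Helper5.KosDesc Groth.Agent.Lib.Helper5.KosPerm

variable {P : Type u} [CommRing P]

section AA

variable (G h : P)

/-- the double localization is the localization at the product -/
noncomputable def awayAwayEquiv :
    Localization.Away (h * G) ≃ₐ[P]
      Localization.Away (algebraMap P (Localization.Away G) h) :=
  have : IsLocalization.Away (h * G)
      (Localization.Away (algebraMap P (Localization.Away G) h)) :=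
    IsLocalization.Away.mul (S := Localization.Away G) _ G h
  IsLocalization.algEquiv (Submonoid.powers (h * G)) _ _

theorem map_awayAwayEquiv (l : List P) :
    (l.map (algebraMap P (Localization.Away (h * G)))).map (awayAwayEquiv G h) =
      (l.map (algebraMap P (Localization.Away G))).map
        (algebraMap (Localization.Away G)
          (Localization.Away (algebraMap P (Localization.Away G) h))) := by
  rw [List.map_map, List.map_map]
  apply List.map_congr_left
  intro x _
  simp only [Function.comp_apply, AlgEquiv.commutes]
  rw [← IsScalarTower.algebraMap_apply]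

theorem kr_away_of_kr_away_away (l : List P)
    (hl : LCI.IsKoszulRegularSeq (Localization.Away (algebraMap P (Localization.Away G) h))
      ((l.map (algebraMap P (Localization.Away G))).map
        (algebraMap (Localization.Away G)
          (Localization.Away (algebraMap P (Localization.Away G) h))))) :
    LCI.IsKoszulRegularSeq (Localization.Away (h * G))
      (l.map (algebraMap P (Localization.Away (h * G)))) := by
  rw [← map_awayAwayEquiv] at hl
  have h2 := isKoszulRegularSeq_ringEquiv (awayAwayEquiv G h).symm.toRingEquiv _ hl
  rw [List.map_map] at h2
  convert h2 using 1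
  conv_lhs => rw [← List.map_id (l.map (algebraMap P (Localization.Away (h * G))))]
  apply List.map_congr_left
  intro x _
  simp

theorem span_away_of_span_away_away (I : Ideal P) (l : List P)
    (hl : (I.map (algebraMap P (Localization.Away G))).map
        (algebraMap (Localization.Away G)
          (Localization.Away (algebraMap P (Localization.Away G) h))) =
      Ideal.ofList ((l.map (algebraMap P (Localization.Away G))).map
        (algebraMap (Localization.Away G)
          (Localization.Away (algebraMap P (Localization.Away G) h))))) :
    I.map (algebraMap P (Localization.Away (h * G))) =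
      Ideal.ofList (l.map (algebraMap P (Localization.Away (h * G)))) := by
  let eR : Localization.Away (h * G) ≃+*
      Localization.Away (algebraMap P (Localization.Away G) h) := (awayAwayEquiv G h).toRingEquiv
  rw [← map_awayAwayEquiv] at hl
  have hcoe : ∀ L : List (Localization.Away (h * G)),
      L.map (awayAwayEquiv G h) = L.map ((eR : Localization.Away (h * G) →+* _)) :=
    fun L => rfl
  rw [hcoe, ← Ideal.map_ofList, Ideal.map_map] at hl
  have hc : (algebraMap (Localization.Away G)
      (Localization.Away (algebraMap P (Localization.Away G) h))).comp
        (algebraMap P (Localization.Away G)) =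
      ((eR : Localization.Away (h * G) →+* _)).comp
        (algebraMap P (Localization.Away (h * G))) := by
    ext x
    simp only [RingHom.comp_apply]
    rw [← IsScalarTower.algebraMap_apply]
    exact ((awayAwayEquiv G h).commutes x).symm
  rw [hc, ← Ideal.map_map] at hl
  have h2 := congrArg (Ideal.map ((eR.symm : _ →+* Localization.Away (h * G)))) hl
  rwa [Ideal.map_of_equiv, Ideal.map_of_equiv] at h2

end AA

theorem exists_lift_unit_list (I : Ideal P) (G : P) (a' : List (Localization.Away G))
    (ha' : ∀ x ∈ a', x ∈ I.map (algebraMap P (Localization.Away G))) :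
    ∃ a : List P, (∀ y ∈ a, y ∈ I) ∧ a.length = a'.length ∧
      Ideal.ofList (a.map (algebraMap P (Localization.Away G))) = Ideal.ofList a' := by
  induction a' with
  | nil => exact ⟨[], by simp, rfl, rfl⟩
  | cons x l ih =>
    obtain ⟨a, haI, hlen, hsp⟩ := ih (fun y hy => ha' y (List.mem_cons_of_mem _ hy))
    obtain ⟨⟨y, m⟩, hym⟩ := (IsLocalization.mem_map_algebraMap_iff (Submonoid.powers G) _).1
      (ha' x List.mem_cons_self)
    have hu : IsUnit (algebraMap P (Localization.Away G) (m : P)) :=
      IsLocalization.map_units _ m
    refine ⟨y.1 :: a, ?_, by simp [hlen], ?_⟩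
    · intro z hz
      rcases List.mem_cons.1 hz with rfl | hz
      · exact y.2
      · exact haI z hz
    · rw [List.map_cons, Ideal.ofList_cons, Ideal.ofList_cons, hsp, ← hym,
        Ideal.span_singleton_mul_right_unit hu]

/-- **Koszul-regularity of an ideal can be checked on a basic open neighbourhood.** -/
theorem exists_gens_of_isKoszulRegularIdeal_away (I : Ideal P) (G : P)
    (hKR : LCI.IsKoszulRegularIdeal (I.map (algebraMap P (Localization.Away G))))
    (p : Ideal P) [hp : p.IsPrime] (hIp : I ≤ p) (hG : G ∉ p) :
    ∃ g : P, g ∉ p ∧ ∃ a : List P,
      LCI.IsKoszulRegularSeq (Localization.Away g) (a.map (algebraMap P (Localization.Away g))) ∧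
      I.map (algebraMap P (Localization.Away g)) =
        Ideal.ofList (a.map (algebraMap P (Localization.Away g))) := by
  have hdisj : Disjoint (Submonoid.powers G : Set P) (p : Set P) := by
    rw [Set.disjoint_left]
    rintro _ ⟨k, rfl⟩ hk
    exact hG (hp.mem_of_pow_mem k hk)
  have hp' : (p.map (algebraMap P (Localization.Away G))).IsPrime :=
    IsLocalization.isPrime_of_isPrime_disjoint (Submonoid.powers G) _ p hp hdisj
  have hcomap : (p.map (algebraMap P (Localization.Away G))).comap
      (algebraMap P (Localization.Away G)) = p :=
    IsLocalization.under_map_of_isPrime_disjoint (Submonoid.powers G) _ hp hdisj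
  obtain ⟨h', hh', a', ha'I, ha'KR, ha'span⟩ := exists_global_gens _ hKR
    (p.map (algebraMap P (Localization.Away G))) (Ideal.map_mono hIp)
  obtain ⟨a, -, hlen, hsp⟩ := exists_lift_unit_list I G a' ha'I
  obtain ⟨⟨h, s⟩, hhs⟩ := IsLocalization.surj (Submonoid.powers G) h'
  have hus : IsUnit (algebraMap P (Localization.Away G) (s : P)) :=
    IsLocalization.map_units _ s
  have hh : h ∉ p := by
    intro hmem
    have h1 : algebraMap P (Localization.Away G) h ∈
        p.map (algebraMap P (Localization.Away G)) := Ideal.mem_map_of_mem _ hmem
    rw [← hhs, mul_comm] at h1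
    exact hh' ((Ideal.unit_mul_mem_iff_mem _ hus).1 h1)
  have hmono : ∀ (q : Ideal (Localization.Away G)) [q.IsPrime],
      algebraMap P (Localization.Away G) h ∉ q → h' ∉ q := by
    intro q _ hq hmem
    apply hq
    rw [← hhs]
    exact Ideal.mul_mem_right _ _ hmem
  have hunit : IsUnit (algebraMap (Localization.Away G)
      (Localization.Away (algebraMap P (Localization.Away G) h)) h') := by
    have h1 := IsLocalization.Away.algebraMap_isUnit
      (S := Localization.Away (algebraMap P (Localization.Away G) h))
      (algebraMap P (Localization.Away G) h)
    have h2 : algebraMap (Localization.Away G)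
        (Localization.Away (algebraMap P (Localization.Away G) h))
          (algebraMap P (Localization.Away G) h) =
        algebraMap (Localization.Away G)
          (Localization.Away (algebraMap P (Localization.Away G) h)) h' *
        algebraMap (Localization.Away G)
          (Localization.Away (algebraMap P (Localization.Away G) h))
            (algebraMap P (Localization.Away G) (s : P)) := by
      rw [← map_mul, hhs]
    exact isUnit_of_mul_isUnit_left (h2 ▸ h1)
  have hKR1 : LCI.IsKoszulRegularSeq (Localization.Away (algebraMap P (Localization.Away G) h))
      (a'.map (algebraMap (Localization.Away G)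
        (Localization.Away (algebraMap P (Localization.Away G) h)))) :=
    kr_away_mono a' h' _ ha'KR hmono
  have hsp1 : (I.map (algebraMap P (Localization.Away G))).map
      (algebraMap (Localization.Away G)
        (Localization.Away (algebraMap P (Localization.Away G) h))) =
      Ideal.ofList (a'.map (algebraMap (Localization.Away G)
        (Localization.Away (algebraMap P (Localization.Away G) h)))) :=
    map_eq_ofList_of_isUnit _ a' h' ha'span _ hunit
  have hsp2 : Ideal.ofList ((a.map (algebraMap P (Localization.Away G))).map
      (algebraMap (Localization.Away G)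
        (Localization.Away (algebraMap P (Localization.Away G) h)))) =
      Ideal.ofList (a'.map (algebraMap (Localization.Away G)
        (Localization.Away (algebraMap P (Localization.Away G) h)))) := by
    rw [← Ideal.map_ofList, hsp, Ideal.map_ofList]
  refine ⟨h * G, fun hmem => (hp.mem_or_mem hmem).elim hh hG, a, ?_, ?_⟩
  · apply kr_away_of_kr_away_away
    exact isKoszulRegularSeq_of_length_eq _ _ hKR1 (by simp [hlen]) hsp2
  · apply span_away_of_span_away_away
    rw [hsp1, hsp2]

/-- Koszul-regularity of an ideal is local on the spectrum. -/
theorem isKoszulRegularIdeal_of_forall_away (I : Ideal P)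
    (h : ∀ (p : Ideal P) [p.IsPrime], I ≤ p → ∃ G : P, G ∉ p ∧
      LCI.IsKoszulRegularIdeal (I.map (algebraMap P (Localization.Away G)))) :
    LCI.IsKoszulRegularIdeal I := by
  apply isKoszulRegularIdeal_of_local
  intro p _ hIp
  obtain ⟨G, hG, hKR⟩ := h p hIp
  exact exists_gens_of_isKoszulRegularIdeal_away I G hKR p hIp hG

end Groth.Agent.Lib.Helper5.Lci
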