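import Mathlib
import Groth.Agent.Lib.Helper5.LciH

/-!
# The one-variable presentation of a localization away from an element
-/

set_option autoImplicit false
universe u

namespace Groth.Agent.Lib.Helper5.Lci

open MvPolynomial Groth.Agent.Lib.Helper5.KosDesc

variable {P : Type u} [CommRing P] (G : P)

/-- the generator `G z - 1` -/
noncomputable def tau : MvPolynomial Unit P := C G * X () - 1

/-- the presentation `P[z] → P_G`, `z ↦ 1/G` -/
noncomputable def piG : MvPolynomial Unit P →ₐ[P] Localization.Away G :=
  aeval (fun _ : Unit => IsLocalization.Away.invSelf (S := Localization.Away G) G)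

theorem piG_surjective : Function.Surjective (piG G).toRingHom := by
  intro s
  obtain ⟨p, hp⟩ := Ideal.Quotient.mk_surjective
    ((IsLocalization.Away.mvPolynomialQuotientEquiv (Localization.Away G) G).symm s)
  refine ⟨p, ?_⟩
  have := IsLocalization.Away.mvPolynomialQuotientEquiv_apply (Localization.Away G) G p
  rw [hp, AlgEquiv.apply_symm_apply] at this
  exact this.symm

theorem ker_piG : RingHom.ker (piG G).toRingHom = Ideal.ofList [tau G] := by
  have hl : Ideal.ofList [tau G] = Ideal.span {C G * X () - 1} := by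
    unfold Ideal.ofList tau
    congr 1
    ext x
    simp
  rw [hl]
  ext p
  rw [RingHom.mem_ker, ← Ideal.Quotient.eq_zero_iff_mem]
  change piG G p = 0 ↔ _
  rw [← EmbeddingLike.map_eq_zero_iff
    (f := IsLocalization.Away.mvPolynomialQuotientEquiv (Localization.Away G) G),
    IsLocalization.Away.mvPolynomialQuotientEquiv_apply]
  rfl

theorem isSMulRegular_poly (a : P) :
    IsSMulRegular (Polynomial P) (Polynomial.C a * Polynomial.X - 1 : Polynomial P) := by
  intro p q hpq
  simp only [smul_eq_mul] at hpq
  have hu : IsUnit (((Polynomial.C a * Polynomial.X - 1 : Polynomial P)) : PowerSeries P) := by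
    rw [PowerSeries.isUnit_iff_constantCoeff]
    simp
  apply Polynomial.coe_injective
  apply hu.mul_left_cancel
  rw [← Polynomial.coe_mul, ← Polynomial.coe_mul, hpq]

theorem isSMulRegular_tau : IsSMulRegular (MvPolynomial Unit P) (tau G) := by
  let e := MvPolynomial.uniqueAlgEquiv P Unit
  have he : e (tau G) = Polynomial.C G * Polynomial.X - 1 := by
    simp [e, tau]
  intro p q hpq
  simp only [smul_eq_mul] at hpq
  apply e.injective
  apply isSMulRegular_poly G
  simp only [smul_eq_mul]
  rw [← he, ← map_mul, ← map_mul, hpq]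

theorem kr_tau : LCI.IsKoszulRegularSeq (MvPolynomial Unit P) [tau G] :=
  Groth.Agent.Lib.Helper5.RegImmB.isKoszulRegularSeq_of_isWeaklyRegular _
    ((RingTheory.Sequence.isWeaklyRegular_singleton_iff _ _).2 (isSMulRegular_tau G))

theorem indep_tau (q J : Ideal (MvPolynomial Unit P)) [hq : q.IsPrime] (hJq : J ≤ q)
    (hJ : tau G ∈ J) (c : MvPolynomial Unit P) (hc : c * tau G ∈ q * J) : c ∈ q := by
  let D : Derivation ℤ (MvPolynomial Unit P) (MvPolynomial Unit P) :=
    (pderiv ()).restrictScalars ℤ
  have h1 : pderiv () (c * tau G) ∈ q := derivation_mem_of_mem_mul D q J hJq _ hc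
  have h2 : pderiv () (c * tau G) = c * C G + tau G * pderiv () c := by
    rw [Derivation.leibniz]
    simp [tau, pderiv_X]
  rw [h2] at h1
  have h3 : c * C G ∈ q :=
    (Ideal.add_mem_iff_left _ (Ideal.mul_mem_right _ _ (hJq hJ))).1 h1
  rcases hq.mem_or_mem h3 with h | h
  · exact h
  · exfalso
    have h4 : (1 : MvPolynomial Unit P) ∈ q := by
      have : (1 : MvPolynomial Unit P) = C G * X () - tau G := by
        unfold tau; ring
      rw [this]
      exact Ideal.sub_mem _ (Ideal.mul_mem_right _ _ h) (hJq hJ)
    exact hq.ne_top ((Ideal.eq_top_iff_one q).2 h4)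

/-- cancellation of the variable `z` -/
theorem isKoszulRegularIdeal_map_piG (J : Ideal (MvPolynomial Unit P))
    (hJ : LCI.IsKoszulRegularIdeal J) (hτ : tau G ∈ J) :
    LCI.IsKoszulRegularIdeal (J.map (piG G).toRingHom) := by
  have hl : List.ofFn (fun _ : Fin 1 => tau G) = [tau G] := by simp
  refine isKoszulRegularIdeal_map_of_cancel' _ (piG_surjective G) J hJ (fun _ : Fin 1 => tau G)
    (fun _ => hτ) (by rw [hl]; exact ker_piG G) (by rw [hl]; exact kr_tau G) ?_
  intro q _ hJq c hc k
  rw [Fin.sum_univ_one] at hc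
  have hk : k = 0 := Subsingleton.elim _ _
  rw [hk]
  exact indep_tau G q J hJq hτ _ hc

/-- adding the variable `z` -/
theorem isKoszulRegularIdeal_comap_piG (I : Ideal (Localization.Away G))
    (hI : LCI.IsKoszulRegularIdeal I) :
    LCI.IsKoszulRegularIdeal (I.comap (piG G).toRingHom) := by
  apply isKoszulRegularIdeal_of_quotient _ (piG_surjective G)
  · exact Ideal.comap_mono bot_le
  · rw [ker_piG]
    exact isKoszulRegularIdeal_ofList _ (kr_tau G)
  · rwa [Ideal.map_comap_of_surjective _ (piG_surjective G)]

end Groth.Agent.Lib.Helper5.Lci
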