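import Mathlib
import Groth.Agent.Lib.Helper5.LciI
import Groth.Agent.S9269

/-!
# Local complete intersection algebras: localization on the target
-/

set_option autoImplicit false
universe u

namespace Groth.Agent.Lib.Helper5.Lci

open MvPolynomial Groth.Agent.Lib.Helper5.KosDesc

variable {R S : Type u} [CommRing R] [CommRing S] [Algebra R S]

theorem ker_of_isLCI (h : LCI.IsLCI R S) {m : ℕ} (β : MvPolynomial (Fin m) R →ₐ[R] S)
    (hβ : Function.Surjective β) : LCI.IsKoszulRegularIdeal (RingHom.ker β.toRingHom) := by
  obtain ⟨-, n, α, hα, hker⟩ := h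
  exact Groth.Agent.S9269.result R S n m α hα β hβ hker

/-- an `R`-algebra isomorphism adding one variable -/
noncomputable def addVarEquiv (n : ℕ) :
    MvPolynomial (Fin (1 + n)) R ≃ₐ[R] MvPolynomial Unit (MvPolynomial (Fin n) R) :=
  (MvPolynomial.renameEquiv R
    (finSumFinEquiv.symm.trans (Equiv.sumCongr finOneEquiv (Equiv.refl (Fin n))))).trans
    (MvPolynomial.sumAlgEquiv R Unit (Fin n))

theorem isKoszulRegularIdeal_map_away_of_isLCI_away {n : ℕ}
    (γ : MvPolynomial (Fin n) R →ₐ[R] S) (hγ : Function.Surjective γ)
    (G : MvPolynomial (Fin n) R) (h : LCI.IsLCI R (Localization.Away (γ G))) :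
    LCI.IsKoszulRegularIdeal ((RingHom.ker γ.toRingHom).map
      (algebraMap (MvPolynomial (Fin n) R) (Localization.Away G))) := by
  have hsurjG : Function.Surjective (phi γ.toRingHom G) := phi_surjective G hγ
  let δ : MvPolynomial Unit (MvPolynomial (Fin n) R) →+* Localization.Away (γ G) :=
    (phi γ.toRingHom G).comp (piG G).toRingHom
  have hδsurj : Function.Surjective δ := hsurjG.comp (piG_surjective G)
  let β : MvPolynomial (Fin (1 + n)) R →ₐ[R] Localization.Away (γ G) :=
    { toRingHom := δ.comp (addVarEquiv (R := R) n : _ →+* _)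
      commutes' := fun r => by
        change δ (addVarEquiv n (algebraMap R _ r)) = _
        rw [AlgEquiv.commutes, MvPolynomial.algebraMap_apply]
        change phi γ.toRingHom G (piG G (C (algebraMap R _ r))) = _
        have h1 : piG G (C (algebraMap R (MvPolynomial (Fin n) R) r)) =
            algebraMap (MvPolynomial (Fin n) R) (Localization.Away G)
              (algebraMap R (MvPolynomial (Fin n) R) r) := by
          simp [piG]
        rw [h1, phi_algebraMap]
        change algebraMap S (Localization.Away (γ G)) (γ (algebraMap R _ r)) = _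
        rw [AlgHom.commutes, ← IsScalarTower.algebraMap_apply] }
  have hβsurj : Function.Surjective β := hδsurj.comp (addVarEquiv (R := R) n).surjective
  have hβ := ker_of_isLCI h β hβsurj
  have hδ : LCI.IsKoszulRegularIdeal (RingHom.ker δ) := by
    have h1 := isKoszulRegularIdeal_comap_ringEquiv (addVarEquiv (R := R) n).symm.toRingEquiv _ hβ
    have h2 : (RingHom.ker β.toRingHom).comap
        ((addVarEquiv (R := R) n).symm.toRingEquiv : _ →+* _) = RingHom.ker δ := by
      ext x
      simp only [Ideal.mem_comap, RingHom.mem_ker]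
      change δ (addVarEquiv n ((addVarEquiv n).symm x)) = 0 ↔ _
      rw [AlgEquiv.apply_symm_apply]
    rwa [h2] at h1
  have hτ : tau G ∈ RingHom.ker δ := by
    have h1 : tau G ∈ RingHom.ker (piG G).toRingHom := by
      rw [ker_piG]
      exact Ideal.subset_span (by simp)
    rw [RingHom.mem_ker] at h1 ⊢
    change phi γ.toRingHom G ((piG G).toRingHom (tau G)) = 0
    rw [h1, map_zero]
  have h3 := isKoszulRegularIdeal_map_piG G _ hδ hτ
  have h4 : (RingHom.ker δ).map (piG G).toRingHom = RingHom.ker (phi γ.toRingHom G) := by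
    rw [← RingHom.comap_ker, Ideal.map_comap_of_surjective _ (piG_surjective G)]
  rwa [h4, ker_phi] at h3

end Groth.Agent.Lib.Helper5.Lci
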