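import Mathlib
import Groth.Agent.Lib.Helper5.LciJ
import Groth.Agent.S9253

/-!
# Local complete intersection ring homomorphisms: composition, isomorphisms, localization
-/

set_option autoImplicit false
universe u

namespace Groth.Agent.Lib.Helper5.Lci

open MvPolynomial Groth.Agent.Lib.Helper5.KosDesc

/-- local complete intersection, as a property of ring homomorphisms -/
def IsLciHom {R S : Type u} [CommRing R] [CommRing S] (f : R →+* S) : Prop :=
  @LCI.IsLCI R _ S _ f.toAlgebra

/-- `γ` is a presentation of `f` by a polynomial ring -/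
def IsPres {R S : Type u} [CommRing R] [CommRing S] (f : R →+* S) {n : ℕ}
    (γ : MvPolynomial (Fin n) R →+* S) : Prop :=
  γ.comp C = f ∧ Function.Surjective γ

section Basic

variable {R S : Type u} [CommRing R] [CommRing S]

theorem isLciHom_algebraMap [Algebra R S] : IsLciHom (algebraMap R S) ↔ LCI.IsLCI R S := by
  rw [IsLciHom, toAlgebra_algebraMap]

theorem isLciHom_iff (f : R →+* S) :
    IsLciHom f ↔ f.FiniteType ∧ ∃ (n : ℕ) (γ : MvPolynomial (Fin n) R →+* S),
      IsPres f γ ∧ LCI.IsKoszulRegularIdeal (RingHom.ker γ) := by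
  let _ : Algebra R S := f.toAlgebra
  constructor
  · rintro ⟨hft, n, α, hα, hk⟩
    refine ⟨hft, n, α.toRingHom, ⟨?_, hα⟩, hk⟩
    ext r
    exact α.commutes r
  · rintro ⟨hft, n, γ, ⟨hc, hs⟩, hk⟩
    let α : MvPolynomial (Fin n) R →ₐ[R] S :=
      { γ with commutes' := fun r => RingHom.congr_fun hc r }
    exact ⟨hft, n, α, hs, hk⟩

theorem IsLciHom.ker_of_isPres {f : R →+* S} (hf : IsLciHom f) {n : ℕ}
    (γ : MvPolynomial (Fin n) R →+* S) (hγ : IsPres f γ) :
    LCI.IsKoszulRegularIdeal (RingHom.ker γ) := by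
  let _ : Algebra R S := f.toAlgebra
  let α : MvPolynomial (Fin n) R →ₐ[R] S :=
    { γ with commutes' := fun r => RingHom.congr_fun hγ.1 r }
  exact ker_of_isLCI hf α hγ.2

theorem IsLciHom.exists_isPres {f : R →+* S} (hf : IsLciHom f) :
    ∃ (n : ℕ) (γ : MvPolynomial (Fin n) R →+* S), IsPres f γ ∧
      LCI.IsKoszulRegularIdeal (RingHom.ker γ) :=
  ((isLciHom_iff f).1 hf).2

theorem IsLciHom.finiteType {f : R →+* S} (hf : IsLciHom f) : f.FiniteType :=
  ((isLciHom_iff f).1 hf).1

end Basic

section Comp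

variable {R S T : Type u} [CommRing R] [CommRing S] [CommRing T]

theorem flat_C (m : ℕ) : (C : R →+* MvPolynomial (Fin m) R).Flat := by
  have h : (algebraMap R (MvPolynomial (Fin m) R)).Flat :=
    (RingHom.flat_algebraMap_iff).2 inferInstance
  rwa [MvPolynomial.algebraMap_eq] at h

/-- **Composition of local complete intersection homomorphisms.** -/
theorem IsLciHom.comp {f : R →+* S} {g : S →+* T} (hf : IsLciHom f) (hg : IsLciHom g) :
    IsLciHom (g.comp f) := by
  obtain ⟨n, γ, hγ, hI⟩ := hf.exists_isPres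
  obtain ⟨m, ε, hε, hL⟩ := hg.exists_isPres
  rw [isLciHom_iff]
  refine ⟨hg.finiteType.comp hf.finiteType, m + n, ?_⟩
  let μ : MvPolynomial (Fin m) (MvPolynomial (Fin n) R) →+* MvPolynomial (Fin m) S :=
    MvPolynomial.map γ
  have hμ : Function.Surjective μ := MvPolynomial.map_surjective γ hγ.2
  let e₂ : MvPolynomial (Fin (m + n)) R ≃ₐ[R] MvPolynomial (Fin m) (MvPolynomial (Fin n) R) :=
    (MvPolynomial.renameEquiv R finSumFinEquiv.symm).trans
      (MvPolynomial.sumAlgEquiv R (Fin m) (Fin n))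
  refine ⟨(ε.comp μ).comp (e₂ : MvPolynomial (Fin (m + n)) R →+* _), ⟨?_, ?_⟩, ?_⟩
  · ext r
    change ε (μ (e₂ (C r))) = g (f r)
    have h1 : e₂ (C r) = C (C r) := by
      have := e₂.commutes r
      simpa [MvPolynomial.algebraMap_eq] using this
    rw [h1]
    have h2 : μ (C (C r)) = C (f r) := by
      simp only [μ, MvPolynomial.map_C]
      congr 1
      exact RingHom.congr_fun hγ.1 r
    rw [h2]
    exact RingHom.congr_fun hε.1 (f r)
  · exact (hε.2.comp hμ).comp e₂.surjective
  · have hK : LCI.IsKoszulRegularIdeal (RingHom.ker (ε.comp μ)) := by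
      apply isKoszulRegularIdeal_of_quotient μ hμ
      · intro x hx
        rw [RingHom.mem_ker] at hx ⊢
        change ε (μ x) = 0
        rw [hx, map_zero]
      · rw [MvPolynomial.ker_map]
        exact isKoszulRegularIdeal_map_of_flat' C (flat_C m) _ hI
      · rw [← RingHom.comap_ker, Ideal.map_comap_of_surjective _ hμ]
        exact hL
    have h3 := isKoszulRegularIdeal_comap_ringEquiv e₂.toRingEquiv _ hK
    rw [RingHom.comap_ker] at h3
    exact h3

theorem isLciHom_of_bijective (f : R →+* S) (hf : Function.Bijective f) : IsLciHom f := by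
  rw [isLciHom_iff]
  refine ⟨RingHom.FiniteType.of_surjective f hf.2, 0,
    f.comp (MvPolynomial.isEmptyAlgEquiv R (Fin 0) : MvPolynomial (Fin 0) R →+* R), ⟨?_, ?_⟩, ?_⟩
  · ext r
    change f (MvPolynomial.isEmptyAlgEquiv R (Fin 0) (C r)) = f r
    congr 1
    exact (MvPolynomial.isEmptyAlgEquiv R (Fin 0)).commutes r
  · exact hf.2.comp (MvPolynomial.isEmptyAlgEquiv R (Fin 0)).surjective
  · have h1 : RingHom.ker (f.comp
        (MvPolynomial.isEmptyAlgEquiv R (Fin 0) : MvPolynomial (Fin 0) R →+* R)) = ⊥ :=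
      (RingHom.injective_iff_ker_eq_bot _).1
        (hf.1.comp (MvPolynomial.isEmptyAlgEquiv R (Fin 0)).injective)
    rw [h1, ← Ideal.ofList_nil]
    exact isKoszulRegularIdeal_ofList _
      (Groth.Agent.Lib.Helper5.RegImmB.isKoszulRegularSeq_of_isWeaklyRegular _
        (RingTheory.Sequence.IsWeaklyRegular.nil _ _))

theorem isLciHom_stableUnderComposition : RingHom.StableUnderComposition @IsLciHom :=
  fun _ _ _ _ _ _ _ _ hf hg => hf.comp hg

theorem isLciHom_respectsIso : RingHom.RespectsIso @IsLciHom :=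
  isLciHom_stableUnderComposition.respectsIso
    fun e => isLciHom_of_bijective e.toRingHom e.bijective

end Comp

end Groth.Agent.Lib.Helper5.Lci
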