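import Mathlib
import Groth.Agent.Lib.Helper5.LciK

/-!
# Local complete intersection ring homomorphisms form a local property
-/

set_option autoImplicit false
universe u

namespace Groth.Agent.Lib.Helper5.Lci

open MvPolynomial Groth.Agent.Lib.Helper5.KosDesc

section Away

variable {R : Type u} [CommRing R]

theorem isLciHom_algebraMap_away (r : R) :
    IsLciHom (algebraMap R (Localization.Away r)) := by
  rw [isLciHom_iff]
  let ρ : MvPolynomial (Fin 1) R ≃ₐ[R] MvPolynomial Unit R :=
    MvPolynomial.renameEquiv R finOneEquiv
  refine ⟨RingHom.finiteType_holdsForLocalizationAway _ r, 1,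
    (piG r).toRingHom.comp (ρ : MvPolynomial (Fin 1) R →+* MvPolynomial Unit R), ⟨?_, ?_⟩, ?_⟩
  · ext x
    change piG r (ρ (C x)) = _
    have h1 : ρ (C x) = C x := ρ.commutes x
    rw [h1]
    exact (piG r).commutes x
  · exact (piG_surjective r).comp ρ.surjective
  · have h1 := isKoszulRegularIdeal_comap_ringEquiv ρ.toRingEquiv _
      (isKoszulRegularIdeal_ofList _ (kr_tau r))
    rw [← ker_piG, RingHom.comap_ker] at h1
    exact h1

theorem isLciHom_holdsForLocalizationAway : RingHom.HoldsForLocalizationAway @IsLciHom := by
  intro R S _ _ _ r _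
  let e : Localization.Away r ≃ₐ[R] S := IsLocalization.algEquiv (Submonoid.powers r) _ _
  have h1 : algebraMap R S =
      (e : Localization.Away r →+* S).comp (algebraMap R (Localization.Away r)) := by
    ext x
    exact (e.commutes x).symm
  rw [h1]
  exact (isLciHom_algebraMap_away r).comp (isLciHom_of_bijective _ e.bijective)

end Away

section Loc

attribute [local instance] MvPolynomial.algebraMvPolynomial

theorem isLciHom_localizationAwayPreserves : RingHom.LocalizationAwayPreserves @IsLciHom := by
  intro R S _ _ f r R' S' _ _ _ _ _ _ hf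
  obtain ⟨n, γ, hγ, hI⟩ := hf.exists_isPres
  rw [isLciHom_iff]
  refine ⟨RingHom.localization_away_map_finiteType R S R' S' f r hf.finiteType, n, ?_⟩
  have hloc : IsLocalization.Away (C r : MvPolynomial (Fin n) R) (MvPolynomial (Fin n) R') := by
    have h1 : IsLocalization ((Submonoid.powers r).map (C : R →+* MvPolynomial (Fin n) R))
        (MvPolynomial (Fin n) R') := inferInstance
    rwa [Submonoid.map_powers] at h1
  have hγr : γ (C r) = f r := RingHom.congr_fun hγ.1 r
  have hloc' : IsLocalization.Away (γ (C r)) S' := by
    rw [hγr]; infer_instance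
  let γ' : MvPolynomial (Fin n) R' →+* S' :=
    IsLocalization.Away.map (MvPolynomial (Fin n) R') S' γ (C r)
  have hγ'alg : ∀ p : MvPolynomial (Fin n) R,
      γ' (algebraMap (MvPolynomial (Fin n) R) (MvPolynomial (Fin n) R') p) =
        algebraMap S S' (γ p) := fun p => IsLocalization.map_eq _ p
  refine ⟨γ', ⟨?_, ?_⟩, ?_⟩
  · apply IsLocalization.ringHom_ext (Submonoid.powers r)
    ext x
    simp only [RingHom.comp_apply]
    have h1 : (C (algebraMap R R' x) : MvPolynomial (Fin n) R') =
        algebraMap (MvPolynomial (Fin n) R) (MvPolynomial (Fin n) R') (C x) := by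
      rw [MvPolynomial.algebraMap_def, MvPolynomial.map_C]
    have h2 : γ (C x) = f x := RingHom.congr_fun hγ.1 x
    rw [h1, hγ'alg, h2]
    exact (IsLocalization.map_eq _ x).symm
  · have : IsLocalization (Submonoid.map γ (Submonoid.powers (C r))) S' := by
      rw [Submonoid.map_powers]
      exact hloc'
    exact IsLocalization.map_surjective_of_surjective _ _ _ hγ.2
  · have hk : RingHom.ker γ' = (RingHom.ker γ).map
        (algebraMap (MvPolynomial (Fin n) R) (MvPolynomial (Fin n) R')) :=
      IsLocalization.ker_map S' γ (Submonoid.map_powers γ (C r))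
    rw [hk]
    refine isKoszulRegularIdeal_map_of_flat' _ ?_ _ hI
    rw [RingHom.flat_algebraMap_iff]
    exact IsLocalization.flat _ (Submonoid.powers (C r : MvPolynomial (Fin n) R))

end Loc

section Span

theorem isLciHom_ofLocalizationSpanTarget : RingHom.OfLocalizationSpanTarget @IsLciHom := by
  rw [RingHom.ofLocalizationSpanTarget_iff_finite]
  intro R S _ _ f s hs H
  classical
  let _ : Algebra R S := f.toAlgebra
  have key : ∀ x : S, IsLciHom ((algebraMap S (Localization.Away x)).comp f) →
      LCI.IsLCI R (Localization.Away x) := by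
    intro x hx
    have e : ((algebraMap S (Localization.Away x)).comp f).toAlgebra =
        (inferInstance : Algebra R (Localization.Away x)) :=
      Algebra.algebra_ext _ _ (fun r => by
        change algebraMap S (Localization.Away x) (f r) = algebraMap R (Localization.Away x) r
        rw [IsScalarTower.algebraMap_apply R S (Localization.Away x)]
        rfl)
    unfold IsLciHom at hx
    rw [e] at hx
    exact hx
  let g : Fin s.card → S := fun j => (s.equivFin.symm j : S)
  have hg : Ideal.span (Set.range g) = ⊤ := by
    rw [← hs]
    congr 1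
    ext x
    simp only [Set.mem_range, Finset.mem_coe, g]
    constructor
    · rintro ⟨j, rfl⟩
      exact (s.equivFin.symm j).2
    · intro hx
      exact ⟨s.equivFin ⟨x, hx⟩, by simp⟩
  exact Groth.Agent.S9253.result R S s.card g hg
    (fun j => key _ (H ⟨_, (s.equivFin.symm j).2⟩))

theorem isLciHom_propertyIsLocal : RingHom.PropertyIsLocal @IsLciHom :=
  ⟨isLciHom_localizationAwayPreserves,
    isLciHom_ofLocalizationSpanTarget,
    isLciHom_ofLocalizationSpanTarget.ofLocalizationSpan
      (isLciHom_stableUnderComposition.stableUnderCompositionWithLocalizationAway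
        isLciHom_holdsForLocalizationAway).left,
    (isLciHom_stableUnderComposition.stableUnderCompositionWithLocalizationAway
      isLciHom_holdsForLocalizationAway).right⟩

end Span

end Groth.Agent.Lib.Helper5.Lci
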