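import Mathlib
import Groth.Prelude.Def_RegImm
import Groth.Prelude.Def_LCI2
import Groth.Agent.Lib.Helper5.GCIReg
import Groth.Agent.Lib.Helper5.LciL
import Groth.Agent.Lib.Helper5.RegSpreadRing
import Groth.Agent.Lib.Helper5.RegImmB

/-!
# Helper5 — CIFieldB

A global (or local) complete intersection over a field is a local complete intersection algebra
in the Koszul sense.
-/

set_option autoImplicit false
universe u

namespace Groth.Agent.Lib.Helper5.CIField

open RingTheory.Sequence Groth.Agent.Lib.Helper5.Lci Groth.Agent.Lib.Helper5.RegSpreadRing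

theorem ofList_ofFn_eq_span_range {A : Type*} [CommRing A] {c : ℕ} (r : Fin c → A) :
    Ideal.ofList (List.ofFn r) = Ideal.span (Set.range r) := by
  unfold Ideal.ofList
  congr 1
  ext x
  simp [List.mem_ofFn']

theorem isLCI_of_isGlobalCI (k S : Type u) [Field k] [CommRing S] [Algebra k S]
    (h : Synt.IsGlobalCI k S) : LCI.IsLCI k S := by
  rcases h with h | ⟨n, c, hcn, φ, r, hsurj, hker, hdim⟩
  · have hs : Function.Surjective (MvPolynomial.aeval (R := k) (Fin.elim0 : Fin 0 → S)) :=
      fun x => ⟨0, Subsingleton.elim _ _⟩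
    refine ⟨Algebra.FiniteType.of_surjective _ hs, 0, _, hs, ?_⟩
    rintro ⟨p, hp⟩ hle
    exfalso
    apply hp.ne_top
    rw [eq_top_iff]
    refine le_trans ?_ hle
    intro x _
    rw [RingHom.mem_ker]
    exact Subsingleton.elim _ _
  · refine ⟨Algebra.FiniteType.of_surjective φ hsurj, n, φ, hsurj, ?_⟩
    apply isKoszulRegularIdeal_of_local
    intro q _ hq
    have hofl : Ideal.ofList (List.ofFn r) = RingHom.ker φ.toRingHom := by
      rw [hker, ofList_ofFn_eq_span_range]
    have hd : ringKrullDim (MvPolynomial (Fin n) k ⧸ Ideal.ofList (List.ofFn r)) ≤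
        ((n - (List.ofFn r).length : ℕ) : WithBot ℕ∞) := by
      rw [List.length_ofFn, ← hdim, hofl]
      exact le_of_eq (ringKrullDim_eq_of_ringEquiv
        (Ideal.quotientKerAlgEquivOfSurjective hsurj).toRingEquiv)
    have hwr := Groth.Agent.Lib.Helper5.GCIReg.isWeaklyRegular_of_isLocalization k n (List.ofFn r)
      (by simpa using hcn) hd q (hofl ▸ hq) (Localization.AtPrime q)
    obtain ⟨g, hg, hS⟩ := exists_away_weaklyRegular' q (Localization.AtPrime q) (List.ofFn r) hwr
    refine ⟨g, hg, List.ofFn r,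
      Groth.Agent.Lib.Helper5.RegImmB.isKoszulRegularSeq_of_isWeaklyRegular _
        (hS g dvd_rfl (Localization.Away g)), ?_⟩
    rw [← hofl, Ideal.map_ofList]

theorem isLCI_of_forall_prime {R S : Type u} [CommRing R] [CommRing S] [Algebra R S]
    (h : ∀ p : PrimeSpectrum S, ∃ g : S, g ∉ p.asIdeal ∧ LCI.IsLCI R (Localization.Away g)) :
    LCI.IsLCI R S := by
  rw [← isLciHom_algebraMap]
  refine isLciHom_ofLocalizationSpanTarget (algebraMap R S)
    {g : S | LCI.IsLCI R (Localization.Away g)} ?_ ?_
  · by_contra hne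
    obtain ⟨m, hm, hle⟩ := Ideal.exists_le_maximal _ hne
    obtain ⟨g, hg, hg'⟩ := h ⟨m, hm.isPrime⟩
    exact hg (hle (Ideal.subset_span hg'))
  · rintro ⟨g, hg⟩
    have e : ((algebraMap S (Localization.Away g)).comp (algebraMap R S)).toAlgebra =
        (inferInstance : Algebra R (Localization.Away g)) :=
      Algebra.algebra_ext _ _ (fun r => by
        change algebraMap S (Localization.Away g) (algebraMap R S r) =
          algebraMap R (Localization.Away g) r
        rw [← IsScalarTower.algebraMap_apply R S (Localization.Away g)])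
    unfold IsLciHom
    rw [e]
    exact hg

theorem isLCI_of_isLCIOver (k S : Type u) [Field k] [CommRing S] [Algebra k S]
    (h : Synt.IsLCIOver k S) : LCI.IsLCI k S :=
  isLCI_of_forall_prime fun p => by
    obtain ⟨g, hg, hG⟩ := h.2 p
    exact ⟨g, hg, isLCI_of_isGlobalCI k _ hG⟩

end Groth.Agent.Lib.Helper5.CIField
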