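import Mathlib
import Groth.Agent.Lib.Helper5.LciJ
import Groth.Agent.Lib.Helper5.LciH
import Groth.Agent.Lib.Helper5.KosRegA

/-!
# Helper5 — CIFieldC

If a basic open of `R[x]/I` is a local complete intersection over `R` (Koszul sense), then at every
prime of that basic open the ideal `I` is generated by a regular sequence in the local ring of
the polynomial ring.
-/

set_option autoImplicit false
universe u

namespace Groth.Agent.Lib.Helper5.CIField

open RingTheory.Sequence Groth.Agent.Lib.Helper5.Lci

variable {R S : Type u} [CommRing R] [IsNoetherianRing R] [CommRing S] [Algebra R S]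

theorem exists_isRegular_of_isLCI_away {n : ℕ}
    (γ : MvPolynomial (Fin n) R →ₐ[R] S) (hγ : Function.Surjective γ)
    (q' : Ideal (MvPolynomial (Fin n) R)) [hq : q'.IsPrime] (hq' : RingHom.ker γ.toRingHom ≤ q')
    (G : MvPolynomial (Fin n) R) (hG : G ∉ q') (h : LCI.IsLCI R (Localization.Away (γ G))) :
    ∃ a : List (MvPolynomial (Fin n) R),
      IsRegular (Localization.AtPrime q')
        (a.map (algebraMap (MvPolynomial (Fin n) R) (Localization.AtPrime q'))) ∧
      (RingHom.ker γ.toRingHom).map
          (algebraMap (MvPolynomial (Fin n) R) (Localization.AtPrime q')) =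
        Ideal.ofList (a.map (algebraMap (MvPolynomial (Fin n) R) (Localization.AtPrime q'))) := by
  have hKR := isKoszulRegularIdeal_map_away_of_isLCI_away γ hγ G h
  obtain ⟨g, hg, a, hKRa, hsp⟩ :=
    exists_gens_of_isKoszulRegularIdeal_away _ G hKR q' hq' hG
  have hu : IsUnit (algebraMap (MvPolynomial (Fin n) R) (Localization.AtPrime q') g) :=
    IsLocalization.map_units _ (⟨g, hg⟩ : q'.primeCompl)
  have hsp' := map_eq_ofList_of_isUnit _ a g hsp (Localization.AtPrime q') hu
  refine ⟨a, ?_, hsp'⟩
  apply Groth.Agent.Lib.Helper5.KosReg.isRegular_of_koszulRegular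
  · intro x hx
    have h1 : x ∈ Ideal.ofList
        (a.map (algebraMap (MvPolynomial (Fin n) R) (Localization.AtPrime q'))) :=
      Ideal.subset_span hx
    rw [← hsp'] at h1
    have h2 : (RingHom.ker γ.toRingHom).map
        (algebraMap (MvPolynomial (Fin n) R) (Localization.AtPrime q')) ≤
        IsLocalRing.maximalIdeal (Localization.AtPrime q') := by
      rw [← Localization.AtPrime.map_eq_maximalIdeal]
      exact Ideal.map_mono hq'
    exact h2 h1
  · exact kr_atPrime_of_kr_away a g hKRa q' hg

end Groth.Agent.Lib.Helper5.CIField
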