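import Mathlib
import Groth.Agent.Lib.Helper5.GCIReg
import Groth.Agent.Lib.Helper5.KosRegA
import Groth.Agent.Lib.Helper5.KosBCB
import Groth.Agent.Lib.Helper25.GlobalCI

/-!
# Helper5 — CIFieldD

Dimension of the quotient of an affine domain by a Koszul-regular sequence.
-/

set_option autoImplicit false
universe u

namespace Groth.Agent.Lib.Helper5.CIField

open RingTheory.Sequence

theorem dim_quotient_of_kr (k : Type u) [Field k] (D : Type u) [CommRing D] [IsDomain D]
    [Algebra k D] [Algebra.FiniteType k D] (N : ℕ) (hN : ringKrullDim D = (N : WithBot ℕ∞))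
    (l : List D) (hl : LCI.IsKoszulRegularSeq D l) (hnt : Ideal.ofList l ≠ ⊤) :
    l.length ≤ N ∧ ringKrullDim (D ⧸ Ideal.ofList l) = ((N - l.length : ℕ) : WithBot ℕ∞) := by
  have hNoeth : IsNoetherianRing D := Algebra.FiniteType.isNoetherianRing k D
  obtain ⟨J, hJ⟩ : ∃ J : Ideal D, J = Ideal.ofList l := ⟨_, rfl⟩
  rw [← hJ] at hnt ⊢
  have key : ∀ 𝔪 : Ideal (D ⧸ J), 𝔪.IsMaximal →
      l.length ≤ N ∧ 𝔪.height = ((N - l.length : ℕ) : ℕ∞) := by
    intro 𝔪 h𝔪
    have hM : (𝔪.comap (Ideal.Quotient.mk J)).IsMaximal :=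
      Ideal.comap_isMaximal_of_surjective _ Ideal.Quotient.mk_surjective
    obtain ⟨M, hMdef⟩ : ∃ M : Ideal D, M = 𝔪.comap (Ideal.Quotient.mk J) := ⟨_, rfl⟩
    rw [← hMdef] at hM
    have hJM : J ≤ M := by
      rw [hMdef]
      intro x hx
      rw [Ideal.mem_comap, Ideal.Quotient.eq_zero_iff_mem.2 hx]
      exact Ideal.zero_mem _
    have hmap : M.map (Ideal.Quotient.mk J) = 𝔪 := by
      rw [hMdef, Ideal.map_comap_of_surjective _ Ideal.Quotient.mk_surjective]
    have hMp : M.IsPrime := hM.isPrime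
    have hloc : IsLocalRing (Localization.AtPrime M) := inferInstance
    have h1 : (M.height : WithBot ℕ∞) = ringKrullDim D :=
      Groth.Agent.Lib.Helper25.GlobalCI.height_eq_of_isMaximal k D M
    have h2 := IsLocalization.AtPrime.ringKrullDim_eq_height M (Localization.AtPrime M)
    have hflat : (algebraMap D (Localization.AtPrime M)).Flat :=
      RingHom.flat_algebraMap_iff.2 (IsLocalization.flat _ M.primeCompl)
    have hKR' := Groth.Agent.Lib.Helper5.KosBC.isKoszulRegularSeq_map _ hflat l hl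
    have hmem : ∀ x ∈ l.map (algebraMap D (Localization.AtPrime M)),
        x ∈ IsLocalRing.maximalIdeal (Localization.AtPrime M) := by
      intro x hx
      obtain ⟨y, hy, rfl⟩ := List.mem_map.1 hx
      rw [IsLocalization.AtPrime.to_map_mem_maximal_iff (Localization.AtPrime M) M]
      exact hJM (hJ ▸ Ideal.subset_span hy)
    have hreg := Groth.Agent.Lib.Helper5.KosReg.isRegular_of_koszulRegular _ hmem hKR'
    have h3 := ringKrullDim_add_length_eq_ringKrullDim_of_isRegular _ hreg
    have hJmap : J.map (algebraMap D (Localization.AtPrime M)) =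
        Ideal.ofList (l.map (algebraMap D (Localization.AtPrime M))) := by
      rw [hJ, Ideal.map_ofList]
    have hP' : (M.map (Ideal.Quotient.mk J)).IsPrime := by
      rw [hmap]; exact h𝔪.isPrime
    have hloc' : IsLocalization.AtPrime
        (Localization.AtPrime M ⧸ J.map (algebraMap D (Localization.AtPrime M)))
        (M.map (Ideal.Quotient.mk J)) := by
      unfold IsLocalization.AtPrime
      rw [← Groth.Agent.Lib.Helper7.LocQuotDim.algebraMapSubmonoid_primeCompl D M J hJM]
      infer_instance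
    have h4 := IsLocalization.AtPrime.ringKrullDim_eq_height (M.map (Ideal.Quotient.mk J))
      (Localization.AtPrime M ⧸ J.map (algebraMap D (Localization.AtPrime M)))
    have h5 : ringKrullDim
        (Localization.AtPrime M ⧸ J.map (algebraMap D (Localization.AtPrime M))) =
        ringKrullDim (Localization.AtPrime M ⧸
          Ideal.ofList (l.map (algebraMap D (Localization.AtPrime M)))) :=
      ringKrullDim_eq_of_ringEquiv (Ideal.quotEquivOfEq hJmap)
    rw [← h5, h4, h2, h1, hN, List.length_map] at h3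
    obtain ⟨a, b, ha, hb, hab⟩ := Groth.Agent.Lib.Helper5.GCIReg.nat_of_add_eq h3
    have hb' : l.length = b := by exact_mod_cast hb
    rw [hmap] at ha
    refine ⟨by omega, ?_⟩
    rw [ha]
    have : a = N - l.length := by omega
    rw [this]
  have hntA : Nontrivial (D ⧸ J) := Ideal.Quotient.nontrivial_iff.2 hnt
  obtain ⟨𝔪, h𝔪⟩ := Ideal.exists_maximal (D ⧸ J)
  refine ⟨(key 𝔪 h𝔪).1, ?_⟩
  rw [← Ideal.sup_isMaximal_height_eq_ringKrullDim]
  congr 1
  apply le_antisymm
  · exact iSup₂_le fun I hI => (key I hI).2.le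
  · exact le_iSup₂_of_le 𝔪 h𝔪 (key 𝔪 h𝔪).2.ge

end Groth.Agent.Lib.Helper5.CIField
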