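import Mathlib
import Groth.Prelude.Def_RegImm
import Groth.Agent.Lib.Helper5.CIFieldD
import Groth.Agent.Lib.Helper5.LciJ
import Groth.Agent.Lib.Helper5.KosComp
import Groth.Agent.Lib.Helper5.KosPermD

/-!
# Helper5 — CIFieldE

A basic open of `k[x]/I` on which `I` is generated by a Koszul-regular sequence is a global
complete intersection over `k`.
-/

set_option autoImplicit false
universe u

namespace Groth.Agent.Lib.Helper5.CIField

open MvPolynomial Groth.Agent.Lib.Helper5.Lci Groth.Agent.Lib.Helper5.KosDesc
  Groth.Agent.Lib.Helper5.KosPerm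

variable {k S : Type u} [Field k] [CommRing S] [Algebra k S] {n : ℕ}
  (γ : MvPolynomial (Fin n) k →ₐ[k] S) (G : MvPolynomial (Fin n) k)

/-- the presentation `k[x][z] → S_g`, `z ↦ 1/g`, as a `k`-algebra map -/
noncomputable def deltaHom :
    MvPolynomial Unit (MvPolynomial (Fin n) k) →ₐ[k] Localization.Away (γ G) :=
  { toRingHom := (phi γ.toRingHom G).comp (piG G).toRingHom
    commutes' := fun r => by
      change phi γ.toRingHom G (piG G (C (algebraMap k _ r))) = _
      have h1 : piG G (C (algebraMap k (MvPolynomial (Fin n) k) r)) =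
          algebraMap (MvPolynomial (Fin n) k) (Localization.Away G)
            (algebraMap k (MvPolynomial (Fin n) k) r) := by
        simp [piG]
      rw [h1, phi_algebraMap]
      change algebraMap S (Localization.Away (γ G)) (γ (algebraMap k _ r)) = _
      rw [AlgHom.commutes, ← IsScalarTower.algebraMap_apply] }

theorem deltaHom_apply (x : MvPolynomial Unit (MvPolynomial (Fin n) k)) :
    deltaHom γ G x = phi γ.toRingHom G (piG G x) := rfl

theorem deltaHom_surjective (hγ : Function.Surjective γ) :
    Function.Surjective (deltaHom γ G) :=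
  (phi_surjective G hγ).comp (piG_surjective G)

theorem piG_C (x : MvPolynomial (Fin n) k) :
    piG G (C x) = algebraMap (MvPolynomial (Fin n) k) (Localization.Away G) x := by
  simp [piG]

theorem ker_deltaHom (xs : List (MvPolynomial (Fin n) k))
    (hxs : (RingHom.ker γ.toRingHom).map
        (algebraMap (MvPolynomial (Fin n) k) (Localization.Away G)) =
      Ideal.ofList (xs.map (algebraMap (MvPolynomial (Fin n) k) (Localization.Away G)))) :
    RingHom.ker (deltaHom γ G).toRingHom = Ideal.ofList (xs.map C ++ [tau G]) := by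
  have h1 : RingHom.ker (deltaHom γ G).toRingHom =
      (RingHom.ker (phi γ.toRingHom G)).comap (piG G).toRingHom := by
    rw [RingHom.comap_ker]
    rfl
  have h2 : Ideal.ofList (xs.map (algebraMap (MvPolynomial (Fin n) k) (Localization.Away G))) =
      (Ideal.ofList (xs.map C)).map (piG G).toRingHom := by
    rw [Ideal.map_ofList, List.map_map]
    congr 1
    apply List.map_congr_left
    intro x _
    exact (piG_C G x).symm
  rw [h1, ker_phi, hxs, h2, Ideal.comap_map_of_surjective' _ (piG_surjective G), ker_piG,
    Ideal.ofList_append]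

theorem kr_rl (xs : List (MvPolynomial (Fin n) k))
    (h : LCI.IsKoszulRegularSeq (Localization.Away G)
      (xs.map (algebraMap (MvPolynomial (Fin n) k) (Localization.Away G)))) :
    LCI.IsKoszulRegularSeq (MvPolynomial Unit (MvPolynomial (Fin n) k))
      (xs.map C ++ [tau G]) := by
  apply Groth.Agent.Lib.Helper5.KosComp.isKoszulRegularSeq_append [tau G] (xs.map C) (kr_tau G)
  let e : (MvPolynomial Unit (MvPolynomial (Fin n) k) ⧸ Ideal.ofList [tau G]) ≃+*
      Localization.Away G :=
    (Ideal.quotEquivOfEq (ker_piG G).symm).trans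
      (RingHom.quotientKerEquivOfSurjective (piG_surjective G))
  have he : ∀ x : MvPolynomial (Fin n) k,
      e (Ideal.Quotient.mk _ (C x)) = algebraMap _ (Localization.Away G) x := by
    intro x
    change (piG G).toRingHom (C x) = _
    exact piG_C G x
  have h1 := isKoszulRegularSeq_ringEquiv e.symm _ h
  convert h1 using 1
  rw [List.map_map, List.map_map]
  apply List.map_congr_left
  intro x _
  change Ideal.Quotient.mk _ (C x) = e.symm (algebraMap _ (Localization.Away G) x)
  rw [← he x, RingEquiv.symm_apply_apply]

theorem ringKrullDim_D :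
    ringKrullDim (MvPolynomial Unit (MvPolynomial (Fin n) k)) = ((n + 1 : ℕ) : WithBot ℕ∞) := by
  rw [MvPolynomial.ringKrullDim_of_isNoetherianRing, MvPolynomial.ringKrullDim_of_isNoetherianRing,
    ringKrullDim_eq_zero_of_field]
  simp

theorem isGlobalCI_away_of_kr (hγ : Function.Surjective γ)
    (hnt : Nontrivial (Localization.Away (γ G)))
    (xs : List (MvPolynomial (Fin n) k))
    (hxs : (RingHom.ker γ.toRingHom).map
        (algebraMap (MvPolynomial (Fin n) k) (Localization.Away G)) =
      Ideal.ofList (xs.map (algebraMap (MvPolynomial (Fin n) k) (Localization.Away G))))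
    (hKR : LCI.IsKoszulRegularSeq (Localization.Away G)
      (xs.map (algebraMap (MvPolynomial (Fin n) k) (Localization.Away G)))) :
    Synt.IsGlobalCI k (Localization.Away (γ G)) := by
  have hker := ker_deltaHom γ G xs hxs
  have hft : Algebra.FiniteType k (MvPolynomial Unit (MvPolynomial (Fin n) k)) :=
    Algebra.FiniteType.trans (inferInstance : Algebra.FiniteType k (MvPolynomial (Fin n) k))
      inferInstance
  have hne : Ideal.ofList (xs.map C ++ [tau G]) ≠ ⊤ := by
    rw [← hker]
    exact RingHom.ker_ne_top _
  obtain ⟨hlen, hdim⟩ := dim_quotient_of_kr k _ (n + 1) ringKrullDim_D _ (kr_rl G xs hKR) hne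
  obtain ⟨rl, hrl⟩ : ∃ rl : List (MvPolynomial Unit (MvPolynomial (Fin n) k)),
      rl = xs.map C ++ [tau G] := ⟨_, rfl⟩
  rw [← hrl] at hker hlen hdim
  have hdimT : ringKrullDim (Localization.Away (γ G)) =
      ((1 + n - rl.length : ℕ) : WithBot ℕ∞) := by
    rw [add_comm 1 n, ← hdim]
    have hs : Function.Surjective (deltaHom γ G).toRingHom := deltaHom_surjective γ G hγ
    have e1 : ringKrullDim (MvPolynomial Unit (MvPolynomial (Fin n) k) ⧸
        RingHom.ker (deltaHom γ G).toRingHom) = ringKrullDim (Localization.Away (γ G)) :=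
      ringKrullDim_eq_of_ringEquiv (RingHom.quotientKerEquivOfSurjective hs)
    rw [← e1]
    exact ringKrullDim_eq_of_ringEquiv (Ideal.quotEquivOfEq hker)
  right
  refine ⟨1 + n, rl.length, by omega,
    (deltaHom γ G).comp (addVarEquiv (R := k) n).toAlgHom,
    fun i => (addVarEquiv (R := k) n).symm (rl.get i), ?_, ?_, hdimT⟩
  · exact (deltaHom_surjective γ G hγ).comp (addVarEquiv (R := k) n).surjective
  · have h1 : RingHom.ker ((deltaHom γ G).comp (addVarEquiv (R := k) n).toAlgHom).toRingHom =
        (RingHom.ker (deltaHom γ G).toRingHom).comap (addVarEquiv (R := k) n) := by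
      ext x
      rw [RingHom.mem_ker, Ideal.mem_comap, RingHom.mem_ker]
      rfl
    have h2 : (Set.range fun i => (addVarEquiv (R := k) n).symm (rl.get i)) =
        (addVarEquiv (R := k) n).symm '' (Set.range rl.get) := Set.range_comp _ _
    rw [h1, hker, ofList_eq_span_range_get, h2, ← Ideal.map_span]
    ext x
    rw [Ideal.mem_comap]
    constructor
    · intro hx
      have h3 := Ideal.mem_map_of_mem (addVarEquiv (R := k) n).symm hx
      rwa [AlgEquiv.symm_apply_apply] at h3
    · intro hx
      have h3 : Ideal.map (addVarEquiv (R := k) n).symm (Ideal.span (Set.range rl.get)) ≤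
          Ideal.comap (addVarEquiv (R := k) n) (Ideal.span (Set.range rl.get)) := by
        rw [Ideal.map_le_iff_le_comap]
        intro y hy
        rw [Ideal.mem_comap, Ideal.mem_comap, AlgEquiv.apply_symm_apply]
        exact hy
      exact h3 hx

end Groth.Agent.Lib.Helper5.CIField
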