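import Mathlib
import Groth.Agent.Lib.Helper5.CIFieldA
import Groth.Agent.Lib.Helper5.CIFieldB
import Groth.Agent.Lib.Helper5.CIFieldC
import Groth.Agent.Lib.Helper5.CIFieldE

/-!
# Helper5 — CIFieldF

Complete intersections over a field: the local criterion.  For a presentation `γ : k[x] ↠ S` and
a prime `q'` of `k[x]` containing `ker γ`: some basic open neighbourhood of `q'` in `Spec S` is a
global complete intersection iff `ker γ` is generated by a regular sequence in `k[x]_{q'}`.
-/

set_option autoImplicit false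
universe u

namespace Groth.Agent.Lib.Helper5.CIField

open RingTheory.Sequence IsLocalRing Groth.Agent.Lib.Helper5.RegSpreadRing

section LocalAlg

variable {R : Type u} [CommRing R] [IsLocalRing R] [IsNoetherianRing R]

theorem regular_iff_card (hCM : LocCoh.IsCohenMacaulayModule R R) (J : Ideal R)
    (hJ : J ≤ maximalIdeal R) (a b c : ℕ) (ha : ringKrullDim (R ⧸ J) = (a : WithBot ℕ∞))
    (hb : ringKrullDim R = (b : WithBot ℕ∞)) (hc : c + a = b) :
    (∃ rs : List R, IsRegular R rs ∧ Ideal.ofList rs = J) ↔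
      ∃ s : Finset R, s.card = c ∧ Ideal.span (s : Set R) = J := by
  classical
  constructor
  · rintro ⟨rs, hrs, hJrs⟩
    have ha' : ringKrullDim (R ⧸ Ideal.ofList rs) = (a : WithBot ℕ∞) := by
      rw [← ha]
      exact ringKrullDim_eq_of_ringEquiv (Ideal.quotEquivOfEq hJrs)
    have hlen := length_of_isRegular rs hrs a b ha' hb
    refine ⟨rs.toFinset, ?_, ?_⟩
    · rw [List.toFinset_card_of_nodup (nodup_of_isRegular rs hrs)]
      omega
    · rw [← hJrs, List.coe_toFinset]
  · rintro ⟨s, hs, hJs⟩
    have hof : Ideal.ofList s.toList = J := by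
      rw [← hJs]
      unfold Ideal.ofList
      congr 1
      ext x
      simp
    refine ⟨s.toList, ?_, hof⟩
    apply isRegular_of_dim_drop hCM
    · intro r hr
      apply hJ
      rw [← hof]
      exact Ideal.subset_span hr
    · have ha' : ringKrullDim (R ⧸ Ideal.ofList s.toList) = (a : WithBot ℕ∞) := by
        rw [← ha]
        exact ringKrullDim_eq_of_ringEquiv (Ideal.quotEquivOfEq hof)
      rw [ha', hb, Finset.length_toList, hs]
      exact_mod_cast (by omega : a + c = b)

end LocalAlg

variable {k S : Type u} [Field k] [CommRing S] [Algebra k S] {n : ℕ}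
  (γ : MvPolynomial (Fin n) k →ₐ[k] S) (hγ : Function.Surjective γ)
  (q' : Ideal (MvPolynomial (Fin n) k)) [hq : q'.IsPrime] (hq' : RingHom.ker γ.toRingHom ≤ q')

include hγ hq' in
theorem exists_isRegular_of_isGlobalCI_away (G : MvPolynomial (Fin n) k) (hG : G ∉ q')
    (h : Synt.IsGlobalCI k (Localization.Away (γ G))) :
    ∃ a : List (MvPolynomial (Fin n) k),
      IsRegular (Localization.AtPrime q')
        (a.map (algebraMap (MvPolynomial (Fin n) k) (Localization.AtPrime q'))) ∧
      (RingHom.ker γ.toRingHom).map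
          (algebraMap (MvPolynomial (Fin n) k) (Localization.AtPrime q')) =
        Ideal.ofList (a.map (algebraMap (MvPolynomial (Fin n) k) (Localization.AtPrime q'))) :=
  exists_isRegular_of_isLCI_away γ hγ q' hq' G hG (isLCI_of_isGlobalCI k _ h)

include hγ hq' in
theorem exists_isGlobalCI_away_of_isRegular
    (rs : List (Localization.AtPrime q')) (hrs : IsRegular (Localization.AtPrime q') rs)
    (hsp : Ideal.ofList rs = (RingHom.ker γ.toRingHom).map
      (algebraMap (MvPolynomial (Fin n) k) (Localization.AtPrime q'))) :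
    ∃ G : MvPolynomial (Fin n) k, G ∉ q' ∧ Synt.IsGlobalCI k (Localization.Away (γ G)) := by
  obtain ⟨g₁, hg₁, xs, hF, hS⟩ := exists_away_ideal_eq' q' (Localization.AtPrime q')
    (RingHom.ker γ.toRingHom) rs hsp.symm
  have hwr : IsWeaklyRegular (Localization.AtPrime q')
      (xs.map (algebraMap (MvPolynomial (Fin n) k) (Localization.AtPrime q'))) :=
    Groth.Agent.Lib.Helper7.RegSpread.isWeaklyRegular_of_forall₂_unit hF _ hrs.1
  obtain ⟨g₂, hg₂, hS₂⟩ := exists_away_weaklyRegular' q' (Localization.AtPrime q') xs hwr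
  have hG : g₁ * g₂ ∉ q' := fun hmem => (hq.mem_or_mem hmem).elim hg₁ hg₂
  refine ⟨g₁ * g₂, hG, ?_⟩
  have hnt : Nontrivial (Localization.Away (γ (g₁ * g₂))) := by
    rw [← not_subsingleton_iff_nontrivial,
      IsLocalization.subsingleton_iff (M := Submonoid.powers (γ (g₁ * g₂)))]
    rintro ⟨m, hm⟩
    apply hG
    apply hq.mem_of_pow_mem m
    apply hq'
    rw [RingHom.mem_ker]
    change γ ((g₁ * g₂) ^ m) = 0
    rw [map_pow]
    exact hm
  apply isGlobalCI_away_of_kr γ (g₁ * g₂) hγ hnt xs
  · apply hS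
    have h1 : IsUnit (algebraMap (MvPolynomial (Fin n) k) (Localization.Away (g₁ * g₂))
        (g₁ * g₂)) := IsLocalization.Away.algebraMap_isUnit _
    rw [map_mul] at h1
    exact isUnit_of_mul_isUnit_left h1
  · exact Groth.Agent.Lib.Helper5.RegImmB.isKoszulRegularSeq_of_isWeaklyRegular _
      (hS₂ (g₁ * g₂) (Dvd.intro_left g₁ rfl) (Localization.Away (g₁ * g₂)))

end Groth.Agent.Lib.Helper5.CIField
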