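import Groth.Agent.Lib.Helper5.CotSyzLocal
import Groth.Agent.Lib.helper19.RegularLocalQuot
import Groth.Agent.S12288
import Mathlib

set_option autoImplicit false
universe u

namespace Groth.Agent.Lib.Helper5.CotSyz

open CotT TensorProduct Groth.Agent.Lib.Helper1.Koszul Groth.Agent.Lib.Helper1.CotRel MvPolynomial

section pres

variable {A B : Type u} [CommRing A] [CommRing B] [Algebra A B]
  (hs : Function.Surjective (algebraMap A B)) {J : Type} (z : J → A)

noncomputable def zfam (j : J) : MvPolynomial PEmpty.{1} A := C (z j)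

noncomputable def famPres (hI : RingHom.ker (algebraMap A B) = Ideal.span (Set.range z)) :
    Algebra.Presentation A B PEmpty.{1} J where
  toGenerators := Groth.Agent.S12288.regGen hs
  relation := zfam z
  span_range_relation_eq_ker := by
    have h1 : Ideal.span (Set.range (zfam z)) =
        Ideal.map (C : A →+* MvPolynomial PEmpty.{1} A) (Ideal.span (Set.range z)) := by
      rw [Ideal.map_span, ← Set.range_comp]
      rfl
    rw [h1]
    ext p
    rw [Groth.Agent.S12288.mem_regGen_ker, ← RingHom.mem_ker, hI]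
    have h2 : p ∈ Ideal.map (C : A →+* MvPolynomial PEmpty.{1} A) (Ideal.span (Set.range z)) ↔
        (C (p.coeff 0) : MvPolynomial PEmpty.{1} A) ∈
          Ideal.map (C : A →+* MvPolynomial PEmpty.{1} A) (Ideal.span (Set.range z)) := by
      rw [← eq_C_of_isEmpty p]
    rw [h2, Groth.Agent.S12288.C_mem_map_iff]

end pres

theorem isRegular_prefix {A : Type u} [CommRing A] [IsLocalRing A] [IsNoetherianRing A]
    (l₁ l₂ : List A)
    (h : RingTheory.Sequence.IsRegular A (l₁ ++ l₂)) : RingTheory.Sequence.IsRegular A l₁ := by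
  have hw := ((RingTheory.Sequence.isWeaklyRegular_append_iff A l₁ l₂).1 h.toIsWeaklyRegular).1
  refine ⟨hw, ?_⟩
  intro htop
  apply h.top_ne_smul
  rw [eq_comm, eq_top_iff] at htop ⊢
  refine htop.trans (Submodule.smul_mono_left ?_)
  rw [Ideal.ofList_append]
  exact le_sup_left

theorem syz_of_regular_quotient {A : Type u} [CommRing A] [IsRegularLocalRing A] {J : Type}
    (z : J → A) [hq : IsRegularLocalRing (A ⧸ Ideal.span (Set.range z))] : Syz z := by
  let I : Ideal A := Ideal.span (Set.range z)
  have hd : ringKrullDim A = ((IsLocalRing.maximalIdeal A).spanFinrank : ℕ) :=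
    (IsRegularLocalRing.spanFinrank_maximalIdeal (R := A)).symm
  obtain ⟨l₁, l₂, hlen, hspan, hI⟩ :=
    Groth.Agent.Lib.helper19.exists_lists_of_quotient_regular_aux _ A I hd
  have hreg12 : RingTheory.Sequence.IsRegular A (l₁ ++ l₂) := by
    apply Groth.Agent.Lib.helper19.isRegular_of_ofList_eq_maximalIdeal A (l₁ ++ l₂) hspan
    rw [hd, List.length_append, hlen]
  have hreg1 := isRegular_prefix l₁ l₂ hreg12
  have hs : Function.Surjective (algebraMap A (A ⧸ I)) := Ideal.Quotient.mk_surjective
  have hker : RingHom.ker (algebraMap A (A ⧸ I)) = I := Ideal.mk_ker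
  have hker1 : RingHom.ker (algebraMap A (A ⧸ I)) = Ideal.ofList l₁ := hker.trans hI
  let P := famPres hs z hker
  have h2 : Subsingleton (T2 (canon A (A ⧸ I)) (L2 P)) :=
    Groth.Agent.S12288.result A (A ⧸ I) hs l₁ hreg1 hker1 (L2 P)
  obtain ⟨e2⟩ := Groth.Agent.Lib.Helper1.CotJoin.nonempty_T2_equiv_presentations P
    (canon A (A ⧸ I)) (L2 P)
  have h3 : Subsingleton (T2 P (L2 P)) := e2.toEquiv.subsingleton
  have h4 : Syz (rel P) := syz_of_subsingleton_T2 P h3
  exact Syz.of_ringEquiv (isEmptyRingEquiv A PEmpty.{1}).symm z (by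
    have : (fun j => (isEmptyRingEquiv A PEmpty.{1}).symm (z j)) = rel P := by
      funext j
      rw [isEmptyRingEquiv_symm_apply]
      rfl
    rw [this]
    exact h4)

end Groth.Agent.Lib.Helper5.CotSyz
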