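import Mathlib
import Groth.Agent.Lib.Helper5.RegSpreadSch
import Groth.Agent.Lib.Helper5.CotSyzReg
import Groth.Agent.Lib.Helper5.RegComp

/-!
# Immersions of regular schemes are regular immersions: auxiliary lemmas
-/

set_option autoImplicit false
universe u
open CategoryTheory CategoryTheory.Limits AlgebraicGeometry TopologicalSpace

namespace Groth.Agent.Lib.Helper5.RegSchImm

open RingTheory.Sequence

variable {X Z : Scheme.{u}} (i : Z ⟶ X)

theorem isClosedImmersion_restrict_of_le_coborderRange [IsImmersion i] {U : X.Opens}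
    (hU : U ≤ i.coborderRange) : IsClosedImmersion (i ∣_ U) := by
  have h1 : IsImmersion (i ∣_ U) := inferInstance
  apply IsClosedImmersion.of_isPreimmersion
  have hr : Set.range (i ∣_ U) = Subtype.val ⁻¹' (closure (Set.range i)) := by
    ext x
    constructor
    · rintro ⟨y, rfl⟩
      change ((i ∣_ U) y).1 ∈ closure (Set.range i)
      rw [morphismRestrict_base_coe]
      exact subset_closure ⟨_, rfl⟩
    · intro hxc
      have hx : x.1 ∈ coborder (Set.range i) ∩ closure (Set.range i) := ⟨hU x.2, hxc⟩
      rw [coborder_inter_closure] at hx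
      obtain ⟨z, hz⟩ := hx
      have hzU : z ∈ i ⁻¹ᵁ U := by
        change i z ∈ U
        rw [hz]; exact x.2
      refine ⟨⟨z, hzU⟩, Subtype.ext ?_⟩
      rw [morphismRestrict_base_coe]
      exact hz
  rw [hr]
  exact isClosed_closure.preimage continuous_subtype_val

/-- regular local ring modulo an ideal with regular local quotient: the ideal is generated by a
regular sequence -/
theorem exists_regular_of_surjective {R S : Type u} [CommRing R] [CommRing S]
    [IsRegularLocalRing R] [IsRegularLocalRing S] (φ : R →+* S) (hφ : Function.Surjective φ) :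
    ∃ l : List R, IsRegular R l ∧ RingHom.ker φ = Ideal.ofList l := by
  have e : (R ⧸ RingHom.ker φ) ≃+* S := RingHom.quotientKerEquivOfSurjective hφ
  have : IsRegularLocalRing (R ⧸ RingHom.ker φ) := IsRegularLocalRing.of_ringEquiv e.symm
  have hd : ringKrullDim R = ((IsLocalRing.maximalIdeal R).spanFinrank : ℕ) :=
    (IsRegularLocalRing.spanFinrank_maximalIdeal (R := R)).symm
  obtain ⟨l₁, l₂, hlen, hspan, hI⟩ :=
    Groth.Agent.Lib.helper19.exists_lists_of_quotient_regular_aux _ R (RingHom.ker φ) hd
  have hreg12 : IsRegular R (l₁ ++ l₂) := by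
    apply Groth.Agent.Lib.helper19.isRegular_of_ofList_eq_maximalIdeal R (l₁ ++ l₂) hspan
    rw [hd, List.length_append, hlen]
  exact ⟨l₁, Groth.Agent.Lib.Helper5.CotSyz.isRegular_prefix l₁ l₂ hreg12, hI⟩

theorem spanFinrank_ofList_le {R : Type u} [CommRing R] (L : List R) :
    (Ideal.ofList L).spanFinrank ≤ L.length := by
  classical
  have h1 : (Ideal.ofList L) = Submodule.span R (↑L.toFinset : Set R) := by
    unfold Ideal.ofList Ideal.span
    congr 1
    ext x
    simp
  rw [h1]
  refine (Submodule.spanFinrank_span_le_ncard_of_finite (Finset.finite_toSet _)).trans ?_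
  rw [Set.ncard_coe_finset]
  exact List.toFinset_card_le L

/-- a Noetherian local ring whose quotient by a regular sequence is regular is regular -/
theorem isRegularLocalRing_of_surjective_of_regular_ker {R S : Type u} [CommRing R] [CommRing S]
    [IsLocalRing R] [IsNoetherianRing R] [IsRegularLocalRing S] (φ : R →+* S)
    (hφ : Function.Surjective φ) (rs : List R) (hrs : IsRegular R rs)
    (hker : RingHom.ker φ = Ideal.ofList rs) : IsRegularLocalRing R := by
  have e : (R ⧸ RingHom.ker φ) ≃+* S := RingHom.quotientKerEquivOfSurjective hφ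
  have hreg : IsRegularLocalRing (R ⧸ RingHom.ker φ) := IsRegularLocalRing.of_ringEquiv e.symm
  rw [hker] at hreg
  have hdim := ringKrullDim_add_length_eq_ringKrullDim_of_isRegular rs hrs
  obtain ⟨l, hl, hl'⟩ := Groth.Agent.Lib.helper19.exists_list_ofList_eq
    (IsLocalRing.maximalIdeal (R ⧸ Ideal.ofList rs))
  have hm : IsLocalRing.maximalIdeal R =
      Ideal.ofList (l.map (Groth.Agent.Lib.helper19.quotLift (Ideal.ofList rs)) ++ rs) := by
    rw [Ideal.ofList_append, ← Groth.Agent.Lib.helper19.comap_mk_ofList, hl',
      Groth.Agent.Lib.helper19.comap_mk_maximalIdeal]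
  apply IsRegularLocalRing.of_spanFinrank_maximalIdeal_le
  rw [← hdim, ← IsRegularLocalRing.spanFinrank_maximalIdeal (R := R ⧸ Ideal.ofList rs), ← hl]
  have h2 := spanFinrank_ofList_le
    (l.map (Groth.Agent.Lib.helper19.quotLift (Ideal.ofList rs)) ++ rs)
  rw [← hm, List.length_append, List.length_map] at h2
  exact_mod_cast h2

end Groth.Agent.Lib.Helper5.RegSchImm
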