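import Mathlib
import Groth.Agent.Lib.Helper5.RegGens
import Groth.Agent.Lib.Helper5.RegSchImm

/-!
# Quotients of regular local rings: kernels generated by regular sequences, two-step version
-/

set_option autoImplicit false
universe u

namespace Groth.Agent.Lib.Helper5.RegTwo

open RingTheory.Sequence IsLocalRing Groth.Agent.Lib.Helper5.RegGens
open Groth.Agent.Lib.Helper5.RegComp Groth.Agent.Lib.Helper5.RegSchImm

theorem exists_regular_ker_of_comp {A B C : Type u} [CommRing A] [CommRing B] [CommRing C]
    [IsRegularLocalRing A] [IsRegularLocalRing B] (φ : A →+* B) (hφ : Function.Surjective φ)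
    (ψ : B →+* C) (rs : List A) (hrs : IsRegular A rs)
    (hker : RingHom.ker (ψ.comp φ) = Ideal.ofList rs) :
    ∃ ys : List B, IsRegular B ys ∧ RingHom.ker ψ = Ideal.ofList ys := by
  set I := RingHom.ker (ψ.comp φ) with hIdef
  have hJI : RingHom.ker φ ≤ I := fun a ha => by
    rw [hIdef, RingHom.mem_ker, RingHom.comp_apply, (RingHom.mem_ker).1 ha, map_zero]
  have hIne : I ≠ ⊤ := hker ▸ ofList_ne_top_of_isRegular hrs
  have hIm : I ≤ maximalIdeal A := le_maximalIdeal hIne
  have e : (A ⧸ RingHom.ker φ) ≃+* B := RingHom.quotientKerEquivOfSurjective hφ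
  have : IsRegularLocalRing (A ⧸ RingHom.ker φ) := IsRegularLocalRing.of_ringEquiv e.symm
  have hd : ringKrullDim A = ((maximalIdeal A).spanFinrank : ℕ) :=
    (IsRegularLocalRing.spanFinrank_maximalIdeal (R := A)).symm
  obtain ⟨l₁, l₂, hlen, hspan, hJ⟩ :=
    Groth.Agent.Lib.helper19.exists_lists_of_quotient_regular_aux _ A (RingHom.ker φ) hd
  have hind : ∀ p q x, l₁ = p ++ x :: q →
      x ∉ Ideal.ofList ([] ++ p) ⊔ maximalIdeal A * I := by
    intro p q x hpq hx
    rw [List.nil_append] at hx
    have hsub : Ideal.ofList (p ++ (q ++ l₂)) ≤ maximalIdeal A := by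
      rw [← hspan, hpq, Ideal.ofList, Ideal.ofList]
      apply Ideal.span_mono
      intro z hz
      have hz' : z ∈ p ++ (q ++ l₂) := hz
      change z ∈ (p ++ x :: q) ++ l₂
      simp only [List.mem_append, List.mem_cons] at hz' ⊢
      tauto
    have hle : maximalIdeal A ≤ Ideal.ofList (p ++ (q ++ l₂)) := by
      apply Submodule.le_of_le_smul_of_le_jacobson_bot (I := maximalIdeal A)
        (IsNoetherian.noetherian _)
        (IsLocalRing.jacobson_eq_maximalIdeal _ bot_ne_top).ge
      rw [smul_eq_mul]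
      conv_lhs => rw [← hspan, hpq]
      rw [Ideal.ofList, Ideal.span_le]
      intro z hz
      have hz' : z ∈ (p ++ x :: q) ++ l₂ := hz
      simp only [List.mem_append, List.mem_cons] at hz'
      have hsubset : ∀ w, w ∈ p ++ (q ++ l₂) →
          w ∈ Ideal.ofList (p ++ (q ++ l₂)) ⊔ maximalIdeal A * maximalIdeal A := fun w hw =>
        (le_sup_left : _ ≤ Ideal.ofList (p ++ (q ++ l₂)) ⊔ _) (Ideal.subset_span hw)
      rcases hz' with (h1 | h1 | h1) | h1
      · exact hsubset z (by simp [h1])
      · rw [h1]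
        refine (sup_le_sup ?_ (Ideal.mul_mono_right hIm)) hx
        rw [Ideal.ofList_append]
        exact le_sup_left
      · exact hsubset z (by simp [h1])
      · exact hsubset z (by simp [h1])
    have heq : maximalIdeal A = Ideal.ofList (p ++ (q ++ l₂)) := le_antisymm hle hsub
    have h1 := spanFinrank_ofList_le (p ++ (q ++ l₂))
    rw [← heq] at h1
    have h2 : l₁.length = p.length + (q.length + 1) := by rw [hpq]; simp
    simp only [List.length_append] at h1
    omega
  obtain ⟨gs', hlen', hI'⟩ := exists_adapted_generators I l₁ [] rs (by simpa using hker.symm)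
    (fun x hx => hJI (hJ ▸ Ideal.subset_span hx)) hind
  rw [List.nil_append] at hI'
  have hreg : IsRegular A (l₁ ++ gs') := by
    refine isRegular_of_ofList_eq rs (l₁ ++ gs') hrs ?_ (hI'.trans hker)
    rw [List.length_append]; omega
  refine ⟨gs'.map φ, isRegular_map_of_append φ hφ l₁ gs' hJ hreg, ?_⟩
  have h1 : RingHom.ker ψ = I.map φ := by
    rw [hIdef, ← RingHom.comap_ker, Ideal.map_comap_of_surjective φ hφ]
  rw [h1, ← hI', Ideal.map_ofList, List.map_append, Ideal.ofList_append]
  have h2 : Ideal.ofList (l₁.map φ) = ⊥ := by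
    rw [← Ideal.map_ofList, ← hJ, Ideal.map_eq_bot_iff_le_ker]
  rw [h2, bot_sup_eq]

end Groth.Agent.Lib.Helper5.RegTwo
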