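import Mathlib
import Groth.Agent.Lib.Helper5.RegTwo
import Groth.Agent.Lib.Helper5.RegSchImm
import Groth.Agent.Lib.Helper5.LciC

/-!
# Helper5 — CIFieldG

Essentially of finite type local algebras are quotients of local rings of polynomial rings, and
the comparison lemma: if one regular local presentation of a local algebra has kernel generated
by a regular sequence, so has every other one.
-/

set_option autoImplicit false
universe u

namespace Groth.Agent.Lib.Helper5.CIField

open RingTheory.Sequence IsLocalRing MvPolynomial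

section PolyLoc

variable {k : Type u} [CommRing k] {R : Type u} [CommRing R] [IsLocalRing R] [Algebra k R]
  {ι : Type} (v : ι → R)

/-- the prime of the polynomial ring below the maximal ideal -/
noncomputable def polyPrime : Ideal (MvPolynomial ι k) := (maximalIdeal R).comap (aeval (R := k) v)

instance polyPrime_isPrime : (polyPrime (k := k) v).IsPrime := Ideal.comap_isPrime _ _

variable (Q : Ideal (MvPolynomial ι k)) [Q.IsPrime] (hQ : Q = polyPrime (k := k) v)

include hQ in
theorem isUnit_aeval_of_not_mem (y : Q.primeCompl) :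
    IsUnit (aeval (R := k) v (y : MvPolynomial ι k)) := by
  by_contra h
  apply y.2
  have h1 : (y : MvPolynomial ι k) ∈ polyPrime (k := k) v := (mem_maximalIdeal _).2 h
  rw [← hQ] at h1
  exact h1

/-- the local ring of the polynomial ring maps to `R` -/
noncomputable def polyLocHom : Localization.AtPrime Q →ₐ[k] R :=
  IsLocalization.liftAlgHom (M := Q.primeCompl) (f := aeval (R := k) v)
    (isUnit_aeval_of_not_mem v Q hQ)

theorem polyLocHom_algebraMap (p : MvPolynomial ι k) :
    polyLocHom (k := k) v Q hQ (algebraMap _ _ p) = aeval v p := by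
  unfold polyLocHom
  rw [IsLocalization.liftAlgHom_apply, IsLocalization.lift_eq]
  rfl

theorem polyLocHom_surjective
    (hv : ∀ r : R, ∃ t ∈ Algebra.adjoin k (Set.range v), IsUnit t ∧
      r * t ∈ Algebra.adjoin k (Set.range v)) :
    Function.Surjective (polyLocHom (k := k) v Q hQ) := by
  intro r
  obtain ⟨t, ht, htu, hrt⟩ := hv r
  rw [Algebra.adjoin_range_eq_range_aeval] at ht hrt
  obtain ⟨Q', hQ'⟩ := ht
  obtain ⟨P, hP⟩ := hrt
  replace hQ' : aeval v Q' = t := hQ'
  replace hP : aeval v P = r * t := hP
  have hQ'' : Q' ∈ Q.primeCompl := by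
    intro hmem
    have hmem' : Q' ∈ Q := hmem
    rw [hQ] at hmem'
    have h1 : aeval v Q' ∈ maximalIdeal R := hmem'
    rw [hQ'] at h1
    exact (mem_maximalIdeal _).1 h1 htu
  refine ⟨IsLocalization.mk' _ P ⟨Q', hQ''⟩, ?_⟩
  have h2 : polyLocHom (k := k) v Q hQ (IsLocalization.mk' _ P ⟨Q', hQ''⟩) * t = r * t := by
    have h3 : t = polyLocHom (k := k) v Q hQ (algebraMap _ _ Q') := by
      rw [polyLocHom_algebraMap, hQ']
    conv_lhs => rw [h3]
    rw [← map_mul, IsLocalization.mk'_spec, polyLocHom_algebraMap, hP]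
  exact htu.mul_right_cancel h2

end PolyLoc

section Append

variable {A B : Type u} [CommRing A] [CommRing B]

/-- a regular sequence on the quotient by a regular sequence lifts to a longer one -/
theorem isRegular_append_of_map (φ : A →+* B) (hφ : Function.Surjective φ) (fs gs : List A)
    (hkf : RingHom.ker φ = Ideal.ofList fs) (hf : IsWeaklyRegular A fs)
    (hg : IsRegular B (gs.map φ)) : IsRegular A (fs ++ gs) := by
  refine ⟨?_, ?_⟩
  · rw [isWeaklyRegular_append_iff]
    refine ⟨hf, ?_⟩
    let _ : Algebra A B := φ.toAlgebra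
    have hsm : (Ideal.ofList fs • ⊤ : Submodule A A) = LinearMap.ker (Algebra.linearMap A B) := by
      rw [smul_eq_mul, Ideal.mul_top, ← hkf]
      rfl
    let e : (A ⧸ (Ideal.ofList fs • ⊤ : Submodule A A)) ≃ₗ[A] B :=
      (Submodule.quotEquivOfEq _ _ hsm).trans
        (LinearMap.quotKerEquivOfSurjective (Algebra.linearMap A B) hφ)
    rw [e.isWeaklyRegular_congr gs, ← isWeaklyRegular_map_algebraMap_iff B B gs]
    exact hg.1
  · rw [smul_eq_mul, Ideal.mul_top]
    intro htop
    apply hg.2
    rw [smul_eq_mul, Ideal.mul_top, ← Ideal.map_ofList, eq_comm, eq_top_iff]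
    have h1 : Ideal.ofList gs ⊔ RingHom.ker φ = ⊤ := by
      rw [hkf, sup_comm, ← Ideal.ofList_append]
      exact htop.symm
    calc (⊤ : Ideal B) = (⊤ : Ideal A).map φ := (Ideal.map_top φ).symm
      _ = (Ideal.ofList gs ⊔ RingHom.ker φ).map φ := by rw [h1]
      _ ≤ (Ideal.ofList gs).map φ := by
        rw [Ideal.map_sup, sup_le_iff]
        refine ⟨le_rfl, ?_⟩
        rw [Ideal.map_le_iff_le_comap]
        intro x hx
        rw [Ideal.mem_comap, (RingHom.mem_ker).1 hx]
        exact Ideal.zero_mem _

end Append

end Groth.Agent.Lib.Helper5.CIField
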