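import Mathlib
import Groth.Agent.Lib.Helper5.CIFieldG

/-!
# Helper5 — CIFieldH

Comparison lemma for complete intersection local algebras over a field.
-/

set_option autoImplicit false
universe u

namespace Groth.Agent.Lib.Helper5.CIField

open RingTheory.Sequence IsLocalRing MvPolynomial

variable {k : Type u} [Field k] {S R R₁ : Type u} [CommRing S] [IsLocalRing S] [Algebra k S]
  [CommRing R] [IsRegularLocalRing R] [Algebra k R] [Algebra.EssFiniteType k R]
  [CommRing R₁] [IsRegularLocalRing R₁] [Algebra k R₁] [Algebra.EssFiniteType k R₁]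

theorem exists_regular_ker_of_other
    (π : R →ₐ[k] S) (hπ : Function.Surjective π) (π₁ : R₁ →ₐ[k] S) (hπ₁ : Function.Surjective π₁)
    (rs₁ : List R₁) (hrs₁ : IsRegular R₁ rs₁)
    (hk₁ : RingHom.ker π₁.toRingHom = Ideal.ofList rs₁) :
    ∃ rs : List R, IsRegular R rs ∧ RingHom.ker π.toRingHom = Ideal.ofList rs := by
  classical
  obtain ⟨σ, hσ⟩ := (Algebra.essFiniteType_iff k R).1 inferInstance
  obtain ⟨σ₁, hσ₁⟩ := (Algebra.essFiniteType_iff k R₁).1 inferInstance
  let a : Fin σ.card → R := fun i => (σ.equivFin.symm i : R)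
  let b : Fin σ₁.card → R₁ := fun j => (σ₁.equivFin.symm j : R₁)
  let b' : Fin σ₁.card → R := fun j => Function.surjInv hπ (π₁ (b j))
  let a' : Fin σ.card → R₁ := fun i => Function.surjInv hπ₁ (π (a i))
  let v : Fin σ.card ⊕ Fin σ₁.card → R := Sum.elim a b'
  let v₁ : Fin σ.card ⊕ Fin σ₁.card → R₁ := Sum.elim a' b
  have hσv : (σ : Set R) ⊆ Set.range v := by
    intro x hx
    exact ⟨Sum.inl (σ.equivFin ⟨x, hx⟩), by simp [v, a]⟩
  have hσv₁ : (σ₁ : Set R₁) ⊆ Set.range v₁ := by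
    intro x hx
    exact ⟨Sum.inr (σ₁.equivFin ⟨x, hx⟩), by simp [v₁, b]⟩
  have hv : ∀ r : R, ∃ t ∈ Algebra.adjoin k (Set.range v), IsUnit t ∧
      r * t ∈ Algebra.adjoin k (Set.range v) := by
    intro r
    obtain ⟨t, ht, htu, hrt⟩ := hσ r
    exact ⟨t, Algebra.adjoin_mono hσv ht, htu, Algebra.adjoin_mono hσv hrt⟩
  have hv₁ : ∀ r : R₁, ∃ t ∈ Algebra.adjoin k (Set.range v₁), IsUnit t ∧
      r * t ∈ Algebra.adjoin k (Set.range v₁) := by
    intro r
    obtain ⟨t, ht, htu, hrt⟩ := hσ₁ r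
    exact ⟨t, Algebra.adjoin_mono hσv₁ ht, htu, Algebra.adjoin_mono hσv₁ hrt⟩
  have hcomp : π.comp (aeval v) = π₁.comp (aeval v₁) := by
    apply MvPolynomial.algHom_ext
    intro i
    rcases i with i | j
    · simp only [AlgHom.comp_apply, aeval_X, v, v₁, Sum.elim_inl, a']
      rw [Function.surjInv_eq hπ₁]
    · simp only [AlgHom.comp_apply, aeval_X, v, v₁, Sum.elim_inr, b']
      rw [Function.surjInv_eq hπ]
  have hloc : IsLocalHom π.toRingHom := IsLocalHom.of_surjective _ hπ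
  have hloc₁ : IsLocalHom π₁.toRingHom := IsLocalHom.of_surjective _ hπ₁
  have hQ₁ : polyPrime (k := k) v = polyPrime (k := k) v₁ := by
    unfold polyPrime
    rw [← IsLocalRing.maximalIdeal_comap π.toRingHom, ← IsLocalRing.maximalIdeal_comap π₁.toRingHom]
    ext p
    simp only [Ideal.mem_comap]
    change π.comp (aeval v) p ∈ _ ↔ π₁.comp (aeval v₁) p ∈ _
    rw [hcomp]
  obtain ⟨Q, hQ⟩ : ∃ Q : Ideal (MvPolynomial (Fin σ.card ⊕ Fin σ₁.card) k),
      Q = polyPrime (k := k) v := ⟨_, rfl⟩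
  have hQp : Q.IsPrime := hQ ▸ polyPrime_isPrime v
  have hQ' : Q = polyPrime (k := k) v₁ := hQ.trans hQ₁
  have hΘ := polyLocHom_surjective v Q hQ hv
  have hΘ₁ := polyLocHom_surjective v₁ Q hQ' hv₁
  have hcompΘ : π.toRingHom.comp (polyLocHom (k := k) v Q hQ).toRingHom =
      π₁.toRingHom.comp (polyLocHom (k := k) v₁ Q hQ').toRingHom := by
    apply IsLocalization.ringHom_ext Q.primeCompl
    ext p
    · change π (polyLocHom (k := k) v Q hQ (algebraMap _ _ (C p))) =
        π₁ (polyLocHom (k := k) v₁ Q hQ' (algebraMap _ _ (C p)))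
      rw [polyLocHom_algebraMap, polyLocHom_algebraMap]
      exact DFunLike.congr_fun hcomp (C p)
    · change π (polyLocHom (k := k) v Q hQ (algebraMap _ _ (X p))) =
        π₁ (polyLocHom (k := k) v₁ Q hQ' (algebraMap _ _ (X p)))
      rw [polyLocHom_algebraMap, polyLocHom_algebraMap]
      exact DFunLike.congr_fun hcomp (X p)
  have hreg' : IsRegularLocalRing (Localization.AtPrime Q) := inferInstance
  obtain ⟨z, hz, hkz⟩ := Groth.Agent.Lib.Helper5.RegSchImm.exists_regular_of_surjective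
    (polyLocHom (k := k) v₁ Q hQ').toRingHom hΘ₁
  obtain ⟨gs, hgs⟩ : ∃ gs : List (Localization.AtPrime Q),
      gs.map (polyLocHom (k := k) v₁ Q hQ').toRingHom = rs₁ := by
    refine ⟨rs₁.map (Function.surjInv hΘ₁), ?_⟩
    rw [List.map_map]
    conv_rhs => rw [← List.map_id rs₁]
    apply List.map_congr_left
    intro x _
    exact Function.surjInv_eq hΘ₁ x
  have hreg : IsRegular (Localization.AtPrime Q) (z ++ gs) :=
    isRegular_append_of_map _ hΘ₁ z gs hkz hz.1 (by rw [hgs]; exact hrs₁)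
  have hker : RingHom.ker (π.toRingHom.comp (polyLocHom (k := k) v Q hQ).toRingHom) =
      Ideal.ofList (z ++ gs) := by
    rw [hcompΘ, ← RingHom.comap_ker, hk₁, ← hgs, ← Ideal.map_ofList,
      Ideal.comap_map_of_surjective' (polyLocHom (k := k) v₁ Q hQ').toRingHom hΘ₁, hkz,
      Ideal.ofList_append, sup_comm]
  exact Groth.Agent.Lib.Helper5.RegTwo.exists_regular_ker_of_comp _ hΘ π.toRingHom (z ++ gs)
    hreg hker

end Groth.Agent.Lib.Helper5.CIField
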