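import Mathlib
import Groth.Prelude.Def_RegImm
import Groth.Agent.Lib.Helper5.CIFieldF
import Groth.Agent.Lib.Helper5.CIFieldH

/-!
# Helper5 — CIFieldI

Complete intersection local algebras (`Synt.IsCIOver`) via regular local presentations, and the
local ring of a finite type algebra at a prime.
-/

set_option autoImplicit false
universe u

namespace Groth.Agent.Lib.Helper5.CIField

open RingTheory.Sequence IsLocalRing MvPolynomial

section General

variable {k : Type u} [Field k] {S : Type u} [CommRing S] [IsLocalRing S] [Algebra k S]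

theorem isCIOver_of_regular {R : Type u} [CommRing R] [IsRegularLocalRing R] [Algebra k R]
    [Algebra.EssFiniteType k R] (π : R →ₐ[k] S) (hπ : Function.Surjective π)
    (rs : List R) (hrs : IsRegular R rs) (hk : RingHom.ker π.toRingHom = Ideal.ofList rs) :
    Synt.IsCIOver k S := by
  refine ⟨R, inferInstance, inferInstance, inferInstance, inferInstance, rs, ?_, hrs, ?_⟩
  · intro r hr
    have hne : Ideal.ofList rs ≠ ⊤ := by
      have := hrs.2
      rw [smul_eq_mul, Ideal.mul_top] at this
      exact fun h => this h.symm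
    exact le_maximalIdeal hne (Ideal.subset_span hr)
  · have e1 : (R ⧸ RingHom.ker π.toRingHom) ≃ₐ[k] S :=
      Ideal.quotientKerAlgEquivOfSurjective hπ
    have e2 : (R ⧸ RingHom.ker π.toRingHom) ≃ₐ[k] (R ⧸ Ideal.ofList rs) :=
      Ideal.quotientEquivAlgOfEq k hk
    exact ⟨e1.symm.trans e2⟩

theorem IsCIOver.exists_regular_ker (h : Synt.IsCIOver k S)
    {R : Type u} [CommRing R] [IsRegularLocalRing R] [Algebra k R]
    [Algebra.EssFiniteType k R] (π : R →ₐ[k] S) (hπ : Function.Surjective π) :
    ∃ rs : List R, IsRegular R rs ∧ RingHom.ker π.toRingHom = Ideal.ofList rs := by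
  obtain ⟨R₁, i1, i2, i3, i4, rs₁, hmem, hrs₁, ⟨e⟩⟩ := h
  let π₁ : R₁ →ₐ[k] S := (e.symm : (R₁ ⧸ Ideal.ofList rs₁) →ₐ[k] S).comp
    (Ideal.Quotient.mkₐ k (Ideal.ofList rs₁))
  have hπ₁ : Function.Surjective π₁ :=
    e.symm.surjective.comp (Ideal.Quotient.mkₐ_surjective k _)
  have hk₁ : RingHom.ker π₁.toRingHom = Ideal.ofList rs₁ := by
    ext x
    rw [RingHom.mem_ker]
    change e.symm (Ideal.Quotient.mk _ x) = 0 ↔ _
    rw [EmbeddingLike.map_eq_zero_iff, Ideal.Quotient.eq_zero_iff_mem]
  exact exists_regular_ker_of_other π hπ π₁ hπ₁ rs₁ hrs₁ hk₁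

end General

section AtPrime

variable {k S : Type u} [Field k] [CommRing S] [Algebra k S] {n : ℕ}
  (γ : MvPolynomial (Fin n) k →ₐ[k] S) (q : Ideal S) [q.IsPrime]
  (q' : Ideal (MvPolynomial (Fin n) k)) [q'.IsPrime] (hq : q' = q.comap γ.toRingHom)

/-- the surjection of local rings induced by a presentation -/
noncomputable def locHom : Localization.AtPrime q' →ₐ[k] Localization.AtPrime q :=
  { toRingHom := Localization.localRingHom q' q γ.toRingHom hq
    commutes' := fun r => by
      change Localization.localRingHom q' q γ.toRingHom hq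
        (algebraMap (MvPolynomial (Fin n) k) _ (algebraMap k _ r)) = _
      rw [Localization.localRingHom_to_map]
      change algebraMap S _ (γ (algebraMap k _ r)) = _
      rw [AlgHom.commutes, ← IsScalarTower.algebraMap_apply] }

theorem locHom_surjective (hγ : Function.Surjective γ) :
    Function.Surjective (locHom γ q q' hq) := by
  subst hq
  exact RingHom.surjective_localRingHom_of_surjective γ.toRingHom hγ q

theorem ker_locHom (hγ : Function.Surjective γ) :
    RingHom.ker (locHom γ q q' hq).toRingHom =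
      (RingHom.ker γ.toRingHom).map
        (algebraMap (MvPolynomial (Fin n) k) (Localization.AtPrime q')) := by
  subst hq
  have hT : Submonoid.map γ.toRingHom (q.comap γ.toRingHom).primeCompl = q.primeCompl :=
    Submonoid.map_comap_eq_of_surjective hγ q.primeCompl
  exact IsLocalization.ker_map (Localization.AtPrime q) γ.toRingHom hT

instance essFiniteType_atPrime : Algebra.EssFiniteType k (Localization.AtPrime q') :=
  have : Algebra.EssFiniteType (MvPolynomial (Fin n) k) (Localization.AtPrime q') :=
    Algebra.EssFiniteType.of_isLocalization _ q'.primeCompl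
  Algebra.EssFiniteType.comp k (MvPolynomial (Fin n) k) (Localization.AtPrime q')

include hq in
theorem isCIOver_atPrime_iff_regular (hγ : Function.Surjective γ) :
    Synt.IsCIOver k (Localization.AtPrime q) ↔
      ∃ rs : List (Localization.AtPrime q'), IsRegular (Localization.AtPrime q') rs ∧
        Ideal.ofList rs = (RingHom.ker γ.toRingHom).map
          (algebraMap (MvPolynomial (Fin n) k) (Localization.AtPrime q')) := by
  constructor
  · intro h
    obtain ⟨rs, hrs, hk⟩ := IsCIOver.exists_regular_ker h (locHom γ q q' hq)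
      (locHom_surjective γ q q' hq hγ)
    exact ⟨rs, hrs, by rw [← hk, ker_locHom γ q q' hq hγ]⟩
  · rintro ⟨rs, hrs, hsp⟩
    exact isCIOver_of_regular (locHom γ q q' hq) (locHom_surjective γ q q' hq hγ) rs hrs
      (by rw [hsp, ker_locHom γ q q' hq hγ])

include hq in
theorem isCIOver_atPrime_iff_exists_away (hγ : Function.Surjective γ) :
    Synt.IsCIOver k (Localization.AtPrime q) ↔
      ∃ g : S, g ∉ q ∧ Synt.IsGlobalCI k (Localization.Away g) := by
  have hkq' : RingHom.ker γ.toRingHom ≤ q' := by
    rw [hq]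
    intro x hx
    rw [Ideal.mem_comap, (RingHom.mem_ker).1 hx]
    exact Ideal.zero_mem _
  rw [isCIOver_atPrime_iff_regular γ q q' hq hγ]
  constructor
  · rintro ⟨rs, hrs, hsp⟩
    obtain ⟨G, hG, h⟩ := exists_isGlobalCI_away_of_isRegular γ hγ q' hkq' rs hrs hsp
    refine ⟨γ G, ?_, h⟩
    intro hmem
    apply hG
    rw [hq]
    exact hmem
  · rintro ⟨g, hg, h⟩
    obtain ⟨G, rfl⟩ := hγ g
    have hG : G ∉ q' := by
      rw [hq]
      exact hg
    obtain ⟨a, ha, hsp⟩ := exists_isRegular_of_isGlobalCI_away γ hγ q' hkq' G hG h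
    exact ⟨_, ha, hsp.symm⟩

end AtPrime

end Groth.Agent.Lib.Helper5.CIField
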