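import Mathlib
import Groth.Agent.Lib.Helper5.CIFieldI
import Groth.Agent.Lib.Helper25.GlobalCI

/-!
# Helper5 — CIFieldJ

Local rings of finite type algebras over a field: complete intersection local rings versus
global/local complete intersection neighbourhoods.
-/

set_option autoImplicit false
universe u

namespace Groth.Agent.Lib.Helper5.CIField

open Groth.Agent.Lib.Helper25.GlobalCI

variable {k : Type u} [Field k]

theorem IsCIOver.of_algEquiv {S S' : Type u} [CommRing S] [IsLocalRing S] [Algebra k S]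
    [CommRing S'] [IsLocalRing S'] [Algebra k S'] (e : S ≃ₐ[k] S') (h : Synt.IsCIOver k S) :
    Synt.IsCIOver k S' := by
  obtain ⟨R, i1, i2, i3, i4, rs, hmem, hrs, ⟨e₀⟩⟩ := h
  exact ⟨R, i1, i2, i3, i4, rs, hmem, hrs, ⟨e.symm.trans e₀⟩⟩

theorem isLCIOver_of_isGlobalCI {T : Type u} [CommRing T] [Algebra k T]
    [hft : Algebra.FiniteType k T] (h : Synt.IsGlobalCI k T) : Synt.IsLCIOver k T :=
  ⟨hft, fun p => ⟨1, (Ideal.ne_top_iff_one _).1 p.2.ne_top, isGlobalCI_away h 1⟩⟩

variable {S : Type u} [CommRing S] [Algebra k S] [Algebra.FiniteType k S]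

theorem isCIOver_atPrime_iff (q : Ideal S) [q.IsPrime] :
    Synt.IsCIOver k (Localization.AtPrime q) ↔
      ∃ g : S, g ∉ q ∧ Synt.IsGlobalCI k (Localization.Away g) := by
  obtain ⟨n, γ, hγ⟩ := Algebra.FiniteType.iff_quotient_mvPolynomial''.1
    (inferInstance : Algebra.FiniteType k S)
  exact isCIOver_atPrime_iff_exists_away γ q (q.comap γ.toRingHom) rfl hγ

theorem isCIOver_atPrime_of_isLCIOver_away (q : Ideal S) [hq : q.IsPrime] (g : S) (hg : g ∉ q)
    (h : Synt.IsLCIOver k (Localization.Away g)) : Synt.IsCIOver k (Localization.AtPrime q) := by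
  have hft : Algebra.FiniteType k (Localization.Away g) := h.1
  have hdisj : Disjoint (Submonoid.powers g : Set S) (q : Set S) := by
    rw [Set.disjoint_left]
    rintro _ ⟨m, rfl⟩ hm
    exact hg (hq.mem_of_pow_mem m hm)
  have hp : (q.map (algebraMap S (Localization.Away g))).IsPrime :=
    IsLocalization.isPrime_of_isPrime_disjoint (Submonoid.powers g) _ q hq hdisj
  have hcomap : (q.map (algebraMap S (Localization.Away g))).comap
      (algebraMap S (Localization.Away g)) = q :=
    IsLocalization.under_map_of_isPrime_disjoint (Submonoid.powers g) _ hq hdisj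
  obtain ⟨p, hpdef⟩ : ∃ p : Ideal (Localization.Away g),
      p = q.map (algebraMap S (Localization.Away g)) := ⟨_, rfl⟩
  rw [← hpdef] at hp hcomap
  obtain ⟨h', hh', hG⟩ := h.2 ⟨p, hp⟩
  have h1 : Synt.IsCIOver k (Localization.AtPrime p) :=
    (isCIOver_atPrime_iff p).2 ⟨h', hh', hG⟩
  let e := (IsLocalization.localizationLocalizationAtPrimeIsoLocalization
    (Submonoid.powers g) p).restrictScalars k
  have h2 : Synt.IsCIOver k (Localization.AtPrime (p.comap (algebraMap S (Localization.Away g)))) :=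
    IsCIOver.of_algEquiv e.symm h1
  obtain ⟨g', hg', hG'⟩ := (isCIOver_atPrime_iff _).1 h2
  rw [hcomap] at hg'
  exact (isCIOver_atPrime_iff q).2 ⟨g', hg', hG'⟩

end Groth.Agent.Lib.Helper5.CIField
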