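import Mathlib
import Groth.Agent.Lib.Helper5.CIFieldJ
import Groth.Agent.Lib.Helper25.SyntLocal
import Groth.Agent.S9365

/-!
# Helper5 — CIFieldL

Syntomic algebras over a field are exactly the local complete intersections.
-/

set_option autoImplicit false
universe u

namespace Groth.Agent.Lib.Helper5.CIField

open TensorProduct Groth.Agent.Lib.Helper25.SyntLocal Groth.Agent.Lib.Helper25.GlobalCI

theorem isSyntomic_of_isLCIOver_field (K : Type u) [Field K] (F : Type u) [CommRing F]
    [Algebra K F] (h : Synt.IsLCIOver K F) : Synt.IsSyntomic K F := by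
  have hft : Algebra.FiniteType K F := h.1
  refine ⟨inferInstance,
    (Algebra.FinitePresentation.of_finiteType (R := K) (A := F)).1 hft, fun p => ?_⟩
  have hPp : p.asIdeal.IsPrime := p.2
  let σ : K ≃ₐ[K] p.asIdeal.ResidueField := Ideal.algEquivResidueFieldOfField p.asIdeal
  let e : p.asIdeal.ResidueField ⊗[K] F ≃ₐ[K] F :=
    (Algebra.TensorProduct.congr σ.symm AlgEquiv.refl).trans (Algebra.TensorProduct.lid K F)
  refine isLCIOver_of_semilinear σ.toRingEquiv e.symm.toRingEquiv (fun c => ?_) h
  change e.symm (algebraMap K F c) = _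
  rw [AlgEquiv.symm_apply_eq]
  change _ = e (algebraMap _ _ (σ c))
  rw [Algebra.TensorProduct.algebraMap_apply]
  simp [e, Algebra.algebraMap_eq_smul_one]

theorem isSyntomic_field_iff (K : Type u) [Field K] (F : Type u) [CommRing F] [Algebra K F] :
    Synt.IsSyntomic K F ↔ Synt.IsLCIOver K F :=
  ⟨Groth.Agent.S9365.isLCIOver_of_isSyntomic_field K F, isSyntomic_of_isLCIOver_field K F⟩

/-- base change of the base ring along a bijection -/
theorem isSyntomic_iff_of_bijective {R R' T : Type u} [CommRing R] [CommRing R'] [CommRing T]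
    [Algebra R R'] [Algebra R T] [Algebra R' T] [IsScalarTower R R' T]
    (hb : Function.Bijective (algebraMap R R')) :
    Synt.IsSyntomic R T ↔ Synt.IsSyntomic R' T := by
  have : IsLocalization.Away (1 : R) R' :=
    IsLocalization.away_of_isUnit_of_bijective R' isUnit_one hb
  exact isSyntomic_iff_of_away (1 : R) R' T

end Groth.Agent.Lib.Helper5.CIField
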