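import Mathlib
import Groth.Agent.Lib.Helper5.CIFieldL

/-!
# Helper5 — CIFieldM

Schemes locally of finite type over a field: sections over affine opens and stalks as
`k`-algebras, and the complete intersection conditions.
-/

set_option autoImplicit false
set_option linter.style.haveILetI false
universe u

namespace Groth.Agent.Lib.Helper5.CIField

open AlgebraicGeometry CategoryTheory Groth.Agent.Lib.Helper25.SyntLocal
  Groth.Agent.Lib.Helper25.GlobalCI

variable {k : Type u} [Field k] {X : Scheme.{u}} (p : X ⟶ Spec (CommRingCat.of k))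

/-- the `k`-algebra structure on sections -/
noncomputable abbrev algU (U : X.Opens) : Algebra k Γ(X, U) :=
  ((Scheme.ΓSpecIso (CommRingCat.of k)).inv ≫ p.appLE ⊤ U le_top).hom.toAlgebra

/-- the `k`-algebra structure on stalks -/
noncomputable abbrev algStalk (x : X) : Algebra k (X.presheaf.stalk x) :=
  ((Scheme.ΓSpecIso (CommRingCat.of k)).inv ≫ p.appLE ⊤ ⊤ le_top ≫
    X.presheaf.germ ⊤ x trivial).hom.toAlgebra

theorem algU_res {U V : X.Opens} (i : V ⟶ U) (c : k) :
    (X.presheaf.map i.op).hom (@algebraMap k Γ(X, U) _ _ (algU p U) c) =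
      @algebraMap k Γ(X, V) _ _ (algU p V) c := by
  change (X.presheaf.map i.op).hom ((p.appLE ⊤ U le_top).hom _) = (p.appLE ⊤ V le_top).hom _
  rw [← Scheme.Hom.appLE_map p le_top i.op]
  rfl

theorem algStalk_germ {U : X.Opens} (x : X) (hx : x ∈ U) (c : k) :
    (X.presheaf.germ U x hx).hom (@algebraMap k Γ(X, U) _ _ (algU p U) c) =
      @algebraMap k (X.presheaf.stalk x) _ _ (algStalk p x) c := by
  have h1 := algU_res p (homOfLE le_top : U ⟶ ⊤) c
  rw [← h1]
  change _ = (X.presheaf.germ ⊤ x trivial).hom ((p.appLE ⊤ ⊤ le_top).hom _)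
  have h2 := X.presheaf.germ_res (homOfLE le_top : U ⟶ ⊤) x hx
  rw [← h2]
  rfl

theorem isSyntomic_appLE_iff (U : X.Opens) :
    (letI := (p.appLE ⊤ U le_top).hom.toAlgebra
     Synt.IsSyntomic Γ(Spec (CommRingCat.of k), ⊤) Γ(X, U)) ↔
    (letI := algU p U
     Synt.IsLCIOver k Γ(X, U)) := by
  letI a1 : Algebra k Γ(Spec (CommRingCat.of k), ⊤) :=
    (Scheme.ΓSpecIso (CommRingCat.of k)).inv.hom.toAlgebra
  letI a2 : Algebra Γ(Spec (CommRingCat.of k), ⊤) Γ(X, U) := (p.appLE ⊤ U le_top).hom.toAlgebra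
  letI a3 : Algebra k Γ(X, U) := algU p U
  have : IsScalarTower k Γ(Spec (CommRingCat.of k), ⊤) Γ(X, U) :=
    IsScalarTower.of_algebraMap_eq (fun _ => rfl)
  have hb : Function.Bijective (algebraMap k Γ(Spec (CommRingCat.of k), ⊤)) :=
    ConcreteCategory.bijective_of_isIso (Scheme.ΓSpecIso (CommRingCat.of k)).inv
  exact (isSyntomic_iff_of_bijective hb).symm.trans (isSyntomic_field_iff k _)

theorem isGlobalCI_basicOpen_iff {U : X.Opens} (hU : IsAffineOpen U) (g : Γ(X, U)) :
    (letI := algU p U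
     Synt.IsGlobalCI k (Localization.Away g)) ↔
    (letI := algU p (X.basicOpen g)
     Synt.IsGlobalCI k Γ(X, X.basicOpen g)) := by
  letI a1 : Algebra k Γ(X, U) := algU p U
  letI a2 : Algebra k Γ(X, X.basicOpen g) := algU p (X.basicOpen g)
  have hloc : IsLocalization.Away g Γ(X, X.basicOpen g) := hU.isLocalization_basicOpen g
  have : IsScalarTower k Γ(X, U) Γ(X, X.basicOpen g) :=
    IsScalarTower.of_algebraMap_eq (fun c => (algU_res p _ c).symm)
  let e : Localization.Away g ≃ₐ[k] Γ(X, X.basicOpen g) :=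
    (IsLocalization.algEquiv (Submonoid.powers g) (Localization.Away g)
      Γ(X, X.basicOpen g)).restrictScalars k
  exact ⟨Groth.Agent.Lib.Helper25.FiniteSyntomic.isGlobalCI_of_algEquiv k _ _ e,
    Groth.Agent.Lib.Helper25.FiniteSyntomic.isGlobalCI_of_algEquiv k _ _ e.symm⟩

theorem isCIOver_stalk_iff {U : X.Opens} (hU : IsAffineOpen U) (x : X) (hx : x ∈ U) :
    (letI := algStalk p x
     Synt.IsCIOver k (X.presheaf.stalk x)) ↔
    (letI := algU p U
     Synt.IsCIOver k (Localization.AtPrime (hU.primeIdealOf ⟨x, hx⟩).asIdeal)) := by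
  letI a1 : Algebra k Γ(X, U) := algU p U
  letI a2 : Algebra k (X.presheaf.stalk x) := algStalk p x
  letI a3 : Algebra Γ(X, U) (X.presheaf.stalk x) :=
    TopCat.Presheaf.algebra_section_stalk X.presheaf ⟨x, hx⟩
  have hloc : IsLocalization.AtPrime (X.presheaf.stalk x) (hU.primeIdealOf ⟨x, hx⟩).asIdeal :=
    hU.isLocalization_stalk ⟨x, hx⟩
  have : IsScalarTower k Γ(X, U) (X.presheaf.stalk x) :=
    IsScalarTower.of_algebraMap_eq (fun c => (algStalk_germ p x hx c).symm)
  let e : Localization.AtPrime (hU.primeIdealOf ⟨x, hx⟩).asIdeal ≃ₐ[k] X.presheaf.stalk x :=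
    (IsLocalization.algEquiv (hU.primeIdealOf ⟨x, hx⟩).asIdeal.primeCompl
      (Localization.AtPrime (hU.primeIdealOf ⟨x, hx⟩).asIdeal)
      (X.presheaf.stalk x)).restrictScalars k
  exact ⟨IsCIOver.of_algEquiv e.symm, IsCIOver.of_algEquiv e⟩

theorem finiteType_sections [LocallyOfFiniteType p] {U : X.Opens} (hU : IsAffineOpen U) :
    letI := algU p U
    Algebra.FiniteType k Γ(X, U) := by
  letI a1 : Algebra k Γ(X, U) := algU p U
  have h1 : (p.appLE ⊤ U le_top).hom.FiniteType :=
    HasRingHomProperty.appLE (P := @LocallyOfFiniteType) p inferInstance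
      ⟨⊤, isAffineOpen_top _⟩ ⟨U, hU⟩ le_top
  have h2 : ((Scheme.ΓSpecIso (CommRingCat.of k)).inv ≫ p.appLE ⊤ U le_top).hom.FiniteType := by
    rw [CommRingCat.hom_comp]
    exact h1.comp (RingHom.FiniteType.of_surjective _
      (ConcreteCategory.bijective_of_isIso (Scheme.ΓSpecIso (CommRingCat.of k)).inv).2)
  exact h2

end Groth.Agent.Lib.Helper5.CIField
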