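import Groth.Agent.Lib.Helper5.IndPresD
import Groth.Agent.Lib.Helper5.CIFieldM
import Groth.Agent.Lib.Helper12.CMCatE

/-!
# The two notions of complete intersection local ring agree for local rings essentially of
finite type over a field
-/

set_option autoImplicit false
universe u

namespace Groth.Agent.Lib.Helper5.IndPres

open IsLocalRing RingTheory.Sequence Groth.Agent.Lib.Helper5.CIField AlgebraicGeometry

theorem isCompleteIntersection_of_ringEquiv {S S' : Type u} [CommRing S] [CommRing S']
    [IsLocalRing S] [IsLocalRing S'] (e : S ≃+* S') (h : Pi1.IsCompleteIntersection S) :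
    Pi1.IsCompleteIntersection S' := by
  obtain ⟨B, i1, i2, rs, hmem, hreg, ⟨e1⟩⟩ := h
  obtain ⟨e2⟩ := Groth.Agent.Lib.Helper12.CMCat.nonempty_cpl_ringEquiv e
  exact ⟨B, i1, i2, rs, hmem, hreg, ⟨e2.symm.trans e1⟩⟩

theorem isCompleteIntersection_ringEquiv_iff {S S' : Type u} [CommRing S] [CommRing S']
    [IsLocalRing S] [IsLocalRing S'] (e : S ≃+* S') :
    Pi1.IsCompleteIntersection S ↔ Pi1.IsCompleteIntersection S' :=
  ⟨isCompleteIntersection_of_ringEquiv e, isCompleteIntersection_of_ringEquiv e.symm⟩

/-- for a local algebra which is a quotient of a regular local algebra essentially of finite type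
over a field, the two notions of complete intersection agree -/
theorem isCompleteIntersection_iff_isCIOver_of_surjective {k R T : Type u} [Field k] [CommRing R]
    [IsRegularLocalRing R] [Algebra k R] [Algebra.EssFiniteType k R] [CommRing T] [IsLocalRing T]
    [Algebra k T] (π : R →ₐ[k] T) (hπ : Function.Surjective π) :
    Pi1.IsCompleteIntersection T ↔ Synt.IsCIOver k T := by
  have hI : RingHom.ker π.toRingHom ≠ ⊤ := RingHom.ker_ne_top _
  let e : (R ⧸ RingHom.ker π.toRingHom) ≃+* T := RingHom.quotientKerEquivOfSurjective hπ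
  have hloc : IsLocalRing (R ⧸ RingHom.ker π.toRingHom) := e.symm.isLocalRing
  rw [← isCompleteIntersection_ringEquiv_iff e, isCompleteIntersection_quotient_iff _ hI]
  constructor
  · rintro ⟨rs, hrs, hreg⟩
    exact isCIOver_of_regular π hπ rs hreg hrs.symm
  · intro h
    obtain ⟨rs, hreg, hrs⟩ := IsCIOver.exists_regular_ker h π hπ
    exact ⟨rs, hrs.symm, hreg⟩

theorem isCompleteIntersection_atPrime_iff_isCIOver {k S : Type u} [Field k] [CommRing S]
    [Algebra k S] [Algebra.FiniteType k S] (q : Ideal S) [q.IsPrime] :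
    Pi1.IsCompleteIntersection (Localization.AtPrime q) ↔
      Synt.IsCIOver k (Localization.AtPrime q) := by
  obtain ⟨n, γ, hγ⟩ := Algebra.FiniteType.iff_quotient_mvPolynomial''.mp
    (inferInstance : Algebra.FiniteType k S)
  have hq' : (q.comap γ.toRingHom).IsPrime := Ideal.comap_isPrime _ _
  exact isCompleteIntersection_iff_isCIOver_of_surjective
    (locHom γ q (q.comap γ.toRingHom) rfl) (locHom_surjective γ q _ rfl hγ)

theorem isCompleteIntersection_stalk_iff {k : Type u} [Field k] {X : Scheme.{u}}
    (p : X ⟶ Spec (CommRingCat.of k)) [LocallyOfFiniteType p] (x : X) :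
    Pi1.IsCompleteIntersection (X.presheaf.stalk x) ↔
      (letI := algStalk p x
       Synt.IsCIOver k (X.presheaf.stalk x)) := by
  obtain ⟨U, hU, hx, -⟩ :=
    exists_isAffineOpen_mem_and_subset (X := X) (x := x) (U := ⊤) (by simp)
  rw [isCIOver_stalk_iff p hU x hx]
  let a1 : Algebra k Γ(X, U) := algU p U
  have ft : Algebra.FiniteType k Γ(X, U) := finiteType_sections p hU
  rw [← isCompleteIntersection_atPrime_iff_isCIOver (k := k)]
  let a3 : Algebra Γ(X, U) (X.presheaf.stalk x) :=
    TopCat.Presheaf.algebra_section_stalk X.presheaf ⟨x, hx⟩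
  have hloc : IsLocalization.AtPrime (X.presheaf.stalk x) (hU.primeIdealOf ⟨x, hx⟩).asIdeal :=
    hU.isLocalization_stalk ⟨x, hx⟩
  let e : Localization.AtPrime (hU.primeIdealOf ⟨x, hx⟩).asIdeal ≃ₐ[Γ(X, U)]
      X.presheaf.stalk x :=
    IsLocalization.algEquiv (hU.primeIdealOf ⟨x, hx⟩).asIdeal.primeCompl _ _
  exact (isCompleteIntersection_ringEquiv_iff e.toRingEquiv).symm

end Groth.Agent.Lib.Helper5.IndPres
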