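import Mathlib
import Groth.Prelude.Def_RegImm
import Groth.Prelude.Def_CInt
import Groth.Agent.Lib.Helper5.TransNbhdJ
import Groth.Agent.Lib.Helper5.IndPresE

set_option autoImplicit false
universe u

namespace Groth.Agent.Lib.Helper5.TransNbhd

open AlgebraicGeometry CategoryTheory Limits
open Groth.Agent.Lib.Helper21.FibreStalk IsLocalRing
open RingTheory.Sequence

theorem exists_list_lift {R R' : Type*} (π : R → R') (P : R → Prop) (l : List R')
    (h : ∀ r ∈ l, ∃ x, P x ∧ π x = r) : ∃ l' : List R, (∀ x ∈ l', P x) ∧ l'.map π = l := by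
  induction l with
  | nil => exact ⟨[], by simp, rfl⟩
  | cons r l ih =>
    obtain ⟨l', hl', hmap⟩ := ih fun r' hr' => h r' (List.mem_cons_of_mem _ hr')
    obtain ⟨x, hx, hπ⟩ := h r List.mem_cons_self
    refine ⟨x :: l', ?_, by rw [List.map_cons, hπ, hmap]⟩
    intro z hz
    rcases List.mem_cons.mp hz with rfl | hz
    exacts [hx, hl' z hz]

/-- the fibre ideal of a composite. -/
theorem fibIdeal_comp {X Y S : Scheme.{u}} (f : Y ⟶ X) (g : X ⟶ S) (y : Y) :
    fibIdeal (f ≫ g) y = (fibIdeal g (f y)).map (f.stalkMap y).hom := by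
  unfold fibIdeal
  rw [Ideal.map_map, Scheme.Hom.stalkMap_comp]
  rfl

/-- the fibre local ring of a closed subscheme as a quotient of the fibre local ring. -/
theorem nonempty_fibQuot_equiv {X Y S : Scheme.{u}} (f : Y ⟶ X) [IsClosedImmersion f]
    (g : X ⟶ S) (y : Y) :
    Nonempty (((X.presheaf.stalk (f y) ⧸ fibIdeal g (f y)) ⧸
        (RingHom.ker (f.stalkMap y).hom).map (Ideal.Quotient.mk (fibIdeal g (f y)))) ≃+*
      (Y.presheaf.stalk y ⧸ fibIdeal (f ≫ g) y)) := by
  let φ := (f.stalkMap y).hom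
  have hφ : Function.Surjective φ := f.stalkMap_surjective y
  let ψ : X.presheaf.stalk (f y) →+* (Y.presheaf.stalk y ⧸ fibIdeal (f ≫ g) y) :=
    (Ideal.Quotient.mk (fibIdeal (f ≫ g) y)).comp φ
  have hψ : Function.Surjective ψ := Ideal.Quotient.mk_surjective.comp hφ
  have hker : RingHom.ker ψ = fibIdeal g (f y) ⊔ RingHom.ker φ := by
    rw [← RingHom.comap_ker, Ideal.mk_ker, fibIdeal_comp,
      Ideal.comap_map_of_surjective φ hφ, RingHom.ker_eq_comap_bot]
  exact ⟨(DoubleQuot.quotQuotEquivQuotSup (fibIdeal g (f y)) (RingHom.ker φ)).trans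
    ((Ideal.quotEquivOfEq hker.symm).trans (RingHom.quotientKerEquivOfSurjective hψ))⟩

set_option maxHeartbeats 1600000 in
set_option synthInstance.maxHeartbeats 200000 in
/-- if the fibre of `X` is regular at `f y` and the fibre of `Y` is a complete intersection at `y`,
the ideal of `Y` at `f y` is generated modulo the fibre ideal by germs forming a regular sequence
on the fibre. -/
theorem exists_lifts_of_ci {X Y S : Scheme.{u}} (g : X ⟶ S) (f : Y ⟶ X) [IsClosedImmersion f]
    (y : Y) [IsRegularLocalRing (CInt.fiberStalk g (f y))]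
    (hci : Pi1.IsCompleteIntersection (CInt.fiberStalk (f ≫ g) y)) :
    ∃ hs : List (X.presheaf.stalk (f y)),
      (∀ h ∈ hs, h ∈ RingHom.ker (f.stalkMap y).hom) ∧
      RingHom.ker (f.stalkMap y).hom ≤ Ideal.ofList hs ⊔ fibIdeal g (f y) ∧
      IsWeaklyRegular (X.presheaf.stalk (f y) ⧸ fibIdeal g (f y))
        (hs.map (Ideal.Quotient.mk (fibIdeal g (f y)))) := by
  obtain ⟨e₁⟩ := nonempty_fibreStalkEquiv g (f y)
  have hreg : IsRegularLocalRing (X.presheaf.stalk (f y) ⧸ fibIdeal g (f y)) :=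
    IsRegularLocalRing.of_ringEquiv e₁
  obtain ⟨e₂⟩ := nonempty_fibreStalkEquiv (f ≫ g) y
  obtain ⟨e₃⟩ := nonempty_fibQuot_equiv f g y
  have hloc : IsLocalRing ((X.presheaf.stalk (f y) ⧸ fibIdeal g (f y)) ⧸
      (RingHom.ker (f.stalkMap y).hom).map (Ideal.Quotient.mk (fibIdeal g (f y)))) :=
    e₃.symm.isLocalRing
  have hci' : Pi1.IsCompleteIntersection ((X.presheaf.stalk (f y) ⧸ fibIdeal g (f y)) ⧸
      (RingHom.ker (f.stalkMap y).hom).map (Ideal.Quotient.mk (fibIdeal g (f y)))) :=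
    (Groth.Agent.Lib.Helper5.IndPres.isCompleteIntersection_ringEquiv_iff (e₂.trans e₃.symm)).mp hci
  have hne : (RingHom.ker (f.stalkMap y).hom).map (Ideal.Quotient.mk (fibIdeal g (f y))) ≠ ⊤ :=
    Ideal.Quotient.nontrivial_iff.mp inferInstance
  obtain ⟨rbar, hrbar, hregbar⟩ :=
    (Groth.Agent.Lib.Helper5.IndPres.isCompleteIntersection_quotient_iff _ hne).mp hci'
  obtain ⟨hs, hsI, hmap⟩ := exists_list_lift (Ideal.Quotient.mk (fibIdeal g (f y)))
    (fun h => h ∈ RingHom.ker (f.stalkMap y).hom) rbar (by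
      intro r hr
      have h1 : r ∈ (RingHom.ker (f.stalkMap y).hom).map
          (Ideal.Quotient.mk (fibIdeal g (f y))) := by
        rw [← hrbar]; exact Ideal.subset_span hr
      obtain ⟨x, hx, hxr⟩ :=
        (Ideal.mem_map_iff_of_surjective _ Ideal.Quotient.mk_surjective).mp h1
      exact ⟨x, hx, hxr⟩)
  refine ⟨hs, hsI, ?_, by rw [hmap]; exact hregbar.toIsWeaklyRegular⟩
  intro x hx
  have h1 : Ideal.Quotient.mk (fibIdeal g (f y)) x ∈
      (Ideal.ofList hs).map (Ideal.Quotient.mk (fibIdeal g (f y))) := by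
    rw [Ideal.map_ofList, hmap, hrbar]
    exact Ideal.mem_map_of_mem _ hx
  obtain ⟨j, hj, hjx⟩ := (Ideal.mem_map_iff_of_surjective _ Ideal.Quotient.mk_surjective).mp h1
  have h2 : x - j ∈ fibIdeal g (f y) := by
    rw [← Ideal.Quotient.eq_zero_iff_mem, map_sub, hjx, sub_self]
  have : x = j + (x - j) := by ring
  rw [this]
  exact Submodule.add_mem_sup hj h2

end Groth.Agent.Lib.Helper5.TransNbhd
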