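import Mathlib
import Groth.Prelude.Def_RegImm
import Groth.Prelude.Def_Mor2
import Groth.Prelude.Def_CInt

set_option autoImplicit false
universe u

namespace Groth.Agent.Lib.Helper5.TransNbhd

open AlgebraicGeometry CategoryTheory Limits IsLocalRing
open RingTheory.Sequence

theorem ker_morphismRestrict_app {Y X : Scheme.{u}} (f : Y ⟶ X) (V : X.Opens)
    (W : V.toScheme.Opens) :
    RingHom.ker ((f ∣_ V).app W).hom = RingHom.ker (f.app (V.ι ''ᵁ W)).hom := by
  have hinj : Function.Injective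
      (Y.presheaf.map (eqToHom (image_morphismRestrict_preimage f V W)).op).hom :=
    ((ConcreteCategory.isIso_iff_bijective _).mp inferInstance).1
  have key : ∀ a : Γ(V.toScheme, W), ((f ∣_ V).app W).hom a =
      (Y.presheaf.map (eqToHom (image_morphismRestrict_preimage f V W)).op).hom
        ((f.app (V.ι ''ᵁ W)).hom a) := fun a =>
    congrArg (fun φ : Γ(V.toScheme, W) ⟶ Γ((f ⁻¹ᵁ V).toScheme, (f ∣_ V) ⁻¹ᵁ W) => φ.hom a)
      (morphismRestrict_app f V W)
  ext a
  constructor
  · intro h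
    have h1 : ((f ∣_ V).app W).hom a = 0 := h
    rw [key] at h1
    exact hinj (h1.trans (map_zero _).symm)
  · intro h
    have h1 : (f.app (V.ι ''ᵁ W)).hom a = 0 := h
    show ((f ∣_ V).app W).hom a = 0
    rw [key, h1, map_zero]
    rfl

theorem exists_regular_of_eq {Y X : Scheme.{u}} (f : Y ⟶ X) (U U' : X.Opens) (h : U' = U)
    (rs : List Γ(X, U)) (hreg : IsRegular Γ(X, U) rs)
    (hker : RingHom.ker (f.app U).hom = Ideal.ofList rs) :
    ∃ rs' : List Γ(X, U'), IsRegular Γ(X, U') rs' ∧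
      RingHom.ker (f.app U').hom = Ideal.ofList rs' := by
  subst h
  exact ⟨rs, hreg, hker⟩

/-- regular generators of the ideal on an affine open give a regular closed immersion over it. -/
theorem isRegularClosedImmersion_restrict_of_data {Y X : Scheme.{u}} (f : Y ⟶ X)
    [IsClosedImmersion f] {U : X.Opens} (hU : IsAffineOpen U) (rs : List Γ(X, U))
    (hreg : IsRegular Γ(X, U) rs) (hker : RingHom.ker (f.app U).hom = Ideal.ofList rs) :
    Mor2.IsRegularClosedImmersion (f ∣_ U) := by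
  refine ⟨inferInstance, fun z => ?_⟩
  have : IsAffine U.toScheme := hU
  obtain ⟨rs', hreg', hker'⟩ := exists_regular_of_eq f U (U.ι ''ᵁ ⊤)
    (by rw [Scheme.Hom.image_top_eq_opensRange, Scheme.Opens.opensRange_ι]) rs hreg hker
  refine ⟨⊤, isAffineOpen_top _, trivial, rs', hreg', ?_⟩
  rw [Scheme.Hom.ker_apply]
  exact (ker_morphismRestrict_app f U ⊤).trans hker'

/-- conversely, a regular closed immersion over an open gives regular generators on an affine
open of the ambient scheme. -/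
theorem exists_data_of_restrict {Y X : Scheme.{u}} (f : Y ⟶ X) (V : X.Opens)
    (h : Mor2.IsRegularClosedImmersion (f ∣_ V)) (y : Y) (hy : f y ∈ V) :
    ∃ (U : X.Opens) (_ : IsAffineOpen U) (_ : f y ∈ U) (rs : List Γ(X, U)),
      IsRegular Γ(X, U) rs ∧ RingHom.ker (f.app U).hom = Ideal.ofList rs := by
  obtain ⟨hcl, h'⟩ := h
  obtain ⟨W, hW, hzW, rs, hreg, hker⟩ := h' ⟨y, hy⟩
  rw [Scheme.Hom.ker_apply] at hker
  refine ⟨V.ι ''ᵁ W, hW.image_of_isOpenImmersion V.ι, ?_, rs, hreg,
    (ker_morphismRestrict_app f V W).symm.trans hker⟩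
  refine ⟨(f ∣_ V) ⟨y, hy⟩, hzW, ?_⟩
  have := congrArg (fun φ : (f ⁻¹ᵁ V).toScheme ⟶ X => φ ⟨y, hy⟩) (morphismRestrict_ι f V)
  exact this

end Groth.Agent.Lib.Helper5.TransNbhd
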