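import Groth.Agent.Lib.Helper5.RegSmooth
import Mathlib

set_option autoImplicit false
set_option linter.unusedSectionVars false
universe u

namespace Groth.Agent.Lib.Helper5.RegSmooth

open AlgebraicGeometry CategoryTheory

theorem regular_stalk_of_smooth (K : Type u) [Field K] (Z : Scheme.{u})
    (g : Z ⟶ Spec (CommRingCat.of K)) [Smooth g] (z : Z) :
    IsRegularLocalRing (Z.presheaf.stalk z) := by
  obtain ⟨V, hV, hzV, -⟩ := exists_isAffineOpen_mem_and_subset (x := z) (U := ⊤) trivial
  have hU : IsAffineOpen (⊤ : (Spec (CommRingCat.of K)).Opens) := isAffineOpen_top _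
  have hVU : V ≤ g ⁻¹ᵁ ⊤ := le_top
  have hsm := g.smooth_appLE hU hV hVU
  algebraize [(g.appLE ⊤ V hVU).hom]
  have hk : IsRegularRing K := inferInstance
  have hreg : IsRegularRing Γ(Spec (CommRingCat.of K), ⊤) :=
    IsRegularRing.of_ringEquiv (Scheme.ΓSpecIso (CommRingCat.of K)).symm.commRingCatIsoToRingEquiv
  have hregV : IsRegularRing Γ(Z, V) :=
    isRegularRing_of_smooth Γ(Spec (CommRingCat.of K), ⊤) Γ(Z, V)
  let _ := Z.presheaf.algebra_section_stalk ⟨z, hzV⟩
  have hloc := hV.isLocalization_stalk ⟨z, hzV⟩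
  exact IsRegularLocalRing.of_ringEquiv
    (IsLocalization.algEquiv (hV.primeIdealOf ⟨z, hzV⟩).asIdeal.primeCompl
      (Localization.AtPrime (hV.primeIdealOf ⟨z, hzV⟩).asIdeal) (Z.presheaf.stalk z)).toRingEquiv

theorem isReduced_of_smooth (K : Type u) [Field K] (Z : Scheme.{u})
    (g : Z ⟶ Spec (CommRingCat.of K)) [Smooth g] : IsReduced Z := by
  have : ∀ z : Z, _root_.IsReduced (Z.presheaf.stalk z) := by
    intro z
    have := regular_stalk_of_smooth K Z g z
    have := Groth.Agent.Lib.helper19.isDomain_of_isRegularLocalRing (Z.presheaf.stalk z)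
    infer_instance
  exact isReduced_of_isReduced_stalk Z

end Groth.Agent.Lib.Helper5.RegSmooth
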