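import Mathlib
import Groth.Prelude.Def_RegImm
import Groth.Prelude.Def_Mor2
import Groth.Prelude.Def_CInt
import Groth.Agent.Lib.Helper5.TransNbhdK
import Groth.Agent.Lib.Helper5.TransNbhdL
import Groth.Agent.Lib.helper19.SmCodepth

set_option autoImplicit false
universe u

namespace Groth.Agent.Lib.Helper5.TransNbhd

open AlgebraicGeometry CategoryTheory Limits IsLocalRing
open Groth.Agent.Lib.Helper21.FibreStalk
open RingTheory.Sequence

/-- the local statement: flat, regular fibre of `X`, complete intersection fibre of `Y`. -/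
theorem exists_regular_data_of_ci {X Y S : Scheme.{u}} (g : X ⟶ S)
    [LocallyOfFinitePresentation g] (f : Y ⟶ X) [IsClosedImmersion f]
    [LocallyOfFinitePresentation (f ≫ g)] (y : Y)
    (hflatX : (g.stalkMap (f y)).hom.Flat) (hflatY : ((f ≫ g).stalkMap y).hom.Flat)
    [IsRegularLocalRing (CInt.fiberStalk g (f y))]
    (hci : Pi1.IsCompleteIntersection (CInt.fiberStalk (f ≫ g) y)) :
    ∃ (U : X.Opens) (_ : IsAffineOpen U) (_ : f y ∈ U) (rs : List Γ(X, U)),
      IsRegular Γ(X, U) rs ∧ RingHom.ker (f.app U).hom = Ideal.ofList rs := by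
  obtain ⟨hs, hsI, hgen, hreg⟩ := exists_lifts_of_ci g f y hci
  obtain ⟨U, hU, hyU, V, hV, hUV, rs, -, hreg', hker⟩ :=
    core0 g f y hflatX hflatY hs hsI hgen hreg
  exact ⟨U, hU, hyU, rs, hreg', hker⟩

theorem isRegularClosedImmersion_of_syntomic_into_smooth {X Y S : Scheme.{u}} (p : X ⟶ S)
    [Smooth p] (i : Y ⟶ X) [IsClosedImmersion i] (hY : CInt.IsCIMorphism (i ≫ p)) :
    Mor2.IsRegularClosedImmersion i := by
  obtain ⟨hfl, hfp, hci⟩ := hY
  refine ⟨inferInstance, fun y => ?_⟩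
  have hsm : ∃ U : X.Opens, i y ∈ U ∧ Smooth (U.ι ≫ p) := ⟨⊤, trivial, inferInstance⟩
  obtain ⟨hflX, hregX⟩ := Groth.Agent.Lib.Helper19.SmCodepth.flat_and_fibre_regular p (i y) hsm
  obtain ⟨U, hU, hyU, rs, hreg, hker⟩ :=
    exists_regular_data_of_ci p i y hflX (Flat.stalkMap (i ≫ p) y) (hci y)
  exact ⟨U, hU, hyU, rs, hreg, by rw [Scheme.Hom.ker_apply]; exact hker⟩

end Groth.Agent.Lib.Helper5.TransNbhd
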