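import Mathlib
import Groth.Prelude.Def_RegImm
import Groth.Agent.Lib.Helper5.TransNbhdM
import Groth.Agent.Lib.Helper5.StalkKer
import Groth.Agent.Lib.Helper5.RegBC
import Groth.Agent.Lib.Helper5.RegDescA
import Groth.Agent.Lib.Helper21.FibreStalkSq
import Groth.Agent.Lib.Helper21.QuasiReg

set_option autoImplicit false
universe u

namespace Groth.Agent.Lib.Helper5.TransNbhd

open AlgebraicGeometry CategoryTheory Limits IsLocalRing
open Groth.Agent.Lib.Helper21.FibreStalk
open RingTheory.Sequence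

/-- the stalk ideal of the base change of a closed immersion is the extension of the stalk
ideal. -/
theorem ker_stalkMap_of_isPullback {Z X Z' X' : Scheme.{u}} {i : Z ⟶ X} {g : X' ⟶ X}
    {i' : Z' ⟶ X'} {g' : Z' ⟶ Z} (hsq : IsPullback g' i' i g) [IsClosedImmersion i]
    (z' : Z') (z : Z) (h : g (i' z') = i z) (h' : g' z' = z) :
    RingHom.ker (i'.stalkMap z').hom = (RingHom.ker (i.stalkMap z).hom).map
      (X.presheaf.stalkSpecializes (specializes_of_eq h) ≫ g.stalkMap (i' z')).hom := by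
  subst h'
  obtain ⟨_, ⟨U, hU : IsAffineOpen U, rfl⟩, hzU, -⟩ :=
    X.isBasis_affineOpens.exists_subset_of_mem_open (Set.mem_univ (i (g' z'))) isOpen_univ
  have hz'U : i' z' ∈ g ⁻¹ᵁ U := by
    change g (i' z') ∈ U
    rw [h]; exact hzU
  obtain ⟨_, ⟨U', hU' : IsAffineOpen U', rfl⟩, hz'U', e⟩ :=
    X'.isBasis_affineOpens.exists_subset_of_mem_open
      (show i' z' ∈ ((g ⁻¹ᵁ U : X'.Opens) : Set X') from hz'U) (g ⁻¹ᵁ U).isOpen
  have e' : U' ≤ g ⁻¹ᵁ U := e
  have : IsClosedImmersion (i ∣_ U) := inferInstance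
  obtain ⟨hci, hk⟩ := Groth.Agent.Lib.Helper5.RegBC.ker_app_of_isPullback i g i' g' hsq hU hU' e'
  rw [Groth.Agent.Lib.Helper5.StalkKer.ker_stalkMap_eq_map i' hU' z' hz'U', hk,
    Groth.Agent.Lib.Helper5.StalkKer.ker_stalkMap_eq_map i hU (g' z') hzU,
    Ideal.map_map, Ideal.map_map]
  congr 1
  rw [← CommRingCat.hom_comp, ← CommRingCat.hom_comp]
  congr 1
  rw [TopCat.Presheaf.germ_stalkSpecializes_assoc]
  rw [Scheme.Hom.germ_stalkMap, Scheme.Hom.appLE, Category.assoc]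
  congr 1
  exact X'.presheaf.germ_res _ _ _


/-- germs of a quasi-regular generating sequence. -/
theorem exists_quasi_germs {P F : Scheme.{u}} (j : P ⟶ F) (z : P)
    (hz : RegImm.IsRegularImmersionAt RegImm.Kind.quasi j z) :
    ∃ gs : List (F.presheaf.stalk (j z)), CAlgX.IsQuasiRegular gs.get ∧
      RingHom.ker (j.stalkMap z).hom = Ideal.ofList gs := by
  obtain ⟨U, hzU, hUc, rs, hrs, hker⟩ := hz
  have : IsClosedImmersion (j ∣_ U.1) := hUc
  refine ⟨rs.map (F.presheaf.germ U.1 (j z) hzU).hom, ?_, ?_⟩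
  · have hfl : (F.presheaf.germ U.1 (j z) hzU).hom.Flat := by
      let _ := F.presheaf.algebra_section_stalk ⟨j z, hzU⟩
      have := U.2.isLocalization_stalk ⟨j z, hzU⟩
      exact RingHom.flat_algebraMap_iff.mpr
        (IsLocalization.flat _ (U.2.primeIdealOf ⟨j z, hzU⟩).asIdeal.primeCompl)
    exact Groth.Agent.Lib.Helper5.RegDesc.kind_seq_map_of_flat' RegImm.Kind.quasi (by decide) _ hfl rs hrs
  · rw [Groth.Agent.Lib.Helper5.StalkKer.ker_stalkMap_eq_map j U.2 z hzU, hker, Ideal.map_ofList]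

set_option maxHeartbeats 1600000 in
set_option synthInstance.maxHeartbeats 200000 in
/-- a closed subscheme flat over the base whose fibre is quasi-regularly immersed in the fibre of
the flat ambient scheme is regularly immersed near the point. -/
theorem exists_regular_data_of_fibre_quasi {X S T : Scheme.{u}} (φ : X ⟶ S)
    [LocallyOfFinitePresentation φ] (ι : T ⟶ X) [IsClosedImmersion ι]
    [LocallyOfFinitePresentation (ι ≫ φ)] (t : T)
    (hflatX : (φ.stalkMap (ι t)).hom.Flat) (hflatT : ((ι ≫ φ).stalkMap t).hom.Flat)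
    (hfib : RegImm.IsRegularImmersionAt RegImm.Kind.quasi
      (pullback.snd ι (φ.fiberι (φ (ι t))))
      (Scheme.Pullback.exists_preimage_pullback (f := ι) (g := φ.fiberι (φ (ι t))) t
        (φ.asFiber (ι t)) (φ.fiberι_asFiber (ι t)).symm).choose) :
    ∃ (U : X.Opens) (_ : IsAffineOpen U) (_ : ι t ∈ U) (rs : List Γ(X, U)),
      IsRegular Γ(X, U) rs ∧ RingHom.ker (ι.app U).hom = Ideal.ofList rs := by
  classical
  obtain ⟨hz1, hz2⟩ := (Scheme.Pullback.exists_preimage_pullback (f := ι)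
    (g := φ.fiberι (φ (ι t))) t (φ.asFiber (ι t)) (φ.fiberι_asFiber (ι t)).symm).choose_spec
  generalize (Scheme.Pullback.exists_preimage_pullback (f := ι)
    (g := φ.fiberι (φ (ι t))) t (φ.asFiber (ι t)) (φ.fiberι_asFiber (ι t)).symm).choose = z
    at hz1 hz2 hfib
  obtain ⟨j, hj⟩ : ∃ j, j = pullback.snd ι (φ.fiberι (φ (ι t))) := ⟨_, rfl⟩
  rw [← hj] at hfib hz2
  have hjz : φ.fiberι (φ (ι t)) (j z) = ι t := by rw [hz2]; exact φ.fiberι_asFiber _
  obtain ⟨gs, hgq, hgker⟩ := exists_quasi_germs j z hfib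
  have hsq : IsPullback (pullback.fst ι (φ.fiberι (φ (ι t)))) j ι (φ.fiberι (φ (ι t))) := by
    rw [hj]; exact IsPullback.of_hasPullback ι (φ.fiberι (φ (ι t)))
  have hA := ker_stalkMap_of_isPullback hsq z t hjz hz1
  obtain ⟨ψ, hψ⟩ : ∃ ψ, ψ = toFibStalk φ (ι t) (j z) hjz := ⟨_, rfl⟩
  have hψs : Function.Surjective ψ.hom := hψ ▸ toFibStalk_surjective φ (ι t) (j z) hjz
  have hψk : RingHom.ker ψ.hom = fibIdeal φ (ι t) := hψ ▸ ker_toFibStalk' φ (ι t) (j z) hjz
  have hA' : RingHom.ker (j.stalkMap z).hom = (RingHom.ker (ι.stalkMap t).hom).map ψ.hom := by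
    rw [hA, hψ]; rfl
  obtain ⟨hs, hsI, hmap⟩ := exists_list_lift ψ.hom
    (fun h => h ∈ RingHom.ker (ι.stalkMap t).hom) gs (by
      intro r hr
      have h1 : r ∈ (RingHom.ker (ι.stalkMap t).hom).map ψ.hom := by
        rw [← hA', hgker]; exact Ideal.subset_span hr
      obtain ⟨x, hx, hxr⟩ := (Ideal.mem_map_iff_of_surjective _ hψs).mp h1
      exact ⟨x, hx, hxr⟩)
  have hgen : RingHom.ker (ι.stalkMap t).hom ≤ Ideal.ofList hs ⊔ fibIdeal φ (ι t) := by
    intro a ha
    have h1 : ψ.hom a ∈ (Ideal.ofList hs).map ψ.hom := by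
      rw [Ideal.map_ofList, hmap, ← hgker, hA']
      exact Ideal.mem_map_of_mem _ ha
    obtain ⟨b, hb, hba⟩ := (Ideal.mem_map_iff_of_surjective _ hψs).mp h1
    have h2 : a - b ∈ fibIdeal φ (ι t) := by
      rw [← hψk, RingHom.mem_ker, map_sub, hba, sub_self]
    have : a = b + (a - b) := by ring
    rw [this]
    exact Submodule.add_mem_sup hb h2
  let e : (X.presheaf.stalk (ι t) ⧸ fibIdeal φ (ι t)) ≃+*
      (φ.fiber (φ (ι t))).presheaf.stalk (j z) :=
    (Ideal.quotEquivOfEq hψk.symm).trans (RingHom.quotientKerEquivOfSurjective hψs)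
  have he : ∀ a, e (Ideal.Quotient.mk _ a) = ψ.hom a := fun a => rfl
  have hq' := Groth.Agent.Lib.Helper21.QRDescent.qr_ringEquiv e.symm gs.get hgq
  have : LocallyOfFiniteType (φ.fiberToSpecResidueField (φ (ι t))) := by
    have h0 : LocallyOfFiniteType φ := inferInstance
    unfold Scheme.Hom.fiberToSpecResidueField
    exact MorphismProperty.pullback_snd _ _ h0
  have : IsLocallyNoetherian (φ.fiber (φ (ι t))) :=
    LocallyOfFiniteType.isLocallyNoetherian (φ.fiberToSpecResidueField (φ (ι t)))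
  have hN : IsNoetherianRing (X.presheaf.stalk (ι t) ⧸ fibIdeal φ (ι t)) :=
    isNoetherianRing_of_ringEquiv _ e.symm
  have hnt : Nontrivial (T.presheaf.stalk t) := inferInstance
  have hIle : RingHom.ker (ι.stalkMap t).hom ≤ maximalIdeal (X.presheaf.stalk (ι t)) :=
    le_maximalIdeal (RingHom.ker_ne_top _)
  have h5 : List.ofFn (e.symm ∘ gs.get) = hs.map (Ideal.Quotient.mk (fibIdeal φ (ι t))) := by
    rw [← List.map_ofFn, List.ofFn_get, ← hmap, List.map_map]
    apply List.map_congr_left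
    intro a _
    rw [Function.comp_apply, RingEquiv.symm_apply_eq, he]
  have hjac : ∀ i, (e.symm ∘ gs.get) i ∈
      Ring.jacobson (X.presheaf.stalk (ι t) ⧸ fibIdeal φ (ι t)) := by
    intro i
    have h1 : (e.symm ∘ gs.get) i ∈ List.ofFn (e.symm ∘ gs.get) := by
      rw [List.mem_ofFn]; exact ⟨i, rfl⟩
    rw [h5, List.mem_map] at h1
    obtain ⟨a, ha, hai⟩ := h1
    rw [← hai]
    exact mk_mem_jacobson _ (hIle (hsI a ha))
  have hwr := Groth.Agent.Lib.Helper21.QuasiRegJac.isWeaklyRegular_of_qr gs.length _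
    (e.symm ∘ gs.get) hjac hq'
  rw [h5] at hwr
  obtain ⟨U, hU, hyU, V, hV, hUV, rs, -, hreg', hker⟩ :=
    core0 φ ι t hflatX hflatT hs hsI hgen hwr
  exact ⟨U, hU, hyU, rs, hreg', hker⟩

end Groth.Agent.Lib.Helper5.TransNbhd
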