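import Mathlib
import Groth.Prelude.Def_RegImm
import Groth.Prelude.Def_Mor2
import Groth.Prelude.Def_CInt
import Groth.Agent.Lib.Helper5.KLJ
import Groth.Agent.Lib.Helper5.KosH1C
import Groth.Agent.Lib.Helper5.RegImmB
import Groth.Agent.Lib.Helper5.TransNbhdP

set_option autoImplicit false
universe u

namespace Groth.Agent.Lib.Helper5.KL

open AlgebraicGeometry CategoryTheory Limits TensorProduct IsLocalRing RingTheory.Sequence
open Groth.Agent.Lib.Helper5.TransNbhd

theorem isH1Regular_of_isWeaklyRegular {R : Type u} [CommRing R] (rs : List R)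
    (h : IsWeaklyRegular R rs) : CAlgX.IsH1Regular rs.get :=
  (Groth.Agent.Lib.Helper5.KosH1.isH1Regular_iff_isZero rs).mpr
    (Groth.Agent.Lib.Helper5.RegImmB.isKoszulRegularSeq_of_isWeaklyRegular rs h (-1) (by decide))

/-- the fibre map is the base change of `f` along the inclusion of the fibre. -/
theorem isPullback_cint_fiberMap {X Y S : Scheme.{u}} (f : X ⟶ Y) (h : Y ⟶ S) (s : S) :
    IsPullback ((f ≫ h).fiberι s) (CInt.fiberMap f h s) f (h.fiberι s) := by
  have h1 : CInt.fiberMap f h s ≫ h.fiberι s = (f ≫ h).fiberι s ≫ f := by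
    unfold CInt.fiberMap Scheme.Hom.fiberι
    exact pullback.lift_fst _ _ _
  have h2 : CInt.fiberMap f h s ≫ pullback.snd h (S.fromSpecResidueField s) =
      pullback.snd (f ≫ h) (S.fromSpecResidueField s) := by
    unfold CInt.fiberMap
    exact (pullback.lift_snd _ _ _).trans (Category.comp_id _)
  refine IsPullback.of_bot ?_ h1.symm (IsPullback.of_hasPullback h (S.fromSpecResidueField s))
  rw [h2]
  exact IsPullback.of_hasPullback (f ≫ h) (S.fromSpecResidueField s)

/-- `Mor2` regular closed immersions are regular at each point, in the sense of `RegImm`. -/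
theorem isRegularImmersionAt_of_mor2 {Z X : Scheme.{u}} (i : Z ⟶ X)
    (h : Mor2.IsRegularClosedImmersion i) (z : Z) :
    RegImm.IsRegularImmersionAt RegImm.Kind.regular i z := by
  obtain ⟨hc, H⟩ := h
  obtain ⟨U, hU, hzU, rs, hreg, hker⟩ := H z
  refine ⟨⟨U, hU⟩, hzU, inferInstance, rs, hreg, ?_⟩
  rw [← hker, Scheme.Hom.ker_apply]

theorem mor2_of_isRegularImmersionAt {Z X : Scheme.{u}} (i : Z ⟶ X) [IsClosedImmersion i]
    (h : ∀ z, RegImm.IsRegularImmersionAt RegImm.Kind.regular i z) :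
    Mor2.IsRegularClosedImmersion i := by
  refine ⟨inferInstance, fun z => ?_⟩
  obtain ⟨U, hzU, -, rs, hreg, hker⟩ := h z
  refine ⟨U.1, U.2, hzU, rs, hreg, ?_⟩
  rw [← hker, Scheme.Hom.ker_apply]

end Groth.Agent.Lib.Helper5.KL

namespace Groth.Agent.Lib.Helper5.KL

open AlgebraicGeometry CategoryTheory Limits TensorProduct IsLocalRing RingTheory.Sequence
open Groth.Agent.Lib.Helper5.TransNbhd

/-- a regular closed immersion with flat source into a lfp scheme is transversally regular. -/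
theorem isTransRegularImmersionAt_of_mor2 {X Y S : Scheme.{u}} (u : Y ⟶ X) (g : X ⟶ S)
    [LocallyOfFinitePresentation g] (hfl : Flat (u ≫ g))
    (hu : Mor2.IsRegularClosedImmersion u) (y : Y) :
    RegImm.IsTransRegularImmersionAt g u y := by
  obtain ⟨U, hzU, hc, rs, hreg, hker⟩ := isRegularImmersionAt_of_mor2 u hu y
  exact isTransRegularImmersionAt_of_h1 g u hfl y
    ⟨U, hzU, hc, rs, isH1Regular_of_isWeaklyRegular rs
      (hreg : IsRegular _ rs).toIsWeaklyRegular, hker⟩

theorem s2890_mp {X Y S : Scheme.{u}} (u : Y ⟶ X) (g : X ⟶ S) [IsClosedImmersion u]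
    [LocallyOfFinitePresentation g] (hfl : Flat (u ≫ g))
    (hu : Mor2.IsRegularClosedImmersion u) :
    (∀ y : Y, (g.stalkMap (u y)).hom.Flat) ∧
      ∀ s : S, Mor2.IsRegularClosedImmersion (CInt.fiberMap u g s) := by
  have htr := isTransRegularImmersionAt_of_mor2 u g hfl hu
  refine ⟨fun y => flat_stalkMap_of_isTransRegularImmersionAt g u y (htr y), fun s => ?_⟩
  have hsq := isPullback_cint_fiberMap u g s
  have hc : IsClosedImmersion (CInt.fiberMap u g s) :=
    MorphismProperty.of_isPullback hsq (inferInstance : IsClosedImmersion u)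
  refine mor2_of_isRegularImmersionAt _ fun z' => ?_
  have H2 : IsPullback (g.fiberι s) (g.fiberToSpecResidueField s) g (S.fromSpecResidueField s) :=
    IsPullback.of_hasPullback _ _
  exact isRegularImmersionAt_of_trans (g.fiberToSpecResidueField s) _ z'
    (isTransRegularImmersionAt_baseChange g u (S.fromSpecResidueField s) _ _ H2 _ _ hsq z'
      (htr _))

end Groth.Agent.Lib.Helper5.KL

namespace Groth.Agent.Lib.Helper5.KL

open AlgebraicGeometry CategoryTheory Limits TensorProduct IsLocalRing RingTheory.Sequence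
open Groth.Agent.Lib.Helper5.TransNbhd

theorem s2890_mpr {X Y S : Scheme.{u}} (u : Y ⟶ X) (g : X ⟶ S) [IsClosedImmersion u]
    [LocallyOfFinitePresentation g] [LocallyOfFinitePresentation (u ≫ g)]
    (hX : ∀ y : Y, (g.stalkMap (u y)).hom.Flat) (hfl : Flat (u ≫ g))
    (hfib : ∀ s : S, Mor2.IsRegularClosedImmersion (CInt.fiberMap u g s)) :
    Mor2.IsRegularClosedImmersion u := by
  refine ⟨inferInstance, fun y => ?_⟩
  have hsq := isPullback_cint_fiberMap u g (g (u y))
  obtain ⟨z, hz1⟩ : ∃ z : ((u ≫ g).fiber (g (u y)) : Scheme.{u}),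
      (u ≫ g).fiberι (g (u y)) z = y :=
    ⟨(u ≫ g).asFiber y, (u ≫ g).fiberι_asFiber y⟩
  obtain ⟨U', hzU', hc', rs', hreg', hker'⟩ :=
    isRegularImmersionAt_of_mor2 _ (hfib (g (u y))) z
  obtain ⟨gs, hgq, hgker⟩ := exists_quasi_germs (CInt.fiberMap u g (g (u y))) z
    ⟨U', hzU', hc', rs', Groth.Agent.Lib.Helper21.QuasiReg.qr_of_isWeaklyRegular rs'.get
      (by rw [List.ofFn_get]; exact (hreg' : IsRegular _ rs').toIsWeaklyRegular), hker'⟩
  obtain ⟨U, hU, hyU, rs, hreg, hker, -⟩ := exists_regular_data_of_fibre_germs g u y (hX y)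
    (Flat.stalkMap (u ≫ g) y) _ _ hsq z hz1 gs hgq hgker
  exact ⟨U, hU, hyU, rs, hreg, by rw [Scheme.Hom.ker_apply]; exact hker⟩

end Groth.Agent.Lib.Helper5.KL
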