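import Mathlib
import Groth.Prelude.Def_RegImm
import Groth.Agent.Lib.Helper5.KLO
import Groth.Agent.Lib.Helper5.KosDescB
import Groth.Agent.Lib.Helper5.KosRegA
import Groth.Agent.Lib.Helper5.LciF
import Groth.Agent.Lib.Helper5.LciB

/-!
# Koszul locus and base change: first tools
-/

set_option autoImplicit false
universe u

namespace Groth.Agent.Lib.Helper5.KLoc

open AlgebraicGeometry CategoryTheory Limits TensorProduct IsLocalRing RingTheory.Sequence
open Groth.Agent.Lib.Helper5.TransNbhd Groth.Agent.Lib.Helper5.KL

/-- base change of an `H₁`-regular immersion with flat source into a lfp scheme is regular. -/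
theorem isRegularImmersionAt_baseChange_of_h1 {Z X S S' X' Z' : Scheme.{u}} (f : X ⟶ S)
    [LocallyOfFinitePresentation f] (i : Z ⟶ X) (hfl : Flat (i ≫ f)) (g : S' ⟶ S)
    (pr₁ : X' ⟶ X) (f' : X' ⟶ S') (H2 : IsPullback pr₁ f' f g)
    (q : Z' ⟶ Z) (i' : Z' ⟶ X') (H1 : IsPullback q i' i pr₁) (z' : Z')
    (hz : RegImm.IsRegularImmersionAt RegImm.Kind.h1 i (q z')) :
    RegImm.IsRegularImmersionAt RegImm.Kind.regular i' z' :=
  isRegularImmersionAt_of_trans f' i' z'
    (isTransRegularImmersionAt_baseChange f i g pr₁ f' H2 q i' H1 z'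
      (isTransRegularImmersionAt_of_h1 f i hfl (q z') hz))

/-- descent of regular generation of an ideal along a flat local homomorphism of Noetherian
local rings. -/
theorem exists_regular_of_map_regular {O O' : Type u} [CommRing O] [CommRing O'] [IsLocalRing O]
    [IsLocalRing O'] [IsNoetherianRing O] (φ : O →+* O') (hfl : φ.Flat) [IsLocalHom φ]
    (I : Ideal O) (hI : I ≤ maximalIdeal O) (gs' : List O') (hreg : IsWeaklyRegular O' gs')
    (hmap : I.map φ = Ideal.ofList gs') :
    ∃ gs : List O, IsRegular O gs ∧ I = Ideal.ofList gs := by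
  let _ : Algebra O O' := φ.toAlgebra
  have hflat : Module.Flat O O' := hfl
  have hloc : IsLocalHom (algebraMap O O') := ‹IsLocalHom φ›
  have hff : Module.FaithfullyFlat O O' := Module.FaithfullyFlat.of_flat_of_isLocalHom
  have hK' : LCI.IsKoszulRegularIdeal (I.map (algebraMap O O')) := by
    change LCI.IsKoszulRegularIdeal (I.map φ)
    rw [hmap]
    exact Groth.Agent.Lib.Helper5.Lci.isKoszulRegularIdeal_ofList gs'
      (fun n hn => Groth.Agent.Lib.Helper5.RegImmB.isKoszulRegularSeq_of_isWeaklyRegular gs' hreg n hn)
  have hK := Groth.Agent.Lib.Helper5.KosDesc.isKoszulRegularIdeal_of_faithfullyFlat I hK'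
  obtain ⟨g, hg, a, haI, haKR, hspan⟩ :=
    Groth.Agent.Lib.Helper5.Lci.exists_global_gens I hK (maximalIdeal O) hI
  have hgu : IsUnit g := by
    by_contra hn
    exact hg ((mem_maximalIdeal g).mpr hn)
  have hle : Submonoid.powers g ≤ IsUnit.submonoid O := by
    rintro _ ⟨n, rfl⟩
    exact hgu.pow n
  let e0 : O ≃ₐ[O] Localization.Away g := IsLocalization.atUnits O (Submonoid.powers g) hle
  have he0 : ∀ x, e0 x = algebraMap O (Localization.Away g) x := fun x => by
    rw [← Algebra.algebraMap_self_apply x, e0.commutes]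
    rfl
  let e : O ≃+* Localization.Away g := e0.toRingEquiv
  have hee : ∀ x, e.symm (algebraMap O (Localization.Away g) x) = x := fun x => by
    rw [← he0 x]
    exact e0.symm_apply_apply x
  have haKR' : LCI.IsKoszulRegularSeq O a := by
    have h1 := Groth.Agent.Lib.Helper5.KosDesc.isKoszulRegularSeq_ringEquiv e.symm _ haKR
    rw [List.map_map] at h1
    have h2 : (⇑e.symm ∘ ⇑(algebraMap O (Localization.Away g))) = id := by
      funext x
      exact hee x
    rwa [h2, List.map_id] at h1
  have hIa : I = Ideal.ofList a := by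
    apply le_antisymm
    · intro x hx
      have h1 : algebraMap O (Localization.Away g) x ∈
          Ideal.ofList (a.map (algebraMap O (Localization.Away g))) := by
        rw [← hspan]
        exact Ideal.mem_map_of_mem _ hx
      rw [← Ideal.map_ofList] at h1
      have h2 := Ideal.mem_map_of_mem (e.symm : Localization.Away g →+* O) h1
      rw [Ideal.map_map] at h2
      have h3 : (e.symm : Localization.Away g →+* O).comp (algebraMap O (Localization.Away g)) =
          RingHom.id O := RingHom.ext fun y => hee y
      rw [h3, Ideal.map_id] at h2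
      have h4 : (e.symm : Localization.Away g →+* O) (algebraMap O (Localization.Away g) x) = x :=
        hee x
      rwa [h4] at h2
    · unfold Ideal.ofList
      rw [Ideal.span_le]
      intro x hx
      exact haI x hx
  refine ⟨a, ?_, hIa⟩
  exact Groth.Agent.Lib.Helper5.KosReg.isRegular_of_koszulRegular a
    (fun x hx => hI (haI x hx)) haKR'

end Groth.Agent.Lib.Helper5.KLoc
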