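import Mathlib
import Groth.Prelude.Def_RegImm
import Groth.Agent.Lib.Helper5.KLocA

set_option autoImplicit false
universe u

namespace Groth.Agent.Lib.Helper5.KLoc

open AlgebraicGeometry CategoryTheory Limits TensorProduct IsLocalRing RingTheory.Sequence
open Groth.Agent.Lib.Helper5.TransNbhd Groth.Agent.Lib.Helper5.KL

theorem isIso_stalkSpecializes_of_eq {X : Scheme.{u}} {a b : X} (h : a = b) :
    IsIso (X.presheaf.stalkSpecializes (specializes_of_eq h)) := by
  subst h
  rw [TopCat.Presheaf.stalkSpecializes_refl]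
  infer_instance

theorem ker_stalkMap_le_maximalIdeal {T F : Scheme.{u}} (j : T ⟶ F) (w : T) :
    RingHom.ker (j.stalkMap w).hom ≤ maximalIdeal (F.presheaf.stalk (j w)) := by
  intro x hx
  rw [mem_maximalIdeal]
  intro hu
  have h1 : IsUnit ((j.stalkMap w).hom x) := hu.map _
  rw [RingHom.mem_ker.mp hx] at h1
  exact not_isUnit_zero h1

/-- descent of regularity of a closed immersion at a point along a flat base change, for a locally
Noetherian target. -/
theorem exists_quasi_germs_of_baseChange {T F T' F' : Scheme.{u}} (j : T ⟶ F)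
    [IsClosedImmersion j] (ρ : F' ⟶ F) [Flat ρ] (q : T' ⟶ T) (j' : T' ⟶ F')
    (hsq : IsPullback q j' j ρ) [IsLocallyNoetherian F] (w' : T')
    (hz : RegImm.IsRegularImmersionAt RegImm.Kind.regular j' w') :
    ∃ gs : List (F.presheaf.stalk (j (q w'))), CAlgX.IsQuasiRegular gs.get ∧
      RingHom.ker (j.stalkMap (q w')).hom = Ideal.ofList gs := by
  obtain ⟨gs', hreg', hker'⟩ := exists_regular_germs j' w' hz
  have h : ρ (j' w') = j (q w') := by
    have := congrArg (fun φ : T' ⟶ F => φ w') hsq.w
    exact this.symm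
  have hA := ker_stalkMap_of_isPullback hsq w' (q w') h rfl
  have hiso := isIso_stalkSpecializes_of_eq h
  obtain ⟨φ, hφ⟩ : ∃ φ, φ = (F.presheaf.stalkSpecializes (specializes_of_eq h) ≫
      ρ.stalkMap (j' w')).hom := ⟨_, rfl⟩
  have hφfl : φ.Flat := by
    rw [hφ, CommRingCat.hom_comp]
    refine RingHom.Flat.comp ?_ (Flat.stalkMap ρ (j' w'))
    exact RingHom.Flat.of_bijective (ConcreteCategory.bijective_of_isIso _)
  have hφloc : IsLocalHom φ := by
    rw [hφ, CommRingCat.hom_comp]
    have h1 : IsLocalHom (F.presheaf.stalkSpecializes (specializes_of_eq h)).hom :=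
      isLocalHom_of_isIso _
    have h2 : IsLocalHom (ρ.stalkMap (j' w')).hom := inferInstance
    exact RingHom.isLocalHom_comp _ _
  rw [← hφ, hker'] at hA
  obtain ⟨gs, hgs, hI⟩ := exists_regular_of_map_regular φ hφfl _
    (ker_stalkMap_le_maximalIdeal j (q w')) gs' hreg' hA.symm
  refine ⟨gs, ?_, hI⟩
  exact Groth.Agent.Lib.Helper21.QuasiReg.qr_of_isWeaklyRegular gs.get
    (by rw [List.ofFn_get]; exact hgs.toIsWeaklyRegular)

end Groth.Agent.Lib.Helper5.KLoc
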