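import Mathlib
import Groth.Prelude.Def_RegImm
import Groth.Agent.Lib.Helper5.KLocB
import Groth.Agent.Lib.lead.FibreDimBCLocal

set_option autoImplicit false
universe u

namespace Groth.Agent.Lib.Helper5.KLoc

open AlgebraicGeometry CategoryTheory Limits TensorProduct IsLocalRing RingTheory.Sequence
open Groth.Agent.Lib.Helper5.TransNbhd Groth.Agent.Lib.Helper5.KL

theorem exists_regular_data_of_fibre_germs' {X S T P : Scheme.{u}} (φ : X ⟶ S)
    [LocallyOfFinitePresentation φ] (ι : T ⟶ X) [IsClosedImmersion ι]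
    [LocallyOfFinitePresentation (ι ≫ φ)] (t : T)
    (hflatX : (φ.stalkMap (ι t)).hom.Flat) (hflatT : ((ι ≫ φ).stalkMap t).hom.Flat)
    (s : S) (hs : φ (ι t) = s)
    (p : P ⟶ T) (j : P ⟶ φ.fiber s) (hsq : IsPullback p j ι (φ.fiberι s))
    (z : P) (hz1 : p z = t)
    (gs : List ((φ.fiber s).presheaf.stalk (j z)))
    (hgq : CAlgX.IsQuasiRegular gs.get)
    (hgker : RingHom.ker (j.stalkMap z).hom = Ideal.ofList gs) :
    ∃ (U : X.Opens) (_ : IsAffineOpen U) (_ : ι t ∈ U) (rs : List Γ(X, U)),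
      IsRegular Γ(X, U) rs ∧ RingHom.ker (ι.app U).hom = Ideal.ofList rs ∧
        rs.length = gs.length := by
  subst hs
  exact exists_regular_data_of_fibre_germs φ ι t hflatX hflatT p j hsq z hz1 gs hgq hgker

instance flat_Spec_map_of_field {K L : Type u} [Field K] [Field L] (φ : K →+* L) :
    Flat (Spec.map (CommRingCat.ofHom φ)) := by
  rw [HasRingHomProperty.Spec_iff (P := @Flat)]
  let _ : Algebra K L := φ.toAlgebra
  exact (RingHom.flat_algebraMap_iff (R := K) (S := L)).mpr inferInstance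


set_option maxHeartbeats 1600000 in
/-- descent of regularity at a point of a closed immersion with flat lfp source from an arbitrary
base change. -/
theorem isRegularImmersionAt_of_baseChange {Z X S S' X' Z' : Scheme.{u}} (f : X ⟶ S)
    [LocallyOfFinitePresentation f] (i : Z ⟶ X) [IsClosedImmersion i]
    [LocallyOfFinitePresentation (i ≫ f)] (hfl : Flat (i ≫ f)) (g : S' ⟶ S)
    (pr₁ : X' ⟶ X) (f' : X' ⟶ S') (H2 : IsPullback pr₁ f' f g)
    (q : Z' ⟶ Z) (i' : Z' ⟶ X') (H1 : IsPullback q i' i pr₁) (z' : Z')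
    (hX : (f.stalkMap (i (q z'))).hom.Flat)
    (hz : RegImm.IsRegularImmersionAt RegImm.Kind.h1 i' z') :
    RegImm.IsRegularImmersionAt RegImm.Kind.regular i (q z') := by
  have hlfp' : LocallyOfFinitePresentation f' :=
    MorphismProperty.of_isPullback (P := @LocallyOfFinitePresentation) H2 inferInstance
  have Hbig : IsPullback q (i' ≫ f') (i ≫ f) g := H1.paste_vert H2
  have hfl' : Flat (i' ≫ f') := MorphismProperty.of_isPullback (P := @Flat) Hbig hfl
  have htr' := isTransRegularImmersionAt_of_h1 f' i' hfl' z' hz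
  -- the fibre of f' through i' z'
  obtain ⟨s', hs'⟩ : ∃ s' : S', s' = f' (i' z') := ⟨_, rfl⟩
  have H2' : IsPullback (f'.fiberι s') (f'.fiberToSpecResidueField s') f'
      (S'.fromSpecResidueField s') := IsPullback.of_hasPullback _ _
  have hsq' : IsPullback (pullback.fst i' (f'.fiberι s')) (pullback.snd i' (f'.fiberι s')) i'
      (f'.fiberι s') := IsPullback.of_hasPullback _ _
  obtain ⟨ζ, hζ⟩ : ∃ ζ : (f'.fiber s' : Scheme.{u}), f'.fiberι s' ζ = i' z' := by
    subst hs'
    exact ⟨f'.asFiber (i' z'), f'.fiberι_asFiber (i' z')⟩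
  obtain ⟨w', hw'1, hw'2⟩ := Scheme.Pullback.exists_preimage_pullback (f := i') (g := f'.fiberι s')
    z' ζ hζ.symm
  have hreg_j' : RegImm.IsRegularImmersionAt RegImm.Kind.regular
      (pullback.snd i' (f'.fiberι s')) w' := by
    refine isRegularImmersionAt_of_trans (f'.fiberToSpecResidueField s') _ w' ?_
    refine isTransRegularImmersionAt_baseChange f' i' (S'.fromSpecResidueField s') _ _ H2' _ _
      hsq' w' ?_
    rw [hw'1]
    exact htr'
  -- comparison with the fibre of f
  obtain ⟨π, hπ, hπι⟩ := Groth.Agent.Lib.lead.FibreDimBCLocal.exists_fiber_pullback f g pr₁ f' H2 s'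
  have hπflat : Flat π := MorphismProperty.of_isPullback (P := @Flat) hπ.flip inferInstance
  have hsq : IsPullback (pullback.fst i (f.fiberι (g s'))) (pullback.snd i (f.fiberι (g s'))) i
      (f.fiberι (g s')) := IsPullback.of_hasPullback _ _
  have hcomm : (pullback.fst i' (f'.fiberι s') ≫ q) ≫ i =
      (pullback.snd i' (f'.fiberι s') ≫ π) ≫ f.fiberι (g s') := by
    rw [Category.assoc, H1.w, ← Category.assoc, hsq'.w, Category.assoc, Category.assoc, hπι]
  let qT : pullback i' (f'.fiberι s') ⟶ pullback i (f.fiberι (g s')) :=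
    pullback.lift (pullback.fst i' (f'.fiberι s') ≫ q) (pullback.snd i' (f'.fiberι s') ≫ π) hcomm
  have hqT1 : qT ≫ pullback.fst i (f.fiberι (g s')) = pullback.fst i' (f'.fiberι s') ≫ q :=
    pullback.lift_fst _ _ _
  have hqT2 : qT ≫ pullback.snd i (f.fiberι (g s')) = pullback.snd i' (f'.fiberι s') ≫ π :=
    pullback.lift_snd _ _ _
  have hsqT : IsPullback qT (pullback.snd i' (f'.fiberι s')) (pullback.snd i (f.fiberι (g s'))) π := by
    refine IsPullback.of_right ?_ hqT2 hsq
    rw [hqT1, hπι]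
    exact hsq'.paste_horiz H1
  have hlft : LocallyOfFiniteType (f.fiberToSpecResidueField (g s')) :=
    MorphismProperty.pullback_snd _ _ inferInstance
  have hNoeth : IsLocallyNoetherian (f.fiber (g s')) :=
    LocallyOfFiniteType.isLocallyNoetherian (f.fiberToSpecResidueField (g s'))
  obtain ⟨gs, hgq, hgker⟩ := exists_quasi_germs_of_baseChange
    (pullback.snd i (f.fiberι (g s'))) π qT (pullback.snd i' (f'.fiberι s')) hsqT w' hreg_j'
  have hpz : pullback.fst i (f.fiberι (g s')) (qT w') = q z' := by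
    rw [← Scheme.Hom.comp_apply, hqT1, Scheme.Hom.comp_apply, hw'1]
  have hs : f (i (q z')) = g s' := by
    rw [hs']
    have h1 := congrArg (fun φ : Z' ⟶ S => φ z') Hbig.w
    simp only [Scheme.Hom.comp_apply] at h1
    exact h1
  have hflT : ((i ≫ f).stalkMap (q z')).hom.Flat := Flat.stalkMap (i ≫ f) (q z')
  obtain ⟨U, hU, hmem, rs, hreg, hker, -⟩ := exists_regular_data_of_fibre_germs' f i (q z') hX hflT
    (g s') hs _ _ hsq (qT w') hpz gs hgq hgker
  exact ⟨⟨U, hU⟩, hmem, inferInstance, rs, hreg, hker⟩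

end Groth.Agent.Lib.Helper5.KLoc
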