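import Mathlib
import Groth.Agent.Lib.Helper5.LciL

/-!
# Standard etale algebras, polynomial algebras and smooth algebras are local complete intersections
-/

set_option autoImplicit false
universe u

namespace Groth.Agent.Lib.Helper5.Lci

open Polynomial
open scoped Bivariate

section Pair

variable {R : Type u} [CommRing R]

theorem mem_span_C_iff (f : R[X]) (q : R[X][Y]) :
    q ∈ Ideal.span {(C f : R[X][Y])} ↔ ∀ n, q.coeff n ∈ Ideal.span {f} := by
  rw [← Ideal.mem_map_C_iff, Ideal.map_span, Set.image_singleton]

theorem coeff_pair_succ (g : R[X]) (m : R[X][Y]) (n : ℕ) :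
    ((Y * C g - 1) * m).coeff (n + 1) = g * m.coeff n - m.coeff (n + 1) := by
  rw [sub_mul, one_mul, coeff_sub, mul_assoc, coeff_X_mul, coeff_C_mul]

theorem coeff_pair_zero (g : R[X]) (m : R[X][Y]) :
    ((Y * C g - 1) * m).coeff 0 = - m.coeff 0 := by
  rw [sub_mul, one_mul, coeff_sub, mul_assoc, coeff_X_mul_zero, zero_sub]

/-- the defining sequence of a standard etale algebra is a regular sequence -/
theorem isWeaklyRegular_pair (f g : R[X]) (hf : f.Monic) :
    RingTheory.Sequence.IsWeaklyRegular R[X][Y] [(C f : R[X][Y]), Y * C g - 1] := by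
  constructor
  intro i hi
  rw [isSMulRegular_quotient_iff_mem_of_smul_mem]
  have hi' : i = 0 ∨ i = 1 := by
    simp only [List.length_cons, List.length_nil] at hi
    omega
  rcases hi' with rfl | rfl
  · intro m hm
    simp only [List.take_zero, Ideal.ofList_nil, List.getElem_cons_zero, smul_eq_mul,
      Ideal.mul_top, Submodule.mem_bot] at hm ⊢
    refine Polynomial.ext fun n => ?_
    have h1 := congrArg (fun p => p.coeff n) hm
    simp only [coeff_C_mul, coeff_zero] at h1
    exact hf.mul_right_eq_zero_iff.1 h1
  · intro m hm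
    have hl : Ideal.ofList (List.take 1 [(C f : R[X][Y]), Y * C g - 1]) = Ideal.span {C f} := by
      simp [Ideal.ofList]
    simp only [List.getElem_cons_succ, List.getElem_cons_zero, smul_eq_mul, hl,
      Ideal.mul_top] at hm ⊢
    rw [mem_span_C_iff] at hm ⊢
    intro n
    induction n with
    | zero =>
      have h0 := hm 0
      rw [coeff_pair_zero] at h0
      simpa using h0
    | succ k ih =>
      have h1 := hm (k + 1)
      rw [coeff_pair_succ] at h1
      have h2 : m.coeff (k + 1) = g * m.coeff k - (g * m.coeff k - m.coeff (k + 1)) := by ring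
      rw [h2]
      exact Ideal.sub_mem _ (Ideal.mul_mem_left _ _ ih) h1

theorem kr_pair (f g : R[X]) (hf : f.Monic) :
    LCI.IsKoszulRegularSeq (MvPolynomial (Fin 2) R)
      [Bivariate.equivMvPolynomial R (C f), Bivariate.equivMvPolynomial R (Y * C g - 1)] := by
  have h1 := Groth.Agent.Lib.Helper5.RegImmB.isKoszulRegularSeq_of_isWeaklyRegular _
    (isWeaklyRegular_pair f g hf)
  exact Groth.Agent.Lib.Helper5.KosDesc.isKoszulRegularSeq_ringEquiv
    (Bivariate.equivMvPolynomial R).toRingEquiv _ h1

end Pair

end Groth.Agent.Lib.Helper5.Lci
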