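import Mathlib
import Groth.Agent.Lib.Helper5.LciP
import Groth.Agent.Lib.Helper5.LciG

/-!
# Cancellation of a smooth presentation (Jacobian form)
-/

set_option autoImplicit false
universe u

namespace Groth.Agent.Lib.Helper5.Lci

open MvPolynomial Groth.Agent.Lib.Helper5.KosDesc

section General

variable {R S : Type u} [CommRing R] [CommRing S]

theorem IsLciHom.ker_of_isPres' {f : R →+* S} (hf : IsLciHom f) {ι : Type} [Finite ι]
    (γ : MvPolynomial ι R →+* S) (hC : γ.comp C = f) (hs : Function.Surjective γ) :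
    LCI.IsKoszulRegularIdeal (RingHom.ker γ) := by
  classical
  cases nonempty_fintype ι
  let ρ : MvPolynomial ι R ≃ₐ[R] MvPolynomial (Fin (Fintype.card ι)) R :=
    renameEquiv R (Fintype.equivFin ι)
  have hpres : IsPres f (γ.comp (ρ.symm : MvPolynomial (Fin (Fintype.card ι)) R →+* _)) := by
    refine ⟨?_, hs.comp ρ.symm.surjective⟩
    ext r
    change γ (ρ.symm (C r)) = f r
    have h1 : ρ.symm (C r) = C r := by
      have := ρ.symm.commutes r
      simpa [MvPolynomial.algebraMap_eq] using this
    rw [h1]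
    exact RingHom.congr_fun hC r
  have h1 := hf.ker_of_isPres _ hpres
  have h2 := isKoszulRegularIdeal_comap_ringEquiv ρ.toRingEquiv _ h1
  rw [RingHom.comap_ker] at h2
  have h3 : (γ.comp (ρ.symm : MvPolynomial (Fin (Fintype.card ι)) R →+* _)).comp
      (ρ.toRingEquiv : MvPolynomial ι R →+* _) = γ := by
    ext x
    · simp
    · simp
  rwa [h3] at h2

theorem exists_isPres_of_finiteType {g : R →+* S} (hg : g.FiniteType) :
    ∃ (m : ℕ) (ε : MvPolynomial (Fin m) R →+* S), IsPres g ε := by
  let _ : Algebra R S := g.toAlgebra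
  have hft : Algebra.FiniteType R S := hg
  obtain ⟨m, ε, hε⟩ := Algebra.FiniteType.iff_quotient_mvPolynomial''.1 hft
  refine ⟨m, ε.toRingHom, ?_, hε⟩
  ext r
  change ε (C r) = g r
  have := ε.commutes r
  rw [MvPolynomial.algebraMap_eq] at this
  rw [this]
  rfl

end General

section Cancel

variable {R B D : Type u} [CommRing R] [CommRing B] [CommRing D]

theorem sumAlgEquiv_rename_inr (m n : ℕ) (a : MvPolynomial (Fin n) R) :
    sumAlgEquiv R (Fin m) (Fin n) (rename Sum.inr a) = C a := by
  have h := AlgHom.congr_fun (sumAlgEquiv_comp_rename_inr (R := R) (S₁ := Fin m) (S₂ := Fin n)) a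
  exact h

theorem IsLciHom.of_comp_of_jacobian {f : R →+* B} {n c : ℕ}
    (γ : MvPolynomial (Fin n) R →+* B) (hγ : IsPres f γ)
    (F : Fin c → MvPolynomial (Fin n) R) (hker : RingHom.ker γ = Ideal.ofList (List.ofFn F))
    (hKR : LCI.IsKoszulRegularSeq (MvPolynomial (Fin n) R) (List.ofFn F))
    (N : Fin c → Fin n → B)
    (hN : ∀ k' k, ∑ i, N k' i * γ (pderiv i (F k)) = if k' = k then 1 else 0)
    (g : B →+* D) (hgf : IsLciHom (g.comp f)) : IsLciHom g := by
  classical
  have hft : g.FiniteType := RingHom.FiniteType.of_comp_finiteType hgf.finiteType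
  obtain ⟨m, ε, hε⟩ := exists_isPres_of_finiteType hft
  rw [isLciHom_iff]
  refine ⟨hft, m, ε, hε, ?_⟩
  let T := MvPolynomial (Fin m ⊕ Fin n) R
  let s : T ≃ₐ[R] MvPolynomial (Fin m) (MvPolynomial (Fin n) R) := sumAlgEquiv R (Fin m) (Fin n)
  let μ : MvPolynomial (Fin m) (MvPolynomial (Fin n) R) →+* MvPolynomial (Fin m) B :=
    MvPolynomial.map γ
  have hμ : Function.Surjective μ := MvPolynomial.map_surjective γ hγ.2
  let sR : T →+* MvPolynomial (Fin m) (MvPolynomial (Fin n) R) := s
  let π : T →+* MvPolynomial (Fin m) B := μ.comp sR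
  have hπ : Function.Surjective π := hμ.comp s.surjective
  let F' : Fin c → T := fun k => rename Sum.inr (F k)
  have hπr : ∀ a : MvPolynomial (Fin n) R, π (rename Sum.inr a) = C (γ a) := by
    intro a
    change μ (s (rename Sum.inr a)) = _
    rw [sumAlgEquiv_rename_inr]
    simp [μ]
  have hsF : ∀ k, s (F' k) = C (F k) := fun k => sumAlgEquiv_rename_inr m n (F k)
  have hkerπ : RingHom.ker π = Ideal.ofList (List.ofFn F') := by
    have h1 : RingHom.ker π = (RingHom.ker μ).comap sR := by
      rw [RingHom.comap_ker]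
    have h2 : RingHom.ker μ = Ideal.ofList ((List.ofFn F).map C) := by
      rw [MvPolynomial.ker_map, hker, Ideal.map_ofList]
    have h3 : (Ideal.ofList (List.ofFn F')).map sR =
        Ideal.ofList ((List.ofFn F).map C) := by
      rw [Ideal.map_ofList, List.map_ofFn, List.map_ofFn]
      congr 2
      funext k
      exact hsF k
    rw [h1, h2, ← h3]
    exact Ideal.comap_map_of_bijective _ s.bijective
  have hKR' : LCI.IsKoszulRegularSeq T (List.ofFn F') := by
    have h1 := Groth.Agent.Lib.Helper5.KosBC.isKoszulRegularSeq_map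
      (C : MvPolynomial (Fin n) R →+* MvPolynomial (Fin m) (MvPolynomial (Fin n) R))
      (flat_C m) _ hKR
    have h2 := isKoszulRegularSeq_ringEquiv s.symm.toRingEquiv _ h1
    rw [List.map_ofFn, List.map_ofFn] at h2
    convert h2 using 2
    funext k
    change F' k = s.symm (C (F k))
    rw [← hsF k, AlgEquiv.symm_apply_apply]
  let J : Ideal T := RingHom.ker (ε.comp π)
  have hJ : LCI.IsKoszulRegularIdeal J := by
    refine hgf.ker_of_isPres' (ε.comp π) ?_ (hε.2.comp hπ)
    ext r
    change ε (μ (s (C r))) = g (f r)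
    have h1 : s (C r) = C (C r) := sumAlgEquiv_C_inl R (Fin m) (Fin n) r
    rw [h1]
    have h2 : μ (C (C r)) = C (f r) := by
      simp only [μ, MvPolynomial.map_C]
      congr 1
      exact RingHom.congr_fun hγ.1 r
    rw [h2]
    exact RingHom.congr_fun hε.1 (f r)
  have hJmap : J.map π = RingHom.ker ε := by
    change (RingHom.ker (ε.comp π)).map π = _
    rw [← RingHom.comap_ker, Ideal.map_comap_of_surjective _ hπ]
  rw [← hJmap]
  have hF'mem : ∀ k, F' k ∈ J := by
    intro k
    change ε (π (F' k)) = 0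
    rw [hπr]
    have h0 : γ (F k) = 0 := by
      have h1 : F k ∈ RingHom.ker γ := by
        rw [hker, ofList_ofFn]
        exact Ideal.subset_span ⟨k, rfl⟩
      exact h1
    rw [h0, map_zero, map_zero]
  refine isKoszulRegularIdeal_map_of_cancel' π hπ J hJ F' hF'mem hkerπ hKR' ?_
  intro q _ hJq cc hcc k'
  let ψ : T →+* D := ε.comp π
  have hψs : Function.Surjective ψ := hε.2.comp hπ
  have hmem : ∀ x : T, ψ x ∈ q.map ψ → x ∈ q := by
    intro x hx
    have h1 := Ideal.comap_map_of_surjective ψ hψs q
    have hx' : x ∈ (q.map ψ).comap ψ := hx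
    rw [h1] at hx'
    have h2 : q ⊔ Ideal.comap ψ ⊥ = q := sup_eq_left.2 (fun y hy => hJq hy)
    rwa [h2] at hx'
  have hψr : ∀ a : MvPolynomial (Fin n) R, ψ (rename Sum.inr a) = g (γ a) := by
    intro a
    change ε (π _) = _
    rw [hπr]
    exact RingHom.congr_fun hε.1 (γ a)
  have key : ∀ i : Fin n, ∑ k, ψ (cc k) * g (γ (pderiv i (F k))) ∈ q.map ψ := by
    intro i
    let Dv : Derivation ℤ T T := (pderiv (Sum.inr i)).restrictScalars ℤ
    have h1 : pderiv (Sum.inr i) (∑ k, cc k * F' k) ∈ q :=
      derivation_mem_of_mem_mul Dv q J hJq _ hcc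
    have h2 : pderiv (Sum.inr i) (∑ k, cc k * F' k) =
        ∑ k, cc k * rename Sum.inr (pderiv i (F k)) +
          ∑ k, F' k * pderiv (Sum.inr i) (cc k) := by
      rw [map_sum, ← Finset.sum_add_distrib]
      refine Finset.sum_congr rfl fun k _ => ?_
      rw [Derivation.leibniz, smul_eq_mul, smul_eq_mul, pderiv_rename Sum.inr_injective]
    rw [h2] at h1
    have h3 : ∑ k, F' k * pderiv (Sum.inr i) (cc k) ∈ q :=
      Ideal.sum_mem _ fun k _ => Ideal.mul_mem_right _ _ (hJq (hF'mem k))
    have h4 := (Ideal.add_mem_iff_left _ h3).1 h1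
    have h5 := Ideal.mem_map_of_mem ψ h4
    rw [map_sum] at h5
    convert h5 using 1
    refine Finset.sum_congr rfl fun k _ => ?_
    rw [map_mul, hψr]
  apply hmem
  have h6 : ψ (cc k') = ∑ i, g (N k' i) * ∑ k, ψ (cc k) * g (γ (pderiv i (F k))) := by
    have h7 : ∀ k, ∑ i, g (N k' i) * g (γ (pderiv i (F k))) = if k' = k then 1 else 0 := by
      intro k
      have := congrArg g (hN k' k)
      rw [map_sum] at this
      simp only [map_mul] at this
      rw [this]
      split_ifs <;> simp
    calc ψ (cc k') = ∑ k, ψ (cc k) * (if k' = k then 1 else 0) := by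
          simp
      _ = ∑ k, ψ (cc k) * ∑ i, g (N k' i) * g (γ (pderiv i (F k))) := by
          refine Finset.sum_congr rfl fun k _ => ?_
          rw [h7]
      _ = ∑ i, g (N k' i) * ∑ k, ψ (cc k) * g (γ (pderiv i (F k))) := by
          simp only [Finset.mul_sum]
          rw [Finset.sum_comm]
          refine Finset.sum_congr rfl fun i _ => Finset.sum_congr rfl fun k _ => ?_
          ring
  rw [h6]
  exact Ideal.sum_mem _ fun i _ => Ideal.mul_mem_left _ _ (key i)

end Cancel

end Groth.Agent.Lib.Helper5.Lci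

namespace Groth.Agent.Lib.Helper5.Lci

open Polynomial Groth.Agent.Lib.Helper5.KosDesc
open scoped Bivariate

section StdEtale

variable {R S : Type u} [CommRing R] [CommRing S] [Algebra R S]

/-- the two relations of a standard etale presentation -/
noncomputable def seRel (P : StandardEtalePresentation R S) : Fin 2 → MvPolynomial (Fin 2) R :=
  ![Bivariate.equivMvPolynomial R (C P.f), Bivariate.equivMvPolynomial R (Y * C P.g - 1)]

/-- the presentation map of a standard etale presentation -/
noncomputable def seMap (P : StandardEtalePresentation R S) : MvPolynomial (Fin 2) R →+* S :=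
  (MvPolynomial.aeval P.toPresentation.val : MvPolynomial (Fin 2) R →ₐ[R] S).toRingHom

theorem seMap_isPres (P : StandardEtalePresentation R S) :
    IsPres (algebraMap R S) (seMap P) := by
  refine ⟨?_, P.toPresentation.aeval_val_surjective⟩
  ext r
  change MvPolynomial.aeval P.toPresentation.val (MvPolynomial.C r) = _
  rw [MvPolynomial.aeval_C]

theorem ker_seMap (P : StandardEtalePresentation R S) :
    RingHom.ker (seMap P) = Ideal.ofList (List.ofFn (seRel P)) := by
  have h1 := P.toPresentation.span_range_relation_eq_ker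
  rw [Algebra.Generators.ker_eq_ker_aeval_val] at h1
  change RingHom.ker (MvPolynomial.aeval P.toPresentation.val) = _
  rw [← h1, ofList_ofFn]
  rfl

theorem kr_seRel (P : StandardEtalePresentation R S) :
    LCI.IsKoszulRegularSeq (MvPolynomial (Fin 2) R) (List.ofFn (seRel P)) := by
  have h : List.ofFn (seRel P) =
      [Bivariate.equivMvPolynomial R (C P.f), Bivariate.equivMvPolynomial R (Y * C P.g - 1)] := by
    simp [seRel]
  rw [h]
  exact kr_pair P.f P.g P.monic_f

end StdEtale

section StdEtaleJac

variable {R S : Type u} [CommRing R] [CommRing S] [Algebra R S]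

theorem exists_jacobian_inverse (P : StandardEtalePresentation R S) :
    ∃ N : Fin 2 → Fin 2 → S, ∀ k' k,
      ∑ i, N k' i * seMap P (MvPolynomial.pderiv i (seRel P k)) = if k' = k then 1 else 0 := by
  classical
  let Q := P.toSubmersivePresentation
  let M : Matrix (Fin 2) (Fin 2) S := (algebraMap Q.Ring S).mapMatrix Q.jacobiMatrix
  have hdet : IsUnit M.det := by
    have h1 : M.det = Q.jacobian := by
      rw [Algebra.PreSubmersivePresentation.jacobian_eq_jacobiMatrix_det]
      exact (RingHom.map_det _ _).symm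
    rw [h1]
    exact Q.jacobian_isUnit
  refine ⟨fun k' i => M⁻¹ k' i, fun k' k => ?_⟩
  have h2 : (M⁻¹ * M) k' k = (1 : Matrix (Fin 2) (Fin 2) S) k' k := by
    rw [Matrix.nonsing_inv_mul _ hdet]
  rw [Matrix.mul_apply, Matrix.one_apply] at h2
  rw [← h2]
  refine Finset.sum_congr rfl fun i _ => ?_
  congr 1
  change _ = algebraMap Q.Ring S (Q.jacobiMatrix i k)
  rw [Algebra.PreSubmersivePresentation.jacobiMatrix_apply, Algebra.Generators.algebraMap_apply]
  rfl

end StdEtaleJac

end Groth.Agent.Lib.Helper5.Lci
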