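import Mathlib
import Groth.Agent.Lib.Helper5.LciQ

/-!
# Smooth ring maps are local complete intersections; cancellation of smooth maps
-/

set_option autoImplicit false
universe u

namespace Groth.Agent.Lib.Helper5.Lci

open MvPolynomial Groth.Agent.Lib.Helper5.KosDesc

section Cor

variable {R S D : Type u} [CommRing R] [CommRing S] [CommRing D]

theorem isKoszulRegularIdeal_bot : LCI.IsKoszulRegularIdeal (⊥ : Ideal R) := by
  rw [← Ideal.ofList_nil]
  exact isKoszulRegularIdeal_ofList _
    (Groth.Agent.Lib.Helper5.RegImmB.isKoszulRegularSeq_of_isWeaklyRegular _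
      (RingTheory.Sequence.IsWeaklyRegular.nil _ _))

/-- a standard etale algebra is a local complete intersection -/
theorem isLciHom_of_isStandardEtale [Algebra R S] [Algebra.IsStandardEtale R S] :
    IsLciHom (algebraMap R S) := by
  obtain ⟨P⟩ := Algebra.IsStandardEtale.nonempty_standardEtalePresentation (R := R) (S := S)
  rw [isLciHom_iff]
  refine ⟨?_, 2, seMap P, seMap_isPres P, ?_⟩
  · rw [RingHom.finiteType_algebraMap]
    infer_instance
  · rw [ker_seMap]
    exact isKoszulRegularIdeal_ofList _ (kr_seRel P)

theorem isPres_id (n : ℕ) :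
    IsPres (C : R →+* MvPolynomial (Fin n) R) (RingHom.id (MvPolynomial (Fin n) R)) :=
  ⟨rfl, Function.surjective_id⟩

/-- a polynomial algebra is a local complete intersection -/
theorem isLciHom_C (n : ℕ) : IsLciHom (C : R →+* MvPolynomial (Fin n) R) := by
  rw [isLciHom_iff]
  refine ⟨?_, n, RingHom.id _, isPres_id n, ?_⟩
  · have h : (algebraMap R (MvPolynomial (Fin n) R)).FiniteType := by
      rw [RingHom.finiteType_algebraMap]
      infer_instance
    rwa [MvPolynomial.algebraMap_eq] at h
  · have : RingHom.ker (RingHom.id (MvPolynomial (Fin n) R)) = ⊥ :=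
      (RingHom.injective_iff_ker_eq_bot _).1 Function.injective_id
    rw [this]
    exact isKoszulRegularIdeal_bot

theorem IsLciHom.of_comp_C {n : ℕ} (g : MvPolynomial (Fin n) R →+* D)
    (h : IsLciHom (g.comp C)) : IsLciHom g := by
  refine IsLciHom.of_comp_of_jacobian (c := 0) (RingHom.id _) (isPres_id n) Fin.elim0 ?_ ?_
    Fin.elim0 (fun k' => Fin.elim0 k') g h
  · have : RingHom.ker (RingHom.id (MvPolynomial (Fin n) R)) = ⊥ :=
      (RingHom.injective_iff_ker_eq_bot _).1 Function.injective_id
    rw [this, List.ofFn_zero, Ideal.ofList_nil]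
  · rw [List.ofFn_zero]
    exact Groth.Agent.Lib.Helper5.RegImmB.isKoszulRegularSeq_of_isWeaklyRegular _
      (RingTheory.Sequence.IsWeaklyRegular.nil _ _)

theorem IsLciHom.of_comp_isStandardEtale [Algebra R S] [Algebra.IsStandardEtale R S]
    (g : S →+* D) (h : IsLciHom (g.comp (algebraMap R S))) : IsLciHom g := by
  obtain ⟨P⟩ := Algebra.IsStandardEtale.nonempty_standardEtalePresentation (R := R) (S := S)
  obtain ⟨N, hN⟩ := exists_jacobian_inverse P
  exact IsLciHom.of_comp_of_jacobian (seMap P) (seMap_isPres P) (seRel P) (ker_seMap P)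
    (kr_seRel P) N hN g h

end Cor

section Smooth

variable {A B D : Type u} [CommRing A] [CommRing B] [CommRing D]

/-- `B_b` is standard etale over a polynomial algebra over `A` -/
def Good (A : Type u) {B : Type u} [CommRing A] [CommRing B] [Algebra A B] (b : B) : Prop :=
  ∃ (d : ℕ) (_ : Algebra (MvPolynomial (Fin d) A) (Localization.Away b)),
    IsScalarTower A (MvPolynomial (Fin d) A) (Localization.Away b) ∧
    Algebra.IsStandardEtale (MvPolynomial (Fin d) A) (Localization.Away b)

theorem exists_good [Algebra A B] [Algebra.Smooth A B] (p : Ideal B) [p.IsPrime] :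
    ∃ b ∉ p, Good A b := by
  have : Algebra.IsSmoothAt A p := by
    have h := Algebra.smoothLocus_eq_univ (R := A) (A := B)
    have h1 : (⟨p, inferInstance⟩ : PrimeSpectrum B) ∈ Algebra.smoothLocus A B := by
      rw [h]; trivial
    exact h1
  exact Algebra.IsSmoothAt.exists_isStandardEtale_mvPolynomial

theorem span_good [Algebra A B] [Algebra.Smooth A B] :
    Ideal.span {b : B | Good A b} = ⊤ := by
  by_contra hne
  obtain ⟨m, hm, hle⟩ := Ideal.exists_le_maximal _ hne
  obtain ⟨b, hb, hg⟩ := exists_good (A := A) m
  exact hb (hle (Ideal.subset_span hg))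

/-- **Cancellation of a smooth map.** -/
theorem IsLciHom.of_comp_smooth {f : A →+* B} (hf : f.Smooth) (g : B →+* D)
    (h : IsLciHom (g.comp f)) : IsLciHom g := by
  let _ : Algebra A B := f.toAlgebra
  have : Algebra.Smooth A B := hf
  apply isLciHom_ofLocalizationSpanTarget g (g '' {b : B | Good A b})
    (by rw [← Ideal.map_span, span_good, Ideal.map_top])
  rintro ⟨_, b, hb, rfl⟩
  obtain ⟨d, alg, tower, se⟩ := hb
  change IsLciHom ((algebraMap D (Localization.Away (g b))).comp g)
  rw [← phi_comp g b]
  refine (isLciHom_algebraMap_away b).comp ?_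
  apply IsLciHom.of_comp_isStandardEtale (R := MvPolynomial (Fin d) A) (phi g b)
  apply IsLciHom.of_comp_C
  have h1 : ((phi g b).comp (algebraMap (MvPolynomial (Fin d) A) (Localization.Away b))).comp C =
      (algebraMap D (Localization.Away (g b))).comp (g.comp f) := by
    ext a
    change phi g b (algebraMap (MvPolynomial (Fin d) A) (Localization.Away b) (C a)) = _
    rw [← MvPolynomial.algebraMap_eq, ← IsScalarTower.algebraMap_apply,
      IsScalarTower.algebraMap_apply A B (Localization.Away b), phi_algebraMap]
    rfl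
  rw [h1]
  exact h.comp (isLciHom_algebraMap_away (g b))

/-- **A smooth ring map is a local complete intersection.** -/
theorem isLciHom_of_smooth {f : A →+* B} (hf : f.Smooth) : IsLciHom f := by
  let _ : Algebra A B := f.toAlgebra
  have : Algebra.Smooth A B := hf
  apply isLciHom_ofLocalizationSpanTarget f {b : B | Good A b} span_good
  rintro ⟨b, hb⟩
  obtain ⟨d, alg, tower, se⟩ := hb
  change IsLciHom ((algebraMap B (Localization.Away b)).comp f)
  have h1 : (algebraMap B (Localization.Away b)).comp f =
      (algebraMap (MvPolynomial (Fin d) A) (Localization.Away b)).comp C := by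
    ext a
    change algebraMap B (Localization.Away b) (algebraMap A B a) =
      algebraMap (MvPolynomial (Fin d) A) (Localization.Away b) (C a)
    rw [← MvPolynomial.algebraMap_eq, ← IsScalarTower.algebraMap_apply,
      ← IsScalarTower.algebraMap_apply]
  rw [h1]
  exact (isLciHom_C d).comp isLciHom_of_isStandardEtale

end Smooth

end Groth.Agent.Lib.Helper5.Lci
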