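import Mathlib
import Groth.Agent.Lib.Helper5.LciR
import Groth.Agent.Lib.Helper5.RegSpreadSch
import Groth.Agent.Lib.Helper5.RegSchImm
import Groth.Prelude.Def_RegImm

/-!
# Local complete intersection morphisms of schemes: the affine-local form and the
factorisation form agree
-/

set_option autoImplicit false
universe u

namespace Groth.Agent.Lib.Helper5.Lci

open AlgebraicGeometry CategoryTheory Limits Groth.Agent.Lib.Helper5.KosDesc
open Groth.Agent.Lib.Helper5.RegImmA

section Surj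

variable {R S : Type u} [CommRing R] [CommRing S]

/-- the presentation with no variables of a surjective map -/
noncomputable def zeroPres (f : R →+* S) : MvPolynomial (Fin 0) R →+* S :=
  f.comp (MvPolynomial.isEmptyAlgEquiv R (Fin 0) : MvPolynomial (Fin 0) R →+* R)

theorem zeroPres_isPres (f : R →+* S) (hf : Function.Surjective f) : IsPres f (zeroPres f) := by
  refine ⟨?_, hf.comp (MvPolynomial.isEmptyAlgEquiv R (Fin 0)).surjective⟩
  ext r
  change f (MvPolynomial.isEmptyAlgEquiv R (Fin 0) (MvPolynomial.C r)) = f r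
  congr 1
  exact (MvPolynomial.isEmptyAlgEquiv R (Fin 0)).commutes r

theorem ker_zeroPres (f : R →+* S) :
    RingHom.ker (zeroPres f) = (RingHom.ker f).comap
      ((MvPolynomial.isEmptyAlgEquiv R (Fin 0)).toRingEquiv : MvPolynomial (Fin 0) R →+* R) := by
  rw [RingHom.comap_ker]
  rfl

theorem isLciHom_of_surjective_of_kr (f : R →+* S) (hf : Function.Surjective f)
    (hk : LCI.IsKoszulRegularIdeal (RingHom.ker f)) : IsLciHom f := by
  rw [isLciHom_iff]
  refine ⟨RingHom.FiniteType.of_surjective f hf, 0, zeroPres f, zeroPres_isPres f hf, ?_⟩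
  rw [ker_zeroPres]
  exact isKoszulRegularIdeal_comap_ringEquiv _ _ hk

theorem IsLciHom.ker_of_surjective {f : R →+* S} (h : IsLciHom f) (hf : Function.Surjective f) :
    LCI.IsKoszulRegularIdeal (RingHom.ker f) := by
  have h1 := h.ker_of_isPres (zeroPres f) (zeroPres_isPres f hf)
  rw [ker_zeroPres] at h1
  have h2 := isKoszulRegularIdeal_map_ringEquiv
    (MvPolynomial.isEmptyAlgEquiv R (Fin 0)).toRingEquiv _ h1
  have h3 : Ideal.map ((MvPolynomial.isEmptyAlgEquiv R (Fin 0)).toRingEquiv :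
      MvPolynomial (Fin 0) R →+* R)
      (Ideal.comap ((MvPolynomial.isEmptyAlgEquiv R (Fin 0)).toRingEquiv :
        MvPolynomial (Fin 0) R →+* R) (RingHom.ker f)) = RingHom.ker f :=
    Ideal.map_comap_of_surjective _
      (MvPolynomial.isEmptyAlgEquiv R (Fin 0)).toRingEquiv.surjective _
  rwa [h3] at h2

end Surj

/-- affine-locally local complete intersection morphisms -/
def LciMor : MorphismProperty Scheme.{u} := affineLocally @IsLciHom

instance : HasRingHomProperty LciMor.{u} @IsLciHom := ⟨isLciHom_propertyIsLocal, rfl⟩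

instance : LciMor.{u}.IsStableUnderComposition :=
  HasRingHomProperty.stableUnderComposition isLciHom_stableUnderComposition

variable {X Y S Z : Scheme.{u}}

theorem lciMor_of_smooth (f : X ⟶ Y) [Smooth f] : LciMor f := by
  rw [HasRingHomProperty.iff_appLE (P := LciMor)]
  intro U V e
  exact isLciHom_of_smooth (f.smooth_appLE U.2 V.2 e)

theorem lciMor_le_locallyOfFiniteType : LciMor.{u} ≤ @LocallyOfFiniteType := by
  intro X Y f hf
  rw [HasRingHomProperty.iff_appLE (P := @LocallyOfFiniteType)]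
  intro U V e
  exact (HasRingHomProperty.appLE (P := LciMor) f hf U V e).finiteType

theorem lciMor_of_comp_smooth (f : X ⟶ Y) (g : Y ⟶ S) [Smooth g] (h : LciMor (f ≫ g)) :
    LciMor f := by
  rw [HasRingHomProperty.iff_exists_appLE (P := LciMor)
    (isLciHom_stableUnderComposition.stableUnderCompositionWithLocalizationAway
        isLciHom_holdsForLocalizationAway).left]
  intro x
  obtain ⟨_, ⟨W, hW, rfl⟩, hxW, -⟩ := S.isBasis_affineOpens.exists_subset_of_mem_open
    (Set.mem_univ (g (f x))) isOpen_univ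
  obtain ⟨_, ⟨V, hV, rfl⟩, hxV, hVW⟩ := Y.isBasis_affineOpens.exists_subset_of_mem_open
    (show f x ∈ (g ⁻¹ᵁ W : Set Y) from hxW) (g ⁻¹ᵁ W).2
  obtain ⟨_, ⟨U, hU, rfl⟩, hxU, hUV⟩ := X.isBasis_affineOpens.exists_subset_of_mem_open
    (show x ∈ (f ⁻¹ᵁ V : Set X) from hxV) (f ⁻¹ᵁ V).2
  refine ⟨⟨V, hV⟩, ⟨U, hU⟩, hxU, hUV, ?_⟩
  have h1 := HasRingHomProperty.appLE (P := LciMor) (f ≫ g) h ⟨W, hW⟩ ⟨U, hU⟩
    (hUV.trans ((TopologicalSpace.Opens.map f.base).map (homOfLE hVW)).le)
  rw [← Scheme.Hom.appLE_comp_appLE f g W V U hVW hUV] at h1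
  exact IsLciHom.of_comp_smooth (g.smooth_appLE hW hV hVW) _ h1

theorem ker_le_primeIdealOf (i : Z ⟶ X) {U : X.Opens} (hU : IsAffineOpen U)
    (hV : IsAffineOpen (i ⁻¹ᵁ U)) (z : Z) (hz : i z ∈ U) :
    RingHom.ker (i.app U).hom ≤ (hU.primeIdealOf ⟨i z, hz⟩).asIdeal := by
  have h1 := IsAffineOpen.comap_primeIdealOf_appLE U hU (i ⁻¹ᵁ U) hV le_rfl (x := z) hz
  intro a ha
  rw [← h1]
  change (i.appLE U (i ⁻¹ᵁ U) le_rfl).hom a ∈ (hV.primeIdealOf ⟨z, hz⟩).asIdeal
  rw [← Scheme.Hom.app_eq_appLE]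
  have h0 : (i.app U).hom a = 0 := ha
  rw [h0]
  exact zero_mem _

theorem isRegularImmersionAt_of_kr_ideal (i : Z ⟶ X) {U : X.Opens} (hU : IsAffineOpen U)
    [IsClosedImmersion (i ∣_ U)] (hK : LCI.IsKoszulRegularIdeal (RingHom.ker (i.app U).hom))
    (z : Z) (hz : i z ∈ U) : RegImm.IsRegularImmersionAt .koszul i z := by
  have hle := ker_le_primeIdealOf i hU (isAffineOpen_preimage_of_restrict i hU) z hz
  obtain ⟨g, hg, a, -, haKR, hspan⟩ :=
    exists_global_gens _ hK (hU.primeIdealOf ⟨i z, hz⟩).asIdeal hle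
  obtain ⟨hU₁, hc₁, hz₁, loc₁, -, hk₁⟩ :=
    Groth.Agent.Lib.Helper5.RegSpreadSch.step i hU z hz g hg
  let e : Localization.Away g ≃ₐ[Γ(X, U)] Γ(X, X.basicOpen g) :=
    IsLocalization.algEquiv (Submonoid.powers g) (Localization.Away g) Γ(X, X.basicOpen g)
  have he : ∀ x : Γ(X, U), e (algebraMap Γ(X, U) (Localization.Away g) x) =
      algebraMap Γ(X, U) Γ(X, X.basicOpen g) x := fun x => e.commutes x
  have hl : (a.map (algebraMap Γ(X, U) (Localization.Away g))).map e.toRingEquiv =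
      a.map (algebraMap Γ(X, U) Γ(X, X.basicOpen g)) := by
    rw [List.map_map]
    apply List.map_congr_left
    intro x _
    exact he x
  refine ⟨⟨X.basicOpen g, hU₁⟩, hz₁, hc₁, a.map (algebraMap Γ(X, U) Γ(X, X.basicOpen g)), ?_, ?_⟩
  · have h1 := isKoszulRegularSeq_ringEquiv e.toRingEquiv _ haKR
    rwa [hl] at h1
  · rw [hk₁]
    have h2 := congrArg (Ideal.map (e.toRingEquiv : Localization.Away g →+* Γ(X, X.basicOpen g)))
      hspan
    rw [Ideal.map_map, Ideal.map_ofList] at h2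
    have h3 : (e.toRingEquiv : Localization.Away g →+* Γ(X, X.basicOpen g)).comp
        (algebraMap Γ(X, U) (Localization.Away g)) =
        algebraMap Γ(X, U) Γ(X, X.basicOpen g) := RingHom.ext he
    rw [h3] at h2
    rw [h2]
    congr 1

theorem isLciHom_locAwaySource :
    RingHom.StableUnderCompositionWithLocalizationAwaySource @IsLciHom :=
  (isLciHom_stableUnderComposition.stableUnderCompositionWithLocalizationAway
        isLciHom_holdsForLocalizationAway).left

theorem lciMor_of_isRegularImmersion (i : Z ⟶ X) (h : RegImm.IsRegularImmersion .koszul i) :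
    LciMor i := by
  obtain ⟨him, hreg⟩ := h
  rw [HasRingHomProperty.iff_exists_appLE (P := LciMor) isLciHom_locAwaySource]
  intro z
  obtain ⟨U, hzU, hc, rs, hrs, hker⟩ := hreg z
  have := hc
  refine ⟨U, ⟨i ⁻¹ᵁ U.1, isAffineOpen_preimage_of_restrict i U.2⟩, hzU, le_rfl, ?_⟩
  rw [← Scheme.Hom.app_eq_appLE]
  apply isLciHom_of_surjective_of_kr _ (app_surjective_of_restrict i U.2)
  rw [hker]
  exact isKoszulRegularIdeal_ofList _ hrs

theorem isRegularImmersion_of_lciMor (i : Z ⟶ X) [IsImmersion i] (h : LciMor i) :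
    RegImm.IsRegularImmersion .koszul i := by
  refine ⟨inferInstance, fun z => ?_⟩
  obtain ⟨_, ⟨U, hU, rfl⟩, hzU, hUle⟩ :=
    X.isBasis_affineOpens.exists_subset_of_mem_open
      (show i z ∈ (i.coborderRange : Set X) from subset_coborder ⟨z, rfl⟩) i.coborderRange.2
  have hc : IsClosedImmersion (i ∣_ U) :=
    Groth.Agent.Lib.Helper5.RegSchImm.isClosedImmersion_restrict_of_le_coborderRange i hUle
  have hV := isAffineOpen_preimage_of_restrict i hU
  have h1 := HasRingHomProperty.appLE (P := LciMor) i h ⟨U, hU⟩ ⟨_, hV⟩ le_rfl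
  rw [← Scheme.Hom.app_eq_appLE] at h1
  exact isRegularImmersionAt_of_kr_ideal i hU
    (h1.ker_of_surjective (app_surjective_of_restrict i hU)) z hzU

theorem lciMor_of_isKoszulAt (f : X ⟶ Y) (h : ∀ x, Synt.IsKoszulAt f x) : LciMor f := by
  choose U P i π hxU hlft hreg hsm hfac using h
  apply IsZariskiLocalAtSource.of_iSup_eq_top (P := LciMor) U
  · rw [eq_top_iff]
    intro x _
    exact TopologicalSpace.Opens.mem_iSup.2 ⟨x, hxU x⟩
  · intro x
    rw [← hfac x]
    have := hsm x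
    exact LciMor.comp_mem _ _ (lciMor_of_isRegularImmersion _ (hreg x)) (lciMor_of_smooth _)

theorem smooth_Spec_map_C (R : Type u) [CommRing R] (n : ℕ) :
    Smooth (Spec.map (CommRingCat.ofHom (MvPolynomial.C : R →+* MvPolynomial (Fin n) R))) := by
  rw [HasRingHomProperty.Spec_iff (P := @Smooth)]
  change (MvPolynomial.C : R →+* MvPolynomial (Fin n) R).Smooth
  rw [← MvPolynomial.algebraMap_eq, RingHom.smooth_algebraMap]
  exact {}

theorem isKoszulAt_of_lciMor_aux (f : X ⟶ Y) (h : LciMor f) (x : X) {V : Y.Opens}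
    (hV : IsAffineOpen V) {U : X.Opens} (hU : IsAffineOpen U) (hxU : x ∈ U) (hUV : U ≤ f ⁻¹ᵁ V) :
    Synt.IsKoszulAt f x := by
  have h1 := HasRingHomProperty.appLE (P := LciMor) f h ⟨V, hV⟩ ⟨U, hU⟩ hUV
  obtain ⟨n, γ, hγ, hk⟩ := h1.exists_isPres
  let P : Scheme.{u} := Spec (CommRingCat.of (MvPolynomial (Fin n) Γ(Y, V)))
  let j : Spec Γ(X, U) ⟶ P := Spec.map (CommRingCat.ofHom γ)
  let i : (U : Scheme.{u}) ⟶ P := hU.isoSpec.hom ≫ j
  let c : P ⟶ Spec Γ(Y, V) :=
    Spec.map (CommRingCat.ofHom (MvPolynomial.C : Γ(Y, V) →+* MvPolynomial (Fin n) Γ(Y, V)))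
  let π : P ⟶ Y := c ≫ hV.fromSpec
  have hfac : i ≫ π = U.ι ≫ f := by
    have h2 : j ≫ c = Spec.map (f.appLE V U hUV) := by
      rw [← Spec.map_comp]
      congr 1
      ext a
      exact RingHom.congr_fun hγ.1 a
    change (hU.isoSpec.hom ≫ j) ≫ c ≫ hV.fromSpec = _
    rw [Category.assoc, ← Category.assoc j, h2, IsAffineOpen.SpecMap_appLE_fromSpec f hV hU hUV,
      IsAffineOpen.isoSpec_hom_fromSpec_assoc]
  have hjc : IsClosedImmersion j := IsClosedImmersion.spec_of_surjective _ hγ.2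
  have hsm : Smooth π := by
    have : Smooth c := smooth_Spec_map_C Γ(Y, V) n
    infer_instance
  have hlci : LciMor (U.ι ≫ f) := IsZariskiLocalAtSource.comp h U.ι
  refine ⟨U, P, i, π, hxU, lciMor_le_locallyOfFiniteType _ hlci, ?_, hsm, hfac⟩
  have : IsImmersion i := inferInstance
  apply isRegularImmersion_of_lciMor
  apply LciMor.comp_mem
  · exact lciMor_of_smooth _
  · rw [HasRingHomProperty.Spec_iff (P := LciMor)]
    exact isLciHom_of_surjective_of_kr γ hγ.2 hk

theorem isKoszulAt_of_lciMor (f : X ⟶ Y) (h : LciMor f) (x : X) : Synt.IsKoszulAt f x := by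
  obtain ⟨_, ⟨V, hV, rfl⟩, hxV, -⟩ := Y.isBasis_affineOpens.exists_subset_of_mem_open
    (Set.mem_univ (f x)) isOpen_univ
  obtain ⟨_, ⟨U, hU, rfl⟩, hxU, hUV⟩ := X.isBasis_affineOpens.exists_subset_of_mem_open
    (show x ∈ (f ⁻¹ᵁ V : Set X) from hxV) (f ⁻¹ᵁ V).2
  exact isKoszulAt_of_lciMor_aux f h x hV hU hxU hUV

end Groth.Agent.Lib.Helper5.Lci
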