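import Mathlib
import Groth.Prelude.Def_RegImm
import Groth.Agent.Lib.Helper5.LciS

set_option autoImplicit false
universe u

namespace Groth.Agent.Lib.Helper5.KLoc

open AlgebraicGeometry CategoryTheory Limits
open Groth.Agent.Lib.Helper5.Lci

variable {X Y : Scheme.{u}}

/-- `f` is a local complete intersection morphism near `x`. -/
def KNear (f : X ⟶ Y) (x : X) : Prop := ∃ W : X.Opens, x ∈ W ∧ LciMor (W.ι ≫ f)

/-- the affine form used in the statement. -/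
def KAt (f : X ⟶ Y) (x : X) : Prop :=
  ∃ (U : X.Opens) (V : Y.Opens) (_ : IsAffineOpen U) (_ : IsAffineOpen V) (hUV : U ≤ f ⁻¹ᵁ V),
    x ∈ U ∧
      letI := (f.appLE V U hUV).hom.toAlgebra
      LCI.IsLCI Γ(Y, V) Γ(X, U)

theorem exists_affine_nhd (x : X) (W : X.Opens) (hx : x ∈ W) :
    ∃ U : X.Opens, IsAffineOpen U ∧ x ∈ U ∧ U ≤ W := by
  obtain ⟨_, ⟨U, hU, rfl⟩, hxU, hUle⟩ := X.isBasis_affineOpens.exists_subset_of_mem_open
    (show x ∈ (W : Set X) from hx) W.2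
  exact ⟨U, hU, hxU, hUle⟩

theorem kNear_of_openImmersion {U : Scheme.{u}} (u : U ⟶ X) [IsOpenImmersion u] (f : X ⟶ Y)
    (y : U) : KNear (u ≫ f) y ↔ KNear f (u y) := by
  constructor
  · rintro ⟨W, hyW, hW⟩
    refine ⟨u ''ᵁ W, ⟨y, hyW, rfl⟩, ?_⟩
    have h1 : (u.isoImage W).hom ≫ (u ''ᵁ W).ι ≫ f = W.ι ≫ u ≫ f := by
      rw [← Category.assoc, Scheme.Hom.isoImage_hom_ι, Category.assoc]
    rw [← h1] at hW
    exact (MorphismProperty.cancel_left_of_respectsIso LciMor _ _).mp hW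
  · rintro ⟨W, hyW, hW⟩
    refine ⟨u ⁻¹ᵁ W, hyW, ?_⟩
    have h1 : (u ⁻¹ᵁ W).ι ≫ u ≫ f = (u ∣_ W) ≫ W.ι ≫ f := by
      rw [← Category.assoc, ← morphismRestrict_ι, Category.assoc]
    rw [h1]
    exact IsZariskiLocalAtSource.comp hW _

theorem kNear_of_kAt (f : X ⟶ Y) (x : X) (h : KAt f x) : KNear f x := by
  obtain ⟨U, V, hU, hV, hUV, hxU, hL⟩ := h
  refine ⟨U, hxU, ?_⟩
  have h1 : U.ι ≫ f = hU.isoSpec.hom ≫ Spec.map (f.appLE V U hUV) ≫ hV.fromSpec := by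
    rw [IsAffineOpen.SpecMap_appLE_fromSpec f hV hU hUV, IsAffineOpen.isoSpec_hom_fromSpec_assoc]
  rw [h1]
  rw [MorphismProperty.cancel_left_of_respectsIso LciMor]
  refine LciMor.comp_mem _ _ ?_ (lciMor_of_smooth _)
  rw [HasRingHomProperty.Spec_iff (P := LciMor)]
  let _ : Algebra Γ(Y, V) Γ(X, U) := (f.appLE V U hUV).hom.toAlgebra
  exact isLciHom_algebraMap.mpr hL

theorem kAt_of_kNear (f : X ⟶ Y) (x : X) (h : KNear f x) : KAt f x := by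
  obtain ⟨W, hxW, hW⟩ := h
  obtain ⟨V, hV, hxV, -⟩ := exists_affine_nhd (f x) ⊤ trivial
  obtain ⟨U, hU, hxU, hUle⟩ := exists_affine_nhd x (W ⊓ f ⁻¹ᵁ V) ⟨hxW, hxV⟩
  have hUW : U ≤ W := fun y hy => (hUle hy).1
  have hUV : U ≤ f ⁻¹ᵁ V := fun y hy => (hUle hy).2
  refine ⟨U, V, hU, hV, hUV, hxU, ?_⟩
  have h1 : LciMor (U.ι ≫ f) := by
    rw [← X.homOfLE_ι hUW, Category.assoc]
    exact IsZariskiLocalAtSource.comp hW _
  have : IsAffine U.toScheme := hU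
  have e : (⊤ : U.toScheme.Opens) ≤ (U.ι ≫ f) ⁻¹ᵁ V := fun y _ => hUV y.2
  have h2 := HasRingHomProperty.appLE (P := LciMor) (U.ι ≫ f) h1 ⟨V, hV⟩ ⟨⊤, isAffineOpen_top _⟩ e
  rw [← Scheme.Hom.appLE_comp_appLE U.ι f V U ⊤ hUV U.ι_preimage_self.ge] at h2
  have h3 : IsLciHom (f.appLE V U hUV).hom := by
    rw [CommRingCat.hom_comp] at h2
    exact (isLciHom_respectsIso.cancel_right_isIso (f.appLE V U hUV)
      (U.ι.appLE U ⊤ U.ι_preimage_self.ge)).mp h2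
  let _ : Algebra Γ(Y, V) Γ(X, U) := (f.appLE V U hUV).hom.toAlgebra
  exact isLciHom_algebraMap.mp h3

theorem kAt_iff_kNear (f : X ⟶ Y) (x : X) : KAt f x ↔ KNear f x :=
  ⟨kNear_of_kAt f x, kAt_of_kNear f x⟩

end Groth.Agent.Lib.Helper5.KLoc
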