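import Mathlib
import Groth.Prelude.Def_RegImm
import Groth.Agent.Lib.Helper5.KLocD
import Groth.Agent.Lib.Helper5.KLN
import Groth.Agent.Lib.Helper5.TransNbhdL

set_option autoImplicit false
universe u

namespace Groth.Agent.Lib.Helper5.KLoc

open AlgebraicGeometry CategoryTheory Limits
open Groth.Agent.Lib.Helper5.Lci Groth.Agent.Lib.Helper5.TransNbhd Groth.Agent.Lib.Helper5.KL
open Groth.Agent.Lib.Helper5.RegImmA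

variable {Z P Y : Scheme.{u}}

theorem kNear_of_isRegularImmersionAt (i : Z ⟶ P) (π : P ⟶ Y) [Smooth π] (z : Z)
    (h : RegImm.IsRegularImmersionAt RegImm.Kind.koszul i z) : KNear (i ≫ π) z := by
  obtain ⟨U₀, hzU₀, hc, rs, hrs, hker⟩ := h
  have := hc
  have hW : IsAffineOpen (i ⁻¹ᵁ U₀.1) := isAffineOpen_preimage_of_restrict i U₀.2
  refine ⟨i ⁻¹ᵁ U₀.1, hzU₀, ?_⟩
  rw [← Category.assoc]
  refine LciMor.comp_mem _ _ ?_ (lciMor_of_smooth π)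
  rw [HasRingHomProperty.iff_exists_appLE (P := LciMor) isLciHom_locAwaySource]
  intro y
  have : IsAffine (i ⁻¹ᵁ U₀.1).toScheme := hW
  have e : (⊤ : (i ⁻¹ᵁ U₀.1).toScheme.Opens) ≤ ((i ⁻¹ᵁ U₀.1).ι ≫ i) ⁻¹ᵁ U₀.1 := fun y _ => y.2
  refine ⟨U₀, ⟨⊤, isAffineOpen_top _⟩, trivial, e, ?_⟩
  rw [← Scheme.Hom.appLE_comp_appLE (i ⁻¹ᵁ U₀.1).ι i U₀.1 (i ⁻¹ᵁ U₀.1) ⊤ le_rfl
    (i ⁻¹ᵁ U₀.1).ι_preimage_self.ge, CommRingCat.hom_comp]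
  apply (isLciHom_respectsIso.cancel_right_isIso (i.appLE U₀.1 (i ⁻¹ᵁ U₀.1) le_rfl)
    ((i ⁻¹ᵁ U₀.1).ι.appLE (i ⁻¹ᵁ U₀.1) ⊤ (i ⁻¹ᵁ U₀.1).ι_preimage_self.ge)).mpr
  rw [← Scheme.Hom.app_eq_appLE]
  apply isLciHom_of_surjective_of_kr _ (app_surjective_of_restrict i U₀.2)
  rw [hker]
  exact isKoszulRegularIdeal_ofList _ hrs

theorem isRegularImmersionAt_of_kNear (i : Z ⟶ P) [IsClosedImmersion i] (π : P ⟶ Y) [Smooth π]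
    (z : Z) (h : KNear (i ≫ π) z) : RegImm.IsRegularImmersionAt RegImm.Kind.koszul i z := by
  obtain ⟨W, hzW, hW⟩ := h
  obtain ⟨P₀, -, hzP₀, hP₀W⟩ := exists_open_preimage_le i ⊤ W z trivial hzW
  have h1 : LciMor ((i ∣_ P₀) ≫ P₀.ι ≫ π) := by
    rw [← Category.assoc, morphismRestrict_ι, Category.assoc, ← Z.homOfLE_ι hP₀W, Category.assoc]
    exact IsZariskiLocalAtSource.comp hW _
  have h2 : LciMor (i ∣_ P₀) := lciMor_of_comp_smooth _ (P₀.ι ≫ π) h1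
  obtain ⟨-, h3⟩ := isRegularImmersion_of_lciMor (i ∣_ P₀) h2
  obtain ⟨U₁, hz₁, hc₁, rs, hrs, hker⟩ := h3 ⟨z, hzP₀⟩
  refine ⟨⟨P₀.ι ''ᵁ U₁.1, U₁.2.image_of_isOpenImmersion P₀.ι⟩, ?_, inferInstance, rs, hrs,
    (RegImmA.ker_morphismRestrict_app i P₀ U₁.1).symm.trans hker⟩
  refine ⟨(i ∣_ P₀) ⟨z, hzP₀⟩, hz₁, ?_⟩
  have := congrArg (fun φ : (i ⁻¹ᵁ P₀).toScheme ⟶ P => φ ⟨z, hzP₀⟩) (morphismRestrict_ι i P₀)
  exact this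

theorem kNear_iff_isRegularImmersionAt (i : Z ⟶ P) [IsClosedImmersion i] (π : P ⟶ Y) [Smooth π]
    (z : Z) : KNear (i ≫ π) z ↔ RegImm.IsRegularImmersionAt RegImm.Kind.koszul i z :=
  ⟨isRegularImmersionAt_of_kNear i π z, kNear_of_isRegularImmersionAt i π z⟩

end Groth.Agent.Lib.Helper5.KLoc
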