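import Mathlib
import Groth.Prelude.Def_RegImm
import Groth.Agent.Lib.Helper5.KLocC
import Groth.Agent.Lib.Helper5.KLocE

set_option autoImplicit false
universe u

namespace Groth.Agent.Lib.Helper5.KLoc

open AlgebraicGeometry CategoryTheory Limits RingTheory.Sequence
open Groth.Agent.Lib.Helper5.Lci Groth.Agent.Lib.Helper5.TransNbhd Groth.Agent.Lib.Helper5.KL
open Groth.Agent.Lib.Helper5.RegImmA

theorem h1_of_koszul {Z X : Scheme.{u}} (i : Z ⟶ X) (z : Z)
    (h : RegImm.IsRegularImmersionAt RegImm.Kind.koszul i z) :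
    RegImm.IsRegularImmersionAt RegImm.Kind.h1 i z := by
  obtain ⟨U, hzU, hc, rs, hrs, hker⟩ := h
  exact ⟨U, hzU, hc, rs,
    (Groth.Agent.Lib.Helper5.KosH1.isH1Regular_iff_isZero rs).mpr (hrs (-1) (by decide)), hker⟩

theorem koszul_of_regular {Z X : Scheme.{u}} (i : Z ⟶ X) (z : Z)
    (h : RegImm.IsRegularImmersionAt RegImm.Kind.regular i z) :
    RegImm.IsRegularImmersionAt RegImm.Kind.koszul i z := by
  obtain ⟨U, hzU, hc, rs, hrs, hker⟩ := h
  exact ⟨U, hzU, hc, rs, fun n hn =>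
    Groth.Agent.Lib.Helper5.RegImmB.isKoszulRegularSeq_of_isWeaklyRegular rs
      (hrs : IsRegular _ rs).toIsWeaklyRegular n hn, hker⟩

/-- Koszul-regularity at a point of a closed immersion with flat lfp source into a flat lfp scheme
is compatible with arbitrary base change. -/
theorem isRegularImmersionAt_koszul_baseChange_iff {Z X S S' X' Z' : Scheme.{u}} (f : X ⟶ S)
    [LocallyOfFinitePresentation f] (i : Z ⟶ X) [IsClosedImmersion i]
    [LocallyOfFinitePresentation (i ≫ f)] [Flat f] (hfl : Flat (i ≫ f)) (g : S' ⟶ S)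
    (pr₁ : X' ⟶ X) (f' : X' ⟶ S') (H2 : IsPullback pr₁ f' f g)
    (q : Z' ⟶ Z) (i' : Z' ⟶ X') (H1 : IsPullback q i' i pr₁) (z' : Z') :
    RegImm.IsRegularImmersionAt RegImm.Kind.koszul i' z' ↔
      RegImm.IsRegularImmersionAt RegImm.Kind.koszul i (q z') := by
  constructor
  · intro h
    exact koszul_of_regular _ _ (isRegularImmersionAt_of_baseChange f i hfl g pr₁ f' H2 q i' H1 z'
      (Flat.stalkMap f _) (h1_of_koszul _ _ h))
  · intro h
    exact koszul_of_regular _ _ (isRegularImmersionAt_baseChange_of_h1 f i hfl g pr₁ f' H2 q i' H1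
      z' (h1_of_koszul _ _ h))

/-- local factorisation of a morphism locally of finite type as a closed immersion into an affine
space over an affine open of the target. -/
theorem exists_factorization {X Y : Scheme.{u}} (f : X ⟶ Y) [LocallyOfFiniteType f] (x : X) :
    ∃ (U : X.Opens) (P : Scheme.{u}) (i : (U : Scheme.{u}) ⟶ P) (π : P ⟶ Y), x ∈ U ∧
      IsClosedImmersion i ∧ Smooth π ∧ i ≫ π = U.ι ≫ f := by
  obtain ⟨V, hV, hxV, -⟩ := exists_affine_nhd (f x) ⊤ trivial
  obtain ⟨U, hU, hxU, hUV⟩ := exists_affine_nhd x (f ⁻¹ᵁ V) hxV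
  have h1 : (f.appLE V U hUV).hom.FiniteType :=
    HasRingHomProperty.appLE (P := @LocallyOfFiniteType) f inferInstance ⟨V, hV⟩ ⟨U, hU⟩ hUV
  obtain ⟨n, γ, hγ⟩ := exists_isPres_of_finiteType h1
  let P : Scheme.{u} := Spec (CommRingCat.of (MvPolynomial (Fin n) Γ(Y, V)))
  let j : Spec Γ(X, U) ⟶ P := Spec.map (CommRingCat.ofHom γ)
  let i : (U : Scheme.{u}) ⟶ P := hU.isoSpec.hom ≫ j
  let c : P ⟶ Spec Γ(Y, V) :=
    Spec.map (CommRingCat.ofHom (MvPolynomial.C : Γ(Y, V) →+* MvPolynomial (Fin n) Γ(Y, V)))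
  let π : P ⟶ Y := c ≫ hV.fromSpec
  have hfac : i ≫ π = U.ι ≫ f := by
    have h2 : j ≫ c = Spec.map (f.appLE V U hUV) := by
      rw [← Spec.map_comp]
      congr 1
      ext a
      exact RingHom.congr_fun hγ.1 a
    change (hU.isoSpec.hom ≫ j) ≫ c ≫ hV.fromSpec = _
    rw [Category.assoc, ← Category.assoc j, h2, IsAffineOpen.SpecMap_appLE_fromSpec f hV hU hUV,
      IsAffineOpen.isoSpec_hom_fromSpec_assoc]
  have hjc : IsClosedImmersion j := IsClosedImmersion.spec_of_surjective _ hγ.2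
  have hsm : Smooth π := by
    have : Smooth c := smooth_Spec_map_C Γ(Y, V) n
    infer_instance
  exact ⟨U, P, i, π, hxU, inferInstance, hsm, hfac⟩

end Groth.Agent.Lib.Helper5.KLoc
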