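import Mathlib
import Groth.Prelude.Def_RegImm
import Groth.Agent.Lib.Helper5.KLocF

set_option autoImplicit false
universe u

namespace Groth.Agent.Lib.Helper5.KLoc

open AlgebraicGeometry CategoryTheory Limits RingTheory.Sequence
open Groth.Agent.Lib.Helper5.Lci Groth.Agent.Lib.Helper5.TransNbhd Groth.Agent.Lib.Helper5.KL

set_option maxHeartbeats 1600000 in
/-- the locus where a morphism between flat lfp `S`-schemes is a local complete intersection
morphism commutes with arbitrary base change. -/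
theorem kNear_baseChange_iff {X Y S X' Y' S' : Scheme.{u}} (f : X ⟶ Y) (g : Y ⟶ S)
    [Flat (f ≫ g)] [LocallyOfFinitePresentation (f ≫ g)] [Flat g] [LocallyOfFinitePresentation g]
    (h : S' ⟶ S) (gY : Y' ⟶ Y) (g' : Y' ⟶ S') (hY : IsPullback gY g' g h)
    (gX : X' ⟶ X) (f' : X' ⟶ Y') (hX : IsPullback gX (f' ≫ g') (f ≫ g) h)
    (w : gX ≫ f = f' ≫ gY) (x' : X') :
    KNear f' x' ↔ KNear f (gX x') := by
  have hlft : LocallyOfFiniteType f := locallyOfFiniteType_of_comp f g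
  obtain ⟨U, P, i, π, hxU, hic, hsm, hfac⟩ := exists_factorization f (gX x')
  have sqU : IsPullback (gX ∣_ U) (gX ⁻¹ᵁ U).ι U.ι gX := isPullback_morphismRestrict gX U
  have H2 : IsPullback (pullback.fst (π ≫ g) h) (pullback.snd (π ≫ g) h) (π ≫ g) h :=
    IsPullback.of_hasPullback _ _
  have hbig : IsPullback (gX ∣_ U) ((gX ⁻¹ᵁ U).ι ≫ f' ≫ g') (U.ι ≫ f ≫ g) h := sqU.paste_vert hX
  have hiφ : i ≫ π ≫ g = U.ι ≫ f ≫ g := by
    rw [← Category.assoc, hfac, Category.assoc]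
  have hcomm : ((gX ∣_ U) ≫ i) ≫ π ≫ g = ((gX ⁻¹ᵁ U).ι ≫ f' ≫ g') ≫ h := by
    rw [Category.assoc, hiφ]
    exact hbig.w
  obtain ⟨i', hi'⟩ : ∃ i' : (gX ⁻¹ᵁ U).toScheme ⟶ pullback (π ≫ g) h,
      i' = pullback.lift ((gX ∣_ U) ≫ i) ((gX ⁻¹ᵁ U).ι ≫ f' ≫ g') hcomm := ⟨_, rfl⟩
  have hi'1 : i' ≫ pullback.fst (π ≫ g) h = (gX ∣_ U) ≫ i := by
    rw [hi']; exact pullback.lift_fst _ _ _
  have hi'2 : i' ≫ pullback.snd (π ≫ g) h = (gX ⁻¹ᵁ U).ι ≫ f' ≫ g' := by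
    rw [hi']; exact pullback.lift_snd _ _ _
  have H1 : IsPullback (gX ∣_ U) i' i (pullback.fst (π ≫ g) h) := by
    refine IsPullback.of_bot ?_ hi'1.symm H2
    rw [hi'2, hiφ]
    exact hbig
  have hπcomm : (pullback.fst (π ≫ g) h ≫ π) ≫ g = pullback.snd (π ≫ g) h ≫ h := by
    rw [Category.assoc]
    exact H2.w
  obtain ⟨π', hπ'⟩ : ∃ π' : pullback (π ≫ g) h ⟶ Y',
      π' = hY.lift (pullback.fst (π ≫ g) h ≫ π) (pullback.snd (π ≫ g) h) hπcomm := ⟨_, rfl⟩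
  have hπ'1 : π' ≫ gY = pullback.fst (π ≫ g) h ≫ π := by
    rw [hπ']; exact hY.lift_fst _ _ _
  have hπ'2 : π' ≫ g' = pullback.snd (π ≫ g) h := by
    rw [hπ']; exact hY.lift_snd _ _ _
  have Hπ : IsPullback (pullback.fst (π ≫ g) h) π' π gY := by
    refine IsPullback.of_bot ?_ hπ'1.symm hY
    rw [hπ'2]
    exact H2
  have hsm' : Smooth π' := MorphismProperty.of_isPullback (P := @Smooth) Hπ hsm
  have hfac' : i' ≫ π' = (gX ⁻¹ᵁ U).ι ≫ f' := by
    apply hY.hom_ext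
    · rw [Category.assoc, hπ'1, ← Category.assoc, hi'1, Category.assoc, hfac, Category.assoc,
        ← w, ← Category.assoc, ← Category.assoc, sqU.w]
    · rw [Category.assoc, hπ'2, hi'2, Category.assoc]
  have hic' : IsClosedImmersion i' :=
    MorphismProperty.of_isPullback (P := @IsClosedImmersion) H1 hic
  have hlfpφ : LocallyOfFinitePresentation (π ≫ g) := inferInstance
  have hflφ : Flat (π ≫ g) := inferInstance
  have hlfpi : LocallyOfFinitePresentation (i ≫ π ≫ g) := by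
    rw [hiφ]; infer_instance
  have hfli : Flat (i ≫ π ≫ g) := by
    rw [hiφ]; infer_instance
  have hz' : x' ∈ gX ⁻¹ᵁ U := hxU
  have hpt : (gX ∣_ U) ⟨x', hz'⟩ = ⟨gX x', hxU⟩ := Subtype.ext (morphismRestrict_base_coe gX U _)
  have K3 := isRegularImmersionAt_koszul_baseChange_iff (π ≫ g) i hfli h
    (pullback.fst (π ≫ g) h) (pullback.snd (π ≫ g) h) H2 (gX ∣_ U) i' H1 ⟨x', hz'⟩
  rw [hpt] at K3
  have e1 := kNear_of_openImmersion (gX ⁻¹ᵁ U).ι f' ⟨x', hz'⟩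
  have e2 := kNear_iff_isRegularImmersionAt i' π' ⟨x', hz'⟩
  have e3 := kNear_iff_isRegularImmersionAt i π ⟨gX x', hxU⟩
  have e4 := kNear_of_openImmersion U.ι f ⟨gX x', hxU⟩
  rw [hfac'] at e2
  rw [hfac] at e3
  exact e1.symm.trans (e2.trans (K3.trans (e3.symm.trans e4)))

end Groth.Agent.Lib.Helper5.KLoc
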