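import Mathlib
import Groth.Agent.Lib.Helper5.LciS
import Groth.Prelude.Def_AlgSpMor6

/-!
# Koszul morphisms of representable sheaves
-/

set_option autoImplicit false
universe u

namespace Groth.Agent.Lib.Helper5.Lci

open AlgebraicGeometry CategoryTheory Limits

/-- `AlgSp.lci` is the affine-local notion -/
theorem algSp_lci_iff {X Y : Scheme.{u}} (f : X ⟶ Y) : AlgSp.lci f ↔ LciMor f :=
  ⟨fun h => lciMor_of_isKoszulAt f h, fun h x => isKoszulAt_of_lciMor f h x⟩

theorem isLCIMor_yon_map_iff {S : Scheme.{u}} {U V : Over S} (g : U ⟶ V) :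
    AlgSp.IsLCIMor ((AlgSp.yon S).map g) ↔ ∀ x, Synt.IsKoszulAt g.left x := by
  constructor
  · intro h
    exact AlgSp.locP_yon_map h
  · intro hg U' V' a b h ha hb hcomm
    obtain ⟨a', rfl⟩ := (AlgSp.yon S).map_surjective a
    obtain ⟨b', rfl⟩ := (AlgSp.yon S).map_surjective b
    have ha' : Etale a'.left := (AlgSp.repWith_yon_map_iff _ _).1 ha
    have hb' : Etale b'.left := (AlgSp.repWith_yon_map_iff _ _).1 hb
    rw [← Functor.map_comp, ← Functor.map_comp] at hcomm
    have hc : a' ≫ g = h ≫ b' := (AlgSp.yon S).map_injective hcomm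
    have hc' : a'.left ≫ g.left = h.left ≫ b'.left := by
      rw [← Over.comp_left, ← Over.comp_left, hc]
    change AlgSp.lci h.left
    rw [algSp_lci_iff]
    apply lciMor_of_comp_smooth h.left b'.left
    rw [← hc']
    exact LciMor.comp_mem _ _ (lciMor_of_smooth _) (lciMor_of_isKoszulAt _ hg)

end Groth.Agent.Lib.Helper5.Lci
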