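import Mathlib
import Groth.Agent.Lib.Helper5.LciL

/-!
# Local complete intersection ring homomorphisms descend along faithfully flat maps
-/

set_option autoImplicit false
universe u

namespace Groth.Agent.Lib.Helper5.Lci

open MvPolynomial TensorProduct Groth.Agent.Lib.Helper5.KosDesc

attribute [local instance] Algebra.TensorProduct.rightAlgebra in
theorem isLCI_of_tensorProduct_of_faithfullyFlat {R S T : Type u} [CommRing R] [CommRing S]
    [CommRing T] [Algebra R S] [Algebra R T] [Module.FaithfullyFlat R S]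
    (h : LCI.IsLCI S (S ⊗[R] T)) : LCI.IsLCI R T := by
  have hft0 : Algebra.FiniteType S (S ⊗[R] T) := h.1
  have hft : Algebra.FiniteType R T := .of_finiteType_tensorProduct_of_faithfullyFlat S
  obtain ⟨n, γ, hγ⟩ := Algebra.FiniteType.iff_quotient_mvPolynomial''.1 hft
  refine ⟨hft, n, γ, hγ, ?_⟩
  have hff : Module.FaithfullyFlat (MvPolynomial (Fin n) R) (S ⊗[R] MvPolynomial (Fin n) R) :=
    .of_linearEquiv _ _ (Algebra.TensorProduct.commRight _ _ _).symm.toLinearEquiv
  let fT := Algebra.TensorProduct.map (AlgHom.id S S) γ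
  have hfT : Function.Surjective fT := Algebra.FiniteType.baseChangeAux_surj S hγ
  have hk : (RingHom.ker γ.toRingHom).map
      (algebraMap (MvPolynomial (Fin n) R) (S ⊗[R] MvPolynomial (Fin n) R)) = RingHom.ker fT :=
    (Algebra.TensorProduct.lTensor_ker γ hγ).symm
  let E : S ⊗[R] MvPolynomial (Fin n) R ≃ₐ[S] MvPolynomial (Fin n) S :=
    MvPolynomial.algebraTensorAlgEquiv R S
  let β : MvPolynomial (Fin n) S →ₐ[S] S ⊗[R] T := fT.comp E.symm.toAlgHom
  have hβ : Function.Surjective β := hfT.comp E.symm.surjective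
  have hKβ := ker_of_isLCI h β hβ
  have hKfT : LCI.IsKoszulRegularIdeal (RingHom.ker fT) := by
    have h1 := isKoszulRegularIdeal_comap_ringEquiv E.toRingEquiv _ hKβ
    have h2 : (RingHom.ker β.toRingHom).comap (E.toRingEquiv : _ →+* _) = RingHom.ker fT := by
      ext x
      simp only [Ideal.mem_comap, RingHom.mem_ker]
      change fT (E.symm (E x)) = 0 ↔ _
      rw [AlgEquiv.symm_apply_apply]
    rwa [h2] at h1
  rw [← hk] at hKfT
  exact isKoszulRegularIdeal_of_faithfullyFlat _ hKfT

theorem isLciHom_codescendsAlong_faithfullyFlat :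
    RingHom.CodescendsAlong @IsLciHom RingHom.FaithfullyFlat := by
  refine RingHom.CodescendsAlong.mk _ isLciHom_respectsIso ?_
  intro R S T _ _ _ _ _ hff h
  rw [RingHom.faithfullyFlat_algebraMap_iff] at hff
  rw [isLciHom_algebraMap] at h ⊢
  exact isLCI_of_tensorProduct_of_faithfullyFlat h

end Groth.Agent.Lib.Helper5.Lci
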