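import Mathlib
import Groth.Agent.Lib.Helper5.LciM

/-!
# fpqc descent for morphism properties given by local ring hom properties that need not be
stable under base change
-/

set_option autoImplicit false
universe u

open CategoryTheory CategoryTheory.Limits AlgebraicGeometry MorphismProperty

namespace Groth.Agent.Lib.Helper5.Lci

theorem pullback_fst_of_isLocalIso (P : MorphismProperty Scheme.{u}) [IsZariskiLocalAtTarget P]
    {X Y' W : Scheme.{u}} (p : Y' ⟶ X) [IsLocalIso p] (h : W ⟶ X) (hh : P h) :
    P (pullback.fst p h) := by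
  apply IsZariskiLocalAtTarget.of_forall_exists_morphismRestrict
  intro y
  obtain ⟨U, hyU, hU⟩ := IsLocalIso.exists_isOpenImmersion (f := p) y
  refine ⟨U, hyU, ?_⟩
  have A := isPullback_morphismRestrict (pullback.fst p h) U
  have B := IsPullback.of_hasPullback p h
  exact IsZariskiLocalAtTarget.of_isPullback (A.paste_vert B).flip hh

set_option backward.isDefEq.respectTransparency.types false in
theorem descendsAlong_of_codescendsAlong (P : MorphismProperty Scheme.{u})
    {Q : ∀ {R S : Type u} [CommRing R] [CommRing S], (R →+* S) → Prop}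
    [HasRingHomProperty P Q] (hQ : RingHom.CodescendsAlong Q RingHom.FaithfullyFlat) :
    P.DescendsAlong (@Surjective ⊓ @Flat ⊓ @QuasiCompact) := by
  apply IsZariskiLocalAtTarget.descendsAlong
  intro R X Y f g hf h
  wlog hX : ∃ T, X = Spec T generalizing X
  · have _ : CompactSpace X := by simpa [← quasiCompact_iff_compactSpace f] using hf.2
    obtain ⟨Y', p, hsurj, hP', hY'⟩ := X.exists_hom_isAffine_of_isZariskiLocalAtSource @IsLocalIso
    have hp : IsLocalIso (Y'.isoSpec.inv ≫ p) := by
      have h0 : IsLocalIso Y'.isoSpec.inv := ⟨fun x => ⟨⊤, trivial, inferInstance⟩⟩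
      exact (inferInstance : MorphismProperty.IsMultiplicative @IsLocalIso).comp_mem _ _ h0 hP'
    have hle : (@IsLocalIso : MorphismProperty Scheme.{u}) ≤ @Flat :=
      IsLocalIso.le_of_isZariskiLocalAtSource @Flat
    refine this (f := (Y'.isoSpec.inv ≫ p) ≫ f) ?_ ?_ ⟨_, rfl⟩
    · have h1 : (@Surjective ⊓ @Flat : MorphismProperty Scheme.{u}) (Y'.isoSpec.inv ≫ p) := by
        rw [(@Surjective ⊓ @Flat : MorphismProperty Scheme.{u}).cancel_left_of_respectsIso]
        exact ⟨hsurj, hle _ _ p hP'⟩
      exact ⟨(@Surjective ⊓ @Flat : MorphismProperty Scheme.{u}).comp_mem _ _ h1 hf.1,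
        inferInstance⟩
    · rw [← pullbackRightPullbackFstIso_inv_fst f g _, P.cancel_left_of_respectsIso]
      exact pullback_fst_of_isLocalIso P _ _ h
  obtain ⟨T, rfl⟩ := hX
  obtain ⟨φ, rfl⟩ := Spec.map_surjective f
  wlog hY : ∃ S, Y = Spec S generalizing Y
  · rw [IsZariskiLocalAtSource.iff_of_openCover (P := P) Y.affineCover]
    intro i
    have heq : pullback.fst (Spec.map φ) (Y.affineCover.f i ≫ g) =
        pullback.map _ _ _ _ (𝟙 _) (Y.affineCover.f i) (𝟙 _) (by simp) (by simp) ≫
          pullback.fst (Spec.map φ) g := (pullback.lift_fst _ _ _).symm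
    exact this _ (heq ▸ AlgebraicGeometry.IsZariskiLocalAtSource.comp h _) ⟨_, rfl⟩
  obtain ⟨S, rfl⟩ := hY
  refine of_pullback_fst_Spec_of_codescendsAlong P (@Surjective ⊓ @Flat) hQ ?_ ?_ hf.1 h
  · intro R S f ⟨hf₁, hf₂⟩
    rw [RingHom.FaithfullyFlat.iff_flat_and_comap_surjective]
    refine ⟨?_, (Spec.map f).surjective⟩
    rwa [HasRingHomProperty.Spec_iff (P := @Flat)] at hf₂
  · simp [HasRingHomProperty.Spec_iff (P := P)]

end Groth.Agent.Lib.Helper5.Lci
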