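import Mathlib
import Groth.Prelude.Def_RegImm
import Groth.Agent.Lib.Helper5.RegDescA
import Groth.Agent.Lib.Helper5.KosDescB

/-!
# Descent of locally regular ideals along a finite jointly surjective family of flat ring maps
-/

set_option autoImplicit false
universe u
open CategoryTheory CategoryTheory.Limits AlgebraicGeometry TopologicalSpace

namespace Groth.Agent.Lib.Helper5.RegDesc

/-- ring-level faithfully flat descent for the kind `k` -/
def KindDescends (k : RegImm.Kind) : Prop :=
  ∀ (A B : Type u) [CommRing A] [CommRing B] [Algebra A B] [Module.FaithfullyFlat A B]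
    (I : Ideal A), KindIdeal k (I.map (algebraMap A B)) → KindIdeal k I

theorem kindDescends_koszul : KindDescends.{u} RegImm.Kind.koszul := by
  intro A B _ _ _ _ I h
  exact Groth.Agent.Lib.Helper5.KosDesc.isKoszulRegularIdeal_of_faithfullyFlat I h

theorem kindIdeal_pi (k : RegImm.Kind) (hk : k ≠ RegImm.Kind.regular) {n : ℕ}
    (B : Fin n → Type u) [∀ j, CommRing (B j)] (J : Ideal (∀ j, B j))
    (h : ∀ j, KindIdeal k (J.map (Pi.evalRingHom B j))) : KindIdeal k J := by
  classical
  intro 𝔮 hJ
  obtain ⟨⟨j, q⟩, rfl⟩ := (PrimeSpectrum.sigmaToPi_bijective B).2 𝔮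
  have hJq : J.map (Pi.evalRingHom B j) ≤ q.asIdeal := Ideal.map_le_iff_le_comap.2 hJ
  obtain ⟨g, hg, l, hl, hspan⟩ := h j q hJq
  let G : ∀ j, B j := Pi.single j g
  have hG : G ∉ (PrimeSpectrum.sigmaToPi B ⟨j, q⟩).asIdeal := by
    intro hmem
    apply hg
    have : Pi.evalRingHom B j G ∈ q.asIdeal := hmem
    simpa [G] using this
  refine ⟨G, hG, ?_⟩
  let _ : Algebra (∀ j, B j) (B j) := (Pi.evalRingHom B j).toAlgebra
  have h1 : IsLocalization.Away (Pi.single j 1 : ∀ a, B a) (B j) := by
    refine IsLocalization.away_of_isIdempotentElem ?_ (RingHom.ker_evalRingHom _ _)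
      ((Pi.evalRingHom B j).surjective)
    simp [IsIdempotentElem, ← Pi.single_mul_left]
  let T := Localization.Away g
  have hGg : algebraMap (∀ j, B j) (B j) G = g := Pi.single_eq_same j g
  have h2 : IsLocalization.Away (algebraMap (∀ j, B j) (B j) G) T := by
    rw [hGg]
    infer_instance
  have h3 : IsLocalization.Away ((Pi.single j 1 : ∀ a, B a) * G) T :=
    IsLocalization.Away.mul' (B j) T (Pi.single j 1) G
  have hGG : (Pi.single j 1 : ∀ a, B a) * G = G := by
    simp only [G]
    rw [← Pi.single_mul, one_mul]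
  rw [hGG] at h3
  let e : Localization.Away G ≃ₐ[∀ j, B j] T := IsLocalization.algEquiv (Submonoid.powers G) _ _
  refine ⟨l.map (e.symm : T →+* Localization.Away G), ?_, ?_⟩
  · exact kind_seq_map_of_flat' k hk _ (RingHom.Flat.of_bijective e.symm.bijective) _ hl
  · have hcomp : (e.symm : T →+* Localization.Away G).comp (algebraMap (∀ j, B j) T) =
        algebraMap (∀ j, B j) (Localization.Away G) :=
      RingHom.ext (fun a => e.symm.commutes a)
    have hT : algebraMap (∀ j, B j) T = (algebraMap (B j) T).comp (Pi.evalRingHom B j) :=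
      IsScalarTower.algebraMap_eq (∀ j, B j) (B j) T
    rw [← Ideal.map_ofList, ← hspan, Ideal.map_map, Ideal.map_map, RingHom.comp_assoc, ← hT, hcomp]

/-- **Descent along a finite jointly surjective flat family.** -/
theorem kindIdeal_of_family (k : RegImm.Kind) (hk : k ≠ RegImm.Kind.regular)
    (hdesc : KindDescends.{u} k) {A : Type u} [CommRing A] {n : ℕ}
    (B : Fin n → Type u) [∀ j, CommRing (B j)] (φ : ∀ j, A →+* B j) (hflat : ∀ j, (φ j).Flat)
    (hsurj : ∀ P : PrimeSpectrum A, ∃ j, ∃ q : PrimeSpectrum (B j),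
      q.asIdeal.comap (φ j) = P.asIdeal)
    (I : Ideal A) (h : ∀ j, KindIdeal k (I.map (φ j))) : KindIdeal k I := by
  classical
  let _ : ∀ j, Algebra A (B j) := fun j => (φ j).toAlgebra
  have hfl : ∀ j, Module.Flat A (B j) := fun j => hflat j
  have hF : Module.Flat A (∀ j, B j) :=
    Module.Flat.of_linearEquiv (DFinsupp.linearEquivFunOnFintype (R := A) (M := B)).symm
  have hFF : Module.FaithfullyFlat A (∀ j, B j) := by
    apply Module.FaithfullyFlat.of_comap_surjective
    intro P
    obtain ⟨j, q, hq⟩ := hsurj P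
    refine ⟨PrimeSpectrum.comap (Pi.evalRingHom B j) q, ?_⟩
    apply PrimeSpectrum.ext
    rw [← hq]
    rfl
  apply hdesc A (∀ j, B j) I
  apply kindIdeal_pi k hk B
  intro j
  rw [Ideal.map_map]
  exact h j

end Groth.Agent.Lib.Helper5.RegDesc
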