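import Mathlib
import Groth.Prelude.Def_RegImm
import Groth.Agent.Lib.Helper5.RegDescB
import Groth.Agent.Lib.Helper5.RegBC
import Groth.Agent.Lib.Helper5.RegSchImm

/-!
# fpqc descent of regular immersions (of the kinds koszul, h1, quasi)
-/

set_option autoImplicit false
universe u
open CategoryTheory CategoryTheory.Limits AlgebraicGeometry TopologicalSpace

namespace Groth.Agent.Lib.Helper5.RegDesc

open Groth.Agent.Lib.Helper5.RegImmA Groth.Agent.Lib.Helper5.FlatKind

variable {X Z : Scheme.{u}} (i : Z ⟶ X)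

/-- **From ideals to immersions**: if the kernel of `Γ(X, U) → Γ(Z, i⁻¹ U)` is locally generated
by sequences of kind `k` then `i` is a regular immersion of kind `k` at the points over `U`. -/
theorem isRegularImmersionAt_of_kindIdeal (k : RegImm.Kind) (hk : k ≠ RegImm.Kind.regular)
    {U : X.Opens} (hU : IsAffineOpen U) [IsClosedImmersion (i ∣_ U)]
    (h : KindIdeal k (RingHom.ker (i.app U).hom)) (z : Z) (hzU : i z ∈ U) :
    RegImm.IsRegularImmersionAt k i z := by
  set P := hU.primeIdealOf ⟨i z, hzU⟩ with hP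
  have hfs : hU.fromSpec P = i z := hU.fromSpec_primeIdealOf ⟨i z, hzU⟩
  have hIP : RingHom.ker (i.app U).hom ≤ P.asIdeal := by
    intro f hf
    by_contra hfP
    have h1 : hU.fromSpec P ∈ X.basicOpen f := (mem_basicOpen_fromSpec_iff hU P f).2 hfP
    rw [hfs] at h1
    have h2 : z ∈ i ⁻¹ᵁ X.basicOpen f := h1
    rw [Scheme.preimage_basicOpen, RingHom.mem_ker.1 hf, Scheme.basicOpen_zero] at h2
    exact h2
  obtain ⟨f, hfP, l, hl, hspan⟩ := h P hIP
  have hzf : i z ∈ X.basicOpen f := by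
    rw [← hfs]
    exact (mem_basicOpen_fromSpec_iff hU P f).2 hfP
  have hV : IsAffineOpen (X.basicOpen f) := hU.basicOpen f
  have hVU : X.basicOpen f ≤ U := X.basicOpen_le f
  have hloc : IsLocalization.Away f Γ(X, X.basicOpen f) := hU.isLocalization_basicOpen f
  let e : Localization.Away f ≃ₐ[Γ(X, U)] Γ(X, X.basicOpen f) :=
    IsLocalization.algEquiv (Submonoid.powers f) _ _
  refine ⟨⟨X.basicOpen f, hV⟩, hzf, isClosedImmersion_restrict_of_le i hVU,
    l.map (e : Localization.Away f →+* Γ(X, X.basicOpen f)), ?_, ?_⟩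
  · exact kind_seq_map_of_flat' k hk _ (RingHom.Flat.of_bijective e.bijective) _ hl
  · have hk2 : (RingHom.ker (i.app U).hom).map (algebraMap Γ(X, U) Γ(X, X.basicOpen f)) =
        RingHom.ker (i.app (X.basicOpen f)).hom := ker_map_res i hU hV hVU
    have hcomp : (e : Localization.Away f →+* Γ(X, X.basicOpen f)).comp
        (algebraMap Γ(X, U) (Localization.Away f)) = algebraMap Γ(X, U) Γ(X, X.basicOpen f) :=
      RingHom.ext (fun a => e.commutes a)
    rw [← Ideal.map_ofList, ← hspan, Ideal.map_map, hcomp]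
    exact hk2.symm

/-- **fpqc descent of regular immersions of kind `k`**, given ring-level descent. -/
theorem isRegularImmersion_of_baseChange (k : RegImm.Kind) (hk : k ≠ RegImm.Kind.regular)
    (hdesc : KindDescends.{u} k)
    {X Y X' Y' : Scheme.{u}} (i : Y ⟶ X) [IsImmersion i]
    (g : X' ⟶ X) [Flat g] [Surjective g] [QuasiCompact g]
    (i' : Y' ⟶ X') (g' : Y' ⟶ Y) (hsq : IsPullback g' i' i g)
    (hi' : RegImm.IsRegularImmersion k i') : RegImm.IsRegularImmersion k i := by
  refine ⟨inferInstance, fun z => ?_⟩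
  obtain ⟨_, ⟨U, hU, rfl⟩, hzU, hUle⟩ :=
    X.isBasis_affineOpens.exists_subset_of_mem_open
      (show i z ∈ (i.coborderRange : Set X) from subset_coborder ⟨z, rfl⟩) i.coborderRange.2
  have hc : IsClosedImmersion (i ∣_ U) :=
    Groth.Agent.Lib.Helper5.RegSchImm.isClosedImmersion_restrict_of_le_coborderRange i hUle
  have hcomp : IsCompact (X := X') (g ⁻¹ᵁ U) :=
    QuasiCompact.isCompact_preimage (f := g) _ U.2 hU.isCompact
  obtain ⟨s, hs, hsU⟩ := isCompact_iff_finite_and_eq_biUnion_affineOpens.1 hcomp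
  have := hs.to_subtype
  obtain ⟨n, ⟨eqv⟩⟩ := Finite.exists_equiv_fin ↥s
  let W : Fin n → X'.affineOpens := fun j => (eqv.symm j).1
  have hWle : ∀ j, (W j).1 ≤ g ⁻¹ᵁ U := by
    intro j
    rw [hsU]
    exact le_iSup₂_of_le (eqv.symm j).1 (eqv.symm j).2 le_rfl
  have hcover : ∀ x' : X', g x' ∈ U → ∃ j, x' ∈ (W j).1 := by
    intro x' hx'
    have h1 : x' ∈ g ⁻¹ᵁ U := hx'
    rw [hsU] at h1
    simp only [Opens.mem_iSup] at h1
    obtain ⟨w, hw, hxw⟩ := h1
    refine ⟨eqv ⟨w, hw⟩, ?_⟩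
    simp only [W, Equiv.symm_apply_apply]
    exact hxw
  apply isRegularImmersionAt_of_kindIdeal i k hk hU _ z hzU
  apply kindIdeal_of_family k hk hdesc (fun j => Γ(X', (W j).1))
    (fun j => (g.appLE U (W j).1 (hWle j)).hom)
  · intro j
    exact Flat.flat_appLE g hU (W j).2 (hWle j)
  · intro P
    obtain ⟨x', hx'⟩ := Surjective.surj (f := g) (hU.fromSpec P)
    have hx'U : g x' ∈ U := by rw [hx']; exact fromSpec_mem hU P
    obtain ⟨j, hj⟩ := hcover x' hx'U
    refine ⟨j, (W j).2.primeIdealOf ⟨x', hj⟩, ?_⟩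
    have h1 := IsAffineOpen.comap_primeIdealOf_appLE U hU (W j).1 (W j).2 (hWle j) hj
    have h2 : hU.primeIdealOf ⟨g x', hWle j hj⟩ = P := by
      apply hU.fromSpec.isOpenEmbedding.injective
      rw [hU.fromSpec_primeIdealOf]
      exact hx'
    rw [← h2, ← h1]
    rfl
  · intro j
    obtain ⟨hci', hker'⟩ :=
      Groth.Agent.Lib.Helper5.RegBC.ker_app_of_isPullback i g i' g' hsq hU (W j).2 (hWle j)
    rw [← hker']
    exact kindIdeal_ker_app i' k hk (W j).2 (fun z' _ => hi'.2 z')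

end Groth.Agent.Lib.Helper5.RegDesc
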