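import Mathlib
import Groth.Prelude.Def_RegImm
import Groth.Agent.Lib.Helper5.RegDescC
import Groth.Agent.S9252

/-!
# Ring-level descent for the quasi-regular kind
-/

set_option autoImplicit false
universe u
open CategoryTheory CategoryTheory.Limits AlgebraicGeometry TopologicalSpace

namespace Groth.Agent.Lib.Helper5.RegDesc

open Groth.Agent.Lib.Helper5.FlatKind Groth.Agent.Lib.Helper5.KosPerm
  Groth.Agent.Lib.Helper5.KosDesc

theorem kindIdeal_quasi_iff {A : Type u} [CommRing A] (I : Ideal A) :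
    KindIdeal RegImm.Kind.quasi I ↔ PP16.IsLocallyQuasiRegular A I := by
  constructor
  · intro h P hP hJP
    obtain ⟨g, hg, l, hl, hspan⟩ := h ⟨P, hP⟩ hJP
    exact ⟨g, hg, l.length, l.get, hl, by rw [hspan, ofList_eq_span_range_get]⟩
  · intro h 𝔭 h𝔭
    obtain ⟨g, hg, r, f, hf, hspan⟩ := h 𝔭.asIdeal h𝔭
    refine ⟨g, hg, List.ofFn f, ?_, ?_⟩
    · change CAlgX.IsQuasiRegular (List.ofFn f).get
      exact qr_congr (List.length_ofFn).symm f _ (fun i => by simp) hf
    · rw [ofList_ofFn, hspan]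

theorem kindDescends_quasi : KindDescends.{u} RegImm.Kind.quasi := by
  intro A B _ _ _ _ I h
  rw [kindIdeal_quasi_iff] at h ⊢
  exact Groth.Agent.S9252.result A B I h

end Groth.Agent.Lib.Helper5.RegDesc
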