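import Mathlib
import Groth.Prelude.Def_RegImm
import Groth.Agent.Lib.Helper5.RegDescD
import Groth.Agent.Lib.Helper5.KosH1C

/-!
# Ring-level descent for the `H₁`-regular kind; all three kinds
-/

set_option autoImplicit false
universe u
open CategoryTheory CategoryTheory.Limits AlgebraicGeometry TopologicalSpace

namespace Groth.Agent.Lib.Helper5.RegDesc

open Groth.Agent.Lib.Helper5.KosH1

theorem kindIdeal_h1_iff {A : Type u} [CommRing A] (I : Ideal A) :
    KindIdeal RegImm.Kind.h1 I ↔ h1Seq.IsIdeal I := by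
  constructor
  · intro h 𝔭 h𝔭
    obtain ⟨g, hg, l, hl, hspan⟩ := h 𝔭 h𝔭
    exact ⟨g, hg, l, (isH1Regular_iff_isZero l).1 hl, hspan⟩
  · intro h 𝔭 h𝔭
    obtain ⟨g, hg, l, hl, hspan⟩ := h 𝔭 h𝔭
    exact ⟨g, hg, l, (isH1Regular_iff_isZero l).2 hl, hspan⟩

theorem kindDescends_h1 : KindDescends.{u} RegImm.Kind.h1 := by
  intro A B _ _ _ _ I h
  rw [kindIdeal_h1_iff] at h ⊢
  exact Groth.Agent.Lib.Helper5.SeqDesc.isIdeal_of_faithfullyFlat h1Seq I h

theorem kindDescends (k : RegImm.Kind) (hk : k ≠ RegImm.Kind.regular) : KindDescends.{u} k := by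
  cases k with
  | regular => exact absurd rfl hk
  | koszul => exact kindDescends_koszul
  | h1 => exact kindDescends_h1
  | quasi => exact kindDescends_quasi

end Groth.Agent.Lib.Helper5.RegDesc
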