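import Groth.Agent.Lib.Helper5.FittSheafD
import Groth.Agent.Lib.Helper29.FreeIso6

set_option autoImplicit false
universe u v w
open CategoryTheory CategoryTheory.Limits AlgebraicGeometry Opposite TopologicalSpace
open AlgebraicGeometry.Scheme.Modules

namespace Groth.Agent.Lib.Helper5.FittSheaf

open Groth.Agent.Lib.Helper28.QCohLoc Groth.Agent.Lib.Helper28.FinType
open Groth.Agent.Lib.Helper29.FPDict Groth.Agent.Lib.Helper29.FreeIso

variable {X : Scheme.{u}} (M : X.Modules)

/-- off the `k`-th Fitting support, `k` sections generate on a basic open neighbourhood -/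
theorem exists_gen_basicOpen [M.IsQuasicoherent]
    [SheafOfModules.IsFiniteType.{u} (R := X.ringCatSheaf) M] (k : ℕ) {U : X.Opens}
    (hU : IsAffineOpen U) (x : X) (hx : x ∈ U) (h : x ∉ (Fitt.sheafIdeal M k).support) :
    ∃ f : Γ(X, U), x ∈ X.basicOpen f ∧ ∃ σ : Fin k → Γ(M, U),
      Submodule.span Γ(X, X.basicOpen f)
        (Set.range fun j => res M (X.basicOpen_le f) (σ j)) = ⊤ := by
  have := finite_of_isAffineOpen M hU
  rw [not_mem_support_iff M k hU x hx] at h
  obtain ⟨f, hf, m, hm⟩ := exists_span_away_of_not_le k _ h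
  refine ⟨f, ?_, m, ?_⟩
  · by_contra hxf
    exact hf ((Groth.Agent.Lib.Helper7.AffPts.mem_primeIdealOf_iff hU ⟨x, hx⟩ f).2 hxf)
  · let _ := modBasicOpen M f
    have := isScalarTower_basicOpen M f
    have := isLocalizedModule_resLin (isLocOn_of_isQuasicoherent M hU) f
    have : IsLocalization.Away f Γ(X, X.basicOpen f) := hU.isLocalization_basicOpen f
    exact hm Γ(X, X.basicOpen f) Γ(M, X.basicOpen f) (resLin M f)

/-- a module which is free over an affine open has a basis of sections there -/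
theorem exists_basis_of_iso {U : X.Opens} (r : ℕ)
    (e : M.restrict U.ι ≅ FlatMod.freeMod (↑U) r) :
    Nonempty (Module.Basis (Fin r) Γ(X, U) Γ(M, U)) := by
  obtain ⟨τ, hτ, hgen⟩ := exists_isBasisOn_of_iso' M U r e
  have hli : LinearIndependent Γ(X, U) τ := by
    rw [Fintype.linearIndependent_iff]
    intro c hc j
    refine hτ.1 U le_rfl c ?_ j
    refine Eq.trans (Finset.sum_congr rfl fun j _ => ?_) hc
    rw [res_self]
  have hspan : ⊤ ≤ Submodule.span Γ(X, U) (Set.range τ) := by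
    intro t _
    obtain ⟨c, hc⟩ := hgen U le_rfl t
    rw [hc]
    refine Submodule.sum_mem _ fun j _ => Submodule.smul_mem _ _ ?_
    rw [res_self]
    exact Submodule.subset_span ⟨j, rfl⟩
  exact ⟨Module.Basis.mk hli hspan⟩

theorem isFinLocFreeOfRank_iff [M.IsQuasicoherent]
    [SheafOfModules.IsFiniteType.{u} (R := X.ringCatSheaf) M] (r : ℕ) :
    FlatMod.IsFinLocFreeOfRank r M ↔
      (∀ k : ℕ, k < r → Fitt.sheafIdeal M k = ⊥) ∧ (∀ k : ℕ, r ≤ k → Fitt.sheafIdeal M k = ⊤) := by
  constructor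
  · intro h
    have hW : ∀ x : X, ∃ U : X.Opens, IsAffineOpen U ∧ x ∈ U ∧
        Nonempty (Module.Basis (Fin r) Γ(X, U) Γ(M, U)) := by
      intro x
      obtain ⟨W, hxW, ⟨e⟩⟩ := h x
      obtain ⟨U, hU, hxU, hUW⟩ := exists_isAffineOpen_mem_and_subset (x := x) (U := W) hxW
      obtain ⟨e'⟩ := nonempty_iso_freeMod_of_le M hUW r e
      exact ⟨U, hU, hxU, exists_basis_of_iso M r e'⟩
    choose U hU hxU hb using hW
    have hcov : ⨆ x, (⟨U x, hU x⟩ : X.affineOpens).1 = ⊤ :=
      eq_top_iff.2 fun x _ => Opens.mem_iSup.2 ⟨x, hxU x⟩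
    constructor
    · intro k hk
      refine Scheme.IdealSheafData.ext_of_iSup_eq_top (fun x => ⟨U x, hU x⟩) hcov fun x => ?_
      obtain ⟨b⟩ := hb x
      rw [sheafIdeal_ideal, Scheme.IdealSheafData.ideal_bot]
      exact Helper23.Fit.ideal_of_basis_lt b hk
    · intro k hk
      refine Scheme.IdealSheafData.ext_of_iSup_eq_top (fun x => ⟨U x, hU x⟩) hcov fun x => ?_
      obtain ⟨b⟩ := hb x
      rw [sheafIdeal_ideal, Scheme.IdealSheafData.ideal_top]
      exact Helper23.Fit.ideal_of_basis_ge b hk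
  · rintro ⟨h1, h2⟩ x
    obtain ⟨U, hU, hxU, -⟩ := exists_isAffineOpen_mem_and_subset (x := x) (U := ⊤) trivial
    have hx : x ∉ (Fitt.sheafIdeal M r).support := by
      rw [h2 r le_rfl, Scheme.IdealSheafData.support_top]
      exact fun h => h
    obtain ⟨f, hxf, σ, hσ⟩ := exists_gen_basicOpen M r hU x hxU hx
    have hbot : ∀ k, k < r → Fitt.ideal Γ(X, X.basicOpen f) Γ(M, X.basicOpen f) k = ⊥ := by
      intro k hk
      rw [← sheafIdeal_ideal M k ⟨X.basicOpen f, hU.basicOpen f⟩, h1 k hk]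
      rfl
    have hli := Helper23.Fit.linearIndependent_of_ideal_eq_bot _ hσ hbot
    have hB := isBasisOn_of_basis M (hU.basicOpen f)
      (isLocOn_of_isQuasicoherent M (hU.basicOpen f)) _ hli hσ
    exact ⟨X.basicOpen f, hxf, hB.nonempty_iso⟩

end Groth.Agent.Lib.Helper5.FittSheaf
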