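import Mathlib
import Groth.Prelude.Def_LCI2
import Groth.Agent.Lib.Helper5.RegSpreadRing
import Groth.Agent.Lib.Helper5.RegSchImm
import Groth.Agent.Lib.Helper5.RegImmB

/-!
# Surjections of regular rings have Koszul-regular kernels; finite type maps of regular rings are lci
-/

set_option autoImplicit false
universe u

namespace Groth.Agent.Lib.Helper5.LCIReg

open RingTheory.Sequence Groth.Agent.Lib.Helper5.RegSpreadRing

theorem isKoszulRegularIdeal_ker {P B : Type u} [CommRing P] [CommRing B] [IsRegularRing P]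
    [IsRegularRing B] (f : P →+* B) (hf : Function.Surjective f) :
    LCI.IsKoszulRegularIdeal (RingHom.ker f) := by
  rintro ⟨p, hp⟩ hle
  change RingHom.ker f ≤ p at hle
  have hq : (p.map f).IsPrime := Ideal.map_isPrime_of_surjective hf hle
  have hcomap : (p.map f).comap f = p := by
    rw [Ideal.comap_map_of_surjective' f hf, sup_eq_left]
    exact hle
  obtain ⟨q, hq', rfl⟩ : ∃ q : Ideal B, q.IsPrime ∧ q.comap f = p := ⟨p.map f, hq, hcomap⟩
  let φ : Localization.AtPrime (q.comap f) →+* Localization.AtPrime q :=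
    Localization.localRingHom (q.comap f) q f rfl
  have hφ : Function.Surjective φ := RingHom.surjective_localRingHom_of_surjective f hf q
  have hT : Submonoid.map f (q.comap f).primeCompl = q.primeCompl :=
    Submonoid.map_comap_eq_of_surjective hf q.primeCompl
  have hkφ : RingHom.ker φ =
      (RingHom.ker f).map (algebraMap P (Localization.AtPrime (q.comap f))) :=
    IsLocalization.ker_map (Localization.AtPrime q) f hT
  obtain ⟨l₀, hl₀, hk₀⟩ := Groth.Agent.Lib.Helper5.RegSchImm.exists_regular_of_surjective φ hφ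
  obtain ⟨g₁, hg₁, xs, hF, hS⟩ := exists_away_ideal_eq' (q.comap f)
    (Localization.AtPrime (q.comap f)) (RingHom.ker f) l₀ (hkφ.symm.trans hk₀)
  have hwr : IsWeaklyRegular (Localization.AtPrime (q.comap f))
      (xs.map (algebraMap P (Localization.AtPrime (q.comap f)))) :=
    Groth.Agent.Lib.Helper7.RegSpread.isWeaklyRegular_of_forall₂_unit hF _ hl₀.1
  obtain ⟨g₂, hg₂, hS₂⟩ := exists_away_weaklyRegular' (q.comap f)
    (Localization.AtPrime (q.comap f)) xs hwr
  refine ⟨g₁ * g₂, ?_, xs.map (algebraMap P (Localization.Away (g₁ * g₂))), ?_, ?_⟩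
  · intro hmem
    rcases (Ideal.IsPrime.mem_or_mem inferInstance hmem) with h | h
    exacts [hg₁ h, hg₂ h]
  · exact Groth.Agent.Lib.Helper5.RegImmB.isKoszulRegularSeq_of_isWeaklyRegular _
      (hS₂ (g₁ * g₂) (Dvd.intro_left g₁ rfl) (Localization.Away (g₁ * g₂)))
  · refine hS (Localization.Away (g₁ * g₂)) ?_
    have h1 : IsUnit (algebraMap P (Localization.Away (g₁ * g₂)) (g₁ * g₂)) :=
      IsLocalization.Away.algebraMap_isUnit _
    rw [map_mul] at h1
    exact isUnit_of_mul_isUnit_left h1

theorem isLCI_of_isRegularRing (A B : Type u) [CommRing A] [CommRing B] [Algebra A B]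
    [hft : Algebra.FiniteType A B] [IsRegularRing A] [IsRegularRing B] : LCI.IsLCI A B := by
  refine ⟨hft, ?_⟩
  obtain ⟨n, f, hf⟩ := Algebra.FiniteType.iff_quotient_mvPolynomial''.1 hft
  exact ⟨n, f, hf, isKoszulRegularIdeal_ker f.toRingHom hf⟩

open AlgebraicGeometry CategoryTheory in
theorem isRegularRing_of_stalks {X : Scheme.{u}} [IsLocallyNoetherian X]
    (hX : ∀ x : X, IsRegularLocalRing (X.presheaf.stalk x)) {U : X.Opens}
    (hU : IsAffineOpen U) : IsRegularRing Γ(X, U) := by
  have : IsNoetherianRing Γ(X, U) := IsLocallyNoetherian.component_noetherian ⟨U, hU⟩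
  rw [isRegularRing_iff]
  intro p hp
  have hy : hU.fromSpec ⟨p, hp⟩ ∈ U := (hU.isoSpec.inv _).2
  let _ := TopCat.Presheaf.algebra_section_stalk X.presheaf ⟨hU.fromSpec ⟨p, hp⟩, hy⟩
  have loc : IsLocalization p.primeCompl (X.presheaf.stalk (hU.fromSpec ⟨p, hp⟩)) :=
    hU.isLocalization_stalk' ⟨p, hp⟩ hy
  have := hX (hU.fromSpec ⟨p, hp⟩)
  exact IsRegularLocalRing.of_ringEquiv (IsLocalization.algEquiv p.primeCompl
    (X.presheaf.stalk (hU.fromSpec ⟨p, hp⟩)) (Localization.AtPrime p)).toRingEquiv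

end Groth.Agent.Lib.Helper5.LCIReg
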