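import Groth.Agent.Lib.Helper5.RegSmoothPerfect
import Mathlib

set_option autoImplicit false
set_option linter.unusedSectionVars false
universe u

namespace Groth.Agent.Lib.Helper5.RegSmoothCore

theorem smooth_of_isRegularRing (k : Type u) [Field k] [PerfectField k] (S : Type u) [CommRing S]
    [Algebra k S] [Algebra.FiniteType k S] [IsRegularRing S] : Algebra.Smooth k S := by
  have hfp : Algebra.FinitePresentation k S :=
    Algebra.FinitePresentation.of_finiteType.mp inferInstance
  refine ⟨Algebra.smoothLocus_eq_univ_iff.mp (Set.eq_univ_iff_forall.mpr fun q => ?_), hfp⟩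
  exact isSmoothAt_of_regular k S q.asIdeal

theorem isRegularRing_iff_smooth (k : Type u) [Field k] [PerfectField k] (S : Type u) [CommRing S]
    [Algebra k S] [Algebra.FiniteType k S] : IsRegularRing S ↔ Algebra.Smooth k S := by
  constructor
  · intro h
    exact smooth_of_isRegularRing k S
  · intro h
    exact Groth.Agent.Lib.Helper5.RegSmooth.isRegularRing_of_smooth k S

end Groth.Agent.Lib.Helper5.RegSmoothCore
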