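import Groth.Agent.Lib.Helper5.RegKaehler
import Groth.Agent.Lib.Helper5.RegSmoothGlobal
import Groth.Agent.Lib.Helper5.RegCompletion
import Groth.Agent.Lib.Helper7.AffineChain
import Mathlib

set_option autoImplicit false
set_option linter.unusedSectionVars false
universe u

namespace Groth.Agent.Lib.Helper5.RegKaehlerGlobal

open IsLocalRing TensorProduct KaehlerDifferential

variable (k : Type u) [Field k] (A : Type u) [CommRing A] [Algebra k A]

theorem finrank_fiber_eq (P : Ideal A) [P.IsPrime] :
    Module.finrank P.ResidueField (P.ResidueField ⊗[A] Ω[A⁄k]) =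
      Module.finrank (ResidueField (Localization.AtPrime P))
        (ResidueField (Localization.AtPrime P) ⊗[Localization.AtPrime P]
          Ω[Localization.AtPrime P⁄k]) := by
  let B := Localization.AtPrime P
  let κ := P.ResidueField
  let e1 : B ⊗[A] Ω[A⁄k] ≃ₗ[B] Ω[B⁄k] :=
    KaehlerDifferential.tensorKaehlerEquivOfFormallyEtale k A B
  let e2 : κ ⊗[B] (B ⊗[A] Ω[A⁄k]) ≃ₗ[κ] κ ⊗[A] Ω[A⁄k] :=
    AlgebraTensorModule.cancelBaseChange A B κ κ _
  let e3 : κ ⊗[B] (B ⊗[A] Ω[A⁄k]) ≃ₗ[κ] κ ⊗[B] Ω[B⁄k] :=
    AlgebraTensorModule.congr (LinearEquiv.refl κ κ) e1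
  exact (e2.symm.trans e3).finrank_eq

theorem bijective_algebraMap_residueField [IsAlgClosed k] [Algebra.FiniteType k A]
    (m : Ideal A) [hm : m.IsMaximal] :
    Function.Bijective (algebraMap k (ResidueField (Localization.AtPrime m))) := by
  let _ : Field (A ⧸ m) := Ideal.Quotient.field m
  have hft : Algebra.FiniteType k (A ⧸ m) :=
    Algebra.FiniteType.of_surjective (Ideal.Quotient.mkₐ k m) Ideal.Quotient.mk_surjective
  have hfin : Module.Finite k (A ⧸ m) := finite_of_finite_type_of_isJacobsonRing k (A ⧸ m)
  have hbij1 : Function.Bijective (algebraMap k (A ⧸ m)) :=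
    IsAlgClosed.algebraMap_bijective_of_isIntegral
  have hbij2 : Function.Bijective (algebraMap (A ⧸ m) m.ResidueField) :=
    Ideal.bijective_algebraMap_quotient_residueField m
  have h : algebraMap k m.ResidueField =
      (algebraMap (A ⧸ m) m.ResidueField).comp (algebraMap k (A ⧸ m)) :=
    IsScalarTower.algebraMap_eq k (A ⧸ m) m.ResidueField
  change Function.Bijective (algebraMap k m.ResidueField)
  rw [h]
  exact hbij2.comp hbij1

theorem ringKrullDim_localization_eq [Algebra.FiniteType k A] (hirr : (nilradical A).IsPrime)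
    (m : Ideal A) [hm : m.IsMaximal] :
    ringKrullDim (Localization.AtPrime m) = ringKrullDim A := by
  apply Groth.Agent.Lib.Helper7.AffChain.ringKrullDim_localization_eq (k := k) A m
  intro P hP
  have h1 : nilradical A ≤ P := by
    rw [nilradical_eq_sInf]
    exact sInf_le hP.1.1
  have h2 : P = nilradical A := le_antisymm (hP.2 ⟨hirr, bot_le⟩ h1) h1
  rw [h2]
  rw [nilradical_eq_sInf]
  exact sInf_le hm.isPrime

theorem regular_localization_of_projective [IsAlgClosed k] [Algebra.FiniteType k A]
    (hirr : (nilradical A).IsPrime) (n : ℕ) (hn : ringKrullDim A = n)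
    (hproj : Module.Projective A (Ω[A⁄k])) (m : Ideal A) [hm : m.IsMaximal]
    (hrank : Module.finrank m.ResidueField (m.ResidueField ⊗[A] Ω[A⁄k]) = n) :
    IsRegularLocalRing (Localization.AtPrime m) := by
  let B := Localization.AtPrime m
  have hres := bijective_algebraMap_residueField k A m
  have hdim : ringKrullDim B = (n : WithBot ℕ∞) :=
    (ringKrullDim_localization_eq k A hirr m).trans hn
  let e1 : B ⊗[A] Ω[A⁄k] ≃ₗ[B] Ω[B⁄k] :=
    KaehlerDifferential.tensorKaehlerEquivOfFormallyEtale k A B
  have hnoeth : IsNoetherianRing A := Algebra.FiniteType.isNoetherianRing k A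
  have hfinA : Module.Finite A (Ω[A⁄k]) := inferInstance
  have hprojB : Module.Projective B (Ω[B⁄k]) := Module.Projective.of_equiv e1
  have hfinB : Module.Finite B (Ω[B⁄k]) := Module.Finite.equiv e1
  have hfree : Module.Free B (Ω[B⁄k]) := Module.free_of_flat_of_isLocalRing
  have hr : Module.finrank B (Ω[B⁄k]) = n := by
    rw [← Module.finrank_baseChange (R := ResidueField B) (S := B), ← hrank]
    exact (finrank_fiber_eq k A m).symm
  exact Groth.Agent.Lib.Helper5.RegKaehler.regular_of_free k B hres n hdim hr

theorem isRegularRing_of_projective [IsAlgClosed k] [Algebra.FiniteType k A]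
    (hirr : (nilradical A).IsPrime) (n : ℕ) (hn : ringKrullDim A = n)
    (hproj : Module.Projective A (Ω[A⁄k]))
    (hrank : ∀ (P : Ideal A) [P.IsPrime],
      Module.finrank P.ResidueField (P.ResidueField ⊗[A] Ω[A⁄k]) = n) :
    IsRegularRing A := by
  have hnoeth : IsNoetherianRing A := Algebra.FiniteType.isNoetherianRing k A
  apply Groth.Agent.Lib.Helper5.RegCompletion.isRegularRing_of_maximal
  intro m hm
  exact regular_localization_of_projective k A hirr n hn hproj m (hrank m)

theorem finrank_fiber_of_regular [IsAlgClosed k] [Algebra.FiniteType k A]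
    (hirr : (nilradical A).IsPrime) (n : ℕ) (hn : ringKrullDim A = n)
    [IsRegularRing A] (m : Ideal A) [hm : m.IsMaximal] :
    Module.finrank m.ResidueField (m.ResidueField ⊗[A] Ω[A⁄k]) = n := by
  let B := Localization.AtPrime m
  have hres := bijective_algebraMap_residueField k A m
  have hdim : ringKrullDim B = (n : WithBot ℕ∞) :=
    (ringKrullDim_localization_eq k A hirr m).trans hn
  have hreg : IsRegularLocalRing B := IsRegularRing.isRegularLocalRing_localization m
  rw [finrank_fiber_eq k A m, Groth.Agent.Lib.Helper5.RegKaehler.finrank_tensor_eq k B hres]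
  have h2 := (IsRegularLocalRing.iff_finrank_cotangentSpace B).1 hreg
  rw [hdim] at h2
  exact_mod_cast h2

end Groth.Agent.Lib.Helper5.RegKaehlerGlobal
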