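import Groth.Agent.Lib.Helper5.GeomRegFG
import Mathlib

set_option autoImplicit false
universe u

namespace Groth.Agent.Lib.Helper5.GeomRegFG

open TensorProduct IntermediateField Polynomial

section FT

variable {k Ω : Type u} [Field k] [Field Ω] [Algebra k Ω]

/-- `g` is a root of a separable polynomial with coefficients in `N`. -/
def SepOver (N : IntermediateField k Ω) (g : Ω) : Prop :=
  ∃ P : Polynomial Ω, P.Separable ∧ P.eval g = 0 ∧ ∀ n, P.coeff n ∈ N

theorem SepOver.mono {N N' : IntermediateField k Ω} (h : N ≤ N') {g : Ω} (hg : SepOver N g) :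
    SepOver N' g := by
  obtain ⟨P, h1, h2, h3⟩ := hg
  exact ⟨P, h1, h2, fun n => h (h3 n)⟩

theorem SepOver.isSeparable {F : Type u} [Field F] [Algebra F Ω] {N : IntermediateField k Ω}
    (hN : ∀ x, x ∈ N → x ∈ Set.range (algebraMap F Ω)) {g : Ω} (h : SepOver N g) :
    IsSeparable F g := by
  obtain ⟨P, hsep, hroot, hcoef⟩ := h
  have hl : P ∈ Polynomial.lifts (algebraMap F Ω) := by
    rw [Polynomial.lifts_iff_coeff_lifts]
    intro n
    exact hN _ (hcoef n)
  obtain ⟨P', hP'⟩ := (Polynomial.mem_lifts _).mp hl
  have hsep' : P'.Separable := by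
    rw [← Polynomial.separable_map (algebraMap F Ω), hP']
    exact hsep
  have hroot' : Polynomial.aeval g P' = 0 := by
    rw [Polynomial.aeval_def, Polynomial.eval₂_eq_eval_map, hP', hroot]
  exact hsep'.of_dvd (minpoly.dvd F g hroot')

theorem exists_finset_adjoin (E : IntermediateField k Ω) (t : Set Ω) (P : Finset Ω)
    (hP : ∀ x ∈ P, x ∈ adjoin k ((E : Set Ω) ∪ t)) :
    ∃ C : Finset Ω, (C : Set Ω) ⊆ E ∧ ∀ x ∈ P, x ∈ adjoin k ((C : Set Ω) ∪ t) := by
  classical
  induction P using Finset.induction_on with
  | empty => exact ⟨∅, by simp, by simp⟩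
  | insert a P _ ih =>
    obtain ⟨C₁, hC₁, h₁⟩ := ih (fun x hx => hP x (Finset.mem_insert_of_mem hx))
    obtain ⟨T, hT, haT⟩ := exists_finset_of_mem_adjoin (hP a (Finset.mem_insert_self a P))
    refine ⟨C₁ ∪ T.filter (· ∈ E), ?_, ?_⟩
    · intro x hx
      rw [Finset.coe_union, Set.mem_union] at hx
      rcases hx with hx | hx
      · exact hC₁ hx
      · exact (Finset.mem_filter.mp hx).2
    · intro x hx
      rcases Finset.mem_insert.mp hx with rfl | hx
      · refine adjoin.mono k _ _ ?_ haT
        intro y hy
        rcases hT hy with hyE | hyt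
        · left
          rw [Finset.coe_union]
          right
          exact Finset.mem_filter.mpr ⟨hy, hyE⟩
        · right
          exact hyt
      · refine adjoin.mono k _ _ ?_ (h₁ x hx)
        intro y hy
        rcases hy with hy | hy
        · left
          rw [Finset.coe_union]
          left
          exact hy
        · right
          exact hy

theorem exists_sepOver_perfectClosure [IsAlgClosed Ω] (G : Finset Ω) :
    ∃ (ι : Type u) (_ : Finite ι) (x : ι → Ω),
      AlgebraicIndependent (perfectClosure k Ω) x ∧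
      ∀ g ∈ G, SepOver (adjoin k ((perfectClosure k Ω : Set Ω) ∪ Set.range x)) g := by
  classical
  have hperf : PerfectField (perfectClosure k Ω) := inferInstance
  let K₁ : IntermediateField (perfectClosure k Ω) Ω := adjoin (perfectClosure k Ω) (G : Set Ω)
  have hfg : Algebra.EssFiniteType (perfectClosure k Ω) K₁ :=
    IntermediateField.essFiniteType_iff.mpr ⟨G, rfl⟩
  obtain ⟨s, hs_tb, hs_sep⟩ :=
    exists_isTranscendenceBasis_and_isSeparable_of_perfectField (perfectClosure k Ω) K₁
  refine ⟨s, inferInstance, fun i => ((i : K₁) : Ω), ?_, ?_⟩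
  · exact hs_tb.1.map' (f := K₁.val) Subtype.val_injective
  · intro g hg
    let g₁ : K₁ := ⟨g, subset_adjoin _ _ hg⟩
    have hsep : (minpoly (adjoin (perfectClosure k Ω) (s : Set K₁)) g₁).Separable :=
      Algebra.IsSeparable.isSeparable _ g₁
    let ι₁ : adjoin (perfectClosure k Ω) (s : Set K₁) →+* Ω :=
      (algebraMap K₁ Ω).comp (algebraMap (adjoin (perfectClosure k Ω) (s : Set K₁)) K₁)
    refine ⟨(minpoly (adjoin (perfectClosure k Ω) (s : Set K₁)) g₁).map ι₁, hsep.map, ?_, ?_⟩
    · rw [Polynomial.eval_map]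
      have h1 := minpoly.aeval (adjoin (perfectClosure k Ω) (s : Set K₁)) g₁
      rw [Polynomial.aeval_def] at h1
      have h2 := Polynomial.hom_eval₂ (minpoly (adjoin (perfectClosure k Ω) (s : Set K₁)) g₁)
        (algebraMap (adjoin (perfectClosure k Ω) (s : Set K₁)) K₁) (algebraMap K₁ Ω) g₁
      rw [h1, map_zero] at h2
      exact h2.symm
    · intro n
      rw [Polynomial.coeff_map]
      generalize (minpoly (adjoin (perfectClosure k Ω) (s : Set K₁)) g₁).coeff n = a
      have key : ∀ (y : K₁) (_ : y ∈ adjoin (perfectClosure k Ω) (s : Set K₁)),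
          (y : Ω) ∈ adjoin k ((perfectClosure k Ω : Set Ω) ∪
            Set.range fun i : s => ((i : K₁) : Ω)) := by
        intro y hy
        induction hy using IntermediateField.adjoin_induction with
        | mem y hy =>
          exact subset_adjoin _ _ (Or.inr ⟨⟨y, hy⟩, rfl⟩)
        | algebraMap y =>
          exact subset_adjoin _ _ (Or.inl y.2)
        | add y z _ _ hy hz => exact add_mem hy hz
        | inv y _ hy => exact inv_mem hy
        | mul y z _ _ hy hz => exact mul_mem hy hz
      exact key a.1 a.2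

theorem exists_finset_sepOver [IsAlgClosed Ω] (G : Finset Ω) :
    ∃ (ι : Type u) (_ : Finite ι) (x : ι → Ω) (C : Finset Ω),
      AlgebraicIndependent (perfectClosure k Ω) x ∧ (C : Set Ω) ⊆ perfectClosure k Ω ∧
      ∀ g ∈ G, SepOver (adjoin k ((C : Set Ω) ∪ Set.range x)) g := by
  classical
  obtain ⟨ι, hι, x, hx, hsep⟩ := exists_sepOver_perfectClosure (k := k) (Ω := Ω) G
  suffices h : ∀ G' : Finset Ω, (∀ g ∈ G', SepOver (adjoin k ((perfectClosure k Ω : Set Ω) ∪
      Set.range x)) g) → ∃ C : Finset Ω, (C : Set Ω) ⊆ perfectClosure k Ω ∧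
      ∀ g ∈ G', SepOver (adjoin k ((C : Set Ω) ∪ Set.range x)) g by
    obtain ⟨C, hC, h'⟩ := h G hsep
    exact ⟨ι, hι, x, C, hx, hC, h'⟩
  intro G'
  induction G' using Finset.induction_on with
  | empty => intro _; exact ⟨∅, by simp, by simp⟩
  | insert a G' _ ih =>
    intro hG'
    obtain ⟨C₁, hC₁, h₁⟩ := ih (fun g hg => hG' g (Finset.mem_insert_of_mem hg))
    obtain ⟨P, hs, hr, hc⟩ := hG' a (Finset.mem_insert_self a G')
    obtain ⟨C₂, hC₂, h₂⟩ := exists_finset_adjoin (perfectClosure k Ω) (Set.range x) P.coeffs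
      (fun y hy => by
        obtain ⟨n, _, rfl⟩ := Polynomial.mem_coeffs_iff.mp hy
        exact hc n)
    refine ⟨C₁ ∪ C₂, ?_, ?_⟩
    · rw [Finset.coe_union]
      exact Set.union_subset hC₁ hC₂
    · intro g hg
      rcases Finset.mem_insert.mp hg with rfl | hg
      · refine SepOver.mono (N := adjoin k ((C₂ : Set Ω) ∪ Set.range x)) ?_ ?_
        · apply adjoin.mono
          rw [Finset.coe_union]
          exact Set.union_subset_union_left _ Set.subset_union_right
        · refine ⟨P, hs, hr, fun n => ?_⟩
          by_cases h0 : P.coeff n = 0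
          · rw [h0]
            exact zero_mem _
          · exact h₂ _ (Polynomial.coeff_mem_coeffs h0)
      · refine SepOver.mono ?_ (h₁ g hg)
        apply adjoin.mono
        rw [Finset.coe_union]
        exact Set.union_subset_union_left _ Set.subset_union_left

end FT

theorem regular_tensor_of_fg (k K S : Type u) [Field k] [Field K] [Algebra k K]
    [Algebra.EssFiniteType k K] [CommRing S] [Algebra k S]
    (hP : ∀ (k' : Type u) [Field k'] [Algebra k k'], Module.Finite k k' →
      IsPurelyInseparable k k' → IsRegularRing (k' ⊗[k] S)) : IsRegularRing (K ⊗[k] S) := by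
  classical
  obtain ⟨G₀, hG₀⟩ := IntermediateField.fg_top k K
  let G : Finset (AlgebraicClosure K) := G₀.image (algebraMap K (AlgebraicClosure K))
  obtain ⟨ι, hι, x, C, hx, hC, hsep⟩ :=
    exists_finset_sepOver (k := k) (Ω := AlgebraicClosure K) G
  let F : IntermediateField k (AlgebraicClosure K) := adjoin k (C : Set (AlgebraicClosure K))
  have hFE : F ≤ perfectClosure k (AlgebraicClosure K) := adjoin_le_iff.mpr hC
  obtain ⟨q, hq⟩ := ExpChar.exists k
  have hCint : ∀ c ∈ (C : Set (AlgebraicClosure K)), IsIntegral k c := by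
    intro c hc
    have h1 : IsIntegral k (⟨c, hC hc⟩ : perfectClosure k (AlgebraicClosure K)) :=
      Algebra.IsIntegral.isIntegral _
    exact IntermediateField.isIntegral_iff.mp h1
  have hFfin : Module.Finite k F := finiteDimensional_adjoin hCint
  have hFpi : IsPurelyInseparable k F :=
    (isPurelyInseparable_adjoin_iff_pow_mem k (AlgebraicClosure K) q).mpr
      (fun c hc => (mem_perfectClosure_iff_pow_mem q).mp (hC hc))
  have hT := hP F hFfin hFpi
  let _ : Algebra F (perfectClosure k (AlgebraicClosure K)) :=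
    (IntermediateField.inclusion hFE).toRingHom.toAlgebra
  have hst : IsScalarTower F (perfectClosure k (AlgebraicClosure K)) (AlgebraicClosure K) :=
    IsScalarTower.of_algebraMap_eq (fun _ => rfl)
  have hxF : AlgebraicIndependent F x :=
    hx.restrictScalars (K := perfectClosure k (AlgebraicClosure K))
      (IntermediateField.inclusion hFE).injective
  let Mf : IntermediateField F (AlgebraicClosure K) := adjoin F (Set.range x)
  let e : FractionRing (MvPolynomial ι F) ≃ₐ[F] Mf := hxF.aevalEquivField
  let Lf : IntermediateField Mf (AlgebraicClosure K) := adjoin Mf (G : Set (AlgebraicClosure K))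
  have hst2 : IsScalarTower k Mf (AlgebraicClosure K) := IsScalarTower.of_algebraMap_eq (fun _ => rfl)
  have hMf : ∀ y, y ∈ adjoin k ((C : Set (AlgebraicClosure K)) ∪ Set.range x) →
      y ∈ Set.range (algebraMap Mf (AlgebraicClosure K)) := by
    intro y hy
    rw [← adjoin_adjoin_left] at hy
    exact ⟨⟨y, hy⟩, rfl⟩
  have hGsep : ∀ g ∈ (G : Set (AlgebraicClosure K)), IsSeparable Mf g :=
    fun g hg => (hsep g hg).isSeparable hMf
  have hLsep : Algebra.IsSeparable Mf Lf :=
    (isSeparable_adjoin_iff_isSeparable Mf (AlgebraicClosure K)).mpr hGsep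
  have hLfin : Module.Finite Mf Lf :=
    finiteDimensional_adjoin (fun g hg => (hGsep g hg).isIntegral)
  have hrange : ∀ y : K, algebraMap K (AlgebraicClosure K) y ∈ Lf := by
    intro y
    have hy : y ∈ adjoin k (G₀ : Set K) := by
      rw [hG₀]
      exact IntermediateField.mem_top
    induction hy using IntermediateField.adjoin_induction with
    | mem y hy =>
      exact subset_adjoin _ _ (Finset.mem_image_of_mem _ hy)
    | algebraMap y =>
      rw [← IsScalarTower.algebraMap_apply k K (AlgebraicClosure K)]
      rw [IsScalarTower.algebraMap_apply k Mf (AlgebraicClosure K)]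
      exact Lf.algebraMap_mem _
    | add y z _ _ hy hz =>
      rw [map_add]
      exact add_mem hy hz
    | inv y _ hy =>
      rw [map_inv₀]
      exact inv_mem hy
    | mul y z _ _ hy hz =>
      rw [map_mul]
      exact mul_mem hy hz
  let φ : K →+* Lf := (algebraMap K (AlgebraicClosure K)).codRestrict Lf hrange
  let _ : Algebra K Lf := φ.toAlgebra
  refine regular_of_tower k K F Mf Lf S ι (fun _ => rfl) (fun _ => rfl) (fun c => ?_) hLfin hLsep
    e hT
  apply Subtype.ext
  change algebraMap k (AlgebraicClosure K) c = algebraMap K (AlgebraicClosure K) (algebraMap k K c)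
  exact IsScalarTower.algebraMap_apply k K (AlgebraicClosure K) c

end Groth.Agent.Lib.Helper5.GeomRegFG
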