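import Groth.Agent.Lib.Helper5.GeomRegAlg
import Groth.Agent.Lib.Helper5.RegSmoothPerfect
import Mathlib

set_option autoImplicit false
set_option linter.unusedSectionVars false
universe u

namespace Groth.Agent.Lib.Helper5.GeomRegAlg

open TensorProduct

theorem smooth_of_geomRegular (κ : Type u) [Field κ] (F : Type u) [CommRing F] [Algebra κ F]
    [Algebra.FiniteType κ F] (hGR : CAlg.IsGeometricallyRegular κ F) : Algebra.Smooth κ F := by
  have hfp : Algebra.FinitePresentation κ F :=
    Algebra.FinitePresentation.of_finiteType.mp inferInstance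
  have hft : Algebra.FiniteType (AlgebraicClosure κ) (AlgebraicClosure κ ⊗[κ] F) := inferInstance
  have hfp' : Algebra.FinitePresentation (AlgebraicClosure κ) (AlgebraicClosure κ ⊗[κ] F) :=
    inferInstance
  have hN : IsNoetherianRing (AlgebraicClosure κ ⊗[κ] F) :=
    Algebra.FiniteType.isNoetherianRing (AlgebraicClosure κ) _
  have hreg : IsRegularRing (AlgebraicClosure κ ⊗[κ] F) :=
    isRegularRing_tensor κ (AlgebraicClosure κ) F hGR
  have hsm : Algebra.Smooth (AlgebraicClosure κ) (AlgebraicClosure κ ⊗[κ] F) := by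
    refine ⟨Algebra.smoothLocus_eq_univ_iff.mp (Set.eq_univ_iff_forall.mpr fun q => ?_), hfp'⟩
    exact Groth.Agent.Lib.Helper5.RegSmoothCore.isSmoothAt_of_regular (AlgebraicClosure κ)
      (AlgebraicClosure κ ⊗[κ] F) q.asIdeal
  exact Algebra.Smooth.of_smooth_tensorProduct_of_faithfullyFlat (AlgebraicClosure κ)

theorem geomRegular_of_smooth (κ : Type u) [Field κ] (F : Type u) [CommRing F] [Algebra κ F]
    [Algebra.Smooth κ F] : CAlg.IsGeometricallyRegular κ F := by
  intro k' _ _ _
  have : IsRegularRing k' := inferInstance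
  exact Groth.Agent.Lib.Helper5.RegSmooth.isRegularRing_of_smooth k' _

end Groth.Agent.Lib.Helper5.GeomRegAlg
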