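import Groth.Agent.Lib.Helper5.GeomRegInjJ
import Mathlib

set_option autoImplicit false
universe u

open IsLocalRing TensorProduct KaehlerDifferential

namespace Groth.Agent.Lib.Helper5.GeomRegInj

variable {k A : Type u} [Field k] [CommRing A] [IsLocalRing A] [Algebra k A]

/-- variant of `injective_of_geomRegular` asking only for regularity after finite extensions of
exponent one. -/
theorem injective_of_regular_exponent_one (k A : Type u) [Field k] [CommRing A] [IsLocalRing A]
    [Algebra k A] (p : ℕ) [Fact p.Prime] [CharP k p]
    (hA : ∀ (k' : Type u) [Field k'] [Algebra k k'], Module.Finite k k' →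
      (∀ x : k', x ^ p ∈ Set.range (algebraMap k k')) → IsRegularRing (k' ⊗[k] A)) :
    Function.Injective
      ((KaehlerDifferential.mapBaseChange ℤ k A).lTensor (ResidueField A)) := by
  classical
  rw [injective_iff_map_eq_zero]
  intro ξ hξ
  by_contra hne
  let e : k → (ResidueField A) ⊗[A] (A ⊗[k] Ω[k⁄ℤ]) :=
    fun t => eForm (A := A) (KaehlerDifferential.D ℤ k t)
  have main : ∀ n : ℕ, ∀ s : Finset k, s.card = n →
      ξ ∈ Submodule.span A (e '' (s : Set k)) → False := by
    intro n
    induction n with
    | zero =>
      intro s hs hmem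
      rw [Finset.card_eq_zero] at hs
      subst hs
      rw [Finset.coe_empty, Set.image_empty, Submodule.span_empty, Submodule.mem_bot] at hmem
      exact hne hmem
    | succ n ih =>
      intro s hs hmem
      by_cases hex : ∃ x₁ ∈ s, ξ ∈ Submodule.span A (e '' ((s.erase x₁ : Finset k) : Set k))
      · obtain ⟨x₁, hx₁, hmem'⟩ := hex
        exact ih (s.erase x₁) (by rw [Finset.card_erase_of_mem hx₁, hs]; rfl) hmem'
      · push Not at hex
        have hne_s : s.Nonempty := by
          rw [← Finset.card_pos, hs]
          omega
        obtain ⟨x₁, hx₁⟩ := hne_s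
        have hnot := hex x₁ hx₁
        have hins : (s : Set k) = insert x₁ ((s.erase x₁ : Finset k) : Set k) := by
          rw [Finset.coe_erase, Set.insert_sdiff_singleton,
            Set.insert_eq_of_mem (Finset.mem_coe.mpr hx₁)]
        rw [hins, Set.image_insert_eq] at hmem
        obtain ⟨a, η, hη, hξeq⟩ := Submodule.mem_span_insert.mp hmem
        have ha : a ∉ maximalIdeal A := by
          intro ham
          apply hnot
          rw [hξeq, smul_eq_zero_of_mem a ham, zero_add]
          exact hη
        have hdx : KaehlerDifferential.D ℤ k x₁ ∉ Submodule.span k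
            ((KaehlerDifferential.D ℤ k) '' ((s.erase x₁ : Finset k) : Set k)) := by
          intro hmemd
          apply hnot
          rw [hξeq]
          exact Submodule.add_mem _ (Submodule.smul_mem _ _ (eForm_mem_span _ _ hmemd)) hη
        obtain ⟨L, hL, ι, D, hι, hleib, hDx, hDs⟩ :=
          exists_derivation_field' k A p hA (s.erase x₁) x₁ hdx
        obtain ⟨Ψ, hΨs, hΨe, hΨk⟩ := exists_functional (k := k) L ι D hι hleib
        have h0 : Ψ ξ = 0 := hΨk ξ hξ
        have hΨspan : ∀ v ∈ Submodule.span A (e '' ((s.erase x₁ : Finset k) : Set k)),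
            Ψ v = 0 := by
          intro v hv
          induction hv using Submodule.span_induction with
          | mem v hv =>
            obtain ⟨y, hy, rfl⟩ := hv
            rw [hΨe]
            exact hDs y (Finset.mem_coe.mp hy)
          | zero => rw [map_zero]
          | add x y _ _ hx hy => rw [map_add, hx, hy, add_zero]
          | smul b x _ hx => rw [hΨs, hx, mul_zero]
        have hη0 : Ψ η = 0 := hΨspan η hη
        rw [hξeq, map_add, hΨs, hη0, add_zero, hΨe] at h0
        have hu : IsUnit a := by
          by_contra hna
          exact ha ((mem_maximalIdeal a).mpr hna)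
        have hιa : ι a ≠ 0 := (hu.map ι).ne_zero
        exact (mul_ne_zero hιa hDx) h0
  have hspan := mem_span_range (k := k) (A := A) ξ
  obtain ⟨T, hT, hξT⟩ := Submodule.mem_span_finite_of_mem_span hspan
  obtain ⟨s, -, hsT⟩ := Finset.subset_set_image_iff.mp hT
  apply main s.card s rfl
  rw [← Finset.coe_image, hsT]
  exact hξT

end Groth.Agent.Lib.Helper5.GeomRegInj
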