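import Mathlib
import Groth.Agent.Lib.Helper5.PowSer
import Groth.Agent.Lib.Helper5.ComplKaehler

set_option autoImplicit false

namespace Groth.Agent.Lib.Helper5.PowSer

open MvPowerSeries Finsupp IsLocalRing KaehlerDifferential

universe u

section Kaehler

variable (k : Type u) [Field k] (r : ℕ)

local notation "𝔄" => MvPowerSeries (Fin r) k

/-- `e_i ↦ dT_i` -/
noncomputable def phi : (Fin r → 𝔄) →ₗ[𝔄] Ω[𝔄⁄k] :=
  Fintype.linearCombination 𝔄 (fun i => D k 𝔄 (X i))

/-- partial derivatives -/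
noncomputable def psi : Ω[𝔄⁄k] →ₗ[𝔄] (Fin r → 𝔄) :=
  LinearMap.pi (fun i => (pderiv k i).liftKaehlerDifferential)

theorem psi_phi (c : Fin r → 𝔄) : psi k r (phi k r c) = c := by
  classical
  funext j
  change (pderiv k j).liftKaehlerDifferential (Fintype.linearCombination 𝔄 (fun i => D k 𝔄 (X i)) c) = c j
  rw [Fintype.linearCombination_apply, map_sum]
  simp only [map_smul, Derivation.liftKaehlerDifferential_comp_D, pderiv_X, smul_eq_mul]
  rw [Finset.sum_eq_single j]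
  · simp
  · intro i _ hij
    simp [hij]
  · intro h
    exact absurd (Finset.mem_univ j) h

theorem D_mem (f : 𝔄) :
    D k 𝔄 f ∈ LinearMap.range (phi k r) ⊔ (maximalIdeal 𝔄 • ⊤ : Submodule 𝔄 Ω[𝔄⁄k]) := by
  classical
  set T := LinearMap.range (phi k r) ⊔ (maximalIdeal 𝔄 • ⊤ : Submodule 𝔄 Ω[𝔄⁄k]) with hT
  have key : ∀ g ∈ Ideal.span (Set.range (X : Fin r → 𝔄)), D k 𝔄 g ∈ T := by
    intro g hg
    induction hg using Submodule.span_induction with
    | mem x hx =>
      obtain ⟨i, rfl⟩ := hx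
      refine Submodule.mem_sup_left ⟨Pi.single i 1, ?_⟩
      change Fintype.linearCombination 𝔄 (fun i => D k 𝔄 (X i)) (Pi.single i 1) = _
      rw [Fintype.linearCombination_apply_single, one_smul]
    | zero => rw [map_zero]; exact T.zero_mem
    | add x y _ _ hx hy => rw [map_add]; exact T.add_mem hx hy
    | smul a x hx hDx =>
      rw [smul_eq_mul, Derivation.leibniz]
      refine T.add_mem (T.smul_mem a hDx) (Submodule.mem_sup_right ?_)
      refine Submodule.smul_mem_smul ?_ trivial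
      rw [maximalIdeal_eq_span_X]
      exact hx
  have hdec : f = C (constantCoeff f) + (f - C (constantCoeff f)) := by ring
  have hmem : f - C (constantCoeff f) ∈ Ideal.span (Set.range (X : Fin r → 𝔄)) := by
    have := mem_pow_span_X 1 (f - C (constantCoeff f)) (by
      intro d hd
      have : d = 0 := by
        have h1 : degree d = 0 := by omega
        exact (Finsupp.degree_eq_zero_iff d).mp h1
      rw [this, map_sub, coeff_zero_eq_constantCoeff_apply, coeff_zero_C, sub_self])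
    rwa [pow_one] at this
  rw [hdec, map_add]
  have hC : D k 𝔄 (C (constantCoeff f)) = 0 := by
    have : (C (constantCoeff f) : 𝔄) = algebraMap k 𝔄 (constantCoeff f) := rfl
    rw [this, Derivation.map_algebraMap]
  rw [hC, zero_add]
  exact key _ hmem

theorem range_phi_sup : LinearMap.range (phi k r) ⊔ (maximalIdeal 𝔄 • ⊤ : Submodule 𝔄 Ω[𝔄⁄k]) = ⊤ := by
  rw [eq_top_iff]
  intro x _
  have hx : x ∈ Submodule.span 𝔄 (Set.range (D k 𝔄)) := by
    rw [KaehlerDifferential.span_range_derivation]; trivial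
  refine Submodule.span_le.mpr ?_ hx
  rintro _ ⟨f, rfl⟩
  exact D_mem k r f

/-- the comparison map -/
noncomputable def Phi : (Fin r → 𝔄) →ₗ[𝔄] AdicCompletion (maximalIdeal 𝔄) (Ω[𝔄⁄k]) :=
  (AdicCompletion.of (maximalIdeal 𝔄) (Ω[𝔄⁄k])) ∘ₗ phi k r

theorem Phi_injective : Function.Injective (Phi k r) := by
  rw [injective_iff_map_eq_zero]
  intro c hc
  have h1 : ∀ n : ℕ, phi k r c ∈ (maximalIdeal 𝔄 ^ n • ⊤ : Submodule 𝔄 Ω[𝔄⁄k]) := by
    intro n
    have := congrArg (AdicCompletion.eval (maximalIdeal 𝔄) (Ω[𝔄⁄k]) n) hc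
    change AdicCompletion.eval _ _ n (AdicCompletion.of _ _ (phi k r c)) = _ at this
    rw [AdicCompletion.eval_of, map_zero, Submodule.mkQ_apply, Submodule.Quotient.mk_eq_zero] at this
    exact this
  have h2 : ∀ n : ℕ, c ∈ (maximalIdeal 𝔄 ^ n • ⊤ : Submodule 𝔄 (Fin r → 𝔄)) := by
    intro n
    have h3 : psi k r (phi k r c) ∈ Submodule.map (psi k r)
        (maximalIdeal 𝔄 ^ n • ⊤ : Submodule 𝔄 Ω[𝔄⁄k]) := Submodule.mem_map_of_mem (h1 n)
    rw [psi_phi, Submodule.map_smul''] at h3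
    exact Submodule.smul_mono le_rfl le_top h3
  funext i
  have hH : IsHausdorff (maximalIdeal 𝔄) 𝔄 := inferInstance
  apply hH.haus'
  intro n
  rw [SModEq.zero, smul_eq_mul, Ideal.mul_top]
  exact (ComplKaehler.mem_smul_top_pi_iff _ c).mp (h2 n) i

theorem Phi_surjective : Function.Surjective (Phi k r) := by
  have hfg : (maximalIdeal 𝔄).FG := by
    rw [maximalIdeal_eq_span_X]
    exact Submodule.fg_span (Set.finite_range _)
  apply surjective_of_mkQ_comp_surjective (I := maximalIdeal 𝔄)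
  intro y
  obtain ⟨yh, rfl⟩ := Submodule.mkQ_surjective _ y
  obtain ⟨ω, hω⟩ := Submodule.mkQ_surjective _ (AdicCompletion.eval (maximalIdeal 𝔄) (Ω[𝔄⁄k]) 1 yh)
  have hω' : ω ∈ LinearMap.range (phi k r) ⊔ (maximalIdeal 𝔄 • ⊤ : Submodule 𝔄 Ω[𝔄⁄k]) := by
    rw [range_phi_sup]; trivial
  obtain ⟨_, ⟨c, rfl⟩, z, hz, rfl⟩ := Submodule.mem_sup.mp hω'
  refine ⟨c, ?_⟩
  change Submodule.mkQ _ (Phi k r c) = Submodule.mkQ _ yh
  rw [Submodule.mkQ_apply, Submodule.mkQ_apply, Submodule.Quotient.eq]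
  have hk : (maximalIdeal 𝔄 • ⊤ : Submodule 𝔄 (AdicCompletion (maximalIdeal 𝔄) (Ω[𝔄⁄k]))) =
      LinearMap.ker (AdicCompletion.eval (maximalIdeal 𝔄) (Ω[𝔄⁄k]) 1) := by
    have := AdicCompletion.pow_smul_top_eq_ker_eval (I := maximalIdeal 𝔄) (M := Ω[𝔄⁄k]) (n := 1) hfg
    rw [← this]
    congr 1
    exact (pow_one _).symm
  rw [hk, LinearMap.mem_ker, map_sub]
  change AdicCompletion.eval _ _ 1 (AdicCompletion.of _ _ (phi k r c)) - _ = 0
  rw [AdicCompletion.eval_of, ← hω, ← map_sub, Submodule.mkQ_apply, Submodule.Quotient.mk_eq_zero]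
  have : phi k r c - (phi k r c + z) = -z := by abel
  rw [this, pow_one]
  exact Submodule.neg_mem _ hz

theorem main :
    Module.Finite 𝔄 (AdicCompletion (maximalIdeal 𝔄) (Ω[𝔄⁄k])) ∧
    Module.Free 𝔄 (AdicCompletion (maximalIdeal 𝔄) (Ω[𝔄⁄k])) ∧
    Module.finrank 𝔄 (AdicCompletion (maximalIdeal 𝔄) (Ω[𝔄⁄k])) = r := by
  let e : (Fin r → 𝔄) ≃ₗ[𝔄] AdicCompletion (maximalIdeal 𝔄) (Ω[𝔄⁄k]) :=
    LinearEquiv.ofBijective (Phi k r) ⟨Phi_injective k r, Phi_surjective k r⟩
  refine ⟨Module.Finite.equiv e, Module.Free.of_equiv e, ?_⟩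
  rw [← e.finrank_eq, Module.finrank_fin_fun]

end Kaehler

end Groth.Agent.Lib.Helper5.PowSer
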