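import Groth.Agent.Lib.Helper5.CotSyzReg
import Groth.Agent.Lib.Helper5.RegSmoothGlobal
import Mathlib

set_option autoImplicit false
universe u

namespace Groth.Agent.Lib.Helper5.CotSyz

open CotT TensorProduct Groth.Agent.Lib.Helper1.Koszul Groth.Agent.Lib.Helper1.CotRel MvPolynomial

theorem regular_quotient_localization {R : Type u} [CommRing R] (I : Ideal R) (n : Ideal R)
    [hn : n.IsPrime] (hIn : I ≤ n) [IsRegularRing (R ⧸ I)] :
    IsRegularLocalRing
      (Localization.AtPrime n ⧸ I.map (algebraMap R (Localization.AtPrime n))) := by
  let Rn := Localization.AtPrime n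
  let mk := Ideal.Quotient.mk I
  let qb : Ideal (R ⧸ I) := n.map mk
  have hqb : qb.IsPrime := Ideal.map_isPrime_of_surjective Ideal.Quotient.mk_surjective (by
    rw [Ideal.mk_ker]
    exact hIn)
  have hsub : Algebra.algebraMapSubmonoid (R ⧸ I) n.primeCompl = qb.primeCompl := by
    ext x
    constructor
    · rintro ⟨y, hy, rfl⟩
      intro hmem
      exact hy ((Ideal.mem_quotient_iff_mem hIn).1 hmem)
    · intro hx
      obtain ⟨y, rfl⟩ := Ideal.Quotient.mk_surjective x
      refine ⟨y, ?_, rfl⟩
      intro hy
      exact hx ((Ideal.mem_quotient_iff_mem hIn).2 hy)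
  have hloc : IsLocalization (Algebra.algebraMapSubmonoid (R ⧸ I) n.primeCompl)
      (Rn ⧸ I.map (algebraMap R Rn)) := inferInstance
  rw [hsub] at hloc
  have hreg1 : IsRegularLocalRing (Localization.AtPrime qb) :=
    IsRegularRing.isRegularLocalRing_localization qb
  let e : Localization.AtPrime qb ≃ₐ[R ⧸ I] (Rn ⧸ I.map (algebraMap R Rn)) :=
    IsLocalization.algEquiv qb.primeCompl _ _
  exact IsRegularLocalRing.of_ringEquiv e.toRingEquiv

theorem syz_of_regular (k B : Type u) [Field k] [CommRing B] [Algebra k B] [IsRegularRing B]
    {ι : Type} [Finite ι] {σ : Type} (P : Algebra.Presentation k B ι σ) : Syz (rel P) := by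
  apply syz_of_forall_maximal
  intro n hn hIn
  have hRreg : IsRegularRing P.toExtension.Ring :=
    inferInstanceAs (IsRegularRing (MvPolynomial ι k))
  have hAreg : IsRegularLocalRing (Localization.AtPrime n) :=
    IsRegularRing.isRegularLocalRing_localization n
  rw [span_range_rel] at hIn
  have hBq : IsRegularRing (P.toExtension.Ring ⧸ P.toExtension.ker) :=
    IsRegularRing.of_ringEquiv
      (RingHom.quotientKerEquivOfSurjective P.toExtension.algebraMap_surjective).symm
  have hq1 := regular_quotient_localization P.toExtension.ker n hIn
  have hideal : P.toExtension.ker.map (algebraMap P.toExtension.Ring (Localization.AtPrime n)) =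
      Ideal.span (Set.range fun j => algebraMap P.toExtension.Ring (Localization.AtPrime n)
        (rel P j)) := by
    rw [← span_range_rel, Ideal.map_span, ← Set.range_comp]
    rfl
  have hq2 : IsRegularLocalRing (Localization.AtPrime n ⧸
      Ideal.span (Set.range fun j => algebraMap P.toExtension.Ring (Localization.AtPrime n)
        (rel P j))) :=
    IsRegularLocalRing.of_ringEquiv (Ideal.quotEquivOfEq hideal)
  exact syz_of_regular_quotient _

theorem projective_cotangent (k B : Type u) [CommRing k] [CommRing B] [Algebra k B]
    [Algebra.FormallySmooth k B] {ι : Type*} {σ : Type*} (P : Algebra.Presentation k B ι σ) :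
    Module.Projective B P.toExtension.Cotangent := by
  have hR : Algebra.FormallySmooth k P.toExtension.Ring :=
    inferInstanceAs (Algebra.FormallySmooth k (MvPolynomial ι k))
  obtain ⟨l, hl⟩ := (Algebra.Extension.formallySmooth_iff_split_injection P.toExtension).1
    inferInstance
  have hfree : Module.Free B P.toExtension.CotangentSpace :=
    Module.Free.of_basis P.cotangentSpaceBasis
  exact Module.Projective.of_split P.toExtension.cotangentComplex l hl

theorem subsingleton_T2_canon_of_regular (k B : Type u) [Field k] [PerfectField k] [CommRing B]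
    [Algebra k B] [Algebra.FiniteType k B] [IsRegularRing B]
    (M : Type u) [AddCommGroup M] [Module B M] : Subsingleton (T2 (canon k B) M) := by
  have hfp : Algebra.FinitePresentation k B :=
    Algebra.FinitePresentation.of_finiteType.mp inferInstance
  have hsm : Algebra.Smooth k B := Groth.Agent.Lib.Helper5.RegSmoothCore.smooth_of_isRegularRing k B
  have hfs : Algebra.FormallySmooth k B := inferInstance
  let P := Algebra.Presentation.ofFinitePresentation k B
  have hS : Syz (rel P) := syz_of_regular k B P
  have hproj := projective_cotangent k B P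
  have h2 := subsingleton_T2_of_syz P hS M
  obtain ⟨e2⟩ := Groth.Agent.Lib.Helper1.CotJoin.nonempty_T2_equiv_presentations P
    (canon k B) M
  exact e2.symm.toEquiv.subsingleton

end Groth.Agent.Lib.Helper5.CotSyz
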