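import Groth.Agent.Lib.Helper5.CartierRoot
import Mathlib.FieldTheory.PurelyInseparable.Basic
import Mathlib.FieldTheory.SeparableClosure

set_option autoImplicit false
set_option linter.unusedSectionVars false
universe u

namespace Groth.Agent.Lib.Helper5.Cartier

open TensorProduct Module IntermediateField

lemma exists_root_step (F E : Type*) [Field F] [Field E] [Algebra F E] (q : ℕ) [ExpChar F q]
    [IsPurelyInseparable F E] (h : ¬ Function.Surjective (algebraMap F E)) :
    ∃ x : E, x ∉ (algebraMap F E).range ∧ x ^ q ∈ (algebraMap F E).range := by
  classical
  obtain ⟨y, hy⟩ : ∃ y : E, y ∉ (algebraMap F E).range := by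
    by_contra hall
    push Not at hall
    exact h (fun y => hall y)
  have hex := IsPurelyInseparable.pow_mem F q y
  have hn0 : Nat.find hex ≠ 0 := by
    intro h0
    have := Nat.find_spec hex
    rw [h0, pow_zero, pow_one] at this
    exact hy this
  refine ⟨y ^ q ^ (Nat.find hex - 1), ?_, ?_⟩
  · exact Nat.find_min hex (Nat.sub_lt (Nat.pos_of_ne_zero hn0) one_pos)
  · have := Nat.find_spec hex
    rw [← pow_mul, ← pow_succ, Nat.sub_add_cancel (Nat.pos_of_ne_zero hn0)]
    exact this

section AdjoinRoot

variable {S L : Type u} [Field S] [Field L] [Algebra S L] (p : ℕ) [hpF : Fact p.Prime]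
  [CharP L p]

/-- the Cartier data of a simple extension by a `p`-th root, in intermediate-field form -/
theorem cdata_adjoin_root (x : L) (hx : x ∉ (algebraMap S L).range)
    (hxp : x ^ p ∈ (algebraMap S L).range) : CData S S⟮x⟯ 0 := by
  obtain ⟨c, hc⟩ := hxp
  haveI : CharP S⟮x⟯ p := (algebraMap S⟮x⟯ L).charP (algebraMap S⟮x⟯ L).injective p
  have hc' : algebraMap S S⟮x⟯ c = (AdjoinSimple.gen S x) ^ p := by
    apply Subtype.ext
    change algebraMap S L c = _
    rw [hc]
    simp
  have hx' : AdjoinSimple.gen S x ∉ Set.range (algebraMap S S⟮x⟯) := by
    rintro ⟨a, ha⟩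
    apply hx
    refine ⟨a, ?_⟩
    have := congrArg (fun z : S⟮x⟯ => (z : L)) ha
    simpa using this
  have hint : IsIntegral S x := by
    refine ⟨Polynomial.X ^ p - Polynomial.C c, Polynomial.monic_X_pow_sub_C c hpF.out.ne_zero, ?_⟩
    simp [hc]
  have htop : Algebra.adjoin S {AdjoinSimple.gen S x} = ⊤ := by
    have := (adjoin.powerBasis hint).adjoin_gen_eq_top
    rwa [adjoin.powerBasis_gen] at this
  exact cdata_root p (AdjoinSimple.gen S x) c hc' hx' htop

end AdjoinRoot

section Finite

theorem cdata_of_finite_aux : ∀ (n : ℕ) (M L : Type u) [Field M] [Field L] [Algebra M L]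
    [FiniteDimensional M L], finrank M L ≤ n → CData M L 0 := by
  intro n
  induction n with
  | zero =>
    intro M L _ _ _ _ h
    have := Module.finrank_pos (R := M) (M := L)
    omega
  | succ n ih =>
    intro M L _ _ _ _ hn
    by_cases hsep : Algebra.IsSeparable M L
    · exact cdata_of_isSeparable
    · obtain ⟨q, hq⟩ := ExpChar.exists M
      haveI : IsPurelyInseparable (separableClosure M L) L :=
        separableClosure.isPurelyInseparable M L
      have hS_ne : separableClosure M L ≠ ⊤ := fun h => hsep ((separableClosure.eq_top_iff M L).1 h)
      have hnsurj : ¬ Function.Surjective (algebraMap (separableClosure M L) L) := by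
        intro hs
        apply hS_ne
        rw [eq_top_iff]
        intro y _
        obtain ⟨a, rfl⟩ := hs y
        exact a.2
      haveI : ExpChar (separableClosure M L) q :=
        expChar_of_injective_algebraMap (algebraMap M (separableClosure M L)).injective q
      obtain ⟨x, hx, hxq⟩ := exists_root_step (separableClosure M L) L q hnsurj
      have hqprime : q.Prime := by
        rcases hq with _ | ⟨hprime⟩
        · exfalso
          rw [pow_one] at hxq
          exact hx hxq
        · exact hprime
      haveI : Fact q.Prime := ⟨hqprime⟩
      haveI : CharP M q := by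
        rcases hq with _ | ⟨hprime⟩
        · exact absurd hqprime Nat.not_prime_one
        · assumption
      haveI : CharP L q := charP_of_injective_algebraMap (algebraMap M L).injective q
      have h1 : CData (separableClosure M L) (separableClosure M L)⟮x⟯ 0 :=
        cdata_adjoin_root q x hx hxq
      have hlt : finrank (separableClosure M L)⟮x⟯ L ≤ n := by
        have e1 := Module.finrank_mul_finrank M (separableClosure M L) L
        have e2 := Module.finrank_mul_finrank (separableClosure M L)
          (separableClosure M L)⟮x⟯ L
        have p1 := Module.finrank_pos (R := M) (M := separableClosure M L)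
        have p2 := Module.finrank_pos (R := separableClosure M L)
          (M := (separableClosure M L)⟮x⟯)
        have p3 := Module.finrank_pos (R := (separableClosure M L)⟮x⟯) (M := L)
        have hne1 : finrank (separableClosure M L) (separableClosure M L)⟮x⟯ ≠ 1 := by
          intro h1'
          rw [finrank_adjoin_simple_eq_one_iff, IntermediateField.mem_bot] at h1'
          exact hx h1'
        have hb : 2 ≤ finrank (separableClosure M L) (separableClosure M L)⟮x⟯ := by omega
        have h2c : 2 * finrank (separableClosure M L)⟮x⟯ L ≤ finrank M L := by
          rw [← e1, ← e2]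
          calc 2 * finrank (separableClosure M L)⟮x⟯ L
              ≤ finrank (separableClosure M L) (separableClosure M L)⟮x⟯ *
                  finrank (separableClosure M L)⟮x⟯ L := Nat.mul_le_mul_right _ hb
            _ ≤ finrank M (separableClosure M L) *
                  (finrank (separableClosure M L) (separableClosure M L)⟮x⟯ *
                    finrank (separableClosure M L)⟮x⟯ L) := Nat.le_mul_of_pos_left _ p1
        omega
      have h2 : CData (separableClosure M L)⟮x⟯ L 0 := ih _ L hlt
      have h3 : CData (separableClosure M L) L 0 := by simpa using h1.trans h2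
      have h4 : CData M (separableClosure M L) 0 := cdata_of_isSeparable
      simpa using h4.trans h3

/-- finite extensions have Cartier difference zero -/
theorem cdata_of_finite (M L : Type u) [Field M] [Field L] [Algebra M L]
    [FiniteDimensional M L] : CData M L 0 :=
  cdata_of_finite_aux (finrank M L) M L le_rfl

end Finite

end Groth.Agent.Lib.Helper5.Cartier
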