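import Mathlib

set_option autoImplicit false

namespace Groth.Agent.Lib.Helper5.LinIndepInter

variable {K : Type*} [Field K]

/-- linear independence over a subset of the field, via coefficient functions -/
def LIOn {I : Type*} (F : Set K) (v : I → K) (s : Finset I) : Prop :=
  ∀ g : I → K, (∀ j ∈ s, g j ∈ F) → ∑ j ∈ s, g j * v j = 0 → ∀ j ∈ s, g j = 0

/-- a finite family independent over a filtered intersection of subfields is independent over
one of them -/
theorem exists_LIOn {ι : Type*} [Preorder ι] [IsDirected ι (· ≤ ·)] [Nonempty ι]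
    (F : ι → Subfield K) (hF : Antitone F) (F₀ : Subfield K)
    (h : ∀ y, (∀ i, y ∈ F i) → y ∈ F₀) {I : Type*} (v : I → K) (s : Finset I)
    (h₀ : LIOn (F₀ : Set K) v s) : ∃ i, LIOn (F i : Set K) v s := by
  classical
  induction s using Finset.induction_on with
  | empty => exact ⟨Classical.arbitrary ι, fun g _ _ j hj => absurd hj (Finset.notMem_empty j)⟩
  | insert a s ha ih =>
    have h₀s : LIOn (F₀ : Set K) v s := by
      intro g hg hsum j hj
      have hne : ∀ j' ∈ s, j' ≠ a := fun j' hj' => ne_of_mem_of_not_mem hj' ha
      have := h₀ (Function.update g a 0) (by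
        intro j' hj'
        rcases Finset.mem_insert.1 hj' with rfl | hj'
        · rw [Function.update_self]; exact F₀.zero_mem
        · rw [Function.update_of_ne (hne j' hj')]; exact hg j' hj') (by
        rw [Finset.sum_insert ha, Function.update_self, zero_mul, zero_add, ← hsum]
        refine Finset.sum_congr rfl (fun j' hj' => ?_)
        rw [Function.update_of_ne (hne j' hj')]) j (Finset.mem_insert_of_mem hj)
      rwa [Function.update_of_ne (hne j hj)] at this
    obtain ⟨i₁, hi₁⟩ := ih h₀s
    by_contra hall
    push Not at hall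
    have key : ∀ i, i₁ ≤ i → ∃ c : I → K, (∀ j ∈ s, c j ∈ F i) ∧ v a = ∑ j ∈ s, c j * v j := by
      intro i hi
      have hnot := hall i
      unfold LIOn at hnot
      push Not at hnot
      obtain ⟨g, hg, hsum, j₀, hj₀, hne⟩ := hnot
      have hga : g a ≠ 0 := by
        intro h0
        have hrel : ∑ j ∈ s, g j * v j = 0 := by
          rw [Finset.sum_insert ha, h0, zero_mul, zero_add] at hsum
          exact hsum
        have hz := hi₁ g (fun j hj => hF hi (hg j (Finset.mem_insert_of_mem hj))) hrel
        rcases Finset.mem_insert.1 hj₀ with rfl | hj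
        · exact hne h0
        · exact hne (hz j₀ hj)
      refine ⟨fun j => -(g j) / g a, fun j hj => ?_, ?_⟩
      · exact (F i).div_mem ((F i).neg_mem (hg j (Finset.mem_insert_of_mem hj)))
          (hg a (Finset.mem_insert_self a s))
      · rw [Finset.sum_insert ha] at hsum
        have h1 : ∑ j ∈ s, g j * v j = -(g a * v a) := by linear_combination hsum
        have h2 : ∑ j ∈ s, -(g j) / g a * v j = (-1 / g a) * ∑ j ∈ s, g j * v j := by
          rw [Finset.mul_sum]
          refine Finset.sum_congr rfl (fun j _ => ?_)
          ring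
        rw [h2, h1]
        field_simp
    obtain ⟨c₁, hc₁, hv₁⟩ := key i₁ le_rfl
    have hmem : ∀ j ∈ s, ∀ i, c₁ j ∈ F i := by
      intro j hj i'
      obtain ⟨i, hi1, hi2⟩ := directed_of (· ≤ ·) i₁ i'
      obtain ⟨c, hc, hv⟩ := key i hi1
      have hrel : ∑ j ∈ s, (c j - c₁ j) * v j = 0 := by
        simp only [sub_mul, Finset.sum_sub_distrib]
        rw [← hv, ← hv₁, sub_self]
      have hz := hi₁ (fun j => c j - c₁ j)
        (fun j hj => (F i₁).sub_mem (hF hi1 (hc j hj)) (hc₁ j hj)) hrel j hj
      have heq : c₁ j = c j := (sub_eq_zero.1 hz).symm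
      rw [heq]
      exact hF hi2 (hc j hj)
    have hne : ∀ j' ∈ s, j' ≠ a := fun j' hj' => ne_of_mem_of_not_mem hj' ha
    have := h₀ (Function.update c₁ a (-1)) (by
      intro j' hj'
      rcases Finset.mem_insert.1 hj' with rfl | hj'
      · rw [Function.update_self]; exact F₀.neg_mem F₀.one_mem
      · rw [Function.update_of_ne (hne j' hj')]; exact h _ (hmem j' hj')) (by
      rw [Finset.sum_insert ha, Function.update_self, hv₁, neg_one_mul, neg_add_eq_zero]
      refine Finset.sum_congr rfl (fun j' hj' => ?_)
      rw [Function.update_of_ne (hne j' hj')]) a (Finset.mem_insert_self a s)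
    rw [Function.update_self] at this
    exact one_ne_zero (neg_eq_zero.1 this)

section Convert

variable {R : Type*} [CommRing R] [Algebra R K] {J : Type*} [Fintype J] (v : J → K)

theorem LIOn_univ_of_linearIndependent (hv : LinearIndependent R v) (F : Set K)
    (hF : ∀ y ∈ F, ∃ r : R, algebraMap R K r = y) : LIOn F v Finset.univ := by
  intro g hg hsum j _
  choose r hr using fun j => hF (g j) (hg j (Finset.mem_univ j))
  have h1 : ∑ j, r j • v j = 0 := by
    rw [← hsum]
    refine Finset.sum_congr rfl (fun j _ => ?_)
    rw [Algebra.smul_def, hr]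
  have := Fintype.linearIndependent_iff.1 hv r h1 j
  rw [← hr j, this, map_zero]

theorem linearIndependent_of_LIOn_univ (F : Set K) (hF : ∀ r : R, algebraMap R K r ∈ F)
    (hinj : Function.Injective (algebraMap R K)) (h : LIOn F v Finset.univ) :
    LinearIndependent R v := by
  rw [Fintype.linearIndependent_iff]
  intro g hsum j
  apply hinj
  rw [map_zero]
  refine h (fun j => algebraMap R K (g j)) (fun j _ => hF _) ?_ j (Finset.mem_univ j)
  rw [← hsum]
  refine Finset.sum_congr rfl (fun j _ => ?_)
  rw [Algebra.smul_def]

end Convert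

end Groth.Agent.Lib.Helper5.LinIndepInter
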