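import Groth.Agent.Lib.Helper5.PBasisField
import Groth.Agent.Lib.Helper5.LinIndepInter

set_option autoImplicit false
set_option linter.unusedSectionVars false
universe u

namespace Groth.Agent.Lib.Helper5.PBasis

open EGA41 LinIndepInter

section Translate

variable (p : ℕ) [hpF : Fact p.Prime] {k K : Type u} [Field k] [Field K] [Algebra k K] [CharP K p]

/-- an element with vanishing differential lies in `k[K^p]` -/
theorem mem_pPower_of_D_eq_zero {y : K} (hy : KaehlerDifferential.D k K y = 0) :
    y ∈ pPowerSubalgebra p k K := by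
  by_contra hmem
  have hS : ∀ z : K, z ^ p ∈ pPowerSubalgebra p k K := fun z => Algebra.subset_adjoin ⟨z, rfl⟩
  obtain ⟨D, hD1, -⟩ := exists_derivation_separating p (pPowerSubalgebra p k K) hS y hmem
  have : D y = 0 := by
    rw [← Derivation.liftKaehlerDifferential_comp_D D y, hy, map_zero]
  rw [hD1] at this
  exact one_ne_zero this

theorem D_eq_zero_of_mem_pPower {y : K} (hy : y ∈ pPowerSubalgebra p k K) :
    KaehlerDifferential.D k K y = 0 :=
  derivation_eq_zero_of_mem_pPower p (CharP.cast_eq_zero K p) _ hy

theorem mem_pPower_iff_mem_adjoin {y : K} :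
    y ∈ pPowerSubalgebra p k K ↔ y ∈ IntermediateField.adjoin k (Set.range fun z : K => z ^ p) := by
  constructor
  · intro hy
    have hle : pPowerSubalgebra p k K ≤
        (IntermediateField.adjoin k (Set.range fun z : K => z ^ p)).toSubalgebra :=
      Algebra.adjoin_le (IntermediateField.subset_adjoin k _)
    exact hle hy
  · intro hy
    have hS : ∀ z : K, z ^ p ∈ pPowerSubalgebra p k K := fun z => Algebra.subset_adjoin ⟨z, rfl⟩
    let E : IntermediateField k K := (pPowerSubalgebra p k K).toIntermediateField
      (fun _ hu => inv_mem_of_pow_mem p _ hS hu)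
    have hle : IntermediateField.adjoin k (Set.range fun z : K => z ^ p) ≤ E := by
      rw [IntermediateField.adjoin_le_iff]
      rintro _ ⟨z, rfl⟩
      exact hS z
    exact hle hy

end Translate

section Tower

variable (p : ℕ) [hpF : Fact p.Prime] {k₀ K : Type u} [Field k₀] [Field K] [Algebra k₀ K]
  [CharP K p] (E : IntermediateField k₀ K)

theorem mem_pPower_iff_mem_sup {y : K} :
    y ∈ pPowerSubalgebra p E K ↔
      y ∈ E ⊔ IntermediateField.adjoin k₀ (Set.range fun z : K => z ^ p) := by
  constructor
  · intro hy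
    induction hy using Algebra.adjoin_induction with
    | mem y hy =>
      exact (le_sup_right : _ ≤ E ⊔ _) (IntermediateField.subset_adjoin k₀ _ hy)
    | algebraMap a => exact (le_sup_left : E ≤ E ⊔ _) a.2
    | add a b _ _ h1 h2 => exact add_mem h1 h2
    | mul a b _ _ h1 h2 => exact mul_mem h1 h2
  · intro hy
    have hS : ∀ z : K, z ^ p ∈ (pPowerSubalgebra p E K).restrictScalars k₀ :=
      fun z => Algebra.subset_adjoin ⟨z, rfl⟩
    let E' : IntermediateField k₀ K :=
      ((pPowerSubalgebra p E K).restrictScalars k₀).toIntermediateField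
        (fun _ hu => inv_mem_of_pow_mem p _ hS hu)
    have hle : E ⊔ IntermediateField.adjoin k₀ (Set.range fun z : K => z ^ p) ≤ E' := by
      refine sup_le ?_ ?_
      · intro a ha
        exact Subalgebra.algebraMap_mem (pPowerSubalgebra p E K) (⟨a, ha⟩ : E)
      · rw [IntermediateField.adjoin_le_iff]
        rintro _ ⟨z, rfl⟩
        exact hS z
    exact hle hy

end Tower

section Main

variable (p : ℕ) [hpF : Fact p.Prime] {k₀ K : Type u} [Field k₀] [Field K] [Algebra k₀ K]
  [CharP K p]

theorem iInf_eq_of_separating {ι : Type u} (k : ι → IntermediateField k₀ K)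
    (hsep : ∀ ω : Ω[K⁄k₀], (∀ i, KaehlerDifferential.map k₀ (k i) K K ω = 0) → ω = 0) :
    (⨅ i, k i ⊔ IntermediateField.adjoin k₀ (Set.range fun y : K => y ^ p)) =
      IntermediateField.adjoin k₀ (Set.range fun y : K => y ^ p) := by
  apply le_antisymm
  · intro y hy
    rw [← mem_pPower_iff_mem_adjoin p]
    apply mem_pPower_of_D_eq_zero p
    apply hsep
    intro i
    rw [KaehlerDifferential.map_D, Algebra.algebraMap_self, RingHom.id_apply]
    apply D_eq_zero_of_mem_pPower p
    rw [mem_pPower_iff_mem_sup p (k i)]
    have hy' : y ∈ ((⨅ i, k i ⊔ IntermediateField.adjoin k₀ (Set.range fun y : K => y ^ p) :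
        IntermediateField k₀ K) : Set K) := hy
    rw [IntermediateField.coe_iInf] at hy'
    exact Set.mem_iInter.1 hy' i
  · exact le_iInf fun i => le_sup_right

lemma finite_red (T : Type*) [Finite T] : Finite (Red T p) := by
  have hp := hpF.out
  let f : Red T p → (T → Fin p) := fun e t => ⟨e.1 t, e.2 t⟩
  have hf : Function.Injective f := by
    intro e e' h
    apply Subtype.ext
    apply Finsupp.ext
    intro t
    have := congrFun h t
    exact Fin.mk.inj_iff.1 this
  exact Finite.of_injective f hf

theorem separating_of_iInf_eq {ι : Type u} [Preorder ι] [IsDirected ι (· ≤ ·)] [Nonempty ι]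
    (k : ι → IntermediateField k₀ K) (hk : Antitone k)
    (heq : (⨅ i, k i ⊔ IntermediateField.adjoin k₀ (Set.range fun y : K => y ^ p)) =
      IntermediateField.adjoin k₀ (Set.range fun y : K => y ^ p))
    (ω : Ω[K⁄k₀]) (hω : ∀ i, KaehlerDifferential.map k₀ (k i) K K ω = 0) : ω = 0 := by
  classical
  obtain ⟨B, -, -, hspan, hli⟩ := exists_linearIndepOn_extension (K := K)
    (v := fun y : K => KaehlerDifferential.D k₀ K y) (s := ∅) (t := Set.univ)
    (linearIndepOn_empty _ _) (Set.empty_subset _)
  have hspanB : Submodule.span K (Set.range fun y : B => KaehlerDifferential.D k₀ K (y : K)) = ⊤ := by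
    rw [eq_top_iff, ← KaehlerDifferential.span_range_derivation k₀ K, Submodule.span_le]
    rintro _ ⟨y, rfl⟩
    have h1 := hspan ⟨y, Set.mem_univ y, rfl⟩
    have h2 : ((fun y : K => KaehlerDifferential.D k₀ K y) '' B) =
        Set.range fun y : B => KaehlerDifferential.D k₀ K (y : K) := by
      ext η
      constructor
      · rintro ⟨y, hy, rfl⟩
        exact ⟨⟨y, hy⟩, rfl⟩
      · rintro ⟨y, rfl⟩
        exact ⟨y.1, y.2, rfl⟩
    rw [h2] at h1
    exact h1
  have hωmem : ω ∈ Submodule.span K (Set.range fun y : B => KaehlerDifferential.D k₀ K (y : K)) := by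
    rw [hspanB]; trivial
  obtain ⟨c, hc⟩ := Finsupp.mem_span_range_iff_exists_finsupp.1 hωmem
  let x : c.support → K := fun t => ((t.1 : B) : K)
  have hxli : LinearIndependent K (fun t : c.support => KaehlerDifferential.D k₀ K (x t)) :=
    LinearIndependent.comp hli (fun t : c.support => t.1) Subtype.val_injective
  have hxfree : IsPIndependent p k₀ x := isPIndependent_of_linearIndependent_D p x hxli
  haveI : Finite (Red c.support p) := finite_red p _
  letI : Fintype (Red c.support p) := Fintype.ofFinite _
  let F : ι → Subfield K := fun i =>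
    (k i ⊔ IntermediateField.adjoin k₀ (Set.range fun y : K => y ^ p)).toSubfield
  have hFanti : Antitone F := by
    intro i j hij y hy
    exact (sup_le_sup_right (hk hij) _ :
      k j ⊔ IntermediateField.adjoin k₀ (Set.range fun y : K => y ^ p) ≤ k i ⊔ _) hy
  have h0 : LIOn ((IntermediateField.adjoin k₀ (Set.range fun y : K => y ^ p)).toSubfield : Set K)
      (fun e : Red c.support p => mon x e.1) Finset.univ :=
    LIOn_univ_of_linearIndependent _ hxfree _
      (fun y hy => ⟨⟨y, (mem_pPower_iff_mem_adjoin p).2 hy⟩, rfl⟩)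
  obtain ⟨i, hi⟩ := exists_LIOn F hFanti
    (IntermediateField.adjoin k₀ (Set.range fun y : K => y ^ p)).toSubfield (fun y hy => by
      have hmem : y ∈ ⨅ i, k i ⊔ IntermediateField.adjoin k₀ (Set.range fun y : K => y ^ p) := by
        rw [← SetLike.mem_coe, IntermediateField.coe_iInf]
        exact Set.mem_iInter.2 hy
      rw [heq] at hmem
      exact hmem) _ Finset.univ h0
  have hxfree_i : IsPIndependent p (k i) x :=
    linearIndependent_of_LIOn_univ _ _ (fun r => (mem_pPower_iff_mem_sup p (k i)).1 r.2)
      Subtype.val_injective hi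
  have hxli_i := linearIndependent_D_of_isPIndependent p x hxfree_i
  have hωsum : ω = ∑ t : c.support, c t.1 • KaehlerDifferential.D k₀ K (x t) := by
    rw [← hc, Finsupp.sum, ← Finset.sum_coe_sort]
  have hmap : ∑ t : c.support, c t.1 • KaehlerDifferential.D (k i) K (x t) = 0 := by
    rw [← hω i, hωsum, map_sum]
    refine Finset.sum_congr rfl (fun t _ => ?_)
    rw [map_smul, KaehlerDifferential.map_D, Algebra.algebraMap_self, RingHom.id_apply]
  have hzero := Fintype.linearIndependent_iff.1 hxli_i (fun t => c t.1) hmap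
  rw [hωsum]
  apply Finset.sum_eq_zero
  intro t _
  rw [hzero t, zero_smul]

end Main

end Groth.Agent.Lib.Helper5.PBasis
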