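import Groth.Prelude.Def_EGA41
import Mathlib.LinearAlgebra.Dimension.RankNullity
import Mathlib.LinearAlgebra.Dimension.DivisionRing

set_option autoImplicit false
set_option linter.unusedSectionVars false
universe u u' u'' w
open scoped TensorProduct
open EGA41

namespace Groth.Agent.Lib.Helper5.ImperfTower

open KaehlerDifferential

section Ext

variable {A : Type*} {B : Type*} {C : Type*} [CommRing A] [CommRing B] [CommRing C]
  [Algebra A B] [Algebra B C]

/-- two `C`-linear maps out of `C ⊗_B Ω_{B/A}` agreeing on the `1 ⊗ db` are equal -/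
theorem ext_tensor_kaehler {M : Type*} [AddCommGroup M] [Module C M]
    {f g : C ⊗[B] Ω[B⁄A] →ₗ[C] M}
    (h : ∀ b : B, f ((1 : C) ⊗ₜ KaehlerDifferential.D A B b) =
      g ((1 : C) ⊗ₜ KaehlerDifferential.D A B b)) : f = g := by
  have key : ∀ (ω : Ω[B⁄A]) (c : C), f (c ⊗ₜ ω) = g (c ⊗ₜ ω) := by
    intro ω
    have hω : ω ∈ Submodule.span B (Set.range (KaehlerDifferential.D A B)) := by
      rw [KaehlerDifferential.span_range_derivation]; trivial
    induction hω using Submodule.span_induction with
    | mem ω hm =>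
      obtain ⟨b, rfl⟩ := hm
      intro c
      have : c ⊗ₜ[B] KaehlerDifferential.D A B b = c • ((1 : C) ⊗ₜ[B] KaehlerDifferential.D A B b) := by
        rw [TensorProduct.smul_tmul', smul_eq_mul, mul_one]
      rw [this, map_smul, map_smul, h]
    | zero => intro c; simp
    | add ω ω' _ _ h1 h2 => intro c; rw [TensorProduct.tmul_add, map_add, map_add, h1, h2]
    | smul b ω _ h1 =>
      intro c
      rw [← TensorProduct.smul_tmul]
      exact h1 (b • c)
  apply LinearMap.ext
  intro z
  induction z using TensorProduct.induction_on with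
  | zero => simp
  | tmul c ω => exact key ω c
  | add z z' h1 h2 => rw [map_add, map_add, h1, h2]

end Ext

section Lift

variable (R : Type*) (S : Type*) (A : Type*) (B : Type*) [CommRing R] [CommRing S] [CommRing A]
  [CommRing B] [Algebra R S] [Algebra R A] [Algebra S A] [IsScalarTower R S A]
  [Algebra A B]

/-- `B ⊗_A Ω_{A/R} → B ⊗_A Ω_{A/S}` -/
noncomputable abbrev chg : B ⊗[A] Ω[A⁄R] →ₗ[B] B ⊗[A] Ω[A⁄S] :=
  (KaehlerDifferential.map R S A A).baseChange B

lemma chg_tmul_D (b : B) (x : A) :
    chg R S A B (b ⊗ₜ KaehlerDifferential.D R A x) = b ⊗ₜ KaehlerDifferential.D S A x := by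
  rw [chg, LinearMap.baseChange_tmul, KaehlerDifferential.map_D R S A A]
  rfl

lemma chg_surjective : Function.Surjective (chg R S A B) := by
  have : Function.Surjective ((KaehlerDifferential.map R S A A).lTensor B) :=
    LinearMap.lTensor_surjective B (KaehlerDifferential.map_surjective R S A)
  exact this

variable [Algebra R B] [Algebra S B] [IsScalarTower R A B] [IsScalarTower S A B]

lemma map_mapBaseChange [IsScalarTower R S B] (z : B ⊗[A] Ω[A⁄R]) :
    KaehlerDifferential.map R S B B (KaehlerDifferential.mapBaseChange R A B z) =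
      KaehlerDifferential.mapBaseChange S A B (chg R S A B z) := by
  have : (KaehlerDifferential.map R S B B).comp (KaehlerDifferential.mapBaseChange R A B) =
      (KaehlerDifferential.mapBaseChange S A B).comp (chg R S A B) := by
    apply ext_tensor_kaehler
    intro x
    rw [LinearMap.comp_apply, LinearMap.comp_apply, chg_tmul_D,
      KaehlerDifferential.mapBaseChange_tmul, KaehlerDifferential.mapBaseChange_tmul,
      KaehlerDifferential.map_D, KaehlerDifferential.map_D, one_smul, one_smul,
      KaehlerDifferential.map_D R S B B]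
    rfl
  exact LinearMap.congr_fun this z

variable [IsScalarTower R S B]

/-- `B ⊗_S Ω_{S/R} → B ⊗_A Ω_{A/R}` -/
noncomputable def low : B ⊗[S] Ω[S⁄R] →ₗ[B] B ⊗[A] Ω[A⁄R] :=
  LinearMap.liftBaseChange B
    (((TensorProduct.mk A B Ω[A⁄R] 1).restrictScalars S).comp (KaehlerDifferential.map R R S A))

lemma low_tmul (b : B) (ω : Ω[S⁄R]) :
    low R S A B (b ⊗ₜ ω) = b ⊗ₜ KaehlerDifferential.map R R S A ω := by
  rw [low, LinearMap.liftBaseChange_tmul]
  change b • ((1 : B) ⊗ₜ[A] _) = _
  rw [TensorProduct.smul_tmul', smul_eq_mul, mul_one]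

lemma low_tmul_D (b : B) (x : S) :
    low R S A B (b ⊗ₜ KaehlerDifferential.D R S x) =
      b ⊗ₜ KaehlerDifferential.D R A (algebraMap S A x) := by
  rw [low_tmul, KaehlerDifferential.map_D]

lemma mapBaseChange_low (t : B ⊗[S] Ω[S⁄R]) :
    KaehlerDifferential.mapBaseChange R A B (low R S A B t) =
      KaehlerDifferential.mapBaseChange R S B t := by
  have : (KaehlerDifferential.mapBaseChange R A B).comp (low R S A B) =
      KaehlerDifferential.mapBaseChange R S B := by
    apply ext_tensor_kaehler
    intro x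
    rw [LinearMap.comp_apply, low_tmul_D, KaehlerDifferential.mapBaseChange_tmul,
      KaehlerDifferential.mapBaseChange_tmul, KaehlerDifferential.map_D,
      KaehlerDifferential.map_D, ← IsScalarTower.algebraMap_apply]
  exact LinearMap.congr_fun this t

lemma chg_low (t : B ⊗[S] Ω[S⁄R]) : chg R S A B (low R S A B t) = 0 := by
  have : (chg R S A B).comp (low R S A B) = 0 := by
    apply ext_tensor_kaehler
    intro x
    rw [LinearMap.comp_apply, low_tmul_D, chg_tmul_D, LinearMap.zero_apply,
      (KaehlerDifferential.D S A).map_algebraMap, TensorProduct.tmul_zero]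
  exact LinearMap.congr_fun this t

theorem exists_lift (w : B ⊗[A] Ω[A⁄S]) (hw : KaehlerDifferential.mapBaseChange S A B w = 0) :
    ∃ z : B ⊗[A] Ω[A⁄R], KaehlerDifferential.mapBaseChange R A B z = 0 ∧ chg R S A B z = w := by
  obtain ⟨z₀, hz₀⟩ := chg_surjective R S A B w
  have h1 : KaehlerDifferential.map R S B B (KaehlerDifferential.mapBaseChange R A B z₀) = 0 := by
    rw [map_mapBaseChange, hz₀, hw]
  obtain ⟨t, ht⟩ := (KaehlerDifferential.exact_mapBaseChange_map R S B _).1 h1
  refine ⟨z₀ - low R S A B t, ?_, ?_⟩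
  · rw [map_sub, mapBaseChange_low, ht, sub_self]
  · rw [map_sub, chg_low, sub_zero, hz₀]

end Lift

section Tower

variable (R : Type*) (S : Type*) (T : Type*) {A B : Type w} [CommRing R] [CommRing S] [CommRing T]
  [CommRing A] [Field B]
  [Algebra R S] [Algebra R T] [Algebra S T] [IsScalarTower R S T]
  [Algebra R A] [Algebra S A] [Algebra T A] [IsScalarTower R S A] [IsScalarTower S T A]
  [IsScalarTower R T A]
  [Algebra A B] [Algebra R B] [Algebra S B] [Algebra T B]
  [IsScalarTower R A B] [IsScalarTower S A B] [IsScalarTower T A B]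

lemma chg_chg (z : B ⊗[A] Ω[A⁄R]) : chg S T A B (chg R S A B z) = chg R T A B z := by
  have : (chg S T A B).comp (chg R S A B) = chg R T A B := by
    apply ext_tensor_kaehler
    intro x
    rw [LinearMap.comp_apply, chg_tmul_D, chg_tmul_D, chg_tmul_D]
  exact LinearMap.congr_fun this z

omit [IsScalarTower R S T] [Algebra T A] [IsScalarTower S T A] [IsScalarTower R T A] [Algebra T B]
  [IsScalarTower T A B] [Algebra R T] [Algebra S T] in
include A in
lemma isScalarTower_of_tower : IsScalarTower R S B :=
  IsScalarTower.of_algebraMap_eq (fun r => by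
    rw [IsScalarTower.algebraMap_apply R A B, IsScalarTower.algebraMap_apply R S A,
      ← IsScalarTower.algebraMap_apply S A B])

theorem rank_defect :
    Module.rank B ↥(EGA41.imperfection R A B ⊓ LinearMap.ker (chg R T A B)) =
      Module.rank B ↥(EGA41.imperfection S A B ⊓ LinearMap.ker (chg S T A B)) +
        Module.rank B ↥(EGA41.imperfection R A B ⊓ LinearMap.ker (chg R S A B)) := by
  have : IsScalarTower R S B := isScalarTower_of_tower R S (A := A)
  set Δ₂ := EGA41.imperfection R A B ⊓ LinearMap.ker (chg R T A B) with hΔ₂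
  set Δ' := EGA41.imperfection S A B ⊓ LinearMap.ker (chg S T A B) with hΔ'
  set Δ₁ := EGA41.imperfection R A B ⊓ LinearMap.ker (chg R S A B) with hΔ₁
  have hrange : LinearMap.range ((chg R S A B).domRestrict Δ₂) = Δ' := by
    rw [LinearMap.range_domRestrict]
    apply le_antisymm
    · rintro _ ⟨z, hz, rfl⟩
      refine ⟨?_, ?_⟩
      · change KaehlerDifferential.mapBaseChange S A B _ = 0
        rw [← map_mapBaseChange]
        have : KaehlerDifferential.mapBaseChange R A B z = 0 := hz.1
        rw [this, map_zero]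
      · change chg S T A B _ = 0
        rw [chg_chg]
        exact hz.2
    · intro w hw
      obtain ⟨z, hz1, hz2⟩ := exists_lift R S A B w hw.1
      refine ⟨z, ⟨hz1, ?_⟩, hz2⟩
      change chg R T A B z = 0
      rw [← chg_chg R S T, hz2]
      exact hw.2
  have h12 : Δ₁ ≤ Δ₂ := by
    intro z hz
    refine ⟨hz.1, ?_⟩
    change chg R T A B z = 0
    have : chg R S A B z = 0 := hz.2
    rw [← chg_chg R S T, this, map_zero]
  have hker : LinearMap.ker ((chg R S A B).domRestrict Δ₂) = Δ₁.comap Δ₂.subtype := by
    rw [LinearMap.ker_domRestrict]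
    ext ⟨z, hz⟩
    constructor
    · intro h
      exact ⟨hz.1, h⟩
    · intro h
      exact h.2
  have key := LinearMap.rank_range_add_rank_ker (R := B) (M := Δ₂) (M₁ := B ⊗[A] Ω[A⁄S])
    ((chg R S A B).domRestrict Δ₂)
  rw [hrange, hker, (Submodule.comapSubtypeEquivOfLe h12).rank_eq] at key
  exact key.symm

end Tower

end Groth.Agent.Lib.Helper5.ImperfTower
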