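import Groth.Agent.Lib.Helper5.CartierMain
import Groth.Agent.Lib.Helper5.ImperfTower

set_option autoImplicit false
universe u
open scoped TensorProduct
open EGA41

namespace Groth.Agent.Lib.Helper5.Cartier

open KaehlerDifferential ImperfTower

variable (k K L : Type u) [Field k] [Field K] [Field L]
  [Algebra k K] [Algebra K L] [Algebra k L] [IsScalarTower k K L]

lemma chg_mem_imperfection (z : L ⊗[K] Ω[K⁄ℤ]) (hz : z ∈ imperfection ℤ K L) :
    chg ℤ k K L z ∈ imperfection k K L := by
  change KaehlerDifferential.mapBaseChange k K L (chg ℤ k K L z) = 0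
  rw [← map_mapBaseChange ℤ k K L z]
  have : KaehlerDifferential.mapBaseChange ℤ K L z = 0 := hz
  rw [this, map_zero]

/-- the absolute imperfection module maps onto the relative one -/
noncomputable def impMap : imperfection ℤ K L →ₗ[L] imperfection k K L :=
  (chg ℤ k K L).restrict (chg_mem_imperfection k K L)

lemma impMap_surjective : Function.Surjective (impMap k K L) := by
  rintro ⟨w, hw⟩
  obtain ⟨z, hz, hzw⟩ := exists_lift ℤ k K L w hw
  exact ⟨⟨z, hz⟩, Subtype.ext hzw⟩

theorem finite_imperfection_rel [Module.Finite L (imperfection ℤ K L)] :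
    Module.Finite L (imperfection k K L) :=
  Module.Finite.of_surjective (impMap k K L) (impMap_surjective k K L)

theorem finrank_imperfection_rel_le [Module.Finite L (imperfection ℤ K L)] :
    Module.finrank L (imperfection k K L) ≤ Module.finrank L (imperfection ℤ K L) :=
  LinearMap.finrank_le_finrank_of_surjective (impMap_surjective k K L)

end Groth.Agent.Lib.Helper5.Cartier
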