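import Groth.Agent.Lib.Helper5.Imperf218D

set_option autoImplicit false
set_option linter.unusedSectionVars false
universe u

namespace Groth.Agent.Lib.Helper5.Imperf218

open EGA41 PBasis
open scoped TensorProduct

section Ext

variable (p : ℕ) [hpF : Fact p.Prime] {k₀ K L : Type u} [Field k₀] [Field K] [Field L]
  [Algebra k₀ K] [Algebra K L] [Algebra k₀ L] [IsScalarTower k₀ K L] [CharP K p] [CharP L p]

theorem D_eq_zero_of_forall {ι : Type u} [Preorder ι] [IsDirected ι (· ≤ ·)] [Nonempty ι]
    (k : ι → IntermediateField k₀ K) (hk : Antitone k)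
    (heq : (⨅ i, k i ⊔ IntermediateField.adjoin k₀ (Set.range fun y : K => y ^ p)) =
      IntermediateField.adjoin k₀ (Set.range fun y : K => y ^ p))
    [hfin : Module.Finite L (imperfection k₀ K L)] (y : L)
    (hy : ∀ i, KaehlerDifferential.D (k i) L y = 0) : KaehlerDifferential.D k₀ L y = 0 := by
  -- the image in `Ω_{L/K}` vanishes
  have h1 : KaehlerDifferential.map k₀ K L L (KaehlerDifferential.D k₀ L y) = 0 := by
    obtain ⟨i⟩ := ‹Nonempty ι›
    have : KaehlerDifferential.map (k i) K L L (KaehlerDifferential.D (k i) L y) = 0 := by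
      rw [hy i, map_zero]
    rw [KaehlerDifferential.map_D] at this ⊢
    exact this
  obtain ⟨η, hη⟩ := (KaehlerDifferential.exact_mapBaseChange_map k₀ K L _).1 h1
  have hV : ((imperfection k₀ K L) ⊔ Submodule.span L {η}).FG :=
    Submodule.FG.sup (Module.Finite.iff_fg.1 hfin) (Submodule.fg_span_singleton η)
  obtain ⟨T, _, x, hli, hle⟩ := exists_family_le_span _ hV
  have hxfree : IsPIndependent p k₀ x := isPIndependent_of_linearIndependent_D p x hli
  obtain ⟨i, hi⟩ := exists_isPIndependent_of_iInf_eq p k hk heq x hxfree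
  have hli_i := linearIndependent_D_of_isPIndependent p x hi
  have h3 : KaehlerDifferential.mapBaseChange (k i) K L (ImperfTower.chg k₀ (k i) K L η) = 0 := by
    rw [← ImperfTower.map_mapBaseChange k₀ (k i) K L η, hη, KaehlerDifferential.map_D]
    exact hy i
  obtain ⟨υ, hυ0, hυ⟩ := ImperfTower.exists_lift k₀ (k i) K L _ h3
  have hηV : η ∈ (imperfection k₀ K L) ⊔ Submodule.span L {η} :=
    (le_sup_right : Submodule.span L {η} ≤ _) (Submodule.mem_span_singleton_self η)
  have hυV : υ ∈ (imperfection k₀ K L) ⊔ Submodule.span L {η} :=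
    (le_sup_left : imperfection k₀ K L ≤ _) hυ0
  have hsub : η - υ ∈ Submodule.span L
      (Set.range fun t => (1 : L) ⊗ₜ[K] KaehlerDifferential.D k₀ K (x t)) :=
    Submodule.sub_mem _ (hle hηV) (hle hυV)
  have h0 : ((KaehlerDifferential.map k₀ (k i) K K).restrictScalars K).baseChange L (η - υ) = 0 := by
    change ImperfTower.chg k₀ (k i) K L (η - υ) = 0
    rw [map_sub, hυ, sub_self]
  have h4 := eq_zero_of_map_eq_zero (k i) x hli_i (η - υ) hsub h0
  rw [← hη, sub_eq_zero.1 h4]
  exact hυ0

lemma mem_pPower_of_mem_pPower_map (E : IntermediateField k₀ K) {y : L}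
    (h1 : y ∈ pPowerSubalgebra p (E.map (IsScalarTower.toAlgHom k₀ K L)) L) :
    y ∈ pPowerSubalgebra p E L := by
  induction h1 using Algebra.adjoin_induction with
  | mem b hb => exact Algebra.subset_adjoin hb
  | algebraMap e =>
    obtain ⟨c, hc, hce⟩ := e.2
    have : algebraMap (E.map (IsScalarTower.toAlgHom k₀ K L)) L e =
        algebraMap E L ⟨c, hc⟩ := hce.symm
    rw [this]
    exact Subalgebra.algebraMap_mem _ _
  | add b b' _ _ h1 h2 => exact Subalgebra.add_mem _ h1 h2
  | mul b b' _ _ h1 h2 => exact Subalgebra.mul_mem _ h1 h2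

theorem iInf_map_eq {ι : Type u} [Preorder ι] [IsDirected ι (· ≤ ·)] [Nonempty ι]
    (k : ι → IntermediateField k₀ K) (hk : Antitone k)
    (heq : (⨅ i, k i ⊔ IntermediateField.adjoin k₀ (Set.range fun y : K => y ^ p)) =
      IntermediateField.adjoin k₀ (Set.range fun y : K => y ^ p))
    [hfin : Module.Finite L (imperfection k₀ K L)] :
    (⨅ i, (k i).map (IsScalarTower.toAlgHom k₀ K L) ⊔
        IntermediateField.adjoin k₀ (Set.range fun y : L => y ^ p)) =
      IntermediateField.adjoin k₀ (Set.range fun y : L => y ^ p) := by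
  apply le_antisymm
  · intro y hy
    rw [← mem_pPower_iff_mem_adjoin p]
    apply mem_pPower_of_D_eq_zero p
    apply D_eq_zero_of_forall p k hk heq
    intro i
    have hy' : y ∈ ((⨅ i, (k i).map (IsScalarTower.toAlgHom k₀ K L) ⊔
        IntermediateField.adjoin k₀ (Set.range fun y : L => y ^ p) :
        IntermediateField k₀ L) : Set L) := hy
    rw [IntermediateField.coe_iInf] at hy'
    have hyi := Set.mem_iInter.1 hy' i
    have h1 : y ∈ pPowerSubalgebra p ((k i).map (IsScalarTower.toAlgHom k₀ K L)) L :=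
      (mem_pPower_iff_mem_sup p _).2 hyi
    have h2 : y ∈ pPowerSubalgebra p (k i) L := mem_pPower_of_mem_pPower_map p (k i) h1
    exact D_eq_zero_of_mem_pPower p h2
  · exact le_iInf fun i => le_sup_right

end Ext

end Groth.Agent.Lib.Helper5.Imperf218
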