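import Groth.Agent.Lib.Helper5.JacAdic
import Mathlib.RingTheory.LocalRing.Module
import Mathlib.RingTheory.Smooth.Basic

set_option autoImplicit false
set_option linter.unusedSectionVars false
universe u

namespace Groth.Agent.Lib.Helper5.LocalCrit

open TensorProduct KaehlerDifferential IsLocalRing

section Ext

variable {R C Ω M : Type*} [CommRing R] [CommRing C] [Algebra R C] [AddCommGroup Ω] [Module R Ω]
  [AddCommGroup M] [Module R M]

/-- extend a linear map to the base change along a surjection whose kernel kills the target -/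
theorem exists_liftBase (hC : Function.Surjective (algebraMap R C))
    (hM : ∀ r ∈ RingHom.ker (algebraMap R C), ∀ m : M, r • m = 0) (g₀ : Ω →ₗ[R] M) :
    ∃ l₀ : C ⊗[R] Ω →ₗ[R] M, ∀ (r : R) (ω : Ω), l₀ (algebraMap R C r ⊗ₜ ω) = r • g₀ ω := by
  let φ : R →ₗ[R] (Ω →ₗ[R] M) := LinearMap.toSpanSingleton R _ g₀
  have hφ : ∀ r, φ r = r • g₀ := fun r => rfl
  have hsurj : Function.Surjective (Algebra.linearMap R C) := hC
  have hle : LinearMap.ker (Algebra.linearMap R C) ≤ LinearMap.ker φ := by
    intro r hr
    rw [LinearMap.mem_ker] at hr ⊢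
    apply LinearMap.ext
    intro ω
    rw [hφ, LinearMap.smul_apply, LinearMap.zero_apply]
    exact hM r hr (g₀ ω)
  let f : C →ₗ[R] (Ω →ₗ[R] M) :=
    (Submodule.liftQ _ φ hle) ∘ₗ
      (LinearMap.quotKerEquivOfSurjective (Algebra.linearMap R C) hsurj).symm.toLinearMap
  have hf : ∀ r, f (algebraMap R C r) = r • g₀ := by
    intro r
    have h1 : (LinearMap.quotKerEquivOfSurjective (Algebra.linearMap R C) hsurj).symm
        (algebraMap R C r) = Submodule.Quotient.mk r := by
      rw [LinearEquiv.symm_apply_eq]
      rfl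
    change Submodule.liftQ _ φ hle
      ((LinearMap.quotKerEquivOfSurjective (Algebra.linearMap R C) hsurj).symm
        (algebraMap R C r)) = _
    rw [h1, Submodule.liftQ_apply, hφ]
  refine ⟨TensorProduct.lift f, fun r ω => ?_⟩
  rw [TensorProduct.lift.tmul, hf, LinearMap.smul_apply]

end Ext

section Main

variable {A R C : Type u} [CommRing A] [CommRing R] [CommRing C] [Algebra A R] [Algebra R C]
  [Algebra A C] [IsScalarTower A R C] [IsLocalRing R] [IsNoetherianRing R]
  [Algebra.FormallySmooth A R]

/-- a quotient of a local Noetherian formally smooth algebra which is formally smooth for the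
adic topology is formally smooth -/
theorem formallySmooth_of_adic (hC : Function.Surjective (algebraMap R C))
    (hCs : CAlgX.IsAdicFormallySmooth A C ((maximalIdeal R).map (algebraMap R C))) :
    Algebra.FormallySmooth A C := by
  rw [Algebra.FormallySmooth.iff_split_injection hC]
  set J' := RingHom.ker (algebraMap R C) with hJ'
  by_cases htop : J' = ⊤
  · have hsub : Subsingleton J'.Cotangent := by
      refine ⟨fun a b => ?_⟩
      obtain ⟨x, rfl⟩ := Ideal.toCotangent_surjective _ a
      obtain ⟨y, rfl⟩ := Ideal.toCotangent_surjective _ b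
      have h2 : J' ^ 2 = ⊤ := by rw [htop]; simp
      rw [Ideal.toCotangent_eq, h2]
      trivial
    exact ⟨0, LinearMap.ext fun x => Subsingleton.elim _ _⟩
  · have hle : J' ≤ maximalIdeal R := IsLocalRing.le_maximalIdeal htop
    let κ := ResidueField R
    let ρ : C →+* κ := RingHom.liftOfSurjective (algebraMap R C) hC
      ⟨residue R, fun r hr => (residue_eq_zero_iff r).2 (hle hr)⟩
    have hρ : ∀ r, ρ (algebraMap R C r) = residue R r := fun r =>
      RingHom.liftOfRightInverse_comp_apply _ _ _ _ r
    let _ : Algebra C κ := ρ.toAlgebra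
    have _ : IsScalarTower R C κ := IsScalarTower.of_algebraMap_eq (fun r => (hρ r).symm)
    have hQ : ∃ n : ℕ, ((maximalIdeal R).map (algebraMap R C)) ^ n ≤
        RingHom.ker (algebraMap C κ) := by
      refine ⟨1, ?_⟩
      rw [pow_one, Ideal.map_le_iff_le_comap]
      intro r hr
      rw [Ideal.mem_comap, RingHom.mem_ker]
      change ρ (algebraMap R C r) = 0
      rw [hρ]
      exact (residue_eq_zero_iff r).2 hr
    obtain ⟨h', hh'⟩ := JacAdic.exists_der_of_smooth (A := A) (R := κ) hC hCs hQ
    set M := J'.Cotangent with hM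
    let πM : M →ₗ[R] κ ⊗[R] M := TensorProduct.mk R κ M 1
    have hπsurj : Function.Surjective πM :=
      TensorProduct.mk_surjective R M κ IsLocalRing.residue_surjective
    obtain ⟨g₀, hg₀⟩ := Module.projective_lifting_property πM h' hπsurj
    have hkill : ∀ r ∈ RingHom.ker (algebraMap R C), ∀ m : M, r • m = 0 :=
      fun r hr m => Ideal.Cotangent.smul_eq_zero_of_mem hr m
    obtain ⟨l₀, hl₀⟩ := exists_liftBase hC hkill g₀
    set u := kerCotangentToTensor A R C with hu
    let ε : M →ₗ[R] M := l₀ ∘ₗ u
    have hε : ∀ x : J', ε (J'.toCotangent x) = g₀ (D A R (x : R)) := by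
      intro x
      change l₀ (u (J'.toCotangent x)) = _
      rw [hu, kerCotangentToTensor_toCotangent]
      have := hl₀ 1 (D A R (x : R))
      rw [map_one, one_smul] at this
      exact this
    have hπε : ∀ m : M, πM (ε m) = πM m := by
      intro m
      obtain ⟨x, rfl⟩ := Ideal.toCotangent_surjective _ m
      rw [hε]
      have h1 := LinearMap.congr_fun hg₀ (D A R (x : R))
      rw [LinearMap.comp_apply] at h1
      rw [h1, hh']
      rfl
    have hfinJ : Module.Finite R J' := Module.Finite.iff_fg.2 (IsNoetherian.noetherian J')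
    have hfin : Module.Finite R M :=
      Module.Finite.of_surjective J'.toCotangent (Ideal.toCotangent_surjective _)
    have hεsurj : Function.Surjective ε := by
      rw [← LinearMap.range_eq_top, ← IsLocalRing.map_tensorProduct_mk_eq_top (M := M),
        ← LinearMap.range_comp, LinearMap.range_eq_top]
      intro z
      obtain ⟨m, rfl⟩ := hπsurj z
      exact ⟨m, hπε m⟩
    have hεinj : Function.Injective ε :=
      OrzechProperty.injective_of_surjective_endomorphism ε hεsurj
    let e := LinearEquiv.ofBijective ε ⟨hεinj, hεsurj⟩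
    refine ⟨e.symm.toLinearMap ∘ₗ l₀, ?_⟩
    apply LinearMap.ext
    intro m
    change e.symm (l₀ (u m)) = m
    rw [LinearEquiv.symm_apply_eq]
    rfl

end Main

end Groth.Agent.Lib.Helper5.LocalCrit
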