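import Groth.Agent.Lib.Helper5.ProjSpreadC
import Groth.Agent.Lib.Helper5.LocalCrit
import Mathlib

set_option autoImplicit false
universe u

open TensorProduct IsLocalRing

namespace Groth.Agent.Lib.Helper5.ProjSpread

theorem adicSmooth_of_formallySmooth' {R S : Type u} [CommRing R] [CommRing S] [Algebra R S]
    [Algebra.FormallySmooth R S] (𝔫 : Ideal S) : CAlgX.IsAdicFormallySmooth R S 𝔫 := by
  intro A _ _ J hJ ψ _
  have hJn : IsNilpotent J := ⟨2, hJ⟩
  refine ⟨Algebra.FormallySmooth.lift J hJn ψ, ?_⟩
  exact Algebra.FormallySmooth.comp_lift J hJn ψ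

variable {R P C : Type u} [CommRing R] [CommRing P] [CommRing C] [Algebra R P] [Algebra P C]
  [Algebra R C] [IsScalarTower R P C] [Algebra.FormallySmooth R P] [IsNoetherianRing P]

include P in
/-- for a quotient of a Noetherian formally smooth algebra, a local ring which is formally smooth
for its adic topology is formally smooth. -/
theorem formallySmooth_localization_of_adic (hsurj : Function.Surjective (algebraMap P C))
    (𝔭 : Ideal C) [𝔭.IsPrime]
    (h : CAlgX.IsAdicFormallySmooth R (Localization.AtPrime 𝔭)
      (maximalIdeal (Localization.AtPrime 𝔭))) :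
    Algebra.FormallySmooth R (Localization.AtPrime 𝔭) := by
  let q : Ideal P := 𝔭.comap (algebraMap P C)
  let φ : Localization.AtPrime q →+* Localization.AtPrime 𝔭 :=
    Localization.localRingHom q 𝔭 (algebraMap P C) rfl
  have hφsurj : Function.Surjective φ :=
    RingHom.surjective_localRingHom_of_surjective (algebraMap P C) hsurj 𝔭
  let _ : Algebra (Localization.AtPrime q) (Localization.AtPrime 𝔭) := φ.toAlgebra
  have hst : IsScalarTower R (Localization.AtPrime q) (Localization.AtPrime 𝔭) := by
    refine IsScalarTower.of_algebraMap_eq (fun r => ?_)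
    change algebraMap R (Localization.AtPrime 𝔭) r = φ (algebraMap R (Localization.AtPrime q) r)
    rw [IsScalarTower.algebraMap_apply R P (Localization.AtPrime q),
      Localization.localRingHom_to_map, ← IsScalarTower.algebraMap_apply R P C,
      ← IsScalarTower.algebraMap_apply R C (Localization.AtPrime 𝔭)]
  have hloc : IsLocalHom φ := Localization.isLocalHom_localRingHom q 𝔭 (algebraMap P C) rfl
  have hideal : (maximalIdeal (Localization.AtPrime q)).map
      (algebraMap (Localization.AtPrime q) (Localization.AtPrime 𝔭)) =
      maximalIdeal (Localization.AtPrime 𝔭) := by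
    have hle : (maximalIdeal (Localization.AtPrime q)).map φ ≤
        maximalIdeal (Localization.AtPrime 𝔭) :=
      ((IsLocalRing.local_hom_TFAE φ).out 0 2).mp hloc
    rcases Ideal.map_eq_top_or_isMaximal_of_surjective φ hφsurj
      (maximalIdeal.isMaximal (Localization.AtPrime q)) with htop | hmax
    · exfalso
      rw [htop] at hle
      exact (maximalIdeal.isMaximal (Localization.AtPrime 𝔭)).ne_top (top_le_iff.mp hle)
    · exact IsLocalRing.eq_maximalIdeal hmax
  refine Groth.Agent.Lib.Helper5.LocalCrit.formallySmooth_of_adic (A := R)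
    (R := Localization.AtPrime q) (C := Localization.AtPrime 𝔭) hφsurj ?_
  rw [hideal]
  exact h

end Groth.Agent.Lib.Helper5.ProjSpread
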