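import Mathlib
import Groth.Prelude.Def_CAlgX

set_option autoImplicit false
universe u

namespace Groth.Agent.Lib.Helper5.AdicReg

open IsLocalRing

/-- composition: formally smooth followed by adically formally smooth. -/
theorem adicSmooth_comp {R S T : Type u} [CommRing R] [CommRing S] [CommRing T] [Algebra R S]
    [Algebra S T] [Algebra R T] [IsScalarTower R S T] [Algebra.FormallySmooth R S] (𝔫 : Ideal T)
    (h : CAlgX.IsAdicFormallySmooth S T 𝔫) : CAlgX.IsAdicFormallySmooth R T 𝔫 := by
  intro A _ _ J hJ ψ hψ
  have hJn : IsNilpotent J := ⟨2, hJ⟩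
  let ψ₀ : S →ₐ[R] A ⧸ J := ψ.comp (IsScalarTower.toAlgHom R S T)
  let φ : S →ₐ[R] A := Algebra.FormallySmooth.lift J hJn ψ₀
  have hφ : ∀ s : S, Ideal.Quotient.mk J (φ s) = ψ₀ s :=
    fun s => Algebra.FormallySmooth.mk_lift J hJn ψ₀ s
  let _ : Algebra S A := φ.toRingHom.toAlgebra
  have _ : IsScalarTower R S A := IsScalarTower.of_algebraMap_eq (fun r => (φ.commutes r).symm)
  let ψS : T →ₐ[S] A ⧸ J :=
    { ψ.toRingHom with
      commutes' := by
        intro a
        exact (hφ a).symm }
  obtain ⟨χ, hχ⟩ := h A J hJ ψS hψ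
  refine ⟨χ.restrictScalars R, ?_⟩
  ext x
  exact congrArg (fun f => f x) hχ

/-- a surjective endomorphism of a Noetherian ring is injective. -/
theorem injective_of_surjective_ringEnd {P : Type u} [CommRing P] [IsNoetherianRing P]
    (θ : P →+* P) (hθ : Function.Surjective θ) : Function.Injective θ := by
  have hmem : ∀ n x, x ∈ RingHom.ker (θ ^ n) ↔ θ^[n] x = 0 := by
    intro n x
    rw [RingHom.mem_ker, RingHom.coe_pow]
  let f : ℕ →o Ideal P :=
    { toFun := fun n => RingHom.ker (θ ^ n)
      monotone' := by
        intro a b hab x hx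
        rw [hmem] at hx ⊢
        obtain ⟨c, rfl⟩ := Nat.exists_eq_add_of_le hab
        rw [add_comm, Function.iterate_add_apply, hx, ← RingHom.coe_pow, map_zero] }
  obtain ⟨n, hn⟩ := monotone_stabilizes_iff_noetherian.2 inferInstance f
  have hsurj : Function.Surjective (θ^[n]) := hθ.iterate n
  rw [injective_iff_map_eq_zero]
  intro x hx
  obtain ⟨y, rfl⟩ := hsurj x
  have h1 : y ∈ f (n + 1) := by
    change y ∈ RingHom.ker (θ ^ (n + 1))
    rw [hmem, Function.iterate_succ_apply']
    exact hx
  rw [← hn (n + 1) (Nat.le_succ n)] at h1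
  exact (hmem n y).1 h1

/-- a surjection from a complete Noetherian local ring with kernel inside the square of the
maximal ideal which admits a ring section is injective. -/
theorem injective_of_section {P A : Type u} [CommRing P] [IsLocalRing P] [IsNoetherianRing P]
    [IsAdicComplete (maximalIdeal P) P] [CommRing A] (Φ : P →+* A) (v : A →+* P)
    (hv : ∀ a, Φ (v a) = a) (hker : RingHom.ker Φ ≤ maximalIdeal P ^ 2) :
    Function.Injective Φ := by
  let θ : P →+* P := v.comp Φ
  have hθ : ∀ f, θ f - f ∈ maximalIdeal P ^ 2 := by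
    intro f
    apply hker
    rw [RingHom.mem_ker, map_sub, RingHom.comp_apply, hv, sub_self]
  have hsq : maximalIdeal P ^ 2 ≤ maximalIdeal P := Ideal.pow_le_self two_ne_zero
  have h𝔫 : (maximalIdeal P).map θ = maximalIdeal P := by
    apply le_antisymm
    · rw [Ideal.map_le_iff_le_comap]
      intro x hx
      rw [Ideal.mem_comap]
      have : θ x = x + (θ x - x) := by ring
      rw [this]
      exact Ideal.add_mem _ hx (hsq (hθ x))
    · refine Submodule.le_of_le_smul_of_le_jacobson_bot (I := maximalIdeal P)
        (IsNoetherian.noetherian _) ?_ ?_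
      · rw [IsLocalRing.jacobson_eq_maximalIdeal ⊥ bot_ne_top]
      · intro x hx
        have : x = θ x + (x - θ x) := by ring
        rw [this]
        apply Submodule.add_mem_sup
        · exact Ideal.mem_map_of_mem _ hx
        · rw [smul_eq_mul, ← pow_two]
          have := hθ x
          rw [← neg_sub] at this
          exact (Ideal.neg_mem_iff _).1 this
  have haus : IsHausdorff ((maximalIdeal P).map θ) P := by
    rw [h𝔫]
    infer_instance
  have hsurj : Function.Surjective θ := by
    apply surjective_of_mk_map_comp_surjective θ (I := maximalIdeal P)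
    intro z
    obtain ⟨y, rfl⟩ := Ideal.Quotient.mk_surjective z
    refine ⟨y, ?_⟩
    rw [RingHom.comp_apply, Ideal.Quotient.mk_eq_mk_iff_sub_mem, h𝔫]
    exact hsq (hθ y)
  have hinj := injective_of_surjective_ringEnd θ hsurj
  rw [injective_iff_map_eq_zero]
  intro x hx
  apply hinj
  rw [map_zero, RingHom.comp_apply, hx, map_zero]

end Groth.Agent.Lib.Helper5.AdicReg
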