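import Groth.Prelude.Def_CAlgX
import Mathlib.RingTheory.RingHomProperties
import Mathlib.RingTheory.Jacobson.Ideal
import Mathlib.RingTheory.LocalRing.MaximalIdeal.Basic

set_option autoImplicit false
set_option linter.unusedSectionVars false
universe u

namespace Groth.Agent.Lib.Helper5.AdicIso

/-- the lifting property of adic formal smoothness, stated for ring homomorphisms -/
def LiftProp {R S : Type u} [CommRing R] [CommRing S] (f : R →+* S) (I : Ideal S) : Prop :=
  ∀ (E : Type u) [CommRing E] (J : Ideal E), J ^ 2 = ⊥ → ∀ (g : R →+* E) (ψ : S →+* E ⧸ J),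
    ψ.comp f = (Ideal.Quotient.mk J).comp g → (∃ k : ℕ, ∀ x ∈ I ^ k, ψ x = 0) →
    ∃ χ : S →+* E, χ.comp f = g ∧ (Ideal.Quotient.mk J).comp χ = ψ

section Iff

variable {R S : Type u} [CommRing R] [CommRing S] [Algebra R S]

theorem isAdicFormallySmooth_iff_liftProp (I : Ideal S) :
    CAlgX.IsAdicFormallySmooth R S I ↔ LiftProp (algebraMap R S) I := by
  constructor
  · intro h E _ J hJ g ψ hcomm hk
    let _ : Algebra R E := g.toAlgebra
    let ψ' : S →ₐ[R] E ⧸ J :=
      { ψ with
        commutes' := fun r => by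
          have := RingHom.congr_fun hcomm r
          simp only [RingHom.comp_apply] at this
          exact this }
    obtain ⟨χ, hχ⟩ := h E J hJ ψ' hk
    refine ⟨χ, ?_, ?_⟩
    · ext r
      exact χ.commutes r
    · ext x
      exact congrArg (fun f => f x) hχ
  · intro h E _ _ J hJ ψ hk
    obtain ⟨χ, hχ1, hχ2⟩ := h E J hJ (algebraMap R E) ψ (by
      ext r
      simp only [RingHom.comp_apply]
      exact ψ.commutes r) hk
    refine ⟨{ χ with commutes' := fun r => RingHom.congr_fun hχ1 r }, ?_⟩
    ext x
    exact RingHom.congr_fun hχ2 x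

end Iff

/-- adic formal smoothness with respect to the Jacobson radical, as a property of ring maps -/
def JacSmooth {R S : Type u} [CommRing R] [CommRing S] (f : R →+* S) : Prop :=
  LiftProp f (Ideal.jacobson ⊥)

theorem jacSmooth_respectsIso : RingHom.RespectsIso @JacSmooth := by
  constructor
  · intro R S T _ _ _ f e hf E _ J hJ g ψ hcomm hk
    obtain ⟨k, hk⟩ := hk
    have hjac : (Ideal.jacobson (⊥ : Ideal S)).map (e : S →+* T) = Ideal.jacobson ⊥ := by
      rw [Ideal.map_jacobson_of_bijective e.bijective, Ideal.map_bot]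
    obtain ⟨χ, hχ1, hχ2⟩ := hf E J hJ g (ψ.comp (e : S →+* T)) (by
      rw [RingHom.comp_assoc]; exact hcomm) ⟨k, fun x hx => by
        rw [RingHom.comp_apply]
        apply hk
        rw [← hjac, ← Ideal.map_pow]
        exact Ideal.mem_map_of_mem _ hx⟩
    refine ⟨χ.comp (e.symm : T →+* S), ?_, ?_⟩
    · ext r
      simp only [RingHom.comp_apply, RingEquiv.toRingHom_eq_coe, RingHom.coe_coe,
        RingEquiv.symm_apply_apply]
      exact RingHom.congr_fun hχ1 r
    · ext t
      have := RingHom.congr_fun hχ2 (e.symm t)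
      simp only [RingHom.comp_apply, RingHom.coe_coe, RingEquiv.apply_symm_apply] at this ⊢
      exact this
  · intro R S T _ _ _ f e hf E _ J hJ g ψ hcomm hk
    obtain ⟨χ, hχ1, hχ2⟩ := hf E J hJ (g.comp (e.symm : S →+* R)) ψ (by
      ext s
      have := RingHom.congr_fun hcomm (e.symm s)
      simp only [RingHom.comp_apply, RingEquiv.toRingHom_eq_coe, RingHom.coe_coe,
        RingEquiv.apply_symm_apply] at this ⊢
      exact this) hk
    refine ⟨χ, ?_, hχ2⟩
    ext r
    have := RingHom.congr_fun hχ1 (e r)
    simp only [RingHom.comp_apply, RingEquiv.toRingHom_eq_coe, RingHom.coe_coe,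
      RingEquiv.symm_apply_apply] at this ⊢
    exact this

end Groth.Agent.Lib.Helper5.AdicIso
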