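import Groth.Agent.Lib.Helper5.FlatCohenI
import Groth.Agent.Lib.Helper5.FlatSmoothD
import Groth.Agent.Lib.Helper5.AdicRegF

set_option autoImplicit false
set_option linter.unusedSectionVars false
universe u

namespace Groth.Agent.Lib.Helper5.FlatCohen

open IsLocalRing TensorProduct

theorem exists_adicSmooth_lift {A B : Type u} [CommRing A] [IsLocalRing A]
    [IsNoetherianRing A] [IsAdicComplete (IsLocalRing.maximalIdeal A) A] [CommRing B] [IsLocalRing B]
    [IsNoetherianRing B] [IsAdicComplete (IsLocalRing.maximalIdeal B) B]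
    [Algebra (IsLocalRing.maximalIdeal A).ResidueField B]
    (hB : CAlgX.IsAdicFormallySmooth (IsLocalRing.maximalIdeal A).ResidueField B
      (IsLocalRing.maximalIdeal B)) :
    ∃ (C : Type u) (_ : CommRing C) (_ : IsLocalRing C) (_ : Algebra A C),
      IsNoetherianRing C ∧ IsAdicComplete (IsLocalRing.maximalIdeal C) C ∧
        IsLocalHom (algebraMap A C) ∧
        CAlgX.IsAdicFormallySmooth A C (IsLocalRing.maximalIdeal C) ∧
        Nonempty ((IsLocalRing.maximalIdeal A).Fiber C ≃ₐ[(IsLocalRing.maximalIdeal A).ResidueField]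
          B) := by
  classical
  have hreg : IsRegularLocalRing B := AdicReg.isRegularLocalRing_of_adicSmooth hB
  let _ : Algebra A B := ((algebraMap (maximalIdeal A).ResidueField B).comp
    (algebraMap A (maximalIdeal A).ResidueField)).toAlgebra
  have htower : IsScalarTower A (maximalIdeal A).ResidueField B :=
    IsScalarTower.of_algebraMap_eq (fun _ => rfl)
  have halgAB : ∀ a, algebraMap A B a = algebraMap (maximalIdeal A).ResidueField B
      (algebraMap A (maximalIdeal A).ResidueField a) := fun a => rfl
  have hkill : ∀ a ∈ maximalIdeal A, algebraMap A B a = 0 := by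
    intro a ha
    rw [halgAB, Ideal.algebraMap_residueField_eq_zero.2 ha, map_zero]
  have hlocAB : IsLocalHom (algebraMap A B) := by
    refine ⟨fun a ha => ?_⟩
    by_contra hnu
    have h1 : a ∈ maximalIdeal A := hnu
    rw [hkill a h1] at ha
    exact not_isUnit_zero ha
  obtain ⟨C, _, _, _, hN, hcompl, hloc, hflat, π, hπ, hker⟩ := exists_flat_lift (A := A) (B := B) hkill
  -- the fibre
  let ψ : (maximalIdeal A).Fiber C →ₐ[(maximalIdeal A).ResidueField] B :=
    Algebra.TensorProduct.lift (Algebra.ofId (maximalIdeal A).ResidueField B) π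
      (fun _ _ => Commute.all _ _)
  have hψ1 : ∀ c : C, ψ ((1 : (maximalIdeal A).ResidueField) ⊗ₜ[A] c) = π c := by
    intro c
    simp [ψ]
  have hsurjι := FlatSmooth.includeRight_surjective A C
  have hbij : Function.Bijective ψ := by
    constructor
    · rw [injective_iff_map_eq_zero]
      intro x hx
      obtain ⟨c, rfl⟩ := hsurjι x
      change ψ ((1 : (maximalIdeal A).ResidueField) ⊗ₜ[A] c) = 0 at hx
      rw [hψ1] at hx
      have hc : c ∈ (maximalIdeal A).map (algebraMap A C) := by
        rw [← hker]
        exact hx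
      have hc' : c ∈ (maximalIdeal A • ⊤ : Submodule A C) := by
        rw [Ideal.smul_top_eq_map]
        exact hc
      change ((1 : (maximalIdeal A).ResidueField) ⊗ₜ[A] c : (maximalIdeal A).Fiber C) = 0
      refine Submodule.smul_induction_on hc' ?_ ?_
      · intro a ha c' _
        rw [← TensorProduct.smul_tmul, Algebra.smul_def, mul_one,
          Ideal.algebraMap_residueField_eq_zero.2 ha, TensorProduct.zero_tmul]
      · intro c₁ c₂ h₁ h₂
        rw [TensorProduct.tmul_add, h₁, h₂, add_zero]
    · intro b
      obtain ⟨c, rfl⟩ := hπ b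
      exact ⟨(1 : (maximalIdeal A).ResidueField) ⊗ₜ[A] c, hψ1 c⟩
  let E : (maximalIdeal A).Fiber C ≃ₐ[(maximalIdeal A).ResidueField] B :=
    AlgEquiv.ofBijective ψ hbij
  have hlocF := FlatSmooth.isLocalRing_fiber A C
  have hmaxF := FlatSmooth.maximalIdeal_fiber A C
  have hF : CAlgX.IsAdicFormallySmooth (maximalIdeal A).ResidueField ((maximalIdeal A).Fiber C)
      ((maximalIdeal C).map (Algebra.TensorProduct.includeRight :
        C →ₐ[A] (maximalIdeal A).Fiber C).toRingHom) := by
    refine AdicReg.adicSmooth_of_algEquiv E.symm (maximalIdeal B) _ ?_ hB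
    intro x hx
    rw [← hmaxF, mem_maximalIdeal, mem_nonunits_iff]
    intro hu
    have h1 : IsUnit (E (E.symm x)) := hu.map E
    rw [E.apply_symm_apply] at h1
    exact hx h1
  exact ⟨C, inferInstance, inferInstance, inferInstance, hN, hcompl, hloc,
    FlatSmooth.adicSmooth_of_flat_of_fiber hF, ⟨E⟩⟩

end Groth.Agent.Lib.Helper5.FlatCohen
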