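import Groth.Prelude.Def_CAlgX
import Mathlib

set_option autoImplicit false
universe u

namespace Groth.Agent.Lib.Helper5.AdicQuot

/-- adic formal smoothness passes to the quotient by an ideal of the base. -/
theorem adicSmooth_quotient {R S : Type u} [CommRing R] [CommRing S] [Algebra R S] (I : Ideal R)
    (𝔫 : Ideal S) (K : Type u) [CommRing K] [Algebra R K]
    (hK : Function.Surjective (algebraMap R K)) (hker : ∀ a ∈ I, algebraMap R K a = 0)
    (S₀ : Type u) [CommRing S₀] [Algebra S S₀] [Algebra K S₀] [Algebra R S₀] [IsScalarTower R S S₀]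
    [IsScalarTower R K S₀] (hkerS : RingHom.ker (algebraMap S S₀) = I.map (algebraMap R S))
    (hS : Function.Surjective (algebraMap S S₀))
    (h : CAlgX.IsAdicFormallySmooth R S 𝔫) :
    CAlgX.IsAdicFormallySmooth K S₀ (𝔫.map (algebraMap S S₀)) := by
  intro T _ _ J hJ ψ hψ
  obtain ⟨m, hm⟩ := hψ
  let _ : Algebra R T := ((algebraMap K T).comp (algebraMap R K)).toAlgebra
  have hst : IsScalarTower R K T := IsScalarTower.of_algebraMap_eq (fun _ => rfl)
  let ψ' : S →ₐ[R] T ⧸ J := (ψ.restrictScalars R).comp (IsScalarTower.toAlgHom R S S₀)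
  obtain ⟨χ', hχ'⟩ := h T J hJ ψ' ⟨m, fun x hx => by
    apply hm
    have : algebraMap S S₀ x ∈ (𝔫 ^ m).map (algebraMap S S₀) := Ideal.mem_map_of_mem _ hx
    rwa [Ideal.map_pow] at this⟩
  have hle : RingHom.ker (algebraMap S S₀) ≤ RingHom.ker χ'.toRingHom := by
    rw [hkerS, Ideal.map_le_iff_le_comap]
    intro a ha
    rw [Ideal.mem_comap, RingHom.mem_ker]
    change χ' (algebraMap R S a) = 0
    rw [AlgHom.commutes]
    change algebraMap K T (algebraMap R K a) = 0
    rw [hker a ha, map_zero]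
  let χr : S₀ →+* T := RingHom.liftOfSurjective (algebraMap S S₀) hS ⟨χ'.toRingHom, hle⟩
  have hχr : ∀ s : S, χr (algebraMap S S₀ s) = χ' s := fun s =>
    RingHom.liftOfRightInverse_comp_apply _ _ _ ⟨χ'.toRingHom, hle⟩ s
  let χ : S₀ →ₐ[K] T :=
    { χr with
      commutes' := by
        intro c
        obtain ⟨r, rfl⟩ := hK c
        change χr (algebraMap K S₀ (algebraMap R K r)) = algebraMap K T (algebraMap R K r)
        rw [← IsScalarTower.algebraMap_apply R K S₀, IsScalarTower.algebraMap_apply R S S₀, hχr,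
          AlgHom.commutes]
        rfl }
  refine ⟨χ, ?_⟩
  ext y
  obtain ⟨s, rfl⟩ := hS y
  change Ideal.Quotient.mk J (χr (algebraMap S S₀ s)) = ψ (algebraMap S S₀ s)
  rw [hχr]
  exact AlgHom.congr_fun hχ' s

end Groth.Agent.Lib.Helper5.AdicQuot
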