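import Groth.Agent.Lib.Helper5.FlatCohenI
import Groth.Agent.Lib.helper19.CompletionNoetherian

set_option autoImplicit false
set_option linter.unusedSectionVars false
universe u

namespace Groth.Agent.Lib.Helper5.FlatCohen

open IsLocalRing

variable {A B : Type u} [CommRing A] [CommRing B] [IsLocalRing A]
  [IsNoetherianRing A] [IsRegularLocalRing B] [IsAdicComplete (maximalIdeal B) B]
  [Algebra A B] [IsLocalHom (algebraMap A B)]

/-- `exists_flat_lift` over a Noetherian local base which need not be complete -/
theorem exists_flat_lift' (hkill : ∀ a ∈ maximalIdeal A, algebraMap A B a = 0) :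
    ∃ (C : Type u) (_ : CommRing C) (_ : IsLocalRing C) (_ : Algebra A C),
      IsNoetherianRing C ∧ IsAdicComplete (maximalIdeal C) C ∧ IsLocalHom (algebraMap A C) ∧
        Module.Flat A C ∧ ∃ π : C →ₐ[A] B, Function.Surjective π ∧
          RingHom.ker π = (maximalIdeal A).map (algebraMap A C) := by
  have hN : IsNoetherianRing (AdicCompletion (maximalIdeal A) A) :=
    Groth.Agent.Lib.helper19.isNoetherianRing_adicCompletion A _
  let ψ : AdicCompletion (maximalIdeal A) A →+* B :=
    (Ideal.Quotient.lift (maximalIdeal A) (algebraMap A B) hkill).comp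
      (AdicCompletion.evalOneₐ (maximalIdeal A)).toRingHom
  have hψ : ∀ a, ψ (algebraMap A (AdicCompletion (maximalIdeal A) A) a) = algebraMap A B a :=
    fun a => rfl
  let _ : Algebra (AdicCompletion (maximalIdeal A) A) B := ψ.toAlgebra
  have halg : algebraMap (AdicCompletion (maximalIdeal A) A) B = ψ :=
    RingHom.algebraMap_toAlgebra ψ
  have _ : IsScalarTower A (AdicCompletion (maximalIdeal A) A) B :=
    IsScalarTower.of_algebraMap_eq (fun a => (hψ a).symm)
  have hle : maximalIdeal (AdicCompletion (maximalIdeal A) A) ≤ RingHom.ker ψ := by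
    rw [AdicCompletion.maximalIdeal_eq_map, Ideal.map_le_iff_le_comap]
    intro a ha
    rw [Ideal.mem_comap, RingHom.mem_ker, hψ]
    exact hkill a ha
  have hkill' : ∀ x ∈ maximalIdeal (AdicCompletion (maximalIdeal A) A),
      algebraMap (AdicCompletion (maximalIdeal A) A) B x = 0 := by
    intro x hx
    rw [halg]
    exact hle hx
  have _ : IsLocalHom (algebraMap (AdicCompletion (maximalIdeal A) A) B) := by
    refine ((local_hom_TFAE _).out 0 2).2 ?_
    rw [Ideal.map_le_iff_le_comap]
    intro x hx
    rw [Ideal.mem_comap, hkill' x hx]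
    exact Ideal.zero_mem _
  obtain ⟨C, _, _, algC, hNC, hcC, hloc, hflat, π, hπ, hker⟩ :=
    exists_flat_lift (A := AdicCompletion (maximalIdeal A) A) (B := B) hkill'
  let _ : Algebra A C := Algebra.compHom C (algebraMap A (AdicCompletion (maximalIdeal A) A))
  have _ : IsScalarTower A (AdicCompletion (maximalIdeal A) A) C :=
    IsScalarTower.of_algebraMap_eq (fun _ => rfl)
  have hmap : (maximalIdeal A).map (algebraMap A C) =
      (maximalIdeal (AdicCompletion (maximalIdeal A) A)).map
        (algebraMap (AdicCompletion (maximalIdeal A) A) C) := by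
    rw [AdicCompletion.maximalIdeal_eq_map, Ideal.map_map, ← IsScalarTower.algebraMap_eq]
  refine ⟨C, inferInstance, inferInstance, inferInstance, hNC, hcC, ?_,
    Module.Flat.trans A (AdicCompletion (maximalIdeal A) A) C, π.restrictScalars A, hπ, ?_⟩
  · refine ((local_hom_TFAE _).out 0 2).2 ?_
    rw [hmap]
    exact ((local_hom_TFAE _).out 0 2).1 hloc
  · rw [hmap, ← hker]
    rfl

end Groth.Agent.Lib.Helper5.FlatCohen
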