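import Groth.Agent.Lib.Helper5.FlatLiftQE
import Groth.Agent.Lib.Helper5.FlatCohenK
import Groth.Agent.Lib.Helper2.QuotFlat

set_option autoImplicit false
set_option linter.unusedSectionVars false
universe u

namespace Groth.Agent.Lib.Helper5.FlatLiftQ

open EGA41 IsLocalRing TensorProduct Groth.Agent.Lib.Helper12

theorem isLocalRing_quotient {D : Type*} [CommRing D] [IsLocalRing D] (K : Ideal D)
    (hK : K ≤ maximalIdeal D) : IsLocalRing (D ⧸ K) := by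
  have hne : K ≠ ⊤ := ne_top_of_le_ne_top (maximalIdeal.isMaximal D).ne_top hK
  have _ : Nontrivial (D ⧸ K) := Ideal.Quotient.nontrivial_iff.2 hne
  exact IsLocalRing.of_surjective' (Ideal.Quotient.mk K) Ideal.Quotient.mk_surjective

theorem exists_lift {A : Type u} [CommRing A] [IsLocalRing A] [IsNoetherianRing A]
    (J : Ideal A) (hJ : J ≤ maximalIdeal A) [IsLocalRing (A ⧸ J)]
    (B₀ : Type u) [CommRing B₀] [IsLocalRing B₀] [IsNoetherianRing B₀]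
    [IsAdicComplete (maximalIdeal B₀) B₀]
    [Algebra (A ⧸ J) B₀] [IsLocalHom (algebraMap (A ⧸ J) B₀)]
    (hfs : IsFormallySmoothAdic (A ⧸ J) (maximalIdeal (A ⧸ J)) B₀ (maximalIdeal B₀)) :
    ∃ (B : Type u) (_ : CommRing B) (_ : IsLocalRing B) (_ : IsNoetherianRing B)
      (_ : Algebra A B) (_ : IsLocalHom (algebraMap A B)),
      IsAdicComplete (maximalIdeal B) B ∧ Module.Flat A B ∧
        Nonempty ((A ⧸ J) ⊗[A] B ≃ₐ[A ⧸ J] B₀) := by
  set 𝔫 : Ideal B₀ := (maximalIdeal (A ⧸ J)).map (algebraMap (A ⧸ J) B₀) with h𝔫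
  have h𝔫le : 𝔫 ≤ maximalIdeal B₀ := map_le_maximalIdeal _ le_rfl
  have _ : IsLocalRing (B₀ ⧸ 𝔫) := isLocalRing_quotient 𝔫 h𝔫le
  have hreg : IsRegularLocalRing (B₀ ⧸ 𝔫) := closedFibre_regular hfs
  have hcompl : IsAdicComplete (maximalIdeal (B₀ ⧸ 𝔫)) (B₀ ⧸ 𝔫) :=
    FlatCohen.isAdicComplete_quotient 𝔫
  let ι : A →+* B₀ ⧸ 𝔫 := (algebraMap (A ⧸ J) (B₀ ⧸ 𝔫)).comp (Ideal.Quotient.mk J)
  let _ : Algebra A (B₀ ⧸ 𝔫) := ι.toAlgebra
  have _ : IsScalarTower A (A ⧸ J) (B₀ ⧸ 𝔫) := IsScalarTower.of_algebraMap_eq (fun a => rfl)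
  have hmA₀ : (maximalIdeal A).map (Ideal.Quotient.mk J) = maximalIdeal (A ⧸ J) :=
    CohenStruct.map_maximalIdeal_of_surjective _ Ideal.Quotient.mk_surjective
  have hkill₀ : ∀ x ∈ maximalIdeal (A ⧸ J), algebraMap (A ⧸ J) (B₀ ⧸ 𝔫) x = 0 := by
    intro x hx
    rw [IsScalarTower.algebraMap_apply (A ⧸ J) B₀ (B₀ ⧸ 𝔫), Ideal.Quotient.algebraMap_eq,
      Ideal.Quotient.eq_zero_iff_mem]
    exact Ideal.mem_map_of_mem _ hx
  have hkill : ∀ a ∈ maximalIdeal A, algebraMap A (B₀ ⧸ 𝔫) a = 0 := by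
    intro a ha
    refine hkill₀ _ ?_
    rw [← hmA₀]
    exact Ideal.mem_map_of_mem _ ha
  have _ : IsLocalHom (algebraMap A (B₀ ⧸ 𝔫)) := by
    refine ((local_hom_TFAE _).out 0 2).2 ?_
    rw [Ideal.map_le_iff_le_comap]
    intro x hx
    rw [Ideal.mem_comap, hkill x hx]
    exact Ideal.zero_mem _
  obtain ⟨C, _, _, _, hNC, hcC, hlocC, hflatC, π, hπ, hkerπ⟩ :=
    FlatCohen.exists_flat_lift' (A := A) (B := B₀ ⧸ 𝔫) hkill
  set 𝔧 : Ideal C := J.map (algebraMap A C) with h𝔧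
  have h𝔧le : 𝔧 ≤ maximalIdeal C := map_le_maximalIdeal J hJ
  have _ : IsLocalRing (C ⧸ 𝔧) := isLocalRing_quotient 𝔧 h𝔧le
  have hcD' : IsAdicComplete (maximalIdeal (C ⧸ 𝔧)) (C ⧸ 𝔧) := FlatCohen.isAdicComplete_quotient 𝔧
  have hflatD' : Module.Flat (A ⧸ J) (C ⧸ 𝔧) :=
    Groth.Agent.Lib.Helper2.QuotFlat.flat_quotient_of_flat_tensor J
  have hmD' : (maximalIdeal C).map (Ideal.Quotient.mk 𝔧) = maximalIdeal (C ⧸ 𝔧) :=
    CohenStruct.map_maximalIdeal_of_surjective _ Ideal.Quotient.mk_surjective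
  have hπ𝔧 : ∀ c ∈ 𝔧, π.toRingHom c = 0 := by
    have : 𝔧 ≤ RingHom.ker π.toRingHom := by
      rw [h𝔧, Ideal.map_le_iff_le_comap]
      intro a ha
      rw [Ideal.mem_comap, RingHom.mem_ker]
      change π (algebraMap A C a) = 0
      rw [AlgHom.commutes]
      exact hkill a (hJ ha)
    exact fun c hc => this hc
  let p' : C ⧸ 𝔧 →ₐ[A ⧸ J] B₀ ⧸ 𝔫 :=
    { Ideal.Quotient.lift 𝔧 π.toRingHom hπ𝔧 with
      commutes' := fun x => by
        obtain ⟨a, rfl⟩ := Ideal.Quotient.mk_surjective x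
        change π (algebraMap A C a) = _
        rw [AlgHom.commutes]
        rfl }
  have hp'mk : ∀ c, p' (Ideal.Quotient.mk 𝔧 c) = π c := fun c => rfl
  have hp' : Function.Surjective p' := by
    intro y
    obtain ⟨c, rfl⟩ := hπ y
    exact ⟨Ideal.Quotient.mk 𝔧 c, hp'mk c⟩
  have hmapD' : (maximalIdeal (A ⧸ J)).map (algebraMap (A ⧸ J) (C ⧸ 𝔧)) =
      ((maximalIdeal A).map (algebraMap A C)).map (Ideal.Quotient.mk 𝔧) := by
    rw [← hmA₀, Ideal.map_map, Ideal.map_map]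
    rfl
  have hker' : RingHom.ker p' = (maximalIdeal (A ⧸ J)).map (algebraMap (A ⧸ J) (C ⧸ 𝔧)) := by
    rw [hmapD', ← hkerπ]
    ext y
    obtain ⟨c, rfl⟩ := Ideal.Quotient.mk_surjective y
    rw [RingHom.mem_ker, hp'mk]
    constructor
    · intro h
      exact Ideal.mem_map_of_mem _ ((RingHom.mem_ker).2 h)
    · intro h
      obtain ⟨c', hc', hcc'⟩ := (Ideal.mem_map_iff_of_surjective _ Ideal.Quotient.mk_surjective).1 h
      have h1 : c' - c ∈ 𝔧 := Ideal.Quotient.eq.1 hcc'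
      have h2 : π (c' - c) = 0 := hπ𝔧 _ h1
      have h3 : π c' = 0 := hc'
      rw [map_sub, h3, zero_sub, neg_eq_zero] at h2
      exact h2
  let p : B₀ →ₐ[A ⧸ J] B₀ ⧸ 𝔫 := Ideal.Quotient.mkₐ (A ⧸ J) 𝔫
  have hp : Function.Surjective p := Ideal.Quotient.mkₐ_surjective _ _
  have hker : RingHom.ker p = (maximalIdeal (A ⧸ J)).map (algebraMap (A ⧸ J) B₀) := by
    ext y
    rw [RingHom.mem_ker]
    exact Ideal.Quotient.eq_zero_iff_mem
  have hI' : (maximalIdeal (A ⧸ J)).map (algebraMap (A ⧸ J) (C ⧸ 𝔧)) ≤ maximalIdeal (C ⧸ 𝔧) := by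
    rw [hmapD', ← hmD']
    exact Ideal.map_mono (map_le_maximalIdeal _ le_rfl)
  obtain ⟨e, -⟩ := exists_algEquiv_of_comp (maximalIdeal (A ⧸ J)) (maximalIdeal (A ⧸ J)) hfs
    ⟨1, by rw [pow_one]; exact hI'⟩ p p' hp hp' hker hker' h𝔫le hI'
  refine ⟨C, inferInstance, inferInstance, hNC, inferInstance, hlocC, hcC, hflatC, ⟨?_⟩⟩
  exact (Algebra.TensorProduct.quotIdealMapEquivQuotTensor C J).symm.trans e.symm

end Groth.Agent.Lib.Helper5.FlatLiftQ
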