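import Groth.Agent.Lib.Helper5.RegCompletion
import Mathlib

set_option autoImplicit false
set_option linter.unusedSectionVars false
universe u

namespace Groth.Agent.Lib.Helper5.RegCompletion

open IsLocalRing

theorem isRegularRing_adicCompletion (A : Type u) [CommRing A] [IsRegularRing A] (J : Ideal A) :
    IsRegularRing (AdicCompletion J A) := by
  have hN : IsNoetherianRing (AdicCompletion J A) :=
    Groth.Agent.Lib.helper19.isNoetherianRing_adicCompletion A J
  have hfg : J.FG := IsNoetherian.noetherian J
  apply isRegularRing_of_maximal
  intro n hn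
  have hcomp := AdicCompletion.isAdicComplete_self J hfg
  have hJn : J.map (algebraMap A (AdicCompletion J A)) ≤ n :=
    (IsAdicComplete.le_jacobson_bot _).trans (sInf_le ⟨bot_le, hn⟩)
  let m : Ideal A := n.comap (algebraMap A (AdicCompletion J A))
  have hmp : m.IsPrime := Ideal.comap_isPrime _ _
  have hover : n.LiesOver m := ⟨rfl⟩
  have hJm : J ≤ m := Ideal.map_le_iff_le_comap.mp hJn
  have hmap : m.map (algebraMap A (AdicCompletion J A)) = n := by
    apply le_antisymm Ideal.map_comap_le
    intro y hy
    obtain ⟨a, ha⟩ := Ideal.Quotient.mk_surjective (AdicCompletion.evalOneₐ J y)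
    have h1 : y - algebraMap A (AdicCompletion J A) a ∈ J.map (algebraMap A (AdicCompletion J A)) := by
      rw [← AdicCompletion.ker_evalOneₐ_eq_map J hfg, RingHom.mem_ker]
      simp only [AlgHom.toRingHom_eq_coe, RingHom.coe_coe, map_sub, AlgHom.commutes]
      rw [sub_eq_zero, ← ha]
      rfl
    have h2 : algebraMap A (AdicCompletion J A) a ∈ n := by
      have := n.sub_mem hy (hJn h1)
      rwa [sub_sub_cancel] at this
    have h3 : a ∈ m := h2
    have h4 : y = (y - algebraMap A (AdicCompletion J A) a) + algebraMap A (AdicCompletion J A) a := by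
      ring
    rw [h4]
    exact Ideal.add_mem _ (Ideal.map_mono hJm h1) (Ideal.mem_map_of_mem _ h3)
  let _ := Localization.AtPrime.algebraOfLiesOver m n
  have hloc : IsLocalHom (algebraMap (Localization.AtPrime m) (Localization.AtPrime n)) := by
    rw [RingHom.algebraMap_toAlgebra]
    exact Localization.isLocalHom_localRingHom m n (algebraMap A (AdicCompletion J A))
      Ideal.LiesOver.over
  have hflat : Module.Flat (Localization.AtPrime m) (Localization.AtPrime n) := inferInstance
  have hreg : IsRegularLocalRing (Localization.AtPrime m) := inferInstance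
  apply regular_of_flat_map_eq (A := Localization.AtPrime m)
  rw [← Localization.AtPrime.map_eq_maximalIdeal, ← Localization.AtPrime.map_eq_maximalIdeal,
    Ideal.map_map, ← IsScalarTower.algebraMap_eq,
    IsScalarTower.algebraMap_eq A (AdicCompletion J A) (Localization.AtPrime n), ← Ideal.map_map,
    hmap]

end Groth.Agent.Lib.Helper5.RegCompletion
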