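import Groth.Agent.Lib.Helper5.StalkBCF
import Mathlib

set_option autoImplicit false
universe u

open CategoryTheory AlgebraicGeometry TensorProduct IsLocalRing

namespace Groth.Agent.Lib.Helper5.StalkBC

/-- regularity of localizations of `A ⊗ k'` at primes over the maximal ideal descends along a flat
local homomorphism of local algebras over a field. -/
theorem regular_localization_descent (k A B k' : Type u) [Field k] [CommRing A] [CommRing B]
    [Algebra k A] [Algebra k B] [IsLocalRing A] [IsLocalRing B] [Field k'] [Algebra k k']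
    (φ : A →ₐ[k] B) (hloc : IsLocalHom φ.toRingHom) (hflat : φ.toRingHom.Flat)
    (Q : Ideal (A ⊗[k] k')) [hQ : Q.IsPrime]
    (hQm : Q.comap (Algebra.TensorProduct.includeLeftRingHom : A →+* A ⊗[k] k') = maximalIdeal A)
    (h : ∀ (P : Ideal (B ⊗[k] k')) [P.IsPrime],
      P.comap (Algebra.TensorProduct.includeLeftRingHom : B →+* B ⊗[k] k') = maximalIdeal B →
      IsRegularLocalRing (Localization.AtPrime P)) :
    IsRegularLocalRing (Localization.AtPrime Q) := by
  let _ : Algebra A B := φ.toRingHom.toAlgebra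
  have hst : IsScalarTower k A B := IsScalarTower.of_algebraMap_eq (fun c => (φ.commutes c).symm)
  have hfl : Module.Flat A B := hflat
  have hlh : IsLocalHom (algebraMap A B) := hloc
  let _ : Algebra (A ⊗[k] k') (B ⊗[k] k') :=
    (Algebra.TensorProduct.map φ (AlgHom.id k k')).toRingHom.toAlgebra
  have hst2 : IsScalarTower A (A ⊗[k] k') (B ⊗[k] k') := IsScalarTower.of_algebraMap_eq (fun a => by
    change (algebraMap A B a) ⊗ₜ[k] (1 : k') =
      (Algebra.TensorProduct.map φ (AlgHom.id k k')) (a ⊗ₜ[k] (1 : k'))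
    rw [Algebra.TensorProduct.map_tmul]
    rfl)
  have hpo : Algebra.IsPushout A B (A ⊗[k] k') (B ⊗[k] k') := by
    apply Algebra.IsPushout.tensorProduct_tensorProduct k k' A B
    ext c
    change (Algebra.TensorProduct.map φ (AlgHom.id k k')) ((1 : A) ⊗ₜ[k] c) = (1 : B) ⊗ₜ[k] c
    rw [Algebra.TensorProduct.map_tmul, map_one]
    rfl
  have hfl2 : Module.Flat (A ⊗[k] k') (B ⊗[k] k') := flat_of_isPushout A B (A ⊗[k] k') (B ⊗[k] k')
  have hcm : (maximalIdeal B).comap (algebraMap A B) = maximalIdeal A :=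
    ((IsLocalRing.local_hom_TFAE (algebraMap A B)).out 0 4).mp hlh
  obtain ⟨P, hP, hP1, hP2⟩ := exists_prime_of_isPushout A B (A ⊗[k] k') (B ⊗[k] k')
    (maximalIdeal B) Q (by rw [hcm]; exact hQm.symm)
  have hreg : IsRegularLocalRing (Localization.AtPrime P) := h P hP1
  have hlo : P.LiesOver Q := ⟨hP2.symm⟩
  let _ := Localization.AtPrime.algebraOfLiesOver Q P
  have hlh2 : IsLocalHom (algebraMap (Localization.AtPrime Q) (Localization.AtPrime P)) := by
    rw [RingHom.algebraMap_toAlgebra]
    exact Localization.isLocalHom_localRingHom Q P (algebraMap _ _) Ideal.LiesOver.over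
  have hflat3 : Module.Flat (Localization.AtPrime Q) (Localization.AtPrime P) := inferInstance
  have hff : Module.FaithfullyFlat (Localization.AtPrime Q) (Localization.AtPrime P) :=
    Module.FaithfullyFlat.of_flat_of_isLocalHom
  have hN : IsNoetherianRing (Localization.AtPrime Q) :=
    Groth.Agent.Lib.Helper5.SerreLoc.isNoetherianRing_of_faithfullyFlat _ (Localization.AtPrime P)
  exact Groth.Agent.Lib.Helper5.SerreLoc.regular_of_flat (Localization.AtPrime Q)
    (Localization.AtPrime P)

variable (k : Type u) [Field k] (X Y : Scheme.{u}) [X.Over (Spec (CommRingCat.of k))]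
  [Y.Over (Spec (CommRingCat.of k))]

/-- a morphism of schemes over a field induces maps of algebras on local rings. -/
theorem stalkMap_comp (f : X ⟶ Y)
    (hf : f ≫ (Y ↘ (Spec (CommRingCat.of k))) = X ↘ (Spec (CommRingCat.of k))) (x : X) :
    (f.stalkMap x).hom.comp (Curv2.stalkMap k Y (f x)) = Curv2.stalkMap k X x := by
  ext c
  change (f.stalkMap x).hom ((Y.presheaf.germ ⊤ (f x) trivial).hom
    ((Coh.toGlobal (Y ↘ Spec (CommRingCat.of k))) c)) =
    (X.presheaf.germ ⊤ x trivial).hom ((Coh.toGlobal (X ↘ Spec (CommRingCat.of k))) c)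
  have h1 := Scheme.Hom.germ_stalkMap_apply f ⊤ x trivial
    ((Coh.toGlobal (Y ↘ Spec (CommRingCat.of k))) c)
  refine h1.trans ?_
  congr 1
  change (f.appTop).hom ((Y ↘ Spec (CommRingCat.of k)).appTop.hom
      ((Scheme.ΓSpecIso (CommRingCat.of k)).inv.hom c)) =
    (X ↘ Spec (CommRingCat.of k)).appTop.hom ((Scheme.ΓSpecIso (CommRingCat.of k)).inv.hom c)
  rw [← hf, Scheme.Hom.comp_appTop]
  rfl

end Groth.Agent.Lib.Helper5.StalkBC
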