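import Mathlib

set_option autoImplicit false

namespace Groth.Agent.Lib.Helper5.SplitLoc

open TensorProduct KaehlerDifferential

universe u v w

section Basic

variable {A : Type u} [CommRing A] {M : Type v} {N : Type w} [AddCommGroup M] [Module A M]
  [AddCommGroup N] [Module A N]

/-- the ideal of `f` with `f • id` factoring through `u` -/
def splitIdeal (u : M →ₗ[A] N) : Ideal A where
  carrier := {f | ∃ g : N →ₗ[A] M, g ∘ₗ u = f • LinearMap.id}
  add_mem' := by
    rintro a b ⟨g, hg⟩ ⟨g', hg'⟩
    exact ⟨g + g', by rw [LinearMap.add_comp, hg, hg', add_smul]⟩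
  zero_mem' := ⟨0, by rw [LinearMap.zero_comp, zero_smul]⟩
  smul_mem' := by
    rintro c a ⟨g, hg⟩
    exact ⟨c • g, by rw [LinearMap.smul_comp, hg, smul_smul, smul_eq_mul]⟩

theorem mem_splitIdeal {u : M →ₗ[A] N} {f : A} :
    f ∈ splitIdeal u ↔ ∃ g : N →ₗ[A] M, g ∘ₗ u = f • LinearMap.id := Iff.rfl

theorem splitIdeal_eq_top_iff (u : M →ₗ[A] N) :
    splitIdeal u = ⊤ ↔ ∃ w : N →ₗ[A] M, w ∘ₗ u = LinearMap.id := by
  rw [Ideal.eq_top_iff_one, mem_splitIdeal]
  simp only [one_smul]

/-- factorisation through a finite free module -/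
theorem exists_factor [Module.Finite A M] [Module.Projective A N] (u : M →ₗ[A] N) :
    ∃ (n : ℕ) (v : N →ₗ[A] (Fin n → A)) (r : (Fin n → A) →ₗ[A] N), r ∘ₗ v ∘ₗ u = u := by
  classical
  obtain ⟨s, hs⟩ := (Module.projective_def' (R := A) (P := N)).mp inferInstance
  obtain ⟨G, hG⟩ := (Module.finite_def (R := A) (M := M)).mp inferInstance
  let S₀ : Finset N := G.biUnion (fun m => (s (u m)).support)
  have hsupp : ∀ m : M, s (u m) ∈ Finsupp.supported A A (S₀ : Set N) := by
    intro m
    have hm : m ∈ Submodule.span A (G : Set M) := by rw [hG]; trivial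
    refine Submodule.span_induction ?_ ?_ ?_ ?_ hm
    · intro x hx
      rw [Finsupp.mem_supported]
      intro y hy
      exact Finset.mem_biUnion.mpr ⟨x, hx, hy⟩
    · simp
    · intro x y _ _ hx hy
      rw [map_add, map_add]
      exact Submodule.add_mem _ hx hy
    · intro a x _ hx
      rw [map_smul, map_smul]
      exact Submodule.smul_mem _ _ hx
  let e : S₀ ≃ Fin S₀.card := S₀.equivFin
  let pr : (N →₀ A) →ₗ[A] (Fin S₀.card → A) :=
    { toFun := fun φ i => φ (e.symm i : N)
      map_add' := fun φ ψ => by ext i; simp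
      map_smul' := fun a φ => by ext i; simp }
  let r : (Fin S₀.card → A) →ₗ[A] N := Fintype.linearCombination A (fun i => ((e.symm i : S₀) : N))
  refine ⟨S₀.card, pr ∘ₗ s, r, ?_⟩
  ext m
  change r (pr (s (u m))) = u m
  have h1 : r (pr (s (u m))) = ∑ i : Fin S₀.card, (s (u m)) (e.symm i : N) • ((e.symm i : S₀) : N) := by
    rw [Fintype.linearCombination_apply]
    rfl
  have h2 : ∑ i : Fin S₀.card, (s (u m)) (e.symm i : N) • ((e.symm i : S₀) : N) =
      ∑ x : S₀, (s (u m)) (x : N) • (x : N) :=
    Equiv.sum_comp e.symm (fun x : S₀ => (s (u m)) (x : N) • (x : N))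
  have h3 : ∑ x : S₀, (s (u m)) (x : N) • (x : N) = ∑ x ∈ S₀, (s (u m)) x • x :=
    Finset.sum_coe_sort S₀ (fun x => (s (u m)) x • x)
  have h4 : ∑ x ∈ S₀, (s (u m)) x • x = ∑ x ∈ (s (u m)).support, (s (u m)) x • x := by
    symm
    apply Finset.sum_subset
    · exact (Finsupp.mem_supported A _).mp (hsupp m)
    · intro x _ hx
      rw [Finsupp.notMem_support_iff.mp hx, zero_smul]
  have h5 : ∑ x ∈ (s (u m)).support, (s (u m)) x • x = Finsupp.linearCombination A id (s (u m)) := by
    rw [Finsupp.linearCombination_apply]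
    rfl
  rw [h1, h2, h3, h4, h5]
  exact congrArg (fun f => f (u m)) hs

end Basic

section Loc

variable {A : Type u} [CommRing A] {M : Type v} {N : Type w} [AddCommGroup M] [Module A M]
  [AddCommGroup N] [Module A N]

theorem map_comp_mk (S : Submonoid A) (u : M →ₗ[A] N) :
    (LocalizedModule.map S u).restrictScalars A ∘ₗ LocalizedModule.mkLinearMap S M =
      LocalizedModule.mkLinearMap S N ∘ₗ u := by
  ext m
  change LocalizedModule.map S u (LocalizedModule.mk m 1) = LocalizedModule.mk (u m) 1
  rw [LocalizedModule.map_mk]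

theorem exists_mem_of_leftInverse [Module.Finite A M] [Module.Projective A N] (u : M →ₗ[A] N)
    (S : Submonoid A)
    (h : ∃ w : LocalizedModule S N →ₗ[A] LocalizedModule S M,
      w ∘ₗ (LocalizedModule.map S u).restrictScalars A = LinearMap.id) :
    ∃ f ∈ S, f ∈ splitIdeal u := by
  obtain ⟨w, hw⟩ := h
  obtain ⟨n, v, r, hr⟩ := exists_factor u
  let g₀ : (Fin n → A) →ₗ[A] LocalizedModule S M := w ∘ₗ LocalizedModule.mkLinearMap S N ∘ₗ r
  obtain ⟨h, s, hs⟩ := Module.FinitePresentation.exists_lift_of_isLocalizedModule S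
    (LocalizedModule.mkLinearMap S M) g₀
  have hw' : ∀ x, w (LocalizedModule.map S u x) = x := fun x => LinearMap.congr_fun hw x
  have hr' : ∀ m, r (v (u m)) = u m := fun m => LinearMap.congr_fun hr m
  have hs' : ∀ x, LocalizedModule.mkLinearMap S M (h x) = s • g₀ x := fun x => LinearMap.congr_fun hs x
  have h1 : LocalizedModule.mkLinearMap S M ∘ₗ (h ∘ₗ v ∘ₗ u) =
      LocalizedModule.mkLinearMap S M ∘ₗ ((s : A) • LinearMap.id) := by
    ext m
    change LocalizedModule.mkLinearMap S M (h (v (u m))) = LocalizedModule.mkLinearMap S M ((s : A) • m)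
    rw [hs', map_smul]
    change s • w (LocalizedModule.mkLinearMap S N (r (v (u m)))) = _
    rw [hr']
    have : LocalizedModule.mkLinearMap S N (u m) =
        LocalizedModule.map S u (LocalizedModule.mkLinearMap S M m) :=
      (LinearMap.congr_fun (map_comp_mk S u) m).symm
    rw [this, hw']
    rfl
  obtain ⟨t, ht⟩ := Module.Finite.exists_smul_of_comp_eq_of_isLocalizedModule S
    (LocalizedModule.mkLinearMap S M) _ _ h1
  refine ⟨(t : A) * (s : A), S.mul_mem t.2 s.2, (t : A) • (h ∘ₗ v), ?_⟩
  rw [LinearMap.smul_comp, LinearMap.comp_assoc]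
  change t • (h ∘ₗ v ∘ₗ u) = _
  rw [ht, mul_smul]
  rfl

theorem leftInverse_of_mem (u : M →ₗ[A] N) (S : Submonoid A) {f : A} (hfS : f ∈ S)
    (hf : f ∈ splitIdeal u) :
    ∃ w : LocalizedModule S N →ₗ[A] LocalizedModule S M,
      w ∘ₗ (LocalizedModule.map S u).restrictScalars A = LinearMap.id := by
  obtain ⟨g, hg⟩ := hf
  have hunit := IsLocalizedModule.map_units (LocalizedModule.mkLinearMap S M) ⟨f, hfS⟩
  let φ : Module.End A (LocalizedModule S M) := ((hunit.unit⁻¹ : (Module.End A _)ˣ) : Module.End A _)
  refine ⟨φ ∘ₗ (LocalizedModule.map S g).restrictScalars A, ?_⟩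
  apply IsLocalizedModule.linearMap_ext S (LocalizedModule.mkLinearMap S M)
    (LocalizedModule.mkLinearMap S M)
  ext m
  change φ (LocalizedModule.map S g (LocalizedModule.map S u (LocalizedModule.mkLinearMap S M m))) =
    LocalizedModule.mkLinearMap S M m
  have e1 : LocalizedModule.map S u (LocalizedModule.mkLinearMap S M m) =
      LocalizedModule.mkLinearMap S N (u m) := LinearMap.congr_fun (map_comp_mk S u) m
  have e2 : LocalizedModule.map S g (LocalizedModule.mkLinearMap S N (u m)) =
      LocalizedModule.mkLinearMap S M (g (u m)) := LinearMap.congr_fun (map_comp_mk S g) (u m)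
  have e3 : g (u m) = f • m := LinearMap.congr_fun hg m
  rw [e1, e2, e3, map_smul]
  have : (algebraMap A (Module.End A (LocalizedModule S M)) f) (LocalizedModule.mkLinearMap S M m) =
      f • LocalizedModule.mkLinearMap S M m := rfl
  rw [← this]
  exact Module.End.isUnit_inv_apply_apply_of_isUnit hunit _

theorem leftInverse_iff [Module.Finite A M] [Module.Projective A N] (u : M →ₗ[A] N)
    (S : Submonoid A) :
    (∃ w : LocalizedModule S N →ₗ[A] LocalizedModule S M,
      w ∘ₗ (LocalizedModule.map S u).restrictScalars A = LinearMap.id) ↔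
    ∃ f ∈ S, f ∈ splitIdeal u :=
  ⟨exists_mem_of_leftInverse u S, fun ⟨_, hfS, hf⟩ => leftInverse_of_mem u S hfS hf⟩

end Loc

section Res

variable {A : Type u} [CommRing A] {M : Type v} {N : Type w} [AddCommGroup M] [Module A M]
  [AddCommGroup N] [Module A N]

theorem injective_lTensor_of_mem (u : M →ₗ[A] N) (p : Ideal A) [p.IsPrime] {f : A}
    (hf : f ∈ splitIdeal u) (hfp : f ∉ p) :
    Function.Injective (u.lTensor p.ResidueField) := by
  obtain ⟨g, hg⟩ := hf
  have h1 : ∀ x, (g.lTensor p.ResidueField) ((u.lTensor p.ResidueField) x) = f • x := by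
    intro x
    rw [← LinearMap.comp_apply, ← LinearMap.lTensor_comp, hg, LinearMap.lTensor_smul,
      LinearMap.lTensor_id]
    rfl
  have hne : algebraMap A p.ResidueField f ≠ 0 := by
    rw [Ne, Ideal.algebraMap_residueField_eq_zero]
    exact hfp
  rw [injective_iff_map_eq_zero]
  intro x hx
  have h2 : f • x = 0 := by rw [← h1, hx, map_zero]
  rw [← algebraMap_smul p.ResidueField f x] at h2
  exact (smul_eq_zero.mp h2).resolve_left hne

theorem lTensor_localized_injective (p : Ideal A) [p.IsPrime] (u : M →ₗ[A] N)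
    (h : Function.Injective (u.lTensor p.ResidueField)) :
    Function.Injective ((LocalizedModule.map p.primeCompl u).lTensor p.ResidueField) := by
  let S := p.primeCompl
  let Ap := Localization S
  let k := p.ResidueField
  have hM := (LocalizedModule.isBaseChange S M).comp
    (TensorProduct.isBaseChange Ap (LocalizedModule S M) k)
  have hN := (LocalizedModule.isBaseChange S N).comp
    (TensorProduct.isBaseChange Ap (LocalizedModule S N) k)
  let eM := hM.equiv
  let eN := hN.equiv
  have heM : ∀ (c : k) (m : M), eM (c ⊗ₜ m) = c ⊗ₜ[Ap] LocalizedModule.mkLinearMap S M m := by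
    intro c m
    change c • ((1 : k) ⊗ₜ[Ap] LocalizedModule.mkLinearMap S M m) = _
    rw [TensorProduct.smul_tmul', smul_eq_mul, mul_one]
  have heN : ∀ (c : k) (m : N), eN (c ⊗ₜ m) = c ⊗ₜ[Ap] LocalizedModule.mkLinearMap S N m := by
    intro c m
    change c • ((1 : k) ⊗ₜ[Ap] LocalizedModule.mkLinearMap S N m) = _
    rw [TensorProduct.smul_tmul', smul_eq_mul, mul_one]
  have hsq : ∀ x, ((LocalizedModule.map S u).lTensor k) (eM x) = eN ((u.lTensor k) x) := by
    intro x
    induction x using TensorProduct.induction_on with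
    | zero => simp
    | tmul c m =>
      rw [heM, LinearMap.lTensor_tmul, LinearMap.lTensor_tmul, heN]
      congr 1
      change LocalizedModule.map S u (LocalizedModule.mk m 1) = LocalizedModule.mk (u m) 1
      rw [LocalizedModule.map_mk]
    | add x y hx hy => rw [map_add, map_add, hx, hy, map_add, map_add]
  intro y₁ y₂ hy
  obtain ⟨x₁, rfl⟩ := eM.surjective y₁
  obtain ⟨x₂, rfl⟩ := eM.surjective y₂
  rw [hsq, hsq] at hy
  rw [h (eN.injective hy)]

end Res

section Res2

variable {A : Type u} [CommRing A] {M : Type v} {N : Type w} [AddCommGroup M] [Module A M]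
  [AddCommGroup N] [Module A N]

theorem exists_mem_of_injective_lTensor [Module.Finite A M] [Module.Projective A N]
    (u : M →ₗ[A] N) (p : Ideal A) [p.IsPrime]
    (h : Function.Injective (u.lTensor p.ResidueField)) :
    ∃ f ∈ splitIdeal u, f ∉ p := by
  obtain ⟨n, v, r, hr⟩ := exists_factor u
  have h' : Function.Injective ((v ∘ₗ u).lTensor p.ResidueField) := by
    have : (r.lTensor p.ResidueField) ∘ₗ ((v ∘ₗ u).lTensor p.ResidueField) =
        u.lTensor p.ResidueField := by
      rw [← LinearMap.lTensor_comp, hr]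
    refine Function.Injective.of_comp (f := r.lTensor p.ResidueField) ?_
    rw [← LinearMap.coe_comp, this]
    exact h
  have h'' := lTensor_localized_injective p (v ∘ₗ u) h'
  have : Module.Free (Localization p.primeCompl) (LocalizedModule p.primeCompl (Fin n → A)) :=
    Module.free_of_isLocalizedModule p.primeCompl (LocalizedModule.mkLinearMap _ _)
  obtain ⟨l', hl'⟩ := (IsLocalRing.split_injective_iff_lTensor_residueField_injective
    (R := Localization.AtPrime p) (LocalizedModule.map p.primeCompl (v ∘ₗ u))).mpr h''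
  obtain ⟨f, hfS, g, hg⟩ := exists_mem_of_leftInverse (v ∘ₗ u) p.primeCompl
    ⟨l'.restrictScalars A, by
      ext x
      exact LinearMap.congr_fun hl' x⟩
  exact ⟨f, ⟨g ∘ₗ v, by rw [LinearMap.comp_assoc, hg]⟩, hfS⟩

end Res2

section FourTerm

variable {C : Type u} [CommRing C] {H M N Ω : Type*} [AddCommGroup H] [Module C H]
  [AddCommGroup M] [Module C M] [AddCommGroup N] [Module C N] [AddCommGroup Ω] [Module C Ω]

theorem exists_mem_iff_of_exact [Module.Finite C M] [Module.Projective C N]
    (ι : H →ₗ[C] M) (u : M →ₗ[C] N) (π : N →ₗ[C] Ω)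
    (hι : Function.Injective ι) (h1 : Function.Exact ι u) (h2 : Function.Exact u π)
    (hπ : Function.Surjective π) (S : Submonoid C)
    {H' Ω' : Type*} [AddCommGroup H'] [Module C H'] [AddCommGroup Ω'] [Module C Ω']
    [Module (Localization S) Ω'] [IsScalarTower C (Localization S) Ω']
    (fH : H →ₗ[C] H') [IsLocalizedModule S fH] (fΩ : Ω →ₗ[C] Ω') [IsLocalizedModule S fΩ] :
    (∃ f ∈ S, f ∈ splitIdeal u) ↔
      Subsingleton H' ∧ Module.Projective (Localization S) Ω' := by
  let T := Localization S
  let mM := LocalizedModule.mkLinearMap S M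
  let mN := LocalizedModule.mkLinearMap S N
  let uS : LocalizedModule S M →ₗ[T] LocalizedModule S N := LocalizedModule.map S u
  let πS : LocalizedModule S N →ₗ[T] Ω' := IsLocalizedModule.mapExtendScalars S mN fΩ T π
  have hex : Function.Exact uS πS := IsLocalizedModule.map_exact S mM mN fΩ u π h2
  have hπS : Function.Surjective πS := IsLocalizedModule.map_surjective S mN fΩ π hπ
  constructor
  · rintro ⟨f, hfS, hf⟩
    constructor
    · obtain ⟨g, hg⟩ := hf
      suffices h0 : ∀ y : H', y = 0 from ⟨fun a b => (h0 a).trans (h0 b).symm⟩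
      intro y
      obtain ⟨⟨x, s⟩, rfl⟩ := IsLocalizedModule.mk'_surjective S fH y
      change IsLocalizedModule.mk' fH x s = 0
      rw [IsLocalizedModule.mk'_eq_zero, IsLocalizedModule.eq_zero_iff S]
      refine ⟨⟨f, hfS⟩, hι ?_⟩
      change ι (f • x) = ι 0
      have e1 : u (ι x) = 0 := h1.apply_apply_eq_zero x
      have e2 : g (u (ι x)) = f • ι x := LinearMap.congr_fun hg (ι x)
      rw [map_smul, ← e2, e1, map_zero, map_zero]
    · obtain ⟨w, hw⟩ := leftInverse_of_mem u S hfS hf
      let wT : LocalizedModule S N →ₗ[T] LocalizedModule S M :=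
        LinearMap.extendScalarsOfIsLocalization S T w
      have hwT : wT ∘ₗ uS = LinearMap.id := by
        ext x
        exact LinearMap.congr_fun hw x
      have hinj : Function.Injective uS :=
        Function.HasLeftInverse.injective ⟨wT, LinearMap.congr_fun hwT⟩
      have tf := Function.Exact.split_tfae hex hinj hπS
      have imp : (∃ l, l ∘ₗ uS = LinearMap.id) → (∃ l, πS ∘ₗ l = LinearMap.id) := (tf.out 1 0).mp
      obtain ⟨l, hl⟩ := imp ⟨wT, hwT⟩
      exact Module.Projective.of_split l πS hl
  · rintro ⟨hH, hΩ⟩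
    have hex0 := IsLocalizedModule.map_exact S fH mM mN ι u h1
    have hinj : Function.Injective uS := by
      rw [injective_iff_map_eq_zero]
      intro x hx
      obtain ⟨y, rfl⟩ := (hex0 x).mp hx
      rw [Subsingleton.elim y 0, map_zero]
    obtain ⟨l, hl⟩ := Module.projective_lifting_property πS LinearMap.id hπS
    have tf := Function.Exact.split_tfae hex hinj hπS
    have imp : (∃ l, πS ∘ₗ l = LinearMap.id) → (∃ l, l ∘ₗ uS = LinearMap.id) := (tf.out 0 1).mp
    obtain ⟨l', hl'⟩ := imp ⟨l, hl⟩
    exact exists_mem_of_leftInverse u S ⟨l'.restrictScalars C, by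
      ext x
      exact LinearMap.congr_fun hl' x⟩

end FourTerm

section Smooth

variable {A B C : Type u} [CommRing A] [CommRing B] [CommRing C] [Algebra A B] [Algebra B C]
  [Algebra A C] [IsScalarTower A B C]

/-- the extension attached to a surjection -/
noncomputable def ext (hsurj : Function.Surjective (algebraMap B C)) : Algebra.Extension A C :=
  ⟨B, _, Function.surjInv_eq hsurj⟩

theorem finite_cotangent (hsurj : Function.Surjective (algebraMap B C))
    [Module.Finite B (RingHom.ker (algebraMap B C)).Cotangent] :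
    Module.Finite C (ext (A := A) hsurj).Cotangent := by
  let P := ext (A := A) hsurj
  let e : P.Cotangent ≃ₗ[P.Ring] P.ker.Cotangent :=
    { __ := AddEquiv.refl _, map_smul' := Algebra.Extension.Cotangent.val_smul' }
  have h0 : Module.Finite P.Ring P.ker.Cotangent :=
    inferInstanceAs (Module.Finite B (RingHom.ker (algebraMap B C)).Cotangent)
  have : Module.Finite P.Ring P.Cotangent := Module.Finite.equiv e.symm
  exact Module.Finite.of_restrictScalars_finite P.Ring _ _

theorem formallySmooth_iff_splitIdeal [Algebra.FormallySmooth A B]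
    (hsurj : Function.Surjective (algebraMap B C)) :
    Algebra.FormallySmooth A C ↔ splitIdeal (ext (A := A) hsurj).cotangentComplex = ⊤ := by
  have : Algebra.FormallySmooth A (ext (A := A) hsurj).Ring := ‹_›
  rw [(ext (A := A) hsurj).formallySmooth_iff_split_injection, splitIdeal_eq_top_iff]

theorem formallySmooth_localization_iff [Algebra.FormallySmooth A B]
    (hsurj : Function.Surjective (algebraMap B C))
    [Module.Finite B (RingHom.ker (algebraMap B C)).Cotangent] (S : Submonoid C) :
    Algebra.FormallySmooth A (Localization S) ↔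
      ∃ f ∈ S, f ∈ splitIdeal (ext (A := A) hsurj).cotangentComplex := by
  let P := ext (A := A) hsurj
  have : Algebra.FormallySmooth A P.Ring := ‹_›
  have : Module.Finite C P.Cotangent := finite_cotangent hsurj
  have : Module.Projective C (C ⊗[B] Ω[B⁄A]) := inferInstance
  let fH : P.H1Cotangent →ₗ[C] Algebra.H1Cotangent A (Localization S) :=
    (Algebra.H1Cotangent.map A A C (Localization S)) ∘ₗ
      (Algebra.Extension.equivH1CotangentOfFormallySmooth P).toLinearMap
  have : IsLocalizedModule S fH := IsLocalizedModule.of_linearEquiv_right S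
    (Algebra.H1Cotangent.map A A C (Localization S))
    (Algebra.Extension.equivH1CotangentOfFormallySmooth P)
  rw [exists_mem_iff_of_exact (P.h1Cotangentι) P.cotangentComplex P.toKaehler
    Algebra.Extension.h1Cotangentι_injective P.exact_hCotangentι_cotangentComplex
    P.exact_cotangentComplex_toKaehler P.toKaehler_surjective S fH
    (KaehlerDifferential.map A A C (Localization S)), Algebra.formallySmooth_iff, and_comm]

end Smooth

section Bridge

variable {B C : Type*} [CommRing B] [CommRing C] [Algebra B C]
  {k X Y : Type*} [AddCommGroup k] [Module B k] [Module C k] [IsScalarTower B C k]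
  [AddCommGroup X] [Module B X] [Module C X] [IsScalarTower B C X]
  [AddCommGroup Y] [Module B Y] [Module C Y] [IsScalarTower B C Y]

theorem lTensor_injective_iff_of_surjective (hsurj : Function.Surjective (algebraMap B C))
    (φ : X →ₗ[C] Y) :
    Function.Injective ((φ.restrictScalars B).lTensor k) ↔ Function.Injective (φ.lTensor k) := by
  have : CompatibleSMul B C k X := CompatibleSMul.of_algebraMap_surjective k X hsurj
  have : CompatibleSMul B C k Y := CompatibleSMul.of_algebraMap_surjective k Y hsurj
  let eX : k ⊗[C] X ≃ₗ[B] k ⊗[B] X := equivOfCompatibleSMul B C B k X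
  let eY : k ⊗[C] Y ≃ₗ[B] k ⊗[B] Y := equivOfCompatibleSMul B C B k Y
  have hsq : ∀ z, eY ((φ.lTensor k) z) = ((φ.restrictScalars B).lTensor k) (eX z) := by
    intro z
    induction z using TensorProduct.induction_on with
    | zero => simp
    | tmul c x => rfl
    | add x y hx hy => rw [map_add, map_add, hx, hy, map_add, map_add]
  constructor
  · intro h z₁ z₂ hz
    apply eX.injective
    apply h
    rw [← hsq, ← hsq, hz]
  · intro h z₁ z₂ hz
    obtain ⟨w₁, rfl⟩ := eX.surjective z₁
    obtain ⟨w₂, rfl⟩ := eX.surjective z₂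
    rw [← hsq, ← hsq] at hz
    rw [h (eY.injective hz)]

end Bridge

section Smooth2

variable {A B C : Type u} [CommRing A] [CommRing B] [CommRing C] [Algebra A B] [Algebra B C]
  [Algebra A C] [IsScalarTower A B C]

theorem injective_kerCotangentToTensor_lTensor_iff [Algebra.FormallySmooth A B]
    (hsurj : Function.Surjective (algebraMap B C))
    [Module.Finite B (RingHom.ker (algebraMap B C)).Cotangent] (p : Ideal C) [p.IsPrime] :
    Function.Injective ((kerCotangentToTensor A B C).lTensor p.ResidueField) ↔
      ∃ f ∈ splitIdeal (ext (A := A) hsurj).cotangentComplex, f ∉ p := by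
  let P := ext (A := A) hsurj
  have : Module.Finite C P.Cotangent := finite_cotangent hsurj
  have : Module.Projective C P.CotangentSpace :=
    inferInstanceAs (Module.Projective C (C ⊗[B] Ω[B⁄A]))
  let e₀ : P.Cotangent ≃ₗ[P.Ring] P.ker.Cotangent :=
    { __ := AddEquiv.refl _, map_smul' := Algebra.Extension.Cotangent.val_smul' }
  let e : P.Cotangent ≃ₗ[B] (RingHom.ker (algebraMap B C)).Cotangent := e₀
  have hpt : ∀ z, ((P.cotangentComplex.restrictScalars B).lTensor p.ResidueField) z =
      ((kerCotangentToTensor A B C).lTensor p.ResidueField)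
        ((e.toLinearMap.lTensor p.ResidueField) z) := by
    intro z
    induction z using TensorProduct.induction_on with
    | zero => simp only [map_zero]; rfl
    | tmul c x => rfl
    | add x y hx hy =>
      rw [map_add, map_add, hx, hy]
      exact (map_add _ _ _).symm
  have hb : Function.Bijective (e.toLinearMap.lTensor p.ResidueField) :=
    (e.lTensor p.ResidueField).bijective
  have h2 : Function.Injective ((kerCotangentToTensor A B C).lTensor p.ResidueField) ↔
      Function.Injective ((P.cotangentComplex.restrictScalars B).lTensor p.ResidueField) := by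
    constructor
    · intro h z₁ z₂ hz
      rw [hpt, hpt] at hz
      exact hb.injective (h hz)
    · intro h z₁ z₂ hz
      obtain ⟨w₁, rfl⟩ := hb.surjective z₁
      obtain ⟨w₂, rfl⟩ := hb.surjective z₂
      rw [← hpt, ← hpt] at hz
      rw [h hz]
  rw [h2, lTensor_injective_iff_of_surjective hsurj]
  constructor
  · intro h
    exact exists_mem_of_injective_lTensor P.cotangentComplex p h
  · rintro ⟨f, hf, hfp⟩
    exact injective_lTensor_of_mem P.cotangentComplex p hf hfp

end Smooth2

end Groth.Agent.Lib.Helper5.SplitLoc
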