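import Groth.Agent.Lib.Helper5.ProjSpreadD
import Groth.Agent.Lib.Helper5.AdicRegG
import Groth.Agent.Lib.Helper5.RegularProd
import Groth.Agent.S2036
import Groth.Agent.S2035
import Mathlib

set_option autoImplicit false
universe u

open TensorProduct IsLocalRing

namespace Groth.Agent.Lib.Helper5.ProjSpread

/-- a Noetherian formally smooth algebra over a field is geometrically regular. -/
theorem geomRegular_of_formallySmooth {k A : Type u} [Field k] [CommRing A] [Algebra k A]
    [IsNoetherianRing A] [Algebra.FormallySmooth k A] : CAlg.IsGeometricallyRegular k A := by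
  intro k' _ _ hfin
  have hfinA : Module.Finite A (A ⊗[k] k') := inferInstance
  have hN1 : IsNoetherianRing (A ⊗[k] k') := IsNoetherianRing.of_finite A _
  have hN : IsNoetherianRing (k' ⊗[k] A) :=
    isNoetherianRing_of_ringEquiv _ (Algebra.TensorProduct.comm k A k').toRingEquiv
  apply RegCompletion.isRegularRing_of_maximal
  intro Q hQ
  have h1 : Algebra.FormallySmooth k' (k' ⊗[k] A) := inferInstance
  have h2 : Algebra.FormallySmooth (k' ⊗[k] A) (Localization.AtPrime Q) :=
    Algebra.FormallySmooth.of_isLocalization Q.primeCompl
  have h3 : Algebra.FormallySmooth k' (Localization.AtPrime Q) :=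
    Algebra.FormallySmooth.comp k' (k' ⊗[k] A) (Localization.AtPrime Q)
  exact AdicReg.isRegularLocalRing_of_adicSmooth
    (adicSmooth_of_formallySmooth' (R := k') (maximalIdeal (Localization.AtPrime Q)))

/-- geometric regularity passes to the local rings. -/
theorem geomRegular_localization {k A : Type u} [Field k] [CommRing A] [Algebra k A]
    (hgeo : CAlg.IsGeometricallyRegular k A) (p : Ideal A) [p.IsPrime] :
    CAlg.IsGeometricallyRegular k (Localization.AtPrime p) := by
  intro k' _ _ hfin
  have hreg : IsRegularRing (TensorProduct k k' A) := hgeo k' hfin
  let M' : Submonoid (TensorProduct k k' A) :=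
    p.primeCompl.map (Algebra.TensorProduct.includeRight (R := k) (A := k'))
  have hreg' : IsRegularRing (Localization M') :=
    Groth.Agent.Lib.Helper5.RegularProd.isRegularRing_of_isLocalization M' _
  let e := IsLocalization.tensorProductEquivOfMapIncludeRight k k' p.primeCompl
    (Localization.AtPrime p) (Localization M')
  exact IsRegularRing.of_ringEquiv e.symm.toRingEquiv

/-- a Noetherian local algebra over a field which is geometrically regular is adically formally
smooth. -/
theorem adicSmooth_of_geomRegular {k A : Type u} [Field k] [CommRing A] [IsLocalRing A]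
    [IsNoetherianRing A] [Algebra k A] (hgeo : CAlg.IsGeometricallyRegular k A) :
    CAlgX.IsAdicFormallySmooth k A (maximalIdeal A) := by
  obtain ⟨q, hq⟩ := CharP.exists k
  rcases CharP.char_is_prime_or_zero k q with hprime | h0
  · have hfact : Fact q.Prime := ⟨hprime⟩
    exact (Groth.Agent.S2036.result q).mp hgeo
  · subst h0
    have hz : CharZero k := CharP.charP_to_charZero k
    have h1 : IsRegularRing (TensorProduct k k A) := hgeo k (Module.Finite.self k)
    have h2 : IsRegularRing A :=
      IsRegularRing.of_ringEquiv (Algebra.TensorProduct.lid k A).toRingEquiv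
    have h3 : IsRegularLocalRing A := IsRegularLocalRing.of_isRegularRing_of_isLocalRing _
    exact Groth.Agent.S2035.result.mp h3

variable {R P C : Type u} [Field R] [CommRing P] [CommRing C] [Algebra R P] [Algebra P C]
  [Algebra R C] [IsScalarTower R P C] [Algebra.FormallySmooth R P] [IsNoetherianRing P]

include P in
theorem tfae_global (hsurj : Function.Surjective (algebraMap P C)) :
    [Algebra.FormallySmooth R C,
     ∀ (p : Ideal C) [p.IsPrime], Algebra.FormallySmooth R (Localization.AtPrime p),
     ∀ (m : Ideal C) [m.IsMaximal], Algebra.FormallySmooth R (Localization.AtPrime m),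
     CAlg.IsGeometricallyRegular R C].TFAE := by
  have hN : IsNoetherianRing C := isNoetherianRing_of_surjective P C (algebraMap P C) hsurj
  tfae_have 1 → 2 := by
    intro h p _
    have h2 : Algebra.FormallySmooth C (Localization.AtPrime p) :=
      Algebra.FormallySmooth.of_isLocalization p.primeCompl
    exact Algebra.FormallySmooth.comp R C (Localization.AtPrime p)
  tfae_have 2 → 3 := by
    intro h m _
    exact h m
  tfae_have 3 → 1 := by
    intro h
    exact formallySmooth_of_forall_maximal (R := R) (P := P) hsurj h
  tfae_have 1 → 4 := by
    intro h
    exact geomRegular_of_formallySmooth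
  tfae_have 4 → 3 := by
    intro h m _
    have h1 := geomRegular_localization h m
    have h2 := adicSmooth_of_geomRegular h1
    exact formallySmooth_localization_of_adic (R := R) (P := P) hsurj m h2
  tfae_finish

include P in
theorem tfae_local (hsurj : Function.Surjective (algebraMap P C)) (p : Ideal C) [p.IsPrime] :
    [Algebra.FormallySmooth R (Localization.AtPrime p),
     CAlgX.IsAdicFormallySmooth R (Localization.AtPrime p) (maximalIdeal (Localization.AtPrime p)),
     ∃ f : C, f ∉ p ∧ Algebra.FormallySmooth R (Localization.Away f),
     CAlg.IsGeometricallyRegular R (Localization.AtPrime p)].TFAE := by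
  have hN : IsNoetherianRing C := isNoetherianRing_of_surjective P C (algebraMap P C) hsurj
  tfae_have 1 → 2 := by
    intro h
    exact adicSmooth_of_formallySmooth' _
  tfae_have 2 → 1 := by
    intro h
    exact formallySmooth_localization_of_adic (R := R) (P := P) hsurj p h
  tfae_have 1 → 3 := by
    intro h
    exact exists_away_formallySmooth (R := R) (P := P) hsurj p h
  tfae_have 3 → 1 := by
    rintro ⟨f, hf, h⟩
    have hle : Submonoid.powers f ≤ p.primeCompl := by
      rw [Submonoid.powers_le]
      exact hf
    let _ : Algebra (Localization.Away f) (Localization.AtPrime p) :=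
      IsLocalization.localizationAlgebraOfSubmonoidLe _ _ (Submonoid.powers f) p.primeCompl hle
    have htow : IsScalarTower C (Localization.Away f) (Localization.AtPrime p) :=
      IsLocalization.localization_isScalarTower_of_submonoid_le _ _ (Submonoid.powers f)
        p.primeCompl hle
    have hloc := IsLocalization.isLocalization_of_submonoid_le (Localization.Away f)
      (Localization.AtPrime p) (Submonoid.powers f) p.primeCompl hle
    have h2 : Algebra.FormallySmooth (Localization.Away f) (Localization.AtPrime p) :=
      Algebra.FormallySmooth.of_isLocalization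
        (p.primeCompl.map (algebraMap C (Localization.Away f)))
    have htow2 : IsScalarTower R (Localization.Away f) (Localization.AtPrime p) := by
      refine IsScalarTower.of_algebraMap_eq (fun r => ?_)
      rw [IsScalarTower.algebraMap_apply R C (Localization.AtPrime p),
        IsScalarTower.algebraMap_apply C (Localization.Away f) (Localization.AtPrime p),
        ← IsScalarTower.algebraMap_apply R C (Localization.Away f)]
    exact Algebra.FormallySmooth.comp R (Localization.Away f) (Localization.AtPrime p)
  tfae_have 2 → 4 := by
    intro h
    exact AdicReg.geomRegular_of_adicSmooth h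
  tfae_have 4 → 2 := by
    intro h
    exact adicSmooth_of_geomRegular h
  tfae_finish

end Groth.Agent.Lib.Helper5.ProjSpread
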