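import Groth.Agent.Lib.Helper5.CartierIndex
import Groth.Agent.Lib.Helper5.SepSmooth
import Mathlib.RingTheory.Smooth.Field
import Mathlib.RingTheory.Etale.Kaehler
import Mathlib.RingTheory.Kaehler.Polynomial

set_option autoImplicit false
set_option linter.unusedSectionVars false
universe u

namespace Groth.Agent.Lib.Helper5.Cartier

open TensorProduct Module

section Convert

variable (K L : Type u) [Field K] [Field L] [Algebra K L]

/-- the cokernel of `L ⊗ Ω_K → Ω_L` is `Ω_{L/K}` -/
noncomputable def cokerEquiv :
    (Ω[L⁄ℤ] ⧸ LinearMap.range (KaehlerDifferential.mapBaseChange ℤ K L)) ≃ₗ[L] Ω[L⁄K] :=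
  (Submodule.quotEquivOfEq _ _ (KaehlerDifferential.range_mapBaseChange ℤ K L)).trans
    (LinearMap.quotKerEquivOfSurjective _ (KaehlerDifferential.map_surjective ℤ K L))

variable {K L}

theorem CData.finite_kaehler {n : ℕ} (h : CData K L n) : Module.Finite L Ω[L⁄K] :=
  haveI := h.finCoker
  Module.Finite.equiv (cokerEquiv K L)

theorem CData.finrank_eq {n : ℕ} (h : CData K L n) :
    (finrank L Ω[L⁄K] : ℤ) -
      finrank L (LinearMap.ker (KaehlerDifferential.mapBaseChange ℤ K L)) = n := by
  have h1 := h.index_eq
  rw [LinearMap.index_eq_finrank_sub, (cokerEquiv K L).finrank_eq] at h1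
  linarith

theorem CData.mk' {n : ℕ} [Module.Finite L Ω[L⁄K]]
    (hker : FiniteDimensional L (LinearMap.ker (KaehlerDifferential.mapBaseChange ℤ K L)))
    (h : (finrank L Ω[L⁄K] : ℤ) -
      finrank L (LinearMap.ker (KaehlerDifferential.mapBaseChange ℤ K L)) = n) :
    CData K L n := by
  refine ⟨hker, Module.Finite.equiv (cokerEquiv K L).symm, ?_⟩
  rw [LinearMap.index_eq_finrank_sub, (cokerEquiv K L).finrank_eq]
  linarith

/-- formally smooth extensions have no imperfection -/
theorem cdata_of_formallySmooth [Algebra.FormallySmooth K L] [Module.Finite L Ω[L⁄K]] :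
    CData K L (finrank L Ω[L⁄K]) := by
  have hinj := SepSmooth.mapBaseChange_injective_of_formallySmooth (k := K) (K := L) ℤ
  have hker : LinearMap.ker (KaehlerDifferential.mapBaseChange ℤ K L) = ⊥ :=
    LinearMap.ker_eq_bot.2 hinj
  refine CData.mk' ?_ ?_
  · rw [hker]; infer_instance
  · rw [hker, finrank_bot]; simp

end Convert

section Steps

variable {K L : Type u} [Field K] [Field L] [Algebra K L]

/-- separable algebraic extensions -/
theorem cdata_of_isSeparable [Algebra.IsSeparable K L] : CData K L 0 := by
  haveI : Algebra.FormallyEtale K L := Algebra.FormallyEtale.of_isSeparable K L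
  haveI : Subsingleton Ω[L⁄K] := inferInstance
  have h := cdata_of_formallySmooth (K := K) (L := L)
  rwa [finrank_zero_of_subsingleton] at h

/-- purely transcendental extensions of finite type -/
theorem cdata_of_algebraicIndependent {ι : Type*} [Fintype ι] (t : ι → L)
    (ht : AlgebraicIndependent K t) (htop : IntermediateField.adjoin K (Set.range t) = ⊤) :
    CData K L (Fintype.card ι) := by
  haveI : Algebra.FormallySmooth K L := Algebra.FormallySmooth.of_algebraicIndependent ht htop
  letI algPL : Algebra (MvPolynomial ι K) L := (MvPolynomial.aeval t).toRingHom.toAlgebra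
  haveI : IsScalarTower K (MvPolynomial ι K) L :=
    IsScalarTower.of_algebraMap_eq (fun r => ((MvPolynomial.aeval t).commutes r).symm)
  have hinj : Function.Injective (algebraMap (MvPolynomial ι K) L) := ht
  haveI : FaithfulSMul (MvPolynomial ι K) L := (faithfulSMul_iff_algebraMap_injective _ _).2 hinj
  haveI : IsFractionRing (MvPolynomial ι K) L := IsFractionRing.of_field _ _ (fun z => by
    have hz : z ∈ IntermediateField.adjoin K (Set.range t) := htop ▸ IntermediateField.mem_top
    obtain ⟨r, s, h⟩ := (IntermediateField.mem_adjoin_range_iff K t z).1 hz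
    exact ⟨r, s, h⟩)
  haveI : Algebra.FormallyEtale (MvPolynomial ι K) L :=
    Algebra.FormallyEtale.of_isLocalization (nonZeroDivisors (MvPolynomial ι K))
  let e := KaehlerDifferential.tensorKaehlerEquivOfFormallyEtale K (MvPolynomial ι K) L
  let b' : Module.Basis ι L Ω[L⁄K] :=
    ((KaehlerDifferential.mvPolynomialBasis K ι).baseChange L).map e
  haveI : Module.Finite L Ω[L⁄K] := Module.Finite.of_basis b'
  have hrank : finrank L Ω[L⁄K] = Fintype.card ι := Module.finrank_eq_card_basis b'
  have h := cdata_of_formallySmooth (K := K) (L := L)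
  rwa [hrank] at h

end Steps

end Groth.Agent.Lib.Helper5.Cartier
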