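import Groth.Agent.Lib.Helper5.CartierRel

set_option autoImplicit false
set_option linter.unusedSectionVars false
universe u
open scoped TensorProduct
open EGA41

namespace Groth.Agent.Lib.Helper5.Cartier

open KaehlerDifferential ImperfTower Module

variable (k K L : Type u) [Field k] [Field K] [Field L]
  [Algebra k K] [Algebra K L] [Algebra k L] [IsScalarTower k K L]

/-- the cokernel of `L ⊗ Ω_{K/k} → Ω_{L/k}` is `Ω_{L/K}` -/
noncomputable def cokerEquivRel :
    (Ω[L⁄k] ⧸ LinearMap.range (KaehlerDifferential.mapBaseChange k K L)) ≃ₗ[L] Ω[L⁄K] :=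
  (Submodule.quotEquivOfEq _ _ (KaehlerDifferential.range_mapBaseChange k K L)).trans
    (LinearMap.quotKerEquivOfSurjective _ (KaehlerDifferential.map_surjective k K L))

theorem finite_baseChange_kaehler [Module.Finite L Ω[L⁄k]]
    [Module.Finite L (imperfection k K L)] : Module.Finite L (L ⊗[K] Ω[K⁄k]) := by
  haveI : Module.Finite L (LinearMap.ker (KaehlerDifferential.mapBaseChange k K L)) :=
    ‹Module.Finite L (imperfection k K L)›
  haveI : Module.Finite L ((L ⊗[K] Ω[K⁄k]) ⧸
      LinearMap.ker (KaehlerDifferential.mapBaseChange k K L)) :=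
    Module.Finite.equiv (KaehlerDifferential.mapBaseChange k K L).quotKerEquivRange.symm
  exact Module.Finite.of_submodule_quotient
    (LinearMap.ker (KaehlerDifferential.mapBaseChange k K L))

theorem finite_kaehler_of_baseChange [Module.Finite L (L ⊗[K] Ω[K⁄k])] :
    Module.Finite K Ω[K⁄k] := by
  rw [← Module.rank_lt_aleph0_iff]
  have h1 : Module.rank L (L ⊗[K] Ω[K⁄k]) < Cardinal.aleph0 := Module.rank_lt_aleph0 _ _
  rw [Module.rank_baseChange, Cardinal.lift_id] at h1
  exact h1

theorem finrank_rel [Module.Finite L Ω[L⁄k]] [Module.Finite L (imperfection k K L)] :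
    (finrank L Ω[L⁄k] : ℤ) - finrank K Ω[K⁄k] =
      (finrank L Ω[L⁄K] : ℤ) - finrank L (imperfection k K L) := by
  haveI := finite_baseChange_kaehler k K L
  have h1 := LinearMap.index_eq_of_finiteDimensional (f := KaehlerDifferential.mapBaseChange k K L)
  rw [LinearMap.index_eq_finrank_sub, (cokerEquivRel k K L).finrank_eq,
    Module.finrank_baseChange] at h1
  have h2 : finrank L (LinearMap.ker (KaehlerDifferential.mapBaseChange k K L)) =
      finrank L (imperfection k K L) := rfl
  rw [h2] at h1
  linarith

end Groth.Agent.Lib.Helper5.Cartier
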