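import Groth.Agent.Lib.Helper5.ImperfTower
import Mathlib.RingTheory.Flat.Equalizer

set_option autoImplicit false
set_option linter.unusedSectionVars false
universe w
open scoped TensorProduct
open EGA41

namespace Groth.Agent.Lib.Helper5.ImperfTower

open KaehlerDifferential

section Up

variable (R : Type*) (A : Type*) (B : Type*) (C : Type*) [CommRing R] [CommRing A] [CommRing B]
  [CommRing C] [Algebra R A] [Algebra R B] [Algebra A B] [IsScalarTower R A B]
  [Algebra A C] [Algebra B C] [IsScalarTower A B C]

/-- `C ⊗_A Ω_{A/R} → C ⊗_B Ω_{B/R}` -/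
noncomputable def up : C ⊗[A] Ω[A⁄R] →ₗ[C] C ⊗[B] Ω[B⁄R] :=
  ((KaehlerDifferential.mapBaseChange R A B).baseChange C).comp
    (TensorProduct.AlgebraTensorModule.cancelBaseChange A B C C Ω[A⁄R]).symm.toLinearMap

lemma up_apply (z : C ⊗[A] Ω[A⁄R]) :
    up R A B C z = ((KaehlerDifferential.mapBaseChange R A B).baseChange C)
      ((TensorProduct.AlgebraTensorModule.cancelBaseChange A B C C Ω[A⁄R]).symm z) := rfl

lemma up_tmul (c : C) (ω : Ω[A⁄R]) :
    up R A B C (c ⊗ₜ ω) = c ⊗ₜ[B] KaehlerDifferential.map R R A B ω := by
  rw [up_apply, TensorProduct.AlgebraTensorModule.cancelBaseChange_symm_tmul,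
    LinearMap.baseChange_tmul, KaehlerDifferential.mapBaseChange_tmul, one_smul]

lemma up_tmul_D (c : C) (a : A) :
    up R A B C (c ⊗ₜ KaehlerDifferential.D R A a) =
      c ⊗ₜ[B] KaehlerDifferential.D R B (algebraMap A B a) := by
  rw [up_tmul, KaehlerDifferential.map_D]

lemma mapBaseChange_up [Algebra R C] [IsScalarTower R A C] [IsScalarTower R B C]
    (z : C ⊗[A] Ω[A⁄R]) :
    KaehlerDifferential.mapBaseChange R B C (up R A B C z) =
      KaehlerDifferential.mapBaseChange R A C z := by
  have : (KaehlerDifferential.mapBaseChange R B C).comp (up R A B C) =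
      KaehlerDifferential.mapBaseChange R A C := by
    apply ext_tensor_kaehler
    intro a
    rw [LinearMap.comp_apply, up_tmul_D, KaehlerDifferential.mapBaseChange_tmul,
      KaehlerDifferential.mapBaseChange_tmul, KaehlerDifferential.map_D,
      KaehlerDifferential.map_D, ← IsScalarTower.algebraMap_apply]
  exact LinearMap.congr_fun this z

end Up

section UpChg

variable (R : Type*) (S : Type*) (A : Type*) (B : Type*) (C : Type*) [CommRing R] [CommRing S]
  [CommRing A] [CommRing B] [CommRing C]
  [Algebra R S] [Algebra R A] [Algebra S A] [IsScalarTower R S A]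
  [Algebra R B] [Algebra S B] [Algebra A B] [IsScalarTower R A B] [IsScalarTower S A B]
  [Algebra A C] [Algebra B C] [IsScalarTower A B C]

lemma chg_up [IsScalarTower R S B] (z : C ⊗[A] Ω[A⁄R]) :
    chg R S B C (up R A B C z) = up S A B C (chg R S A C z) := by
  have : (chg R S B C).comp (up R A B C) = (up S A B C).comp (chg R S A C) := by
    apply ext_tensor_kaehler
    intro a
    rw [LinearMap.comp_apply, LinearMap.comp_apply, up_tmul_D, chg_tmul_D, chg_tmul_D, up_tmul_D]
  exact LinearMap.congr_fun this z

variable [Algebra R C] [Algebra S C] [IsScalarTower R A C] [IsScalarTower S A C]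
  [IsScalarTower R B C] [IsScalarTower S B C] [IsScalarTower R S B] [IsScalarTower R S C]

lemma up_low (t : C ⊗[S] Ω[S⁄R]) : up R A B C (low R S A C t) = low R S B C t := by
  have : (up R A B C).comp (low R S A C) = low R S B C := by
    apply ext_tensor_kaehler
    intro x
    rw [LinearMap.comp_apply, low_tmul_D, low_tmul_D, up_tmul_D, ← IsScalarTower.algebraMap_apply]
  exact LinearMap.congr_fun this t

end UpChg

section ExactLow

variable (R : Type*) (S : Type*) (A : Type*) (B : Type*) [CommRing R] [CommRing S] [CommRing A]
  [CommRing B] [Algebra R S] [Algebra R A] [Algebra S A] [IsScalarTower R S A]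
  [Algebra A B] [Algebra R B] [Algebra S B] [IsScalarTower R A B] [IsScalarTower S A B]
  [IsScalarTower R S B]

lemma exists_low_eq (w : B ⊗[A] Ω[A⁄R]) (hw : chg R S A B w = 0) :
    ∃ t, low R S A B t = w := by
  have hex : Function.Exact
      ((KaehlerDifferential.mapBaseChange R S A).lTensor B)
      ((KaehlerDifferential.map R S A A).lTensor B) :=
    lTensor_exact B (KaehlerDifferential.exact_mapBaseChange_map R S A)
      (KaehlerDifferential.map_surjective R S A)
  have hw' : ((KaehlerDifferential.map R S A A).lTensor B) w = 0 := hw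
  obtain ⟨u, hu⟩ := (hex w).1 hw'
  refine ⟨TensorProduct.AlgebraTensorModule.cancelBaseChange S A B B Ω[S⁄R] u, ?_⟩
  have : (low R S A B).comp
      (TensorProduct.AlgebraTensorModule.cancelBaseChange S A B B Ω[S⁄R]).toLinearMap =
      (KaehlerDifferential.mapBaseChange R S A).baseChange B := by
    apply TensorProduct.AlgebraTensorModule.ext
    intro b y
    induction y using TensorProduct.induction_on with
    | zero => simp
    | tmul a ω =>
      rw [LinearMap.comp_apply, LinearEquiv.coe_coe,
        TensorProduct.AlgebraTensorModule.cancelBaseChange_tmul, low_tmul,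
        LinearMap.baseChange_tmul, KaehlerDifferential.mapBaseChange_tmul,
        TensorProduct.smul_tmul]
    | add y y' h1 h2 => rw [TensorProduct.tmul_add, map_add, map_add, h1, h2]
  rw [← hu]
  exact LinearMap.congr_fun this u

end ExactLow

section RankKer

variable {B C : Type w} [Field B] [Field C] [Algebra B C] {V Y : Type w} [AddCommGroup V]
  [Module B V] [AddCommGroup Y] [Module B Y]

lemma rank_ker_baseChange (g : V →ₗ[B] Y) :
    Module.rank C (LinearMap.ker (g.baseChange C)) = Module.rank B (LinearMap.ker g) := by
  have h1 := (LinearMap.tensorKerEquiv C C g).rank_eq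
  have h2 := Module.rank_baseChange (R := C) (S := B) (M' := LinearMap.ker g)
  rw [Cardinal.lift_id] at h2
  rw [← h2, h1]
  rfl

variable {Y' : Type w} [AddCommGroup Y'] [Module B Y']

lemma ker_baseChange_prod (g : V →ₗ[B] Y) (g' : V →ₗ[B] Y') :
    LinearMap.ker ((g.prod g').baseChange C) =
      LinearMap.ker (g.baseChange C) ⊓ LinearMap.ker (g'.baseChange C) := by
  have hid : ((LinearMap.inl B Y Y').comp (LinearMap.fst B Y Y') +
      (LinearMap.inr B Y Y').comp (LinearMap.snd B Y Y')) = LinearMap.id := by
    apply LinearMap.ext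
    rintro ⟨y, y'⟩
    simp
  ext u
  simp only [LinearMap.mem_ker, Submodule.mem_inf]
  constructor
  · intro h
    have h1 : ((LinearMap.fst B Y Y').baseChange C) (((g.prod g').baseChange C) u) = 0 := by
      rw [h, map_zero]
    have h2 : ((LinearMap.snd B Y Y').baseChange C) (((g.prod g').baseChange C) u) = 0 := by
      rw [h, map_zero]
    rw [← LinearMap.comp_apply, ← LinearMap.baseChange_comp, LinearMap.fst_prod] at h1
    rw [← LinearMap.comp_apply, ← LinearMap.baseChange_comp, LinearMap.snd_prod] at h2
    exact ⟨h1, h2⟩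
  · rintro ⟨h1, h2⟩
    have : ((g.prod g').baseChange C) u =
        ((LinearMap.id : Y × Y' →ₗ[B] Y × Y').baseChange C) (((g.prod g').baseChange C) u) := by
      rw [LinearMap.baseChange_id]; rfl
    rw [this, ← hid, LinearMap.baseChange_add, LinearMap.add_apply,
      LinearMap.baseChange_comp, LinearMap.baseChange_comp, LinearMap.comp_apply,
      LinearMap.comp_apply, ← LinearMap.comp_apply (f := (LinearMap.fst B Y Y').baseChange C),
      ← LinearMap.comp_apply (f := (LinearMap.snd B Y Y').baseChange C),
      ← LinearMap.baseChange_comp, ← LinearMap.baseChange_comp, LinearMap.fst_prod,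
      LinearMap.snd_prod, h1, h2, map_zero, map_zero, add_zero]

end RankKer

section ExtTower

variable (R : Type*) (S : Type*) {A B C : Type w} [CommRing R] [CommRing S] [CommRing A]
  [Field B] [Field C]
  [Algebra R S] [Algebra R A] [Algebra S A] [IsScalarTower R S A]
  [Algebra R B] [Algebra S B] [IsScalarTower R S B]
  [Algebra A B] [Algebra A C] [Algebra B C] [IsScalarTower A B C]
  [Algebra R C] [Algebra S C] [IsScalarTower R A B] [IsScalarTower S A B]
  [IsScalarTower R A C] [IsScalarTower S A C] [IsScalarTower R B C] [IsScalarTower S B C]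

lemma chg_cancel (u : C ⊗[B] (B ⊗[A] Ω[A⁄R])) :
    chg R S A C (TensorProduct.AlgebraTensorModule.cancelBaseChange A B C C Ω[A⁄R] u) =
      TensorProduct.AlgebraTensorModule.cancelBaseChange A B C C Ω[A⁄S]
        (((chg R S A B).baseChange C) u) := by
  have : (chg R S A C).comp
      (TensorProduct.AlgebraTensorModule.cancelBaseChange A B C C Ω[A⁄R]).toLinearMap =
      (TensorProduct.AlgebraTensorModule.cancelBaseChange A B C C Ω[A⁄S]).toLinearMap.comp
        ((chg R S A B).baseChange C) := by
    apply TensorProduct.AlgebraTensorModule.ext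
    intro c y
    induction y using TensorProduct.induction_on with
    | zero => simp
    | tmul b ω =>
      rw [LinearMap.comp_apply, LinearMap.comp_apply, LinearEquiv.coe_coe, LinearEquiv.coe_coe,
        TensorProduct.AlgebraTensorModule.cancelBaseChange_tmul, LinearMap.baseChange_tmul,
        chg, LinearMap.baseChange_tmul, LinearMap.baseChange_tmul,
        TensorProduct.AlgebraTensorModule.cancelBaseChange_tmul]
    | add y y' h1 h2 => rw [TensorProduct.tmul_add, map_add, map_add, h1, h2]
  exact LinearMap.congr_fun this u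

theorem rank_defect_ext :
    Module.rank C ↥(EGA41.imperfection R A C ⊓ LinearMap.ker (chg R S A C)) =
      Module.rank C ↥(EGA41.imperfection R B C ⊓ LinearMap.ker (chg R S B C)) +
        Module.rank B ↥(EGA41.imperfection R A B ⊓ LinearMap.ker (chg R S A B)) := by
  have hRSC : IsScalarTower R S C := isScalarTower_of_tower R S (A := A)
  set Δ := EGA41.imperfection R A C ⊓ LinearMap.ker (chg R S A C) with hΔ
  set Δ' := EGA41.imperfection R B C ⊓ LinearMap.ker (chg R S B C) with hΔ'
  set N := LinearMap.ker (up R A B C) ⊓ LinearMap.ker (chg R S A C) with hN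
  have hrange : LinearMap.range ((up R A B C).domRestrict Δ) = Δ' := by
    rw [LinearMap.range_domRestrict]
    apply le_antisymm
    · rintro _ ⟨z, hz, rfl⟩
      refine ⟨?_, ?_⟩
      · change KaehlerDifferential.mapBaseChange R B C _ = 0
        rw [mapBaseChange_up]
        exact hz.1
      · change chg R S B C _ = 0
        rw [chg_up]
        have : chg R S A C z = 0 := hz.2
        rw [this, map_zero]
    · intro w hw
      obtain ⟨t, ht⟩ := exists_low_eq R S B C w hw.2
      refine ⟨low R S A C t, ⟨?_, ?_⟩, ?_⟩
      · change KaehlerDifferential.mapBaseChange R A C _ = 0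
        rw [← mapBaseChange_up R A B C, up_low, ht]
        exact hw.1
      · exact chg_low R S A C t
      · rw [up_low, ht]
  have hNΔ : N ≤ Δ := by
    intro z hz
    refine ⟨?_, hz.2⟩
    change KaehlerDifferential.mapBaseChange R A C z = 0
    have : up R A B C z = 0 := hz.1
    rw [← mapBaseChange_up R A B C, this, map_zero]
  have hker : LinearMap.ker ((up R A B C).domRestrict Δ) = N.comap Δ.subtype := by
    rw [LinearMap.ker_domRestrict]
    ext ⟨z, hz⟩
    constructor
    · intro h
      exact ⟨h, hz.2⟩
    · intro h
      exact h.1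
  have key := LinearMap.rank_range_add_rank_ker (R := C) (M := Δ) (M₁ := C ⊗[B] Ω[B⁄R])
    ((up R A B C).domRestrict Δ)
  rw [hrange, hker, (Submodule.comapSubtypeEquivOfLe hNΔ).rank_eq] at key
  rw [← key]
  congr 1
  -- rank of N
  set g := (KaehlerDifferential.mapBaseChange R A B).prod (chg R S A B) with hg
  have hkerg : LinearMap.ker g = EGA41.imperfection R A B ⊓ LinearMap.ker (chg R S A B) :=
    LinearMap.ker_prod _ _
  rw [← hkerg, ← rank_ker_baseChange (C := C) g, hg, ker_baseChange_prod]
  set e := TensorProduct.AlgebraTensorModule.cancelBaseChange A B C C Ω[A⁄R] with he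
  have hmap : N = (LinearMap.ker ((KaehlerDifferential.mapBaseChange R A B).baseChange C) ⊓
      LinearMap.ker ((chg R S A B).baseChange C)).map e.toLinearMap := by
    ext z
    constructor
    · intro hz
      refine ⟨e.symm z, ⟨?_, ?_⟩, e.apply_symm_apply z⟩
      · exact hz.1
      · change ((chg R S A B).baseChange C) (e.symm z) = 0
        have h2 : chg R S A C z = 0 := hz.2
        have := chg_cancel R S (e.symm z)
        rw [← he, e.apply_symm_apply, h2] at this
        exact (LinearEquiv.map_eq_zero_iff _).1 this.symm
    · rintro ⟨u, hu, rfl⟩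
      refine ⟨?_, ?_⟩
      · change up R A B C (e u) = 0
        rw [up_apply, ← he, e.symm_apply_apply]
        exact hu.1
      · change chg R S A C (e u) = 0
        rw [he, chg_cancel]
        have : ((chg R S A B).baseChange C) u = 0 := hu.2
        rw [this, map_zero]
  rw [hmap]
  exact (e.submoduleMap _).rank_eq.symm

end ExtTower

end Groth.Agent.Lib.Helper5.ImperfTower
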