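import Groth.Agent.Lib.Helper5.ComplFreeE
import Mathlib

set_option autoImplicit false
set_option linter.unusedSectionVars false
universe u

open TensorProduct KaehlerDifferential IsLocalRing

namespace Groth.Agent.Lib.Helper5.ComplFree

variable (k₀ A : Type u) [Field k₀] [CommRing A] [IsLocalRing A] [Algebra k₀ A]

/-- the map between the fibres of absolute and relative differentials. -/
noncomputable def absToRel :
    (ResidueField A) ⊗[A] Ω[A⁄ℤ] →ₗ[ResidueField A] (ResidueField A) ⊗[A] Ω[A⁄k₀] :=
  (KaehlerDifferential.map ℤ k₀ A A).baseChange (ResidueField A)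

theorem absToRel_comp_cotToTensor :
    (absToRel k₀ A).comp (cotToTensor ℤ A) = cotToTensor k₀ A := by
  apply LinearMap.ext
  intro x
  obtain ⟨f, rfl⟩ := Ideal.toCotangent_surjective _ x
  rw [LinearMap.comp_apply, cotToTensor_toCotangent, cotToTensor_toCotangent]
  unfold absToRel
  rw [LinearMap.baseChange_tmul, KaehlerDifferential.map_D]
  rfl

theorem ker_absToRel : LinearMap.ker (absToRel k₀ A) = LinearMap.range (baseToTensor k₀ A) := by
  have hex : Function.Exact ((KaehlerDifferential.mapBaseChange ℤ k₀ A).lTensor (ResidueField A))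
      ((KaehlerDifferential.map ℤ k₀ A A).lTensor (ResidueField A)) :=
    lTensor_exact (ResidueField A) (KaehlerDifferential.exact_mapBaseChange_map ℤ k₀ A)
      (KaehlerDifferential.map_surjective ℤ k₀ A)
  ext y
  rw [LinearMap.mem_ker]
  have h1 : absToRel k₀ A y = (KaehlerDifferential.map ℤ k₀ A A).lTensor (ResidueField A) y := by
    unfold absToRel
    rw [LinearMap.baseChange_eq_ltensor]
  rw [h1, hex y]
  constructor
  · rintro ⟨z, rfl⟩
    exact ⟨_, baseToTensor_cancel k₀ A z⟩
  · rintro ⟨w, rfl⟩
    refine ⟨(TensorProduct.AlgebraTensorModule.cancelBaseChange k₀ A (ResidueField A)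
      (ResidueField A) Ω[k₀⁄ℤ]).symm w, ?_⟩
    rw [← baseToTensor_cancel, LinearEquiv.apply_symm_apply]

variable {k₀ A}

theorem baseToTensor_injective (hfs : CAlgX.IsAdicFormallySmooth k₀ A (maximalIdeal A)) :
    Function.Injective (baseToTensor k₀ A) := by
  have h1 := Groth.Agent.Lib.Helper5.KahlerInj.injective_of_adicSmooth hfs
  intro w w' hww'
  have h2 : ∀ w, baseToTensor k₀ A w =
      (KaehlerDifferential.mapBaseChange ℤ k₀ A).lTensor (ResidueField A)
        ((TensorProduct.AlgebraTensorModule.cancelBaseChange k₀ A (ResidueField A)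
          (ResidueField A) Ω[k₀⁄ℤ]).symm w) := by
    intro w
    rw [← baseToTensor_cancel, LinearEquiv.apply_symm_apply]
  rw [h2 w, h2 w'] at hww'
  exact (LinearEquiv.injective _) (h1 hww')

/-- the dimension of the fibre of the module of differentials of a formally smooth local algebra
over a field. -/
theorem finrank_tensor_kaehler [IsNoetherianRing A]
    (hfs : CAlgX.IsAdicFormallySmooth k₀ A (maximalIdeal A))
    [Algebra.EssFiniteType k₀ (ResidueField A)] :
    Module.Finite (ResidueField A) ((ResidueField A) ⊗[A] Ω[A⁄k₀]) ∧
    Module.finrank (ResidueField A) ((ResidueField A) ⊗[A] Ω[A⁄k₀]) =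
      Module.finrank (ResidueField A) (CotangentSpace A) +
        Cardinal.toNat (Algebra.trdeg k₀ (ResidueField A)) := by
  have hcd := Groth.Agent.Lib.Helper5.Cartier.cdata_of_essFiniteType k₀ (ResidueField A)
  have hfinΩ : Module.Finite (ResidueField A) Ω[ResidueField A⁄k₀] := hcd.finite_kaehler
  have hfinΥ := hcd.finKer
  have hcartier := hcd.finrank_eq
  -- the exact sequence for the relative differentials
  have hrange := range_cotToTensor k₀ A
  have hsurj : Function.Surjective (KaehlerDifferential.mapBaseChange k₀ A (ResidueField A)) :=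
    KaehlerDifferential.mapBaseChange_surjective k₀ A (ResidueField A) residue_surjective
  have hfinV : Module.Finite (ResidueField A) ((ResidueField A) ⊗[A] Ω[A⁄k₀]) := by
    have hk : Module.Finite (ResidueField A)
        (LinearMap.ker (KaehlerDifferential.mapBaseChange k₀ A (ResidueField A))) := by
      rw [← hrange]
      exact Module.Finite.range _
    have hq : Module.Finite (ResidueField A) (((ResidueField A) ⊗[A] Ω[A⁄k₀]) ⧸
        LinearMap.ker (KaehlerDifferential.mapBaseChange k₀ A (ResidueField A))) :=
      Module.Finite.equiv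
        ((KaehlerDifferential.mapBaseChange k₀ A (ResidueField A)).quotKerEquivOfSurjective
          hsurj).symm
    exact Module.Finite.of_submodule_quotient
      (LinearMap.ker (KaehlerDifferential.mapBaseChange k₀ A (ResidueField A)))
  refine ⟨hfinV, ?_⟩
  have hV := LinearMap.finrank_range_add_finrank_ker
    (KaehlerDifferential.mapBaseChange k₀ A (ResidueField A))
  rw [LinearMap.range_eq_top.mpr hsurj, finrank_top, ← hrange] at hV
  have hC := LinearMap.finrank_range_add_finrank_ker (cotToTensor k₀ A)
  -- the kernel is the imperfection module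
  have hker1 : LinearMap.ker (cotToTensor k₀ A) =
      Submodule.comap (cotToTensor ℤ A) (LinearMap.range (baseToTensor k₀ A)) := by
    rw [← absToRel_comp_cotToTensor k₀ A, LinearMap.ker_comp, ker_absToRel]
  have hker2 : LinearMap.ker (KaehlerDifferential.mapBaseChange ℤ k₀ (ResidueField A)) =
      Submodule.comap (baseToTensor k₀ A) (LinearMap.range (cotToTensor ℤ A)) := by
    rw [← mapBaseChange_comp_baseToTensor k₀ A, LinearMap.ker_comp, range_cotToTensor]
  have hΥ : Module.finrank (ResidueField A) (LinearMap.ker (cotToTensor k₀ A)) =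
      Module.finrank (ResidueField A)
        (LinearMap.ker (KaehlerDifferential.mapBaseChange ℤ k₀ (ResidueField A))) := by
    rw [hker1, hker2]
    exact finrank_comap_range _ _ (cotToTensor_int_injective k₀) (baseToTensor_injective hfs)
  rw [hΥ] at hC
  have e1 : (Module.finrank (ResidueField A) Ω[ResidueField A⁄k₀] : ℤ) -
      Module.finrank (ResidueField A)
        (LinearMap.ker (KaehlerDifferential.mapBaseChange ℤ k₀ (ResidueField A))) =
      Cardinal.toNat (Algebra.trdeg k₀ (ResidueField A)) := hcartier
  have e2 : Module.finrank (ResidueField A) Ω[ResidueField A⁄k₀] +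
      Module.finrank (ResidueField A) (LinearMap.range (cotToTensor k₀ A)) =
      Module.finrank (ResidueField A) ((ResidueField A) ⊗[A] Ω[A⁄k₀]) := hV
  have e3 : Module.finrank (ResidueField A) (LinearMap.range (cotToTensor k₀ A)) +
      Module.finrank (ResidueField A)
        (LinearMap.ker (KaehlerDifferential.mapBaseChange ℤ k₀ (ResidueField A))) =
      Module.finrank (ResidueField A) (CotangentSpace A) := hC
  omega

end Groth.Agent.Lib.Helper5.ComplFree
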