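import Groth.Agent.Lib.Helper5.StalkBCA
import Groth.Prelude.Def_Curv2
import Mathlib

set_option autoImplicit false
universe u

open CategoryTheory AlgebraicGeometry

namespace Groth.Agent.Lib.Helper5.StalkBC

set_option backward.isDefEq.respectTransparency false in
theorem fromSpecStalk_appTop_hom (X : Scheme.{u}) (x : X) :
    (X.fromSpecStalk x).appTop ≫ (Scheme.ΓSpecIso (X.presheaf.stalk x)).hom =
      X.presheaf.germ ⊤ x (TopologicalSpace.Opens.mem_top x) := by
  rw [Scheme.fromSpecStalk_appTop]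
  have h2 : (Spec (X.presheaf.stalk x)).presheaf.map
      (homOfLE (le_top : (X.fromSpecStalk x) ⁻¹ᵁ ⊤ ≤ ⊤)).op = 𝟙 _ :=
    (Spec (X.presheaf.stalk x)).presheaf.map_id _
  rw [h2]
  simp only [Category.comp_id, Category.assoc, Iso.inv_hom_id]

variable (k : Type u) [Field k] (X : Scheme.{u}) [X.Over (Spec (CommRingCat.of k))]

theorem fromSpecStalk_comp_over (x : X) :
    X.fromSpecStalk x ≫ (X ↘ Spec (CommRingCat.of k)) =
      Spec.map (CommRingCat.ofHom (Curv2.stalkMap k X x)) := by
  apply ext_of_isAffine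
  have h1 : CommRingCat.ofHom (Curv2.stalkMap k X x) =
      (Scheme.ΓSpecIso (CommRingCat.of k)).inv ≫ (X ↘ Spec (CommRingCat.of k)).appTop ≫
        X.presheaf.germ ⊤ x (TopologicalSpace.Opens.mem_top x) := by
    ext a
    rfl
  rw [Scheme.Hom.comp_appTop, ← cancel_mono (Scheme.ΓSpecIso (X.presheaf.stalk x)).hom,
    Scheme.ΓSpecIso_naturality, h1, Category.assoc, fromSpecStalk_appTop_hom]
  simp only [Iso.hom_inv_id_assoc]

end Groth.Agent.Lib.Helper5.StalkBC
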