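import Groth.Agent.Lib.Helper5.Imperf218B
import Groth.Agent.Lib.Helper5.CartierRel
import Mathlib.RingTheory.AdjoinRoot
import Mathlib.RingTheory.Polynomial.Basic
import Mathlib.FieldTheory.KummerPolynomial

set_option autoImplicit false
set_option linter.unusedSectionVars false
universe u

namespace Groth.Agent.Lib.Helper5.Imperf218

open EGA41 PBasis Polynomial
open scoped TensorProduct

section Forward

variable (p : ℕ) [hpF : Fact p.Prime] {k₀ K : Type u} [Field k₀] [Field K] [Algebra k₀ K]
  [CharP K p]

/-- (a) ⇒ (b) -/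
theorem exists_admissible_of_iInf_eq {ι : Type u} [Preorder ι] [IsDirected ι (· ≤ ·)]
    [Nonempty ι] (k : ι → IntermediateField k₀ K) (hk : Antitone k)
    (heq : (⨅ i, k i ⊔ IntermediateField.adjoin k₀ (Set.range fun y : K => y ^ p)) =
      IntermediateField.adjoin k₀ (Set.range fun y : K => y ^ p))
    (L : Type u) [Field L] [Algebra K L] [Algebra k₀ L] [IsScalarTower k₀ K L]
    (hfin : Module.Finite L (imperfection k₀ K L)) :
    ∃ i, ∀ ω ∈ imperfection k₀ K L,
      ((KaehlerDifferential.map k₀ (k i) K K).restrictScalars K).baseChange L ω = 0 → ω = 0 := by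
  have hV : (imperfection k₀ K L).FG := Module.Finite.iff_fg.1 hfin
  obtain ⟨T, _, x, hli, hle⟩ := exists_family_le_span (imperfection k₀ K L) hV
  have hxfree : IsPIndependent p k₀ x := isPIndependent_of_linearIndependent_D p x hli
  obtain ⟨i, hi⟩ := exists_isPIndependent_of_iInf_eq p k hk heq x hxfree
  have hli_i := linearIndependent_D_of_isPIndependent p x hi
  exact ⟨i, fun ω hω h0 => eq_zero_of_map_eq_zero (k i) x hli_i ω (hle hω) h0⟩

end Forward

section Backward

variable (p : ℕ) [hpF : Fact p.Prime] {k₀ K : Type u} [Field k₀] [Field K] [Algebra k₀ K]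
  [CharP K p]

lemma finite_imperfection_of_finite (L : Type u) [Field L] [Algebra K L] [Algebra k₀ L]
    [IsScalarTower k₀ K L] [Module.Finite K L] : Module.Finite L (imperfection k₀ K L) := by
  haveI : Algebra.EssFiniteType K L := inferInstance
  have hcd := Cartier.cdata_of_essFiniteType K L
  haveI : Module.Finite L (imperfection ℤ K L) := hcd.finKer
  exact Cartier.finite_imperfection_rel k₀ K L

/-- (b) ⇒ (a) -/
theorem iInf_eq_of_forall_exists_admissible {ι : Type u} [Nonempty ι]
    (k : ι → IntermediateField k₀ K)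
    (h : ∀ (L : Type u) [Field L] [Algebra K L] [Algebra k₀ L] [IsScalarTower k₀ K L],
      Module.Finite L (imperfection k₀ K L) →
        ∃ i, ∀ ω ∈ imperfection k₀ K L,
          ((KaehlerDifferential.map k₀ (k i) K K).restrictScalars K).baseChange L ω = 0 → ω = 0) :
    (⨅ i, k i ⊔ IntermediateField.adjoin k₀ (Set.range fun y : K => y ^ p)) =
      IntermediateField.adjoin k₀ (Set.range fun y : K => y ^ p) := by
  apply le_antisymm
  · intro y hy
    by_contra hynot
    have hyK : ∀ b : K, b ^ p ≠ y := by
      intro b hb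
      apply hynot
      rw [← hb]
      exact IntermediateField.subset_adjoin k₀ _ ⟨b, rfl⟩
    have hirr : Irreducible (X ^ p - C y : K[X]) :=
      X_pow_sub_C_irreducible_of_prime hpF.out hyK
    haveI : Fact (Irreducible (X ^ p - C y : K[X])) := ⟨hirr⟩
    let L := AdjoinRoot (X ^ p - C y : K[X])
    have hne : (X ^ p - C y : K[X]) ≠ 0 := hirr.ne_zero
    haveI : Module.Finite K L := (AdjoinRoot.powerBasis hne).finite
    have hfin : Module.Finite L (imperfection k₀ K L) := finite_imperfection_of_finite L
    obtain ⟨i, hi⟩ := h L hfin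
    have hroot : algebraMap K L y = (AdjoinRoot.root (X ^ p - C y : K[X])) ^ p := by
      have h1 := AdjoinRoot.eval₂_root (X ^ p - C y : K[X])
      rw [eval₂_sub, eval₂_pow, eval₂_X, eval₂_C, sub_eq_zero] at h1
      exact h1.symm
    have hpL : (p : L) = 0 := by
      rw [← map_natCast (algebraMap K L) p, CharP.cast_eq_zero K p, map_zero]
    have hmem : (1 : L) ⊗ₜ[K] KaehlerDifferential.D k₀ K y ∈ imperfection k₀ K L := by
      change KaehlerDifferential.mapBaseChange k₀ K L _ = 0
      rw [KaehlerDifferential.mapBaseChange_tmul, one_smul, KaehlerDifferential.map_D, hroot,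
        Derivation.leibniz_pow, ← Nat.cast_smul_eq_nsmul L, hpL, zero_smul]
    have hyi : y ∈ k i ⊔ IntermediateField.adjoin k₀ (Set.range fun y : K => y ^ p) := by
      have hy' : y ∈ ((⨅ i, k i ⊔ IntermediateField.adjoin k₀ (Set.range fun y : K => y ^ p) :
          IntermediateField k₀ K) : Set K) := hy
      rw [IntermediateField.coe_iInf] at hy'
      exact Set.mem_iInter.1 hy' i
    have hDi : KaehlerDifferential.D (k i) K y = 0 :=
      D_eq_zero_of_mem_pPower p ((mem_pPower_iff_mem_sup p (k i)).2 hyi)
    have h0 : ((KaehlerDifferential.map k₀ (k i) K K).restrictScalars K).baseChange L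
        ((1 : L) ⊗ₜ[K] KaehlerDifferential.D k₀ K y) = 0 := by
      rw [LinearMap.baseChange_tmul]
      change (1 : L) ⊗ₜ[K] KaehlerDifferential.map k₀ (k i) K K (KaehlerDifferential.D k₀ K y) = 0
      rw [KaehlerDifferential.map_D]
      change (1 : L) ⊗ₜ[K] KaehlerDifferential.D (k i) K y = 0
      rw [hDi, TensorProduct.tmul_zero]
    have h1 := hi _ hmem h0
    have h2 : KaehlerDifferential.D k₀ K y = 0 := by
      have hinj := Module.Flat.tensorProduct_mk_injective (R := K) (S := L) (M := Ω[K⁄k₀])
      apply hinj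
      rw [map_zero]
      exact h1
    exact hynot ((mem_pPower_iff_mem_adjoin p).1 (mem_pPower_of_D_eq_zero p h2))
  · exact le_iInf fun i => le_sup_right

end Backward

end Groth.Agent.Lib.Helper5.Imperf218
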