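import Groth.Prelude.Def_CAlgX
import Mathlib

set_option autoImplicit false
set_option linter.unusedSectionVars false

namespace Groth.Agent.Lib.Helper5.JacAdic

open TensorProduct KaehlerDifferential

universe u

section Descend

variable {B R : Type*} [CommRing B] [CommRing R] [Algebra B R]

theorem exists_descend (hR : Function.Surjective (algebraMap B R))
    {W K : Type*} [AddCommGroup W] [Module B W] [AddCommGroup K] [Module B K]
    (hK : ∀ b : B, algebraMap B R b = 0 → ∀ n : K, b • n = 0) (f : W →ₗ[B] K) :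
    ∃ Φ : R ⊗[B] W →ₗ[B] K, ∀ w, Φ (1 ⊗ₜ w) = f w := by
  classical
  let s : R → B := Function.surjInv hR
  have hs : ∀ r, algebraMap B R (s r) = r := Function.surjInv_eq hR
  have key : ∀ b b' : B, algebraMap B R b = algebraMap B R b' → ∀ n : K, b • n = b' • n := by
    intro b b' h n
    rw [← sub_eq_zero, ← sub_smul]
    exact hK _ (by rw [map_sub, h, sub_self]) n
  let lam : R →ₗ[B] (W →ₗ[B] K) :=
    { toFun := fun r => s r • f
      map_add' := by
        intro r r'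
        ext w
        change s (r + r') • f w = s r • f w + s r' • f w
        rw [← add_smul]
        exact key _ _ (by rw [map_add, hs, hs, hs]) _
      map_smul' := by
        intro b r
        ext w
        change s (b • r) • f w = b • (s r • f w)
        rw [smul_smul]
        exact key _ _ (by rw [map_mul, hs, hs, Algebra.smul_def]) _ }
  refine ⟨TensorProduct.lift lam, fun w => ?_⟩
  rw [TensorProduct.lift.tmul]
  change s 1 • f w = f w
  conv_rhs => rw [← one_smul B (f w)]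
  exact key _ _ (by rw [hs, map_one]) _

end Descend

section Lift

variable {A B : Type u} [CommRing A] [CommRing B] [Algebra A B]

theorem lift_surj {I : Ideal B} (hB : CAlgX.IsAdicFormallySmooth A B I)
    {E E' : Type u} [CommRing E] [Algebra A E] [CommRing E'] [Algebra A E']
    (π : E →ₐ[A] E') (hπ : Function.Surjective π) (hsq : (RingHom.ker π) ^ 2 = ⊥)
    (ψ : B →ₐ[A] E') (hψ : ∃ k : ℕ, ∀ x ∈ I ^ k, ψ x = 0) :
    ∃ χ : B →ₐ[A] E, π.comp χ = ψ := by
  let e := Ideal.quotientKerAlgEquivOfSurjective hπ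
  obtain ⟨k, hk⟩ := hψ
  obtain ⟨χ, hχ⟩ := hB E (RingHom.ker π) hsq ((e.symm : E' →ₐ[A] _).comp ψ)
    ⟨k, fun x hx => by
      change e.symm (ψ x) = 0
      rw [hk x hx, map_zero]⟩
  refine ⟨χ, ?_⟩
  ext b
  have h1 : Ideal.Quotient.mkₐ A (RingHom.ker π) (χ b) = e.symm (ψ b) := congrArg (fun f => f b) hχ
  have h2 : e (Ideal.Quotient.mkₐ A (RingHom.ker π) (χ b)) = π (χ b) := rfl
  change π (χ b) = ψ b
  rw [← h2, h1, AlgEquiv.apply_symm_apply]

end Lift



section Core

variable {A B C R : Type u} [CommRing A] [CommRing B] [CommRing C] [CommRing R]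
  [Algebra A B] [Algebra B C] [Algebra A C] [IsScalarTower A B C]
  [Algebra B R] [Algebra C R] [IsScalarTower B C R]

/-- the lifting property at level `i` -/
def LiftProp (A : Type u) {B C : Type u} (R : Type u) [CommRing A] [CommRing B] [CommRing C] [CommRing R]
    [Algebra A B] [Algebra B C] [Algebra A C] [Algebra C R] (I : Ideal B) (i : ℕ) : Prop :=
  ∀ (E E' : Type u) [CommRing E] [Algebra A E] [CommRing E'] [Algebra A E'] (π : E →ₐ[A] E'),
    Function.Surjective π → (RingHom.ker π) ^ 2 = ⊥ → ∀ ψ : C →ₐ[A] E',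
    (∃ k : ℕ, ∀ x ∈ (I.map (algebraMap B C)) ^ k, ψ x = 0) →
    (∀ q ∈ (RingHom.ker (algebraMap C R)) ^ i, ∀ e : E, π e = ψ q →
      ∀ n ∈ RingHom.ker π, e * n = 0) →
    ∃ χ : C →ₐ[A] E, π.comp χ = ψ

theorem liftProp_one (hC : Function.Surjective (algebraMap B C))
    (hR : Function.Surjective (algebraMap C R)) {I : Ideal B}
    (hB : CAlgX.IsAdicFormallySmooth A B I)
    (h : Ω[B⁄A] →ₗ[B] R ⊗[B] (RingHom.ker (algebraMap B C)).Cotangent)
    (hh : ∀ x : RingHom.ker (algebraMap B C),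
      h (D A B (x : B)) = 1 ⊗ₜ (RingHom.ker (algebraMap B C)).toCotangent x) :
    LiftProp A R (C := C) I 1 := by
  intro E E' _ _ _ _ π hπ hsq ψ hψ hkill
  obtain ⟨k, hk⟩ := hψ
  -- lift to B
  obtain ⟨χ', hχ'⟩ := lift_surj hB π hπ hsq (ψ.comp (IsScalarTower.toAlgHom A B C))
    ⟨k, fun x hx => by
      change ψ (algebraMap B C x) = 0
      apply hk
      rw [← Ideal.map_pow]
      exact Ideal.mem_map_of_mem _ hx⟩
  have hχ'b : ∀ b : B, π (χ' b) = ψ (algebraMap B C b) := fun b => congrArg (fun f => f b) hχ'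
  let _ : Algebra B E := χ'.toRingHom.toAlgebra
  have halg : ∀ b : B, algebraMap B E b = χ' b := fun _ => rfl
  have _ : IsScalarTower A B E := IsScalarTower.of_algebraMap_eq (fun a => (χ'.commutes a).symm)
  set K : Ideal E := RingHom.ker π with hKdef
  have hKK : ∀ a ∈ K, ∀ b ∈ K, a * b = 0 := by
    intro a ha b hb
    have : a * b ∈ K ^ 2 := by
      rw [pow_two]; exact Ideal.mul_mem_mul ha hb
    rw [hsq] at this
    exact this
  have hkillB : ∀ b : B, algebraMap B R b = 0 → ∀ n : K, b • n = 0 := by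
    intro b hb n
    apply Subtype.ext
    change b • (n : E) = 0
    rw [Algebra.smul_def, halg]
    refine hkill (algebraMap B C b) ?_ (χ' b) (hχ'b b) n n.2
    rw [pow_one, RingHom.mem_ker, ← IsScalarTower.algebraMap_apply, hb]
  let J : Ideal B := RingHom.ker (algebraMap B C)
  have hJK : ∀ x ∈ J, χ' x ∈ K := by
    intro x hx
    rw [hKdef, RingHom.mem_ker, hχ'b, (RingHom.mem_ker).mp hx, map_zero]
  let φ : J →ₗ[B] K :=
    { toFun := fun x => ⟨χ' x, hJK x x.2⟩
      map_add' := by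
        intro x y
        apply Subtype.ext
        change χ' ((x : B) + y) = χ' x + χ' y
        rw [map_add]
      map_smul' := by
        intro b x
        apply Subtype.ext
        change χ' (b • (x : B)) = b • χ' (x : B)
        rw [smul_eq_mul, map_mul, Algebra.smul_def, halg] }
  have hφ : (J • ⊤ : Submodule B J) ≤ LinearMap.ker φ := by
    intro x hx
    refine Submodule.smul_induction_on hx ?_ ?_
    · intro a ha y _
      rw [LinearMap.mem_ker, map_smul]
      apply Subtype.ext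
      change a • (χ' (y : B)) = 0
      rw [Algebra.smul_def, halg]
      exact hKK _ (hJK a ha) _ (hJK y y.2)
    · intro x y hx hy
      exact Submodule.add_mem _ hx hy
  let φbar : J.Cotangent →ₗ[B] K := Submodule.liftQ _ φ hφ
  have hφbar : ∀ x : J, φbar (J.toCotangent x) = φ x := fun x => rfl
  have hBR : Function.Surjective (algebraMap B R) := by
    rw [IsScalarTower.algebraMap_eq B C R]; exact hR.comp hC
  obtain ⟨Φ, hΦ⟩ := exists_descend hBR hkillB φbar
  let der : Derivation A B K := (Φ ∘ₗ h).compDer (D A B)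
  have hder : ∀ x : J, der (x : B) = φ x := by
    intro x
    change Φ (h (D A B (x : B))) = φ x
    rw [hh, hΦ, hφbar]
  let χ'' : B →ₐ[A] E := liftOfDerivationToSquareZero K hsq (-der)
  have hχ'' : ∀ b : B, χ'' b = -(der b : E) + χ' b := by
    intro b
    change ((-der) b : E) + algebraMap B E b = _
    rw [halg]
    rfl
  have hχ''J : RingHom.ker (IsScalarTower.toAlgHom A B C) ≤ RingHom.ker χ'' := by
    intro x hx
    have hxJ : x ∈ J := hx
    rw [RingHom.mem_ker, hχ'', hder ⟨x, hxJ⟩]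
    change -(χ' x) + χ' x = 0
    rw [neg_add_cancel]
  refine ⟨AlgHom.liftOfSurjective (IsScalarTower.toAlgHom A B C) hC χ'' hχ''J, ?_⟩
  ext c
  obtain ⟨b, rfl⟩ := hC c
  change π (AlgHom.liftOfSurjective (IsScalarTower.toAlgHom A B C) hC χ'' hχ''J
    ((IsScalarTower.toAlgHom A B C) b)) = _
  have hl := AlgHom.liftOfSurjective_apply (IsScalarTower.toAlgHom A B C) hC χ'' hχ''J b
  rw [hl, hχ'', map_add, map_neg, hχ'b]
  have : π (der b : E) = 0 := (der b).2
  rw [this, neg_zero, zero_add]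

omit [IsScalarTower A B C] [Algebra B R] [IsScalarTower B C R] in
theorem liftProp_succ {I : Ideal B} (i : ℕ) (h1 : LiftProp A R (C := C) I 1)
    (hi : LiftProp A R (C := C) I i) : LiftProp A R (C := C) I (i + 1) := by
  intro E E' _ _ _ _ π hπ hsq ψ hψ hkill
  obtain ⟨k, hk⟩ := hψ
  set K : Ideal E := RingHom.ker π with hKdef
  have hKK : ∀ a ∈ K, ∀ b ∈ K, a * b = 0 := by
    intro a ha b hb
    have : a * b ∈ K ^ 2 := by
      rw [pow_two]; exact Ideal.mul_mem_mul ha hb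
    rw [hsq] at this
    exact this
  let S : Set E := {y | ∃ q ∈ (RingHom.ker (algebraMap C R)) ^ i, ∃ e : E, π e = ψ q ∧
    ∃ n ∈ K, y = e * n}
  let N₁ : Ideal E := Ideal.span S
  have hN₁K : N₁ ≤ K := by
    refine Ideal.span_le.mpr ?_
    rintro y ⟨q, _, e, _, n, hn, rfl⟩
    exact Ideal.mul_mem_left _ _ hn
  let π₁ : E ⧸ N₁ →ₐ[A] E' := Ideal.Quotient.liftₐ N₁ π (fun a ha => hN₁K ha)
  have hπ₁mk : ∀ e : E, π₁ (Ideal.Quotient.mk N₁ e) = π e := fun e => rfl
  have hπ₁ : Function.Surjective π₁ := by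
    intro y
    obtain ⟨e, rfl⟩ := hπ y
    exact ⟨Ideal.Quotient.mk N₁ e, rfl⟩
  have hker₁ : ∀ a ∈ RingHom.ker π₁, ∃ n ∈ K, Ideal.Quotient.mk N₁ n = a := by
    intro a ha
    obtain ⟨e, rfl⟩ := Ideal.Quotient.mk_surjective a
    exact ⟨e, ha, rfl⟩
  have hsq₁ : (RingHom.ker π₁) ^ 2 = ⊥ := by
    rw [eq_bot_iff, pow_two, Ideal.mul_le]
    intro a ha b hb
    obtain ⟨n, hn, rfl⟩ := hker₁ a ha
    obtain ⟨n', hn', rfl⟩ := hker₁ b hb
    rw [← map_mul, hKK n hn n' hn', map_zero]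
    exact Ideal.zero_mem _
  obtain ⟨χ₁, hχ₁⟩ := hi (E ⧸ N₁) E' π₁ hπ₁ hsq₁ ψ ⟨k, hk⟩ (by
    intro q hq a ha b hb
    obtain ⟨e, rfl⟩ := Ideal.Quotient.mk_surjective a
    obtain ⟨n, hn, rfl⟩ := hker₁ b hb
    rw [← map_mul, Ideal.Quotient.eq_zero_iff_mem]
    exact Ideal.subset_span ⟨q, hq, e, ha, n, hn, rfl⟩)
  have hχ₁c : ∀ c : C, π₁ (χ₁ c) = ψ c := fun c => congrArg (fun f => f c) hχ₁
  have hkerN₁ : RingHom.ker (Ideal.Quotient.mkₐ A N₁) = N₁ := Ideal.Quotient.mkₐ_ker A N₁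
  obtain ⟨χ, hχ⟩ := h1 E (E ⧸ N₁) (Ideal.Quotient.mkₐ A N₁) (Ideal.Quotient.mkₐ_surjective A N₁)
    (by
      rw [hkerN₁, eq_bot_iff, pow_two, Ideal.mul_le]
      intro a ha b hb
      rw [hKK a (hN₁K ha) b (hN₁K hb)]
      exact Ideal.zero_mem _) χ₁
    ⟨k + k, by
      intro x hx
      rw [pow_add] at hx
      refine Submodule.mul_induction_on hx ?_ ?_
      · intro a ha b hb
        have h1 : χ₁ a ∈ RingHom.ker π₁ := by
          rw [RingHom.mem_ker, hχ₁c, hk a ha]
        have h2 : χ₁ b ∈ RingHom.ker π₁ := by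
          rw [RingHom.mem_ker, hχ₁c, hk b hb]
        have : χ₁ a * χ₁ b ∈ (RingHom.ker π₁) ^ 2 := by
          rw [pow_two]; exact Ideal.mul_mem_mul h1 h2
        rw [hsq₁] at this
        rw [map_mul]
        exact this
      · intro a b ha hb
        rw [map_add, ha, hb, add_zero]⟩
    (by
      intro q hq e he n hn
      rw [pow_one] at hq
      rw [hkerN₁] at hn
      refine Submodule.span_induction ?_ ?_ ?_ ?_ hn
      · rintro y ⟨q', hq', e', he', n', hn', rfl⟩
        rw [← mul_assoc]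
        refine hkill (q * q') ?_ (e * e') ?_ n' hn'
        · rw [pow_succ']
          exact Ideal.mul_mem_mul hq hq'
        · rw [map_mul, map_mul, he', ← hχ₁c q, ← he]
          rfl
      · exact mul_zero _
      · intro a b _ _ ha hb
        rw [mul_add, ha, hb, add_zero]
      · intro a b _ hb
        rw [smul_eq_mul, mul_left_comm, hb, mul_zero])
  refine ⟨χ, ?_⟩
  ext c
  have : Ideal.Quotient.mkₐ A N₁ (χ c) = χ₁ c := congrArg (fun f => f c) hχ
  change π (χ c) = ψ c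
  rw [← hπ₁mk, ← hχ₁c]
  exact congrArg π₁ this

theorem liftProp_zero {I : Ideal B} (h1 : LiftProp A R (C := C) I 1) :
    LiftProp A R (C := C) I 0 := by
  intro E E' _ _ _ _ π hπ hsq ψ hψ hkill
  refine h1 E E' π hπ hsq ψ hψ ?_
  intro q _ e he n hn
  exact hkill q (by rw [pow_zero, Ideal.one_eq_top]; trivial) e he n hn

theorem liftProp_all {I : Ideal B} (h1 : LiftProp A R (C := C) I 1) (i : ℕ) :
    LiftProp A R (C := C) I i := by
  induction i with
  | zero => exact liftProp_zero h1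
  | succ i ih => exact liftProp_succ i h1 ih

theorem isAdicFormallySmooth_of_liftProp {I : Ideal B} (h1 : LiftProp A R (C := C) I 1)
    (hQ' : ∃ m : ℕ, (RingHom.ker (algebraMap C R)) ^ m ≤ I.map (algebraMap B C)) :
    CAlgX.IsAdicFormallySmooth A C (I.map (algebraMap B C)) := by
  intro E _ _ N hN ψ hψ
  obtain ⟨k, hk⟩ := hψ
  obtain ⟨m, hm⟩ := hQ'
  have hkerN : RingHom.ker (Ideal.Quotient.mkₐ A N) = N := Ideal.Quotient.mkₐ_ker A N
  refine liftProp_all h1 (m * k) E (E ⧸ N) (Ideal.Quotient.mkₐ A N)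
    (Ideal.Quotient.mkₐ_surjective A N) (by rw [hkerN]; exact hN) ψ ⟨k, hk⟩ ?_
  intro q hq e he n hn
  rw [hkerN] at hn
  have hq' : q ∈ (I.map (algebraMap B C)) ^ k := by
    rw [pow_mul] at hq
    exact Ideal.pow_right_mono hm k hq
  have he' : e ∈ N := by
    rw [← Ideal.Quotient.eq_zero_iff_mem]
    change Ideal.Quotient.mkₐ A N e = 0
    rw [he, hk q hq']
  have : e * n ∈ N ^ 2 := by
    rw [pow_two]; exact Ideal.mul_mem_mul he' hn
  rw [hN] at this
  exact this

end Core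



section Conv

variable {A B C R : Type u} [CommRing A] [CommRing B] [CommRing C] [CommRing R]
  [Algebra A B] [Algebra B C] [Algebra A C] [IsScalarTower A B C]
  [Algebra B R] [Algebra C R] [IsScalarTower B C R]

theorem exists_der_of_smooth [IsNoetherianRing B] (hC : Function.Surjective (algebraMap B C))
    {I : Ideal B} (hCs : CAlgX.IsAdicFormallySmooth A C (I.map (algebraMap B C)))
    (hQ : ∃ n : ℕ, (I.map (algebraMap B C)) ^ n ≤ RingHom.ker (algebraMap C R)) :
    ∃ h : Ω[B⁄A] →ₗ[B] R ⊗[B] (RingHom.ker (algebraMap B C)).Cotangent,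
      ∀ x : RingHom.ker (algebraMap B C),
        h (D A B (x : B)) = 1 ⊗ₜ (RingHom.ker (algebraMap B C)).toCotangent x := by
  obtain ⟨n, hn⟩ := hQ
  let J : Ideal B := RingHom.ker (algebraMap B C)
  let 𝔔 : Ideal B := RingHom.ker (algebraMap B R)
  have hI𝔔 : I ^ n ≤ 𝔔 := by
    intro b hb
    change algebraMap B R b = 0
    rw [IsScalarTower.algebraMap_apply B C R]
    apply hn
    rw [← Ideal.map_pow]
    exact Ideal.mem_map_of_mem _ hb
  have hJ𝔔 : J ≤ 𝔔 := by
    intro b hb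
    change algebraMap B R b = 0
    rw [IsScalarTower.algebraMap_apply B C R, (RingHom.mem_ker).mp hb, map_zero]
  obtain ⟨c, hc⟩ := Ideal.exists_pow_inf_eq_pow_smul I (J : Submodule B B)
  have hAR : I ^ (n + c) ⊓ J ≤ 𝔔 * J := by
    have h1 := hc (n + c) (Nat.le_add_left c n)
    rw [Nat.add_sub_cancel] at h1
    have h2 : (I ^ (n + c) • ⊤ : Submodule B B) = I ^ (n + c) := by
      rw [smul_eq_mul, Ideal.mul_top]
    rw [h2] at h1
    rw [h1]
    calc I ^ n • (I ^ c • ⊤ ⊓ J) ≤ I ^ n • J := Submodule.smul_mono le_rfl inf_le_right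
      _ ≤ 𝔔 * J := by
        rw [smul_eq_mul]
        exact Ideal.mul_mono_left hI𝔔
  let k := n + c
  let 𝔎 : Ideal B := 𝔔 * J ⊔ I ^ k
  have h𝔎J : 𝔎 ⊓ J ≤ 𝔔 * J := by
    have hle : 𝔔 * J ≤ J := Ideal.mul_le_right
    change (𝔔 * J ⊔ I ^ k) ⊓ J ≤ 𝔔 * J
    rw [sup_inf_assoc_of_le _ hle]
    exact sup_le le_rfl hAR
  let N : Ideal (B ⧸ 𝔎) := J.map (Ideal.Quotient.mk 𝔎)
  have hN : N ^ 2 = ⊥ := by
    change (J.map (Ideal.Quotient.mk 𝔎)) ^ 2 = ⊥
    rw [← Ideal.map_pow, Ideal.map_eq_bot_iff_le_ker, Ideal.mk_ker, pow_two]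
    exact (Ideal.mul_mono_left hJ𝔔).trans le_sup_left
  have hker : RingHom.ker (IsScalarTower.toAlgHom A B C) ≤
      RingHom.ker ((Ideal.Quotient.mkₐ A N).comp (Ideal.Quotient.mkₐ A 𝔎)) := by
    intro x hx
    have hxJ : x ∈ J := hx
    rw [RingHom.mem_ker]
    change Ideal.Quotient.mk N (Ideal.Quotient.mk 𝔎 x) = 0
    rw [Ideal.Quotient.eq_zero_iff_mem]
    exact Ideal.mem_map_of_mem _ hxJ
  let ψ : C →ₐ[A] (B ⧸ 𝔎) ⧸ N := AlgHom.liftOfSurjective (IsScalarTower.toAlgHom A B C) hC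
    ((Ideal.Quotient.mkₐ A N).comp (Ideal.Quotient.mkₐ A 𝔎)) hker
  have hψ : ∀ b : B, ψ (algebraMap B C b) = Ideal.Quotient.mk N (Ideal.Quotient.mk 𝔎 b) :=
    fun b => AlgHom.liftOfSurjective_apply (IsScalarTower.toAlgHom A B C) hC _ hker b
  obtain ⟨χ, hχ⟩ := hCs (B ⧸ 𝔎) N hN ψ ⟨k, by
    intro x hx
    rw [← Ideal.map_pow] at hx
    obtain ⟨b, hb, rfl⟩ := (Ideal.mem_map_iff_of_surjective _ hC).mp hx
    rw [hψ]
    have : Ideal.Quotient.mk 𝔎 b = 0 := by
      rw [Ideal.Quotient.eq_zero_iff_mem]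
      exact le_sup_right (a := 𝔔 * J) hb
    rw [this, map_zero]⟩
  have hχc : ∀ c : C, Ideal.Quotient.mk N (χ c) = ψ c := fun c => congrArg (fun f => f c) hχ
  let f : B →ₐ[A] B ⧸ 𝔎 := χ.comp (IsScalarTower.toAlgHom A B C)
  have hf : (Ideal.Quotient.mkₐ A N).comp f = IsScalarTower.toAlgHom A B ((B ⧸ 𝔎) ⧸ N) := by
    ext b
    change Ideal.Quotient.mk N (χ (algebraMap B C b)) = _
    rw [hχc, hψ]
    rfl
  let D₀ : Derivation A B N := derivationToSquareZeroOfLift N hN f hf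
  have hD₀ : ∀ x ∈ J, ((-D₀) x : B ⧸ 𝔎) = Ideal.Quotient.mk 𝔎 x := by
    intro x hx
    change -((D₀ x : N) : B ⧸ 𝔎) = _
    rw [derivationToSquareZeroOfLift_apply]
    change -(χ (algebraMap B C x) - Ideal.Quotient.mk 𝔎 x) = _
    rw [(RingHom.mem_ker).mp hx, map_zero, zero_sub, neg_neg]
  let p : J →ₗ[B] N :=
    { toFun := fun x => ⟨Ideal.Quotient.mk 𝔎 x, Ideal.mem_map_of_mem _ x.2⟩
      map_add' := fun x y => rfl
      map_smul' := fun b x => rfl }
  have hp : Function.Surjective p := by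
    rintro ⟨y, hy⟩
    obtain ⟨x, hx, rfl⟩ := (Ideal.mem_map_iff_of_surjective _ Ideal.Quotient.mk_surjective).mp hy
    exact ⟨⟨x, hx⟩, rfl⟩
  let τ : J →ₗ[B] R ⊗[B] J.Cotangent := (TensorProduct.mk B R J.Cotangent 1) ∘ₗ J.toCotangent
  have hτ : 𝔔 * J ≤ Submodule.map J.subtype (LinearMap.ker τ) := by
    rw [Ideal.mul_le]
    intro q hq y hy
    refine ⟨q • ⟨y, hy⟩, ?_, rfl⟩
    change τ (q • ⟨y, hy⟩) = 0
    rw [map_smul]
    change q • ((1 : R) ⊗ₜ[B] J.toCotangent ⟨y, hy⟩) = 0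
    rw [TensorProduct.smul_tmul', Algebra.smul_def, mul_one, (RingHom.mem_ker).mp hq,
      TensorProduct.zero_tmul]
  have hle : LinearMap.ker p ≤ LinearMap.ker τ := by
    intro x hx
    have hx1 : (x : B) ∈ 𝔎 := by
      rw [← Ideal.Quotient.eq_zero_iff_mem]
      exact congrArg Subtype.val hx
    obtain ⟨x', hx', hxx'⟩ := hτ (h𝔎J ⟨hx1, x.2⟩)
    have : x' = x := Subtype.ext hxx'
    rw [← this]
    exact hx'
  let Φ : N →ₗ[B] R ⊗[B] J.Cotangent :=
    (LinearMap.ker p).liftQ τ hle ∘ₗ (p.quotKerEquivOfSurjective hp).symm.toLinearMap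
  have hΦ : ∀ x : J, Φ (p x) = τ x := by
    intro x
    change (LinearMap.ker p).liftQ τ hle ((p.quotKerEquivOfSurjective hp).symm (p x)) = τ x
    have : (p.quotKerEquivOfSurjective hp).symm (p x) = (LinearMap.ker p).mkQ x := by
      rw [LinearEquiv.symm_apply_eq]
      rfl
    rw [this]
    rfl
  refine ⟨Φ ∘ₗ (-D₀).liftKaehlerDifferential, fun x => ?_⟩
  change Φ ((-D₀).liftKaehlerDifferential (D A B (x : B))) = _
  rw [Derivation.liftKaehlerDifferential_comp_D]
  have : (-D₀) (x : B) = p x := Subtype.ext (hD₀ x x.2)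
  rw [this, hΦ]
  rfl

end Conv



section Transl

variable {A B C R : Type u} [CommRing A] [CommRing B] [CommRing C] [CommRing R]
  [Algebra A B] [Algebra B C] [Algebra A C] [IsScalarTower A B C]
  [Algebra B R] [Algebra C R] [IsScalarTower B C R]

theorem exists_g_iff_exists_h :
    (∃ g : R ⊗[B] (C ⊗[B] Ω[B⁄A]) →ₗ[R] R ⊗[B] (RingHom.ker (algebraMap B C)).Cotangent,
      g ∘ₗ LinearMap.baseChange R (kerCotangentToTensor A B C) = LinearMap.id) ↔
    ∃ h : Ω[B⁄A] →ₗ[B] R ⊗[B] (RingHom.ker (algebraMap B C)).Cotangent,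
      ∀ x : RingHom.ker (algebraMap B C),
        h (D A B (x : B)) = 1 ⊗ₜ (RingHom.ker (algebraMap B C)).toCotangent x := by
  constructor
  · rintro ⟨g, hg⟩
    refine ⟨(g.restrictScalars B) ∘ₗ (TensorProduct.mk B R _ 1) ∘ₗ (TensorProduct.mk B C _ 1),
      fun x => ?_⟩
    change g ((1 : R) ⊗ₜ[B] ((1 : C) ⊗ₜ[B] D A B (x : B))) = _
    have h1 : LinearMap.baseChange R (kerCotangentToTensor A B C)
        ((1 : R) ⊗ₜ[B] (RingHom.ker (algebraMap B C)).toCotangent x) =
        (1 : R) ⊗ₜ[B] ((1 : C) ⊗ₜ[B] D A B (x : B)) := by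
      rw [LinearMap.baseChange_tmul, kerCotangentToTensor_toCotangent]
    rw [← h1]
    exact congrArg (fun f => f ((1 : R) ⊗ₜ[B] (RingHom.ker (algebraMap B C)).toCotangent x)) hg
  · rintro ⟨h, hh⟩
    let inner : C ⊗[B] Ω[B⁄A] →ₗ[C] R ⊗[B] (RingHom.ker (algebraMap B C)).Cotangent :=
      LinearMap.liftBaseChange C h
    refine ⟨LinearMap.liftBaseChange R (inner.restrictScalars B), ?_⟩
    apply TensorProduct.AlgebraTensorModule.ext
    intro r t
    obtain ⟨x, rfl⟩ := Ideal.toCotangent_surjective _ t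
    change LinearMap.liftBaseChange R (inner.restrictScalars B)
      (LinearMap.baseChange R (kerCotangentToTensor A B C) (r ⊗ₜ[B] _)) = r ⊗ₜ[B] _
    rw [LinearMap.baseChange_tmul, kerCotangentToTensor_toCotangent, LinearMap.liftBaseChange_tmul]
    change r • (LinearMap.liftBaseChange C h) ((1 : C) ⊗ₜ[B] D A B (x : B)) = _
    rw [LinearMap.liftBaseChange_tmul, one_smul, hh, TensorProduct.smul_tmul', smul_eq_mul, mul_one]

end Transl


end Groth.Agent.Lib.Helper5.JacAdic
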