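import Groth.Agent.Lib.Helper5.SepCartier
import Mathlib.RingTheory.Unramified.Field
import Mathlib.RingTheory.Unramified.Basic
import Mathlib.FieldTheory.IntermediateField.Adjoin.Algebra

set_option autoImplicit false
set_option linter.unusedSectionVars false

namespace Groth.Agent.Lib.Helper5.SepCartier

open TensorProduct

section Reduced

variable {k K : Type*} [Field k] [Field K] [Algebra k K] (p : ℕ) (hp : p.Prime)
  (hpk : (p : k) = 0)

include hp hpk in
/-- linear independence of the `p`-th powers of a basis gives geometric reducedness -/
theorem geomReduced_of_linearIndependent_pow {I : Type*} (b : Module.Basis I k K)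
    (hML : LinearIndependent k (fun i => (b i) ^ p)) : Algebra.IsGeometricallyReduced k K := by
  rw [Algebra.isGeometricallyReduced_field_iff]
  set Ωk := AlgebraicClosure k
  have hpT : (p : Ωk ⊗[k] K) = 0 := SepSmooth.natCast_eq_zero_of_algebra p hpk _
  have hli : LinearIndependent Ωk (fun i => (1 : Ωk) ⊗ₜ[k] ((b i) ^ p)) :=
    Module.Flat.linearIndependent_one_tmul hML
  have key : ∀ u : Ωk ⊗[k] K, u ^ p = 0 → u = 0 := by
    intro u hu
    set B := Algebra.TensorProduct.basis Ωk b with hB
    have hrepr := B.linearCombination_repr u
    rw [Finsupp.linearCombination_apply, Finsupp.sum] at hrepr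
    rw [← hrepr, SepSmooth.sum_pow_prime p hp hpT] at hu
    have hterm : ∀ i ∈ (B.repr u).support, ((B.repr u) i • B i) ^ p =
        ((B.repr u) i ^ p) • ((1 : Ωk) ⊗ₜ[k] ((b i) ^ p)) := by
      intro i _
      rw [smul_pow, hB, Algebra.TensorProduct.basis_apply, Algebra.TensorProduct.tmul_pow, one_pow]
    rw [Finset.sum_congr rfl hterm] at hu
    have h0 := (linearIndependent_iff'.1 hli) (B.repr u).support (fun i => (B.repr u) i ^ p) hu
    have : B.repr u = 0 := by
      ext i
      by_cases hi : i ∈ (B.repr u).support
      · exact (pow_eq_zero_iff hp.ne_zero).1 (h0 i hi)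
      · exact Finsupp.notMem_support_iff.1 hi
    exact (LinearEquiv.map_eq_zero_iff _).1 this
  refine ⟨fun u hu => ?_⟩
  obtain ⟨n, hn⟩ := hu
  have hpow : ∀ m : ℕ, u ^ p ^ m = 0 → u = 0 := by
    intro m
    induction m with
    | zero => intro h; rwa [pow_zero, pow_one] at h
    | succ m ih =>
      intro h
      rw [pow_succ, pow_mul] at h
      exact ih (key _ h)
  apply hpow n
  have hle : n ≤ p ^ n := (Nat.lt_pow_self hp.one_lt).le
  rw [← Nat.sub_add_cancel hle, pow_add, hn, mul_zero]

end Reduced

section CharZero

variable {k K : Type*} [Field k] [Field K] [Algebra k K] [CharZero k]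

/-- in characteristic zero every field extension is geometrically reduced -/
theorem geomReduced_of_charZero : Algebra.IsGeometricallyReduced k K := by
  rw [Algebra.isGeometricallyReduced_field_iff]
  set Ωk := AlgebraicClosure k
  have h1 : IsReduced (K ⊗[k] Ωk) := by
    apply IsReduced.tensorProduct_of_flat_of_forall_fg
    intro B hB
    have hfield : IsField B := Subalgebra.isField_of_algebraic B
    set E : IntermediateField k Ωk := B.toIntermediateField' hfield with hE
    have hft : Algebra.FiniteType k E := (Subalgebra.fg_iff_finiteType B).1 hB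
    haveI : Algebra.IsSeparable k E := Algebra.IsAlgebraic.isSeparable_of_perfectField
    haveI : Algebra.FormallyUnramified k E := Algebra.FormallyUnramified.of_isSeparable k E
    haveI : Algebra.EssFiniteType k E := inferInstance
    show IsReduced (K ⊗[k] E)
    exact Algebra.FormallyUnramified.isReduced_of_field K (K ⊗[k] E)
  exact isReduced_of_injective (Algebra.TensorProduct.comm k Ωk K).toRingHom
    (Algebra.TensorProduct.comm k Ωk K).injective

end CharZero

section Main

variable {k K : Type*} [Field k] [Field K] [Algebra k K]

/-- Cartier's criterion, converse direction -/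
theorem geomReduced_of_mapBaseChange_injective
    (hinj : Function.Injective (KaehlerDifferential.mapBaseChange ℤ k K)) :
    Algebra.IsGeometricallyReduced k K := by
  obtain ⟨p, hp⟩ := CharP.exists k
  rcases CharP.char_is_prime_or_zero k p with h | h
  · exact geomReduced_of_linearIndependent_pow p h (CharP.cast_eq_zero k p)
      (Module.Basis.ofVectorSpace k K)
      (linearIndependent_pow_of_injective p h hinj _)
  · subst h
    haveI : CharZero k := CharP.charP_to_charZero k
    exact geomReduced_of_charZero

end Main

end Groth.Agent.Lib.Helper5.SepCartier
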