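import Groth.Prelude.Def_HopfRep
import Groth.Prelude.Def_Hoch
import Mathlib.RingTheory.Flat.Basic

set_option autoImplicit false
universe u v w w'
open TensorProduct

namespace Groth.Agent.Lib.Helper5.ComodBasic

open HopfRep

variable {k : Type u} [Field k] {C : Type v} [AddCommGroup C] [Module k C] [Coalgebra k C]
  {V : Type w} [AddCommGroup V] [Module k V] [HopfRep.Comod k C V]
  {W : Type w'} [AddCommGroup W] [Module k W] [HopfRep.Comod k C W]

lemma isSubcomod_ker (f : V →ₗ[k] W) (hf : Hoch.IsComodHom C f) :
    HopfRep.IsSubcomod (k := k) (A := C) (LinearMap.ker f) := by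
  intro v hv
  have hex : Function.Exact (LinearMap.ker f).subtype f := LinearMap.exact_subtype_ker_map f
  have hex' := Module.Flat.rTensor_exact C hex
  rw [← LinearMap.exact_iff.1 hex', LinearMap.mem_ker]
  have := LinearMap.congr_fun hf v
  simp only [LinearMap.comp_apply] at this
  rw [← this, LinearMap.mem_ker.1 hv, map_zero]

lemma isSubcomod_range (f : V →ₗ[k] W) (hf : Hoch.IsComodHom C f) :
    HopfRep.IsSubcomod (k := k) (A := C) (LinearMap.range f) := by
  rintro _ ⟨v, rfl⟩
  have := LinearMap.congr_fun hf v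
  simp only [LinearMap.comp_apply] at this
  rw [this]
  have hfac : f = (LinearMap.range f).subtype ∘ₗ f.rangeRestrict := by
    ext x; rfl
  have h2 : f.rTensor C = (LinearMap.range f).subtype.rTensor C ∘ₗ f.rangeRestrict.rTensor C := by
    conv_lhs => rw [hfac]
    exact LinearMap.rTensor_comp _ _ _
  rw [h2]
  exact ⟨_, rfl⟩

end Groth.Agent.Lib.Helper5.ComodBasic
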