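import Mathlib
import Groth.Prelude.Def_SheafNL
import Groth.Prelude.Def_LCI2

set_option autoImplicit false
universe u v
open CategoryTheory CategoryTheory.Limits HomologicalComplex
attribute [local instance] HasDerivedCategory.standard

namespace Groth.Agent.Lib.Helper5.NLHtpy

theorem hr : (ComplexShape.up ℤ).Rel (-1) 0 := by simp

theorem hne : (-1 : ℤ) ≠ 0 := by decide

section Double

variable {C : Type u} [Category.{v} C] [Preadditive C] [HasZeroObject C]
  {X₀ X₁ Y₀ Y₁ : C} (a : X₀ ⟶ X₁) (b : Y₀ ⟶ Y₁)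

/-- the homotopy components -/
noncomputable def dhom (h : X₁ ⟶ Y₀) (i j : ℤ) : (double a hr).X i ⟶ (double b hr).X j :=
  if hij : i = 0 ∧ j = -1 then
    eqToHom (by rw [hij.1]) ≫ (doubleXIso₁ a hr hne).hom ≫ h ≫
      (doubleXIso₀ b hr).inv ≫ eqToHom (by rw [hij.2])
  else 0

theorem dhom_zero_neg_one (h : X₁ ⟶ Y₀) :
    dhom a b h 0 (-1) = (doubleXIso₁ a hr hne).hom ≫ h ≫ (doubleXIso₀ b hr).inv := by
  unfold dhom
  rw [dif_pos ⟨rfl, rfl⟩]
  simp

theorem dhom_eq_zero (h : X₁ ⟶ Y₀) (i j : ℤ) (hij : ¬ (i = 0 ∧ j = -1)) :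
    dhom a b h i j = 0 := by
  unfold dhom
  rw [dif_neg hij]

/-- homotopy between two maps of two-term complexes in degrees `-1, 0`. -/
noncomputable def doubleHomotopy (φ ψ : double a hr ⟶ double b hr) (h : X₁ ⟶ Y₀)
    (h0 : φ.f (-1) = (doubleXIso₀ a hr).hom ≫ a ≫ h ≫ (doubleXIso₀ b hr).inv + ψ.f (-1))
    (h1 : φ.f 0 = (doubleXIso₁ a hr hne).hom ≫ h ≫ b ≫
      (doubleXIso₁ b hr hne).inv + ψ.f 0) : Homotopy φ ψ where
  hom i j := dhom a b h i j
  zero i j hij := by
    refine dhom_eq_zero a b h i j ?_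
    rintro ⟨rfl, rfl⟩
    exact hij (by simp)
  comm i := by
    by_cases hi0 : i = -1
    · subst hi0
      rw [dNext_eq _ (show (ComplexShape.up ℤ).Rel (-1) 0 by simp),
        prevD_eq _ (show (ComplexShape.up ℤ).Rel (-2) (-1) by simp),
        dhom_zero_neg_one, dhom_eq_zero a b h (-1) (-2) (by decide), zero_comp, add_zero, h0,
        double_d a hr hne]
      simp
    · by_cases hi1 : i = 0
      · subst hi1
        rw [dNext_eq _ (show (ComplexShape.up ℤ).Rel 0 1 by simp),
          prevD_eq _ (show (ComplexShape.up ℤ).Rel (-1) 0 by simp),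
          dhom_zero_neg_one, dhom_eq_zero a b h 1 0 (by decide), comp_zero, zero_add, h1,
          double_d b hr hne]
        simp
      · exact (isZero_double_X a hr i hi0 hi1).eq_of_src _ _

end Double
section NL

open Algebra Algebra.Extension

variable {R S : Type u} [CommRing R] [CommRing S] [Algebra R S]
variable {P P' P'' : Algebra.Extension.{u} R S}

variable (P) in
noncomputable def x0Iso : (NLCx.cx P).X (-1) ≅ ModuleCat.of S P.Cotangent :=
  doubleXIso₀ (ModuleCat.ofHom P.cotangentComplex) hr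

variable (P) in
noncomputable def x1Iso : (NLCx.cx P).X 0 ≅ ModuleCat.of S P.CotangentSpace :=
  doubleXIso₁ (ModuleCat.ofHom P.cotangentComplex) hr hne

theorem cx_d : (NLCx.cx P).d (-1) 0 =
    (x0Iso P).hom ≫ ModuleCat.ofHom P.cotangentComplex ≫ (x1Iso P).inv :=
  double_d _ hr hne

theorem map_f_neg_one (f : P.Hom P') :
    (NLCx.map f).f (-1) = (x0Iso P).hom ≫ ModuleCat.ofHom (Cotangent.map f) ≫ (x0Iso P').inv :=
  mkHomFromDouble_f₀ _ _ _ _ _ _

theorem map_f_zero (f : P.Hom P') :
    (NLCx.map f).f 0 = (x1Iso P).hom ≫ ModuleCat.ofHom (CotangentSpace.map f) ≫ (x1Iso P').inv :=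
  mkHomFromDouble_f₁ _ _ _ _ _ _

theorem cx_hom_ext {K : DRing.Cx S} {φ ψ : NLCx.cx P ⟶ K} (h0 : φ.f (-1) = ψ.f (-1))
    (h1 : φ.f 0 = ψ.f 0) : φ = ψ :=
  from_double_hom_ext h0 h1

theorem map_id : NLCx.map (Hom.id P) = 𝟙 (NLCx.cx P) := by
  refine cx_hom_ext ?_ ?_
  · rw [map_f_neg_one, Cotangent.map_id]
    simp
  · rw [map_f_zero, CotangentSpace.map_id]
    simp

theorem map_comp (f : P.Hom P') (g : P'.Hom P'') :
    NLCx.map (g.comp f) = NLCx.map f ≫ NLCx.map g := by
  refine cx_hom_ext ?_ ?_
  · rw [HomologicalComplex.comp_f, map_f_neg_one, map_f_neg_one, map_f_neg_one, Cotangent.map_comp]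
    simp only [Category.assoc, Iso.inv_hom_id_assoc]
    rfl
  · rw [HomologicalComplex.comp_f, map_f_zero, map_f_zero, map_f_zero, CotangentSpace.map_comp]
    simp only [Category.assoc, Iso.inv_hom_id_assoc]
    rfl

theorem cotangent_map_eq (f g : P.Hom P') :
    ModuleCat.ofHom (Cotangent.map f) =
      ModuleCat.ofHom P.cotangentComplex ≫ ModuleCat.ofHom (f.sub g) +
        ModuleCat.ofHom (Cotangent.map g) := by
  have h := Cotangent.map_sub_map f g
  rw [sub_eq_iff_eq_add] at h
  rw [h]
  rfl

theorem cotangentSpace_map_eq (f g : P.Hom P') :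
    ModuleCat.ofHom (CotangentSpace.map f) =
      ModuleCat.ofHom (f.sub g) ≫ ModuleCat.ofHom P'.cotangentComplex +
        ModuleCat.ofHom (CotangentSpace.map g) := by
  have h := CotangentSpace.map_sub_map f g
  refine ModuleCat.hom_ext (LinearMap.ext fun x => ?_)
  have hx := LinearMap.congr_fun h x
  rw [LinearMap.sub_apply] at hx
  exact sub_eq_iff_eq_add.1 hx

/-- any two morphisms of extensions induce homotopic maps on naive cotangent complexes. -/
noncomputable def mapHomotopy (f g : P.Hom P') : Homotopy (NLCx.map f) (NLCx.map g) :=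
  doubleHomotopy (ModuleCat.ofHom P.cotangentComplex) (ModuleCat.ofHom P'.cotangentComplex)
    (NLCx.map f) (NLCx.map g) (ModuleCat.ofHom (f.sub g))
    (by
      have h1 := map_f_neg_one f
      have h2 := map_f_neg_one g
      rw [h1, h2, cotangent_map_eq f g]
      simp only [Preadditive.add_comp, Preadditive.comp_add, Category.assoc]
      rfl)
    (by
      have h1 := map_f_zero f
      have h2 := map_f_zero g
      rw [h1, h2, cotangentSpace_map_eq f g]
      simp only [Preadditive.add_comp, Preadditive.comp_add, Category.assoc]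
      rfl)

end NL

section NL2

open Algebra Algebra.Extension

variable {R S : Type u} [CommRing R] [CommRing S] [Algebra R S]
variable {P P' : Algebra.Extension.{u} R S}

/-- extensions with morphisms in both directions have homotopy equivalent naive cotangent
complexes. -/
noncomputable def homotopyEquiv (f : P.Hom P') (g : P'.Hom P) :
    HomotopyEquiv (NLCx.cx P) (NLCx.cx P') where
  hom := NLCx.map f
  inv := NLCx.map g
  homotopyHomInvId := (Homotopy.ofEq (map_comp f g).symm).trans
    ((mapHomotopy (g.comp f) (Hom.id P)).trans (Homotopy.ofEq map_id))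
  homotopyInvHomId := (Homotopy.ofEq (map_comp g f).symm).trans
    ((mapHomotopy (f.comp g) (Hom.id P')).trans (Homotopy.ofEq map_id))

theorem quasiIso_map (f : P.Hom P') (g : P'.Hom P) : QuasiIso (NLCx.map f) :=
  (homotopyEquiv f g).quasiIso_hom

/-- the induced isomorphism in the derived category. -/
noncomputable def toDIso (f : P.Hom P') (g : P'.Hom P) :
    DRing.toD (NLCx.cx P) ≅ DRing.toD (NLCx.cx P') :=
  have := quasiIso_map f g
  asIso (DerivedCategory.Q.map (NLCx.map f))

variable (R S) in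
/-- the naive cotangent complex of any presentation computes `LCI.NL`. -/
theorem nonempty_toD_iso_NL {ι : Type} (G : Algebra.Generators R S ι) :
    Nonempty (DRing.toD (NLCx.cx G.toExtension) ≅ LCI.NL R S) :=
  ⟨toDIso (G.defaultHom (Algebra.Generators.self R S)).toExtensionHom
    ((Algebra.Generators.self R S).defaultHom G).toExtensionHom⟩

end NL2


end Groth.Agent.Lib.Helper5.NLHtpy
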