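import Mathlib
import Groth.Agent.Lib.Helper5.KosLow

set_option autoImplicit false
universe u v
open TensorProduct CategoryTheory CategoryTheory.Limits

namespace Groth.Agent.Lib.Helper5.CotLoc

/-- freeness transfers from any model of the localization to the standard one. -/
theorem free_finite_of_isLocalizedModule {S : Type*} [CommRing S] (T : Submonoid S)
    {S' : Type*} [CommRing S'] [Algebra S S'] [IsLocalization T S']
    {M M' : Type*} [AddCommGroup M] [Module S M] [AddCommGroup M'] [Module S M'] [Module S' M']
    [IsScalarTower S S' M'] (φ : M →ₗ[S] M') [IsLocalizedModule T φ]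
    {ι : Type*} [Finite ι] (b : Module.Basis ι S' M') :
    Module.Free (Localization T) (LocalizedModule T M) ∧
      Module.Finite (Localization T) (LocalizedModule T M) := by
  let e₁ : Localization T ≃ₐ[S] S' := IsLocalization.algEquiv T _ _
  let _ : Module (Localization T) M' := Module.compHom M' (e₁ : Localization T →+* S')
  have hsm : ∀ (c : Localization T) (m : M'), c • m = e₁ c • m := fun c m => rfl
  have : IsScalarTower S (Localization T) M' := ⟨fun s x m => by
    rw [hsm, hsm, map_smul, smul_assoc]⟩
  let b' : Module.Basis ι (Localization T) M' :=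
    b.mapCoeffs e₁.symm.toRingEquiv (fun c x => by
      rw [hsm]
      simp)
  let e₂ : LocalizedModule T M ≃ₗ[S] M' := IsLocalizedModule.iso T φ
  let e₂' : LocalizedModule T M ≃ₗ[Localization T] M' :=
    e₂.extendScalarsOfIsLocalization T (Localization T)
  have h1 : Module.Free (Localization T) M' := Module.Free.of_basis b'
  have h2 : Module.Finite (Localization T) M' := Module.Finite.of_basis b'
  exact ⟨Module.Free.of_equiv e₂'.symm, Module.Finite.equiv e₂'.symm⟩
section

variable {A : Type u} [CommRing A] (I : Ideal A) (g : A)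

/-- the extension of `I` to the localization away from `g`. -/
abbrev Ig : Ideal (Localization.Away g) := I.map (algebraMap A (Localization.Away g))

theorem le_comap : I ≤ (Ig I g).comap (Algebra.ofId A (Localization.Away g)) :=
  Ideal.le_comap_map

/-- the localization map on cotangent modules. -/
noncomputable def cotMap : I.Cotangent →ₗ[A] (Ig I g).Cotangent :=
  Ideal.mapCotangent I (Ig I g) (Algebra.ofId A (Localization.Away g)) (le_comap I g)

theorem cotMap_toCotangent (a : I) :
    cotMap I g (I.toCotangent a) = (Ig I g).toCotangent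
      ⟨algebraMap A (Localization.Away g) a.1, Ideal.mem_map_of_mem _ a.2⟩ :=
  Ideal.mapCotangent_toCotangent _ _ _ _ a

theorem cotMap_surj (y : (Ig I g).Cotangent) :
    ∃ (x : I.Cotangent) (n : ℕ), (g ^ n) • y = cotMap I g x := by
  obtain ⟨z, rfl⟩ := Ideal.toCotangent_surjective _ y
  obtain ⟨⟨a, ⟨_, n, rfl⟩⟩, ha⟩ :=
    (IsLocalization.mem_map_algebraMap_iff (Submonoid.powers g) (Localization.Away g)).1 z.2
  refine ⟨I.toCotangent a, n, ?_⟩
  rw [cotMap_toCotangent, ← algebraMap_smul (Localization.Away g) (g ^ n), ← map_smul]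
  congr 1
  apply Subtype.ext
  change algebraMap A (Localization.Away g) (g ^ n) * z.1 = _
  rw [mul_comm]
  exact ha

theorem cotMap_eq_zero (x : I.Cotangent) (hx : cotMap I g x = 0) : ∃ n : ℕ, (g ^ n) • x = 0 := by
  obtain ⟨a, rfl⟩ := Ideal.toCotangent_surjective _ x
  rw [cotMap_toCotangent, Ideal.toCotangent_eq_zero] at hx
  change algebraMap A (Localization.Away g) a.1 ∈ (Ig I g) ^ 2 at hx
  rw [← Ideal.map_pow,
    IsLocalization.mem_map_algebraMap_iff (Submonoid.powers g) (Localization.Away g)] at hx
  obtain ⟨⟨b, ⟨_, n, rfl⟩⟩, hb⟩ := hx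
  rw [← map_mul, IsLocalization.eq_iff_exists (Submonoid.powers g)] at hb
  obtain ⟨⟨_, k, rfl⟩, hk⟩ := hb
  refine ⟨k + n, ?_⟩
  rw [← map_smul, Ideal.toCotangent_eq_zero]
  change (g ^ (k + n)) * a.1 ∈ I ^ 2
  have : g ^ (k + n) * a.1 = g ^ k * b.1 := by
    rw [← hk]; ring
  rw [this]
  exact Ideal.mul_mem_left _ _ b.2

end

section

variable {A : Type u} [CommRing A] (I : Ideal A) (g : A)

/-- `A ⧸ I`-module structure on the cotangent module of the localization. -/
@[reducible] noncomputable def modQ : Module (A ⧸ I) (Ig I g).Cotangent :=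
  Module.compHom _ (algebraMap (A ⧸ I) (Localization.Away g ⧸ Ig I g))

attribute [local instance] modQ

theorem mk_smul (a : A) (m : (Ig I g).Cotangent) : (Ideal.Quotient.mk I a) • m = a • m := by
  change (algebraMap (A ⧸ I) (Localization.Away g ⧸ Ig I g) (Ideal.Quotient.mk I a)) • m = _
  have h1 : algebraMap (A ⧸ I) (Localization.Away g ⧸ Ig I g) (Ideal.Quotient.mk I a) =
      algebraMap (Localization.Away g) (Localization.Away g ⧸ Ig I g)
        (algebraMap A (Localization.Away g) a) := rfl
  rw [h1, algebraMap_smul, algebraMap_smul]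

instance towerQ : IsScalarTower (A ⧸ I) (Localization.Away g ⧸ Ig I g) (Ig I g).Cotangent :=
  ⟨fun s x m => by
    change (s • x) • m = (algebraMap (A ⧸ I) (Localization.Away g ⧸ Ig I g) s) • (x • m)
    rw [Algebra.smul_def, mul_smul]⟩

/-- the localization map on cotangent modules, `A ⧸ I`-linear. -/
noncomputable def cotMapQ : I.Cotangent →ₗ[A ⧸ I] (Ig I g).Cotangent where
  toFun := cotMap I g
  map_add' := map_add _
  map_smul' := fun s x => by
    obtain ⟨a, rfl⟩ := Ideal.Quotient.mk_surjective s
    rw [RingHom.id_apply, mk_smul, ← map_smul]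
    congr 1

theorem cotMapQ_apply (x : I.Cotangent) : cotMapQ I g x = cotMap I g x := rfl

theorem pow_mk_smul (n : ℕ) (m : (Ig I g).Cotangent) :
    ((Ideal.Quotient.mk I g) ^ n) • m = (g ^ n) • m := by
  rw [← map_pow, mk_smul]

theorem pow_mk_smul' (n : ℕ) (m : I.Cotangent) :
    ((Ideal.Quotient.mk I g) ^ n) • m = (g ^ n) • m := by
  rw [← map_pow]
  exact algebraMap_smul (A ⧸ I) (g ^ n) m

instance isLocalizedModule_cotMapQ :
    IsLocalizedModule (Submonoid.powers (Ideal.Quotient.mk I g)) (cotMapQ I g) where
  map_units := by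
    rintro ⟨_, n, rfl⟩
    rw [Module.End.isUnit_iff]
    have hu : IsUnit (algebraMap A (Localization.Away g) (g ^ n)) :=
      IsLocalization.map_units (Localization.Away g) (⟨g ^ n, n, rfl⟩ : Submonoid.powers g)
    have key : ∀ m : (Ig I g).Cotangent,
        (algebraMap (A ⧸ I) (Module.End (A ⧸ I) (Ig I g).Cotangent) ((Ideal.Quotient.mk I g) ^ n)) m =
          (algebraMap A (Localization.Away g) (g ^ n)) • m := by
      intro m
      rw [Module.algebraMap_end_apply, pow_mk_smul, algebraMap_smul]
    constructor
    · intro m₁ m₂ h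
      rw [key, key] at h
      exact hu.smul_left_cancel.1 h
    · intro m
      obtain ⟨u, hu'⟩ := hu
      refine ⟨(↑u⁻¹ : Localization.Away g) • m, ?_⟩
      rw [key, ← hu', smul_smul, Units.mul_inv, one_smul]
  surj := by
    intro y
    obtain ⟨x, n, h⟩ := cotMap_surj I g y
    refine ⟨⟨x, ⟨_, n, rfl⟩⟩, ?_⟩
    change ((Ideal.Quotient.mk I g) ^ n) • y = cotMapQ I g x
    rw [pow_mk_smul, h]
    rfl
  exists_of_eq := by
    intro x₁ x₂ h
    have h0 : cotMap I g (x₁ - x₂) = 0 := by
      rw [map_sub, sub_eq_zero]
      exact h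
    obtain ⟨n, hn⟩ := cotMap_eq_zero I g _ h0
    refine ⟨⟨_, n, rfl⟩, ?_⟩
    change ((Ideal.Quotient.mk I g) ^ n) • x₁ = ((Ideal.Quotient.mk I g) ^ n) • x₂
    rw [pow_mk_smul', pow_mk_smul', ← sub_eq_zero, ← smul_sub]
    exact hn

end

section

variable {A : Type u} [CommRing A]

/-- transport a basis of the cotangent module along an equality of ideals. -/
noncomputable def transportBasis {ι : Type*} {J J' : Ideal A} (h : J = J')
    (b : Module.Basis ι (A ⧸ J) J.Cotangent) : Module.Basis ι (A ⧸ J') J'.Cotangent :=
  h ▸ b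

attribute [local instance] modQ

theorem free_finite_localized_cotangent (I : Ideal A) (g : A) (l : List (Localization.Away g))
    (hl : IsZero ((Koszul.koszul (Localization.Away g) l).homology (-1)))
    (hIl : I.map (algebraMap A (Localization.Away g)) = Ideal.span {x | x ∈ l}) :
    Module.Free (Localization.Away (Ideal.Quotient.mk I g))
        (LocalizedModule.Away (Ideal.Quotient.mk I g) I.Cotangent) ∧
      Module.Finite (Localization.Away (Ideal.Quotient.mk I g))
        (LocalizedModule.Away (Ideal.Quotient.mk I g) I.Cotangent) := by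
  have hloc : IsLocalization (Submonoid.powers (Ideal.Quotient.mk I g))
      (Localization.Away g ⧸ Ig I g) := by
    have h := (inferInstance : IsLocalization
      (Algebra.algebraMapSubmonoid (A ⧸ I) (Submonoid.powers g)) (Localization.Away g ⧸ Ig I g))
    have e : Algebra.algebraMapSubmonoid (A ⧸ I) (Submonoid.powers g) =
        Submonoid.powers (Ideal.Quotient.mk I g) := by
      simp [Algebra.algebraMapSubmonoid, Submonoid.map_powers]
    rwa [e] at h
  obtain ⟨b, -⟩ := Groth.Agent.Lib.Helper5.KosLow.exists_basis_cotangent l.length l.get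
    (by rwa [List.ofFn_get])
  have hJ : Ideal.span (Set.range l.get) = Ig I g := by
    change _ = I.map (algebraMap A (Localization.Away g))
    rw [hIl, Set.range_list_get]
  exact free_finite_of_isLocalizedModule (Submonoid.powers (Ideal.Quotient.mk I g))
    (cotMapQ I g) (transportBasis hJ b)

end

section

variable {A : Type u} [CommRing A]

/-- the conormal module of a Koszul-regular ideal is finite projective. -/
theorem cotangent_finite_projective (I : Ideal A) (hI : LCI.IsKoszulRegularIdeal I) :
    Module.Finite (A ⧸ I) I.Cotangent ∧ Module.Projective (A ⧸ I) I.Cotangent := by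
  let s : Set (A ⧸ I) := {r | Module.Free (Localization.Away r) (LocalizedModule.Away r I.Cotangent) ∧
    Module.Finite (Localization.Away r) (LocalizedModule.Away r I.Cotangent)}
  have hs : Ideal.span s = ⊤ := by
    by_contra hne
    obtain ⟨𝔪, hm, hle⟩ := Ideal.exists_le_maximal _ hne
    have hp : (𝔪.comap (Ideal.Quotient.mk I)).IsPrime := Ideal.comap_isPrime _ _
    have hIp : I ≤ 𝔪.comap (Ideal.Quotient.mk I) := by
      intro x hx
      rw [Ideal.mem_comap, Ideal.Quotient.eq_zero_iff_mem.2 hx]
      exact 𝔪.zero_mem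
    obtain ⟨g, hg, l, hl, hIl⟩ := hI ⟨𝔪.comap (Ideal.Quotient.mk I), hp⟩ hIp
    have hmem : Ideal.Quotient.mk I g ∈ s :=
      free_finite_localized_cotangent I g l (hl (-1) (by norm_num)) hIl
    exact hg (hle (Ideal.subset_span hmem))
  have hfp : Module.FinitePresentation (A ⧸ I) I.Cotangent := by
    refine Module.FinitePresentation.of_localizationSpan s hs (fun r => ?_)
    obtain ⟨h1, h2⟩ := r.2
    exact Module.finitePresentation_of_projective _ _
  have hflat : Module.Flat (A ⧸ I) I.Cotangent := by
    refine Module.flat_of_localized_span (A ⧸ I) I.Cotangent s hs (fun r => ?_)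
    obtain ⟨h1, h2⟩ := r.2
    have : Module.Flat (A ⧸ I) (Localization.Away r.1) :=
      IsLocalization.flat _ (Submonoid.powers r.1)
    exact Module.Flat.trans (A ⧸ I) (Localization.Away r.1) (LocalizedModule.Away r.1 I.Cotangent)
  exact ⟨inferInstance, Module.Flat.projective_of_finitePresentation⟩

end

section

open Algebra Algebra.Extension

variable {R S : Type u} [CommRing R] [CommRing S] [Algebra R S]

/-- the conormal module of an extension with Koszul-regular kernel is finite projective. -/
theorem extension_cotangent_finite_projective (P : Algebra.Extension.{u} R S)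
    (hK : LCI.IsKoszulRegularIdeal P.ker) :
    Module.Finite S P.Cotangent ∧ Module.Projective S P.Cotangent := by
  obtain ⟨h1, h2⟩ := cotangent_finite_projective P.ker hK
  let e₁ : (P.Ring ⧸ P.ker) ≃+* S :=
    RingHom.quotientKerEquivOfSurjective P.algebraMap_surjective
  have he₁ : ∀ p : P.Ring, e₁ (Ideal.Quotient.mk P.ker p) = algebraMap P.Ring S p := fun p => rfl
  have i1 : RingHomInvPair (e₁ : P.Ring ⧸ P.ker →+* S) (e₁.symm : S →+* P.Ring ⧸ P.ker) :=
    RingHomInvPair.of_ringEquiv e₁
  have i2 : RingHomInvPair (e₁.symm : S →+* P.Ring ⧸ P.ker) (e₁ : P.Ring ⧸ P.ker →+* S) :=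
    RingHomInvPair.of_ringEquiv_symm e₁
  let e₂ : P.ker.Cotangent ≃ₛₗ[(e₁ : P.Ring ⧸ P.ker →+* S)] P.Cotangent :=
    { toFun := Cotangent.of
      invFun := Cotangent.val
      map_add' := fun x y => rfl
      map_smul' := fun c m => by
        obtain ⟨p, rfl⟩ := Ideal.Quotient.mk_surjective c
        change Cotangent.of ((Ideal.Quotient.mk P.ker p) • m) =
          e₁ (Ideal.Quotient.mk P.ker p) • Cotangent.of m
        rw [he₁, algebraMap_smul]
        apply Cotangent.ext
        rw [Cotangent.val_smul', Cotangent.val_of, Cotangent.val_of]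
        exact algebraMap_smul (P.Ring ⧸ P.ker) p m
      left_inv := fun x => rfl
      right_inv := fun x => rfl }
  exact ⟨Module.Finite.of_surjective e₂.toLinearMap e₂.surjective, Module.Projective.of_equiv e₂⟩

end


end Groth.Agent.Lib.Helper5.CotLoc
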