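import Groth.Prelude.Def_EGA41
import Mathlib.RingTheory.AdicCompletion.Completeness

set_option autoImplicit false
set_option linter.unusedSectionVars false
universe u

namespace Groth.Agent.Lib.Helper5.AdicComplSmooth

open EGA41

variable {A B : Type u} [CommRing A] [CommRing B] [Algebra A B] (𝔟 : Ideal B)

/-- the completion map as a map of algebras over the base -/
noncomputable def ι : B →ₐ[A] AdicCompletion 𝔟 B :=
  { algebraMap B (AdicCompletion 𝔟 B) with commutes' := fun _ => rfl }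

lemma ι_apply (b : B) : ι (A := A) 𝔟 b = algebraMap B (AdicCompletion 𝔟 B) b := rfl

/-- evaluation as a map of algebras over the base -/
noncomputable def ev (n : ℕ) : AdicCompletion 𝔟 B →ₐ[A] B ⧸ 𝔟 ^ n :=
  { (AdicCompletion.evalₐ 𝔟 n).toRingHom with
    commutes' := fun a => by
      change AdicCompletion.evalₐ 𝔟 n (AdicCompletion.of 𝔟 B (algebraMap A B a)) = _
      rw [AdicCompletion.evalₐ_of]
      rfl }

lemma ev_algebraMap (n : ℕ) (b : B) :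
    ev (A := A) 𝔟 n (algebraMap B (AdicCompletion 𝔟 B) b) = Ideal.Quotient.mk _ b :=
  AdicCompletion.evalₐ_of 𝔟 n b

lemma map_pow_le_ker (n : ℕ) (x : AdicCompletion 𝔟 B)
    (hx : x ∈ (𝔟.map (algebraMap B (AdicCompletion 𝔟 B))) ^ n) : ev (A := A) 𝔟 n x = 0 := by
  rw [← Ideal.map_pow] at hx
  have hle : (𝔟 ^ n).map (algebraMap B (AdicCompletion 𝔟 B)) ≤
      RingHom.ker (ev (A := A) 𝔟 n) := by
    rw [Ideal.map_le_iff_le_comap]
    intro b hb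
    rw [Ideal.mem_comap, RingHom.mem_ker, ev_algebraMap]
    exact Ideal.Quotient.eq_zero_iff_mem.2 hb
  exact hle hx

lemma ker_le_map_pow (h : 𝔟.FG) (n : ℕ) (x : AdicCompletion 𝔟 B) (hx : ev (A := A) 𝔟 n x = 0) :
    x ∈ (𝔟.map (algebraMap B (AdicCompletion 𝔟 B))) ^ n := by
  have hx' : AdicCompletion.evalₐ 𝔟 n x = 0 := hx
  have h0 : AdicCompletion.eval 𝔟 B n x = 0 := by
    have hle : 𝔟 ^ n ≤ 𝔟 ^ n • (⊤ : Ideal B) := by
      rw [smul_eq_mul, Ideal.mul_top]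
    rw [← AdicCompletion.factor_evalₐ_eq_eval 𝔟 x hle, hx', map_zero]
  have h1 : x ∈ (𝔟 ^ n • ⊤ : Submodule B (AdicCompletion 𝔟 B)) := by
    rw [AdicCompletion.pow_smul_top_eq_ker_eval h]
    exact h0
  rw [← Ideal.map_pow]
  refine Submodule.smul_induction_on h1 ?_ ?_
  · intro r hr y _
    rw [Algebra.smul_def]
    exact Ideal.mul_mem_right _ _ (Ideal.mem_map_of_mem _ hr)
  · intro y z hy hz
    exact Ideal.add_mem _ hy hz

theorem isFormallySmoothAdic_completion_of (𝔞 : Ideal A) (hfg : 𝔟.FG)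
    (hB : IsFormallySmoothAdic A 𝔞 B 𝔟) :
    IsFormallySmoothAdic A 𝔞 (AdicCompletion 𝔟 B)
      (𝔟.map (algebraMap B (AdicCompletion 𝔟 B))) := by
  intro C _ _ J hJ h𝔞 uh huh
  obtain ⟨k, hk⟩ := huh
  let u : B →ₐ[A] C ⧸ J := uh.comp (ι 𝔟)
  have huk : ∀ x ∈ 𝔟 ^ k, u x = 0 := by
    intro x hx
    apply hk
    rw [← Ideal.map_pow]
    exact Ideal.mem_map_of_mem _ hx
  obtain ⟨v, hv⟩ := hB C J hJ h𝔞 u ⟨k, huk⟩
  have hvu : ∀ b, Ideal.Quotient.mk J (v b) = u b := fun b => AlgHom.congr_fun hv b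
  obtain ⟨s, hs⟩ := hJ
  have hvJ : (𝔟 ^ k).map v.toRingHom ≤ J := by
    rw [Ideal.map_le_iff_le_comap]
    intro x hx
    rw [Ideal.mem_comap]
    apply Ideal.Quotient.eq_zero_iff_mem.1
    change Ideal.Quotient.mk J (v x) = 0
    rw [hvu, huk x hx]
  have hvkill : ∀ x ∈ 𝔟 ^ (k * s + k), v x = 0 := by
    intro x hx
    have hx1 : x ∈ 𝔟 ^ (k * s) := Ideal.pow_le_pow_right (Nat.le_add_right _ _) hx
    have h1 : v x ∈ ((𝔟 ^ k).map v.toRingHom) ^ s := by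
      rw [← Ideal.map_pow, ← pow_mul]
      exact Ideal.mem_map_of_mem v.toRingHom hx1
    have h2 := Ideal.pow_right_mono hvJ s h1
    rw [hs, Ideal.zero_eq_bot] at h2
    exact (Submodule.mem_bot _).1 h2
  let vbar : B ⧸ 𝔟 ^ (k * s + k) →ₐ[A] C := Ideal.Quotient.liftₐ _ v hvkill
  refine ⟨vbar.comp (ev 𝔟 (k * s + k)), AlgHom.ext fun x => ?_⟩
  obtain ⟨b, hb⟩ := Ideal.Quotient.mk_surjective (ev (A := A) 𝔟 (k * s + k) x)
  have h0 : ev (A := A) 𝔟 (k * s + k) (x - algebraMap B (AdicCompletion 𝔟 B) b) = 0 := by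
    rw [map_sub, ev_algebraMap, hb, sub_self]
  have h1 := ker_le_map_pow (A := A) 𝔟 hfg _ _ h0
  have h2 : uh (x - algebraMap B (AdicCompletion 𝔟 B) b) = 0 :=
    hk _ (Ideal.pow_le_pow_right (Nat.le_add_left _ _) h1)
  rw [map_sub, sub_eq_zero] at h2
  change Ideal.Quotient.mk J (vbar (ev (A := A) 𝔟 (k * s + k) x)) = uh x
  rw [← hb, h2]
  change Ideal.Quotient.mk J (v b) = u b
  exact hvu b

theorem isFormallySmoothAdic_of_completion (𝔞 : Ideal A)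
    (hB : IsFormallySmoothAdic A 𝔞 (AdicCompletion 𝔟 B)
      (𝔟.map (algebraMap B (AdicCompletion 𝔟 B)))) :
    IsFormallySmoothAdic A 𝔞 B 𝔟 := by
  intro C _ _ J hJ h𝔞 u hu
  obtain ⟨k, hk⟩ := hu
  let ubar : B ⧸ 𝔟 ^ k →ₐ[A] C ⧸ J := Ideal.Quotient.liftₐ _ u hk
  let uh : AdicCompletion 𝔟 B →ₐ[A] C ⧸ J := ubar.comp (ev 𝔟 k)
  have huhk : ∀ x ∈ (𝔟.map (algebraMap B (AdicCompletion 𝔟 B))) ^ k, uh x = 0 := by
    intro x hx
    change ubar (ev (A := A) 𝔟 k x) = 0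
    rw [map_pow_le_ker 𝔟 k x hx, map_zero]
  obtain ⟨vh, hvh⟩ := hB C J hJ h𝔞 uh ⟨k, huhk⟩
  refine ⟨vh.comp (ι 𝔟), AlgHom.ext fun b => ?_⟩
  have := AlgHom.congr_fun hvh (ι (A := A) 𝔟 b)
  change Ideal.Quotient.mk J (vh (ι (A := A) 𝔟 b)) = u b
  change Ideal.Quotient.mk J (vh (ι (A := A) 𝔟 b)) = ubar (ev (A := A) 𝔟 k (ι (A := A) 𝔟 b)) at this
  rw [this, ι_apply, ev_algebraMap]
  rfl

end Groth.Agent.Lib.Helper5.AdicComplSmooth
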