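import Groth.Agent.Lib.Helper5.AdicRegA
import Groth.Agent.Lib.Helper5.CohenEqui
import Groth.Agent.Lib.Helper5.PowSer
import Mathlib

set_option autoImplicit false
universe u

namespace Groth.Agent.Lib.Helper5.AdicReg

open IsLocalRing

/-- Cohen presentation with explicit values on variables and constants. -/
theorem exists_surjective' (R : Type u) [CommRing R] [IsLocalRing R]
    [IsAdicComplete (maximalIdeal R) R] (σ : ResidueField R →+* R)
    (hσ : ∀ x : ResidueField R, residue R (σ x) = x)
    {d : ℕ} (a : Fin d → R) (ha : Ideal.span (Set.range a) = maximalIdeal R) :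
    ∃ Φ : MvPowerSeries (Fin d) (ResidueField R) →+* R, Function.Surjective Φ ∧
      (∀ i, Φ (MvPowerSeries.X i) = a i) ∧ (∀ c, Φ (MvPowerSeries.C c) = σ c) := by
  have hc : IsAdicComplete (Ideal.span (Set.range a)) R := by rw [ha]; infer_instance
  let e : R ≃ₐ[R] AdicCompletion (Ideal.span (Set.range a)) R :=
    AdicCompletion.ofAlgEquiv (Ideal.span (Set.range a))
  let Φ : MvPowerSeries (Fin d) (ResidueField R) →+* R :=
    (e.symm : AdicCompletion (Ideal.span (Set.range a)) R →+* R).comp
      ((Groth.Agent.Lib.helper19.psToCompletion a).comp (MvPowerSeries.map σ))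
  have hX : ∀ i, Φ (MvPowerSeries.X i) = a i := by
    intro i
    change e.symm (Groth.Agent.Lib.helper19.psToCompletion a
      (MvPowerSeries.map σ (MvPowerSeries.X i))) = a i
    rw [MvPowerSeries.map_X, Groth.Agent.Lib.helper19.psToCompletion_X, AlgEquiv.commutes]
    rfl
  have hC : ∀ c, Φ (MvPowerSeries.C c) = σ c := by
    intro c
    change e.symm (Groth.Agent.Lib.helper19.psToCompletion a
      (MvPowerSeries.map σ (MvPowerSeries.C c))) = σ c
    rw [MvPowerSeries.map_C, Groth.Agent.Lib.helper19.psToCompletion_C, AlgEquiv.commutes]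
    rfl
  refine ⟨Φ, ?_, hX, hC⟩
  have hmap : (Ideal.span (Set.range
      (MvPowerSeries.X : Fin d → MvPowerSeries (Fin d) (ResidueField R)))).map Φ =
      maximalIdeal R := by
    rw [Ideal.map_span, ← Set.range_comp, ← ha]
    congr 2
    ext i : 1
    exact hX i
  have haus : IsHausdorff ((Ideal.span (Set.range
      (MvPowerSeries.X : Fin d → MvPowerSeries (Fin d) (ResidueField R)))).map Φ) R := by
    rw [hmap]
    infer_instance
  apply surjective_of_mk_map_comp_surjective Φ
    (I := Ideal.span (Set.range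
      (MvPowerSeries.X : Fin d → MvPowerSeries (Fin d) (ResidueField R))))
  intro z
  obtain ⟨r, rfl⟩ := Ideal.Quotient.mk_surjective z
  refine ⟨MvPowerSeries.C (residue R r), ?_⟩
  rw [RingHom.comp_apply, hC, Ideal.Quotient.mk_eq_mk_iff_sub_mem, hmap, ← residue_eq_zero_iff,
    map_sub, hσ, sub_self]

theorem eq_single_of_degree_eq_one {ι : Type*} (d : ι →₀ ℕ) (h : d.degree = 1) :
    ∃ i, d = Finsupp.single i 1 := by
  classical
  have hne : d ≠ 0 := by
    rintro rfl
    simp at h
  obtain ⟨i, hi⟩ := Finsupp.ne_iff.1 hne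
  have h1 : d i ≤ 1 := h ▸ Finsupp.le_degree i d
  have h2 : d i = 1 := by
    have : d i ≠ 0 := by simpa using hi
    omega
  have hle : Finsupp.single i 1 ≤ d := by
    rw [Finsupp.single_le_iff]
    omega
  have h3 : d = Finsupp.single i 1 + (d - Finsupp.single i 1) := (add_tsub_cancel_of_le hle).symm
  have h4 : (d - Finsupp.single i 1).degree = 0 := by
    have := congrArg Finsupp.degree h3
    rw [map_add, Finsupp.degree_single, h] at this
    omega
  rw [Finsupp.degree_eq_zero_iff] at h4
  refine ⟨i, ?_⟩
  rw [h3, h4, add_zero]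

/-- the kernel of a minimal Cohen presentation lies in the square of the maximal ideal. -/
theorem ker_le_sq (R : Type u) [CommRing R] [IsLocalRing R] [IsNoetherianRing R]
    (σ : ResidueField R →+* R) (hσ : ∀ x : ResidueField R, residue R (σ x) = x)
    {d : ℕ} (a : Fin d → R) (ha : Ideal.span (Set.range a) = maximalIdeal R)
    (hd : d = (maximalIdeal R).spanFinrank)
    (Φ : MvPowerSeries (Fin d) (ResidueField R) →+* R)
    (hX : ∀ i, Φ (MvPowerSeries.X i) = a i) (hC : ∀ c, Φ (MvPowerSeries.C c) = σ c) :
    RingHom.ker Φ ≤ maximalIdeal (MvPowerSeries (Fin d) (ResidueField R)) ^ 2 := by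
  classical
  intro f hf
  rw [RingHom.mem_ker] at hf
  rw [PowSer.maximalIdeal_eq_span_X]
  have ham : ∀ i, a i ∈ maximalIdeal R := fun i => ha ▸ Ideal.subset_span ⟨i, rfl⟩
  set c₀ := MvPowerSeries.constantCoeff f with hc₀
  set c : Fin d → ResidueField R := fun i => MvPowerSeries.coeff (Finsupp.single i 1) f with hc
  set g := f - MvPowerSeries.C c₀ - ∑ i, MvPowerSeries.C (c i) * MvPowerSeries.X i with hg
  have hgmem : g ∈ (Ideal.span (Set.range
      (MvPowerSeries.X : Fin d → MvPowerSeries (Fin d) (ResidueField R)))) ^ 2 := by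
    apply PowSer.mem_pow_span_X
    intro e he
    have he' : e.degree = 0 ∨ e.degree = 1 := by omega
    rcases he' with he0 | he1
    · rw [Finsupp.degree_eq_zero_iff] at he0
      subst he0
      simp [hg, hc₀, MvPowerSeries.coeff_zero_eq_constantCoeff_apply]
    · obtain ⟨j, rfl⟩ := eq_single_of_degree_eq_one e he1
      simp only [hg, map_sub, map_sum, hc]
      rw [MvPowerSeries.coeff_C, if_neg (by simp)]
      rw [Finset.sum_eq_single j]
      · rw [MvPowerSeries.coeff_C_mul, MvPowerSeries.coeff_X, if_pos rfl]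
        ring
      · intro i _ hij
        rw [MvPowerSeries.coeff_C_mul, MvPowerSeries.coeff_X, if_neg, mul_zero]
        intro h
        exact hij ((Finsupp.single_left_injective one_ne_zero) h).symm
      · intro h; exact absurd (Finset.mem_univ j) h
  have hmap : (Ideal.span (Set.range
      (MvPowerSeries.X : Fin d → MvPowerSeries (Fin d) (ResidueField R)))).map Φ =
      maximalIdeal R := by
    rw [Ideal.map_span, ← Set.range_comp, ← ha]
    congr 2
    ext i : 1
    exact hX i
  have hΦg : Φ g ∈ maximalIdeal R ^ 2 := by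
    rw [← hmap, ← Ideal.map_pow]
    exact Ideal.mem_map_of_mem _ hgmem
  have hsq : maximalIdeal R ^ 2 ≤ maximalIdeal R := Ideal.pow_le_self two_ne_zero
  have hf' : σ c₀ + ∑ i, σ (c i) * a i + Φ g = 0 := by
    rw [← hf]
    have : f = MvPowerSeries.C c₀ + ∑ i, MvPowerSeries.C (c i) * MvPowerSeries.X i + g := by
      rw [hg]; ring
    conv_rhs => rw [this]
    simp only [map_add, map_sum, map_mul, hC, hX]
  have hsum_mem : ∑ i, σ (c i) * a i ∈ maximalIdeal R :=
    Ideal.sum_mem _ fun i _ => Ideal.mul_mem_left _ _ (ham i)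
  have hc0 : c₀ = 0 := by
    have h1 : σ c₀ ∈ maximalIdeal R := by
      have : σ c₀ = -(∑ i, σ (c i) * a i + Φ g) := by linear_combination hf'
      rw [this]
      exact neg_mem (Ideal.add_mem _ hsum_mem (hsq hΦg))
    rw [← hσ c₀]
    exact (residue_eq_zero_iff _).2 h1
  have hsum_sq : ∑ i, σ (c i) * a i ∈ maximalIdeal R ^ 2 := by
    have : ∑ i, σ (c i) * a i = -(Φ g) := by
      rw [hc0, map_zero] at hf'
      linear_combination hf'
    rw [this]
    exact neg_mem hΦg
  let ā : Fin d → CotangentSpace R := fun i => (maximalIdeal R).toCotangent ⟨a i, ham i⟩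
  have hspan : ⊤ ≤ Submodule.span (ResidueField R) (Set.range ā) := by
    intro x _
    obtain ⟨y, rfl⟩ := Ideal.toCotangent_surjective _ x
    have hy : (y : R) ∈ Ideal.span (Set.range a) := by rw [ha]; exact y.2
    have hle : Ideal.span (Set.range a) ≤ maximalIdeal R := ha.le
    have key : ∀ z (hz : z ∈ Ideal.span (Set.range a)),
        (maximalIdeal R).toCotangent ⟨z, hle hz⟩ ∈
          Submodule.span (ResidueField R) (Set.range ā) := by
      intro z hz
      induction hz using Submodule.span_induction with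
      | mem z hz =>
        obtain ⟨i, rfl⟩ := hz
        exact Submodule.subset_span ⟨i, rfl⟩
      | zero =>
        have : (⟨0, hle (Submodule.zero_mem _)⟩ : maximalIdeal R) = 0 := rfl
        rw [this, map_zero]
        exact Submodule.zero_mem _
      | add z w hz hw h1 h2 =>
        have : (⟨z + w, hle (Submodule.add_mem _ hz hw)⟩ : maximalIdeal R) =
            ⟨z, hle hz⟩ + ⟨w, hle hw⟩ := rfl
        rw [this, map_add]
        exact Submodule.add_mem _ h1 h2
      | smul r z hz h1 =>
        have : (⟨r • z, hle (Submodule.smul_mem _ r hz)⟩ : maximalIdeal R) =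
            r • ⟨z, hle hz⟩ := rfl
        rw [this, map_smul, ← algebraMap_smul (ResidueField R) r]
        exact Submodule.smul_mem _ _ h1
    exact key y hy
  have hcard : Fintype.card (Fin d) = Module.finrank (ResidueField R) (CotangentSpace R) := by
    rw [Fintype.card_fin, hd, spanFinrank_maximalIdeal_eq_finrank_cotangentSpace]
  have hli : LinearIndependent (ResidueField R) ā :=
    linearIndependent_of_top_le_span_of_card_eq_finrank hspan hcard
  have hzero : ∑ i, c i • ā i = 0 := by
    have h1 : ∀ i, c i • ā i = (maximalIdeal R).toCotangent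
        ⟨σ (c i) * a i, Ideal.mul_mem_left _ _ (ham i)⟩ := by
      intro i
      have : (⟨σ (c i) * a i, Ideal.mul_mem_left _ _ (ham i)⟩ : maximalIdeal R) =
          σ (c i) • ⟨a i, ham i⟩ := rfl
      rw [this, map_smul, ← algebraMap_smul (ResidueField R) (σ (c i))]
      congr 1
      exact (hσ (c i)).symm
    rw [Finset.sum_congr rfl (fun i _ => h1 i), ← map_sum, Ideal.toCotangent_eq_zero]
    rw [AddSubmonoidClass.coe_finsetSum]
    exact hsum_sq
  have hci : ∀ i, c i = 0 := fun i => (Fintype.linearIndependent_iff.1 hli c hzero) i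
  have hfg : f = g := by
    rw [hg, hc0, map_zero, sub_zero]
    simp [hci]
  rw [hfg]
  exact hgmem

end Groth.Agent.Lib.Helper5.AdicReg
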