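import Groth.Agent.Lib.Helper5.AdicRegB
import Groth.Agent.Lib.Helper5.AdicLift
import Groth.Agent.S4537
import Mathlib

set_option autoImplicit false
universe u

namespace Groth.Agent.Lib.Helper5.AdicReg

open IsLocalRing

theorem exists_gens' (R : Type u) [CommRing R] [IsLocalRing R] [IsNoetherianRing R] :
    ∃ (d : ℕ) (a : Fin d → R), Ideal.span (Set.range a) = maximalIdeal R ∧
      d = (maximalIdeal R).spanFinrank := by
  classical
  obtain ⟨s, hs1, hs2⟩ := Submodule.FG.exists_span_finset_card_eq_spanFinrank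
    (IsNoetherian.noetherian (maximalIdeal R))
  refine ⟨s.card, fun i => (s.equivFin.symm i : R), ?_, hs1⟩
  rw [← hs2]
  congr 1
  ext y
  constructor
  · rintro ⟨i, rfl⟩
    exact (s.equivFin.symm i).2
  · intro hy
    exact ⟨s.equivFin ⟨y, hy⟩, by simp⟩

/-- a complete Noetherian local algebra over a field, adically formally smooth, with separable
residue field, is a power series ring over its residue field, compatibly with the base field. -/
theorem exists_equiv_of_complete {k A : Type u} [Field k] [CommRing A] [IsLocalRing A]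
    [IsNoetherianRing A] [Algebra k A] [IsAdicComplete (maximalIdeal A) A]
    [Algebra.IsGeometricallyReduced k (ResidueField A)]
    (h : CAlgX.IsAdicFormallySmooth k A (maximalIdeal A)) :
    ∃ (n : ℕ) (e : A ≃+* MvPowerSeries (Fin n) (ResidueField A)),
      ∀ x : k, e (algebraMap k A x) = MvPowerSeries.C (algebraMap k (ResidueField A) x) := by
  obtain ⟨σ, hσ⟩ := Groth.Agent.S2452.result (k := k) (A := A)
  obtain ⟨d, a, ha, hd⟩ := exists_gens' A
  obtain ⟨Φ, hΦ, hX, hC⟩ := exists_surjective' A σ.toRingHom hσ a ha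
  have hker := ker_le_sq A σ.toRingHom hσ a ha hd Φ hX hC
  let P := MvPowerSeries (Fin d) (ResidueField A)
  let Φₐ : P →ₐ[k] A :=
    { Φ with
      commutes' := fun x => by
        change Φ (algebraMap k P x) = _
        rw [MvPowerSeries.algebraMap_apply, hC]
        exact σ.commutes x }
  have hΦₐ : Function.Surjective Φₐ := hΦ
  let J : Ideal P := RingHom.ker Φₐ
  have hJsq : J ≤ maximalIdeal P ^ 2 := hker
  have hsq : maximalIdeal P ^ 2 ≤ maximalIdeal P := Ideal.pow_le_self two_ne_zero
  have hJle : J ≤ maximalIdeal P := hJsq.trans hsq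
  have hnt : Nontrivial (P ⧸ J) :=
    Ideal.Quotient.nontrivial_iff.2 (fun h => (maximalIdeal.isMaximal P).ne_top
      (top_le_iff.1 (h ▸ hJle)))
  let eq : (P ⧸ J) ≃ₐ[k] A := Ideal.quotientKerAlgEquivOfSurjective hΦₐ
  have heq : ∀ y : P, eq (Ideal.Quotient.mk J y) = Φ y := fun y => rfl
  let u : A →ₐ[k] P ⧸ J := eq.symm
  have hB : EGA41.IsFormallySmoothAdic k ⊥ A (maximalIdeal A) :=
    (Groth.Agent.S4537.result (maximalIdeal A)).1 h
  have hne : (maximalIdeal P).map (Ideal.Quotient.mk J) ≠ ⊤ := by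
    intro htop
    have h1 := congrArg (Ideal.comap (Ideal.Quotient.mk J)) htop
    rw [Ideal.comap_map_of_surjective _ Ideal.Quotient.mk_surjective, ← RingHom.ker_eq_comap_bot,
      Ideal.mk_ker, sup_eq_left.2 hJle, Ideal.comap_top] at h1
    exact (maximalIdeal.isMaximal P).ne_top h1
  have hlocQ : IsLocalRing (P ⧸ J) :=
    IsLocalRing.of_surjective' (Ideal.Quotient.mk J) Ideal.Quotient.mk_surjective
  have haus : IsHausdorff ((maximalIdeal P).map (Ideal.Quotient.mk J)) (P ⧸ J) :=
    IsHausdorff.of_isLocalRing _ _ hne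
  have hlocΦ : ∀ y : P, Φ y ∈ maximalIdeal A → y ∈ maximalIdeal P := by
    intro y hy
    by_contra hny
    have hu : IsUnit y := by
      by_contra hnu
      exact hny ((mem_maximalIdeal y).2 hnu)
    exact (mem_maximalIdeal _).1 hy (hu.map Φ)
  obtain ⟨v, -, hv⟩ := AdicLift.exists_lift_adicComplete (𝔞 := (⊥ : Ideal k))
    (𝔟 := maximalIdeal A) (𝔠 := maximalIdeal P) hB ⟨1, by simp⟩ J ⟨1, by rw [pow_one]; exact hJle⟩ u
    ⟨1, by
      rw [pow_one, Ideal.map_le_iff_le_comap]
      intro x hx
      obtain ⟨y, rfl⟩ := hΦ x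
      rw [Ideal.mem_comap]
      have : u.toRingHom (Φ y) = Ideal.Quotient.mk J y := by
        change eq.symm (Φ y) = _
        rw [← heq, AlgEquiv.symm_apply_apply]
      rw [this]
      exact Ideal.mem_map_of_mem _ (hlocΦ y hx)⟩
  have hv' : ∀ x : A, Φ (v x) = x := by
    intro x
    have := AlgHom.congr_fun hv x
    change Ideal.Quotient.mk J (v x) = eq.symm x at this
    rw [← heq, this, AlgEquiv.apply_symm_apply]
  have hinj : Function.Injective Φ := injective_of_section Φ v.toRingHom hv' hker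
  refine ⟨d, (RingEquiv.ofBijective Φ ⟨hinj, hΦ⟩).symm, fun x => ?_⟩
  rw [RingEquiv.symm_apply_eq]
  change _ = Φ _
  rw [hC]
  exact (σ.commutes x).symm

end Groth.Agent.Lib.Helper5.AdicReg
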