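import Groth.Agent.Lib.Helper5.AdicRegC
import Groth.Agent.Lib.helper19.ComplUnram2
import Groth.Agent.S9318
import Mathlib

set_option autoImplicit false
universe u

namespace Groth.Agent.Lib.Helper5.AdicReg

open IsLocalRing

/-- ring isomorphism of power series rings induced by an isomorphism of coefficients. -/
noncomputable def psMapEquiv {K L : Type u} [CommRing K] [CommRing L] (n : ℕ) (e : K ≃+* L) :
    MvPowerSeries (Fin n) K ≃+* MvPowerSeries (Fin n) L :=
  RingEquiv.ofRingHom (MvPowerSeries.map (e : K →+* L)) (MvPowerSeries.map (e.symm : L →+* K))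
    (by
      ext f : 1
      rw [RingHom.comp_apply, ← RingHom.comp_apply, ← MvPowerSeries.map_comp]
      simp)
    (by
      ext f : 1
      rw [RingHom.comp_apply, ← RingHom.comp_apply, ← MvPowerSeries.map_comp]
      simp)

section

variable {k A : Type u} [Field k] [CommRing A] [IsLocalRing A] [IsNoetherianRing A] [Algebra k A]

theorem eRes_algebraMap (x : k) :
    Groth.Agent.Lib.Helper19.ComplUnram.eRes A (algebraMap k (ResidueField A) x) =
      algebraMap k (ResidueField (AdicCompletion (maximalIdeal A) A)) x := rfl

/-- adic formal smoothness passes to the completion. -/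
theorem adicSmooth_completion (h : CAlgX.IsAdicFormallySmooth k A (maximalIdeal A)) :
    CAlgX.IsAdicFormallySmooth k (AdicCompletion (maximalIdeal A) A)
      (maximalIdeal (AdicCompletion (maximalIdeal A) A)) := by
  have h1 := (Groth.Agent.S9318.result (R := k) (maximalIdeal A)
    (IsNoetherian.noetherian _)).1 h
  rwa [← AdicCompletion.maximalIdeal_eq_map] at h1

theorem adicSmooth_of_completion
    (h : CAlgX.IsAdicFormallySmooth k (AdicCompletion (maximalIdeal A) A)
      (maximalIdeal (AdicCompletion (maximalIdeal A) A))) :
    CAlgX.IsAdicFormallySmooth k A (maximalIdeal A) := by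
  rw [AdicCompletion.maximalIdeal_eq_map] at h
  exact (Groth.Agent.S9318.result (R := k) (maximalIdeal A) (IsNoetherian.noetherian _)).2 h

theorem geomReduced_residue_completion [Algebra.IsGeometricallyReduced k (ResidueField A)] :
    Algebra.IsGeometricallyReduced k (ResidueField (AdicCompletion (maximalIdeal A) A)) := by
  let f : ResidueField (AdicCompletion (maximalIdeal A) A) →ₐ[k] ResidueField A :=
    { ((Groth.Agent.Lib.Helper19.ComplUnram.eRes A).symm : _ →+* _) with
      commutes' := fun x => by
        change (Groth.Agent.Lib.Helper19.ComplUnram.eRes A).symm _ = _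
        rw [RingEquiv.symm_apply_eq]
        rfl }
  exact Algebra.IsGeometricallyReduced.of_injective f
    (Groth.Agent.Lib.Helper19.ComplUnram.eRes A).symm.injective

/-- the completion of an adically formally smooth Noetherian local algebra over a field with
separable residue field is a power series ring over the residue field. -/
theorem exists_equiv_completion [Algebra.IsGeometricallyReduced k (ResidueField A)]
    (h : CAlgX.IsAdicFormallySmooth k A (maximalIdeal A)) :
    ∃ (n : ℕ) (e : AdicCompletion (maximalIdeal A) A ≃+* MvPowerSeries (Fin n) (ResidueField A)),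
      ∀ x : k, e (algebraMap A (AdicCompletion (maximalIdeal A) A) (algebraMap k A x)) =
        algebraMap (ResidueField A) (MvPowerSeries (Fin n) (ResidueField A))
          (algebraMap k (ResidueField A) x) := by
  have hN : IsNoetherianRing (AdicCompletion (maximalIdeal A) A) :=
    Groth.Agent.Lib.helper19.isNoetherianRing_adicCompletion A _
  have hgr := geomReduced_residue_completion (k := k) (A := A)
  obtain ⟨n, e', he'⟩ := exists_equiv_of_complete (adicSmooth_completion h)
  refine ⟨n, e'.trans (psMapEquiv n (Groth.Agent.Lib.Helper19.ComplUnram.eRes A).symm), fun x => ?_⟩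
  have h1 : algebraMap A (AdicCompletion (maximalIdeal A) A) (algebraMap k A x) =
      algebraMap k (AdicCompletion (maximalIdeal A) A) x := rfl
  rw [h1, RingEquiv.trans_apply, he']
  change MvPowerSeries.map ((Groth.Agent.Lib.Helper19.ComplUnram.eRes A).symm :
    ResidueField (AdicCompletion (maximalIdeal A) A) →+* ResidueField A)
    (MvPowerSeries.C (algebraMap k (ResidueField (AdicCompletion (maximalIdeal A) A)) x)) = _
  rw [MvPowerSeries.map_C, MvPowerSeries.algebraMap_apply]
  congr 1
  change (Groth.Agent.Lib.Helper19.ComplUnram.eRes A).symm _ = _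
  rw [RingEquiv.symm_apply_eq]
  rfl

end

end Groth.Agent.Lib.Helper5.AdicReg
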