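import Groth.Agent.Lib.Helper5.PBasisBase
import Mathlib.Algebra.TrivSqZeroExt.Basic
import Mathlib.RingTheory.Derivation.Basic

set_option autoImplicit false
set_option linter.unusedSectionVars false

namespace Groth.Agent.Lib.Helper5.PBasis

/-- the action of the opposite ring, through the identification with the ring -/
abbrev opMod (B L : Type*) [CommRing B] [AddCommGroup L] [Module B L] : Module Bᵐᵒᵖ L :=
  Module.compHom L (RingEquiv.toOpposite B).symm.toRingHom

attribute [local instance] opMod

theorem isCentralScalar_opMod (B L : Type*) [CommRing B] [AddCommGroup L] [Module B L] :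
    IsCentralScalar B L := ⟨fun _ _ => rfl⟩

attribute [local instance] isCentralScalar_opMod

section HomDer

variable {B L : Type*} [CommRing B] [AddCommGroup L] [Module B L]

/-- the derivation attached to a ring section of `B ⊕ L → B` -/
def derOfHom (v : B →+* TrivSqZeroExt B L) (hv : ∀ b, (v b).fst = b) : Derivation ℤ B L :=
  Derivation.mk'
    (AddMonoidHom.toIntLinearMap
      { toFun := fun b => (v b).snd
        map_zero' := by rw [map_zero, TrivSqZeroExt.snd_zero]
        map_add' := fun b b' => by rw [map_add, TrivSqZeroExt.snd_add] })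
    (fun b b' => by
      change (v (b * b')).snd = b • (v b').snd + b' • (v b).snd
      rw [map_mul, TrivSqZeroExt.snd_mul, hv, hv, op_smul_eq_smul])

lemma derOfHom_apply (v : B →+* TrivSqZeroExt B L) (hv : ∀ b, (v b).fst = b) (b : B) :
    derOfHom v hv b = (v b).snd := rfl

/-- the ring section of `B ⊕ L → B` attached to a derivation -/
def homOfDer (D : Derivation ℤ B L) : B →+* TrivSqZeroExt B L where
  toFun b := TrivSqZeroExt.inl b + TrivSqZeroExt.inr (D b)
  map_one' := by
    rw [Derivation.map_one_eq_zero, TrivSqZeroExt.inr_zero, add_zero, TrivSqZeroExt.inl_one]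
  map_mul' b b' := by
    apply TrivSqZeroExt.ext
    · simp
    · simp only [TrivSqZeroExt.snd_add, TrivSqZeroExt.snd_inl, TrivSqZeroExt.snd_inr, zero_add,
        TrivSqZeroExt.snd_mul, TrivSqZeroExt.fst_add, TrivSqZeroExt.fst_inl, TrivSqZeroExt.fst_inr,
        add_zero, Derivation.leibniz, op_smul_eq_smul]
  map_zero' := by
    rw [map_zero, TrivSqZeroExt.inl_zero, TrivSqZeroExt.inr_zero, add_zero]
  map_add' b b' := by
    rw [map_add, TrivSqZeroExt.inl_add, TrivSqZeroExt.inr_add]
    abel

lemma homOfDer_apply (D : Derivation ℤ B L) (b : B) :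
    homOfDer D b = TrivSqZeroExt.inl b + TrivSqZeroExt.inr (D b) := rfl

lemma homOfDer_injective {D D' : Derivation ℤ B L} (h : homOfDer D = homOfDer D') : D = D' := by
  apply Derivation.ext
  intro b
  have := congrArg TrivSqZeroExt.snd (RingHom.congr_fun h b)
  simpa [homOfDer_apply] using this

end HomDer

section Extend

variable {R B L ι : Type*} [CommRing R] [CommRing B] [Algebra R B] [AddCommGroup L] [Module B L]
  (p : ℕ) (x : ι → B) (c : ι → R) (hc : ∀ i, algebraMap R B (c i) = x i ^ p)
  (hli : LinearIndependent R (fun e : Red ι p => mon x e.1))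
  (hsp : Submodule.span R (Set.range fun e : Red ι p => mon x e.1) = ⊤)
  (d₀ : R →+ L)
  (hd₀ : ∀ r r', d₀ (r * r') = algebraMap R B r • d₀ r' + algebraMap R B r' • d₀ r)

/-- the ring map `R → B ⊕ L`, `r ↦ (r, d₀ r)` -/
def baseHom : R →+* TrivSqZeroExt B L where
  toFun r := TrivSqZeroExt.inl (algebraMap R B r) + TrivSqZeroExt.inr (d₀ r)
  map_one' := by
    have h1 : d₀ 1 = 0 := by
      have := hd₀ 1 1
      rw [mul_one, (algebraMap R B).map_one, one_smul] at this
      exact left_eq_add.mp this
    rw [h1, TrivSqZeroExt.inr_zero, add_zero, map_one, TrivSqZeroExt.inl_one]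
  map_mul' r r' := by
    apply TrivSqZeroExt.ext
    · simp
    · simp only [TrivSqZeroExt.snd_add, TrivSqZeroExt.snd_inl, TrivSqZeroExt.snd_inr, zero_add,
        TrivSqZeroExt.snd_mul, TrivSqZeroExt.fst_add, TrivSqZeroExt.fst_inl, TrivSqZeroExt.fst_inr,
        add_zero, hd₀, op_smul_eq_smul]
  map_zero' := by
    rw [map_zero, map_zero, TrivSqZeroExt.inl_zero, TrivSqZeroExt.inr_zero, add_zero]
  map_add' r r' := by
    rw [map_add, map_add, TrivSqZeroExt.inl_add, TrivSqZeroExt.inr_add]
    abel

include hc hli hsp hd₀ in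
theorem exists_derivation_extending (hp : 0 < p) (hpB : (p : B) = 0)
    (hd₀c : ∀ i, d₀ (c i) = 0) (y : ι → L) :
    ∃ D' : Derivation ℤ B L, (∀ r, D' (algebraMap R B r) = d₀ r) ∧ ∀ i, D' (x i) = y i := by
  set z : ι → TrivSqZeroExt B L := fun i => TrivSqZeroExt.inl (x i) + TrivSqZeroExt.inr (y i)
    with hz
  have hzp : ∀ i, z i ^ p = baseHom d₀ hd₀ (c i) := by
    intro i
    apply TrivSqZeroExt.ext
    · change (z i ^ p).fst = (TrivSqZeroExt.inl (algebraMap R B (c i)) +
        TrivSqZeroExt.inr (d₀ (c i))).fst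
      rw [TrivSqZeroExt.fst_pow, hc]
      simp [hz]
    · change (z i ^ p).snd = (TrivSqZeroExt.inl (algebraMap R B (c i)) +
        TrivSqZeroExt.inr (d₀ (c i))).snd
      rw [TrivSqZeroExt.snd_pow, hd₀c, ← Nat.cast_smul_eq_nsmul B, hpB, zero_smul]
      simp
  set v := vhom p x c hc hli hsp (baseHom d₀ hd₀) z hzp hp with hvdef
  have hfst : ∀ b, (v b).fst = b := by
    have : (TrivSqZeroExt.fstHom B B L : TrivSqZeroExt B L →+* B).comp v = RingHom.id B := by
      apply ringHom_ext_of_span p x hsp
      · intro r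
        change (v (algebraMap R B r)).fst = algebraMap R B r
        rw [hvdef, vhom_algebraMap]
        simp [baseHom]
      · intro i
        change (v (x i)).fst = x i
        rw [hvdef, vhom_x]
        simp [hz]
    intro b
    exact RingHom.congr_fun this b
  refine ⟨derOfHom v hfst, ?_, ?_⟩
  · intro r
    rw [derOfHom_apply, hvdef, vhom_algebraMap]
    simp [baseHom]
  · intro i
    rw [derOfHom_apply, hvdef, vhom_x]
    simp [hz]

include hsp in
theorem derivation_ext_of_span (D D' : Derivation ℤ B L)
    (h₁ : ∀ r, D (algebraMap R B r) = D' (algebraMap R B r)) (h₂ : ∀ i, D (x i) = D' (x i)) :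
    D = D' := by
  apply homOfDer_injective
  apply ringHom_ext_of_span p x hsp
  · intro r
    rw [homOfDer_apply, homOfDer_apply, h₁]
  · intro i
    rw [homOfDer_apply, homOfDer_apply, h₂]

end Extend

end Groth.Agent.Lib.Helper5.PBasis
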