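import Groth.Prelude.Def_EGA41
import Groth.Agent.Lib.Helper5.PBasisDer
import Mathlib.RingTheory.Ideal.Quotient.Operations

set_option autoImplicit false
set_option linter.unusedSectionVars false
universe u

namespace Groth.Agent.Lib.Helper5.AdicSmoothDer2

open EGA41

attribute [local instance] PBasis.opMod PBasis.isCentralScalar_opMod

section

variable {B E N : Type u} [CommRing B] [CommRing E] [Algebra B E] [AddCommGroup N] [Module E N]
  [Module B N] [IsScalarTower B E N] (D : Derivation ℤ B N)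

variable (E) in
/-- the ring map `B → E ⊕ N`, `b ↦ (b, D b)` -/
def graphHom : B →+* TrivSqZeroExt E N where
  toFun b := TrivSqZeroExt.inl (algebraMap B E b) + TrivSqZeroExt.inr (D b)
  map_one' := by
    rw [Derivation.map_one_eq_zero, TrivSqZeroExt.inr_zero, add_zero, map_one,
      TrivSqZeroExt.inl_one]
  map_mul' b b' := by
    apply TrivSqZeroExt.ext
    · simp
    · simp only [TrivSqZeroExt.snd_add, TrivSqZeroExt.snd_inl, TrivSqZeroExt.snd_inr, zero_add,
        TrivSqZeroExt.snd_mul, TrivSqZeroExt.fst_add, TrivSqZeroExt.fst_inl, TrivSqZeroExt.fst_inr,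
        add_zero, Derivation.leibniz, op_smul_eq_smul, algebraMap_smul]
  map_zero' := by
    rw [map_zero, map_zero, TrivSqZeroExt.inl_zero, TrivSqZeroExt.inr_zero, add_zero]
  map_add' b b' := by
    rw [map_add, map_add, TrivSqZeroExt.inl_add, TrivSqZeroExt.inr_add]
    abel

lemma graphHom_fst (b : B) : (graphHom E D b).fst = algebraMap B E b := by
  simp [graphHom]

lemma graphHom_snd (b : B) : (graphHom E D b).snd = D b := by
  simp [graphHom]

lemma graphHom_mul_eq_zero {y z : B} (hy : algebraMap B E y = 0) (hz : algebraMap B E z = 0) :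
    graphHom E D (y * z) = 0 := by
  rw [map_mul]
  apply TrivSqZeroExt.ext
  · rw [TrivSqZeroExt.fst_mul, graphHom_fst, hy, zero_mul, TrivSqZeroExt.fst_zero]
  · rw [TrivSqZeroExt.snd_mul, graphHom_fst, graphHom_fst, hy, hz, zero_smul,
      TrivSqZeroExt.snd_zero]
    simp

end

section Main

variable {A B : Type u} [CommRing A] [CommRing B] [Algebra A B] (𝔞 : Ideal A) (𝔟 : Ideal B)
  {E : Type u} [CommRing E] [Algebra B E] [Algebra A E] [IsScalarTower A B E]
  {M N : Type u} [AddCommGroup M] [Module E M] [AddCommGroup N] [Module E N]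
  [Module B M] [IsScalarTower B E M] [Module B N] [IsScalarTower B E N]

/-- over an adically formally smooth algebra, derivations with values in discrete modules lift
along surjections -/
theorem exists_derivation_lift (h : IsFormallySmoothAdic A 𝔞 B 𝔟)
    (hE𝔞 : ∃ k : ℕ, (𝔞 ^ k).map (algebraMap A E) = ⊥)
    (hE𝔟 : ∃ n : ℕ, ∀ x ∈ 𝔟 ^ n, algebraMap B E x = 0)
    (f : M →ₗ[E] N) (hf : Function.Surjective f) (D : Derivation ℤ B N)
    (hD : ∀ a : A, D (algebraMap A B a) = 0) :
    ∃ D' : Derivation ℤ B M, (∀ a : A, D' (algebraMap A B a) = 0) ∧ ∀ b, f (D' b) = D b := by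
  letI algC : Algebra A (TrivSqZeroExt E M) :=
    ((TrivSqZeroExt.inlHom E M).comp (algebraMap A E)).toAlgebra
  letI algC' : Algebra A (TrivSqZeroExt E N) :=
    ((TrivSqZeroExt.inlHom E N).comp (algebraMap A E)).toAlgebra
  let F : TrivSqZeroExt E M →ₐ[A] TrivSqZeroExt E N :=
    { (TrivSqZeroExt.map f).toRingHom with
      commutes' := fun a => by
        change TrivSqZeroExt.map f (TrivSqZeroExt.inl (algebraMap A E a)) =
          TrivSqZeroExt.inl (algebraMap A E a)
        rw [TrivSqZeroExt.map_inl] }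
  have hFapply : ∀ c, F c = TrivSqZeroExt.map f c := fun _ => rfl
  have hF : Function.Surjective F := by
    intro c
    obtain ⟨m, hm⟩ := hf c.snd
    refine ⟨TrivSqZeroExt.inl c.fst + TrivSqZeroExt.inr m, ?_⟩
    rw [hFapply, map_add, TrivSqZeroExt.map_inl, TrivSqZeroExt.map_inr, hm,
      TrivSqZeroExt.inl_fst_add_inr_snd_eq]
  have hJ : IsNilpotent (RingHom.ker F) := by
    refine ⟨2, ?_⟩
    rw [pow_two, Ideal.zero_eq_bot, eq_bot_iff, Ideal.mul_le]
    intro c hc c' hc'
    have hc0 : F c = 0 := hc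
    have hc'0 : F c' = 0 := hc'
    have h1 : c.fst = 0 := by
      have := congrArg TrivSqZeroExt.fst hc0
      rwa [hFapply, TrivSqZeroExt.fst_map, TrivSqZeroExt.fst_zero] at this
    have h2 : c'.fst = 0 := by
      have := congrArg TrivSqZeroExt.fst hc'0
      rwa [hFapply, TrivSqZeroExt.fst_map, TrivSqZeroExt.fst_zero] at this
    rw [Ideal.mem_bot]
    apply TrivSqZeroExt.ext
    · rw [TrivSqZeroExt.fst_mul, h1, zero_mul, TrivSqZeroExt.fst_zero]
    · rw [TrivSqZeroExt.snd_mul, h1, h2, zero_smul, TrivSqZeroExt.snd_zero]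
      simp
  let e := Ideal.quotientKerAlgEquivOfSurjective hF
  let u₀ : B →ₐ[A] TrivSqZeroExt E N :=
    { graphHom E D with
      commutes' := fun a => by
        change graphHom E D (algebraMap A B a) = TrivSqZeroExt.inl (algebraMap A E a)
        apply TrivSqZeroExt.ext
        · rw [graphHom_fst, TrivSqZeroExt.fst_inl, ← IsScalarTower.algebraMap_apply]
        · rw [graphHom_snd, hD, TrivSqZeroExt.snd_inl] }
  have hu₀ : ∀ b, u₀ b = graphHom E D b := fun _ => rfl
  let u : B →ₐ[A] TrivSqZeroExt E M ⧸ RingHom.ker F := e.symm.toAlgHom.comp u₀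
  have hu : ∃ k : ℕ, ∀ x ∈ 𝔟 ^ k, u x = 0 := by
    obtain ⟨n, hn⟩ := hE𝔟
    refine ⟨n + n, fun x hx => ?_⟩
    have hx0 : u₀ x = 0 := by
      have hle : 𝔟 ^ (n + n) ≤ RingHom.ker (graphHom E D) := by
        rw [pow_add, Ideal.mul_le]
        intro y hy z hz
        exact graphHom_mul_eq_zero D (hn y hy) (hn z hz)
      exact hle hx
    change e.symm (u₀ x) = 0
    rw [hx0, map_zero]
  have hdisc : ∃ k : ℕ, (𝔞 ^ k).map (algebraMap A (TrivSqZeroExt E M)) = ⊥ := by
    obtain ⟨k, hk⟩ := hE𝔞
    refine ⟨k, ?_⟩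
    change (𝔞 ^ k).map ((TrivSqZeroExt.inlHom E M).comp (algebraMap A E)) = ⊥
    rw [← Ideal.map_map, hk, Ideal.map_bot]
  obtain ⟨v, hv⟩ := h (TrivSqZeroExt E M) (RingHom.ker F) hJ hdisc u hu
  have hFv : ∀ b, F (v b) = graphHom E D b := by
    intro b
    have h1 := AlgHom.congr_fun hv b
    have h2 : e (Ideal.Quotient.mk _ (v b)) = e (u b) := congrArg e h1
    rw [Ideal.quotientKerAlgEquivOfSurjective_mk] at h2
    have h3 : e (u b) = u₀ b := e.apply_symm_apply _
    rw [h3] at h2
    exact h2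
  have hfst : ∀ b, (v b).fst = algebraMap B E b := by
    intro b
    have := congrArg TrivSqZeroExt.fst (hFv b)
    rwa [hFapply, TrivSqZeroExt.fst_map, graphHom_fst] at this
  have hsnd : ∀ b, f (v b).snd = D b := by
    intro b
    have := congrArg TrivSqZeroExt.snd (hFv b)
    rwa [hFapply, TrivSqZeroExt.snd_map, graphHom_snd] at this
  refine ⟨Derivation.mk'
    (AddMonoidHom.toIntLinearMap
      { toFun := fun b => (v b).snd
        map_zero' := by rw [map_zero, TrivSqZeroExt.snd_zero]
        map_add' := fun b b' => by rw [map_add, TrivSqZeroExt.snd_add] })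
    (fun b b' => ?_), fun a => ?_, hsnd⟩
  · change (v (b * b')).snd = b • (v b').snd + b' • (v b).snd
    rw [map_mul, TrivSqZeroExt.snd_mul, hfst, hfst, op_smul_eq_smul, algebraMap_smul,
      algebraMap_smul]
  · change (v (algebraMap A B a)).snd = 0
    rw [v.commutes]
    change (TrivSqZeroExt.inl (algebraMap A E a) : TrivSqZeroExt E M).snd = 0
    rw [TrivSqZeroExt.snd_inl]

end Main

end Groth.Agent.Lib.Helper5.AdicSmoothDer2
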