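import Groth.Agent.S4606
import Groth.Agent.Lib.Helper5.AdicIso
import Mathlib.RingTheory.FiniteType
import Mathlib.RingTheory.Polynomial.Basic

set_option autoImplicit false
set_option linter.unusedSectionVars false
universe u

namespace Groth.Agent.Lib.Helper5.AdicStalk

open IsLocalRing

/-- for a finite type algebra over a Noetherian ring, adic formal smoothness of a local ring of
the algebra over the local ring of the base implies formal smoothness over the base -/
theorem formallySmooth_of_jacSmooth_localRingHom {A C : Type u} [CommRing A] [CommRing C]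
    [Algebra A C] [IsNoetherianRing A] [Algebra.FiniteType A C] (I : Ideal A) [I.IsPrime]
    (J : Ideal C) [J.IsPrime] (hIJ : I = J.comap (algebraMap A C))
    (h : AdicIso.JacSmooth (Localization.localRingHom I J (algebraMap A C) hIJ)) :
    Algebra.FormallySmooth A (Localization.AtPrime J) := by
  subst hIJ
  let _ : Algebra (Localization.AtPrime (J.comap (algebraMap A C))) (Localization.AtPrime J) :=
    (Localization.localRingHom (J.comap (algebraMap A C)) J (algebraMap A C) rfl).toAlgebra
  have _ : IsScalarTower A (Localization.AtPrime (J.comap (algebraMap A C)))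
      (Localization.AtPrime J) := by
    refine IsScalarTower.of_algebraMap_eq (fun a => ?_)
    change _ = Localization.localRingHom (J.comap (algebraMap A C)) J (algebraMap A C) rfl
      (algebraMap A _ a)
    rw [Localization.localRingHom_to_map, ← IsScalarTower.algebraMap_apply]
  have h1 : CAlgX.IsAdicFormallySmooth (Localization.AtPrime (J.comap (algebraMap A C)))
      (Localization.AtPrime J) (maximalIdeal (Localization.AtPrime J)) := by
    rw [AdicIso.isAdicFormallySmooth_iff_liftProp,
      ← IsLocalRing.jacobson_eq_maximalIdeal (⊥ : Ideal (Localization.AtPrime J)) bot_ne_top]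
    exact h
  obtain ⟨n, φ, hφ⟩ := Algebra.FiniteType.iff_quotient_mvPolynomial''.1
    (inferInstance : Algebra.FiniteType A C)
  let _ : Algebra (MvPolynomial (Fin n) A) C := φ.toRingHom.toAlgebra
  have _ : IsScalarTower A (MvPolynomial (Fin n) A) C :=
    IsScalarTower.of_algebraMap_eq (fun a => (φ.commutes a).symm)
  have hsurj : Function.Surjective (algebraMap (MvPolynomial (Fin n) A) C) := hφ
  have hinj := (Groth.Agent.S4606.result (A := A) (B := MvPolynomial (Fin n) A) hsurj J).1 h1
  have hfinJ : Module.Finite (MvPolynomial (Fin n) A)
      (RingHom.ker (algebraMap (MvPolynomial (Fin n) A) C)) :=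
    Module.Finite.iff_fg.2 (IsNoetherian.noetherian _)
  have _ : Module.Finite (MvPolynomial (Fin n) A)
      (RingHom.ker (algebraMap (MvPolynomial (Fin n) A) C)).Cotangent :=
    Module.Finite.of_surjective (RingHom.ker (algebraMap (MvPolynomial (Fin n) A) C)).toCotangent
      (Ideal.toCotangent_surjective _)
  have htfae := Groth.Agent.S2463.result (A := A) (B := MvPolynomial (Fin n) A) hsurj J
  exact (htfae.out 0 1).2 hinj

end Groth.Agent.Lib.Helper5.AdicStalk
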