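import Mathlib
import Groth.Agent.Lib.Helper28.ModGlueHom

set_option autoImplicit false
universe u
open CategoryTheory CategoryTheory.Limits AlgebraicGeometry Opposite TopologicalSpace

namespace Groth.Agent.Lib.Helper5.AffGlue

open Groth.Agent.Lib.Helper28.QCohLoc

variable {X : Scheme.{u}}

theorem le_iSup_affine (W : X.Opens) :
    W ≤ ⨆ i : {U : X.affineOpens // U.1 ≤ W}, i.1.1 := by
  intro q hq
  obtain ⟨_, ⟨(U : X.Opens), (hU : IsAffineOpen U), rfl⟩, (hqU : q ∈ U), (hUW : U ≤ W)⟩ :=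
    X.isBasis_affineOpens.exists_subset_of_mem_open hq W.isOpen
  exact Opens.mem_iSup.mpr ⟨⟨⟨U, hU⟩, hUW⟩, hqU⟩

/-- two morphisms of modules agreeing on sections over affine opens are equal -/
theorem hom_ext_affine {F G : X.Modules} (ψ ψ' : F ⟶ G)
    (h : ∀ (U : X.affineOpens) (x : Γ(F, U.1)), ψ.app U.1 x = ψ'.app U.1 x) : ψ = ψ' := by
  apply Scheme.Modules.hom_ext
  intro W
  ext x
  refine eq_of_locally_eq G (fun i : {U : X.affineOpens // U.1 ≤ W} => i.1.1) W (fun i => i.2)
    (le_iSup_affine W) _ _ fun i => ?_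
  rw [← app_res, ← app_res]
  exact h i.1 _

/-- affine-local data for a morphism of modules -/
structure AffineHomData (F G : X.Modules) where
  φ : ∀ U : X.affineOpens, Γ(F, U.1) → Γ(G, U.1)
  add : ∀ (U : X.affineOpens) (x y : Γ(F, U.1)), φ U (x + y) = φ U x + φ U y
  smul : ∀ (U : X.affineOpens) (a : Γ(X, U.1)) (x : Γ(F, U.1)), φ U (a • x) = a • φ U x
  nat : ∀ (U V : X.affineOpens) (h : V.1 ≤ U.1) (x : Γ(F, U.1)),
    φ V (res F h x) = res G h (φ U x)

namespace AffineHomData

variable {F G : X.Modules} (D : AffineHomData F G)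

theorem exists_glue (W : X.Opens) (x : Γ(F, W)) :
    ∃ z : Γ(G, W), ∀ (V : X.affineOpens) (h : V.1 ≤ W), res G h z = D.φ V (res F h x) := by
  obtain ⟨z, hz⟩ := exists_gluing G (fun i : {U : X.affineOpens // U.1 ≤ W} => i.1.1) W
    (fun i => i.2) (le_iSup_affine W) (fun i => D.φ i.1 (res F i.2 x)) (by
      intro i j
      refine eq_of_locally_eq G
        (fun k : {U : X.affineOpens // U.1 ≤ i.1.1 ⊓ j.1.1} => k.1.1) _ (fun k => k.2)
        (le_iSup_affine _) _ _ fun k => ?_
      rw [res_res, res_res, ← D.nat i.1 k.1 (k.2.trans inf_le_left),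
        ← D.nat j.1 k.1 (k.2.trans inf_le_right), res_res, res_res])
  exact ⟨z, fun V h => hz ⟨V, h⟩⟩

theorem glue_unique (W : X.Opens) (z z' : Γ(G, W))
    (h : ∀ (V : X.affineOpens) (h : V.1 ≤ W), res G h z = res G h z') : z = z' :=
  eq_of_locally_eq G (fun i : {U : X.affineOpens // U.1 ≤ W} => i.1.1) W (fun i => i.2)
    (le_iSup_affine W) z z' (fun i => h i.1 i.2)

/-- the glued map on sections -/
noncomputable def glue (W : X.Opens) (x : Γ(F, W)) : Γ(G, W) := (D.exists_glue W x).choose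

theorem glue_spec (W : X.Opens) (x : Γ(F, W)) (V : X.affineOpens) (h : V.1 ≤ W) :
    res G h (D.glue W x) = D.φ V (res F h x) := (D.exists_glue W x).choose_spec V h

theorem glue_eq (W : X.Opens) (x : Γ(F, W)) (z : Γ(G, W))
    (h : ∀ (V : X.affineOpens) (h : V.1 ≤ W), res G h z = D.φ V (res F h x)) : D.glue W x = z :=
  glue_unique W _ _ fun V hle => (D.glue_spec W x V hle).trans (h V hle).symm

theorem glue_of_affine (U : X.affineOpens) (x : Γ(F, U.1)) : D.glue U.1 x = D.φ U x := by
  refine D.glue_eq U.1 x _ fun V h => ?_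
  rw [← D.nat U V h x]

theorem glue_add (W : X.Opens) (x y : Γ(F, W)) : D.glue W (x + y) = D.glue W x + D.glue W y := by
  refine D.glue_eq W _ _ fun V h => ?_
  rw [res_add, res_add, D.add, D.glue_spec, D.glue_spec]

theorem glue_smul (W : X.Opens) (a : Γ(X, W)) (x : Γ(F, W)) :
    D.glue W (a • x) = a • D.glue W x := by
  refine D.glue_eq W _ _ fun V h => ?_
  rw [res_smul, res_smul, D.smul, D.glue_spec]

theorem glue_res {W W' : X.Opens} (h : W' ≤ W) (x : Γ(F, W)) :
    D.glue W' (res F h x) = res G h (D.glue W x) := by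
  refine D.glue_eq W' _ _ fun V hle => ?_
  rw [res_res, res_res, D.glue_spec]

/-- the glued morphism -/
noncomputable def hom : F ⟶ G :=
  ⟨PresheafOfModules.homMk
    { app := fun U => AddCommGrpCat.ofHom (AddMonoidHom.mk' (D.glue U.unop) (D.glue_add U.unop))
      naturality := fun U V f => by
        ext x
        exact D.glue_res (leOfHom f.unop) x }
    fun U a x => D.glue_smul U.unop a x⟩

theorem hom_app_eq_glue (W : X.Opens) (x : Γ(F, W)) : D.hom.app W x = D.glue W x := rfl

theorem hom_app (U : X.affineOpens) (x : Γ(F, U.1)) : D.hom.app U.1 x = D.φ U x :=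
  D.glue_of_affine U x

theorem hom_unique (ψ : F ⟶ G)
    (h : ∀ (U : X.affineOpens) (x : Γ(F, U.1)), ψ.app U.1 x = D.φ U x) : ψ = D.hom :=
  hom_ext_affine _ _ fun U x => (h U x).trans (D.hom_app U x).symm

end AffineHomData

end Groth.Agent.Lib.Helper5.AffGlue
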