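import Mathlib

open CategoryTheory Limits

universe u

namespace Groth.Agent.Lib.Helper5.ArtinApxA

variable (A : Type u) [CommRing A]

noncomputable def isColimitOfTypes {J : Type u} [SmallCategory J] [IsFiltered J]
    (D : J ⥤ Under (CommRingCat.of A)) (c : Cocone D)
    (hsurj : ∀ x : c.pt.right, ∃ j, ∃ y : (D.obj j).right, (c.ι.app j).right y = x)
    (hinj : ∀ j (y y' : (D.obj j).right), (c.ι.app j).right y = (c.ι.app j).right y' →
      ∃ k, ∃ f : j ⟶ k, (D.map f).right y = (D.map f).right y') : IsColimit c := by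
  have h1 : IsColimit ((forget CommRingCat).mapCocone ((Under.forget _).mapCocone c)) := by
    refine Types.FilteredColimit.isColimitOf' _ _ ?_ ?_
    · intro x
      obtain ⟨j, y, hy⟩ := hsurj x
      exact ⟨j, y, hy.symm⟩
    · intro j y y' h
      exact hinj j y y' h
  have : IsConnected J := IsFiltered.isConnected J
  have : ReflectsColimit (D ⋙ Under.forget (CommRingCat.of A)) (forget CommRingCat) :=
    reflectsColimit_of_reflectsIsomorphisms _ _
  have h2 : IsColimit ((Under.forget _).mapCocone c) := isColimitOfReflects (forget CommRingCat) h1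
  exact isColimitOfReflects (Under.forget _) h2

/-- The object of `Under A` attached to an `A`-algebra. -/
abbrev U (B : Type u) [CommRing B] [Algebra A B] : Under (CommRingCat.of A) :=
  Under.mk (CommRingCat.ofHom (algebraMap A B))

/-- The morphism of `Under A` attached to an algebra map. -/
def UHom {B C : Type u} [CommRing B] [Algebra A B] [CommRing C] [Algebra A C]
    (f : B →ₐ[A] C) : U A B ⟶ U A C :=
  Under.homMk (CommRingCat.ofHom f.toRingHom) (by
    ext a
    simp)

@[simp] theorem UHom_right_apply {B C : Type u} [CommRing B] [Algebra A B] [CommRing C] [Algebra A C]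
    (f : B →ₐ[A] C) (b : B) : (UHom A f).right b = f b := rfl

theorem UHom_comp {B C E : Type u} [CommRing B] [Algebra A B] [CommRing C] [Algebra A C]
    [CommRing E] [Algebra A E] (f : B →ₐ[A] C) (g : C →ₐ[A] E) :
    UHom A f ≫ UHom A g = UHom A (g.comp f) := by
  ext b
  rfl

section step1

variable (Λ : Type u) [CommRing Λ] [Algebra A Λ]

/-- The diagram of finitely generated subalgebras. -/
noncomputable def D1 : Finset Λ ⥤ Under (CommRingCat.of A) where
  obj s := U A (Algebra.adjoin A (s : Set Λ))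
  map {s t} f := UHom A (Subalgebra.inclusion (Algebra.adjoin_mono (by exact_mod_cast (leOfHom f))))
  map_id s := by
    ext b
    rfl
  map_comp f g := by
    ext b
    rfl

/-- The cocone of finitely generated subalgebras. -/
noncomputable def c1 : Cocone (D1 A Λ) where
  pt := U A Λ
  ι :=
    { app := fun s => UHom A (Algebra.adjoin A (s : Set Λ)).val
      naturality := fun s t f => by
        ext b
        rfl }

noncomputable def isColimit_c1 : IsColimit (c1 A Λ) := by
  classical
  refine isColimitOfTypes A _ _ ?_ ?_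
  · intro x
    refine ⟨({x} : Finset Λ), ⟨x, Algebra.subset_adjoin (Finset.mem_coe.mpr (Finset.mem_singleton_self x))⟩, rfl⟩
  · intro s y y' h
    refine ⟨s, 𝟙 s, ?_⟩
    have : y = y' := Subtype.ext h
    rw [this]

end step1

section step2

variable {Q L : Type u} [CommRing Q] [Algebra A Q] [CommRing L] [Algebra A L]
  (π : Q →ₐ[A] L) (hπ : Function.Surjective π)

/-- The ideal generated by a finite subset of the kernel. -/
def I2 (t : Finset (RingHom.ker π.toRingHom)) : Ideal Q :=
  Ideal.span ((fun x : RingHom.ker π.toRingHom => (x : Q)) '' (t : Set (RingHom.ker π.toRingHom)))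

theorem I2_le_ker (t : Finset (RingHom.ker π.toRingHom)) : I2 A π t ≤ RingHom.ker π.toRingHom := by
  rw [I2, Ideal.span_le]
  rintro _ ⟨x, -, rfl⟩
  exact x.2

theorem I2_mono {t t' : Finset (RingHom.ker π.toRingHom)} (h : t ≤ t') : I2 A π t ≤ I2 A π t' := by
  apply Ideal.span_mono
  apply Set.image_mono
  exact_mod_cast h

/-- The diagram of finitely presented quotients. -/
noncomputable def D2 : Finset (RingHom.ker π.toRingHom) ⥤ Under (CommRingCat.of A) where
  obj t := U A (Q ⧸ I2 A π t)
  map {t t'} f := UHom A (Ideal.Quotient.factorₐ A (I2_mono A π (leOfHom f)))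
  map_id t := by
    ext b
    obtain ⟨q, rfl⟩ := Ideal.Quotient.mk_surjective b
    rfl
  map_comp f g := by
    ext b
    obtain ⟨q, rfl⟩ := Ideal.Quotient.mk_surjective b
    rfl

/-- The cocone of finitely presented quotients. -/
noncomputable def c2 : Cocone (D2 A π) where
  pt := U A L
  ι :=
    { app := fun t => UHom A (Ideal.Quotient.liftₐ (I2 A π t) π (fun q hq => I2_le_ker A π t hq))
      naturality := fun s t f => by
        ext b
        obtain ⟨q, rfl⟩ := Ideal.Quotient.mk_surjective b
        rfl }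

include hπ in
noncomputable def isColimit_c2 : IsColimit (c2 A π) := by
  classical
  refine isColimitOfTypes A _ _ ?_ ?_
  · intro x
    obtain ⟨q, rfl⟩ := hπ x
    exact ⟨∅, Ideal.Quotient.mk _ q, rfl⟩
  · intro t y y' h
    obtain ⟨q, rfl⟩ := Ideal.Quotient.mk_surjective y
    obtain ⟨q', rfl⟩ := Ideal.Quotient.mk_surjective y'
    have hk : q - q' ∈ RingHom.ker π.toRingHom := by
      rw [RingHom.mem_ker, map_sub, sub_eq_zero]
      exact h
    refine ⟨insert ⟨q - q', hk⟩ t, homOfLE (Finset.subset_insert _ _), ?_⟩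
    show Ideal.Quotient.mk (I2 A π (insert ⟨q - q', hk⟩ t)) q = Ideal.Quotient.mk _ q'
    rw [Ideal.Quotient.eq]
    apply Ideal.subset_span
    exact ⟨⟨q - q', hk⟩, Finset.mem_coe.mpr (Finset.mem_insert_self _ _), rfl⟩

end step2

section main

variable (F : Under (CommRingCat.of A) ⥤ Type u)
  (hF : ∀ (J : Type u) [SmallCategory J] [IsFiltered J], PreservesColimitsOfShape J F)

include hF in
theorem exists_fp (Λ : Type u) [CommRing Λ] [Algebra A Λ] (ξ : F.obj (U A Λ)) :
    ∃ (P : Type u) (_ : CommRing P) (_ : Algebra A P) (_ : Algebra.FinitePresentation A P)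
      (ι : P →ₐ[A] Λ) (ξ' : F.obj (U A P)), F.map (UHom A ι) ξ' = ξ := by
  classical
  have := hF (Finset Λ)
  have h1 : IsColimit (F.mapCocone (c1 A Λ)) := isColimitOfPreserves F (isColimit_c1 A Λ)
  obtain ⟨s, ξ1, hξ1⟩ := Types.jointly_surjective_of_isColimit h1 ξ
  let L := Algebra.adjoin A (s : Set Λ)
  let π : MvPolynomial s A →ₐ[A] L :=
    MvPolynomial.aeval (fun i : s => (⟨i, Algebra.subset_adjoin i.2⟩ : L))
  have hπval : L.val.comp π = MvPolynomial.aeval (fun i : s => (i : Λ)) := by
    apply MvPolynomial.algHom_ext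
    intro i
    simp [π]
  have hπ : Function.Surjective π := by
    intro y
    have hy : (y : Λ) ∈ (MvPolynomial.aeval (R := A) (fun i : s => (i : Λ))).range := by
      rw [← Algebra.adjoin_range_eq_range_aeval]
      have : Set.range (fun i : s => (i : Λ)) = (s : Set Λ) := by
        ext x
        simp
      rw [this]
      exact y.2
    obtain ⟨q, hq⟩ := hy
    refine ⟨q, Subtype.ext ?_⟩
    rw [← hq, ← hπval]
    rfl
  have := hF (Finset (RingHom.ker π.toRingHom))
  have h2 : IsColimit (F.mapCocone (c2 A π)) := isColimitOfPreserves F (isColimit_c2 A π hπ)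
  obtain ⟨t, ξ2, hξ2⟩ := Types.jointly_surjective_of_isColimit h2 ξ1
  have hfg : (I2 A π t).FG := by
    rw [I2]
    exact Submodule.fg_span ((t.finite_toSet).image _)
  refine ⟨MvPolynomial s A ⧸ I2 A π t, inferInstance, inferInstance,
    Algebra.FinitePresentation.quotient hfg,
    L.val.comp (Ideal.Quotient.liftₐ (I2 A π t) π (fun q hq => I2_le_ker A π t hq)), ξ2, ?_⟩
  rw [← hξ1, ← hξ2]
  rw [← UHom_comp]
  rw [F.map_comp]
  rfl

include hF in
theorem exists_presentation (Λ : Type u) [CommRing Λ] [Algebra A Λ] (ξ : F.obj (U A Λ)) :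
    ∃ (k l : ℕ) (f : Fin l → MvPolynomial (Fin k) A)
      (ι : (MvPolynomial (Fin k) A ⧸ Ideal.span (Set.range f)) →ₐ[A] Λ)
      (ξ' : F.obj (U A (MvPolynomial (Fin k) A ⧸ Ideal.span (Set.range f)))),
      F.map (UHom A ι) ξ' = ξ := by
  classical
  obtain ⟨P, _, _, hP, ι, ξ', hξ'⟩ := exists_fp A F hF Λ ξ
  obtain ⟨k, g, hg, hfg⟩ := hP.out
  obtain ⟨S, hS⟩ := hfg
  let f : Fin S.card → MvPolynomial (Fin k) A := fun i => (S.equivFin.symm i : MvPolynomial (Fin k) A)
  have hf : Set.range f = (S : Set (MvPolynomial (Fin k) A)) := by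
    ext x
    constructor
    · rintro ⟨i, rfl⟩
      exact (S.equivFin.symm i).2
    · intro hx
      exact ⟨S.equivFin ⟨x, hx⟩, by simp [f]⟩
  have hker : Ideal.span (Set.range f) = RingHom.ker g.toRingHom := by
    rw [hf]
    exact hS
  let e : (MvPolynomial (Fin k) A ⧸ Ideal.span (Set.range f)) ≃ₐ[A] P :=
    (Ideal.quotientEquivAlgOfEq A hker).trans (Ideal.quotientKerAlgEquivOfSurjective hg)
  refine ⟨k, S.card, f, ι.comp e.toAlgHom, F.map (UHom A e.symm.toAlgHom) ξ', ?_⟩
  rw [← hξ']
  have key : UHom A e.symm.toAlgHom ≫ UHom A (ι.comp e.toAlgHom) = UHom A ι := by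
    ext b
    show ι (e (e.symm b)) = ι b
    rw [AlgEquiv.apply_symm_apply]
  rw [← key, F.map_comp]
  rfl

end main

end Groth.Agent.Lib.Helper5.ArtinApxA
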