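import Groth.Agent.Lib.Helper5.ArtinApxA

open CategoryTheory Limits

universe u

namespace Groth.Agent.Lib.Helper5.ArtinApxA

variable (A : Type u) [CommRing A]

theorem functor_approx (I : Ideal A) (c : ℕ)
    (hAP : ∀ (k l : ℕ) (f : Fin l → MvPolynomial (Fin k) A) (â : Fin k → AdicCompletion I A),
      (∀ i, MvPolynomial.aeval â (f i) = 0) →
      ∃ a : Fin k → A, (∀ i, MvPolynomial.eval a (f i) = 0) ∧
        ∀ j, Ideal.Quotient.mk (I ^ c) (a j) = AdicCompletion.evalₐ I c (â j))
    (F : Under (CommRingCat.of A) ⥤ Type u)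
    (hF : ∀ (J : Type u) [SmallCategory J] [IsFiltered J], PreservesColimitsOfShape J F)
    (π : Under.mk (CommRingCat.ofHom (algebraMap A (AdicCompletion I A))) ⟶
      Under.mk (CommRingCat.ofHom (algebraMap A (A ⧸ I ^ c))))
    (hπ : π.right = CommRingCat.ofHom
      (AdicCompletion.evalₐ I c : AdicCompletion I A →ₐ[A] A ⧸ I ^ c).toRingHom)
    (ρ : Under.mk (𝟙 (CommRingCat.of A)) ⟶ Under.mk (CommRingCat.ofHom (algebraMap A (A ⧸ I ^ c))))
    (ξ : F.obj (Under.mk (CommRingCat.ofHom (algebraMap A (AdicCompletion I A))))) :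
    ∃ η : F.obj (Under.mk (𝟙 (CommRingCat.of A))), F.map ρ η = F.map π ξ := by
  classical
  obtain ⟨k, l, f, ι, ξ', hξ'⟩ := exists_presentation A F hF (AdicCompletion I A) ξ
  let P := MvPolynomial (Fin k) A ⧸ Ideal.span (Set.range f)
  let â : Fin k → AdicCompletion I A := fun j => ι (Ideal.Quotient.mk _ (MvPolynomial.X j))
  have hâ : ∀ i, MvPolynomial.aeval â (f i) = 0 := by
    intro i
    have h1 : MvPolynomial.aeval â = ι.comp (Ideal.Quotient.mkₐ A (Ideal.span (Set.range f))) := by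
      apply MvPolynomial.algHom_ext
      intro j
      simp [â]
    rw [h1]
    have h2 : (Ideal.Quotient.mkₐ A (Ideal.span (Set.range f))) (f i) = 0 := by
      rw [Ideal.Quotient.mkₐ_eq_mk, Ideal.Quotient.eq_zero_iff_mem]
      exact Ideal.subset_span ⟨i, rfl⟩
    rw [AlgHom.comp_apply, h2, map_zero]
  obtain ⟨a, ha0, ha1⟩ := hAP k l f â hâ
  -- the map τ : P → A
  let τ : P →ₐ[A] A := Ideal.Quotient.liftₐ (Ideal.span (Set.range f)) (MvPolynomial.aeval a) (by
    intro q hq
    have hle : Ideal.span (Set.range f) ≤ RingHom.ker (MvPolynomial.aeval (R := A) a).toRingHom := by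
      rw [Ideal.span_le]
      rintro _ ⟨i, rfl⟩
      show MvPolynomial.aeval a (f i) = 0
      rw [MvPolynomial.aeval_eq_eval]
      exact ha0 i
    exact hle hq)
  let τU : U A P ⟶ Under.mk (𝟙 (CommRingCat.of A)) :=
    Under.homMk (CommRingCat.ofHom τ.toRingHom) (by
      ext x
      simp)
  refine ⟨F.map τU ξ', ?_⟩
  rw [← hξ']
  have key : τU ≫ ρ = UHom A ι ≫ π := by
    ext b
    obtain ⟨q, rfl⟩ := Ideal.Quotient.mk_surjective b
    -- both sides are A-algebra maps from the polynomial ring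
    have hρ : ∀ x : A, ρ.right x = Ideal.Quotient.mk (I ^ c) x := by
      intro x
      have := ρ.w
      have h3 := congrArg (fun g => g.right x) (rfl : ρ = ρ)
      have h4 : (Under.mk (𝟙 (CommRingCat.of A))).hom ≫ ρ.right =
          (Under.mk (CommRingCat.ofHom (algebraMap A (A ⧸ I ^ c)))).hom := Under.w ρ
      have h5 := congrArg (fun g => g x) (congrArg CommRingCat.Hom.hom h4)
      exact h5
    let g1 : MvPolynomial (Fin k) A →ₐ[A] A ⧸ I ^ c :=
      (Ideal.Quotient.mkₐ A (I ^ c)).comp (MvPolynomial.aeval a)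
    let g2 : MvPolynomial (Fin k) A →ₐ[A] A ⧸ I ^ c :=
      ((AdicCompletion.evalₐ I c).comp ι).comp (Ideal.Quotient.mkₐ A (Ideal.span (Set.range f)))
    have hg : g1 = g2 := by
      apply MvPolynomial.algHom_ext
      intro j
      simp only [g1, g2, AlgHom.comp_apply, MvPolynomial.aeval_X, Ideal.Quotient.mkₐ_eq_mk]
      exact ha1 j
    have h6 := congrArg (fun g => g q) hg
    show ρ.right (τ (Ideal.Quotient.mk _ q)) = π.right (ι (Ideal.Quotient.mk _ q))
    rw [hρ, hπ]
    exact h6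
  rw [← Functor.map_comp_apply, ← Functor.map_comp_apply, key]

end Groth.Agent.Lib.Helper5.ArtinApxA
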