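import Groth.Agent.Lib.Helper5.ArtinApxB
import Groth.Agent.Lib.helper19.CompletionNoetherian
import Groth.Agent.S0536
import Groth.Agent.S0525
import Groth.Prelude.Def_Found

open CategoryTheory Limits

universe u

namespace Groth.Agent.Lib.Helper5.ArtinApxC

/-- The statement of Popescu's theorem (S0595), as a hypothesis. -/
def Popescu : Prop := ∀ (R : Type u) [CommRing R] [IsNoetherianRing R] (Λ : Type u)
    [CommRing Λ] [IsNoetherianRing Λ] [Algebra R Λ] (_ : CAlg.IsRegularHom R Λ) (A : Type u)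
    [CommRing A] [Algebra R A] [Algebra.FinitePresentation R A] (f : A →ₐ[R] Λ),
    ∃ (B : Type u) (_ : CommRing B) (_ : Algebra R B), Algebra.Smooth R B ∧
      ∃ (g : A →ₐ[R] B) (h : B →ₐ[R] Λ), h.comp g = f

variable (hPop : Popescu.{u})

include hPop in
/-- Smooth-lifting form: for a henselian pair with regular completion map, any map from a f.p.
algebra to the completion is congruent mod `I^c` to a map to `A`. -/
theorem exists_algHom_of_henselian (A : Type u) [CommRing A] [IsNoetherianRing A]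
    (I : Ideal A) [HenselianRing A I] (hreg : CAlg.IsRegularHom A (AdicCompletion I A))
    (P : Type u) [CommRing P] [Algebra A P] [Algebra.FinitePresentation A P]
    (φ : P →ₐ[A] AdicCompletion I A) (c : ℕ) (hc : c ≠ 0) :
    ∃ τ : P →ₐ[A] A, (Ideal.Quotient.mkₐ A (I ^ c)).comp τ = (AdicCompletion.evalₐ I c).comp φ := by
  have : IsNoetherianRing (AdicCompletion I A) :=
    Groth.Agent.Lib.helper19.isNoetherianRing_adicCompletion A I
  obtain ⟨B, _, _, hB, g, h, hgh⟩ := hPop A (AdicCompletion I A) hreg P φ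
  have : HenselianRing A (I ^ c) :=
    (Groth.Agent.S0525.result A I (I ^ c) (by rw [Ideal.radical_pow I hc])).mp inferInstance
  obtain ⟨τ, hτ⟩ := Groth.Agent.S0536.result A B A (I ^ c) ((AdicCompletion.evalₐ I c).comp h)
  refine ⟨τ.comp g, ?_⟩
  rw [← AlgHom.comp_assoc, hτ, AlgHom.comp_assoc, hgh]

include hPop in
theorem approx_pair (A : Type u) [CommRing A] [IsNoetherianRing A]
    (I : Ideal A) [HenselianRing A I] (hreg : CAlg.IsRegularHom A (AdicCompletion I A))
    (k l c : ℕ) (f : Fin l → MvPolynomial (Fin k) A) (â : Fin k → AdicCompletion I A)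
    (hâ : ∀ i, MvPolynomial.aeval â (f i) = 0) :
    ∃ a : Fin k → A, (∀ i, MvPolynomial.eval a (f i) = 0) ∧
      ∀ j, Ideal.Quotient.mk (I ^ c) (a j) = AdicCompletion.evalₐ I c (â j) := by
  classical
  let P := MvPolynomial (Fin k) A ⧸ Ideal.span (Set.range f)
  have : Algebra.FinitePresentation A P :=
    Algebra.FinitePresentation.quotient (Submodule.fg_span (Set.finite_range f))
  let φ : P →ₐ[A] AdicCompletion I A :=
    Ideal.Quotient.liftₐ (Ideal.span (Set.range f)) (MvPolynomial.aeval â) (by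
      intro q hq
      have hle : Ideal.span (Set.range f) ≤ RingHom.ker (MvPolynomial.aeval (R := A) â).toRingHom := by
        rw [Ideal.span_le]
        rintro _ ⟨i, rfl⟩
        exact hâ i
      exact hle hq)
  -- reduce to c ≠ 0
  have main : ∀ c' : ℕ, c' ≠ 0 → ∃ a : Fin k → A, (∀ i, MvPolynomial.eval a (f i) = 0) ∧
      ∀ j, Ideal.Quotient.mk (I ^ c') (a j) = AdicCompletion.evalₐ I c' (â j) := by
    intro c' hc'
    obtain ⟨τ, hτ⟩ := exists_algHom_of_henselian hPop A I hreg P φ c' hc'
    refine ⟨fun j => τ (Ideal.Quotient.mk _ (MvPolynomial.X j)), ?_, ?_⟩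
    · intro i
      have h1 : MvPolynomial.aeval (fun j => τ (Ideal.Quotient.mk _ (MvPolynomial.X j))) =
          τ.comp (Ideal.Quotient.mkₐ A (Ideal.span (Set.range f))) := by
        apply MvPolynomial.algHom_ext
        intro j
        rw [MvPolynomial.aeval_X, AlgHom.comp_apply, Ideal.Quotient.mkₐ_eq_mk]
      rw [← MvPolynomial.aeval_eq_eval, h1, AlgHom.comp_apply]
      have h2 : (Ideal.Quotient.mkₐ A (Ideal.span (Set.range f))) (f i) = 0 := by
        rw [Ideal.Quotient.mkₐ_eq_mk, Ideal.Quotient.eq_zero_iff_mem]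
        exact Ideal.subset_span ⟨i, rfl⟩
      rw [h2, map_zero]
    · intro j
      have h3 := congrArg (fun ψ => ψ (Ideal.Quotient.mk _ (MvPolynomial.X j))) hτ
      simp only [AlgHom.comp_apply, Ideal.Quotient.mkₐ_eq_mk] at h3
      rw [h3]
      congr 1
      show (Ideal.Quotient.liftₐ (Ideal.span (Set.range f)) (MvPolynomial.aeval â) _)
        (Ideal.Quotient.mk _ (MvPolynomial.X j)) = â j
      rw [Ideal.Quotient.liftₐ_apply, Ideal.Quotient.lift_mk]
      exact MvPolynomial.aeval_X _ _
  by_cases hc : c = 0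
  · subst hc
    obtain ⟨a, ha0, -⟩ := main 1 one_ne_zero
    refine ⟨a, ha0, fun j => ?_⟩
    have : Subsingleton (A ⧸ I ^ 0) := by
      rw [pow_zero, Ideal.one_eq_top]
      exact Ideal.Quotient.subsingleton_iff.mpr rfl
    exact Subsingleton.elim _ _
  · exact main c hc

end Groth.Agent.Lib.Helper5.ArtinApxC
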