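import Mathlib
import Groth.Agent.S0536

open TensorProduct

universe u

namespace Groth.Agent.Lib.Helper5.ArtinApxE

set_option maxHeartbeats 800000 in
/-- A smooth algebra with a point in a henselian pair factors, modulo the ideal, through an etale algebra. -/
theorem exists_etale_factor (R : Type u) [CommRing R] (B : Type u) [CommRing B] [Algebra R B]
    [Algebra.Smooth R B]
    (C : Type u) [CommRing C] [IsLocalRing C] [Algebra R C] (𝔫 : Ideal C) [HenselianRing C 𝔫]
    (hsurj : ∀ c : C, ∃ r : R, c - algebraMap R C r ∈ 𝔫)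
    (h : B →ₐ[R] C) :
    ∃ (R' : Type u) (_ : CommRing R') (_ : Algebra R R'), Algebra.Etale R R' ∧
      ∃ (β : B →ₐ[R] R') (ψ : R' →ₐ[R] C), ∀ b : B, ψ (β b) - h b ∈ 𝔫 := by
  classical
  let q : Ideal B := (IsLocalRing.maximalIdeal C).comap h.toRingHom
  haveI : q.IsPrime := Ideal.comap_isPrime _ _
  haveI : Algebra.FinitePresentation R B := inferInstance
  haveI : Algebra.IsSmoothAt R q := by
    show Algebra.FormallySmooth R (Localization.AtPrime q)
    exact Algebra.FormallySmooth.comp R B (Localization.AtPrime q)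
  obtain ⟨g, hgq, n, algT, hT, hSE⟩ :=
    Algebra.IsSmoothAt.exists_isStandardEtale_mvPolynomial (R := R) (p := q)
  have hg_unit : IsUnit (h g) := by
    by_contra hnu
    exact hgq ((IsLocalRing.mem_maximalIdeal _).mpr hnu)
  let Bg := Localization.Away g
  let T := MvPolynomial (Fin n) R
  let hg : Bg →ₐ[R] C := IsLocalization.liftAlgHom (M := Submonoid.powers g) (f := h) (by
    rintro ⟨y, k, rfl⟩
    simpa using hg_unit.pow k)
  have hg_alg : ∀ b : B, hg (algebraMap B Bg b) = h b := by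
    intro b
    simp [hg]
  let cj : Fin n → C := fun j => hg (algebraMap T Bg (MvPolynomial.X j))
  let r : Fin n → R := fun j => (hsurj (cj j)).choose
  have hr : ∀ j, cj j - algebraMap R C (r j) ∈ 𝔫 := fun j => (hsurj (cj j)).choose_spec
  let ev : T →ₐ[R] R := MvPolynomial.aeval r
  letI algTR : Algebra T R := ev.toRingHom.toAlgebra
  haveI : IsScalarTower R T R := IsScalarTower.of_algebraMap_eq (fun x => by
    show x = ev (algebraMap R T x)
    simp [ev])
  letI algTC : Algebra T (C ⧸ 𝔫) := ((algebraMap R (C ⧸ 𝔫)).comp ev.toRingHom).toAlgebra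
  haveI : IsScalarTower T R (C ⧸ 𝔫) := IsScalarTower.of_algebraMap_eq (fun p => rfl)
  haveI : Algebra.Etale T Bg := inferInstance
  let R' := R ⊗[T] Bg
  haveI : Algebra.Etale R R' := inferInstance
  -- the map to C/𝔫
  have hcomm : ∀ p : T, (Ideal.Quotient.mk 𝔫) (hg (algebraMap T Bg p)) = algebraMap T (C ⧸ 𝔫) p := by
    intro p
    let φ1 : T →ₐ[R] C ⧸ 𝔫 := (Ideal.Quotient.mkₐ R 𝔫).comp (hg.comp (IsScalarTower.toAlgHom R T Bg))
    let φ2 : T →ₐ[R] C ⧸ 𝔫 := (Algebra.ofId R (C ⧸ 𝔫)).comp ev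
    have h12 : φ1 = φ2 := by
      apply MvPolynomial.algHom_ext
      intro j
      show (Ideal.Quotient.mk 𝔫) (cj j) = algebraMap R (C ⧸ 𝔫) (ev (MvPolynomial.X j))
      have : ev (MvPolynomial.X j) = r j := MvPolynomial.aeval_X r j
      rw [this, IsScalarTower.algebraMap_apply R C (C ⧸ 𝔫), Ideal.Quotient.algebraMap_eq,
        Ideal.Quotient.eq]
      exact hr j
    exact congrArg (fun φ => φ p) h12
  let g' : Bg →ₐ[T] C ⧸ 𝔫 :=
    { toRingHom := (Ideal.Quotient.mk 𝔫).comp hg.toRingHom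
      commutes' := hcomm }
  let σ : R' →ₐ[R] C ⧸ 𝔫 :=
    Algebra.TensorProduct.lift (Algebra.ofId R (C ⧸ 𝔫)) g' (fun _ _ => Commute.all _ _)
  haveI : Algebra.Smooth R R' := inferInstance
  obtain ⟨τ, hτ⟩ := Groth.Agent.S0536.result R R' C 𝔫 σ
  let β : B →ₐ[R] R' :=
    ((Algebra.TensorProduct.includeRight : Bg →ₐ[T] R ⊗[T] Bg).restrictScalars R).comp
      (IsScalarTower.toAlgHom R B Bg)
  refine ⟨R', inferInstance, inferInstance, inferInstance, β, τ, ?_⟩
  intro b
  rw [← Ideal.Quotient.eq]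
  have h1 := congrArg (fun φ => φ (β b)) hτ
  simp only [AlgHom.comp_apply, Ideal.Quotient.mkₐ_eq_mk] at h1
  rw [h1]
  show σ ((1 : R) ⊗ₜ[T] (algebraMap B Bg b)) = _
  rw [Algebra.TensorProduct.lift_tmul]
  simp only [map_one, one_mul]
  show (Ideal.Quotient.mk 𝔫) (hg (algebraMap B Bg b)) = _
  rw [hg_alg]

end Groth.Agent.Lib.Helper5.ArtinApxE
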