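import Groth.Agent.Lib.Helper5.ArtinApxC
import Groth.Agent.Lib.Helper5.ArtinApxE
import Groth.Agent.Lib.Helper5.ComplBase

open TensorProduct

universe u

namespace Groth.Agent.Lib.Helper5.ArtinApxF

open Groth.Agent.Lib.Helper5.ArtinApxC

variable (hPop : Popescu.{u})

theorem henselianRing_pow (R : Type u) [CommRing R] [IsNoetherianRing R] (I : Ideal R) (N : ℕ) :
    HenselianRing (AdicCompletion I R) ((I ^ (N + 1)).map (algebraMap R (AdicCompletion I R))) := by
  have : IsAdicComplete (I.map (algebraMap R (AdicCompletion I R))) (AdicCompletion I R) :=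
    AdicCompletion.isAdicComplete_self I (IsNoetherian.noetherian I)
  have h0 : HenselianRing (AdicCompletion I R) (I.map (algebraMap R (AdicCompletion I R))) :=
    inferInstance
  refine (Groth.Agent.S0525.result _ _ _ ?_).mp h0
  rw [Ideal.map_pow, Ideal.radical_pow _ (Nat.succ_ne_zero N)]

include hPop in
theorem exists_etale_solution (R : Type u) [CommRing R] [IsNoetherianRing R] (I : Ideal R)
    [IsLocalRing (AdicCompletion I R)]
    (hreg : CAlg.IsRegularHom R (AdicCompletion I R))
    (P : Type u) [CommRing P] [Algebra R P] [Algebra.FinitePresentation R P]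
    (φ : P →ₐ[R] AdicCompletion I R) (N : ℕ) :
    ∃ (R' : Type u) (_ : CommRing R') (_ : Algebra R R'), Algebra.Etale R R' ∧
      ∃ (β : P →ₐ[R] R') (ψ : R' →ₐ[R] AdicCompletion I R),
        ∀ p : P, ψ (β p) - φ p ∈ (I ^ (N + 1)).map (algebraMap R (AdicCompletion I R)) := by
  have : IsNoetherianRing (AdicCompletion I R) :=
    Groth.Agent.Lib.helper19.isNoetherianRing_adicCompletion R I
  obtain ⟨B, _, _, hB, g, h, hgh⟩ := hPop R (AdicCompletion I R) hreg P φ
  have := henselianRing_pow R I N
  obtain ⟨R', _, _, hR', β, ψ, hψ⟩ :=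
    Groth.Agent.Lib.Helper5.ArtinApxE.exists_etale_factor R B (AdicCompletion I R)
      ((I ^ (N + 1)).map (algebraMap R (AdicCompletion I R)))
      (fun c => Groth.Agent.Lib.Helper5.ComplBase.exists_sub_mem I (IsNoetherian.noetherian I) (N + 1) c) h
  refine ⟨R', inferInstance, inferInstance, hR', β.comp g, ψ, ?_⟩
  intro p
  have := hψ (g p)
  rw [← hgh]
  exact this

end Groth.Agent.Lib.Helper5.ArtinApxF
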