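import Groth.Agent.Lib.Helper5.ArtinApxF
import Groth.Agent.S0600

open TensorProduct

universe u

namespace Groth.Agent.Lib.Helper5.ArtinApxG

open Groth.Agent.Lib.Helper5.ArtinApxC Groth.Agent.Lib.Helper5.ArtinApxF

variable (hPop : Popescu.{u})

include hPop in
theorem s6825 {R : Type u} [CommRing R] [IsLocalRing R] (hG : CAlg.IsGRing R)
    {n m : ℕ} (F : Fin m → MvPolynomial (Fin n) R)
    (a : Fin n → AdicCompletion (IsLocalRing.maximalIdeal R) R) (ha : ∀ j, MvPolynomial.aeval a (F j) = 0)
    (N : ℕ) :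
    ∃ (R' : Type u) (_ : CommRing R') (_ : Algebra R R'), Algebra.Etale R R' ∧
      ∃ (ψ : R' →ₐ[R] AdicCompletion (IsLocalRing.maximalIdeal R) R) (m' : Ideal R'), m'.IsMaximal ∧
        m'.comap (algebraMap R R') = IsLocalRing.maximalIdeal R ∧
        (∀ x : R', ∃ r : R, x - algebraMap R R' r ∈ m') ∧
        (∀ x ∈ m', ψ x ∈ (IsLocalRing.maximalIdeal R).map
          (algebraMap R (AdicCompletion (IsLocalRing.maximalIdeal R) R))) ∧
        ∃ b : Fin n → R', (∀ j, MvPolynomial.aeval b (F j) = 0) ∧
          ∀ i, a i - ψ (b i) ∈ (IsLocalRing.maximalIdeal R ^ N).map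
            (algebraMap R (AdicCompletion (IsLocalRing.maximalIdeal R) R)) := by
  classical
  have : IsNoetherianRing R := hG.1
  have fg : (IsLocalRing.maximalIdeal R).FG := IsNoetherian.noetherian _
  let P := MvPolynomial (Fin n) R ⧸ Ideal.span (Set.range F)
  have : Algebra.FinitePresentation R P :=
    Algebra.FinitePresentation.quotient (Submodule.fg_span (Set.finite_range F))
  let φ : P →ₐ[R] AdicCompletion (IsLocalRing.maximalIdeal R) R :=
    Ideal.Quotient.liftₐ (Ideal.span (Set.range F)) (MvPolynomial.aeval a) (by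
      intro q hq
      have hle : Ideal.span (Set.range F) ≤ RingHom.ker (MvPolynomial.aeval (R := R) a).toRingHom := by
        rw [Ideal.span_le]
        rintro _ ⟨i, rfl⟩
        exact ha i
      exact hle hq)
  have hφX : ∀ i, φ (Ideal.Quotient.mk _ (MvPolynomial.X i)) = a i := by
    intro i
    show (Ideal.Quotient.liftₐ (Ideal.span (Set.range F)) (MvPolynomial.aeval a) _)
      (Ideal.Quotient.mk _ (MvPolynomial.X i)) = a i
    rw [Ideal.Quotient.liftₐ_apply, Ideal.Quotient.lift_mk]
    exact MvPolynomial.aeval_X _ _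
  obtain ⟨R', _, _, hR', β, ψ, hψ⟩ := exists_etale_solution hPop R (IsLocalRing.maximalIdeal R)
    (Groth.Agent.S0600.result R hG (IsLocalRing.maximalIdeal R)) P φ N
  have hM : IsLocalRing.maximalIdeal (AdicCompletion (IsLocalRing.maximalIdeal R) R) =
      (IsLocalRing.maximalIdeal R).map (algebraMap R (AdicCompletion (IsLocalRing.maximalIdeal R) R)) :=
    AdicCompletion.maximalIdeal_eq_map
  let m' : Ideal R' :=
    (IsLocalRing.maximalIdeal (AdicCompletion (IsLocalRing.maximalIdeal R) R)).comap ψ.toRingHom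
  have hm'prime : m'.IsPrime := Ideal.comap_isPrime _ _
  have hres : ∀ x : R', ∃ r : R, x - algebraMap R R' r ∈ m' := by
    intro x
    obtain ⟨r, hr⟩ := Groth.Agent.Lib.Helper5.ComplBase.exists_sub_mem (IsLocalRing.maximalIdeal R) fg 1 (ψ x)
    refine ⟨r, ?_⟩
    show ψ.toRingHom (x - algebraMap R R' r) ∈
      IsLocalRing.maximalIdeal (AdicCompletion (IsLocalRing.maximalIdeal R) R)
    rw [map_sub, hM]
    rw [pow_one] at hr
    have : ψ.toRingHom (algebraMap R R' r) = algebraMap R _ r := ψ.commutes r
    rw [this]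
    exact hr
  have hcomap : m'.comap (algebraMap R R') = IsLocalRing.maximalIdeal R := by
    ext r
    rw [Ideal.mem_comap]
    show ψ.toRingHom (algebraMap R R' r) ∈
      IsLocalRing.maximalIdeal (AdicCompletion (IsLocalRing.maximalIdeal R) R) ↔
      r ∈ IsLocalRing.maximalIdeal R
    have : ψ.toRingHom (algebraMap R R' r) = algebraMap R _ r := ψ.commutes r
    rw [this]
    constructor
    · intro h
      by_contra hr
      have hu : IsUnit r := by
        by_contra hnu
        exact hr ((IsLocalRing.mem_maximalIdeal r).mpr hnu)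
      exact ((IsLocalRing.mem_maximalIdeal _).mp h) (hu.map _)
    · intro h
      rw [hM]
      exact Ideal.mem_map_of_mem _ h
  have hmax : m'.IsMaximal := by
    rw [Ideal.isMaximal_iff]
    refine ⟨fun h1 => hm'prime.ne_top ((Ideal.eq_top_iff_one _).mpr h1), ?_⟩
    intro J x hJ hx hxJ
    obtain ⟨r, hr⟩ := hres x
    have hrm : r ∉ IsLocalRing.maximalIdeal R := by
      intro hrm
      apply hx
      have h1 : algebraMap R R' r ∈ m' := by
        rw [← hcomap] at hrm
        exact hrm
      have := m'.add_mem hr h1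
      simpa using this
    have hu : IsUnit r := by
      by_contra hnu
      exact hrm ((IsLocalRing.mem_maximalIdeal r).mpr hnu)
    have h2 : algebraMap R R' r ∈ J := by
      have := J.sub_mem hxJ (hJ hr)
      simpa using this
    have h3 : J = ⊤ := Ideal.eq_top_of_isUnit_mem _ h2 (hu.map _)
    rw [h3]
    trivial
  refine ⟨R', inferInstance, inferInstance, hR', ψ, m', hmax, hcomap, hres, ?_, ?_⟩
  · intro x hx
    rw [← hM]
    exact hx
  · refine ⟨fun i => β (Ideal.Quotient.mk _ (MvPolynomial.X i)), ?_, ?_⟩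
    · intro j
      have h1 : MvPolynomial.aeval (fun i => β (Ideal.Quotient.mk _ (MvPolynomial.X i))) =
          β.comp (Ideal.Quotient.mkₐ R (Ideal.span (Set.range F))) := by
        apply MvPolynomial.algHom_ext
        intro i
        rw [MvPolynomial.aeval_X, AlgHom.comp_apply, Ideal.Quotient.mkₐ_eq_mk]
      rw [h1, AlgHom.comp_apply]
      have h2 : (Ideal.Quotient.mkₐ R (Ideal.span (Set.range F))) (F j) = 0 := by
        rw [Ideal.Quotient.mkₐ_eq_mk, Ideal.Quotient.eq_zero_iff_mem]
        exact Ideal.subset_span ⟨j, rfl⟩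
      rw [h2, map_zero]
    · intro i
      have h1 := hψ (Ideal.Quotient.mk _ (MvPolynomial.X i))
      rw [hφX] at h1
      have hle : (IsLocalRing.maximalIdeal R ^ (N + 1)).map
          (algebraMap R (AdicCompletion (IsLocalRing.maximalIdeal R) R)) ≤
          (IsLocalRing.maximalIdeal R ^ N).map
          (algebraMap R (AdicCompletion (IsLocalRing.maximalIdeal R) R)) :=
        Ideal.map_mono (Ideal.pow_le_pow_right (Nat.le_succ N))
      have h2 := hle h1
      have h3 := Ideal.neg_mem_iff _ |>.mpr h2
      simpa using h3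

end Groth.Agent.Lib.Helper5.ArtinApxG
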