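import Groth.Agent.Lib.Helper5.ArtinApxA

open CategoryTheory Limits

universe u

namespace Groth.Agent.Lib.Helper5.ArtinApxH

open Groth.Agent.Lib.Helper5.ArtinApxA

variable (A : Type u) [CommRing A]

theorem exists_fp_commAlgCat (F : CommAlgCat.{u} A ⥤ Type u) [PreservesFilteredColimits F]
    (Λ : Type u) [CommRing Λ] [Algebra A Λ] (ξ : F.obj (CommAlgCat.of A Λ)) :
    ∃ (P : Type u) (_ : CommRing P) (_ : Algebra A P) (_ : Algebra.FinitePresentation A P)
      (ι : P →ₐ[A] Λ) (ξ' : F.obj (CommAlgCat.of A P)), F.map (CommAlgCat.ofHom ι) ξ' = ξ := by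
  let E := commAlgCatEquivUnder (CommRingCat.of A)
  let G : Under (CommRingCat.of A) ⥤ Type u := E.inverse ⋙ F
  have hG : ∀ (J : Type u) [SmallCategory J] [IsFiltered J], PreservesColimitsOfShape J G := by
    intro J _ _
    have : PreservesColimitsOfShape J F := PreservesFilteredColimitsOfSize.preserves_filtered_colimits J
    infer_instance
  let ξ₀ : G.obj (U A Λ) := F.map (E.unit.app (CommAlgCat.of A Λ)) ξ
  obtain ⟨P, _, _, hP, ι, ξP, hξP⟩ := exists_fp A G hG Λ ξ₀
  refine ⟨P, inferInstance, inferInstance, hP, ι, F.map (E.unitInv.app (CommAlgCat.of A P)) ξP, ?_⟩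
  have h1 : ξ = F.map (E.unitInv.app (CommAlgCat.of A Λ)) ξ₀ := by
    show ξ = F.map (E.unitInv.app (CommAlgCat.of A Λ)) (F.map (E.unit.app (CommAlgCat.of A Λ)) ξ)
    rw [← Functor.map_comp_apply]
    have : E.unit.app (CommAlgCat.of A Λ) ≫ E.unitInv.app (CommAlgCat.of A Λ) = 𝟙 _ :=
      E.unitIso.hom_inv_id_app _
    rw [this]
    simp
  rw [h1, ← hξP]
  show F.map _ (F.map _ ξP) = F.map _ (F.map (E.inverse.map (UHom A ι)) ξP)
  rw [← Functor.map_comp_apply, ← Functor.map_comp_apply]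
  have hnat := E.unitInv.naturality (CommAlgCat.ofHom ι)
  exact congrArg (fun f => F.map f ξP) hnat.symm

end Groth.Agent.Lib.Helper5.ArtinApxH
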