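import Groth.Agent.Lib.Helper5.ArtinApxF
import Groth.Agent.Lib.Helper5.ArtinApxH
import Groth.Agent.S0600
import Groth.Agent.S0598
import Groth.Agent.S0599

open CategoryTheory Limits

universe u

namespace Groth.Agent.Lib.Helper5.ArtinApxI

open Groth.Agent.Lib.Helper5.ArtinApxC Groth.Agent.Lib.Helper5.ArtinApxF

variable (hPop : Popescu.{u})

theorem isGRing_field (k : Type u) [Field k] : CAlg.IsGRing k := by
  have : IsAdicComplete (IsLocalRing.maximalIdeal k) k := by
    rw [IsLocalRing.maximalIdeal_eq_bot]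
    infer_instance
  exact Groth.Agent.S0598.result k

theorem isLocalRing_completion (A : Type u) [CommRing A] [IsNoetherianRing A] (m : Ideal A) [m.IsMaximal] :
    IsLocalRing (AdicCompletion m A) := by
  have fg : m.FG := IsNoetherian.noetherian m
  have := AdicCompletion.isMaximal_map_of_le m m le_rfl fg
  have := AdicCompletion.isAdicComplete_self m fg
  exact isLocalRing_of_isAdicComplete_maximal (m.map (algebraMap A (AdicCompletion m A)))

include hPop in
theorem s18340 (k : Type u) [Field k]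
    (A : Type u) [CommRing A] [Algebra k A] [Algebra.FiniteType k A] (m : Ideal A) [m.IsMaximal]
    (F : CommAlgCat.{u} A ⥤ Type u) [Limits.PreservesFilteredColimits F]
    (ξ : F.obj (CommAlgCat.of A (AdicCompletion m A))) (N : ℕ) :
    ∃ (A' : Type u) (_ : CommRing A') (_ : Algebra A A') (_ : Algebra.Etale A A')
      (ψ : A' →ₐ[A] (A ⧸ m ^ (N + 1))) (_ : Function.Surjective ψ) (ξ' : F.obj (CommAlgCat.of A A')),
      F.map (CommAlgCat.ofHom ψ) ξ' =
        F.map (CommAlgCat.ofHom (AdicCompletion.evalₐ m (N + 1))) ξ := by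
  have hGA : CAlg.IsGRing A := Groth.Agent.S0599.result k (isGRing_field k) A
  have : IsNoetherianRing A := hGA.1
  have := isLocalRing_completion A m
  obtain ⟨P, _, _, hP, ι, ξP, hξP⟩ :=
    Groth.Agent.Lib.Helper5.ArtinApxH.exists_fp_commAlgCat A F (AdicCompletion m A) ξ
  obtain ⟨A', _, _, hA', β, ψ₀, hψ₀⟩ := exists_etale_solution hPop A m
    (Groth.Agent.S0600.result A hGA m) P ι N
  let ψ : A' →ₐ[A] (A ⧸ m ^ (N + 1)) := (AdicCompletion.evalₐ m (N + 1)).comp ψ₀
  have hψs : Function.Surjective ψ := by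
    intro y
    obtain ⟨r, rfl⟩ := Ideal.Quotient.mk_surjective y
    refine ⟨algebraMap A A' r, ?_⟩
    rw [AlgHom.commutes]
    rfl
  refine ⟨A', inferInstance, inferInstance, hA', ψ, hψs, F.map (CommAlgCat.ofHom β) ξP, ?_⟩
  rw [← hξP, ← Functor.map_comp_apply, ← Functor.map_comp_apply]
  have hkill : ∀ x ∈ (m ^ (N + 1)).map (algebraMap A (AdicCompletion m A)),
      AdicCompletion.evalₐ m (N + 1) x = 0 := by
    intro x hx
    have hle : (m ^ (N + 1)).map (algebraMap A (AdicCompletion m A)) ≤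
        RingHom.ker (AdicCompletion.evalₐ m (N + 1)).toRingHom := by
      rw [Ideal.map_le_iff_le_comap]
      intro r hr
      rw [Ideal.mem_comap, RingHom.mem_ker]
      show (AdicCompletion.evalₐ m (N + 1)) (algebraMap A _ r) = 0
      rw [AlgHom.commutes]
      exact Ideal.Quotient.eq_zero_iff_mem.mpr hr
    exact hle hx
  have hcomp : ψ.comp β = (AdicCompletion.evalₐ m (N + 1)).comp ι := by
    ext p
    have h1 := hkill _ (hψ₀ p)
    rw [map_sub, sub_eq_zero] at h1
    exact h1
  have h2 : CommAlgCat.ofHom β ≫ CommAlgCat.ofHom ψ =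
      CommAlgCat.ofHom ι ≫ CommAlgCat.ofHom (AdicCompletion.evalₐ m (N + 1)) := by
    rw [← CommAlgCat.ofHom_comp, ← CommAlgCat.ofHom_comp, hcomp]
  rw [h2]

end Groth.Agent.Lib.Helper5.ArtinApxI
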