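import Groth.Agent.Lib.Helper5.ArtinApxF
import Groth.Agent.S0600

open CategoryTheory Limits

universe u

namespace Groth.Agent.Lib.Helper5.ArtinApxJ

open Groth.Agent.Lib.Helper5.ArtinApxC Groth.Agent.Lib.Helper5.ArtinApxF
  Groth.Agent.Lib.Helper5.ArtinApxA

variable (hPop : Popescu.{u})

include hPop in
theorem s16106 (A : Type u) [CommRing A] [IsLocalRing A]
    (hG : CAlg.IsGRing A)
    (F : Under (CommRingCat.of A) ⥤ Type u)
    (hF : ∀ (J : Type u) [SmallCategory J] [IsFiltered J], PreservesColimitsOfShape J F)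
    (N : ℕ)
    (π : Under.mk (CommRingCat.ofHom (algebraMap A
        (AdicCompletion (IsLocalRing.maximalIdeal A) A))) ⟶
      Under.mk (CommRingCat.ofHom (algebraMap A (A ⧸ IsLocalRing.maximalIdeal A ^ (N + 1)))))
    (hπ : π.right = CommRingCat.ofHom
      (AdicCompletion.evalₐ (IsLocalRing.maximalIdeal A) (N + 1) :
        AdicCompletion (IsLocalRing.maximalIdeal A) A →ₐ[A]
          A ⧸ IsLocalRing.maximalIdeal A ^ (N + 1)).toRingHom)
    (ξ : F.obj (Under.mk (CommRingCat.ofHom (algebraMap A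
        (AdicCompletion (IsLocalRing.maximalIdeal A) A))))) :
    ∃ (A' : Type u) (_ : CommRing A') (_ : Algebra A A') (_ : Algebra.Etale A A')
      (φ : Under.mk (CommRingCat.ofHom (algebraMap A A')) ⟶
        Under.mk (CommRingCat.ofHom (algebraMap A (A ⧸ IsLocalRing.maximalIdeal A ^ (N + 1)))))
      (ξ' : F.obj (Under.mk (CommRingCat.ofHom (algebraMap A A')))),
      F.map φ ξ' = F.map π ξ := by
  have : IsNoetherianRing A := hG.1
  obtain ⟨P, _, _, hP, ι, ξP, hξP⟩ :=
    exists_fp A F hF (AdicCompletion (IsLocalRing.maximalIdeal A) A) ξ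
  obtain ⟨A', _, _, hA', β, ψ₀, hψ₀⟩ := exists_etale_solution hPop A (IsLocalRing.maximalIdeal A)
    (Groth.Agent.S0600.result A hG (IsLocalRing.maximalIdeal A)) P ι N
  let ψ : A' →ₐ[A] (A ⧸ IsLocalRing.maximalIdeal A ^ (N + 1)) :=
    (AdicCompletion.evalₐ (IsLocalRing.maximalIdeal A) (N + 1)).comp ψ₀
  refine ⟨A', inferInstance, inferInstance, hA', UHom A ψ, F.map (UHom A β) ξP, ?_⟩
  rw [← hξP, ← Functor.map_comp_apply, ← Functor.map_comp_apply]
  have hkill : ∀ x ∈ (IsLocalRing.maximalIdeal A ^ (N + 1)).map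
      (algebraMap A (AdicCompletion (IsLocalRing.maximalIdeal A) A)),
      AdicCompletion.evalₐ (IsLocalRing.maximalIdeal A) (N + 1) x = 0 := by
    intro x hx
    have hle : (IsLocalRing.maximalIdeal A ^ (N + 1)).map
        (algebraMap A (AdicCompletion (IsLocalRing.maximalIdeal A) A)) ≤
        RingHom.ker (AdicCompletion.evalₐ (IsLocalRing.maximalIdeal A) (N + 1)).toRingHom := by
      rw [Ideal.map_le_iff_le_comap]
      intro r hr
      rw [Ideal.mem_comap, RingHom.mem_ker]
      show (AdicCompletion.evalₐ (IsLocalRing.maximalIdeal A) (N + 1)) (algebraMap A _ r) = 0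
      rw [AlgHom.commutes]
      exact Ideal.Quotient.eq_zero_iff_mem.mpr hr
    exact hle hx
  have h2 : UHom A β ≫ UHom A ψ = UHom A ι ≫ π := by
    ext p
    show ψ (β p) = π.right (ι p)
    rw [hπ]
    have h1 := hkill _ (hψ₀ p)
    rw [map_sub, sub_eq_zero] at h1
    exact h1
  rw [h2]

end Groth.Agent.Lib.Helper5.ArtinApxJ
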