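import Groth.Agent.Lib.Helper5.ArtinApxC
import Groth.Agent.Lib.Helper5.ArtinApxH

open CategoryTheory Limits

universe u

namespace Groth.Agent.Lib.Helper5.ArtinApxK

open Groth.Agent.Lib.Helper5.ArtinApxC Groth.Agent.Lib.Helper5.ArtinApxA

variable (A : Type u) [CommRing A]

theorem algHom_eq_ofId {X : Type u} [CommRing X] [Algebra A X] (f : A →ₐ[A] X) :
    f = Algebra.ofId A X := by
  ext

theorem UHom_ofId_comp {X Y : Type u} [CommRing X] [Algebra A X] [CommRing Y] [Algebra A Y]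
    (f : X →ₐ[A] Y) : UHom A (Algebra.ofId A X) ≫ UHom A f = UHom A (Algebra.ofId A Y) := by
  rw [UHom_comp]
  congr 1
  exact algHom_eq_ofId A _

section

variable (F : Under (CommRingCat.of A) ⥤ Type u)
  (hF : ∀ (J : Type u) [SmallCategory J] [IsFiltered J], PreservesColimitsOfShape J F)

include hF in
theorem eq_at_fp (Λ : Type u) [CommRing Λ] [Algebra A Λ] (x₁ x₂ : F.obj (U A A))
    (hx : F.map (UHom A (Algebra.ofId A Λ)) x₁ = F.map (UHom A (Algebra.ofId A Λ)) x₂) :
    ∃ (P : Type u) (_ : CommRing P) (_ : Algebra A P) (_ : Algebra.FinitePresentation A P)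
      (_ : P →ₐ[A] Λ), F.map (UHom A (Algebra.ofId A P)) x₁ = F.map (UHom A (Algebra.ofId A P)) x₂ := by
  classical
  have := hF (Finset Λ)
  have h1 : IsColimit (F.mapCocone (c1 A Λ)) := isColimitOfPreserves F (isColimit_c1 A Λ)
  -- step 1
  let a₀ : U A A ⟶ (D1 A Λ).obj ∅ := UHom A (Algebra.ofId A _)
  have e1 : (F.mapCocone (c1 A Λ)).ι.app ∅ (F.map a₀ x₁) =
      (F.mapCocone (c1 A Λ)).ι.app ∅ (F.map a₀ x₂) := by
    show F.map ((c1 A Λ).ι.app ∅) (F.map a₀ x₁) = F.map ((c1 A Λ).ι.app ∅) (F.map a₀ x₂)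
    rw [← Functor.map_comp_apply, ← Functor.map_comp_apply]
    have : a₀ ≫ (c1 A Λ).ι.app ∅ = UHom A (Algebra.ofId A Λ) := UHom_ofId_comp A _
    rw [this]
    exact hx
  obtain ⟨s, f, hs⟩ := (Types.FilteredColimit.isColimit_eq_iff' h1 _ _).mp e1
  have hs' : F.map (UHom A (Algebra.ofId A (Algebra.adjoin A (s : Set Λ)))) x₁ =
      F.map (UHom A (Algebra.ofId A (Algebra.adjoin A (s : Set Λ)))) x₂ := by
    have h3 : a₀ ≫ (D1 A Λ).map f = UHom A (Algebra.ofId A (Algebra.adjoin A (s : Set Λ))) :=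
      UHom_ofId_comp A _
    have h4 : (D1 A Λ ⋙ F).map f (F.map a₀ x₁) = (D1 A Λ ⋙ F).map f (F.map a₀ x₂) := hs
    simp only [Functor.comp_map] at h4
    rw [← Functor.map_comp_apply, ← Functor.map_comp_apply, h3] at h4
    exact h4
  -- step 2
  let L := Algebra.adjoin A (s : Set Λ)
  let π : MvPolynomial s A →ₐ[A] L :=
    MvPolynomial.aeval (fun i : s => (⟨i, Algebra.subset_adjoin i.2⟩ : L))
  have hπval : L.val.comp π = MvPolynomial.aeval (fun i : s => (i : Λ)) := by
    apply MvPolynomial.algHom_ext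
    intro i
    simp [π]
  have hπ : Function.Surjective π := by
    intro y
    have hy : (y : Λ) ∈ (MvPolynomial.aeval (R := A) (fun i : s => (i : Λ))).range := by
      rw [← Algebra.adjoin_range_eq_range_aeval]
      have : Set.range (fun i : s => (i : Λ)) = (s : Set Λ) := by
        ext x
        simp
      rw [this]
      exact y.2
    obtain ⟨q, hq⟩ := hy
    refine ⟨q, Subtype.ext ?_⟩
    rw [← hq, ← hπval]
    rfl
  have := hF (Finset (RingHom.ker π.toRingHom))
  have h2 : IsColimit (F.mapCocone (c2 A π)) := isColimitOfPreserves F (isColimit_c2 A π hπ)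
  let b₀ : U A A ⟶ (D2 A π).obj ∅ := UHom A (Algebra.ofId A _)
  have e2 : (F.mapCocone (c2 A π)).ι.app ∅ (F.map b₀ x₁) =
      (F.mapCocone (c2 A π)).ι.app ∅ (F.map b₀ x₂) := by
    show F.map ((c2 A π).ι.app ∅) (F.map b₀ x₁) = F.map ((c2 A π).ι.app ∅) (F.map b₀ x₂)
    rw [← Functor.map_comp_apply, ← Functor.map_comp_apply]
    have : b₀ ≫ (c2 A π).ι.app ∅ = UHom A (Algebra.ofId A L) := UHom_ofId_comp A _
    rw [this]
    exact hs'
  obtain ⟨t, f', ht⟩ := (Types.FilteredColimit.isColimit_eq_iff' h2 _ _).mp e2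
  have hfg : (I2 A π t).FG := by
    rw [I2]
    exact Submodule.fg_span ((t.finite_toSet).image _)
  refine ⟨MvPolynomial s A ⧸ I2 A π t, inferInstance, inferInstance,
    Algebra.FinitePresentation.quotient hfg,
    L.val.comp (Ideal.Quotient.liftₐ (I2 A π t) π (fun q hq => I2_le_ker A π t hq)), ?_⟩
  have h3 : b₀ ≫ (D2 A π).map f' = UHom A (Algebra.ofId A (MvPolynomial s A ⧸ I2 A π t)) :=
    UHom_ofId_comp A _
  have h4 : (D2 A π ⋙ F).map f' (F.map b₀ x₁) = (D2 A π ⋙ F).map f' (F.map b₀ x₂) := ht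
  simp only [Functor.comp_map] at h4
  rw [← Functor.map_comp_apply, ← Functor.map_comp_apply, h3] at h4
  exact h4

end

theorem eq_at_fp_commAlgCat (F : CommAlgCat.{u} A ⥤ Type u) [PreservesFilteredColimits F]
    (Λ : Type u) [CommRing Λ] [Algebra A Λ] (x₁ x₂ : F.obj (CommAlgCat.of A A))
    (hx : F.map (CommAlgCat.ofHom (Algebra.ofId A Λ)) x₁ =
      F.map (CommAlgCat.ofHom (Algebra.ofId A Λ)) x₂) :
    ∃ (P : Type u) (_ : CommRing P) (_ : Algebra A P) (_ : Algebra.FinitePresentation A P)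
      (_ : P →ₐ[A] Λ), F.map (CommAlgCat.ofHom (Algebra.ofId A P)) x₁ =
        F.map (CommAlgCat.ofHom (Algebra.ofId A P)) x₂ := by
  let E := commAlgCatEquivUnder (CommRingCat.of A)
  let G : Under (CommRingCat.of A) ⥤ Type u := E.inverse ⋙ F
  have hG : ∀ (J : Type u) [SmallCategory J] [IsFiltered J], PreservesColimitsOfShape J G := by
    intro J _ _
    have : PreservesColimitsOfShape J F := PreservesFilteredColimitsOfSize.preserves_filtered_colimits J
    infer_instance
  let y₁ : G.obj (U A A) := F.map (E.unit.app (CommAlgCat.of A A)) x₁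
  let y₂ : G.obj (U A A) := F.map (E.unit.app (CommAlgCat.of A A)) x₂
  have key : ∀ (X : Type u) [CommRing X] [Algebra A X] (x : F.obj (CommAlgCat.of A A)),
      G.map (UHom A (Algebra.ofId A X)) (F.map (E.unit.app (CommAlgCat.of A A)) x) =
        F.map (E.unit.app (CommAlgCat.of A X)) (F.map (CommAlgCat.ofHom (Algebra.ofId A X)) x) := by
    intro X _ _ x
    have hnat := E.unit.naturality (CommAlgCat.ofHom (Algebra.ofId A X))
    calc G.map (UHom A (Algebra.ofId A X)) (F.map (E.unit.app (CommAlgCat.of A A)) x)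
        = F.map ((E.functor ⋙ E.inverse).map (CommAlgCat.ofHom (Algebra.ofId A X)))
            (F.map (E.unit.app (CommAlgCat.of A A)) x) := rfl
      _ = F.map (E.unit.app (CommAlgCat.of A A) ≫
            (E.functor ⋙ E.inverse).map (CommAlgCat.ofHom (Algebra.ofId A X))) x := by
          rw [Functor.map_comp_apply]
      _ = F.map ((𝟭 _).map (CommAlgCat.ofHom (Algebra.ofId A X)) ≫
            E.unit.app (CommAlgCat.of A X)) x := by rw [← hnat]
      _ = _ := by
          rw [Functor.map_comp_apply]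
          rfl
  have hy : G.map (UHom A (Algebra.ofId A Λ)) y₁ = G.map (UHom A (Algebra.ofId A Λ)) y₂ := by
    rw [key Λ x₁, key Λ x₂, hx]
  obtain ⟨P, _, _, hP, ι, hP12⟩ := eq_at_fp A G hG Λ y₁ y₂ hy
  refine ⟨P, inferInstance, inferInstance, hP, ι, ?_⟩
  rw [key P x₁, key P x₂] at hP12
  have cancel : ∀ z : F.obj (CommAlgCat.of A P),
      F.map (E.unitInv.app (CommAlgCat.of A P)) (F.map (E.unit.app (CommAlgCat.of A P)) z) = z := by
    intro z
    rw [← Functor.map_comp_apply]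
    have h6 : E.unit.app (CommAlgCat.of A P) ≫ E.unitInv.app (CommAlgCat.of A P) = 𝟙 _ :=
      E.unitIso.hom_inv_id_app _
    rw [h6]
    simp
  have h5 := congrArg (F.map (E.unitInv.app (CommAlgCat.of A P))) hP12
  rw [cancel, cancel] at h5
  exact h5

end Groth.Agent.Lib.Helper5.ArtinApxK
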