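import Groth.Agent.Lib.Helper5.ArtinApxK

open CategoryTheory Limits

universe u

namespace Groth.Agent.Lib.Helper5.ArtinApxL

open Groth.Agent.Lib.Helper5.ArtinApxC Groth.Agent.Lib.Helper5.ArtinApxA
  Groth.Agent.Lib.Helper5.ArtinApxK Groth.Agent.Lib.Helper5.ArtinApxH

variable (hPop : Popescu.{u})

include hPop in
theorem exists_algHom_evalOne (A : Type u) [CommRing A] [IsNoetherianRing A]
    (I : Ideal A) [HenselianRing A I] (hreg : CAlg.IsRegularHom A (AdicCompletion I A))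
    (P : Type u) [CommRing P] [Algebra A P] [Algebra.FinitePresentation A P]
    (φ : P →ₐ[A] AdicCompletion I A) :
    ∃ τ : P →ₐ[A] A, (Ideal.Quotient.mkₐ A I).comp τ = (AdicCompletion.evalOneₐ I).comp φ := by
  have : IsNoetherianRing (AdicCompletion I A) :=
    Groth.Agent.Lib.helper19.isNoetherianRing_adicCompletion A I
  obtain ⟨B, _, _, hB, g, h, hgh⟩ := hPop A (AdicCompletion I A) hreg P φ
  obtain ⟨τ, hτ⟩ := Groth.Agent.S0536.result A B A I ((AdicCompletion.evalOneₐ I).comp h)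
  refine ⟨τ.comp g, ?_⟩
  rw [← AlgHom.comp_assoc, hτ, AlgHom.comp_assoc, hgh]

include hPop in
theorem s15755 (A : Type u) [CommRing A]
    [IsNoetherianRing A] (I : Ideal A) [HenselianRing A I]
    (hreg : CAlg.IsRegularHom A (AdicCompletion I A))
    (F : CommAlgCat.{u} A ⥤ Type u) [PreservesFilteredColimitsOfSize.{u, u} F] :
    Function.Injective (F.map (CommAlgCat.ofHom (Algebra.ofId A (AdicCompletion I A)))) ∧
    ∀ xbar : F.obj (CommAlgCat.of A (A ⧸ I)),
      (∃ x : F.obj (CommAlgCat.of A A), F.map (CommAlgCat.ofHom (Ideal.Quotient.mkₐ A I)) x = xbar) ↔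
      (∃ y : F.obj (CommAlgCat.of A (AdicCompletion I A)),
        F.map (CommAlgCat.ofHom (AdicCompletion.evalOneₐ I)) y = xbar) := by
  constructor
  · intro x₁ x₂ hx
    obtain ⟨P, _, _, hP, ι, hP12⟩ := eq_at_fp_commAlgCat A F (AdicCompletion I A) x₁ x₂ hx
    obtain ⟨τ, -⟩ := exists_algHom_evalOne hPop A I hreg P ι
    have h1 := congrArg (F.map (CommAlgCat.ofHom τ)) hP12
    rw [← Functor.map_comp_apply, ← Functor.map_comp_apply, ← CommAlgCat.ofHom_comp] at h1
    have h2 : τ.comp (Algebra.ofId A P) = AlgHom.id A A := algHom_eq_ofId A _ |>.trans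
      (algHom_eq_ofId A _).symm
    rw [h2] at h1
    have h3 : CommAlgCat.ofHom (AlgHom.id A A) = 𝟙 (CommAlgCat.of A A) := rfl
    rw [h3] at h1
    simpa using h1
  · intro xbar
    constructor
    · rintro ⟨x, rfl⟩
      refine ⟨F.map (CommAlgCat.ofHom (Algebra.ofId A (AdicCompletion I A))) x, ?_⟩
      rw [← Functor.map_comp_apply, ← CommAlgCat.ofHom_comp]
      congr 3
    · rintro ⟨y, rfl⟩
      obtain ⟨P, _, _, hP, ι, ξP, hξP⟩ := exists_fp_commAlgCat A F (AdicCompletion I A) y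
      obtain ⟨τ, hτ⟩ := exists_algHom_evalOne hPop A I hreg P ι
      refine ⟨F.map (CommAlgCat.ofHom τ) ξP, ?_⟩
      rw [← hξP, ← Functor.map_comp_apply, ← Functor.map_comp_apply, ← CommAlgCat.ofHom_comp,
        ← CommAlgCat.ofHom_comp, hτ]

end Groth.Agent.Lib.Helper5.ArtinApxL
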