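import Mathlib
import Groth.Agent.S0536
import Groth.Agent.S0525
import Groth.Agent.S19568
import Groth.Agent.Lib.Helper12.HfpLemmas
import Groth.Agent.Lib.Helper12.PairUniv

open TensorProduct

universe u

namespace Groth.Agent.Lib.Helper5.ArtinApxM

open Groth.Agent.Lib.Helper12

/-- The bijectivity condition for a pair neighbourhood. -/
abbrev Bij {C : Type u} [CommRing C] (J : Ideal C) (C' : Type u) [CommRing C'] [Algebra C C'] : Prop :=
  Function.Bijective (Ideal.quotientMap (J.map (algebraMap C C')) (algebraMap C C') Ideal.le_comap_map)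

theorem exists_kill {C : Type u} [CommRing C] (J : Ideal C) (H : Type u) [CommRing H] [Algebra C H]
    (hH : Hens2.IsPairHenselization C J H) :
    ∀ (l : ℕ) (C₁ : Type u) [CommRing C₁] [Algebra C C₁] [Algebra.Etale C C₁] (_ : Bij J C₁)
      (φ₁ : C₁ →ₐ[C] H) (z : Fin l → C₁) (_ : ∀ k, φ₁ (z k) = 0),
      ∃ (C₂ : Type u) (_ : CommRing C₂) (_ : Algebra C C₂) (_ : Algebra.Etale C C₂), Bij J C₂ ∧
        ∃ ψ : C₁ →ₐ[C] C₂, ∀ k, ψ (z k) = 0 := by
  obtain ⟨hA, -, hC⟩ := Groth.Agent.S19568.result C J H hH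
  intro l
  induction l with
  | zero =>
    intro C₁ _ _ _ hb φ₁ z hz
    exact ⟨C₁, inferInstance, inferInstance, inferInstance, hb, AlgHom.id C C₁, fun k => k.elim0⟩
  | succ l ih =>
    intro C₁ _ _ _ hb φ₁ z hz
    obtain ⟨C₂, _, _, _, hb₂, ψ, hψ⟩ := ih C₁ hb φ₁ (fun k => z k.castSucc) (fun k => hz _)
    obtain ⟨u₁⟩ := hA C₁ hb
    obtain ⟨u₂⟩ := hA C₂ hb₂
    let φ₂ : C₂ →ₐ[C] H := u₂.default
    have h12 : φ₂.comp ψ = φ₁ := (u₁.uniq _).trans (u₁.uniq _).symm
    have hz' : φ₂ (ψ (z (Fin.last l))) = 0 := by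
      have := congrArg (fun f => f (z (Fin.last l))) h12
      simp only [AlgHom.comp_apply] at this
      rw [this]
      exact hz _
    obtain ⟨C₃, _, _, _, hb₃, ψ', hψ'⟩ := hC C₂ hb₂ φ₂ (ψ (z (Fin.last l))) hz'
    refine ⟨C₃, inferInstance, inferInstance, inferInstance, hb₃, ψ'.comp ψ, ?_⟩
    intro k
    refine Fin.lastCases ?_ (fun k => ?_) k
    · exact hψ'
    · rw [AlgHom.comp_apply, hψ k, map_zero]

set_option maxHeartbeats 1000000 in
theorem exists_pair_etale_factor (C : Type u) [CommRing C] (J : Ideal C) (D : Type u) [CommRing D]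
    [Algebra C D] [Algebra.Smooth C D] (N : ℕ) (hN : N ≠ 0) (σ : D →ₐ[C] C ⧸ J ^ N) :
    ∃ (C' : Type u) (_ : CommRing C') (_ : Algebra C C') (_ : Algebra.Etale C C'), Bij J C' ∧
      ∃ β : D →ₐ[C] C', ∀ (d : D) (c : C), σ d = Ideal.Quotient.mk _ c →
        β d - algebraMap C C' c ∈ (J ^ N).map (algebraMap C C') := by
  classical
  let H := PairNbhd.Lim C J
  have hH : Hens2.IsPairHenselization C J H := PairNbhd.Lim.isPairHenselization C J
  have h1 : HenselianRing H (J.map (algebraMap C H)) := hH.1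
  have h2 : HenselianRing H ((J ^ N).map (algebraMap C H)) :=
    (Groth.Agent.S0525.result H _ _ (by rw [Ideal.map_pow, Ideal.radical_pow _ hN])).mp h1
  let q : C ⧸ J ^ N →ₐ[C] H ⧸ (J ^ N).map (algebraMap C H) :=
    Ideal.quotientMapₐ _ (Algebra.ofId C H) Ideal.le_comap_map
  obtain ⟨τ, hτ⟩ := Groth.Agent.S0536.result C D H ((J ^ N).map (algebraMap C H)) (q.comp σ)
  obtain ⟨m, p, hp, hfg⟩ := (inferInstance : Algebra.FinitePresentation C D).out
  obtain ⟨S, hS⟩ := hfg
  obtain ⟨C₁, _, _, _, hb₁, φ₁, hφ₁⟩ :=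
    Hfp.exists_etale_of_fin hH (fun j : Fin m => τ (p (MvPolynomial.X j)))
  choose s hs using hφ₁
  have hφ₁s : ∀ f : MvPolynomial (Fin m) C, φ₁ (MvPolynomial.aeval s f) = τ (p f) := by
    intro f
    have : φ₁.comp (MvPolynomial.aeval s) = τ.comp p := by
      apply MvPolynomial.algHom_ext
      intro j
      simp only [AlgHom.comp_apply, MvPolynomial.aeval_X]
      exact hs j
    exact congrArg (fun g => g f) this
  let z : Fin S.card → C₁ :=
    fun k => MvPolynomial.aeval s ((S.equivFin.symm k : MvPolynomial (Fin m) C))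
  have hz : ∀ k, φ₁ (z k) = 0 := by
    intro k
    show φ₁ (MvPolynomial.aeval s _) = 0
    rw [hφ₁s]
    have hmem : ((S.equivFin.symm k : MvPolynomial (Fin m) C)) ∈ RingHom.ker p.toRingHom := by
      rw [← hS]
      exact Ideal.subset_span (S.equivFin.symm k).2
    have : p ((S.equivFin.symm k : MvPolynomial (Fin m) C)) = 0 := hmem
    rw [this, map_zero]
  obtain ⟨C₂, _, _, _, hb₂, ψ, hψ⟩ := exists_kill J H hH S.card C₁ hb₁ φ₁ z hz
  have hker : ∀ f ∈ RingHom.ker p.toRingHom,
      MvPolynomial.aeval (fun j => ψ (s j)) f = 0 := by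
    have hle : RingHom.ker p.toRingHom ≤
        RingHom.ker (MvPolynomial.aeval (R := C) (fun j => ψ (s j))).toRingHom := by
      rw [← hS, Ideal.span_le]
      intro f hf
      have hcomp : MvPolynomial.aeval (R := C) (fun j => ψ (s j)) = ψ.comp (MvPolynomial.aeval s) := by
        apply MvPolynomial.algHom_ext
        intro j
        simp
      show MvPolynomial.aeval (fun j => ψ (s j)) f = 0
      rw [hcomp, AlgHom.comp_apply]
      have := hψ (S.equivFin ⟨f, hf⟩)
      simpa [z] using this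
    intro f hf
    exact hle hf
  let β : D →ₐ[C] C₂ :=
    (Ideal.Quotient.liftₐ (RingHom.ker p.toRingHom) (MvPolynomial.aeval (fun j => ψ (s j))) hker).comp
      (Ideal.quotientKerAlgEquivOfSurjective hp).symm.toAlgHom
  have hβ : ∀ f, β (p f) = MvPolynomial.aeval (fun j => ψ (s j)) f := by
    intro f
    show (Ideal.Quotient.liftₐ (RingHom.ker p.toRingHom) _ hker)
      ((Ideal.quotientKerAlgEquivOfSurjective hp).symm (p f)) = _
    have : (Ideal.quotientKerAlgEquivOfSurjective hp).symm (p f) = Ideal.Quotient.mk _ f := by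
      rw [AlgEquiv.symm_apply_eq]
      rfl
    rw [this]
    rfl
  obtain ⟨hA, -, -⟩ := Groth.Agent.S19568.result C J H hH
  obtain ⟨u₁⟩ := hA C₁ hb₁
  obtain ⟨u₂⟩ := hA C₂ hb₂
  let φ₂ : C₂ →ₐ[C] H := u₂.default
  have h12 : φ₂.comp ψ = φ₁ := (u₁.uniq _).trans (u₁.uniq _).symm
  have hφβ : ∀ d, φ₂ (β d) = τ d := by
    intro d
    obtain ⟨f, rfl⟩ := hp d
    rw [hβ]
    have hcomp : φ₂.comp (MvPolynomial.aeval (R := C) (fun j => ψ (s j))) = τ.comp p := by
      apply MvPolynomial.algHom_ext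
      intro j
      simp only [AlgHom.comp_apply, MvPolynomial.aeval_X]
      have := congrArg (fun g => g (s j)) h12
      simp only [AlgHom.comp_apply] at this
      rw [this]
      exact hs j
    exact congrArg (fun g => g f) hcomp
  let : Algebra C₂ H := φ₂.toRingHom.toAlgebra
  have : IsScalarTower C C₂ H := IsScalarTower.of_algebraMap_eq (fun c => (φ₂.commutes c).symm)
  have hH₂ : Hens2.IsPairHenselization C₂ (J.map (algebraMap C C₂)) H :=
    Hfp.isPairHenselization_of_etale_nbhd hH hb₂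
  have hq₂ := PairUnique.quotientMap_pow_bijective hH₂ N
  refine ⟨C₂, inferInstance, inferInstance, inferInstance, hb₂, β, ?_⟩
  intro d c hdc
  -- τ d - c ∈ (J^N) H
  have h3 : τ d - algebraMap C H c ∈ (J ^ N).map (algebraMap C H) := by
    rw [← Ideal.Quotient.eq]
    have := congrArg (fun g => g d) hτ
    simp only [AlgHom.comp_apply, Ideal.Quotient.mkₐ_eq_mk] at this
    rw [this, hdc]
    rfl
  have h4 : algebraMap C₂ H (β d - algebraMap C C₂ c) ∈
      ((J.map (algebraMap C C₂)) ^ N).map (algebraMap C₂ H) := by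
    rw [← Ideal.map_pow, Ideal.map_map, ← IsScalarTower.algebraMap_eq, map_sub,
      ← IsScalarTower.algebraMap_apply]
    show φ₂ (β d) - _ ∈ _
    rw [hφβ]
    exact h3
  have h5 : Ideal.quotientMap (((J.map (algebraMap C C₂)) ^ N).map (algebraMap C₂ H))
      (algebraMap C₂ H) Ideal.le_comap_map
      (Ideal.Quotient.mk _ (β d - algebraMap C C₂ c)) = 0 := by
    rw [Ideal.quotientMap_mk, Ideal.Quotient.eq_zero_iff_mem]
    exact h4
  have h6 := hq₂.1 (h5.trans (map_zero _).symm)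
  rw [Ideal.Quotient.eq_zero_iff_mem, ← Ideal.map_pow] at h6
  exact h6

end Groth.Agent.Lib.Helper5.ArtinApxM
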