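import Groth.Agent.Lib.Helper5.ArtinApxC
import Groth.Agent.Lib.Helper5.ArtinApxM
import Groth.Agent.S0600
import Groth.Agent.S0599

open TensorProduct

universe u

namespace Groth.Agent.Lib.Helper5.ArtinApxN

open Groth.Agent.Lib.Helper5.ArtinApxC Groth.Agent.Lib.Helper5.ArtinApxM

theorem evalₐ_eq_mk' {R : Type u} [CommRing R] (I : Ideal R) (n : ℕ) (x : AdicCompletion I R) (c : R)
    (h : AdicCompletion.eval I R n x = Submodule.Quotient.mk c) :
    AdicCompletion.evalₐ I n x = Ideal.Quotient.mk _ c := by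
  unfold AdicCompletion.evalₐ
  simp only [AlgHom.comp_apply, AlgHom.ofLinearMap_apply]
  rw [h]
  rfl

variable (hPop : Popescu.{u})

set_option maxHeartbeats 1000000 in
include hPop in
theorem s8823 (A : Type u) [CommRing A] (hA : CAlg.IsGRing A) (I : Ideal A) (B C : Type u)
    [CommRing B] [Algebra A B] [Algebra.FiniteType A B] [CommRing C] [Algebra A C]
    [Algebra.FiniteType A C]
    (φ : (AdicCompletion (I.map (algebraMap A B)) B) →ₐ[A] (AdicCompletion (I.map (algebraMap A C)) C))
    (N : ℕ) (hN : 1 ≤ N) :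
    ∃ (C' : Type u) (_ : CommRing C') (_ : Algebra C C') (_ : Algebra A C') (_ : IsScalarTower A C C')
      (_ : Algebra.Etale C C') (ψ : B →ₐ[A] C'),
      ((∀ c' : C', ∃ c : C, algebraMap C C' c - c' ∈ I.map (algebraMap A C')) ∧
        ∀ c : C, algebraMap C C' c ∈ I.map (algebraMap A C') → c ∈ I.map (algebraMap A C)) ∧
      ∀ b : B, ∃ c : C, ψ b - algebraMap C C' c ∈ (I.map (algebraMap A C')) ^ N ∧
        AdicCompletion.eval (I.map (algebraMap A C)) C N
          (φ (AdicCompletion.of (I.map (algebraMap A B)) B b)) = Submodule.Quotient.mk c := by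
  classical
  have : IsNoetherianRing A := hA.1
  have hGC : CAlg.IsGRing C := Groth.Agent.S0599.result A hA C
  have : IsNoetherianRing C := hGC.1
  have : IsNoetherianRing (AdicCompletion (I.map (algebraMap A C)) C) :=
    Groth.Agent.Lib.helper19.isNoetherianRing_adicCompletion C _
  have hreg : CAlg.IsRegularHom C (AdicCompletion (I.map (algebraMap A C)) C) :=
    Groth.Agent.S0600.result C hGC _
  have : Algebra.FinitePresentation A B := Algebra.FinitePresentation.of_finiteType.mp inferInstance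
  have : IsScalarTower A B (AdicCompletion (I.map (algebraMap A B)) B) :=
    IsScalarTower.of_algebraMap_eq (fun a => rfl)
  have : IsScalarTower A C (AdicCompletion (I.map (algebraMap A C)) C) :=
    IsScalarTower.of_algebraMap_eq (fun a => rfl)
  let ofB : B →ₐ[A] AdicCompletion (I.map (algebraMap A B)) B :=
    (Algebra.ofId B (AdicCompletion (I.map (algebraMap A B)) B)).restrictScalars A
  let φ₀ : B →ₐ[A] AdicCompletion (I.map (algebraMap A C)) C := φ.comp ofB
  let Φ : C ⊗[A] B →ₐ[C] AdicCompletion (I.map (algebraMap A C)) C :=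
    Algebra.TensorProduct.lift (Algebra.ofId C _) φ₀ (fun _ _ => Commute.all _ _)
  obtain ⟨D, _, _, hD, g, h, hgh⟩ := hPop C (AdicCompletion (I.map (algebraMap A C)) C) hreg (C ⊗[A] B) Φ
  let σ : D →ₐ[C] C ⧸ (I.map (algebraMap A C)) ^ N :=
    (AdicCompletion.evalₐ (I.map (algebraMap A C)) N).comp h
  obtain ⟨C', _, _, hC', hbij, β, hβ⟩ :=
    exists_pair_etale_factor C (I.map (algebraMap A C)) D N (by omega) σ
  let : Algebra A C' := ((algebraMap C C').comp (algebraMap A C)).toAlgebra
  have : IsScalarTower A C C' := IsScalarTower.of_algebraMap_eq (fun _ => rfl)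
  let ψ : B →ₐ[A] C' :=
    ((β.comp g).restrictScalars A).comp (Algebra.TensorProduct.includeRight : B →ₐ[A] C ⊗[A] B)
  have hIC' : I.map (algebraMap A C') = (I.map (algebraMap A C)).map (algebraMap C C') := by
    rw [Ideal.map_map]
    rfl
  refine ⟨C', inferInstance, inferInstance, inferInstance, inferInstance, hC', ψ, ⟨?_, ?_⟩, ?_⟩
  · intro c'
    obtain ⟨x, hx⟩ := hbij.2 (Ideal.Quotient.mk _ c')
    obtain ⟨c, rfl⟩ := Ideal.Quotient.mk_surjective x
    refine ⟨c, ?_⟩
    rw [hIC', ← Ideal.Quotient.eq]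
    rw [Ideal.quotientMap_mk] at hx
    exact hx
  · intro c hc
    rw [hIC'] at hc
    have h0 : Ideal.quotientMap ((I.map (algebraMap A C)).map (algebraMap C C')) (algebraMap C C')
        Ideal.le_comap_map (Ideal.Quotient.mk _ c) = 0 := by
      rw [Ideal.quotientMap_mk, Ideal.Quotient.eq_zero_iff_mem]
      exact hc
    have h1 := hbij.1 (h0.trans (map_zero _).symm)
    exact Ideal.Quotient.eq_zero_iff_mem.mp h1
  · intro b
    obtain ⟨c, hc⟩ := Submodule.Quotient.mk_surjective _
      (AdicCompletion.eval (I.map (algebraMap A C)) C N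
        (φ (AdicCompletion.of (I.map (algebraMap A B)) B b)))
    refine ⟨c, ?_, hc.symm⟩
    have h1 : σ (g ((1 : C) ⊗ₜ[A] b)) = Ideal.Quotient.mk _ c := by
      show AdicCompletion.evalₐ (I.map (algebraMap A C)) N (h (g ((1 : C) ⊗ₜ[A] b))) = _
      have h2 : h (g ((1 : C) ⊗ₜ[A] b)) = Φ ((1 : C) ⊗ₜ[A] b) :=
        congrArg (fun f => f ((1 : C) ⊗ₜ[A] b)) hgh
      rw [h2]
      have h3 : Φ ((1 : C) ⊗ₜ[A] b) = φ (AdicCompletion.of (I.map (algebraMap A B)) B b) := by
        show Algebra.TensorProduct.lift _ _ _ ((1 : C) ⊗ₜ[A] b) = _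
        rw [Algebra.TensorProduct.lift_tmul, map_one, one_mul]
        rfl
      rw [h3]
      exact evalₐ_eq_mk' _ _ _ _ hc.symm
    have h4 := hβ _ c h1
    rw [hIC', ← Ideal.map_pow]
    exact h4

end Groth.Agent.Lib.Helper5.ArtinApxN
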