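import Groth.Agent.Lib.Helper5.ArtinApxC
import Groth.Agent.Lib.Helper5.ComplBase
import Groth.Agent.S0600

universe u

namespace Groth.Agent.Lib.Helper5.ArtinApxO

open Groth.Agent.Lib.Helper5.ArtinApxC

variable (hPop : Popescu.{u})

include hPop in
theorem s0597 (A : Type u) [CommRing A] [IsNoetherianRing A]
    (I : Ideal A) [HenselianRing A I] (hreg : CAlg.IsRegularHom A (AdicCompletion I A)) (n m : ℕ)
    (F : Fin m → MvPolynomial (Fin n) A) (a : Fin n → (AdicCompletion I A))
    (ha : ∀ j, MvPolynomial.eval a (MvPolynomial.map (algebraMap A (AdicCompletion I A)) (F j)) = 0) (N : ℕ) :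
    ∃ b : Fin n → A, (∀ j, MvPolynomial.eval b (F j) = 0) ∧
      ∀ i, a i - algebraMap A (AdicCompletion I A) (b i) ∈ (I ^ N).map (algebraMap A (AdicCompletion I A)) := by
  have ha' : ∀ j, MvPolynomial.aeval a (F j) = 0 := by
    intro j
    rw [MvPolynomial.aeval_def, ← MvPolynomial.eval_map]
    exact ha j
  obtain ⟨b, hb0, hb1⟩ := approx_pair hPop A I hreg n m N F a ha'
  refine ⟨b, hb0, fun i => ?_⟩
  rw [Ideal.map_pow]
  apply Groth.Agent.S9318.ker_evalₐ_le I (IsNoetherian.noetherian I)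
  rw [map_sub, AlgHom.commutes, ← hb1 i]
  exact sub_self _

include hPop in
theorem s0596 (R : Type u) [CommRing R] [HenselianLocalRing R]
    (hG : CAlg.IsGRing R) (n m : ℕ) (F : Fin m → MvPolynomial (Fin n) R)
    (a : Fin n → (AdicCompletion (IsLocalRing.maximalIdeal R) R))
    (ha : ∀ j, MvPolynomial.eval a (MvPolynomial.map (algebraMap R (AdicCompletion (IsLocalRing.maximalIdeal R) R)) (F j)) = 0) (N : ℕ) :
    ∃ b : Fin n → R, (∀ j, MvPolynomial.eval b (F j) = 0) ∧
      ∀ i, a i - algebraMap R (AdicCompletion (IsLocalRing.maximalIdeal R) R) (b i) ∈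
        (IsLocalRing.maximalIdeal R ^ N).map (algebraMap R (AdicCompletion (IsLocalRing.maximalIdeal R) R)) := by
  have : IsNoetherianRing R := hG.1
  exact s0597 hPop R (IsLocalRing.maximalIdeal R)
    (Groth.Agent.S0600.result R hG (IsLocalRing.maximalIdeal R)) n m F a ha N

end Groth.Agent.Lib.Helper5.ArtinApxO
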