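import Mathlib
import Groth.Agent.S0536

open TensorProduct

universe u

namespace Groth.Agent.Lib.Helper5.ArtinApxP

set_option maxHeartbeats 1600000 in
/-- Variant of `exists_etale_factor` allowing denominators. -/
theorem exists_etale_factor' (R : Type u) [CommRing R] (B : Type u) [CommRing B] [Algebra R B]
    [Algebra.Smooth R B]
    (C : Type u) [CommRing C] [IsLocalRing C] [Algebra R C] (𝔫 : Ideal C) [HenselianRing C 𝔫]
    (hsurj : ∀ (n : ℕ) (c : Fin n → C), ∃ (s : R) (r : Fin n → R), IsUnit (algebraMap R C s) ∧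
      ∀ j, algebraMap R C s * c j - algebraMap R C (r j) ∈ 𝔫)
    (h : B →ₐ[R] C) :
    ∃ (R' : Type u) (_ : CommRing R') (_ : Algebra R R'), Algebra.Etale R R' ∧
      ∃ (β : B →ₐ[R] R') (ψ : R' →ₐ[R] C), ∀ b : B, ψ (β b) - h b ∈ 𝔫 := by
  classical
  let q : Ideal B := (IsLocalRing.maximalIdeal C).comap h.toRingHom
  haveI : q.IsPrime := Ideal.comap_isPrime _ _
  haveI : Algebra.FinitePresentation R B := inferInstance
  haveI : Algebra.IsSmoothAt R q := by
    show Algebra.FormallySmooth R (Localization.AtPrime q)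
    exact Algebra.FormallySmooth.comp R B (Localization.AtPrime q)
  obtain ⟨g, hgq, n, algT, hT, hSE⟩ :=
    Algebra.IsSmoothAt.exists_isStandardEtale_mvPolynomial (R := R) (p := q)
  have hg_unit : IsUnit (h g) := by
    by_contra hnu
    exact hgq ((IsLocalRing.mem_maximalIdeal _).mpr hnu)
  let Bg := Localization.Away g
  let T := MvPolynomial (Fin n) R
  let hg : Bg →ₐ[R] C := IsLocalization.liftAlgHom (M := Submonoid.powers g) (f := h) (by
    rintro ⟨y, k, rfl⟩
    simpa using hg_unit.pow k)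
  have hg_alg : ∀ b : B, hg (algebraMap B Bg b) = h b := by
    intro b
    simp [hg]
  let cj : Fin n → C := fun j => hg (algebraMap T Bg (MvPolynomial.X j))
  obtain ⟨s, r, hs, hr⟩ := hsurj n cj
  let R₁ := Localization.Away s
  -- R₁ → C
  let ℓ : R₁ →+* C := IsLocalization.Away.lift s hs
  letI algR₁C : Algebra R₁ C := ℓ.toAlgebra
  haveI : IsScalarTower R R₁ C := IsScalarTower.of_algebraMap_eq (fun x => by
    show algebraMap R C x = ℓ (algebraMap R R₁ x)
    rw [IsLocalization.Away.lift_eq])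
  let u : Fin n → R₁ := fun j => IsLocalization.mk' R₁ (r j) (⟨s, Submonoid.mem_powers s⟩ : Submonoid.powers s)
  have hu : ∀ j, cj j - algebraMap R₁ C (u j) ∈ 𝔫 := by
    intro j
    have h1 : algebraMap R C s * algebraMap R₁ C (u j) = algebraMap R C (r j) := by
      rw [IsScalarTower.algebraMap_apply R R₁ C, ← map_mul, IsScalarTower.algebraMap_apply R R₁ C]
      congr 1
      rw [mul_comm]
      exact IsLocalization.mk'_spec R₁ (r j) (⟨s, Submonoid.mem_powers s⟩ : Submonoid.powers s)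
    have h2 : algebraMap R C s * (cj j - algebraMap R₁ C (u j)) ∈ 𝔫 := by
      rw [mul_sub, h1]
      exact hr j
    exact (Ideal.unit_mul_mem_iff_mem 𝔫 hs).mp h2
  let ev : T →ₐ[R] R₁ := MvPolynomial.aeval u
  letI algTR : Algebra T R₁ := ev.toRingHom.toAlgebra
  haveI : IsScalarTower R T R₁ := IsScalarTower.of_algebraMap_eq (fun x => by
    show algebraMap R R₁ x = ev (algebraMap R T x)
    rw [AlgHom.commutes])
  letI algTC : Algebra T (C ⧸ 𝔫) := ((algebraMap R₁ (C ⧸ 𝔫)).comp ev.toRingHom).toAlgebra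
  haveI : IsScalarTower T R₁ (C ⧸ 𝔫) := IsScalarTower.of_algebraMap_eq (fun p => rfl)
  haveI : Algebra.Etale T Bg := inferInstance
  let R' := R₁ ⊗[T] Bg
  haveI : Algebra.Etale R₁ R' := inferInstance
  haveI : Algebra.Etale R R₁ := inferInstance
  haveI : Algebra.Etale R R' := Algebra.Etale.comp R R₁ R'
  have hcomm : ∀ p : T, (Ideal.Quotient.mk 𝔫) (hg (algebraMap T Bg p)) = algebraMap T (C ⧸ 𝔫) p := by
    intro p
    let φ1 : T →ₐ[R] C ⧸ 𝔫 := (Ideal.Quotient.mkₐ R 𝔫).comp (hg.comp (IsScalarTower.toAlgHom R T Bg))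
    let φ2 : T →ₐ[R] C ⧸ 𝔫 := ((Algebra.ofId R₁ (C ⧸ 𝔫)).restrictScalars R).comp ev
    have h12 : φ1 = φ2 := by
      apply MvPolynomial.algHom_ext
      intro j
      show (Ideal.Quotient.mk 𝔫) (cj j) = algebraMap R₁ (C ⧸ 𝔫) (ev (MvPolynomial.X j))
      have : ev (MvPolynomial.X j) = u j := MvPolynomial.aeval_X u j
      rw [this, IsScalarTower.algebraMap_apply R₁ C (C ⧸ 𝔫), Ideal.Quotient.algebraMap_eq,
        Ideal.Quotient.eq]
      exact hu j
    exact congrArg (fun φ => φ p) h12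
  let g' : Bg →ₐ[T] C ⧸ 𝔫 :=
    { toRingHom := (Ideal.Quotient.mk 𝔫).comp hg.toRingHom
      commutes' := hcomm }
  let σ : R' →ₐ[R₁] C ⧸ 𝔫 :=
    Algebra.TensorProduct.lift (Algebra.ofId R₁ (C ⧸ 𝔫)) g' (fun _ _ => Commute.all _ _)
  haveI : Algebra.Smooth R₁ R' := inferInstance
  obtain ⟨τ, hτ⟩ := Groth.Agent.S0536.result R₁ R' C 𝔫 σ
  let β : B →ₐ[R] R' :=
    ((Algebra.TensorProduct.includeRight : Bg →ₐ[T] R₁ ⊗[T] Bg).restrictScalars R).comp
      (IsScalarTower.toAlgHom R B Bg)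
  refine ⟨R', inferInstance, inferInstance, inferInstance, β, τ.restrictScalars R, ?_⟩
  intro b
  rw [← Ideal.Quotient.eq]
  have h1 := congrArg (fun φ => φ (β b)) hτ
  simp only [AlgHom.comp_apply, Ideal.Quotient.mkₐ_eq_mk] at h1
  show (Ideal.Quotient.mk 𝔫) (τ (β b)) = _
  rw [h1]
  show σ ((1 : R₁) ⊗ₜ[T] (algebraMap B Bg b)) = _
  rw [Algebra.TensorProduct.lift_tmul]
  simp only [map_one, one_mul]
  show (Ideal.Quotient.mk 𝔫) (hg (algebraMap B Bg b)) = _
  rw [hg_alg]

end Groth.Agent.Lib.Helper5.ArtinApxP
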