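import Groth.Agent.Lib.Helper5.ArtinApxF
import Groth.Agent.Lib.Helper5.ArtinApxP
import Groth.Agent.Lib.Helper5.RegHomComp
import Groth.Agent.Lib.Helper5.GorFibreA
import Groth.Agent.Lib.Helper22.RegLocal
import Groth.Agent.S0600

open TensorProduct IsLocalRing

universe u

namespace Groth.Agent.Lib.Helper5.ArtinApxQ

open Groth.Agent.Lib.Helper5.ArtinApxC Groth.Agent.Lib.Helper5.ArtinApxF

variable (hPop : Popescu.{u})

set_option maxHeartbeats 1600000 in
include hPop in
theorem s6843 {R : Type u} [CommRing R] [IsNoetherianRing R]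
    (p : Ideal R) [p.IsPrime] (hG : CAlg.IsGRing (Localization.AtPrime p)) {n m : ℕ}
    (F : Fin m → MvPolynomial (Fin n) R)
    (a : Fin n → AdicCompletion (IsLocalRing.maximalIdeal (Localization.AtPrime p)) (Localization.AtPrime p))
    (ha : ∀ j, MvPolynomial.aeval a (MvPolynomial.map (algebraMap R (Localization.AtPrime p)) (F j)) = 0) (N : ℕ) :
    ∃ (R' : Type u) (_ : CommRing R') (_ : Algebra R R'), Algebra.Etale R R' ∧
      ∃ (ψ : R' →+* AdicCompletion (IsLocalRing.maximalIdeal (Localization.AtPrime p)) (Localization.AtPrime p))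
        (p' : Ideal R'), p'.IsPrime ∧
        (∀ r : R, ψ (algebraMap R R' r) =
          algebraMap (Localization.AtPrime p) _ (algebraMap R (Localization.AtPrime p) r)) ∧
        p'.comap (algebraMap R R') = p ∧
        (∀ x : R', ∃ r s : R, s ∉ p ∧ algebraMap R R' s * x - algebraMap R R' r ∈ p') ∧
        (∀ x ∈ p', ψ x ∈ (IsLocalRing.maximalIdeal (Localization.AtPrime p)).map
          (algebraMap (Localization.AtPrime p)
            (AdicCompletion (IsLocalRing.maximalIdeal (Localization.AtPrime p)) (Localization.AtPrime p)))) ∧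
        ∃ b : Fin n → R', (∀ j, MvPolynomial.aeval b (F j) = 0) ∧
          ∀ i, a i - ψ (b i) ∈ (IsLocalRing.maximalIdeal (Localization.AtPrime p) ^ N).map
            (algebraMap (Localization.AtPrime p)
              (AdicCompletion (IsLocalRing.maximalIdeal (Localization.AtPrime p)) (Localization.AtPrime p))) := by
  classical
  have : IsNoetherianRing (Localization.AtPrime p) := hG.1
  have fg : (maximalIdeal (Localization.AtPrime p)).FG := IsNoetherian.noetherian _
  have : IsNoetherianRing (AdicCompletion (maximalIdeal (Localization.AtPrime p)) (Localization.AtPrime p)) :=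
    Groth.Agent.Lib.helper19.isNoetherianRing_adicCompletion _ _
  have : IsScalarTower R (Localization.AtPrime p)
      (AdicCompletion (maximalIdeal (Localization.AtPrime p)) (Localization.AtPrime p)) :=
    IsScalarTower.of_algebraMap_eq (fun _ => rfl)
  have hreg : CAlg.IsRegularHom R
      (AdicCompletion (maximalIdeal (Localization.AtPrime p)) (Localization.AtPrime p)) :=
    Groth.Agent.Lib.Helper5.RegHom.isRegularHom_comp R (Localization.AtPrime p) _
      (Groth.Agent.Lib.Helper22.RegLocal.isRegularHom_of_isLocalization R p.primeCompl _)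
      (Groth.Agent.S0600.result _ hG _)
      (fun q _ => Groth.Agent.Lib.Helper5.GorFibre.isNoetherianRing_fiber R _ q)
  -- P and φ
  let P := MvPolynomial (Fin n) R ⧸ Ideal.span (Set.range F)
  have : Algebra.FinitePresentation R P :=
    Algebra.FinitePresentation.quotient (Submodule.fg_span (Set.finite_range F))
  have ha' : ∀ j, MvPolynomial.aeval (R := R) a (F j) = 0 := by
    intro j
    rw [← MvPolynomial.aeval_map_algebraMap (Localization.AtPrime p)]
    exact ha j
  let φ : P →ₐ[R] AdicCompletion (maximalIdeal (Localization.AtPrime p)) (Localization.AtPrime p) :=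
    Ideal.Quotient.liftₐ (Ideal.span (Set.range F)) (MvPolynomial.aeval a) (by
      intro q hq
      have hle : Ideal.span (Set.range F) ≤ RingHom.ker (MvPolynomial.aeval (R := R) a).toRingHom := by
        rw [Ideal.span_le]
        rintro _ ⟨i, rfl⟩
        exact ha' i
      exact hle hq)
  have hφX : ∀ i, φ (Ideal.Quotient.mk _ (MvPolynomial.X i)) = a i := by
    intro i
    show (Ideal.Quotient.liftₐ (Ideal.span (Set.range F)) (MvPolynomial.aeval a) _)
      (Ideal.Quotient.mk _ (MvPolynomial.X i)) = a i
    rw [Ideal.Quotient.liftₐ_apply, Ideal.Quotient.lift_mk]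
    exact MvPolynomial.aeval_X _ _
  obtain ⟨B, _, _, hB, g, h, hgh⟩ := hPop R _ hreg P φ
  have := henselianRing_pow (Localization.AtPrime p) (maximalIdeal (Localization.AtPrime p)) N
  -- the denominators hypothesis
  have hsurj : ∀ (k : ℕ) (c : Fin k → AdicCompletion (maximalIdeal (Localization.AtPrime p)) (Localization.AtPrime p)),
      ∃ (s : R) (r : Fin k → R), IsUnit (algebraMap R (AdicCompletion (maximalIdeal (Localization.AtPrime p)) (Localization.AtPrime p)) s) ∧
        ∀ j, algebraMap R _ s * c j - algebraMap R _ (r j) ∈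
          ((maximalIdeal (Localization.AtPrime p)) ^ (N + 1)).map (algebraMap (Localization.AtPrime p) _) := by
    intro k c
    choose x hx using fun j => Groth.Agent.Lib.Helper5.ComplBase.exists_sub_mem
      (maximalIdeal (Localization.AtPrime p)) fg (N + 1) (c j)
    obtain ⟨s, hs⟩ := IsLocalization.exist_integer_multiples_of_finite p.primeCompl x
    choose r hr using hs
    refine ⟨s, r, ?_, fun j => ?_⟩
    · rw [IsScalarTower.algebraMap_apply R (Localization.AtPrime p)]
      exact (IsLocalization.map_units (Localization.AtPrime p) s).map _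
    · have h1 : algebraMap R (Localization.AtPrime p) (r j) =
          algebraMap R (Localization.AtPrime p) s * x j := by
        rw [hr j, Algebra.smul_def]
      have e1 : algebraMap R (AdicCompletion (maximalIdeal (Localization.AtPrime p)) (Localization.AtPrime p)) (s : R) =
          algebraMap (Localization.AtPrime p) _ (algebraMap R (Localization.AtPrime p) (s : R)) :=
        IsScalarTower.algebraMap_apply R (Localization.AtPrime p) _ _
      have e2 : algebraMap R (AdicCompletion (maximalIdeal (Localization.AtPrime p)) (Localization.AtPrime p)) (r j) =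
          algebraMap (Localization.AtPrime p) _ (algebraMap R (Localization.AtPrime p) (r j)) :=
        IsScalarTower.algebraMap_apply R (Localization.AtPrime p) _ _
      rw [e1, e2, h1, map_mul, ← mul_sub]
      exact Ideal.mul_mem_left _ _ (hx j)
  obtain ⟨R', _, _, hR', β, ψ₀, hψ₀⟩ :=
    Groth.Agent.Lib.Helper5.ArtinApxP.exists_etale_factor' R B _
      (((maximalIdeal (Localization.AtPrime p)) ^ (N + 1)).map (algebraMap (Localization.AtPrime p) _))
      hsurj h
  have hM : maximalIdeal (AdicCompletion (maximalIdeal (Localization.AtPrime p)) (Localization.AtPrime p)) =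
      (maximalIdeal (Localization.AtPrime p)).map (algebraMap (Localization.AtPrime p) _) :=
    AdicCompletion.maximalIdeal_eq_map
  let p' : Ideal R' :=
    (maximalIdeal (AdicCompletion (maximalIdeal (Localization.AtPrime p)) (Localization.AtPrime p))).comap
      ψ₀.toRingHom
  have hp'prime : p'.IsPrime := Ideal.comap_isPrime _ _
  have hψr : ∀ r : R, ψ₀.toRingHom (algebraMap R R' r) =
      algebraMap (Localization.AtPrime p) _ (algebraMap R (Localization.AtPrime p) r) := by
    intro r
    have : ψ₀.toRingHom (algebraMap R R' r) = algebraMap R _ r := ψ₀.commutes r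
    rw [this, IsScalarTower.algebraMap_apply R (Localization.AtPrime p)]
  refine ⟨R', inferInstance, inferInstance, hR', ψ₀.toRingHom, p', hp'prime, hψr, ?_, ?_, ?_, ?_⟩
  · ext r
    rw [Ideal.mem_comap]
    show ψ₀.toRingHom (algebraMap R R' r) ∈ maximalIdeal _ ↔ _
    rw [hψr]
    constructor
    · intro hr
      by_contra hrp
      have hu : IsUnit (algebraMap R (Localization.AtPrime p) r) :=
        IsLocalization.map_units (Localization.AtPrime p) (⟨r, hrp⟩ : p.primeCompl)
      exact ((IsLocalRing.mem_maximalIdeal _).mp hr) (hu.map _)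
    · intro hr
      rw [hM]
      apply Ideal.mem_map_of_mem
      exact (IsLocalization.AtPrime.to_map_mem_maximal_iff (Localization.AtPrime p) p r).mpr hr
  · intro x
    obtain ⟨y, hy⟩ := Groth.Agent.Lib.Helper5.ComplBase.exists_sub_mem
      (maximalIdeal (Localization.AtPrime p)) fg 1 (ψ₀ x)
    rw [pow_one, ← hM] at hy
    obtain ⟨r, s, rfl⟩ := IsLocalization.exists_mk'_eq p.primeCompl y
    refine ⟨r, s, s.2, ?_⟩
    show ψ₀.toRingHom (algebraMap R R' s * x - algebraMap R R' r) ∈ maximalIdeal _
    rw [map_sub, map_mul, hψr, hψr]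
    have h1 : algebraMap R (Localization.AtPrime p) r =
        algebraMap R (Localization.AtPrime p) s * IsLocalization.mk' (Localization.AtPrime p) r s := by
      rw [mul_comm]
      exact (IsLocalization.mk'_spec (Localization.AtPrime p) r s).symm
    rw [h1, map_mul, ← mul_sub]
    exact Ideal.mul_mem_left _ _ hy
  · intro x hx
    rw [← hM]
    exact hx
  · refine ⟨fun i => β (g (Ideal.Quotient.mk _ (MvPolynomial.X i))), ?_, ?_⟩
    · intro j
      have h1 : MvPolynomial.aeval (fun i => β (g (Ideal.Quotient.mk _ (MvPolynomial.X i)))) =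
          (β.comp g).comp (Ideal.Quotient.mkₐ R (Ideal.span (Set.range F))) := by
        apply MvPolynomial.algHom_ext
        intro i
        rw [MvPolynomial.aeval_X, AlgHom.comp_apply, AlgHom.comp_apply, Ideal.Quotient.mkₐ_eq_mk]
      rw [h1, AlgHom.comp_apply]
      have h2 : (Ideal.Quotient.mkₐ R (Ideal.span (Set.range F))) (F j) = 0 := by
        rw [Ideal.Quotient.mkₐ_eq_mk, Ideal.Quotient.eq_zero_iff_mem]
        exact Ideal.subset_span ⟨j, rfl⟩
      rw [h2, map_zero]
    · intro i
      have h1 := hψ₀ (g (Ideal.Quotient.mk _ (MvPolynomial.X i)))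
      have h2 : h (g (Ideal.Quotient.mk _ (MvPolynomial.X i))) = a i := by
        have := congrArg (fun f => f (Ideal.Quotient.mk _ (MvPolynomial.X i))) hgh
        simp only [AlgHom.comp_apply] at this
        rw [this, hφX]
      rw [h2] at h1
      have hle : ((maximalIdeal (Localization.AtPrime p)) ^ (N + 1)).map
          (algebraMap (Localization.AtPrime p) (AdicCompletion (maximalIdeal (Localization.AtPrime p)) (Localization.AtPrime p))) ≤
          ((maximalIdeal (Localization.AtPrime p)) ^ N).map (algebraMap (Localization.AtPrime p) _) :=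
        Ideal.map_mono (Ideal.pow_le_pow_right (Nat.le_succ N))
      have h3 := hle h1
      have h4 := (Ideal.neg_mem_iff _).mpr h3
      simpa using h4

end Groth.Agent.Lib.Helper5.ArtinApxQ
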