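import Mathlib
import Groth.Agent.Lib.Helper12.NoetherianAux

/-!
# Matching factorizations `u v = t₁ t₂` in a local Noetherian UFD by approximation
-/

set_option autoImplicit false
universe u

namespace Groth.Agent.Lib.Helper5.NodeFactor

open IsLocalRing

variable {D : Type u} [CommRing D] [IsDomain D] [UniqueFactorizationMonoid D]

theorem finite_principal_divisors (Δ : D) (hΔ : Δ ≠ 0) :
    {J : Ideal D | ∃ d, d ∣ Δ ∧ J = Ideal.span {d}}.Finite := by
  classical
  haveI : Fintype {a : Associates D // a ∣ Associates.mk Δ} :=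
    UniqueFactorizationMonoid.fintypeSubtypeDvd _ (Associates.mk_ne_zero.mpr hΔ)
  have hfin : (Set.range (fun a : {a : Associates D // a ∣ Associates.mk Δ} =>
      (Ideal.span {Quot.out a.1} : Ideal D))).Finite := Set.finite_range _
  refine hfin.subset ?_
  rintro J ⟨d, hd, rfl⟩
  refine ⟨⟨Associates.mk d, Associates.mk_dvd_mk.mpr hd⟩, ?_⟩
  show Ideal.span {Quot.out (Associates.mk d)} = Ideal.span {d}
  rw [Ideal.span_singleton_eq_span_singleton]
  exact Associates.mk_eq_mk_iff_associated.mp (Associates.quot_out _)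

variable [IsLocalRing D] [IsNoetherianRing D]

theorem exists_pow_forall_mem (Δ : D) (hΔ : Δ ≠ 0) (x : D) :
    ∃ N : ℕ, ∀ d : D, d ∣ Δ → x ∈ Ideal.span {d} ⊔ maximalIdeal D ^ N → x ∈ Ideal.span {d} := by
  classical
  have hfin := finite_principal_divisors Δ hΔ
  have h1 : ∀ J : Ideal D, ∃ n : ℕ, x ∈ J ⊔ maximalIdeal D ^ n → x ∈ J := by
    intro J
    by_cases hx : x ∈ J
    · exact ⟨0, fun _ => hx⟩
    · by_contra hcon
      push Not at hcon
      exact hx (Groth.Agent.Lib.Helper12.mem_of_forall_mem_sup_pow J x (fun n => (hcon n).1))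
  choose Nf hNf using h1
  refine ⟨hfin.toFinset.sup Nf, fun d hd hx => ?_⟩
  have hJ : Ideal.span {d} ∈ hfin.toFinset := by
    rw [Set.Finite.mem_toFinset]
    exact ⟨d, hd, rfl⟩
  apply hNf
  have hle : Nf (Ideal.span {d}) ≤ hfin.toFinset.sup Nf := Finset.le_sup hJ
  have hle2 : Ideal.span {d} ⊔ maximalIdeal D ^ (hfin.toFinset.sup Nf) ≤
      Ideal.span {d} ⊔ maximalIdeal D ^ (Nf (Ideal.span {d})) :=
    sup_le_sup_left (Ideal.pow_le_pow_right hle) _
  exact hle2 hx

theorem exists_pow_forall_span_eq (Δ t₁ t₂ : D) (hΔ : Δ ≠ 0) (ht : t₁ * t₂ = Δ) :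
    ∃ N : ℕ, ∀ u v : D, u * v = Δ → u - t₁ ∈ maximalIdeal D ^ N → v - t₂ ∈ maximalIdeal D ^ N →
      Ideal.span {u} = Ideal.span {t₁} ∧ Ideal.span {v} = Ideal.span {t₂} := by
  obtain ⟨N₁, hN₁⟩ := exists_pow_forall_mem Δ hΔ t₁
  obtain ⟨N₂, hN₂⟩ := exists_pow_forall_mem Δ hΔ t₂
  refine ⟨max N₁ N₂, fun u v huv hu hv => ?_⟩
  have h1 : t₁ ∈ Ideal.span {u} := by
    apply hN₁ u ⟨v, huv.symm⟩
    have : t₁ = u + -(u - t₁) := by ring
    rw [this]
    exact Submodule.add_mem_sup (Ideal.subset_span rfl)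
      ((maximalIdeal D ^ N₁).neg_mem (Ideal.pow_le_pow_right (le_max_left _ _) hu))
  have h2 : t₂ ∈ Ideal.span {v} := by
    apply hN₂ v ⟨u, by rw [← huv, mul_comm]⟩
    have : t₂ = v + -(v - t₂) := by ring
    rw [this]
    exact Submodule.add_mem_sup (Ideal.subset_span rfl)
      ((maximalIdeal D ^ N₂).neg_mem (Ideal.pow_le_pow_right (le_max_right _ _) hv))
  obtain ⟨a, ha⟩ := Ideal.mem_span_singleton'.mp h1
  obtain ⟨b, hb⟩ := Ideal.mem_span_singleton'.mp h2
  have hab : a * b = 1 := by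
    have h3 : Δ * (a * b) = Δ * 1 := by
      rw [mul_one]
      calc Δ * (a * b) = (a * u) * (b * v) := by rw [← huv]; ring
        _ = Δ := by rw [ha, hb, ht]
    exact mul_left_cancel₀ hΔ h3
  have hau : IsUnit a := IsUnit.of_mul_eq_one b hab
  have hbu : IsUnit b := IsUnit.of_mul_eq_one a (by rw [mul_comm]; exact hab)
  constructor
  · rw [Ideal.span_singleton_eq_span_singleton]
    obtain ⟨a', rfl⟩ := hau
    exact ⟨a', by rw [mul_comm]; exact ha⟩
  · rw [Ideal.span_singleton_eq_span_singleton]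
    obtain ⟨b', rfl⟩ := hbu
    exact ⟨b', by rw [mul_comm]; exact hb⟩

end Groth.Agent.Lib.Helper5.NodeFactor
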