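import Mathlib
import Groth.Agent.Lib.helper19.CompletionNoetherian

/-!
# Substitution of topologically nilpotent elements into power series over an adically complete ring
-/

set_option autoImplicit false
universe u

namespace Groth.Agent.Lib.Helper5.PSSubst

open Groth.Agent.Lib.helper19

variable {S : Type u} [CommRing S] (I : Ideal S) {n : ℕ} (t : Fin n → S) (ht : ∀ i, t i ∈ I)

include ht in
theorem span_pow_le (k : ℕ) : Ideal.span (Set.range t) ^ k ≤ I ^ k :=
  Ideal.pow_right_mono (Ideal.span_le.mpr (by rintro _ ⟨i, rfl⟩; exact ht i)) k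

/-- truncated substitution -/
noncomputable def substLevel (k : ℕ) : MvPowerSeries (Fin n) S →+* S ⧸ I ^ k :=
  (Ideal.Quotient.factor (span_pow_le I t ht k)).comp (psMap t k)

theorem substLevel_apply (k : ℕ) (p : MvPowerSeries (Fin n) S) :
    substLevel I t ht k p =
      Ideal.Quotient.mk (I ^ k) (MvPolynomial.aeval t (MvPowerSeries.truncTotal k p)) := by
  unfold substLevel
  rw [RingHom.comp_apply, psMap_apply, Ideal.Quotient.factor_mk]

theorem substLevel_coe (k : ℕ) (p : MvPolynomial (Fin n) S) :
    substLevel I t ht k (p : MvPowerSeries (Fin n) S) =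
      Ideal.Quotient.mk (I ^ k) (MvPolynomial.aeval t p) := by
  unfold substLevel
  rw [RingHom.comp_apply, psMap_coe, Ideal.Quotient.factor_mk]

theorem substLevel_compat {m k : ℕ} (hle : m ≤ k) :
    (Ideal.Quotient.factorPow I hle).comp (substLevel I t ht k) = substLevel I t ht m := by
  ext p
  rw [RingHom.comp_apply, substLevel_apply, substLevel_apply, Ideal.Quotient.factor_mk,
    Ideal.Quotient.mk_eq_mk_iff_sub_mem, ← map_sub]
  exact span_pow_le I t ht m (idealOfVars_pow_le_comap t m
    (MvPowerSeries.truncTotal_sub_truncTotal_mem_pow_idealOfVars hle (le_refl m) p))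

variable [IsAdicComplete I S]

/-- substitution `Xᵢ ↦ tᵢ` for `tᵢ ∈ I`, `S` being `I`-adically complete -/
noncomputable def subst : MvPowerSeries (Fin n) S →+* S :=
  IsAdicComplete.liftRingHom I (substLevel I t ht) (substLevel_compat I t ht)

theorem mk_subst (k : ℕ) (p : MvPowerSeries (Fin n) S) :
    Ideal.Quotient.mk (I ^ k) (subst I t ht p) = substLevel I t ht k p :=
  IsAdicComplete.mk_liftRingHom I _ _ k p

omit [IsAdicComplete I S] in
theorem eq_of_forall_mk_eq [IsHausdorff I S] (x y : S)
    (h : ∀ k, Ideal.Quotient.mk (I ^ k) x = Ideal.Quotient.mk (I ^ k) y) : x = y := by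
  rw [IsHausdorff.eq_iff_smodEq (I := I)]
  intro k
  rw [SModEq.sub_mem, smul_eq_mul, Ideal.mul_top]
  exact Ideal.Quotient.mk_eq_mk_iff_sub_mem _ _ |>.mp (h k)

theorem subst_coe (p : MvPolynomial (Fin n) S) :
    subst I t ht (p : MvPowerSeries (Fin n) S) = MvPolynomial.aeval t p := by
  apply eq_of_forall_mk_eq I
  intro k
  rw [mk_subst, substLevel_coe]

theorem subst_C (r : S) : subst I t ht (MvPowerSeries.C r) = r := by
  have := subst_coe I t ht (MvPolynomial.C r)
  rwa [MvPolynomial.coe_C, MvPolynomial.aeval_C, Algebra.algebraMap_self_apply] at this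

theorem subst_X (i : Fin n) : subst I t ht (MvPowerSeries.X i) = t i := by
  have := subst_coe I t ht (MvPolynomial.X i)
  rwa [MvPolynomial.coe_X, MvPolynomial.aeval_X] at this

end Groth.Agent.Lib.Helper5.PSSubst
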