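import Mathlib
import Groth.Prelude.Def_EGA4b
import Groth.Agent.Lib.Helper5.ArtinApxC
import Groth.Agent.Lib.Helper5.PSSubst
import Groth.Agent.Lib.Helper5.NodeFactor
import Groth.Agent.Lib.Helper5.ComplBase
import Groth.Agent.Lib.Helper12.FComplA
import Groth.Agent.S0600

/-!
# Retractions realizing a node factorization (conditional on Popescu)
-/

set_option autoImplicit false
universe u

namespace Groth.Agent.Lib.Helper5.ArtinApxR

open IsLocalRing MvPowerSeries
open Groth.Agent.Lib.Helper5.ArtinApxC

variable (hPop : Popescu.{u})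

set_option maxHeartbeats 1600000 in
include hPop in
theorem s19894
    (R : Type u) [CommRing R] [IsNoetherianRing R] [IsDomain R] [UniqueFactorizationMonoid R] [HenselianLocalRing R]
    (hG : CAlg.IsGRing R)
    [IsDomain (AdicCompletion (maximalIdeal R) R)] [UniqueFactorizationMonoid (AdicCompletion (maximalIdeal R) R)]
    (Δ t₁ t₂ : R) (hΔ : Δ ≠ 0) (ht₁ : t₁ ∈ maximalIdeal R) (ht₂ : t₂ ∈ maximalIdeal R) (ht : t₁ * t₂ = Δ)
    (C : Type u) [CommRing C] [IsLocalRing C] [Algebra R C] [IsLocalHom (algebraMap R C)]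
    [Algebra.EssFiniteType R C]
    (ψ : AdicCompletion (maximalIdeal C) C ≃+*
      (MvPowerSeries (Fin 2) (AdicCompletion (maximalIdeal R) R) ⧸
        Ideal.span {(X 0 * X 1 - MvPowerSeries.C (algebraMap R (AdicCompletion (maximalIdeal R) R) Δ) :
          MvPowerSeries (Fin 2) (AdicCompletion (maximalIdeal R) R))}))
    (hψ : ψ.toRingHom.comp ((algebraMap C (AdicCompletion (maximalIdeal C) C)).comp (algebraMap R C)) =
      (Ideal.Quotient.mk _).comp ((MvPowerSeries.C : AdicCompletion (maximalIdeal R) R →+*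
        MvPowerSeries (Fin 2) (AdicCompletion (maximalIdeal R) R)).comp
          (algebraMap R (AdicCompletion (maximalIdeal R) R)))) :
    ∃ (g : C →ₐ[R] R) (ĝ : AdicCompletion (maximalIdeal C) C →+* AdicCompletion (maximalIdeal R) R),
      ĝ.comp (algebraMap C (AdicCompletion (maximalIdeal C) C)) =
        (algebraMap R (AdicCompletion (maximalIdeal R) R)).comp g.toRingHom ∧
      Ideal.span {ĝ (ψ.symm (Ideal.Quotient.mk _ (X 0)))} =
        Ideal.span {algebraMap R (AdicCompletion (maximalIdeal R) R) t₁} ∧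
      Ideal.span {ĝ (ψ.symm (Ideal.Quotient.mk _ (X 1)))} =
        Ideal.span {algebraMap R (AdicCompletion (maximalIdeal R) R) t₂} := by
  classical
  have : IsNoetherianRing C := Algebra.EssFiniteType.isNoetherianRing R C
  have fgR : (maximalIdeal R).FG := IsNoetherian.noetherian _
  have fgC : (maximalIdeal C).FG := IsNoetherian.noetherian _
  have : IsNoetherianRing (AdicCompletion (maximalIdeal R) R) :=
    Groth.Agent.Lib.helper19.isNoetherianRing_adicCompletion R _
  have hinj : Function.Injective (algebraMap R (AdicCompletion (maximalIdeal R) R)) :=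
    AdicCompletion.of_injective (I := maximalIdeal R) (M := R)
  -- the formal section
  let tt : Fin 2 → AdicCompletion (maximalIdeal R) R :=
    ![algebraMap R _ t₁, algebraMap R _ t₂]
  have htt : ∀ i, tt i ∈ maximalIdeal (AdicCompletion (maximalIdeal R) R) := by
    intro i
    rw [AdicCompletion.maximalIdeal_eq_map]
    fin_cases i
    · exact Ideal.mem_map_of_mem _ ht₁
    · exact Ideal.mem_map_of_mem _ ht₂
  let σ : MvPowerSeries (Fin 2) (AdicCompletion (maximalIdeal R) R) →+*
      AdicCompletion (maximalIdeal R) R :=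
    Groth.Agent.Lib.Helper5.PSSubst.subst (maximalIdeal (AdicCompletion (maximalIdeal R) R)) tt htt
  have hσC : ∀ r, σ (MvPowerSeries.C r) = r := fun r =>
    Groth.Agent.Lib.Helper5.PSSubst.subst_C _ tt htt r
  have hσX : ∀ i, σ (X i) = tt i := fun i =>
    Groth.Agent.Lib.Helper5.PSSubst.subst_X _ tt htt i
  have hσrel : σ (X 0 * X 1 - MvPowerSeries.C (algebraMap R (AdicCompletion (maximalIdeal R) R) Δ)) = 0 := by
    rw [map_sub, map_mul, hσX, hσX, hσC]
    show algebraMap R _ t₁ * algebraMap R _ t₂ - _ = 0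
    rw [← map_mul, ht, sub_self]
  let σ' : (MvPowerSeries (Fin 2) (AdicCompletion (maximalIdeal R) R) ⧸
        Ideal.span {(X 0 * X 1 - MvPowerSeries.C (algebraMap R (AdicCompletion (maximalIdeal R) R) Δ) :
          MvPowerSeries (Fin 2) (AdicCompletion (maximalIdeal R) R))}) →+*
      AdicCompletion (maximalIdeal R) R :=
    Ideal.Quotient.lift _ σ (by
      intro a ha
      obtain ⟨c, rfl⟩ := Ideal.mem_span_singleton'.mp ha
      rw [map_mul, hσrel, mul_zero])
  let g0 : AdicCompletion (maximalIdeal C) C →+* AdicCompletion (maximalIdeal R) R :=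
    σ'.comp ψ.toRingHom
  have hP1 : ∀ r : R, g0 (algebraMap C _ (algebraMap R C r)) = algebraMap R _ r := by
    intro r
    have h1 := RingHom.congr_fun hψ r
    simp only [RingHom.comp_apply] at h1
    show σ' (ψ.toRingHom _) = _
    rw [h1]
    show σ (MvPowerSeries.C _) = _
    rw [hσC]
  have hP2 : ∀ i, g0 (ψ.symm (Ideal.Quotient.mk _ (X i))) = tt i := by
    intro i
    show σ' (ψ.toRingHom (ψ.symm _)) = _
    rw [RingEquiv.toRingHom_eq_coe, RingEquiv.coe_toRingHom, RingEquiv.apply_symm_apply]
    show σ (X i) = _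
    exact hσX i
  have hP3 : Function.Surjective g0 := by
    intro x
    refine ⟨ψ.symm (Ideal.Quotient.mk _ (MvPowerSeries.C x)), ?_⟩
    show σ' (ψ.toRingHom (ψ.symm _)) = _
    rw [RingEquiv.toRingHom_eq_coe, RingEquiv.coe_toRingHom, RingEquiv.apply_symm_apply]
    show σ (MvPowerSeries.C x) = _
    exact hσC x
  have hP4 : IsLocalHom g0 := IsLocalHom.of_surjective g0 hP3
  -- the finite type model
  let C₀ := Algebra.EssFiniteType.subalgebra R C
  let M := Algebra.EssFiniteType.submonoid R C
  have : IsLocalization M C := Algebra.EssFiniteType.isLocalization R C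
  have : Algebra.FinitePresentation R C₀ :=
    Algebra.FinitePresentation.of_finiteType.mp inferInstance
  let φ : C₀ →ₐ[R] AdicCompletion (maximalIdeal R) R :=
    { toRingHom := g0.comp ((algebraMap C _).comp (algebraMap C₀ C))
      commutes' := fun r => hP1 r }
  have hφ : ∀ x : C₀, φ x = g0 (algebraMap C _ (algebraMap C₀ C x)) := fun _ => rfl
  have hreg := Groth.Agent.S0600.result R hG (maximalIdeal R)
  -- the UFD matching exponent
  obtain ⟨N, hN⟩ := Groth.Agent.Lib.Helper5.NodeFactor.exists_pow_forall_span_eq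
    (D := AdicCompletion (maximalIdeal R) R)
    (algebraMap R _ Δ) (tt 0) (tt 1)
    (fun h => hΔ (hinj (by rw [h, map_zero])))
    (by show algebraMap R _ t₁ * algebraMap R _ t₂ = _; rw [← map_mul, ht])
  obtain ⟨τ, hτ⟩ := exists_algHom_of_henselian hPop R (maximalIdeal R) hreg C₀ φ (N + 1)
    (Nat.succ_ne_zero N)
  have hτ' : ∀ x : C₀, Ideal.Quotient.mk (maximalIdeal R ^ (N + 1)) (τ x) =
      AdicCompletion.evalₐ (maximalIdeal R) (N + 1) (φ x) := fun x => AlgHom.congr_fun hτ x
  -- units
  have hunit : ∀ s : M, IsUnit (τ s) := by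
    intro s
    have hs : IsUnit (algebraMap C₀ C s.1) := s.2
    have hu1 : IsUnit (φ s.1) := (hs.map (algebraMap C _)).map g0
    have hu2 : IsUnit (Ideal.Quotient.mk (maximalIdeal R ^ (N + 1)) (τ s.1)) := by
      rw [hτ']
      exact hu1.map _
    have := isLocalHom_of_le_jacobson_bot (maximalIdeal R ^ (N + 1))
      ((Ideal.pow_le_self (Nat.succ_ne_zero N)).trans (maximalIdeal_le_jacobson _))
    exact isUnit_of_map_unit (Ideal.Quotient.mk (maximalIdeal R ^ (N + 1))) _ hu2
  let g : C →ₐ[R] R := IsLocalization.liftAlgHom (M := M) (f := τ) hunit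
  have hg : ∀ x : C₀, g (algebraMap C₀ C x) = τ x := fun x =>
    IsLocalization.lift_eq _ x
  -- g is local
  have hgsurj : Function.Surjective g := fun r => ⟨algebraMap R C r, g.commutes r⟩
  have : IsLocalHom g.toRingHom := IsLocalHom.of_surjective g.toRingHom hgsurj
  have hgmax : (maximalIdeal C).map g.toRingHom ≤ maximalIdeal R :=
    ((IsLocalRing.local_hom_TFAE g.toRingHom).out 0 2).mp (inferInstance : IsLocalHom g.toRingHom)
  let gh : AdicCompletion (maximalIdeal C) C →+* AdicCompletion (maximalIdeal R) R :=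
    FSch.complMap (maximalIdeal C) (maximalIdeal R) g.toRingHom hgmax
  have hgh : ∀ c : C, gh (algebraMap C _ c) = algebraMap R _ (g c) := fun c =>
    Groth.Agent.Lib.Helper12.FComplA.complMap_algebraMap _ _ _ hgmax c
  have hker : ∀ (k : ℕ) (y : AdicCompletion (maximalIdeal R) R),
      y ∈ (maximalIdeal R ^ k).map (algebraMap R (AdicCompletion (maximalIdeal R) R)) →
      AdicCompletion.evalₐ (maximalIdeal R) k y = 0 := by
    intro k y hy
    have hle : (maximalIdeal R ^ k).map (algebraMap R (AdicCompletion (maximalIdeal R) R)) ≤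
        RingHom.ker (AdicCompletion.evalₐ (maximalIdeal R) k).toRingHom := by
      rw [Ideal.map_le_iff_le_comap]
      intro a ha
      rw [Ideal.mem_comap, RingHom.mem_ker]
      show AdicCompletion.evalₐ (maximalIdeal R) k (algebraMap R _ a) = 0
      rw [AdicCompletion.algebraMap_apply, Algebra.algebraMap_self, RingHom.id_apply,
        AdicCompletion.evalₐ_of, Ideal.Quotient.eq_zero_iff_mem]
      exact ha
    exact hle hy
  -- congruence
  have hcong : (AdicCompletion.evalₐ (maximalIdeal R) (N + 1)).toRingHom.comp gh =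
      (AdicCompletion.evalₐ (maximalIdeal R) (N + 1)).toRingHom.comp g0 := by
    apply Groth.Agent.Lib.Helper5.ComplBase.ringHom_ext (maximalIdeal C) fgC _ _ (N + 1)
    · intro a ha
      show AdicCompletion.evalₐ (maximalIdeal R) (N + 1) (gh (algebraMap C _ a)) = 0
      rw [hgh, AdicCompletion.algebraMap_apply, Algebra.algebraMap_self, RingHom.id_apply,
        AdicCompletion.evalₐ_of, Ideal.Quotient.eq_zero_iff_mem]
      exact Ideal.pow_right_mono (Ideal.map_le_iff_le_comap.mp hgmax) (N + 1)
        |>.trans (Ideal.le_comap_pow _ _) ha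
    · intro a ha
      show AdicCompletion.evalₐ (maximalIdeal R) (N + 1) (g0 (algebraMap C _ a)) = 0
      have h1 : algebraMap C (AdicCompletion (maximalIdeal C) C) a ∈
          maximalIdeal (AdicCompletion (maximalIdeal C) C) ^ (N + 1) := by
        rw [AdicCompletion.maximalIdeal_eq_map, ← Ideal.map_pow]
        exact Ideal.mem_map_of_mem _ ha
      have h2 : g0 (algebraMap C (AdicCompletion (maximalIdeal C) C) a) ∈
          maximalIdeal (AdicCompletion (maximalIdeal R) R) ^ (N + 1) := by
        have hle : (maximalIdeal (AdicCompletion (maximalIdeal C) C)).map g0 ≤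
            maximalIdeal (AdicCompletion (maximalIdeal R) R) :=
          ((IsLocalRing.local_hom_TFAE g0).out 0 2).mp hP4
        have := Ideal.mem_map_of_mem g0 h1
        rw [Ideal.map_pow] at this
        exact Ideal.pow_right_mono hle _ this
      rw [AdicCompletion.maximalIdeal_eq_map, ← Ideal.map_pow] at h2
      exact hker _ _ h2
    · intro c
      show AdicCompletion.evalₐ (maximalIdeal R) (N + 1) (gh (algebraMap C _ c)) =
        AdicCompletion.evalₐ (maximalIdeal R) (N + 1) (g0 (algebraMap C _ c))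
      have hαβ : ((AdicCompletion.evalₐ (maximalIdeal R) (N + 1)).toRingHom.comp
            (gh.comp (algebraMap C (AdicCompletion (maximalIdeal C) C)))) =
          ((AdicCompletion.evalₐ (maximalIdeal R) (N + 1)).toRingHom.comp
            (g0.comp (algebraMap C (AdicCompletion (maximalIdeal C) C)))) := by
        apply IsLocalization.ringHom_ext M
        ext x
        show AdicCompletion.evalₐ (maximalIdeal R) (N + 1) (gh (algebraMap C _ (algebraMap C₀ C x))) =
          AdicCompletion.evalₐ (maximalIdeal R) (N + 1) (g0 (algebraMap C _ (algebraMap C₀ C x)))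
        rw [hgh, hg, ← hφ, ← hτ', AdicCompletion.algebraMap_apply, Algebra.algebraMap_self,
          RingHom.id_apply, AdicCompletion.evalₐ_of]
      exact RingHom.congr_fun hαβ c
  have hcong' : ∀ x, gh x - g0 x ∈ maximalIdeal (AdicCompletion (maximalIdeal R) R) ^ N := by
    intro x
    have h1 : AdicCompletion.evalₐ (maximalIdeal R) (N + 1) (gh x - g0 x) = 0 := by
      rw [map_sub, sub_eq_zero]
      exact RingHom.congr_fun hcong x
    have h2 := Groth.Agent.S9318.ker_evalₐ_le (maximalIdeal R) fgR (N + 1) _ h1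
    rw [← AdicCompletion.maximalIdeal_eq_map] at h2
    exact Ideal.pow_le_pow_right (Nat.le_succ N) h2
  -- product
  have hprod : gh (ψ.symm (Ideal.Quotient.mk _ (X 0))) * gh (ψ.symm (Ideal.Quotient.mk _ (X 1))) =
      algebraMap R _ Δ := by
    rw [← map_mul, ← map_mul, ← map_mul]
    have h1 : (Ideal.Quotient.mk (Ideal.span {(X 0 * X 1 - MvPowerSeries.C (algebraMap R (AdicCompletion (maximalIdeal R) R) Δ) :
          MvPowerSeries (Fin 2) (AdicCompletion (maximalIdeal R) R))})) (X 0 * X 1) =
        Ideal.Quotient.mk _ (MvPowerSeries.C (algebraMap R (AdicCompletion (maximalIdeal R) R) Δ)) := by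
      rw [Ideal.Quotient.mk_eq_mk_iff_sub_mem]
      exact Ideal.subset_span rfl
    have h2 : ψ (algebraMap C _ (algebraMap R C Δ)) =
        Ideal.Quotient.mk _ (MvPowerSeries.C (algebraMap R (AdicCompletion (maximalIdeal R) R) Δ)) :=
      RingHom.congr_fun hψ Δ
    rw [h1, ← h2, RingEquiv.symm_apply_apply, hgh, g.commutes]
    rfl
  have h0 := hN _ _ hprod (by rw [← hP2 0]; exact hcong' _) (by rw [← hP2 1]; exact hcong' _)
  exact ⟨g, gh, RingHom.ext (fun c => hgh c), h0.1, h0.2⟩

end Groth.Agent.Lib.Helper5.ArtinApxR
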