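import Mathlib
import Groth.Agent.Lib.Helper5.ArtinApxR
import Groth.Agent.Lib.helper11.RegularUFD
import Groth.Agent.Lib.helper19.RegularLocal
import Groth.Agent.S0548

set_option autoImplicit false
universe u

namespace Groth.Agent.Lib.Helper5.ArtinApxR

open IsLocalRing MvPowerSeries
open Groth.Agent.Lib.Helper5.ArtinApxC

variable (hPop : Popescu.{u})

include hPop in
theorem s13208
    (R : Type u) [CommRing R] [IsRegularLocalRing R] [HenselianLocalRing R]
    (hG : CAlg.IsGRing R)
    (Δ t₁ t₂ : R) (hΔ : Δ ≠ 0) (ht₁ : t₁ ∈ maximalIdeal R) (ht₂ : t₂ ∈ maximalIdeal R) (ht : t₁ * t₂ = Δ)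
    (C : Type u) [CommRing C] [IsLocalRing C] [Algebra R C] [IsLocalHom (algebraMap R C)]
    [Algebra.EssFiniteType R C]
    (ψ : AdicCompletion (maximalIdeal C) C ≃+*
      (MvPowerSeries (Fin 2) (AdicCompletion (maximalIdeal R) R) ⧸
        Ideal.span {(X 0 * X 1 - MvPowerSeries.C (algebraMap R (AdicCompletion (maximalIdeal R) R) Δ) :
          MvPowerSeries (Fin 2) (AdicCompletion (maximalIdeal R) R))}))
    (hψ : ψ.toRingHom.comp ((algebraMap C (AdicCompletion (maximalIdeal C) C)).comp (algebraMap R C)) =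
      (Ideal.Quotient.mk _).comp ((MvPowerSeries.C : AdicCompletion (maximalIdeal R) R →+*
        MvPowerSeries (Fin 2) (AdicCompletion (maximalIdeal R) R)).comp
          (algebraMap R (AdicCompletion (maximalIdeal R) R)))) :
    ∃ (g : C →ₐ[R] R) (ĝ : AdicCompletion (maximalIdeal C) C →+* AdicCompletion (maximalIdeal R) R),
      ĝ.comp (algebraMap C (AdicCompletion (maximalIdeal C) C)) =
        (algebraMap R (AdicCompletion (maximalIdeal R) R)).comp g.toRingHom ∧
      Ideal.span {ĝ (ψ.symm (Ideal.Quotient.mk _ (X 0)))} =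
        Ideal.span {algebraMap R (AdicCompletion (maximalIdeal R) R) t₁} ∧
      Ideal.span {ĝ (ψ.symm (Ideal.Quotient.mk _ (X 1)))} =
        Ideal.span {algebraMap R (AdicCompletion (maximalIdeal R) R) t₂} := by
  have : IsDomain R := Groth.Agent.Lib.helper19.isDomain_of_isRegularLocalRing R
  have : UniqueFactorizationMonoid R := Groth.Agent.Lib.helper11.RegularUFD.ufd R
  have : IsRegularLocalRing (AdicCompletion (maximalIdeal R) R) :=
    (Groth.Agent.S0548.result R).mp inferInstance
  have : IsDomain (AdicCompletion (maximalIdeal R) R) :=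
    Groth.Agent.Lib.helper19.isDomain_of_isRegularLocalRing _
  have : UniqueFactorizationMonoid (AdicCompletion (maximalIdeal R) R) :=
    Groth.Agent.Lib.helper11.RegularUFD.ufd _
  exact s19894 hPop R hG Δ t₁ t₂ hΔ ht₁ ht₂ ht C ψ hψ

end Groth.Agent.Lib.Helper5.ArtinApxR
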