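import Groth.Prelude.Def_W4c2arithlefschetzGraph
import Mathlib.Tactic.Ring
import Mathlib.Tactic.Linarith
import Mathlib.Data.Matrix.Basic
import Mathlib.LinearAlgebra.Matrix.NonsingularInverse
import Mathlib.LinearAlgebra.Matrix.PosDef
import Mathlib.Data.Rat.Star

set_option autoImplicit false

namespace Groth.Agent.Lib.Helper5.Blowup

open ArLef ArLef.BlowupGraph

variable {n : ℕ} (G : BlowupGraph n)

lemma tt_eq (k j : Fin n) :
    G.tt k j = if j < k then 0 else if j = k then 1 else ∑ p ∈ G.par j, G.tt k p := by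
  unfold BlowupGraph.tt
  rw [BlowupGraph.ttN]
  have h1 : (j.1 < k.1) ↔ j < k := Iff.rfl
  have h2 : (j.1 = k.1) ↔ j = k := Fin.ext_iff.symm
  simp only [h1, h2]
  congr 2
  rw [Finset.sum_attach (G.parN j.1) (fun p => G.ttN k.1 p)]
  have : G.parN j.1 = (G.par j).map Fin.valEmbedding := by
    unfold BlowupGraph.parN
    rw [dif_pos j.2]
  rw [this, Finset.sum_map]
  rfl

/-- `A m k = δ_{mk} - [m ∈ par k]` -/
def Amat : Matrix (Fin n) (Fin n) ℤ :=
  fun m k => (if m = k then 1 else 0) - (if m ∈ G.par k then 1 else 0)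

/-- `T k m = tt k m` -/
def Tmat : Matrix (Fin n) (Fin n) ℤ := fun k m => G.tt k m

lemma sum_tt_par_of_le (k j : Fin n) (hjk : j ≤ k) : ∑ p ∈ G.par j, G.tt k p = 0 := by
  apply Finset.sum_eq_zero
  intro p hp
  have hpj : p < j := G.par_lt j p hp
  rw [tt_eq, if_pos (lt_of_lt_of_le hpj hjk)]

lemma T_mul_A : Tmat G * Amat G = 1 := by
  ext k j
  rw [Matrix.mul_apply]
  have h : ∀ m, Tmat G k m * Amat G m j =
      (if m = j then G.tt k m else 0) - (if m ∈ G.par j then G.tt k m else 0) := by
    intro m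
    simp only [Tmat, Amat]
    split_ifs <;> ring
  simp only [h, Finset.sum_sub_distrib, Finset.sum_ite_eq', Finset.mem_univ, if_true]
  rw [← Finset.sum_filter, Finset.filter_mem_eq_inter, Finset.univ_inter]
  rw [Matrix.one_apply]
  rcases lt_trichotomy j k with hjk | hjk | hjk
  · rw [sum_tt_par_of_le G k j hjk.le, tt_eq, if_pos hjk, if_neg (ne_of_gt hjk)]
    simp
  · subst hjk
    rw [sum_tt_par_of_le G j j le_rfl, tt_eq, if_neg (lt_irrefl _), if_pos rfl]
    simp
  · rw [tt_eq G k j, if_neg (not_lt.2 hjk.le), if_neg (ne_of_gt hjk), if_neg (ne_of_lt hjk)]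
    simp

/-- number of centres lying on both `p` and `q` -/
def cnt (p q : Fin n) : ℕ := (Finset.univ.filter fun k => p ∈ G.par k ∧ q ∈ G.par k).card

lemma AAt_apply (p q : Fin n) :
    (Amat G * (Amat G).transpose) p q =
      (if p = q then 1 else 0) - (if q ∈ G.par p then 1 else 0) - (if p ∈ G.par q then 1 else 0)
        + (cnt G p q : ℤ) := by
  rw [Matrix.mul_apply]
  have h : ∀ k, Amat G p k * (Amat G).transpose k q =
      (if p = k then (if q = k then (1 : ℤ) else 0) else 0)
      - (if p = k then (if q ∈ G.par k then (1 : ℤ) else 0) else 0)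
      - (if q = k then (if p ∈ G.par k then (1 : ℤ) else 0) else 0)
      + (if (p ∈ G.par k ∧ q ∈ G.par k) then (1 : ℤ) else 0) := by
    intro k
    simp only [Amat, Matrix.transpose_apply, ite_and]
    split_ifs <;> ring
  simp only [h, Finset.sum_add_distrib, Finset.sum_sub_distrib, Finset.sum_ite_eq, Finset.mem_univ,
    if_true]
  rw [Finset.sum_boole]
  simp only [cnt]
  have e : (if q = p then (1 : ℤ) else 0) = if p = q then 1 else 0 := by
    simp only [eq_comm]
  rw [e]

lemma both_mem_iff {p q k : Fin n} (hpq : p ≠ q) :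
    (p ∈ G.par k ∧ q ∈ G.par k) ↔ G.par k = {p, q} := by
  constructor
  · rintro ⟨hp, hq⟩
    symm
    apply Finset.eq_of_subset_of_card_le
    · intro x hx
      simp only [Finset.mem_insert, Finset.mem_singleton] at hx
      rcases hx with rfl | rfl <;> assumption
    · rw [Finset.card_pair hpq]
      exact G.card_le_two k
  · intro h
    rw [h]
    simp

lemma cnt_comm (p q : Fin n) : cnt G p q = cnt G q p := by
  simp only [cnt, and_comm]

lemma adj_comm (p q : Fin n) : G.Adj p q ↔ G.Adj q p := by
  unfold BlowupGraph.Adj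
  exact or_comm

lemma key_lt {p q : Fin n} (hpq : p < q) :
    ((if q ∈ G.par p then 1 else 0) + (if p ∈ G.par q then 1 else 0) - (cnt G p q : ℤ)) =
      if G.Adj p q then 1 else 0 := by
  have hq : q ∉ G.par p := fun h => absurd (G.par_lt p q h) (not_lt.2 hpq.le)
  rw [if_neg hq]
  by_cases hp : p ∈ G.par q
  · rw [if_pos hp]
    by_cases hadj : G.Adj p q
    · rw [if_pos hadj]
      have hc : cnt G p q = 0 := by
        rw [cnt, Finset.card_eq_zero, Finset.filter_eq_empty_iff]
        intro k _ hk
        rw [both_mem_iff G hpq.ne] at hk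
        rcases hadj with ⟨_, h⟩ | ⟨h, _⟩
        · have hqk : q < k := G.par_lt k q (by rw [hk]; simp)
          exact h k hqk hk
        · exact hq h
      rw [hc]
      simp
    · rw [if_neg hadj]
      have : ∃ m, q < m ∧ G.par m = {p, q} := by
        by_contra hcon
        push Not at hcon
        exact hadj (Or.inl ⟨hp, hcon⟩)
      obtain ⟨m, hqm, hm⟩ := this
      have hc : cnt G p q = 1 := by
        rw [cnt, Finset.card_eq_one]
        refine ⟨m, ?_⟩
        ext k
        simp only [Finset.mem_filter, Finset.mem_univ, true_and, Finset.mem_singleton]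
        rw [both_mem_iff G hpq.ne]
        constructor
        · intro hk
          have hqk : q < k := G.par_lt k q (by rw [hk]; simp)
          rcases lt_trichotomy k m with h | h | h
          · exact absurd hk
              ((G.meet_of_two m p q (by rw [hm]; simp) (by rw [hm]; simp) hpq).2 k hqk h)
          · exact h
          · exact absurd hm
              ((G.meet_of_two k p q (by rw [hk]; simp) (by rw [hk]; simp) hpq).2 m hqm h)
        · rintro rfl
          exact hm
      rw [hc]
      simp
  · rw [if_neg hp]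
    have hadj : ¬ G.Adj p q := by
      rintro (⟨h, _⟩ | ⟨h, _⟩)
      · exact hp h
      · exact hq h
    rw [if_neg hadj]
    have hc : cnt G p q = 0 := by
      rw [cnt, Finset.card_eq_zero, Finset.filter_eq_empty_iff]
      intro k _ hk
      exact hp (G.meet_of_two k p q hk.1 hk.2 hpq).1
    rw [hc]
    simp

lemma key_ne {p q : Fin n} (hpq : p ≠ q) :
    ((if q ∈ G.par p then 1 else 0) + (if p ∈ G.par q then 1 else 0) - (cnt G p q : ℤ)) =
      if G.Adj p q then 1 else 0 := by
  rcases lt_or_gt_of_ne hpq with h | h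
  · exact key_lt G h
  · have := key_lt G h
    rw [cnt_comm G q p] at this
    simp only [adj_comm G q p] at this
    rw [← this]
    ring

lemma mat_eq (p q : Fin n) :
    G.mat p q = -(((Amat G * (Amat G).transpose) p q : ℤ) : ℚ) := by
  rw [AAt_apply]
  unfold BlowupGraph.mat
  by_cases hpq : p = q
  · subst hpq
    have hp : p ∉ G.par p := fun h => lt_irrefl _ (G.par_lt p p h)
    rw [if_pos rfl, if_pos rfl, if_neg hp]
    simp only [BlowupGraph.selfInt, cnt, and_self]
    push_cast
    ring
  · rw [if_neg hpq, if_neg hpq]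
    have key := key_ne G hpq
    have e : (if G.Adj p q then (1 : ℚ) else 0) = (((if G.Adj p q then 1 else 0 : ℤ)) : ℚ) := by
      split_ifs <;> simp
    rw [e, ← key]
    push_cast
    ring

/-- `A` over `ℚ` -/
def AQ : Matrix (Fin n) (Fin n) ℚ := (Amat G).map (Int.castRingHom ℚ)

/-- `T` over `ℚ` -/
def TQ : Matrix (Fin n) (Fin n) ℚ := (Tmat G).map (Int.castRingHom ℚ)

/-- `mult` over `ℚ` -/
def EQ : Matrix (Fin n) (Fin n) ℚ := fun i j => (G.mult i j : ℚ)

lemma TQ_mul_AQ : TQ G * AQ G = 1 := by
  unfold TQ AQ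
  rw [← Matrix.map_mul, T_mul_A]
  simp

lemma AQ_mul_TQ : AQ G * TQ G = 1 := mul_eq_one_comm.1 (TQ_mul_AQ G)

lemma mat_eq_neg : G.mat = -(AQ G * (AQ G).transpose) := by
  ext p q
  rw [mat_eq, Matrix.neg_apply]
  congr 1
  unfold AQ
  rw [← Matrix.transpose_map, ← Matrix.map_mul]
  rfl

lemma EQ_eq : EQ G = (TQ G).transpose * TQ G := by
  ext i j
  simp only [EQ, BlowupGraph.mult, Matrix.mul_apply, Matrix.transpose_apply, TQ, Tmat,
    Matrix.map_apply, Int.coe_castRingHom]
  push_cast
  rfl

lemma EQ_symm (i j : Fin n) : EQ G i j = EQ G j i := by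
  simp only [EQ, BlowupGraph.mult]
  congr 1
  apply Finset.sum_congr rfl
  intro k _
  ring

lemma mat_mul_EQ : G.mat * EQ G = -1 := by
  rw [mat_eq_neg, EQ_eq, Matrix.neg_mul, Matrix.mul_assoc, ← Matrix.mul_assoc (AQ G).transpose,
    ← Matrix.transpose_mul, TQ_mul_AQ, Matrix.transpose_one, Matrix.one_mul, AQ_mul_TQ]

lemma posDef_neg_mat : (-G.mat).PosDef := by
  rw [mat_eq_neg, neg_neg]
  have h := Matrix.PosDef.mul_conjTranspose_self (AQ G) (by
    intro v w hvw
    have := congrArg (fun u => Matrix.vecMul u (TQ G)) hvw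
    simpa [Matrix.vecMul_vecMul, AQ_mul_TQ] using this)
  rwa [Matrix.conjTranspose_eq_transpose_of_trivial] at h

lemma isUnit_sub (I : Finset (Fin n)) :
    IsUnit (G.mat.submatrix (fun x : I => x.1) (fun x : I => x.1)) := by
  have h := (posDef_neg_mat G).submatrix (e := fun x : I => x.1) Subtype.val_injective
  have h2 := h.isUnit
  have e : (-G.mat).submatrix (fun x : I => x.1) (fun x : I => x.1) =
      -(G.mat.submatrix (fun x : I => x.1) (fun x : I => x.1)) := rfl
  rw [e] at h2
  have h3 := h2.neg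
  rwa [neg_neg] at h3

variable (I : Finset (Fin n))

/-- the principal submatrix on `I` -/
abbrev MI : Matrix I I ℚ := G.mat.submatrix (fun x : I => x.1) (fun x : I => x.1)

lemma MI_inv_mul : (MI G I)⁻¹ * MI G I = 1 :=
  Matrix.nonsing_inv_mul _ ((Matrix.isUnit_iff_isUnit_det _).1 (isUnit_sub G I))

lemma sum_split (f : Fin n → ℚ) :
    ∑ j, f j = ∑ j ∈ Finset.univ.filter (fun j => j ∉ I), f j + ∑ a : I, f a.1 := by
  rw [Finset.sum_coe_sort I f, ← Finset.sum_filter_not_add_sum_filter Finset.univ (· ∈ I) f]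
  congr 1
  rw [Finset.filter_mem_eq_inter, Finset.univ_inter]

lemma mat_mul_EQ_apply (y i : Fin n) :
    ∑ j, G.mat y j * EQ G j i = if y = i then -1 else 0 := by
  have := congrFun (congrFun (mat_mul_EQ G) y) i
  rw [Matrix.mul_apply] at this
  rw [this, Matrix.neg_apply, Matrix.one_apply]
  split_ifs <;> simp

lemma key_sum (x i : Fin n) (hi : i ∉ I) :
    ∑ j ∈ Finset.univ.filter (fun j => j ∉ I), G.pairing I x j * EQ G j i =
      if x = i then -1 else 0 := by
  have hα : ∀ b : I, ∑ j ∈ Finset.univ.filter (fun j => j ∉ I), G.mat b.1 j * EQ G j i =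
      -∑ c : I, G.mat b.1 c.1 * EQ G c.1 i := by
    intro b
    have h1 := mat_mul_EQ_apply G b.1 i
    have hbi : (b.1 : Fin n) ≠ i := fun h => hi (h ▸ b.2)
    rw [sum_split I, if_neg hbi] at h1
    linarith
  set r : I → ℚ := fun a => G.mat x a.1 with hr
  set e : I → ℚ := fun c => EQ G c.1 i with he
  have hvec : ∀ w : I → ℚ, ∑ a : I, ∑ b : I, r a * (MI G I)⁻¹ a b * w b =
      (Matrix.vecMul r (MI G I)⁻¹) ⬝ᵥ w := by
    intro w
    simp only [dotProduct, Matrix.vecMul, Finset.sum_mul]
    rw [Finset.sum_comm]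
  have h2 : ∑ j ∈ Finset.univ.filter (fun j => j ∉ I),
      (∑ a : I, ∑ b : I, G.mat x a.1 * (MI G I)⁻¹ a b * G.mat b.1 j) * EQ G j i =
      -∑ a : I, G.mat x a.1 * EQ G a.1 i := by
    calc _ = ∑ a : I, ∑ b : I, r a * (MI G I)⁻¹ a b *
              ∑ j ∈ Finset.univ.filter (fun j => j ∉ I), G.mat b.1 j * EQ G j i := by
            simp only [Finset.sum_mul, Finset.mul_sum]
            rw [Finset.sum_comm]
            apply Finset.sum_congr rfl
            intro a _
            rw [Finset.sum_comm]
            apply Finset.sum_congr rfl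
            intro b _
            apply Finset.sum_congr rfl
            intro j _
            ring
      _ = ∑ a : I, ∑ b : I, r a * (MI G I)⁻¹ a b * (-(Matrix.mulVec (MI G I) e) b) := by
            apply Finset.sum_congr rfl
            intro a _
            apply Finset.sum_congr rfl
            intro b _
            rw [hα b]
            rfl
      _ = (Matrix.vecMul r (MI G I)⁻¹) ⬝ᵥ (-(Matrix.mulVec (MI G I) e)) := hvec _
      _ = -(r ⬝ᵥ e) := by
            rw [dotProduct_neg, Matrix.dotProduct_mulVec, Matrix.vecMul_vecMul, MI_inv_mul,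
              Matrix.vecMul_one]
      _ = _ := rfl
  unfold BlowupGraph.pairing
  simp only [sub_mul, Finset.sum_sub_distrib]
  rw [h2, sub_neg_eq_add, ← sum_split I (fun j => G.mat x j * EQ G j i)]
  exact mat_mul_EQ_apply G x i

end Groth.Agent.Lib.Helper5.Blowup
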