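import Mathlib
import Groth.Prelude.Def_RegImm
import Groth.Agent.Lib.Helper5.KosRegA
import Groth.Agent.Lib.Helper5.KosDescB
import Groth.Agent.Lib.Helper5.LciF
import Groth.Agent.Lib.Helper5.RegImmB

set_option autoImplicit false
universe u

namespace Groth.Agent.Lib.Helper5.CIBC

open RingTheory.Sequence IsLocalRing

/-- in a Noetherian local ring, an ideal in the maximal ideal is generated by a regular
sequence iff it is a Koszul-regular ideal. -/
theorem exists_regular_iff_kr {A : Type u} [CommRing A] [IsLocalRing A] [IsNoetherianRing A]
    (J : Ideal A) (hJ : J ≤ maximalIdeal A) :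
    (∃ rs : List A, IsRegular A rs ∧ Ideal.ofList rs = J) ↔ LCI.IsKoszulRegularIdeal J := by
  constructor
  · rintro ⟨rs, hrs, rfl⟩
    exact Groth.Agent.Lib.Helper5.Lci.isKoszulRegularIdeal_ofList rs
      (Groth.Agent.Lib.Helper5.RegImmB.isKoszulRegularSeq_of_isWeaklyRegular rs hrs.toIsWeaklyRegular)
  · intro h
    obtain ⟨g, hg, a, haJ, hKR, hsp⟩ :=
      Groth.Agent.Lib.Helper5.Lci.exists_global_gens J h (maximalIdeal A) hJ
    have hgu : IsUnit g := by
      by_contra hnu
      exact hg ((IsLocalRing.mem_maximalIdeal g).2 hnu)
    have hle : Submonoid.powers g ≤ IsUnit.submonoid A := by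
      rintro _ ⟨k, rfl⟩
      exact hgu.pow k
    let e : A ≃ₐ[A] Localization.Away g := IsLocalization.atUnits A (Submonoid.powers g) hle
    have he : ∀ x, e x = algebraMap A (Localization.Away g) x := fun x => e.commutes x
    have hmap : a.map (algebraMap A (Localization.Away g)) = a.map e.toRingEquiv := by
      apply List.map_congr_left
      intro x _
      exact (he x).symm
    have hKR' : LCI.IsKoszulRegularSeq A a := by
      have h1 := Groth.Agent.Lib.Helper5.KosDesc.isKoszulRegularSeq_ringEquiv e.toRingEquiv.symm _ hKR
      rw [hmap, List.map_map] at h1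
      have h2 : (⇑e.toRingEquiv.symm ∘ ⇑e.toRingEquiv) = id := by
        funext x
        simp
      rw [h2, List.map_id] at h1
      exact h1
    have hJa : J = Ideal.ofList a := by
      have h1 : J.map (algebraMap A (Localization.Away g)) =
          (Ideal.ofList a).map (algebraMap A (Localization.Away g)) := by
        rw [hsp, Ideal.map_ofList]
      have hbij : Function.Bijective (algebraMap A (Localization.Away g)) := by
        have : (algebraMap A (Localization.Away g) : A → _) = e := by
          funext x; exact (he x).symm
        rw [this]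
        exact e.bijective
      have h2 := congrArg (Ideal.comap (algebraMap A (Localization.Away g))) h1
      rwa [Ideal.comap_map_of_bijective _ hbij, Ideal.comap_map_of_bijective _ hbij] at h2
    refine ⟨a, ?_, hJa.symm⟩
    exact Groth.Agent.Lib.Helper5.KosReg.isRegular_of_koszulRegular a
      (fun x hx => hJ (haJ x hx)) hKR'

end Groth.Agent.Lib.Helper5.CIBC
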