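import Mathlib
import Groth.Prelude.Def_RegImm
import Groth.Agent.Lib.Helper5.KosDescB
import Groth.Agent.Lib.Helper5.LciF

set_option autoImplicit false
universe u

namespace Groth.Agent.Lib.Helper5.CIBC

open IsLocalRing

/-- Koszul-regularity of an extended ideal in a localization is insensitive to a flat
extension followed by localization at a prime above. -/
theorem kr_iff_of_flat_localRingHom {P P' : Type u} [CommRing P] [CommRing P'] (μ : P →+* P')
    (hμ : μ.Flat) (Q : Ideal P') [Q.IsPrime] (q : Ideal P) [q.IsPrime] (h : q = Q.comap μ)
    (I : Ideal P) :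
    LCI.IsKoszulRegularIdeal ((I.map μ).map (algebraMap P' (Localization.AtPrime Q))) ↔
      LCI.IsKoszulRegularIdeal (I.map (algebraMap P (Localization.AtPrime q))) := by
  have hφ : (Localization.localRingHom q Q μ h).Flat := hμ.localRingHom Q q h
  have heq : (I.map (algebraMap P (Localization.AtPrime q))).map
      (Localization.localRingHom q Q μ h) =
      (I.map μ).map (algebraMap P' (Localization.AtPrime Q)) := by
    rw [Ideal.map_map, Ideal.map_map]
    congr 1
    ext x
    simp [Localization.localRingHom_to_map]
  constructor
  · intro hKR
    let alg : Algebra (Localization.AtPrime q) (Localization.AtPrime Q) :=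
      (Localization.localRingHom q Q μ h).toAlgebra
    have hfl : Module.Flat (Localization.AtPrime q) (Localization.AtPrime Q) := hφ
    have hloc : IsLocalHom (algebraMap (Localization.AtPrime q) (Localization.AtPrime Q)) :=
      Localization.isLocalHom_localRingHom q Q μ h
    have hff : Module.FaithfullyFlat (Localization.AtPrime q) (Localization.AtPrime Q) :=
      Module.FaithfullyFlat.of_flat_of_isLocalHom
    apply Groth.Agent.Lib.Helper5.KosDesc.isKoszulRegularIdeal_of_faithfullyFlat
      (B := Localization.AtPrime Q)
    change LCI.IsKoszulRegularIdeal (Ideal.map (Localization.localRingHom q Q μ h) _)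
    rw [heq]
    exact hKR
  · intro hKR
    rw [← heq]
    exact Groth.Agent.Lib.Helper5.Lci.isKoszulRegularIdeal_map_of_flat' _ hφ _ hKR

end Groth.Agent.Lib.Helper5.CIBC
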