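import Mathlib

/-!
# Helper5 — SyntPresA

Base change of a presentation `Ψ : A[X] ↠ B'` along `A → k`: the kernel of `k[X] → k ⊗ B'` is the
extension of `ker Ψ`; for `k = κ(p)`, elements of an extended ideal come from `I` up to a unit
of `κ(p)` coming from `A ∖ p`.
-/

set_option autoImplicit false
universe u

namespace Groth.Agent.Lib.Helper5.SyntPres

open TensorProduct MvPolynomial

section fib

variable {A : Type u} [CommRing A] (k : Type u) [CommRing k] [Algebra A k] {σ : Type*}
  {B' : Type u} [CommRing B'] [Algebra A B']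

/-- the base change `k[X] → k ⊗ B'` of `Ψ : A[X] → B'`. -/
noncomputable def fibHom (Ψ : MvPolynomial σ A →ₐ[A] B') : MvPolynomial σ k →ₐ[k] k ⊗[A] B' :=
  MvPolynomial.aeval (fun i => (1 : k) ⊗ₜ[A] Ψ (MvPolynomial.X i))

theorem fibHom_map (Ψ : MvPolynomial σ A →ₐ[A] B') (a : MvPolynomial σ A) :
    fibHom k Ψ (MvPolynomial.map (algebraMap A k) a) = (1 : k) ⊗ₜ[A] Ψ a := by
  rw [fibHom, MvPolynomial.aeval_map_algebraMap, MvPolynomial.aeval_one_tmul]
  congr 1
  exact (DFunLike.congr_fun (MvPolynomial.aeval_unique Ψ) a).symm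

theorem fibHom_algebraTensorAlgEquiv (Ψ : MvPolynomial σ A →ₐ[A] B')
    (z : k ⊗[A] MvPolynomial σ A) :
    fibHom k Ψ (MvPolynomial.algebraTensorAlgEquiv A k z) =
      Algebra.TensorProduct.map (AlgHom.id A k) Ψ z := by
  induction z using TensorProduct.induction_on with
  | zero => simp
  | tmul c a =>
    rw [MvPolynomial.algebraTensorAlgEquiv_tmul, map_smul, fibHom_map,
      Algebra.TensorProduct.map_tmul, AlgHom.id_apply, TensorProduct.smul_tmul', smul_eq_mul,
      mul_one]
  | add x y hx hy => rw [map_add, map_add, hx, hy, map_add]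

theorem ker_fibHom (Ψ : MvPolynomial σ A →ₐ[A] B') (hΨ : Function.Surjective Ψ) :
    RingHom.ker (fibHom k Ψ) = (RingHom.ker Ψ).map (MvPolynomial.map (algebraMap A k)) := by
  have h1 := Algebra.TensorProduct.lTensor_ker (A := k) Ψ hΨ
  apply le_antisymm
  · intro x hx
    obtain ⟨z, rfl⟩ := (MvPolynomial.algebraTensorAlgEquiv A k (σ := σ)).surjective x
    rw [RingHom.mem_ker] at hx
    have hz : z ∈ RingHom.ker (Algebra.TensorProduct.map (AlgHom.id A k) Ψ) := by
      rw [RingHom.mem_ker, ← fibHom_algebraTensorAlgEquiv]; exact hx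
    rw [h1, Ideal.map] at hz
    refine Submodule.span_induction (p := fun z _ => MvPolynomial.algebraTensorAlgEquiv A k z ∈
      (RingHom.ker Ψ).map (MvPolynomial.map (algebraMap A k))) ?_ ?_ ?_ ?_ hz
    · rintro _ ⟨a, ha, rfl⟩
      have : MvPolynomial.algebraTensorAlgEquiv A k
          ((Algebra.TensorProduct.includeRight : MvPolynomial σ A →ₐ[A] k ⊗[A] MvPolynomial σ A) a) =
          MvPolynomial.map (algebraMap A k) a := by
        rw [Algebra.TensorProduct.includeRight_apply, MvPolynomial.algebraTensorAlgEquiv_tmul,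
          one_smul]
      rw [this]
      exact Ideal.mem_map_of_mem _ ha
    · rw [map_zero]; exact zero_mem _
    · intro x y _ _ hx hy
      rw [map_add]; exact add_mem hx hy
    · intro w x _ hx
      rw [smul_eq_mul, map_mul]
      exact Ideal.mul_mem_left _ _ hx
  · rw [Ideal.map, Ideal.span_le]
    rintro _ ⟨a, ha, rfl⟩
    rw [SetLike.mem_coe, RingHom.mem_ker, fibHom_map, (RingHom.mem_ker).1 ha, tmul_zero]

end fib

section denom

variable {A : Type u} [CommRing A] (p : Ideal A) [p.IsPrime] {σ : Type*}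

theorem exists_mul_eq_algebraMap (c : p.ResidueField) :
    ∃ s ∉ p, ∃ a : A, algebraMap A p.ResidueField a = algebraMap A p.ResidueField s * c := by
  obtain ⟨t, rfl⟩ := IsLocalRing.residue_surjective c
  obtain ⟨⟨a, s⟩, rfl⟩ := IsLocalization.mk'_surjective p.primeCompl t
  refine ⟨s.1, s.2, a, ?_⟩
  rw [IsScalarTower.algebraMap_apply A (Localization.AtPrime p) p.ResidueField,
    IsScalarTower.algebraMap_apply A (Localization.AtPrime p) p.ResidueField,
    IsLocalRing.ResidueField.algebraMap_eq, ← map_mul, IsLocalization.mk'_spec']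

theorem exists_map_eq_C_mul (t : MvPolynomial σ p.ResidueField) :
    ∃ s ∉ p, ∃ t' : MvPolynomial σ A, MvPolynomial.map (algebraMap A p.ResidueField) t' =
      MvPolynomial.C (algebraMap A p.ResidueField s) * t := by
  induction t using MvPolynomial.induction_on with
  | C c =>
    obtain ⟨s, hs, a, ha⟩ := exists_mul_eq_algebraMap p c
    exact ⟨s, hs, MvPolynomial.C a, by rw [MvPolynomial.map_C, ha, map_mul]⟩
  | add t₁ t₂ h₁ h₂ =>
    obtain ⟨s₁, hs₁, t₁', e₁⟩ := h₁
    obtain ⟨s₂, hs₂, t₂', e₂⟩ := h₂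
    refine ⟨s₁ * s₂, fun h => (Ideal.IsPrime.mem_or_mem ‹_› h).elim hs₁ hs₂,
      MvPolynomial.C s₂ * t₁' + MvPolynomial.C s₁ * t₂', ?_⟩
    rw [map_add, map_mul, map_mul, e₁, e₂, MvPolynomial.map_C, MvPolynomial.map_C, map_mul,
      map_mul]
    ring
  | mul_X t i h =>
    obtain ⟨s, hs, t', e⟩ := h
    exact ⟨s, hs, t' * MvPolynomial.X i, by rw [map_mul, e, MvPolynomial.map_X, mul_assoc]⟩

theorem exists_mem_map_eq_C_mul (I : Ideal (MvPolynomial σ A))
    (w : MvPolynomial σ p.ResidueField)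
    (hw : w ∈ I.map (MvPolynomial.map (algebraMap A p.ResidueField))) :
    ∃ s ∉ p, ∃ f ∈ I, MvPolynomial.map (algebraMap A p.ResidueField) f =
      MvPolynomial.C (algebraMap A p.ResidueField s) * w := by
  rw [Ideal.map] at hw
  refine Submodule.span_induction (p := fun w _ => ∃ s ∉ p, ∃ f ∈ I,
    MvPolynomial.map (algebraMap A p.ResidueField) f =
      MvPolynomial.C (algebraMap A p.ResidueField s) * w) ?_ ?_ ?_ ?_ hw
  · rintro _ ⟨a, ha, rfl⟩
    exact ⟨1, fun h => (Ideal.IsPrime.ne_top ‹_›) ((Ideal.eq_top_iff_one _).2 h), a, ha,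
      by rw [map_one, map_one, one_mul]⟩
  · exact ⟨1, fun h => (Ideal.IsPrime.ne_top ‹_›) ((Ideal.eq_top_iff_one _).2 h), 0, zero_mem _,
      by rw [map_zero, mul_zero]⟩
  · rintro x y _ _ ⟨s₁, hs₁, f₁, hf₁, e₁⟩ ⟨s₂, hs₂, f₂, hf₂, e₂⟩
    refine ⟨s₁ * s₂, fun h => (Ideal.IsPrime.mem_or_mem ‹_› h).elim hs₁ hs₂,
      MvPolynomial.C s₂ * f₁ + MvPolynomial.C s₁ * f₂,
      add_mem (Ideal.mul_mem_left _ _ hf₁) (Ideal.mul_mem_left _ _ hf₂), ?_⟩
    rw [map_add, map_mul, map_mul, e₁, e₂, MvPolynomial.map_C, MvPolynomial.map_C, map_mul,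
      map_mul]
    ring
  · rintro t x _ ⟨s, hs, f, hf, e⟩
    obtain ⟨s', hs', t', e'⟩ := exists_map_eq_C_mul p t
    refine ⟨s' * s, fun h => (Ideal.IsPrime.mem_or_mem ‹_› h).elim hs' hs, t' * f,
      Ideal.mul_mem_left _ _ hf, ?_⟩
    rw [map_mul, e, e', map_mul, map_mul, smul_eq_mul]
    ring

/-- generators of an extended ideal over `κ(p)` lift to `I`, up to units. -/
theorem exists_list_lift (I : Ideal (MvPolynomial σ A)) {C : ℕ}
    (r : Fin C → MvPolynomial σ p.ResidueField)
    (hr : I.map (MvPolynomial.map (algebraMap A p.ResidueField)) = Ideal.span (Set.range r)) :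
    ∃ fs : List (MvPolynomial σ A), fs.length = C ∧ Ideal.ofList fs ≤ I ∧
      I.map (MvPolynomial.map (algebraMap A p.ResidueField)) ≤
        Ideal.ofList (fs.map (MvPolynomial.map (algebraMap A p.ResidueField))) := by
  have h : ∀ i, ∃ s ∉ p, ∃ f ∈ I, MvPolynomial.map (algebraMap A p.ResidueField) f =
      MvPolynomial.C (algebraMap A p.ResidueField s) * r i := fun i =>
    exists_mem_map_eq_C_mul p I (r i) (by rw [hr]; exact Ideal.subset_span ⟨i, rfl⟩)
  choose s hs f hf e using h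
  refine ⟨List.ofFn f, List.length_ofFn, ?_, ?_⟩
  · rw [Ideal.ofList, Ideal.span_le]
    intro x hx
    obtain ⟨i, rfl⟩ := List.mem_ofFn.1 hx
    exact hf i
  · rw [hr, Ideal.span_le]
    rintro _ ⟨i, rfl⟩
    have hu : algebraMap A p.ResidueField (s i) ≠ 0 := by
      rw [Ne, Ideal.algebraMap_residueField_eq_zero]; exact hs i
    have h1 : MvPolynomial.map (algebraMap A p.ResidueField) (f i) ∈
        Ideal.ofList ((List.ofFn f).map (MvPolynomial.map (algebraMap A p.ResidueField))) := by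
      apply Ideal.subset_span
      exact List.mem_map.2 ⟨f i, List.mem_ofFn.2 ⟨i, rfl⟩, rfl⟩
    have h2 : r i = MvPolynomial.C (algebraMap A p.ResidueField (s i))⁻¹ *
        MvPolynomial.map (algebraMap A p.ResidueField) (f i) := by
      rw [e i, ← mul_assoc, ← map_mul, inv_mul_cancel₀ hu, map_one, one_mul]
    rw [SetLike.mem_coe, h2]
    exact Ideal.mul_mem_left _ _ h1

end denom

end Groth.Agent.Lib.Helper5.SyntPres
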