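import Mathlib
import Groth.Prelude.Def_RegImm
import Groth.Agent.Lib.Helper5.SyntPresA

/-!
# Helper5 — RelGCIP

Setup lemmas for the fibre presentation `κ(p)[x] → κ(p) ⊗ R[x]/I`.
-/

set_option autoImplicit false
universe u

namespace Groth.Agent.Lib.Helper5.RelGCI

open TensorProduct MvPolynomial Groth.Agent.Lib.Helper5.SyntPres

section Surj

variable {A : Type u} [CommRing A] (k : Type u) [CommRing k] [Algebra A k] {σ : Type*}
  {B' : Type u} [CommRing B'] [Algebra A B']

theorem fibHom_C (Ψ : MvPolynomial σ A →ₐ[A] B') (c : k) :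
    fibHom k Ψ (C c) = c ⊗ₜ[A] (1 : B') := by
  rw [fibHom, aeval_C, Algebra.TensorProduct.algebraMap_apply, Algebra.algebraMap_self,
    RingHom.id_apply]

theorem fibHom_surjective (Ψ : MvPolynomial σ A →ₐ[A] B') (hΨ : Function.Surjective Ψ) :
    Function.Surjective (fibHom k Ψ) := by
  intro z
  induction z using TensorProduct.induction_on with
  | zero => exact ⟨0, map_zero _⟩
  | tmul c b =>
    obtain ⟨a, rfl⟩ := hΨ b
    refine ⟨C c * MvPolynomial.map (algebraMap A k) a, ?_⟩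
    rw [map_mul, fibHom_C, fibHom_map, Algebra.TensorProduct.tmul_mul_tmul, mul_one, one_mul]
  | add x y hx hy =>
    obtain ⟨x', rfl⟩ := hx
    obtain ⟨y', rfl⟩ := hy
    exact ⟨x' + y', map_add _ _ _⟩

end Surj

section Primes

variable {R : Type u} [CommRing R] (p : Ideal R) [p.IsPrime] {σ : Type*}

/-- a prime of `κ(p)[x]` is determined by its contraction to `R[x]`. -/
theorem mem_iff_of_comap_eq (𝔮 : Ideal (MvPolynomial σ p.ResidueField)) [𝔮.IsPrime]
    (w : MvPolynomial σ p.ResidueField) :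
    w ∈ 𝔮 ↔ ∃ s ∉ p, ∃ w' : MvPolynomial σ R,
      MvPolynomial.map (algebraMap R p.ResidueField) w' =
        C (algebraMap R p.ResidueField s) * w ∧
      w' ∈ 𝔮.comap (MvPolynomial.map (algebraMap R p.ResidueField)) := by
  constructor
  · intro hw
    obtain ⟨s, hs, w', hw'⟩ := exists_map_eq_C_mul p w
    exact ⟨s, hs, w', hw', by rw [Ideal.mem_comap, hw']; exact 𝔮.mul_mem_left _ hw⟩
  · rintro ⟨s, hs, w', hw', hmem⟩
    rw [Ideal.mem_comap, hw'] at hmem
    have hu : IsUnit (C (algebraMap R p.ResidueField s) : MvPolynomial σ p.ResidueField) := by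
      apply IsUnit.map
      rw [isUnit_iff_ne_zero, Ne, Ideal.algebraMap_residueField_eq_zero]
      exact hs
    rcases (Ideal.IsPrime.mem_or_mem inferInstance hmem) with h | h
    · exact absurd (Ideal.eq_top_of_isUnit_mem _ h hu) (Ideal.IsPrime.ne_top inferInstance)
    · exact h

theorem eq_of_comap_eq (𝔮₁ 𝔮₂ : Ideal (MvPolynomial σ p.ResidueField)) [𝔮₁.IsPrime] [𝔮₂.IsPrime]
    (h : 𝔮₁.comap (MvPolynomial.map (algebraMap R p.ResidueField)) =
      𝔮₂.comap (MvPolynomial.map (algebraMap R p.ResidueField))) : 𝔮₁ = 𝔮₂ := by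
  ext w
  rw [mem_iff_of_comap_eq p 𝔮₁ w, mem_iff_of_comap_eq p 𝔮₂ w, h]

end Primes

end Groth.Agent.Lib.Helper5.RelGCI
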