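import Mathlib
import Groth.Agent.Lib.Helper5.CIFieldJ

/-!
# Helper5 — CIFieldK

Essentially of finite type local algebras over a field: regular local presentations and
realisation as a local ring of a finite type algebra.
-/

set_option autoImplicit false
universe u

namespace Groth.Agent.Lib.Helper5.CIField

open RingTheory.Sequence IsLocalRing MvPolynomial Groth.Agent.Lib.Helper25.GlobalCI

variable (k : Type u) [Field k] (S : Type u) [CommRing S] [IsLocalRing S] [Algebra k S]
  [Algebra.EssFiniteType k S]

theorem exists_polyLoc_presentation :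
    ∃ (n : ℕ) (Q : Ideal (MvPolynomial (Fin n) k)) (_ : Q.IsPrime)
      (π : Localization.AtPrime Q →ₐ[k] S), Function.Surjective π := by
  classical
  obtain ⟨σ, hσ⟩ := (Algebra.essFiniteType_iff k S).1 inferInstance
  let v : Fin σ.card → S := fun i => (σ.equivFin.symm i : S)
  have hσv : (σ : Set S) ⊆ Set.range v := by
    intro x hx
    exact ⟨σ.equivFin ⟨x, hx⟩, by simp [v]⟩
  refine ⟨σ.card, polyPrime (k := k) v, inferInstance, polyLocHom v _ rfl, ?_⟩
  apply polyLocHom_surjective
  intro r
  obtain ⟨t, ht, htu, hrt⟩ := hσ r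
  exact ⟨t, Algebra.adjoin_mono hσv ht, htu, Algebra.adjoin_mono hσv hrt⟩

theorem exists_finiteType_atPrime_equiv :
    ∃ (A : Type u) (_ : CommRing A) (_ : Algebra k A) (a : Ideal A) (_ : a.IsPrime),
      Algebra.FiniteType k A ∧ Nonempty (S ≃ₐ[k] Localization.AtPrime a) := by
  let A := Algebra.EssFiniteType.subalgebra k S
  let a : Ideal A := (maximalIdeal S).comap (algebraMap A S)
  have ha : a.IsPrime := Ideal.comap_isPrime _ _
  have hM : Algebra.EssFiniteType.submonoid k S = a.primeCompl := by
    ext x
    change IsUnit (algebraMap A S x) ↔ ¬ (algebraMap A S x ∈ maximalIdeal S)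
    rw [mem_maximalIdeal, mem_nonunits_iff, not_not]
  have hloc : IsLocalization.AtPrime S a := by
    unfold IsLocalization.AtPrime
    rw [← hM]
    infer_instance
  refine ⟨A, inferInstance, inferInstance, a, ha, inferInstance, ⟨?_⟩⟩
  exact (IsLocalization.algEquiv a.primeCompl S (Localization.AtPrime a)).restrictScalars k

variable {k S}

theorem IsCIOver.exists_globalCI_atPrime (h : Synt.IsCIOver k S) :
    ∃ (A : Type u) (_ : CommRing A) (_ : Algebra k A) (a : Ideal A) (_ : a.IsPrime),
      Algebra.FiniteType k A ∧ Synt.IsGlobalCI k A ∧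
        Nonempty (S ≃ₐ[k] Localization.AtPrime a) := by
  obtain ⟨A₀, i1, i2, q₀, i3, hft, ⟨e⟩⟩ := exists_finiteType_atPrime_equiv k S
  have h1 : Synt.IsCIOver k (Localization.AtPrime q₀) := IsCIOver.of_algEquiv e h
  obtain ⟨g, hg, hG⟩ := (isCIOver_atPrime_iff q₀).1 h1
  have hdisj : Disjoint (Submonoid.powers g : Set A₀) (q₀ : Set A₀) := by
    rw [Set.disjoint_left]
    rintro _ ⟨m, rfl⟩ hm
    exact hg (i3.mem_of_pow_mem m hm)
  have hp : (q₀.map (algebraMap A₀ (Localization.Away g))).IsPrime :=
    IsLocalization.isPrime_of_isPrime_disjoint (Submonoid.powers g) _ q₀ i3 hdisj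
  have hcomap : (q₀.map (algebraMap A₀ (Localization.Away g))).comap
      (algebraMap A₀ (Localization.Away g)) = q₀ :=
    IsLocalization.under_map_of_isPrime_disjoint (Submonoid.powers g) _ i3 hdisj
  obtain ⟨p, hpdef⟩ : ∃ p : Ideal (Localization.Away g),
      p = q₀.map (algebraMap A₀ (Localization.Away g)) := ⟨_, rfl⟩
  rw [← hpdef] at hp hcomap
  have hloc : IsLocalization.AtPrime (Localization.AtPrime p) q₀ := by
    have h2 : IsLocalization.AtPrime (Localization.AtPrime p)
        (p.comap (algebraMap A₀ (Localization.Away g))) := inferInstance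
    have h3 : (p.comap (algebraMap A₀ (Localization.Away g))).primeCompl = q₀.primeCompl := by
      ext x
      simp only [Ideal.mem_primeCompl_iff]
      rw [hcomap]
    unfold IsLocalization.AtPrime at h2 ⊢
    rw [← h3]
    exact h2
  have hft' : Algebra.FiniteType k (Localization.Away g) :=
    Algebra.FiniteType.trans hft (inferInstance : Algebra.FiniteType A₀ (Localization.Away g))
  refine ⟨Localization.Away g, inferInstance, inferInstance, p, hp, hft', hG, ⟨?_⟩⟩
  exact e.trans ((IsLocalization.algEquiv q₀.primeCompl (Localization.AtPrime q₀)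
    (Localization.AtPrime p)).restrictScalars k)

end Groth.Agent.Lib.Helper5.CIField
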