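import Mathlib
import Groth.Prelude.Def_CAlg
import Groth.Agent.Lib.Helper21.DepthKit5
import Groth.Agent.Lib.Helper5.RegComp

/-!
# Quotient of a Cohen-Macaulay local ring by a regular sequence has no embedded primes
-/

set_option autoImplicit false
universe u

namespace Groth.Agent.Lib.Helper5.CMEmb

open RingTheory.Sequence IsLocalRing Groth.Agent.Lib.Helper21.DepthKit

theorem dim_zero_of_assoc {R S : Type u} [CommRing R] [CommRing S] [IsLocalRing R]
    [IsNoetherianRing R] [IsLocalRing S] (hCM : LocCoh.IsCohenMacaulayModule R R)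
    (φ : R →+* S) (hφ : Function.Surjective φ) (rs : List R) (hrs : IsRegular R rs)
    (hker : RingHom.ker φ = Ideal.ofList rs)
    (hz : IsAssociatedPrime (maximalIdeal S) S) : ringKrullDim S = 0 := by
  let _ : Algebra R S := φ.toAlgebra
  have hSN : IsNoetherianRing S := isNoetherianRing_of_surjective R S φ hφ
  have hne : Ideal.ofList rs ≠ ⊤ := Groth.Agent.Lib.Helper5.RegComp.ofList_ne_top_of_isRegular hrs
  have hsm : (Ideal.ofList rs • ⊤ : Submodule R R) = LinearMap.ker (Algebra.linearMap R S) := by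
    rw [smul_eq_mul, Ideal.mul_top, ← hker]
    rfl
  let e : (R ⧸ (Ideal.ofList rs • ⊤ : Submodule R R)) ≃ₗ[R] S :=
    (Submodule.quotEquivOfEq _ _ hsm).trans
      (LinearMap.quotKerEquivOfSurjective (Algebra.linearMap R S) hφ)
  have hM : LocCoh.IsCohenMacaulayModule R (R ⧸ (Ideal.ofList rs • ⊤ : Submodule R R)) :=
    isCM_quot_ofList rs R hCM
      (fun r hr => IsLocalRing.le_maximalIdeal hne (Ideal.subset_span hr)) hrs.1
  have hloc : IsLocalHom φ := IsLocalHom.of_surjective φ hφ
  have hz' : IsAssociatedPrime (maximalIdeal R) S := by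
    rw [isAssociatedPrime_iff] at hz ⊢
    obtain ⟨-, x, hx⟩ := hz
    refine ⟨inferInstance, x, ?_⟩
    ext r
    rw [Submodule.mem_colon_singleton, Submodule.mem_bot, ← IsLocalRing.maximalIdeal_comap φ,
      Ideal.mem_comap, hx, Submodule.mem_colon_singleton, Submodule.mem_bot]
    rfl
  have hz'' : maximalIdeal R ∈ associatedPrimes R (R ⧸ (Ideal.ofList rs • ⊤ : Submodule R R)) :=
    (e.isAssociatedPrime_iff).2 hz'
  have h1 := ringKrullDim_quotient_eq_supportDim_of_isCM hM hz''
  have h2 : Module.supportDim R (R ⧸ (Ideal.ofList rs • ⊤ : Submodule R R)) =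
      ringKrullDim (R ⧸ (Ideal.ofList rs • ⊤ : Ideal R)) :=
    Module.supportDim_quotient_eq_ringKrullDim _
  have h3 : ringKrullDim (R ⧸ maximalIdeal R) = 0 :=
    ringKrullDim_eq_zero_of_field (IsLocalRing.ResidueField R)
  have e' : (R ⧸ (Ideal.ofList rs • ⊤ : Ideal R)) ≃+* S :=
    (Ideal.quotEquivOfEq (by rw [smul_eq_mul, Ideal.mul_top, hker])).trans
      (RingHom.quotientKerEquivOfSurjective hφ)
  rw [← ringKrullDim_eq_of_ringEquiv e', ← h2, ← h1, h3]

end Groth.Agent.Lib.Helper5.CMEmb
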