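import Groth.Agent.Lib.Helper5.ImperfExt
import Mathlib.Algebra.Module.LinearMap.Index
import Mathlib.LinearAlgebra.TensorProduct.RightExactness

set_option autoImplicit false
set_option linter.unusedSectionVars false
universe u

namespace Groth.Agent.Lib.Helper5.Cartier

open TensorProduct Module ImperfTower

section BaseChange

variable {B C : Type u} [Field B] [Field C] [Algebra B C] {V Y : Type u} [AddCommGroup V]
  [Module B V] [AddCommGroup Y] [Module B Y]

lemma finrank_ker_baseChange (g : V →ₗ[B] Y) :
    finrank C (LinearMap.ker (g.baseChange C)) = finrank B (LinearMap.ker g) := by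
  have := rank_ker_baseChange (C := C) g
  unfold finrank
  rw [this]

lemma finite_ker_baseChange (g : V →ₗ[B] Y) [FiniteDimensional B (LinearMap.ker g)] :
    FiniteDimensional C (LinearMap.ker (g.baseChange C)) := by
  exact Module.Finite.equiv (LinearMap.tensorKerEquiv C C g)

/-- the cokernel of a base change -/
noncomputable def cokerBaseChangeEquiv (g : V →ₗ[B] Y) :
    ((C ⊗[B] Y) ⧸ LinearMap.range (g.baseChange C)) ≃ₗ[C] C ⊗[B] (Y ⧸ LinearMap.range g) := by
  have hsurj : Function.Surjective ((LinearMap.range g).mkQ.baseChange C) := by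
    rw [LinearMap.baseChange_eq_ltensor]
    exact LinearMap.lTensor_surjective C (Submodule.mkQ_surjective _)
  have hex : Function.Exact g (LinearMap.range g).mkQ := by
    rw [LinearMap.exact_iff, Submodule.ker_mkQ]
  have hker : LinearMap.ker ((LinearMap.range g).mkQ.baseChange C) =
      LinearMap.range (g.baseChange C) := by
    have h := lTensor_exact C hex (Submodule.mkQ_surjective _)
    rw [LinearMap.exact_iff] at h
    ext z
    rw [LinearMap.mem_ker, LinearMap.mem_range]
    have h1 : z ∈ LinearMap.ker (LinearMap.lTensor C (LinearMap.range g).mkQ) ↔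
        z ∈ LinearMap.range (LinearMap.lTensor C g) := by rw [h]
    rw [LinearMap.mem_ker, LinearMap.mem_range] at h1
    simpa [LinearMap.baseChange_eq_ltensor] using h1
  exact (Submodule.quotEquivOfEq _ _ hker.symm).trans
    (LinearMap.quotKerEquivOfSurjective _ hsurj)

lemma finrank_coker_baseChange (g : V →ₗ[B] Y) :
    finrank C ((C ⊗[B] Y) ⧸ LinearMap.range (g.baseChange C)) =
      finrank B (Y ⧸ LinearMap.range g) := by
  rw [(cokerBaseChangeEquiv (C := C) g).finrank_eq, Module.finrank_baseChange]

lemma finite_coker_baseChange (g : V →ₗ[B] Y) [FiniteDimensional B (Y ⧸ LinearMap.range g)] :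
    FiniteDimensional C ((C ⊗[B] Y) ⧸ LinearMap.range (g.baseChange C)) :=
  Module.Finite.equiv (cokerBaseChangeEquiv (C := C) g).symm

lemma index_baseChange (g : V →ₗ[B] Y) : (g.baseChange C).index = g.index := by
  rw [LinearMap.index_eq_finrank_sub, LinearMap.index_eq_finrank_sub, finrank_ker_baseChange,
    finrank_coker_baseChange]

end BaseChange

section CompEquiv

variable {F : Type*} [Field F] {V V' W : Type*} [AddCommGroup V] [Module F V] [AddCommGroup V']
  [Module F V'] [AddCommGroup W] [Module F W]

lemma range_comp_equiv (f : V →ₗ[F] W) (e : V' ≃ₗ[F] V) :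
    LinearMap.range (f ∘ₗ e.toLinearMap) = LinearMap.range f := by
  rw [LinearMap.range_comp, LinearEquiv.range, Submodule.map_top]

lemma ker_comp_equiv (f : V →ₗ[F] W) (e : V' ≃ₗ[F] V) :
    LinearMap.ker (f ∘ₗ e.toLinearMap) = (LinearMap.ker f).map e.symm.toLinearMap := by
  rw [LinearMap.ker_comp]
  exact Submodule.comap_equiv_eq_map_symm e _

lemma finite_ker_comp_equiv (f : V →ₗ[F] W) (e : V' ≃ₗ[F] V)
    [FiniteDimensional F (LinearMap.ker f)] :
    FiniteDimensional F (LinearMap.ker (f ∘ₗ e.toLinearMap)) := by
  rw [ker_comp_equiv]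
  infer_instance

lemma finrank_ker_comp_equiv (f : V →ₗ[F] W) (e : V' ≃ₗ[F] V) :
    finrank F (LinearMap.ker (f ∘ₗ e.toLinearMap)) = finrank F (LinearMap.ker f) := by
  rw [ker_comp_equiv]
  exact LinearEquiv.finrank_map_eq e.symm _

lemma index_comp_equiv (f : V →ₗ[F] W) (e : V' ≃ₗ[F] V) :
    (f ∘ₗ e.toLinearMap).index = f.index := by
  rw [LinearMap.index_eq_finrank_sub, LinearMap.index_eq_finrank_sub, finrank_ker_comp_equiv,
    range_comp_equiv]

end CompEquiv

section CData

/-- the Cartier data of a field extension: finiteness of the imperfection module and of the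
relative differentials, and the value of the difference of their dimensions -/
structure CData (K L : Type u) [Field K] [Field L] [Algebra K L] (n : ℕ) : Prop where
  finKer : FiniteDimensional L (LinearMap.ker (KaehlerDifferential.mapBaseChange ℤ K L))
  finCoker : FiniteDimensional L
    (Ω[L⁄ℤ] ⧸ LinearMap.range (KaehlerDifferential.mapBaseChange ℤ K L))
  index_eq : (KaehlerDifferential.mapBaseChange ℤ K L).index = -(n : ℤ)

variable {K M L : Type u} [Field K] [Field M] [Field L] [Algebra K M] [Algebra M L] [Algebra K L]
  [IsScalarTower K M L]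

theorem CData.trans {m n : ℕ} (h₁ : CData K M m) (h₂ : CData M L n) : CData K L (m + n) := by
  haveI := h₁.finKer
  haveI := h₁.finCoker
  haveI := h₂.finKer
  haveI := h₂.finCoker
  set g := (KaehlerDifferential.mapBaseChange ℤ K M).baseChange L with hg
  set e := (TensorProduct.AlgebraTensorModule.cancelBaseChange K M L L Ω[K⁄ℤ]).symm with he
  have hup : up ℤ K M L = g ∘ₗ e.toLinearMap := rfl
  have hcomp : KaehlerDifferential.mapBaseChange ℤ K L =
      (KaehlerDifferential.mapBaseChange ℤ M L) ∘ₗ (up ℤ K M L) := by
    apply LinearMap.ext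
    intro z
    exact (mapBaseChange_up ℤ K M L z).symm
  haveI : FiniteDimensional L (LinearMap.ker g) := finite_ker_baseChange _
  haveI : FiniteDimensional L (_ ⧸ LinearMap.range g) := finite_coker_baseChange _
  haveI : FiniteDimensional L (LinearMap.ker (up ℤ K M L)) := by
    rw [hup]; exact finite_ker_comp_equiv g e
  haveI : FiniteDimensional L (_ ⧸ LinearMap.range (up ℤ K M L)) := by
    rw [hup, range_comp_equiv]; infer_instance
  have hidx : (up ℤ K M L).index = -(m : ℤ) := by
    rw [hup, index_comp_equiv, hg, index_baseChange, h₁.index_eq]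
  refine ⟨?_, ?_, ?_⟩
  · rw [hcomp, LinearMap.ker_comp]
    infer_instance
  · rw [hcomp, LinearMap.range_comp]
    infer_instance
  · rw [hcomp, LinearMap.index_comp, h₂.index_eq, hidx]
    push_cast
    ring

end CData

end Groth.Agent.Lib.Helper5.Cartier
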