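import Groth.Agent.Lib.Helper5.CartierFinite
import Mathlib.FieldTheory.FinTrdeg
import Mathlib.RingTheory.EssentialFiniteness

set_option autoImplicit false
set_option linter.unusedSectionVars false
universe u

namespace Groth.Agent.Lib.Helper5.Cartier

open TensorProduct Module IntermediateField

section Main

variable (K L : Type u) [Field K] [Field L] [Algebra K L]

lemma adjoin_lift_eq_top (s : Set L) :
    adjoin K (Set.range fun i : s => (⟨i.1, subset_adjoin K s i.2⟩ : adjoin K s)) = ⊤ := by
  rw [eq_top_iff]
  rintro ⟨y, hy⟩ -
  induction hy using IntermediateField.adjoin_induction with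
  | mem z hz => exact subset_adjoin K _ ⟨⟨z, hz⟩, rfl⟩
  | algebraMap r => exact (adjoin K _).algebraMap_mem r
  | add a b ha hb h1 h2 => exact (adjoin K _).add_mem h1 h2
  | inv a ha h1 => exact (adjoin K _).inv_mem h1
  | mul a b ha hb h1 h2 => exact (adjoin K _).mul_mem h1 h2

/-- Cartier's equality for finitely generated field extensions -/
theorem cdata_of_essFiniteType [Algebra.EssFiniteType K L] :
    CData K L (Cardinal.toNat (Algebra.trdeg K L)) := by
  obtain ⟨s, hs⟩ := exists_isTranscendenceBasis K L
  haveI : Finite s := finite_of_isTranscendenceBasis hs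
  letI : Fintype s := Fintype.ofFinite s
  have halg : Algebra.IsAlgebraic (adjoin K s) L := by
    have h := hs.isAlgebraic_field
    rwa [Subtype.range_coe] at h
  haveI : Algebra.EssFiniteType (adjoin K s) L := Algebra.EssFiniteType.of_comp K (adjoin K s) L
  haveI : FiniteDimensional (adjoin K s) L := by
    obtain ⟨t, ht⟩ := IntermediateField.fg_top (F := adjoin K s) (E := L)
    have hfin : FiniteDimensional (adjoin K s) (adjoin (adjoin K s) (t : Set L)) :=
      finiteDimensional_adjoin (fun x _ => (Algebra.IsAlgebraic.isAlgebraic x).isIntegral)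
    rw [ht] at hfin
    exact Module.Finite.equiv (IntermediateField.topEquiv (F := adjoin K s) (E := L)).toLinearEquiv
  have h2 : CData (adjoin K s) L 0 := cdata_of_finite (adjoin K s) L
  have hind : AlgebraicIndependent K
      (fun i : s => (⟨i.1, subset_adjoin K s i.2⟩ : adjoin K s)) :=
    AlgebraicIndependent.of_comp (adjoin K s).val hs.1
  have h1 : CData K (adjoin K s) (Fintype.card s) :=
    cdata_of_algebraicIndependent _ hind (adjoin_lift_eq_top K L s)
  have h3 := h1.trans h2
  have hcard : Cardinal.toNat (Algebra.trdeg K L) = Fintype.card s := by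
    rw [← hs.cardinalMk_eq_trdeg, Cardinal.mk_fintype, Cardinal.toNat_natCast]
  rw [hcard]
  simpa using h3

end Main

end Groth.Agent.Lib.Helper5.Cartier
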