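import Groth.Agent.Lib.Helper5.PBasisDer
import Mathlib.RingTheory.Kaehler.Basic

set_option autoImplicit false
set_option linter.unusedSectionVars false
universe u

namespace Groth.Agent.Lib.Helper5.PBasis

open EGA41

section AlgDer

variable {A B L : Type*} [CommRing A] [CommRing B] [Algebra A B] [AddCommGroup L] [Module B L]
  [Module A L] [IsScalarTower A B L]

/-- an additive derivation killing the base is a derivation over the base -/
def toAlgDer (D : Derivation ℤ B L) (h : ∀ a, D (algebraMap A B a) = 0) : Derivation A B L :=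
  Derivation.mk'
    { toFun := D
      map_add' := map_add D
      map_smul' := fun a b => by
        rw [Algebra.smul_def, Derivation.leibniz, h, smul_zero, add_zero, algebraMap_smul,
          RingHom.id_apply] }
    (fun b b' => Derivation.leibniz D b b')

lemma toAlgDer_apply (D : Derivation ℤ B L) (h : ∀ a, D (algebraMap A B a) = 0) (b : B) :
    toAlgDer D h b = D b := rfl

/-- a derivation over the base regarded as an additive derivation -/
def toIntDer (D : Derivation A B L) : Derivation ℤ B L :=
  Derivation.mk' (D : B →+ L).toIntLinearMap (fun b b' => Derivation.leibniz D b b')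

lemma toIntDer_apply (D : Derivation A B L) (b : B) : toIntDer D b = D b := rfl

end AlgDer

section PPow

variable (p : ℕ) {A B : Type u} [CommRing A] [CommRing B] [Algebra A B]

lemma derivation_eq_zero_of_mem_pPower {L : Type*} [AddCommGroup L] [Module B L] [Module A L]
    [IsScalarTower A B L] (hpB : (p : B) = 0) (D : Derivation A B L) {b : B}
    (hb : b ∈ pPowerSubalgebra p A B) : D b = 0 := by
  induction hb using Algebra.adjoin_induction with
  | mem b hb =>
    obtain ⟨b, rfl⟩ := hb
    change D (b ^ p) = 0
    rw [Derivation.leibniz_pow, ← Nat.cast_smul_eq_nsmul B, hpB, zero_smul]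
  | algebraMap a => exact D.map_algebraMap a
  | add b b' _ _ h1 h2 => rw [map_add, h1, h2, add_zero]
  | mul b b' _ _ h1 h2 => rw [Derivation.leibniz, h1, h2, smul_zero, smul_zero, add_zero]

variable {ι : Type u} (x : ι → B)

/-- the `p`-th powers of the family, in `A[B^p]` -/
def cPow : ι → pPowerSubalgebra p A B := fun i =>
  ⟨x i ^ p, Algebra.subset_adjoin ⟨x i, rfl⟩⟩

lemma cPow_spec (i : ι) : algebraMap (pPowerSubalgebra p A B) B (cPow p x i) = x i ^ p := rfl

theorem exists_basis_kaehler (hp : 0 < p) (hpB : (p : B) = 0) (hx : IsPBasis p A x) :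
    ∃ b : Module.Basis ι B (Ω[B⁄A]), ∀ i, b i = KaehlerDifferential.D A B (x i) := by
  have hli : LinearIndependent (pPowerSubalgebra p A B) (fun e : Red ι p => mon x e.1) := hx.1
  have hsp : Submodule.span (pPowerSubalgebra p A B)
      (Set.range fun e : Red ι p => mon x e.1) = ⊤ := hx.2
  have hd₀ : ∀ r r' : pPowerSubalgebra p A B, (0 : pPowerSubalgebra p A B →+ (ι →₀ B)) (r * r') =
      algebraMap (pPowerSubalgebra p A B) B r • (0 : pPowerSubalgebra p A B →+ (ι →₀ B)) r' +
        algebraMap (pPowerSubalgebra p A B) B r' •
          (0 : pPowerSubalgebra p A B →+ (ι →₀ B)) r := by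
    intro r r'
    simp
  obtain ⟨D₁, h1, h2⟩ := exists_derivation_extending p x (cPow p x) (cPow_spec p x) hli hsp
    (0 : pPowerSubalgebra p A B →+ (ι →₀ B)) hd₀ hp hpB (fun _ => rfl)
    (fun i => Finsupp.single i (1 : B))
  have hA : ∀ a : A, D₁ (algebraMap A B a) = 0 := by
    intro a
    have := h1 (algebraMap A (pPowerSubalgebra p A B) a)
    exact this
  set φ : Ω[B⁄A] →ₗ[B] (ι →₀ B) := (toAlgDer D₁ hA).liftKaehlerDifferential with hφ
  set ψ : (ι →₀ B) →ₗ[B] Ω[B⁄A] :=
    Finsupp.linearCombination B (fun i => KaehlerDifferential.D A B (x i)) with hψ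
  have hφD : ∀ b, φ (KaehlerDifferential.D A B b) = D₁ b := by
    intro b
    rw [hφ, Derivation.liftKaehlerDifferential_comp_D]
    rfl
  have h12 : φ.comp ψ = LinearMap.id := by
    apply Finsupp.lhom_ext'
    intro i
    apply LinearMap.ext_ring
    rw [LinearMap.comp_apply, LinearMap.comp_apply, Finsupp.lsingle_apply, hψ,
      Finsupp.linearCombination_single, one_smul, hφD, h2]
    rfl
  have h21 : ψ.comp φ = LinearMap.id := by
    apply Derivation.liftKaehlerDifferential_unique
    apply Derivation.ext
    intro b
    change ψ (φ (KaehlerDifferential.D A B b)) = KaehlerDifferential.D A B b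
    rw [hφD]
    -- compare two additive derivations
    have : toIntDer ((ψ.compDer (toAlgDer D₁ hA))) = toIntDer (KaehlerDifferential.D A B) := by
      apply derivation_ext_of_span p x hsp
      · intro r
        rw [toIntDer_apply, toIntDer_apply]
        have e1 : (KaehlerDifferential.D A B) (algebraMap (pPowerSubalgebra p A B) B r) = 0 :=
          derivation_eq_zero_of_mem_pPower p hpB _ r.2
        rw [e1]
        change ψ (D₁ (algebraMap (pPowerSubalgebra p A B) B r)) = 0
        rw [h1]
        simp
      · intro i
        rw [toIntDer_apply, toIntDer_apply]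
        change ψ (D₁ (x i)) = _
        rw [h2, hψ, Finsupp.linearCombination_single, one_smul]
    have := congrArg (fun D => D b) this
    exact this
  let e : Ω[B⁄A] ≃ₗ[B] (ι →₀ B) := LinearEquiv.ofLinearMap φ ψ h12 h21
  refine ⟨Module.Basis.ofRepr e, fun i => ?_⟩
  change e.symm (Finsupp.single i 1) = _
  change ψ (Finsupp.single i 1) = _
  rw [hψ, Finsupp.linearCombination_single, one_smul]

end PPow

end Groth.Agent.Lib.Helper5.PBasis
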