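import Groth.Agent.Lib.Helper5.ExpOneSection
import Mathlib.RingTheory.Nilpotent.GeometricallyReduced
import Mathlib.LinearAlgebra.Basis.VectorSpace
import Mathlib.RingTheory.TensorProduct.Free

set_option autoImplicit false
set_option linter.unusedSectionVars false

namespace Groth.Agent.Lib.Helper5.SepSmooth

open TensorProduct

section FrobLift

variable {K W : Type*} [Field K] [CommRing W] (π : W →+* K) (p : ℕ) (hp : p.Prime)
  (hpW : (p : W) = 0) (hπ : Function.Surjective π) (hker : RingHom.ker π ^ 2 = ⊥)

include hp hpW hker in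
lemma pow_eq_of_map_eq {w w' : W} (h : π w = π w') : w ^ p = w' ^ p := by
  have hj : w - w' ∈ RingHom.ker π := by rw [RingHom.mem_ker, map_sub, h, sub_self]
  have hj2 : (w - w') ^ 2 = 0 := by
    have : (w - w') ^ 2 ∈ RingHom.ker π ^ 2 := Ideal.pow_mem_pow hj 2
    rwa [hker] at this
  have hjp : (w - w') ^ p = 0 := by
    have h2 : 2 ≤ p := hp.two_le
    rw [← Nat.sub_add_cancel h2, pow_add, hj2, mul_zero]
  obtain ⟨r, hr⟩ := exists_add_pow_prime_eq hp (w - w') w'
  rw [sub_add_cancel, hjp, hpW, zero_mul, zero_mul, zero_mul, add_zero, zero_add] at hr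
  exact hr

/-- the lift of Frobenius: `y ↦ w ^ p` for any `w` over `y` -/
noncomputable def frobLift : K →+* W where
  toFun y := (Function.surjInv hπ y) ^ p
  map_one' := by
    rw [pow_eq_of_map_eq π p hp hpW hker (w' := 1) (by rw [Function.surjInv_eq hπ, map_one]),
      one_pow]
  map_mul' y y' := by
    rw [pow_eq_of_map_eq π p hp hpW hker
      (w' := Function.surjInv hπ y * Function.surjInv hπ y')
      (by rw [Function.surjInv_eq hπ, map_mul, Function.surjInv_eq hπ, Function.surjInv_eq hπ]),
      mul_pow]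
  map_zero' := by
    rw [pow_eq_of_map_eq π p hp hpW hker (w' := 0) (by rw [Function.surjInv_eq hπ, map_zero]),
      zero_pow hp.ne_zero]
  map_add' y y' := by
    rw [pow_eq_of_map_eq π p hp hpW hker
      (w' := Function.surjInv hπ y + Function.surjInv hπ y')
      (by rw [Function.surjInv_eq hπ, map_add, Function.surjInv_eq hπ, Function.surjInv_eq hπ])]
    obtain ⟨r, hr⟩ := exists_add_pow_prime_eq hp (Function.surjInv hπ y) (Function.surjInv hπ y')
    rw [hr, hpW, zero_mul, zero_mul, zero_mul, add_zero]

lemma frobLift_map (w : W) : frobLift π p hp hpW hπ hker (π w) = w ^ p :=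
  pow_eq_of_map_eq π p hp hpW hker (Function.surjInv_eq hπ _)

lemma map_frobLift (y : K) : π (frobLift π p hp hpW hπ hker y) = y ^ p := by
  change π ((Function.surjInv hπ y) ^ p) = y ^ p
  rw [map_pow, Function.surjInv_eq hπ]

end FrobLift

section SumPow

lemma sum_pow_prime {T ι : Type*} [CommRing T] (p : ℕ) (hp : p.Prime) (hpT : (p : T) = 0)
    (S : Finset ι) (f : ι → T) : (∑ i ∈ S, f i) ^ p = ∑ i ∈ S, f i ^ p := by
  classical
  induction S using Finset.induction_on with
  | empty => simp [hp.ne_zero]
  | insert a S ha ih =>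
    rw [Finset.sum_insert ha, Finset.sum_insert ha]
    obtain ⟨r, hr⟩ := exists_add_pow_prime_eq hp (f a) (∑ i ∈ S, f i)
    rw [hr, hpT, zero_mul, zero_mul, zero_mul, add_zero, ih]

end SumPow

section MacLane

variable {k K : Type*} [Field k] [Field K] [Algebra k K] (p : ℕ) (hp : p.Prime)
  (hpk : (p : k) = 0) [Algebra.IsGeometricallyReduced k K]

include hp hpk in
/-- the `p`-th powers of a basis stay linearly independent in a separable extension -/
theorem linearIndependent_pow_of_basis {I : Type*} (b : Module.Basis I k K) :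
    LinearIndependent k (fun i => (b i) ^ p) := by
  rw [linearIndependent_iff']
  intro S c hc i hi
  set Ωk := AlgebraicClosure k
  have hpT : (p : Ωk ⊗[k] K) = 0 := by
    have : (p : Ωk ⊗[k] K) = algebraMap k (Ωk ⊗[k] K) (p : k) := by simp
    rw [this, hpk, map_zero]
  choose r hr using fun i => IsAlgClosed.exists_pow_nat_eq (algebraMap k Ωk (c i)) hp.pos
  set u : Ωk ⊗[k] K := ∑ i ∈ S, r i ⊗ₜ[k] b i with hu
  have hup : u ^ p = 0 := by
    rw [hu, sum_pow_prime p hp hpT]
    have : ∀ i ∈ S, (r i ⊗ₜ[k] b i) ^ p = (1 : Ωk) ⊗ₜ[k] (c i • (b i) ^ p) := by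
      intro i _
      rw [Algebra.TensorProduct.tmul_pow, hr i, Algebra.algebraMap_eq_smul_one,
        TensorProduct.smul_tmul]
    rw [Finset.sum_congr rfl this, ← TensorProduct.tmul_sum, hc, TensorProduct.tmul_zero]
  have hu0 : u = 0 := (pow_eq_zero_iff hp.ne_zero).1 hup
  have hli := (Algebra.TensorProduct.basis Ωk b).linearIndependent
  rw [linearIndependent_iff'] at hli
  have hu' : ∑ i ∈ S, r i • (Algebra.TensorProduct.basis Ωk b) i = 0 := by
    rw [← hu0, hu]
    refine Finset.sum_congr rfl (fun i _ => ?_)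
    rw [Algebra.TensorProduct.basis_apply, TensorProduct.smul_tmul', smul_eq_mul, mul_one]
  have hri : r i = 0 := hli S r hu' i hi
  have := hr i
  rw [hri, zero_pow hp.ne_zero] at this
  exact (map_eq_zero (algebraMap k Ωk)).1 this.symm

end MacLane

section Base

variable {k K W : Type*} [Field k] [Field K] [Algebra k K] [CommRing W] [Algebra k W]
  (π : W →ₐ[k] K) (p : ℕ) (hp : p.Prime)
  (hpk : (p : k) = 0) [Algebra.IsGeometricallyReduced k K]
  (hπ : Function.Surjective π) (hker : RingHom.ker (π : W →+* K) ^ 2 = ⊥)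

include hpk in
lemma natCast_eq_zero_of_algebra (A : Type*) [CommRing A] [Algebra k A] : (p : A) = 0 := by
  have : (p : A) = algebraMap k A (p : k) := by simp
  rw [this, hpk, map_zero]

/-- the lift of Frobenius attached to the surjection -/
noncomputable def phi : K →+* W :=
  frobLift (π : W →+* K) p hp (natCast_eq_zero_of_algebra p hpk W) hπ hker

lemma phi_map (w : W) : phi π p hp hpk hπ hker (π w) = w ^ p :=
  frobLift_map (π : W →+* K) p hp (natCast_eq_zero_of_algebra p hpk W) hπ hker w

lemma map_phi (y : K) : π (phi π p hp hpk hπ hker y) = y ^ p :=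
  map_frobLift (π : W →+* K) p hp (natCast_eq_zero_of_algebra p hpk W) hπ hker y

lemma phi_algebraMap (a : k) :
    phi π p hp hpk hπ hker (algebraMap k K a) = algebraMap k W (a ^ p) := by
  rw [← π.commutes a, phi_map, map_pow]

variable {I : Type*} (b : Module.Basis I k K)

include hp hpk in
lemma pow_eq_linearCombination (y : K) :
    y ^ p = Finsupp.linearCombination k (fun i => (b i) ^ p)
      ((b.repr y).mapRange (· ^ p) (zero_pow hp.ne_zero)) := by
  conv_lhs => rw [← b.linearCombination_repr y]
  rw [Finsupp.linearCombination_apply, Finsupp.sum,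
    sum_pow_prime p hp (natCast_eq_zero_of_algebra p hpk K),
    Finsupp.linearCombination_apply, Finsupp.sum_mapRange_index (by intro i; simp)]
  rw [Finsupp.sum]
  refine Finset.sum_congr rfl (fun i _ => ?_)
  rw [smul_pow]

/-- a `k`-linear map `K → W` restricting to the lift of Frobenius on `p`-th powers -/
theorem exists_linear_frob :
    ∃ G : K →ₗ[k] W, ∀ y : K, G (y ^ p) = phi π p hp hpk hπ hker y := by
  set b := Module.Basis.ofVectorSpace k K with hb
  have hML := linearIndependent_pow_of_basis p hp hpk b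
  set φ := phi π p hp hpk hπ hker with hφ
  let gsub : Submodule.span k (Set.range fun i => (b i) ^ p) →ₗ[k] W :=
    (Finsupp.linearCombination k (fun i => φ (b i))).comp hML.repr
  obtain ⟨G, hG⟩ := LinearMap.exists_extend gsub
  refine ⟨G, fun y => ?_⟩
  have hy := pow_eq_linearCombination p hp hpk b y
  have hmem : y ^ p ∈ Submodule.span k (Set.range fun i => (b i) ^ p) := by
    rw [hy, ← Finsupp.range_linearCombination]
    exact ⟨_, rfl⟩
  have h1 : G (y ^ p) = gsub ⟨y ^ p, hmem⟩ := by
    rw [← hG]; rfl
  have h2 : hML.repr ⟨y ^ p, hmem⟩ = (b.repr y).mapRange (· ^ p) (zero_pow hp.ne_zero) :=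
    hML.repr_eq hy.symm
  rw [h1]
  change Finsupp.linearCombination k (fun i => φ (b i)) (hML.repr ⟨y ^ p, hmem⟩) = φ y
  rw [h2, Finsupp.linearCombination_apply, Finsupp.sum_mapRange_index (by intro i; simp)]
  conv_rhs => rw [← b.linearCombination_repr y, Finsupp.linearCombination_apply, Finsupp.sum,
    map_sum]
  rw [Finsupp.sum]
  refine Finset.sum_congr rfl (fun i _ => ?_)
  rw [Algebra.smul_def, Algebra.smul_def (R := k) (A := K), map_mul, hφ, phi_algebraMap]

/-- `k[K^p]` -/
def kp (k K : Type*) [Field k] [Field K] [Algebra k K] (p : ℕ) : Subalgebra k K :=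
  Algebra.adjoin k (Set.range fun y : K => y ^ p)

lemma kp_toSubmodule : (kp k K p).toSubmodule = Submodule.span k (Set.range fun y : K => y ^ p) := by
  rw [kp, Algebra.adjoin_eq_span]
  congr 1
  have : (Set.range fun y : K => y ^ p) = (MonoidHom.mrange (powMonoidHom p : K →* K) : Set K) := by
    ext x; simp
  rw [this, Submonoid.closure_eq]

lemma inv_mem_kp (hp0 : 0 < p) {u : K} (hu : u ∈ kp k K p) : u⁻¹ ∈ kp k K p := by
  by_cases h0 : u = 0
  · rw [h0, inv_zero]; exact Subalgebra.zero_mem _
  have : u⁻¹ = u ^ (p - 1) * (u⁻¹) ^ p := by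
    have hpp : u ^ p = u ^ (p - 1) * u := by rw [← pow_succ, Nat.sub_add_cancel hp0]
    rw [inv_pow, hpp, mul_inv, ← mul_assoc, mul_inv_cancel₀ (pow_ne_zero _ h0), one_mul]
  rw [this]
  exact Subalgebra.mul_mem _ (Subalgebra.pow_mem _ hu _) (Algebra.subset_adjoin ⟨u⁻¹, rfl⟩)

/-- `k(K^p)` as an intermediate field -/
def kpField (hp0 : 0 < p) : IntermediateField k K :=
  (kp k K p).toIntermediateField (fun _ hu => inv_mem_kp p hp0 hu)

lemma mem_kpField (hp0 : 0 < p) {u : K} : u ∈ kpField (k := k) p hp0 ↔ u ∈ kp k K p := Iff.rfl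

include hp hpk hπ hker in
/-- sections of square-zero surjections onto a separable extension field -/
theorem exists_section_of_geomReduced : ∃ g : K →ₐ[k] W, ∀ x, π (g x) = x := by
  obtain ⟨G, hG⟩ := exists_linear_frob π p hp hpk hπ hker
  set φ := phi π p hp hpk hπ hker with hφ
  set E := kpField (k := k) (K := K) p hp.pos with hE
  have hpK : CharP K p := by
    have : (p : K) = 0 := natCast_eq_zero_of_algebra p hpk K
    exact (CharP.charP_iff_prime_eq_zero hp).2 this
  have hG1 : G 1 = 1 := by
    have := hG 1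
    rw [one_pow] at this
    rw [this, map_one]
  have hspan : ∀ u : K, u ∈ kp k K p → u ∈ Submodule.span k (Set.range fun y : K => y ^ p) := by
    intro u hu
    rw [← kp_toSubmodule]
    exact hu
  have hGmul' : ∀ u ∈ Submodule.span k (Set.range fun y : K => y ^ p),
      ∀ v ∈ Submodule.span k (Set.range fun y : K => y ^ p), G (u * v) = G u * G v := by
    intro u hu v hv
    induction hu using Submodule.span_induction with
    | mem u hm =>
      obtain ⟨y, rfl⟩ := hm
      induction hv using Submodule.span_induction with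
      | mem v hm' =>
        obtain ⟨y', rfl⟩ := hm'
        change G (y ^ p * y' ^ p) = G (y ^ p) * G (y' ^ p)
        rw [← mul_pow, hG, hG, hG, map_mul]
      | zero => simp
      | add v v' _ _ h1 h2 => rw [mul_add, map_add, map_add, mul_add, h1, h2]
      | smul a v _ h1 => rw [mul_smul_comm, map_smul, map_smul, h1, mul_smul_comm]
    | zero => simp
    | add u u' _ _ h1 h2 => rw [add_mul, map_add, map_add, add_mul, h1, h2]
    | smul a u _ h1 => rw [smul_mul_assoc, map_smul, map_smul, h1, smul_mul_assoc]
  have hGmul : ∀ u ∈ kp k K p, ∀ v ∈ kp k K p, G (u * v) = G u * G v :=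
    fun u hu v hv => hGmul' u (hspan u hu) v (hspan v hv)
  have hπG' : ∀ u ∈ Submodule.span k (Set.range fun y : K => y ^ p), π (G u) = u := by
    intro u hu
    induction hu using Submodule.span_induction with
    | mem u hm =>
      obtain ⟨y, rfl⟩ := hm
      change π (G (y ^ p)) = y ^ p
      rw [hG, hφ, map_phi]
    | zero => simp
    | add u u' _ _ h1 h2 => rw [map_add, map_add, h1, h2]
    | smul a u _ h1 => rw [map_smul, map_smul, h1]
  let g₀ : E →+* W :=
    { toFun := fun u => G (u : K)
      map_one' := hG1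
      map_mul' := fun u v => hGmul u u.2 v v.2
      map_zero' := map_zero G
      map_add' := fun u v => map_add G (u : K) (v : K) }
  letI algEW : Algebra E W := g₀.toAlgebra
  have hg₀ : ∀ u : E, algebraMap E W u = G (u : K) := fun _ => rfl
  let π' : W →ₐ[E] K :=
    { (π : W →+* K) with
      commutes' := fun u => by
        change π (G (u : K)) = u
        exact hπG' u (hspan u u.2) }
  have hKp : ∀ y : K, y ^ p ∈ Set.range (algebraMap E K) := fun y =>
    ⟨⟨y ^ p, Algebra.subset_adjoin ⟨y, rfl⟩⟩, rfl⟩
  have H : ∀ (w : W) (a : E), algebraMap E K a = π' w ^ p → algebraMap E W a = w ^ p := by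
    intro w a ha
    rw [hg₀]
    have : (a : K) = (π w) ^ p := ha
    rw [this, hG, hφ, phi_map]
  have hπ' : Function.Surjective π' := hπ
  obtain ⟨g, hg⟩ := PSecLib.exists_section π' p hp hπ' hKp H
  refine ⟨{ (g : K →+* W) with
            commutes' := fun a => ?_ }, hg⟩
  change g (algebraMap k K a) = algebraMap k W a
  have h1 : algebraMap k K a = algebraMap E K (algebraMap k E a) := rfl
  rw [h1, AlgHom.commutes, hg₀]
  change G (algebraMap k K a) = _
  rw [Algebra.algebraMap_eq_smul_one, map_smul, hG1, ← Algebra.algebraMap_eq_smul_one]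

end Base

end Groth.Agent.Lib.Helper5.SepSmooth
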