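import Groth.Agent.Lib.Helper5.ExpOneSection2
import Groth.Agent.Lib.Helper5.PBasisKaehler
import Groth.Agent.Lib.Helper5.SepSection

set_option autoImplicit false
set_option linter.unusedSectionVars false

namespace Groth.Agent.Lib.Helper5.SepCartier

open TensorProduct Groth.Agent.Lib.Helper5.PBasis

attribute [local instance] opMod isCentralScalar_opMod

section DerOne

variable {F K : Type*} [Field F] [Field K] [Algebra F K] (p : ℕ) (hp : p.Prime) [CharP K p]
  (hKp : ∀ y : K, y ^ p ∈ Set.range (algebraMap F K))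

include hp hKp in
/-- an element outside the base of an exponent-one extension is moved by a derivation -/
theorem exists_derivation_eq_one (s : K) (hs : s ∉ Set.range (algebraMap F K)) :
    ∃ D : Derivation F K K, D s = 1 := by
  letI algFW : Algebra F (TrivSqZeroExt K K) :=
    ((TrivSqZeroExt.inlHom K K).comp (algebraMap F K)).toAlgebra
  have halg : ∀ a : F, algebraMap F (TrivSqZeroExt K K) a = TrivSqZeroExt.inl (algebraMap F K a) :=
    fun _ => rfl
  let π : TrivSqZeroExt K K →ₐ[F] K :=
    { (TrivSqZeroExt.fstHom K K K : TrivSqZeroExt K K →+* K) with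
      commutes' := fun a => by
        change (algebraMap F (TrivSqZeroExt K K) a).fst = algebraMap F K a
        rw [halg, TrivSqZeroExt.fst_inl] }
  have hπ : Function.Surjective π := fun y => ⟨TrivSqZeroExt.inl y, rfl⟩
  have hpK : (p : K) = 0 := CharP.cast_eq_zero K p
  have H : ∀ (w : TrivSqZeroExt K K) (a : F), algebraMap F K a = π w ^ p →
      algebraMap F (TrivSqZeroExt K K) a = w ^ p := by
    intro w a ha
    rw [halg]
    apply TrivSqZeroExt.ext
    · rw [TrivSqZeroExt.fst_inl, TrivSqZeroExt.fst_pow]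
      exact ha
    · rw [TrivSqZeroExt.snd_inl, TrivSqZeroExt.snd_pow, ← Nat.cast_smul_eq_nsmul K, hpK, zero_smul]
  obtain ⟨g, hg, hgs⟩ := PSecLib.exists_section_apply π p hp hπ hKp H s hs
    (TrivSqZeroExt.inl s + TrivSqZeroExt.inr 1) (by
      change (TrivSqZeroExt.inl s + TrivSqZeroExt.inr (1 : K)).fst = s
      simp)
  have hfst : ∀ y, ((g : K →+* TrivSqZeroExt K K) y).fst = y := hg
  refine ⟨toAlgDer (derOfHom (g : K →+* TrivSqZeroExt K K) hfst) (fun a => ?_), ?_⟩
  · rw [derOfHom_apply]
    change (g (algebraMap F K a)).snd = 0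
    rw [AlgHom.commutes, halg, TrivSqZeroExt.snd_inl]
  · rw [toAlgDer_apply, derOfHom_apply]
    change (g s).snd = 1
    rw [hgs]
    simp

end DerOne

section Field

variable {k : Type*} [Field k] (p : ℕ) (hp : p.Prime) [CharP k p]

include hp in
/-- an element which is not a `p`-th power is moved by some derivation -/
theorem exists_derivation_ne_zero (c : k) (hc : ∀ e : k, e ^ p ≠ c) :
    ∃ δ : Derivation ℤ k k, δ c ≠ 0 := by
  haveI : Fact p.Prime := ⟨hp⟩
  let F : Subfield k := (frobenius k p).fieldRange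
  have hKp : ∀ y : k, y ^ p ∈ Set.range (algebraMap F k) := fun y =>
    ⟨⟨y ^ p, RingHom.mem_fieldRange.2 ⟨y, rfl⟩⟩, rfl⟩
  have hs : c ∉ Set.range (algebraMap F k) := by
    rintro ⟨⟨a, ha⟩, rfl⟩
    obtain ⟨e, he⟩ := RingHom.mem_fieldRange.1 ha
    exact hc e he
  obtain ⟨D, hD⟩ := exists_derivation_eq_one (F := F) p hp hKp c hs
  refine ⟨toIntDer D, ?_⟩
  rw [toIntDer_apply, hD]
  exact one_ne_zero

end Field

section Extend

variable {k K : Type*} [Field k] [Field K] [Algebra k K]

/-- derivations of the base extend when the first map of the cotangent sequence is injective -/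
theorem exists_derivation_extend
    (hinj : Function.Injective (KaehlerDifferential.mapBaseChange ℤ k K))
    (δ : Derivation ℤ k k) :
    ∃ δ' : Derivation ℤ K K, ∀ a : k, δ' (algebraMap k K a) = algebraMap k K (δ a) := by
  let lam : K ⊗[k] Ω[k⁄ℤ] →ₗ[K] K :=
    LinearMap.liftBaseChange K ((Algebra.linearMap k K).comp δ.liftKaehlerDifferential)
  obtain ⟨r, hr⟩ := LinearMap.exists_leftInverse_of_injective
    (KaehlerDifferential.mapBaseChange ℤ k K) (LinearMap.ker_eq_bot.2 hinj)
  refine ⟨(lam.comp r).compDer (KaehlerDifferential.D ℤ K), fun a => ?_⟩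
  have h1 : KaehlerDifferential.D ℤ K (algebraMap k K a) =
      KaehlerDifferential.mapBaseChange ℤ k K ((1 : K) ⊗ₜ KaehlerDifferential.D ℤ k a) := by
    rw [KaehlerDifferential.mapBaseChange_tmul, KaehlerDifferential.map_D, one_smul]
  change lam (r (KaehlerDifferential.D ℤ K (algebraMap k K a))) = _
  rw [h1]
  have h2 : r (KaehlerDifferential.mapBaseChange ℤ k K ((1 : K) ⊗ₜ KaehlerDifferential.D ℤ k a)) =
      (1 : K) ⊗ₜ KaehlerDifferential.D ℤ k a := LinearMap.congr_fun hr _
  rw [h2, LinearMap.liftBaseChange_tmul, one_smul, LinearMap.comp_apply,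
    Derivation.liftKaehlerDifferential_comp_D]
  rfl

end Extend

section Cartier

variable {k K : Type*} [Field k] [Field K] [Algebra k K] (p : ℕ) (hp : p.Prime) [CharP k p]

include hp in
/-- injectivity of the first map of the cotangent sequence forces the `p`-th powers of a basis to
stay linearly independent -/
theorem linearIndependent_pow_of_injective
    (hinj : Function.Injective (KaehlerDifferential.mapBaseChange ℤ k K))
    {I : Type*} (b : Module.Basis I k K) : LinearIndependent k (fun i => (b i) ^ p) := by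
  classical
  have hpk : (p : k) = 0 := CharP.cast_eq_zero k p
  have hpK : (p : K) = 0 := SepSmooth.natCast_eq_zero_of_algebra p hpk K
  by_contra hnot
  rw [linearIndependent_iff] at hnot
  push Not at hnot
  obtain ⟨l₀, hl₀, hl₀ne⟩ := hnot
  let P : ℕ → Prop := fun n => ∃ l : I →₀ k,
    Finsupp.linearCombination k (fun i => (b i) ^ p) l = 0 ∧ l ≠ 0 ∧ l.support.card = n
  have hP : ∃ n, P n := ⟨_, l₀, hl₀, hl₀ne, rfl⟩
  obtain ⟨c, hc0, hcne, hcard⟩ := Nat.find_spec hP
  have hmin : ∀ l : I →₀ k, Finsupp.linearCombination k (fun i => (b i) ^ p) l = 0 → l ≠ 0 →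
      Nat.find hP ≤ l.support.card := fun l h1 h2 => Nat.find_min' hP ⟨l, h1, h2, rfl⟩
  obtain ⟨i₀, hi₀⟩ : ∃ i₀, c i₀ ≠ 0 := by
    by_contra h
    push Not at h
    exact hcne (Finsupp.ext h)
  set c' := (c i₀)⁻¹ • c with hc'
  have hc'0 : Finsupp.linearCombination k (fun i => (b i) ^ p) c' = 0 := by
    rw [hc', map_smul, hc0, smul_zero]
  have hc'i₀ : c' i₀ = 1 := by
    rw [hc', Finsupp.smul_apply, smul_eq_mul, inv_mul_cancel₀ hi₀]
  have hc'supp : c'.support = c.support := Finsupp.support_smul_eq (inv_ne_zero hi₀)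
  have hδ : ∀ δ : Derivation ℤ k k, ∀ i, δ (c' i) = 0 := by
    intro δ
    obtain ⟨δ', hδ'⟩ := exists_derivation_extend hinj δ
    set d : I →₀ k := c'.mapRange δ (map_zero δ) with hd
    have hd0 : Finsupp.linearCombination k (fun i => (b i) ^ p) d = 0 := by
      have h1 := congrArg δ' hc'0
      rw [map_zero, Finsupp.linearCombination_apply, Finsupp.sum, map_sum] at h1
      rw [hd, Finsupp.linearCombination_apply, Finsupp.sum_mapRange_index (by intro i; simp),
        Finsupp.sum, ← h1]
      refine Finset.sum_congr rfl (fun i _ => ?_)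
      rw [Algebra.smul_def, Algebra.smul_def, Derivation.leibniz, Derivation.leibniz_pow, hδ',
        ← Nat.cast_smul_eq_nsmul K, hpK, zero_smul, smul_zero, zero_add, smul_eq_mul, mul_comm]
    have hdsupp : d.support ⊆ c.support.erase i₀ := by
      intro i hi
      rw [Finsupp.mem_support_iff, hd, Finsupp.mapRange_apply] at hi
      rw [Finset.mem_erase, ← hc'supp, Finsupp.mem_support_iff]
      refine ⟨?_, ?_⟩
      · rintro rfl
        rw [hc'i₀, Derivation.map_one_eq_zero] at hi
        exact hi rfl
      · intro h0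
        rw [h0, map_zero] at hi
        exact hi rfl
    by_contra hne
    push Not at hne
    obtain ⟨i, hi⟩ := hne
    have hdne : d ≠ 0 := by
      intro h0
      have : d i = 0 := by rw [h0]; rfl
      rw [hd, Finsupp.mapRange_apply] at this
      exact hi this
    have h1 := hmin d hd0 hdne
    have h2 : d.support.card < c.support.card := by
      refine lt_of_le_of_lt (Finset.card_le_card hdsupp) ?_
      exact Finset.card_erase_lt_of_mem (Finsupp.mem_support_iff.2 hi₀)
    omega
  have hroot : ∀ i, ∃ e : k, e ^ p = c' i := by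
    intro i
    by_contra h
    push Not at h
    obtain ⟨δ, hδne⟩ := exists_derivation_ne_zero p hp (c' i) h
    exact hδne (hδ δ i)
  choose e he using hroot
  have hsum : (∑ i ∈ c'.support, e i • b i) ^ p = 0 := by
    rw [SepSmooth.sum_pow_prime p hp hpK]
    rw [Finsupp.linearCombination_apply, Finsupp.sum] at hc'0
    rw [← hc'0]
    refine Finset.sum_congr rfl (fun i _ => ?_)
    rw [smul_pow, he]
  have hsum0 : ∑ i ∈ c'.support, e i • b i = 0 := (pow_eq_zero_iff hp.ne_zero).1 hsum
  have hi₀mem : i₀ ∈ c'.support := by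
    rw [Finsupp.mem_support_iff, hc'i₀]
    exact one_ne_zero
  have h0 := (linearIndependent_iff'.1 b.linearIndependent) c'.support e hsum0 i₀ hi₀mem
  have := he i₀
  rw [h0, zero_pow hp.ne_zero, hc'i₀] at this
  exact zero_ne_one this

end Cartier

end Groth.Agent.Lib.Helper5.SepCartier
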