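import Groth.Agent.Lib.Helper5.DerExt
import Groth.Agent.Lib.Helper5.SepCartier

set_option autoImplicit false
set_option linter.unusedSectionVars false

namespace Groth.Agent.Lib.Helper5.DerExt

open TensorProduct Groth.Agent.Lib.Helper5.PBasis

attribute [local instance] opMod isCentralScalar_opMod

section Frob

variable {R K L : Type*} [CommRing R] [Field K] [Field L] [Algebra R K] [Algebra K L]
  [Algebra R L] [IsScalarTower R K L] (p : ℕ) (hp : p.Prime) [CharP L p]
  (hK : ∀ y : L, y ^ p ∈ Set.range (algebraMap K L))

include hp hK in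
/-- a derivation killing the `p`-th powers of the big field extends along an exponent-one
extension -/
theorem exists_extends_of_pow_mem (D : Derivation R K L)
    (hD : ∀ a : K, (∃ y : L, algebraMap K L a = y ^ p) → D a = 0) :
    ∃ D' : Derivation R L L, ∀ a, D' (algebraMap K L a) = D a := by
  have hd₀ : ∀ r r' : K, (D : K →+ L) (r * r') =
      algebraMap K L r • (D : K →+ L) r' + algebraMap K L r' • (D : K →+ L) r := by
    intro r r'
    change D (r * r') = algebraMap K L r • D r' + algebraMap K L r' • D r
    rw [Derivation.leibniz, algebraMap_smul, algebraMap_smul]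
  letI algKW : Algebra K (TrivSqZeroExt L L) :=
    (baseHom (R := K) (B := L) (L := L) (D : K →+ L) hd₀).toAlgebra
  have halg : ∀ a : K, algebraMap K (TrivSqZeroExt L L) a =
      TrivSqZeroExt.inl (algebraMap K L a) + TrivSqZeroExt.inr (D a) := fun _ => rfl
  let π : TrivSqZeroExt L L →ₐ[K] L :=
    { (TrivSqZeroExt.fstHom L L L : TrivSqZeroExt L L →+* L) with
      commutes' := fun a => by
        change (algebraMap K (TrivSqZeroExt L L) a).fst = algebraMap K L a
        rw [halg]
        simp }
  have hπ : Function.Surjective π := fun y => ⟨TrivSqZeroExt.inl y, rfl⟩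
  have hpL : (p : L) = 0 := CharP.cast_eq_zero L p
  have H : ∀ (w : TrivSqZeroExt L L) (a : K), algebraMap K L a = π w ^ p →
      algebraMap K (TrivSqZeroExt L L) a = w ^ p := by
    intro w a ha
    rw [halg]
    apply TrivSqZeroExt.ext
    · rw [TrivSqZeroExt.fst_pow]
      have h1 : (TrivSqZeroExt.inl (algebraMap K L a) + TrivSqZeroExt.inr (D a) :
          TrivSqZeroExt L L).fst = algebraMap K L a := by simp
      rw [h1]
      exact ha
    · rw [TrivSqZeroExt.snd_pow, ← Nat.cast_smul_eq_nsmul L, hpL, zero_smul, hD a ⟨π w, ha⟩]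
      simp
  obtain ⟨g, hg⟩ := PSecLib.exists_section π p hp hπ hK H
  have hfst : ∀ y, ((g : L →+* TrivSqZeroExt L L) y).fst = y := hg
  refine ⟨toAlgDer (derOfHom (g : L →+* TrivSqZeroExt L L) hfst) (fun r => ?_), fun a => ?_⟩
  · rw [derOfHom_apply]
    change (g (algebraMap R L r)).snd = 0
    rw [IsScalarTower.algebraMap_apply R K L, AlgHom.commutes, halg, Derivation.map_algebraMap]
    simp
  · rw [toAlgDer_apply, derOfHom_apply]
    change (g (algebraMap K L a)).snd = D a
    rw [AlgHom.commutes, halg]
    simp

end Frob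

end Groth.Agent.Lib.Helper5.DerExt
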