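import Groth.Agent.Lib.Helper5.PBasisInter

set_option autoImplicit false
set_option linter.unusedSectionVars false
universe u

namespace Groth.Agent.Lib.Helper5.PBasis

open EGA41

/-- in a field of characteristic `p`, an element with vanishing absolute differential is a
`p`-th power -/
theorem exists_pow_eq_of_D_eq_zero (p : ℕ) [hpF : Fact p.Prime] {K : Type u} [Field K] [CharP K p]
    (s : K) (hs : KaehlerDifferential.D ℤ K s = 0) : ∃ f : K, f ^ p = s := by
  have h1 : KaehlerDifferential.D (⊥ : Subfield K) K s = 0 := by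
    have := congrArg (KaehlerDifferential.map ℤ (⊥ : Subfield K) K K) hs
    rwa [KaehlerDifferential.map_D, Algebra.algebraMap_self, RingHom.id_apply, map_zero] at this
  have h2 := mem_pPower_of_D_eq_zero p h1
  clear h1 hs
  induction h2 using Algebra.adjoin_induction with
  | mem y hy =>
    obtain ⟨z, rfl⟩ := hy
    exact ⟨z, rfl⟩
  | algebraMap r =>
    have hr : (r : K) ∈ (⊥ : Subfield K).map (frobenius K p) :=
      (bot_le : (⊥ : Subfield K) ≤ _) r.2
    obtain ⟨a, -, har⟩ := hr
    exact ⟨a, har⟩
  | add a b _ _ h1 h2 =>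
    obtain ⟨f, rfl⟩ := h1
    obtain ⟨g, rfl⟩ := h2
    exact ⟨f + g, add_pow_char f g p⟩
  | mul a b _ _ h1 h2 =>
    obtain ⟨f, rfl⟩ := h1
    obtain ⟨g, rfl⟩ := h2
    exact ⟨f * g, mul_pow f g p⟩

/-- an element of an integrally closed domain of characteristic `p` with vanishing absolute
differential is a `p`-th power -/
theorem exists_pow_eq_of_D_eq_zero_of_isIntegrallyClosed (p : ℕ) [hpF : Fact p.Prime]
    {A K : Type u} [CommRing A] [IsDomain A] [CharP A p] [Field K] [Algebra A K]
    [IsFractionRing A K] [IsIntegrallyClosedIn A K] (s : A)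
    (hs : KaehlerDifferential.D ℤ A s = 0) : ∃ f : A, f ^ p = s := by
  have hp : p.Prime := hpF.out
  haveI : CharP K p := charP_of_injective_algebraMap (IsFractionRing.injective A K) p
  have h1 : KaehlerDifferential.D ℤ K (algebraMap A K s) = 0 := by
    have := congrArg (KaehlerDifferential.map ℤ ℤ A K) hs
    rwa [KaehlerDifferential.map_D, map_zero] at this
  obtain ⟨f, hf⟩ := exists_pow_eq_of_D_eq_zero p _ h1
  have hint : IsIntegral A f := by
    refine ⟨Polynomial.X ^ p - Polynomial.C s, Polynomial.monic_X_pow_sub_C s hp.ne_zero, ?_⟩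
    simp [hf]
  obtain ⟨y, rfl⟩ := IsIntegrallyClosedIn.algebraMap_eq_of_integral hint
  refine ⟨y, IsFractionRing.injective A K ?_⟩
  rw [map_pow, hf]

end Groth.Agent.Lib.Helper5.PBasis
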