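import Groth.Agent.Lib.Helper5.CartierSteps
import Groth.Agent.Lib.Helper5.DerExtFrob
import Groth.Agent.Lib.Helper5.KerD

set_option autoImplicit false
set_option linter.unusedSectionVars false
universe u

namespace Groth.Agent.Lib.Helper5.Cartier

open TensorProduct Module

section Root

variable {M L : Type u} [Field M] [Field L] [Algebra M L] (p : ℕ) [hpF : Fact p.Prime]
  [CharP L p] (x : L) (c : M) (hc : algebraMap M L c = x ^ p)
  (hx : x ∉ Set.range (algebraMap M L)) (htop : Algebra.adjoin M {x} = ⊤)

include hc htop in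
lemma exists_mem_pow_eq (T : Subring M) (hT : ∀ m : M, m ^ p ∈ T) (hcT : c ∈ T) (y : L) :
    ∃ a ∈ T, algebraMap M L a = y ^ p := by
  let S : Subalgebra M L :=
    { carrier := {y | ∃ a ∈ T, algebraMap M L a = y ^ p}
      mul_mem' := by
        rintro y y' ⟨a, ha, h⟩ ⟨a', ha', h'⟩
        exact ⟨a * a', T.mul_mem ha ha', by rw [map_mul, h, h', mul_pow]⟩
      one_mem' := ⟨1, T.one_mem, by rw [map_one, one_pow]⟩
      add_mem' := by
        rintro y y' ⟨a, ha, h⟩ ⟨a', ha', h'⟩
        exact ⟨a + a', T.add_mem ha ha', by rw [map_add, h, h', add_pow_char]⟩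
      zero_mem' := ⟨0, T.zero_mem, by rw [map_zero, zero_pow hpF.out.ne_zero]⟩
      algebraMap_mem' := fun m => ⟨m ^ p, hT m, by rw [map_pow]⟩ }
  have hxS : x ∈ S := ⟨c, hcT, hc⟩
  have hle : Algebra.adjoin M {x} ≤ S := Algebra.adjoin_le (by
    intro z hz
    rw [Set.mem_singleton_iff] at hz
    rw [hz]
    exact hxS)
  rw [htop] at hle
  exact hle (Algebra.mem_top : y ∈ ⊤)

include hc htop in
lemma pow_mem_range (y : L) : y ^ p ∈ Set.range (algebraMap M L) := by
  obtain ⟨a, -, h⟩ := exists_mem_pow_eq p x c hc htop ⊤ (fun _ => Subring.mem_top _)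
    (Subring.mem_top _) y
  exact ⟨a, h⟩

include htop in
lemma span_D_singleton : Submodule.span L {KaehlerDifferential.D M L x} = ⊤ := by
  rw [eq_top_iff, ← KaehlerDifferential.span_range_derivation M L, Submodule.span_le]
  rintro _ ⟨y, rfl⟩
  have hy : y ∈ Algebra.adjoin M {x} := by rw [htop]; trivial
  induction hy using Algebra.adjoin_induction with
  | mem y hy =>
    rw [Set.mem_singleton_iff] at hy
    rw [hy]
    exact Submodule.subset_span rfl
  | algebraMap r => rw [Derivation.map_algebraMap]; exact Submodule.zero_mem _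
  | add a b _ _ h1 h2 => rw [map_add]; exact Submodule.add_mem _ h1 h2
  | mul a b _ _ h1 h2 =>
    rw [Derivation.leibniz]
    exact Submodule.add_mem _ (Submodule.smul_mem _ _ h2) (Submodule.smul_mem _ _ h1)

include hc hx htop in
lemma finrank_kaehler_root : finrank L Ω[L⁄M] = 1 := by
  have hKp := pow_mem_range p x c hc htop
  obtain ⟨D, hD⟩ := SepCartier.exists_derivation_eq_one p hpF.out hKp x hx
  have hne : KaehlerDifferential.D M L x ≠ 0 := by
    intro h0
    have : D x = 0 := by
      rw [← Derivation.liftKaehlerDifferential_comp_D D x, h0, map_zero]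
    rw [hD] at this
    exact one_ne_zero this
  rw [finrank_eq_one_iff_of_nonzero _ hne]
  exact span_D_singleton x htop

end Root

section Ker

variable {M L : Type u} [Field M] [Field L] [Algebra M L] (p : ℕ) [hpF : Fact p.Prime]
  [CharP L p] (x : L) (c : M) (hc : algebraMap M L c = x ^ p)
  (hx : x ∉ Set.range (algebraMap M L)) (htop : Algebra.adjoin M {x} = ⊤)

include hc in
lemma tmul_D_mem_ker : (1 : L) ⊗ₜ[M] KaehlerDifferential.D ℤ M c ∈
    LinearMap.ker (KaehlerDifferential.mapBaseChange ℤ M L) := by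
  rw [LinearMap.mem_ker, KaehlerDifferential.mapBaseChange_tmul, KaehlerDifferential.map_D, hc,
    Derivation.leibniz_pow, ← Nat.cast_smul_eq_nsmul L, CharP.cast_eq_zero L p, zero_smul,
    smul_zero]

include hc hx in
lemma D_ne_zero : KaehlerDifferential.D ℤ M c ≠ 0 := by
  intro h0
  haveI : CharP M p := (RingHom.charP_iff (algebraMap M L) (algebraMap M L).injective p).2
    inferInstance
  obtain ⟨f, hf⟩ := PBasis.exists_pow_eq_of_D_eq_zero p c h0
  apply hx
  refine ⟨f, ?_⟩
  have h1 : (algebraMap M L f) ^ p = x ^ p := by rw [← map_pow, hf, hc]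
  have h2 : (algebraMap M L f - x) ^ p = 0 := by rw [sub_pow_char, h1, sub_self]
  exact sub_eq_zero.1 (pow_eq_zero_iff hpF.out.ne_zero |>.1 h2)

include hc hx in
lemma tmul_D_ne_zero : (1 : L) ⊗ₜ[M] KaehlerDifferential.D ℤ M c ≠ 0 := by
  have hne := D_ne_zero p x c hc hx
  have hex : ¬ ∀ φ : Module.Dual M (Ω[M⁄ℤ]), φ (KaehlerDifferential.D ℤ M c) = 0 :=
    fun h => hne ((Module.forall_dual_apply_eq_zero_iff M _).1 h)
  push Not at hex
  obtain ⟨φ, hφ⟩ := hex
  let D₀ : Derivation ℤ M L :=
    ((Algebra.linearMap M L).comp φ).compDer (KaehlerDifferential.D ℤ M)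
  intro h0
  have h1 := DerExt.lam_tmul_D D₀ (1 : L) c
  rw [h0, map_zero, one_mul] at h1
  have h2 : D₀ c = algebraMap M L (φ (KaehlerDifferential.D ℤ M c)) := rfl
  rw [h2] at h1
  exact hφ ((algebraMap M L).injective (by rw [← h1, map_zero]))

include hc htop in
lemma ker_le_span : LinearMap.ker (KaehlerDifferential.mapBaseChange ℤ M L) ≤
    Submodule.span L {(1 : L) ⊗ₜ[M] KaehlerDifferential.D ℤ M c} := by
  intro z hz
  by_contra hnot
  obtain ⟨l, hlz, hl⟩ := Submodule.exists_dual_map_eq_bot_of_notMem hnot inferInstance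
  obtain ⟨D, rfl⟩ := DerExt.exists_der_of_functional (R := ℤ) (k := M) (K := L) l
  have hDc : D c = 0 := by
    have h1 : DerExt.lam D ((1 : L) ⊗ₜ[M] KaehlerDifferential.D ℤ M c) ∈
        (Submodule.span L {(1 : L) ⊗ₜ[M] KaehlerDifferential.D ℤ M c}).map (DerExt.lam D) :=
      Submodule.mem_map_of_mem (Submodule.subset_span rfl)
    rw [hl, Submodule.mem_bot, DerExt.lam_tmul_D, one_mul] at h1
    exact h1
  let T : Subring M :=
    { carrier := {a | D a = 0}
      mul_mem' := fun {a b} ha hb => by
        change D (a * b) = 0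
        have ha' : D a = 0 := ha
        have hb' : D b = 0 := hb
        rw [Derivation.leibniz, ha', hb', smul_zero, smul_zero, add_zero]
      one_mem' := D.map_one_eq_zero
      add_mem' := fun {a b} ha hb => by
        change D (a + b) = 0
        have ha' : D a = 0 := ha
        have hb' : D b = 0 := hb
        rw [map_add, ha', hb', add_zero]
      zero_mem' := map_zero D
      neg_mem' := fun {a} ha => by
        change D (-a) = 0
        have ha' : D a = 0 := ha
        rw [map_neg, ha', neg_zero] }
  have hT : ∀ m : M, m ^ p ∈ T := by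
    intro m
    change D (m ^ p) = 0
    rw [Derivation.leibniz_pow]
    have hpM : (p : M) = 0 := by
      apply (algebraMap M L).injective
      rw [map_natCast, map_zero]
      exact CharP.cast_eq_zero L p
    rw [← Nat.cast_smul_eq_nsmul M, hpM, zero_smul]
  have hD : ∀ a : M, (∃ y : L, algebraMap M L a = y ^ p) → D a = 0 := by
    rintro a ⟨y, hy⟩
    obtain ⟨a', ha', h⟩ := exists_mem_pow_eq p x c hc htop T hT hDc y
    have : a = a' := (algebraMap M L).injective (by rw [hy, h])
    rw [this]
    exact ha'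
  obtain ⟨D', hD'⟩ := DerExt.exists_extends_of_pow_mem p hpF.out
    (pow_mem_range p x c hc htop) D hD
  exact hlz (DerExt.lam_eq_zero_of_extends D D' hD' z hz)

include hc hx htop in
/-- adjoining a `p`-th root contributes nothing to the Cartier difference -/
theorem cdata_root : CData M L 0 := by
  have hker : LinearMap.ker (KaehlerDifferential.mapBaseChange ℤ M L) =
      Submodule.span L {(1 : L) ⊗ₜ[M] KaehlerDifferential.D ℤ M c} := by
    apply le_antisymm (ker_le_span p x c hc htop)
    rw [Submodule.span_le, Set.singleton_subset_iff]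
    exact tmul_D_mem_ker p x c hc
  have h1 := finrank_kaehler_root p x c hc hx htop
  haveI : Module.Finite L Ω[L⁄M] := Module.finite_of_finrank_pos (by rw [h1]; exact one_pos)
  refine CData.mk' ?_ ?_
  · rw [hker]; infer_instance
  · rw [hker, h1, finrank_span_singleton (tmul_D_ne_zero p x c hc hx)]
    simp

end Ker

end Groth.Agent.Lib.Helper5.Cartier
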