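import Mathlib.RingTheory.Smooth.Field
import Mathlib.RingTheory.Etale.Kaehler
import Mathlib.RingTheory.Kaehler.Polynomial
import Mathlib.RingTheory.AlgebraicIndependent.TranscendenceBasis

set_option autoImplicit false
universe u
open scoped TensorProduct

namespace Groth.Agent.Lib.Helper5.CharZeroD

/-- in characteristic zero the members of a transcendence basis have nonzero differentials -/
theorem D_ne_zero_of_isTranscendenceBasis {k K : Type u} [Field k] [CharZero k] [Field K]
    [Algebra k K] {ι : Type u} (v : ι → K) (hv : IsTranscendenceBasis k v) (i : ι) :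
    KaehlerDifferential.D k K (v i) ≠ 0 := by
  open scoped IntermediateField.algebraAdjoinAdjoin in
  have hb := hv.1
  let P := MvPolynomial ι k
  let S := Algebra.adjoin k (Set.range v)
  let F := IntermediateField.adjoin k (Set.range v)
  have : CharZero K := charZero_of_injective_algebraMap (algebraMap k K).injective
  have : CharZero F := charZero_of_injective_algebraMap (algebraMap k F).injective
  have : Algebra.IsAlgebraic F K := hv.isAlgebraic_field
  have : Algebra.IsSeparable F K := inferInstance
  have : Algebra.FormallyEtale F K := Algebra.FormallyEtale.of_isSeparable F K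
  have : Algebra.FormallyEtale S F := .of_isLocalization (nonZeroDivisors _)
  have : Algebra.FormallyEtale S K := .comp S F K
  let algPS : Algebra P S := hb.aevalEquiv.toAlgHom.toRingHom.toAlgebra
  have : IsScalarTower k P S := IsScalarTower.of_algebraMap_eq' (by
    ext x; simp [RingHom.algebraMap_toAlgebra])
  have : Algebra.FormallyEtale P S := by
    let e : P ≃ₐ[P] S := AlgEquiv.ofRingEquiv (f := hb.aevalEquiv.toRingEquiv) (fun x => rfl)
    exact Algebra.FormallyEtale.of_equiv e
  let algPK : Algebra P K := ((algebraMap S K).comp (algebraMap P S)).toAlgebra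
  have : IsScalarTower P S K := IsScalarTower.of_algebraMap_eq' rfl
  have : IsScalarTower k P K := IsScalarTower.of_algebraMap_eq' (by
    rw [IsScalarTower.algebraMap_eq P S K, RingHom.comp_assoc, ← IsScalarTower.algebraMap_eq k P S,
      ← IsScalarTower.algebraMap_eq k S K])
  have : Algebra.FormallyEtale P K := .comp P S K
  let e := KaehlerDifferential.tensorKaehlerEquivOfFormallyEtale k P K
  let b := (KaehlerDifferential.mvPolynomialBasis k ι).baseChange K
  have hX : algebraMap P K (MvPolynomial.X i) = v i := by
    change ((hb.aevalEquiv (MvPolynomial.X i) : S) : K) = v i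
    rw [AlgebraicIndependent.aevalEquiv_apply_coe]
    simp
  have h1 : e (b i) = KaehlerDifferential.D k K (v i) := by
    rw [Module.Basis.baseChange_apply, KaehlerDifferential.mvPolynomialBasis_apply,
      KaehlerDifferential.tensorKaehlerEquivOfFormallyEtale_apply,
      KaehlerDifferential.mapBaseChange_tmul, one_smul, KaehlerDifferential.map_D, hX]
  rw [← h1]
  intro h0
  exact b.ne_zero i (e.injective (h0.trans (map_zero e).symm))

theorem D_ne_zero_of_transcendental {k K : Type u} [Field k] [CharZero k] [Field K]
    [Algebra k K] (x : K) (hx : Transcendental k x) : KaehlerDifferential.D k K x ≠ 0 := by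
  have hs : AlgebraicIndepOn k id ({x} : Set K) := by
    rw [AlgebraicIndepOn, algebraicIndependent_singleton_iff ⟨x, rfl⟩]
    exact hx
  obtain ⟨t, hst, ht⟩ := exists_isTranscendenceBasis_superset hs
  exact D_ne_zero_of_isTranscendenceBasis (ι := t) Subtype.val ht ⟨x, hst rfl⟩

theorem isAlgebraic_of_D_eq_zero {k K : Type u} [Field k] [CharZero k] [Field K]
    [Algebra k K] (x : K) (hx : KaehlerDifferential.D k K x = 0) : IsAlgebraic k x := by
  by_contra h
  exact D_ne_zero_of_transcendental x h hx

end Groth.Agent.Lib.Helper5.CharZeroD
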