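import Mathlib
import Groth.Agent.Lib.Helper7.FibreStalkIso

/-!
# The closed fibre over a local ring: `O_{X_k, x} ≃ O_{P, i x} / m O_{P, i x}`
-/

universe u

open CategoryTheory CategoryTheory.Limits AlgebraicGeometry TopologicalSpace IsLocalRing

namespace Groth.Agent.Lib.Helper5.ClosedFibre

variable (A : Type u) [CommRing A] [IsLocalRing A]

/-- `A/m ≅ κ(m)` in `CommRingCat`. -/
noncomputable def psi :
    CommRingCat.of (ResidueField A) ≅ CommRingCat.of (maximalIdeal A).ResidueField :=
  (RingEquiv.ofBijective (algebraMap (A ⧸ maximalIdeal A) (maximalIdeal A).ResidueField)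
    (Ideal.bijective_algebraMap_quotient_residueField (maximalIdeal A))).toCommRingCatIso

theorem residue_psi :
    CommRingCat.ofHom (residue A) ≫ (psi A).hom =
      CommRingCat.ofHom (algebraMap A (maximalIdeal A).ResidueField) := by
  ext a
  exact (IsScalarTower.algebraMap_apply A (A ⧸ maximalIdeal A) (maximalIdeal A).ResidueField a).symm

/-- `Spec κ(y₀) ⟶ Spec (A/m)` over `Spec A`. -/
noncomputable def eHom :
    Spec ((Spec (CommRingCat.of A)).residueField (closedPoint A)) ⟶
      Spec (CommRingCat.of (ResidueField A)) :=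
  Spec.map (Scheme.Spec.residueFieldIso (CommRingCat.of A) (closedPoint A)).inv ≫
    Spec.map (psi A).hom

instance : IsIso (eHom A) := by
  unfold eHom
  infer_instance

theorem eHom_comp :
    eHom A ≫ Spec.map (CommRingCat.ofHom (residue A)) =
      (Spec (CommRingCat.of A)).fromSpecResidueField (closedPoint A) := by
  have h1 : Spec.map (psi A).hom ≫ Spec.map (CommRingCat.ofHom (residue A)) =
      Spec.map (CommRingCat.ofHom (algebraMap A (maximalIdeal A).ResidueField)) :=
    (Spec.map_comp _ _).symm.trans (congrArg Spec.map (residue_psi A))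
  have h2 := Scheme.Spec.map_residueFieldIso_inv_eq_fromSpecResidueField (CommRingCat.of A)
    (closedPoint A)
  unfold eHom
  exact (Category.assoc _ _ _).trans ((congrArg (_ ≫ ·) h1).trans h2)

variable {A}
variable {P X : Scheme.{u}} (f : P ⟶ Spec (CommRingCat.of A)) (i : X ⟶ P)
  (q : X ⟶ Spec (CommRingCat.of (ResidueField A)))

theorem isPullback_fiber :
    IsPullback (f.fiberι (closedPoint A)) (f.fiberToSpecResidueField (closedPoint A) ≫ eHom A) f
      (Spec.map (CommRingCat.ofHom (residue A))) := by
  refine IsPullback.of_iso (IsPullback.of_hasPullback f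
    ((Spec (CommRingCat.of A)).fromSpecResidueField (closedPoint A)))
    (Iso.refl _) (Iso.refl _) (asIso (eHom A)) (Iso.refl _) ?_ ?_ ?_ ?_
  · exact (Category.comp_id _).trans (Category.id_comp _).symm
  · exact (Category.id_comp _).symm
  · simp
  · simp [eHom_comp]

/-- The closed fibre `X = P ×_{Spec A} Spec (A/m)` is the fibre over the closed point. -/
noncomputable def fibreIso (hsq : IsPullback i q f (Spec.map (CommRingCat.ofHom (residue A)))) :
    X ≅ f.fiber (closedPoint A) :=
  hsq.isoIsPullback _ _ (isPullback_fiber f)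

theorem fibreIso_hom_fiberι (hsq : IsPullback i q f (Spec.map (CommRingCat.ofHom (residue A)))) :
    (fibreIso f i q hsq).hom ≫ f.fiberι (closedPoint A) = i :=
  hsq.isoIsPullback_hom_fst _ _ (isPullback_fiber f)

/-- `O_{X,x} ≃ O_{P, i x} / m_{f (i x)} O_{P, i x}` for the closed fibre `X` of `f : P ⟶ Spec A`,
`A` local. -/
theorem nonempty_stalk_equiv (hsq : IsPullback i q f (Spec.map (CommRingCat.ofHom (residue A))))
    (x : X) :
    Nonempty (X.presheaf.stalk x ≃+* (P.presheaf.stalk (i x) ⧸
      (maximalIdeal ((Spec (CommRingCat.of A)).presheaf.stalk (f (i x)))).map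
        (f.stalkMap (i x)).hom)) := by
  set φ := fibreIso f i q hsq with hφ
  have hz : f.fiberι (closedPoint A) (φ.hom x) = i x := by
    have := congrArg (fun g => g x) (fibreIso_hom_fiberι f i q hsq)
    simpa using this
  obtain ⟨e⟩ := Groth.Agent.Lib.Helper7.FibreStalkIso.nonempty_ringEquiv_aux f (closedPoint A)
    (φ.hom x) (i x) hz
  have e2 : (f.fiber (closedPoint A)).presheaf.stalk (φ.hom x) ≃+* X.presheaf.stalk x :=
    (asIso (φ.hom.stalkMap x)).commRingCatIsoToRingEquiv
  exact ⟨(e.trans e2).symm⟩

end Groth.Agent.Lib.Helper5.ClosedFibre
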