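import Mathlib
import Groth.Agent.S0342
import Groth.Agent.S0343
import Groth.Agent.Lib.Helper5.GorIso

/-!
# Regular local ring flat over a discrete valuation ring: the closed fibre is Gorenstein
-/

universe u

open IsLocalRing

namespace Groth.Agent.Lib.Helper5.ClosedFibreDVR

theorem gorenstein_quot_of_dvr {S B : Type u} [CommRing S] [IsDomain S]
    [IsDiscreteValuationRing S] [CommRing B] [IsRegularLocalRing B] (φ : S →+* B) (hφ : φ.Flat)
    [IsLocalHom φ] : LocCoh.IsGorensteinLocalRing (B ⧸ (maximalIdeal S).map φ) := by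
  obtain ⟨ϖ, hϖ⟩ := IsDiscreteValuationRing.exists_irreducible S
  have hm : maximalIdeal S = Ideal.span {ϖ} := hϖ.maximalIdeal_eq
  have hI : (maximalIdeal S).map φ = Ideal.span {φ ϖ} := by
    rw [hm, Ideal.map_span, Set.image_singleton]
  have hmem : φ ϖ ∈ maximalIdeal B := by
    have h1 : ϖ ∈ maximalIdeal S := by rw [hm]; exact Ideal.mem_span_singleton_self ϖ
    rw [mem_maximalIdeal, mem_nonunits_iff] at h1 ⊢
    exact fun h => h1 (isUnit_of_map_unit φ ϖ h)
  have hreg : IsSMulRegular B (φ ϖ) := by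
    let _ := φ.toAlgebra
    have : Module.Flat S B := hφ
    have h0 : IsSMulRegular S ϖ := IsSMulRegular.of_ne_zero hϖ.ne_zero
    exact IsSMulRegular.of_flat (S := B) h0
  have hG : LocCoh.IsGorensteinLocalRing (B ⧸ Ideal.span {φ ϖ}) :=
    (Groth.Agent.S0343.result B (φ ϖ) hmem hreg).1 (Groth.Agent.S0342.result B)
  rw [hI]
  exact hG

end Groth.Agent.Lib.Helper5.ClosedFibreDVR
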