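import Mathlib
import Groth.Agent.Lib.Helper29.H1Mono
import Groth.Agent.Lib.Helper29.H1Free

set_option autoImplicit false
universe u
open CategoryTheory CategoryTheory.Limits AlgebraicGeometry TopologicalSpace Opposite

namespace Groth.Agent.Lib.Helper5.CnSplit

open Groth.Agent.Lib.Helper28.QCohLoc

section Retr

variable {Z : Scheme.{u}} {N C : Z.Modules} (a : N ⟶ C) (U : Z.Opens)
  (ρ : (Scheme.Modules.restrictFunctor U.ι).obj C ⟶ (Scheme.Modules.restrictFunctor U.ι).obj N)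
  (hρ : (Scheme.Modules.restrictFunctor U.ι).map a ≫ ρ = 𝟙 _)
  {T : Z.Opens} (hT : T ≤ U)

theorem image_preimage_eq (hT : T ≤ U) : U.ι ''ᵁ (U.ι ⁻¹ᵁ T) = T := by
  rw [Scheme.Hom.image_preimage_eq_opensRange_inf, Scheme.Opens.opensRange_ι]
  exact inf_eq_right.2 hT

theorem restrict_smul (M : Z.Modules) (V' : (U : Scheme.{u}).Opens) (c : Γ(Z, U.ι ''ᵁ V'))
    (x : Γ(M, U.ι ''ᵁ V')) :
    (@HSMul.hSMul Γ((U : Scheme.{u}), V') Γ(M.restrict U.ι, V') Γ(M.restrict U.ι, V') _ c x) =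
      (c • x : Γ(M, U.ι ''ᵁ V')) := by
  have h := Scheme.Modules.smul_restrictAppIso_hom_apply U.ι M V' c x
  rw [Scheme.Opens.ι_appIso] at h
  exact h

theorem resO_self' {T : Z.Opens} (c : Γ(Z, T)) : resO (le_refl T) c = c := by
  unfold resO
  have : (homOfLE (le_refl T)).op = 𝟙 (op T) := rfl
  rw [this, Z.presheaf.map_id]
  rfl

/-- sections of the retraction over an open of `U` -/
noncomputable def retr' (V' : (U : Scheme.{u}).Opens) : Γ(C, U.ι ''ᵁ V') →+ Γ(N, U.ι ''ᵁ V') :=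
  (ρ.app V').hom

theorem retr'_smul (V' : (U : Scheme.{u}).Opens) (c : Γ(Z, U.ι ''ᵁ V')) (x : Γ(C, U.ι ''ᵁ V')) :
    retr' U ρ V' (c • x) = c • retr' U ρ V' x := by
  have h := Scheme.Modules.Hom.app_smul ρ (U := V') c x
  rw [restrict_smul U C V' c x, restrict_smul U N V' c] at h
  exact h

include hρ in
theorem retr'_app (V' : (U : Scheme.{u}).Opens) (y : Γ(N, U.ι ''ᵁ V')) :
    retr' U ρ V' (a.app (U.ι ''ᵁ V') y) = y := by
  have h := congrArg (fun f => (Scheme.Modules.Hom.app f V').hom y) hρ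
  exact h

/-- the retraction on sections over an open contained in `U` -/
noncomputable def retr (x : Γ(C, T)) : Γ(N, T) :=
  res N (image_preimage_eq U hT).ge
    (retr' U ρ (U.ι ⁻¹ᵁ T) (res C (image_preimage_eq U hT).le x))

theorem retr_add (x y : Γ(C, T)) : retr U ρ hT (x + y) = retr U ρ hT x + retr U ρ hT y := by
  unfold retr
  rw [res_add, map_add, res_add]

theorem retr_smul (c : Γ(Z, T)) (x : Γ(C, T)) : retr U ρ hT (c • x) = c • retr U ρ hT x := by
  unfold retr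
  rw [res_smul, retr'_smul, res_smul, resO_resO]
  congr 1
  exact resO_self' c

include hρ in
theorem retr_app (y : Γ(N, T)) : retr U ρ hT (a.app T y) = y := by
  unfold retr
  rw [← app_res, retr'_app a U ρ hρ, res_res, res_self]

end Retr

section Bridge

open Groth.Agent.Lib.Helper29.ConormalMap Groth.Agent.Lib.Helper29.ConormalBC
  Groth.Agent.Lib.Helper29.ConormalChart Groth.Agent.Lib.Helper29.H1Mono
  Groth.Agent.Lib.Helper29.H1Free Groth.Agent.Lib.Helper17.PullbackBC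
  Groth.Agent.Lib.Helper28.PullbackInv

variable {Z Y X : Scheme.{u}} (i : Z ⟶ Y) (j : Y ⟶ X) [IsImmersion i] [IsImmersion j]
  [QuasiCompact i] [QuasiCompact j]
  {W : X.Opens} (hW : IsAffineOpen W) (hc1 : W ≤ (i ≫ j).coborderRange)
  (hcj : W ≤ j.coborderRange) (hci : j ⁻¹ᵁ W ≤ i.coborderRange)
  (a : (Scheme.Modules.pullback i).obj (Omega.conormal j) ⟶ Omega.conormal (i ≫ j))
  (ha : OmegaSh.IsConormalMap (i ≫ j) j (𝟙 X) i a)
  (U : Z.Opens) (hT : i ⁻¹ᵁ (j ⁻¹ᵁ W) ≤ U)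
  (ρ : (Scheme.Modules.restrictFunctor U.ι).obj (Omega.conormal (i ≫ j)) ⟶
    (Scheme.Modules.restrictFunctor U.ι).obj ((Scheme.Modules.pullback i).obj (Omega.conormal j)))
  (hρ : (Scheme.Modules.restrictFunctor U.ι).map a ≫ ρ = 𝟙 _)

omit [IsImmersion i] [IsImmersion j] [QuasiCompact i] [QuasiCompact j] in
theorem cc_add (s s' : Γ(ClSub.idealMod j.ker, W)) : cc i j (s + s') = cc i j s + cc i j s' := by
  unfold cc
  rw [map_add, map_add]

omit [IsImmersion i] [IsImmersion j] [QuasiCompact i] in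
theorem cc_smul (r : Γ(X, W)) (s : Γ(ClSub.idealMod j.ker, W)) :
    cc i j (r • s) = (i.app (j ⁻¹ᵁ W)) (j.app W r) • cc i j s := by
  unfold cc
  rw [conormalSect_smul]
  exact pbs_smul i (Omega.conormal j) (j ⁻¹ᵁ W) (j.app W r) (OmegaSh.conormalSect j W s)

/-- the retraction applied to the class of a section of the ideal of the composite -/
noncomputable def Phi (σ : Γ(ClSub.idealMod (i ≫ j).ker, W)) :
    Γ((Scheme.Modules.pullback i).obj (Omega.conormal j), i ⁻¹ᵁ (j ⁻¹ᵁ W)) :=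
  retr U ρ hT (OmegaSh.conormalSect (i ≫ j) W σ)

omit [IsImmersion i] [IsImmersion j] [QuasiCompact i] [QuasiCompact j] in
theorem Phi_add (σ σ' : Γ(ClSub.idealMod (i ≫ j).ker, W)) :
    Phi i j U hT ρ (σ + σ') = Phi i j U hT ρ σ + Phi i j U hT ρ σ' := by
  unfold Phi
  rw [map_add]
  exact retr_add U ρ hT _ _

omit [IsImmersion i] [IsImmersion j] in
theorem Phi_smul (r : Γ(X, W)) (σ : Γ(ClSub.idealMod (i ≫ j).ker, W)) :
    Phi i j U hT ρ (r • σ) = (i.app (j ⁻¹ᵁ W)) (j.app W r) • Phi i j U hT ρ σ := by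
  unfold Phi
  rw [conormalSect_smul]
  have h := retr_smul U ρ hT ((i ≫ j).app W r) (OmegaSh.conormalSect (i ≫ j) W σ)
  rw [Scheme.Hom.comp_app] at h
  exact h

omit [IsImmersion i] [IsImmersion j] in
include ha hρ in
theorem Phi_push (s : Γ(ClSub.idealMod j.ker, W)) :
    Phi i j U hT ρ (pushSect (i ≫ j) j (𝟙 X) i (Category.comp_id _).symm W s) = cc i j s := by
  have hsq₁ : i ≫ j = (i ≫ j) ≫ 𝟙 X := (Category.comp_id _).symm
  have h2 := isConormalMap_app (i ≫ j) j (𝟙 X) i a ha hsq₁ W s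
  rw [map_eqToHom_eq_res] at h2
  have h3 : OmegaSh.conormalSect (i ≫ j) W (pushSect (i ≫ j) j (𝟙 X) i hsq₁ W s) =
      a.app (i ⁻¹ᵁ (j ⁻¹ᵁ W)) (cc i j s) := by
    rw [show a.app (i ⁻¹ᵁ (j ⁻¹ᵁ W)) (cc i j s) = _ from h2]
    exact (res_self _ _).symm
  unfold Phi
  rw [h3]
  exact retr_app a U ρ hρ hT (cc i j s)

include hW hcj hci ha hρ hT in
/-- **Bridging lemma**: a retraction of the canonical map `i^* C_{Y/X} → C_{Z/X}` shows that
`I ∩ qK ⊆ qI + KI` on an affine chart. -/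
theorem mem_of_retraction (q : Ideal Γ(X, W)) (e : Γ(X, W))
    (heI : e ∈ RingHom.ker (j.app W).hom)
    (heq : e ∈ q * RingHom.ker ((i.app (j ⁻¹ᵁ W)).hom.comp (j.app W).hom)) :
    e ∈ q * RingHom.ker (j.app W).hom +
      RingHom.ker ((i.app (j ⁻¹ᵁ W)).hom.comp (j.app W).hom) * RingHom.ker (j.app W).hom := by
  have hsq₁ : i ≫ j = (i ≫ j) ≫ 𝟙 X := (Category.comp_id _).symm
  obtain ⟨hV, hs1⟩ := affine_surjective_of_le_coborder j hW hcj
  obtain ⟨hU, hs2⟩ := affine_surjective_of_le_coborder i hV hci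
  have hsurj : Function.Surjective ((i.app (j ⁻¹ᵁ W)).hom.comp (j.app W).hom) := by
    intro c
    obtain ⟨b, hb⟩ := hs2 c
    obtain ⟨a', ha'⟩ := hs1 b
    exact ⟨a', by rw [RingHom.comp_apply]; exact (congrArg _ ha').trans hb⟩
  set K := RingHom.ker ((i.app (j ⁻¹ᵁ W)).hom.comp (j.app W).hom) with hK
  set I := RingHom.ker (j.app W).hom with hI
  have hKi : (i ≫ j).ker.ideal ⟨W, hW⟩ = K := by
    have h5 := Scheme.Hom.ker_apply (i ≫ j) ⟨W, hW⟩
    have h6 : ((i ≫ j).app W).hom = (i.app (j ⁻¹ᵁ W)).hom.comp (j.app W).hom := by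
      rw [Scheme.Hom.comp_app]
      rfl
    rw [h6] at h5
    exact h5
  have hIi : j.ker.ideal ⟨W, hW⟩ = I := Scheme.Hom.ker_apply j ⟨W, hW⟩
  -- sections
  set se := idealLiftOf j.ker W e (subschemeι_app_eq_zero j W e (RingHom.mem_ker.1 heI)) with hse
  have hse' : OmegaSh.idealSect j.ker W se = e := idealSect_idealLiftOf j.ker W e _
  set σe := pushSect (i ≫ j) j (𝟙 X) i hsq₁ W se with hσe
  have hσe' : OmegaSh.idealSect (i ≫ j).ker W σe = e := by
    have h := idealSect_pushSect (i ≫ j) j (𝟙 X) i hsq₁ W se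
    rw [hse'] at h
    rw [show OmegaSh.idealSect (i ≫ j).ker W σe = _ from h, Scheme.Hom.id_app]
    rfl
  -- claim 1
  have hrangeK : (LinearMap.range (idealιLin (i ≫ j).ker W) : Ideal Γ(X, W)) = K := by
    rw [range_idealιLin (i ≫ j).ker hW, hKi]
  have hmapK : (q • (⊤ : Submodule Γ(X, W) Γ(ClSub.idealMod (i ≫ j).ker, W))).map
      (idealιLin (i ≫ j).ker W) = q * K := by
    rw [Submodule.map_smul'', Submodule.map_top, hrangeK]
    rfl
  have hσmem : σe ∈ q • (⊤ : Submodule Γ(X, W) Γ(ClSub.idealMod (i ≫ j).ker, W)) := by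
    rw [← hmapK] at heq
    obtain ⟨t, ht, hts⟩ := heq
    have : t = σe := idealιLin_injective (i ≫ j).ker W (hts.trans hσe'.symm)
    rwa [this] at ht
  have claim1 : ∀ σ ∈ q • (⊤ : Submodule Γ(X, W) Γ(ClSub.idealMod (i ≫ j).ker, W)),
      ∃ s' ∈ q • (⊤ : Submodule Γ(X, W) Γ(ClSub.idealMod j.ker, W)),
        Phi i j U hT ρ σ = cc i j s' := by
    intro σ hσ
    refine Submodule.smul_induction_on hσ ?_ ?_
    · intro r hr m _
      obtain ⟨s₁, hs₁⟩ := cc_surjective i j hW hcj hci (Phi i j U hT ρ m)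
      refine ⟨r • s₁, Submodule.smul_mem_smul hr Submodule.mem_top, ?_⟩
      rw [Phi_smul, cc_smul, hs₁]
    · rintro x y ⟨sx, hsx, hx'⟩ ⟨sy, hsy, hy'⟩
      exact ⟨sx + sy, Submodule.add_mem _ hsx hsy, by rw [Phi_add, cc_add, hx', hy']⟩
  obtain ⟨s', hs'mem, hs'⟩ := claim1 σe hσmem
  have hA := Phi_push i j a ha U hT ρ hρ se
  have hzero : cc i j (se - s') = 0 := by
    have : cc i j (se - s') + cc i j s' = cc i j se := by
      rw [← cc_add, sub_add_cancel]
    rw [← hs', hA] at this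
    exact add_eq_right.mp this
  rw [eq_zero_iff_of_isBC_of_surjective ((i.app (j ⁻¹ᵁ W)).hom.comp (j.app W).hom) hsurj
    (cc i j) (isBC_cc i j hW hcj hci) (se - s')] at hzero
  have hrangeI : (LinearMap.range (idealιLin j.ker W) : Ideal Γ(X, W)) = I := by
    rw [range_idealιLin j.ker hW, hIi]
  have hmapq : (q • (⊤ : Submodule Γ(X, W) Γ(ClSub.idealMod j.ker, W))).map
      (idealιLin j.ker W) = q * I := by
    rw [Submodule.map_smul'', Submodule.map_top, hrangeI]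
    rfl
  have hmapKI : (K • (⊤ : Submodule Γ(X, W) Γ(ClSub.idealMod j.ker, W))).map
      (idealιLin j.ker W) = K * I := by
    rw [Submodule.map_smul'', Submodule.map_top, hrangeI]
    rfl
  have h1 : idealιLin j.ker W s' ∈ q * I := by
    rw [← hmapq]; exact ⟨s', hs'mem, rfl⟩
  have h2 : idealιLin j.ker W (se - s') ∈ K * I := by
    rw [← hmapKI]; exact ⟨se - s', hzero, rfl⟩
  have h3 : e = idealιLin j.ker W s' + idealιLin j.ker W (se - s') := by
    rw [← map_add, add_sub_cancel, idealιLin_apply, hse']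
  rw [h3]
  exact Submodule.add_mem_sup h1 h2

end Bridge

end Groth.Agent.Lib.Helper5.CnSplit
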