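import Mathlib
import Groth.Agent.Lib.Helper5.KosLow
import Groth.Agent.Lib.Helper5.KosPermD

set_option autoImplicit false
universe u

namespace Groth.Agent.Lib.Helper5.CnSplit

open Groth.Agent.Lib.Helper5.KosPerm

/-- minimality of the generators `t` of `I` inside `K` from the bridging property -/
theorem hind_of_bridge {A : Type u} [CommRing A] (I K : Ideal A) (t : List A)
    (hI : I = Ideal.ofList t) (hIK : I ≤ K)
    (hrel : ∀ c : Fin t.length → A, ∑ k, c k * t.get k = 0 → ∀ k, c k ∈ Ideal.ofList t)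
    (q : Ideal A) (hKq : K ≤ q)
    (hB : ∀ e : A, e ∈ I → e ∈ q * K → e ∈ q * I + K * I)
    (c : Fin t.length → A) (hc : ∑ k, c k * t.get k ∈ q * K) : ∀ k, c k ∈ q := by
  have heI : ∑ k, c k * t.get k ∈ I := by
    rw [hI]
    refine Ideal.sum_mem _ (fun k _ => Ideal.mul_mem_left _ _ ?_)
    exact Ideal.subset_span (List.get_mem t k)
  have h1 := hB _ heI hc
  have h2 : q * I + K * I ≤ q * I := by
    exact sup_le le_rfl (Ideal.mul_mono_left hKq)
  have h3 := h2 h1
  rw [hI, ofList_eq_span_range_get] at h3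
  obtain ⟨b, hb, hsum⟩ := KosLow.exists_of_mem_mul_span_range q t.get _ h3
  have h4 : ∑ k, (c k - b k) * t.get k = 0 := by
    simp_rw [sub_mul]
    rw [Finset.sum_sub_distrib, hsum, sub_self]
  intro k
  have h5 := hrel _ h4 k
  rw [← hI] at h5
  have h6 := q.add_mem (hKq (hIK h5)) (hb k)
  rwa [sub_add_cancel] at h6

end Groth.Agent.Lib.Helper5.CnSplit
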