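import Mathlib
import Groth.Agent.Lib.Helper5.CnSplitA
import Groth.Agent.Lib.Helper5.CnSplitB
import Groth.Agent.Lib.Helper5.LciD
import Groth.Agent.Lib.Helper5.LciS
import Groth.Agent.Lib.Helper5.KosH1C
import Groth.Agent.Lib.Helper5.RegDescA
import Groth.Agent.Lib.Helper5.RegSchImm

set_option autoImplicit false
universe u
open CategoryTheory CategoryTheory.Limits AlgebraicGeometry TopologicalSpace Opposite

namespace Groth.Agent.Lib.Helper5.CnSplit

open Groth.Agent.Lib.Helper28.QCohLoc Groth.Agent.Lib.Helper29.ConormalBC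
  Groth.Agent.Lib.Helper29.H1Chart Groth.Agent.Lib.Helper5.RegImmA
  Groth.Agent.Lib.Helper5.RegDesc

section Chart

variable {Z Y X : Scheme.{u}} (i : Z ⟶ Y) (j : Y ⟶ X) [IsImmersion i] [IsImmersion j]

/-- an affine chart for a pair of immersions inside prescribed opens -/
theorem exists_chart (O : Z.Opens) (OX : X.Opens) (z : Z) (hz : z ∈ O) (hzX : j (i z) ∈ OX) :
    ∃ W : X.Opens, IsAffineOpen W ∧ W ≤ (i ≫ j).coborderRange ∧ W ≤ j.coborderRange ∧
      j ⁻¹ᵁ W ≤ i.coborderRange ∧ z ∈ i ⁻¹ᵁ (j ⁻¹ᵁ W) ∧ i ⁻¹ᵁ (j ⁻¹ᵁ W) ≤ O ∧ W ≤ OX := by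
  obtain ⟨W₀, hW₀, hc1, hc2, hc3, hzW₀, hW₀O, -⟩ :=
    exists_chart_comp' j i O ⊤ z hz trivial
  obtain ⟨W, hW, hzW, hWle⟩ := TopologicalSpace.Opens.isBasis_iff_nbhd.mp X.isBasis_affineOpens
    (show j (i z) ∈ W₀ ⊓ OX from ⟨hzW₀, hzX⟩)
  have hle : W ≤ W₀ := hWle.trans inf_le_left
  exact ⟨W, hW, hle.trans hc1, hle.trans hc2, (j.preimage_mono hle).trans hc3, hzW,
    (i.preimage_mono (j.preimage_mono hle)).trans hW₀O, hWle.trans inf_le_right⟩

end Chart

section Koszul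

variable {Z Y X : Scheme.{u}} (i : Z ⟶ Y) (j : Y ⟶ X) [IsImmersion i] [IsImmersion j]
  [QuasiCompact i] [QuasiCompact j]
  (a : (Scheme.Modules.pullback i).obj (Omega.conormal j) ⟶ Omega.conormal (i ≫ j))
  (ha : OmegaSh.IsConormalMap (i ≫ j) j (𝟙 X) i a)

include ha in
theorem koszul_of_retraction (hj : RegImm.IsRegularImmersion .koszul j)
    (hij : RegImm.IsRegularImmersion .koszul (i ≫ j)) (z : Z) (U : Z.Opens) (hzU : z ∈ U)
    (ρ : (Scheme.Modules.restrictFunctor U.ι).obj (Omega.conormal (i ≫ j)) ⟶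
      (Scheme.Modules.restrictFunctor U.ι).obj ((Scheme.Modules.pullback i).obj (Omega.conormal j)))
    (hρ : (Scheme.Modules.restrictFunctor U.ι).map a ≫ ρ = 𝟙 _) :
    RegImm.IsRegularImmersionAt .koszul i z := by
  obtain ⟨U', hzU', hcl', rs, hrs, hker'⟩ := hj.2 (i z)
  obtain ⟨W, hW, hc1, hcj, hci, hzW, hWU, hWU'⟩ := exists_chart i j U U'.1 z hzU hzU'
  obtain ⟨hV, hs1⟩ := affine_surjective_of_le_coborder j hW hcj
  have : IsClosedImmersion (j ∣_ U'.1) := hcl'
  have hclij : IsClosedImmersion ((i ≫ j) ∣_ W) :=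
    Groth.Agent.Lib.Helper5.RegSchImm.isClosedImmersion_restrict_of_le_coborderRange _ hc1
  have hcli : IsClosedImmersion (i ∣_ (j ⁻¹ᵁ W)) :=
    Groth.Agent.Lib.Helper5.RegSchImm.isClosedImmersion_restrict_of_le_coborderRange _ hci
  -- generators of I on W
  set t := rs.map (X.presheaf.map (homOfLE hWU').op).hom with ht
  have htKR : LCI.IsKoszulRegularSeq Γ(X, W) t :=
    kind_seq_map_of_flat' .koszul (by decide) _ (flat_res U'.2 hW hWU') rs hrs
  have hkerI : RingHom.ker (j.app W).hom = Ideal.ofList t := by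
    rw [← ker_map_res j U'.2 hW hWU', hker', Ideal.map_ofList]
  set π := (j.app W).hom with hπ
  set ι := (i.app (j ⁻¹ᵁ W)).hom with hι
  have h6 : ((i ≫ j).app W).hom = ι.comp π := by
    rw [Scheme.Hom.comp_app]
    rfl
  have hK : LCI.IsKoszulRegularIdeal (RingHom.ker (ι.comp π)) := by
    rw [← h6]
    exact kindIdeal_ker_app (i ≫ j) .koszul (by decide) hW (fun z' _ => hij.2 z')
  have hIK : RingHom.ker π ≤ RingHom.ker (ι.comp π) := by
    intro x hx
    rw [RingHom.mem_ker] at hx ⊢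
    rw [RingHom.comp_apply, hx, map_zero]
  have hrel : ∀ c : Fin t.length → Γ(X, W), ∑ k, c k * t.get k = 0 →
      ∀ k, c k ∈ Ideal.ofList t :=
    Groth.Agent.Lib.Helper5.KosH1.h1Seq.rel t (htKR (-1) (by norm_num))
  have hmap := Groth.Agent.Lib.Helper5.Lci.isKoszulRegularIdeal_map_of_cancel π hs1
    (RingHom.ker (ι.comp π)) hK t (fun x hx => hIK (hkerI ▸ Ideal.subset_span hx)) hkerI htKR
    (fun q _ hKq c hc => hind_of_bridge (RingHom.ker π) (RingHom.ker (ι.comp π)) t hkerI hIK hrel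
      q hKq (fun e he heq => mem_of_retraction i j hW hcj hci a ha U hWU ρ hρ q e he heq) c hc)
  have hmapeq : (RingHom.ker (ι.comp π)).map π = RingHom.ker ι := by
    rw [← RingHom.comap_ker, Ideal.map_comap_of_surjective π hs1]
  rw [hmapeq] at hmap
  exact Groth.Agent.Lib.Helper5.Lci.isRegularImmersionAt_of_kr_ideal i hV hmap z hzW

end Koszul

end Groth.Agent.Lib.Helper5.CnSplit
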