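import Mathlib
import Groth.Agent.Lib.Helper5.LciB

set_option autoImplicit false
universe u

namespace Groth.Agent.Lib.Helper5.CnSplit

open TensorProduct Groth.Agent.Lib.Helper5.Lci

/-- **minimal generators at a prime**: a finitely generated ideal is generated, near a prime
`q`, by elements which are linearly independent modulo `q`. -/
theorem exists_min_gens {A : Type u} [CommRing A] (I : Ideal A) (hI : I.FG) (q : Ideal A)
    [q.IsPrime] :
    ∃ g : A, g ∉ q ∧ ∃ t : List A, (∀ x ∈ t, x ∈ I) ∧
      I.map (algebraMap A (Localization.Away g)) =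
        Ideal.ofList (t.map (algebraMap A (Localization.Away g))) ∧
      ∀ c : Fin t.length → A, ∑ k, c k * t.get k ∈ q * I → ∀ k, c k ∈ q := by
  classical
  let R := Localization.AtPrime q
  let I' : Ideal R := I.map (algebraMap A R)
  let k := IsLocalRing.ResidueField R
  have hfin : Module.Finite R I' := Module.Finite.iff_fg.2 (hI.map _)
  let V := k ⊗[R] I'
  let b := Module.finBasis k V
  have hsurj : ∀ v : V, ∃ m : I', (1 : k) ⊗ₜ[R] m = v := by
    intro v
    have h1 : (⊤ : Submodule R I').map (TensorProduct.mk R k I' 1) = ⊤ :=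
      IsLocalRing.map_tensorProduct_mk_eq_top.2 rfl
    have h2 : v ∈ (⊤ : Submodule R I').map (TensorProduct.mk R k I' 1) := by
      rw [h1]; trivial
    obtain ⟨m, -, hm⟩ := h2
    exact ⟨m, hm⟩
  choose m hm using fun i => hsurj (b i)
  have hspan : Submodule.span R (Set.range m) = ⊤ :=
    IsLocalRing.span_eq_top_of_tmul_eq_basis m b hm
  have hx : ∀ i, ∃ x : A, x ∈ I ∧ ∃ s : A, s ∉ q ∧
      (m i : R) * algebraMap A R s = algebraMap A R x := by
    intro i
    obtain ⟨⟨y, s⟩, hys⟩ := (IsLocalization.mem_map_algebraMap_iff q.primeCompl R).1 (m i).2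
    exact ⟨y.1, y.2, s.1, s.2, hys⟩
  choose x hxI s hs hxs using hx
  have hunit : ∀ i, IsUnit (algebraMap A R (s i)) := fun i =>
    IsLocalization.map_units R (⟨s i, hs i⟩ : q.primeCompl)
  let t := List.ofFn x
  have htI : ∀ y ∈ t, y ∈ I := by
    intro y hy
    obtain ⟨i, rfl⟩ := (List.mem_ofFn' x y).1 hy
    exact hxI i
  have hle : I.map (algebraMap A R) ≤ Ideal.ofList (t.map (algebraMap A R)) := by
    intro y hy
    have h1 : (⟨y, hy⟩ : I') ∈ Submodule.span R (Set.range m) := by rw [hspan]; trivial
    have key : ∀ z : I', z ∈ Submodule.span R (Set.range m) →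
        (z : R) ∈ Ideal.ofList (t.map (algebraMap A R)) := by
      intro z hz
      induction hz using Submodule.span_induction with
      | mem z hz =>
        obtain ⟨i, rfl⟩ := hz
        have : (m i : R) = algebraMap A R (x i) * ↑(hunit i).unit⁻¹ := by
          rw [← hxs i, mul_assoc, IsUnit.mul_val_inv, mul_one]
        rw [this]
        exact Ideal.mul_mem_right _ _ (Ideal.subset_span
          (List.mem_map.2 ⟨x i, (List.mem_ofFn' x _).2 ⟨i, rfl⟩, rfl⟩))
      | zero => exact Ideal.zero_mem _
      | add a b _ _ ha hb => exact Ideal.add_mem _ ha hb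
      | smul r a _ ha => exact Ideal.mul_mem_left _ r ha
    exact key _ h1
  obtain ⟨h0, hh0, hgen⟩ := exists_mul_mem_of_atPrime I hI t q hle
  refine ⟨h0, hh0, t, htI, map_eq_ofList_of_mul_mem I t htI h0 hgen _
    (IsLocalization.Away.algebraMap_isUnit h0), ?_⟩
  -- minimality
  let xI : Fin (Module.finrank k V) → I' := fun i =>
    ⟨algebraMap A R (x i), Ideal.mem_map_of_mem _ (hxI i)⟩
  let v : Fin (Module.finrank k V) → V := fun i => (1 : k) ⊗ₜ[R] xI i
  have hv : ∀ i, v i = (IsLocalRing.residue R (algebraMap A R (s i))) • b i := by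
    intro i
    have h1 : xI i = algebraMap A R (s i) • m i := by
      apply Subtype.ext
      change algebraMap A R (x i) = algebraMap A R (s i) * (m i : R)
      rw [← hxs i, mul_comm]
    change (1 : k) ⊗ₜ[R] xI i = _
    rw [h1, ← hm i, TensorProduct.tmul_smul, TensorProduct.smul_tmul', TensorProduct.smul_tmul']
    congr 1
  have hli : LinearIndependent k v := by
    have hu : ∀ i, IsUnit (IsLocalRing.residue R (algebraMap A R (s i))) := fun i =>
      (hunit i).map _
    have h1 := b.linearIndependent.units_smul (fun i => (hu i).unit)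
    convert h1 using 1
    funext i
    exact hv i
  have hzero : ∀ y : I', y ∈ IsLocalRing.maximalIdeal R • (⊤ : Submodule R I') →
      (1 : k) ⊗ₜ[R] y = 0 := by
    intro y hy
    refine Submodule.smul_induction_on hy ?_ ?_
    · intro r hr n _
      rw [TensorProduct.tmul_smul, TensorProduct.smul_tmul']
      have : r • (1 : k) = 0 := by
        rw [Algebra.smul_def, mul_one]
        exact (IsLocalRing.residue_eq_zero_iff r).2 hr
      rw [this, TensorProduct.zero_tmul]
    · intro a b ha hb
      rw [TensorProduct.tmul_add, ha, hb, add_zero]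
  intro c hc
  have hlen : t.length = Module.finrank k V := List.length_ofFn
  let c' : Fin (Module.finrank k V) → A := fun i => c (Fin.cast hlen.symm i)
  have hsum : ∑ k, c k * t.get k = ∑ i, c' i * x i := by
    refine Fintype.sum_equiv (finCongr hlen) _ _ (fun k => ?_)
    change c k * t.get k = c (Fin.cast hlen.symm (Fin.cast hlen k)) * x (Fin.cast hlen k)
    rw [List.get_ofFn]
    rfl
  rw [hsum] at hc
  let y : I' := ∑ i, algebraMap A R (c' i) • xI i
  have hyR : (y : R) = algebraMap A R (∑ i, c' i * x i) := by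
    rw [AddSubmonoidClass.coe_finsetSum, map_sum]
    refine Finset.sum_congr rfl (fun i _ => ?_)
    rw [map_mul]
    rfl
  have hymem : y ∈ IsLocalRing.maximalIdeal R • (⊤ : Submodule R I') := by
    rw [Submodule.mem_smul_top_iff, hyR]
    have h1 : algebraMap A R (∑ i, c' i * x i) ∈ (q * I).map (algebraMap A R) :=
      Ideal.mem_map_of_mem _ hc
    rw [Ideal.map_mul, Localization.AtPrime.map_eq_maximalIdeal] at h1
    exact h1
  have h0' := hzero y hymem
  have h1 : ∑ i, IsLocalRing.residue R (algebraMap A R (c' i)) • v i = 0 := by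
    rw [← h0', TensorProduct.tmul_sum]
    refine Finset.sum_congr rfl (fun i _ => ?_)
    change _ • ((1 : k) ⊗ₜ[R] xI i) = _
    rw [TensorProduct.tmul_smul, TensorProduct.smul_tmul', TensorProduct.smul_tmul']
    congr 1
  have h2 := (Fintype.linearIndependent_iff.1 hli) _ h1
  intro k'
  have h3 := h2 (Fin.cast hlen k')
  rw [IsLocalRing.residue_eq_zero_iff] at h3
  have h4 : c' (Fin.cast hlen k') = c k' := rfl
  rw [h4] at h3
  exact (IsLocalization.AtPrime.to_map_mem_maximal_iff R q (c k')).1 h3

end Groth.Agent.Lib.Helper5.CnSplit
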