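import Mathlib
import Groth.Agent.Lib.Helper5.SeqDescA
import Groth.Agent.Lib.Helper5.LciD

/-!
# Cancellation for ideals locally generated by `Q`-sequences
-/

set_option autoImplicit false
universe u

namespace Groth.Agent.Lib.Helper5.SmDesc

open Groth.Agent.Lib.Helper5.SeqDesc Groth.Agent.Lib.Helper5.Lci
open Groth.Agent.Lib.Helper5.KosDesc Groth.Agent.Lib.Helper5.KosPerm

variable (S : SeqProp.{u})

/-- the property passes to the quotient by a tail of the sequence -/
def Drop : Prop :=
  ∀ {R R' : Type u} [CommRing R] [CommRing R'] (φ : R →+* R'), Function.Surjective φ →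
    ∀ f t : List R, RingHom.ker φ = Ideal.ofList t → S.Q R (f ++ t) → S.Q R' (f.map φ)

variable {T Tb : Type u} [CommRing T] [CommRing Tb]

theorem q_atPrime_of_away (l : List T) (g : T)
    (h : S.Q (Localization.Away g) (l.map (algebraMap T (Localization.Away g))))
    (q : Ideal T) [q.IsPrime] (hg : g ∉ q) :
    S.Q (Localization.AtPrime q) (l.map (algebraMap T (Localization.AtPrime q))) := by
  have hu : IsUnit (algebraMap T (Localization.AtPrime q) g) :=
    IsLocalization.map_units _ (⟨g, hg⟩ : q.primeCompl)
  have h1 := S.flat _ (flat_lift g q hg hu) _ h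
  rw [List.map_map] at h1
  convert h1 using 1
  apply List.map_congr_left
  intro x _
  exact (IsLocalization.Away.lift_eq g hu x).symm

theorem q_away_of_forall_atPrime (l : List T) (g : T)
    (h : ∀ (q : Ideal T) [q.IsPrime], g ∉ q →
      S.Q (Localization.AtPrime q) (l.map (algebraMap T (Localization.AtPrime q)))) :
    S.Q (Localization.Away g) (l.map (algebraMap T (Localization.Away g))) := by
  have h1 := away_of_forall S l.get g (fun P' _ hP' => by
    have h2 := h P' hP'
    rwa [← List.map_ofFn, List.ofFn_get])
  rwa [← List.map_ofFn, List.ofFn_get] at h1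

theorem exists_global_gens (J : Ideal T) (hJ : S.IsIdeal J)
    (q : Ideal T) [hq : q.IsPrime] (hJq : J ≤ q) :
    ∃ g : T, g ∉ q ∧ ∃ a : List T, (∀ x ∈ a, x ∈ J) ∧
      S.Q (Localization.Away g) (a.map (algebraMap T (Localization.Away g))) ∧
      J.map (algebraMap T (Localization.Away g)) =
        Ideal.ofList (a.map (algebraMap T (Localization.Away g))) := by
  obtain ⟨g, hg, l, hl, hspan⟩ := hJ ⟨q, hq⟩ hJq
  refine ⟨g, hg, ?_⟩
  have hex : ∀ j : Fin l.length, ∃ y : T, y ∈ J ∧ ∃ u : Localization.Away g, IsUnit u ∧
      l.get j * u = algebraMap T (Localization.Away g) y := by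
    intro j
    have hmem : l.get j ∈ J.map (algebraMap T (Localization.Away g)) := by
      rw [hspan]
      exact Ideal.subset_span (List.get_mem l j)
    obtain ⟨⟨y, m⟩, hym⟩ := (IsLocalization.mem_map_algebraMap_iff (Submonoid.powers g) _).1 hmem
    exact ⟨y.1, y.2, _, IsLocalization.map_units _ m, hym⟩
  choose y hyJ u hu hyu using hex
  refine ⟨List.ofFn y, ?_, ?_⟩
  · intro x hx
    obtain ⟨j, rfl⟩ := (List.mem_ofFn' y x).1 hx
    exact hyJ j
  have hsp : Ideal.ofList ((List.ofFn y).map (algebraMap T (Localization.Away g))) =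
      Ideal.ofList l := by
    rw [List.map_ofFn, ofList_ofFn, ofList_eq_span_range_get]
    apply le_antisymm
    · rw [Ideal.span_le]
      rintro _ ⟨j, rfl⟩
      change algebraMap T (Localization.Away g) (y j) ∈ _
      rw [← hyu j]
      exact Ideal.mul_mem_right _ _ (Ideal.subset_span ⟨j, rfl⟩)
    · rw [Ideal.span_le]
      rintro _ ⟨j, rfl⟩
      have : l.get j = algebraMap T (Localization.Away g) (y j) * ↑(hu j).unit⁻¹ := by
        rw [← hyu j, mul_assoc, IsUnit.mul_val_inv, mul_one]
      rw [this]
      exact Ideal.mul_mem_right _ _ (Ideal.subset_span ⟨j, rfl⟩)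
  refine ⟨S.indep l _ hl (by simp) hsp, ?_⟩
  rw [hsp, hspan]

/-- **Cancellation**: if `t ⊆ J` generates the kernel of a surjection `π` and is part of a
minimal system of generators of `J` at every prime containing `J`, then the image of `J` is
again locally generated by `Q`-sequences. -/
theorem isIdeal_map_of_cancel (hdrop : Drop S) (π : T →+* Tb) (hπ : Function.Surjective π)
    (J : Ideal T) (hJ : S.IsIdeal J) (t : List T) (ht : ∀ x ∈ t, x ∈ J)
    (hker : RingHom.ker π = Ideal.ofList t)
    (hind : ∀ (q : Ideal T) [q.IsPrime], J ≤ q → ∀ c : Fin t.length → T,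
      ∑ k, c k * t.get k ∈ q * J → ∀ k, c k ∈ q) :
    S.IsIdeal (J.map π) := by
  rintro ⟨pb, hpbprime⟩ hpb
  have hpb : J.map π ≤ pb := hpb
  set q : Ideal T := pb.comap π with hq
  have hJq : J ≤ q := Ideal.map_le_iff_le_comap.1 hpb
  obtain ⟨g, hg, a, haJ, haQ, haspan⟩ := exists_global_gens S J hJ q hJq
  have haQq := q_atPrime_of_away S a g haQ q hg
  have haspanq : J.map (algebraMap T (Localization.AtPrime q)) =
      Ideal.ofList (a.map (algebraMap T (Localization.AtPrime q))) :=
    map_eq_ofList_of_isUnit J a g haspan _ (IsLocalization.map_units _ (⟨g, hg⟩ : q.primeCompl))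
  obtain ⟨ρ, hρa, hlen, hρspan⟩ := exists_exchange_list'
    (J.map (algebraMap T (Localization.AtPrime q))) t.length
    (fun k => algebraMap T (Localization.AtPrime q) (t.get k))
    (a.map (algebraMap T (Localization.AtPrime q))) haspanq.symm
    (fun k => Ideal.mem_map_of_mem _ (ht _ (List.get_mem t k)))
    (indep_atPrime J q t.length t.get (hind q hJq))
  obtain ⟨σ, hσρ, hσa⟩ := exists_preimage_list _ a ρ hρa
  have htmap : List.ofFn (fun k => algebraMap T (Localization.AtPrime q) (t.get k)) =
      t.map (algebraMap T (Localization.AtPrime q)) := by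
    conv_rhs => rw [← List.ofFn_get t, List.map_ofFn]
    rfl
  have hdJ : ∀ x ∈ σ ++ t, x ∈ J := by
    intro x hx
    rcases List.mem_append.1 hx with h | h
    · exact haJ x (hσa x h)
    · exact ht x h
  have hdspanq : J.map (algebraMap T (Localization.AtPrime q)) =
      Ideal.ofList ((σ ++ t).map (algebraMap T (Localization.AtPrime q))) := by
    rw [List.map_append, hσρ, ← htmap]
    exact hρspan.symm
  have hne : Ideal.ofList (a.map (algebraMap T (Localization.AtPrime q))) ≠ ⊤ := by
    rw [← haspanq]
    intro htop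
    have h1 : J.map (algebraMap T (Localization.AtPrime q)) ≤
        IsLocalRing.maximalIdeal (Localization.AtPrime q) := by
      rw [← Localization.AtPrime.map_eq_maximalIdeal]
      exact Ideal.map_mono hJq
    rw [htop] at h1
    exact (IsLocalRing.maximalIdeal.isMaximal _).ne_top (top_le_iff.1 h1)
  have hdlen : (σ ++ t).length = a.length := by
    apply le_antisymm
    · have : ρ.length = σ.length := by rw [← hσρ, List.length_map]
      rw [List.length_append, ← this]
      simpa using hlen
    · have := length_le_of_rel _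
        ((σ ++ t).map (algebraMap T (Localization.AtPrime q))) (S.rel _ haQq) hne
        (hdspanq.symm.trans haspanq)
      simpa using this
  obtain ⟨h0, hh0, hgen⟩ := exists_mul_mem_of_atPrime J (fg_of_isIdeal S J hJ)
    (σ ++ t) q (le_of_eq hdspanq)
  have hG' : g * h0 ∉ q := fun h => (Ideal.IsPrime.mem_or_mem inferInstance h).elim hg hh0
  have hdQ : S.Q (Localization.Away (g * h0))
      ((σ ++ t).map (algebraMap T (Localization.Away (g * h0)))) := by
    apply q_away_of_forall_atPrime
    intro q' _ hq'
    have hg' : g ∉ q' := fun h => hq' (Ideal.mul_mem_right _ _ h)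
    have hh' : h0 ∉ q' := fun h => hq' (Ideal.mul_mem_left _ _ h)
    have h1 := q_atPrime_of_away S a g haQ q' hg'
    have h2 : J.map (algebraMap T (Localization.AtPrime q')) =
        Ideal.ofList (a.map (algebraMap T (Localization.AtPrime q'))) :=
      map_eq_ofList_of_isUnit J a g haspan _
        (IsLocalization.map_units _ (⟨g, hg'⟩ : q'.primeCompl))
    have h3 : J.map (algebraMap T (Localization.AtPrime q')) =
        Ideal.ofList ((σ ++ t).map (algebraMap T (Localization.AtPrime q'))) :=
      map_eq_ofList_of_mul_mem J _ hdJ h0 hgen _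
        (IsLocalization.map_units _ (⟨h0, hh'⟩ : q'.primeCompl))
    exact S.indep _ _ h1 (by
      rw [List.length_map, List.length_map, hdlen]) (h3.symm.trans h2)
  have hdspan : J.map (algebraMap T (Localization.Away (g * h0))) =
      Ideal.ofList ((σ ++ t).map (algebraMap T (Localization.Away (g * h0)))) :=
    map_eq_ofList_of_mul_mem J _ hdJ h0 hgen _ (isUnit_algebraMap_away_mul_right g h0)
  have hkerG : (RingHom.ker π).map (algebraMap T (Localization.Away (g * h0))) =
      Ideal.ofList (t.map (algebraMap T (Localization.Away (g * h0)))) := by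
    rw [hker, Ideal.map_ofList]
  refine ⟨π (g * h0), fun h => hG' h,
    (σ.map π).map (algebraMap Tb (Localization.Away (π (g * h0)))), ?_,
    span_transfer_down (g * h0) hπ J t σ hkerG hdspan⟩
  rw [← map_phi]
  rw [List.map_append] at hdQ
  exact hdrop (phi π (g * h0)) (phi_surjective (g * h0) hπ) _ _
    (by rw [ker_phi, hkerG]) hdQ

end Groth.Agent.Lib.Helper5.SmDesc
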