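import Mathlib
import Groth.Agent.Lib.Helper5.SmDescA

set_option autoImplicit false
universe u

namespace Groth.Agent.Lib.Helper5.CnSplit

open Groth.Agent.Lib.Helper5.SeqDesc Groth.Agent.Lib.Helper5.Lci
open Groth.Agent.Lib.Helper5.KosDesc Groth.Agent.Lib.Helper5.KosPerm
open Groth.Agent.Lib.Helper5.SmDesc

variable (S : SeqProp.{u}) {T Tb : Type u} [CommRing T] [CommRing Tb]

/-- **Pointwise local cancellation**: as `isIdeal_map_of_cancel`, at a single prime, with the
kernel of `π` generated by `t` only near that prime. -/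
theorem exists_away_of_cancel (hdrop : Drop S) (π : T →+* Tb) (hπ : Function.Surjective π)
    (J : Ideal T) (hJ : S.IsIdeal J) (t : List T) (ht : ∀ x ∈ t, x ∈ J)
    (pb : Ideal Tb) [pb.IsPrime] (hpb : J.map π ≤ pb)
    (g₀ : T) (hg₀ : g₀ ∉ pb.comap π)
    (hker : (RingHom.ker π).map (algebraMap T (Localization.Away g₀)) =
      Ideal.ofList (t.map (algebraMap T (Localization.Away g₀))))
    (hind : ∀ c : Fin t.length → T,
      ∑ k, c k * t.get k ∈ pb.comap π * J → ∀ k, c k ∈ pb.comap π) :
    ∃ f : Tb, f ∉ pb ∧ ∃ l : List (Localization.Away f), S.Q (Localization.Away f) l ∧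
      (J.map π).map (algebraMap Tb (Localization.Away f)) = Ideal.ofList l := by
  set q : Ideal T := pb.comap π with hq
  have hJq : J ≤ q := Ideal.map_le_iff_le_comap.1 hpb
  obtain ⟨g, hg, a, haJ, haQ, haspan⟩ := exists_global_gens S J hJ q hJq
  have haQq := q_atPrime_of_away S a g haQ q hg
  have haspanq : J.map (algebraMap T (Localization.AtPrime q)) =
      Ideal.ofList (a.map (algebraMap T (Localization.AtPrime q))) :=
    map_eq_ofList_of_isUnit J a g haspan _ (IsLocalization.map_units _ (⟨g, hg⟩ : q.primeCompl))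
  obtain ⟨ρ, hρa, hlen, hρspan⟩ := exists_exchange_list'
    (J.map (algebraMap T (Localization.AtPrime q))) t.length
    (fun k => algebraMap T (Localization.AtPrime q) (t.get k))
    (a.map (algebraMap T (Localization.AtPrime q))) haspanq.symm
    (fun k => Ideal.mem_map_of_mem _ (ht _ (List.get_mem t k)))
    (indep_atPrime J q t.length t.get hind)
  obtain ⟨σ, hσρ, hσa⟩ := exists_preimage_list _ a ρ hρa
  have htmap : List.ofFn (fun k => algebraMap T (Localization.AtPrime q) (t.get k)) =
      t.map (algebraMap T (Localization.AtPrime q)) := by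
    conv_rhs => rw [← List.ofFn_get t, List.map_ofFn]
    rfl
  have hdJ : ∀ x ∈ σ ++ t, x ∈ J := by
    intro x hx
    rcases List.mem_append.1 hx with h | h
    · exact haJ x (hσa x h)
    · exact ht x h
  have hdspanq : J.map (algebraMap T (Localization.AtPrime q)) =
      Ideal.ofList ((σ ++ t).map (algebraMap T (Localization.AtPrime q))) := by
    rw [List.map_append, hσρ, ← htmap]
    exact hρspan.symm
  have hne : Ideal.ofList (a.map (algebraMap T (Localization.AtPrime q))) ≠ ⊤ := by
    rw [← haspanq]
    intro htop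
    have h1 : J.map (algebraMap T (Localization.AtPrime q)) ≤
        IsLocalRing.maximalIdeal (Localization.AtPrime q) := by
      rw [← Localization.AtPrime.map_eq_maximalIdeal]
      exact Ideal.map_mono hJq
    rw [htop] at h1
    exact (IsLocalRing.maximalIdeal.isMaximal _).ne_top (top_le_iff.1 h1)
  have hdlen : (σ ++ t).length = a.length := by
    apply le_antisymm
    · have : ρ.length = σ.length := by rw [← hσρ, List.length_map]
      rw [List.length_append, ← this]
      simpa using hlen
    · have := length_le_of_rel _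
        ((σ ++ t).map (algebraMap T (Localization.AtPrime q))) (S.rel _ haQq) hne
        (hdspanq.symm.trans haspanq)
      simpa using this
  obtain ⟨h0, hh0, hgen⟩ := exists_mul_mem_of_atPrime J (fg_of_isIdeal S J hJ)
    (σ ++ t) q (le_of_eq hdspanq)
  have hG' : g₀ * (g * h0) ∉ q := fun h =>
    (Ideal.IsPrime.mem_or_mem inferInstance h).elim hg₀
      (fun h' => (Ideal.IsPrime.mem_or_mem inferInstance h').elim hg hh0)
  have hu0 : IsUnit (algebraMap T (Localization.Away (g₀ * (g * h0))) g₀) :=
    isUnit_algebraMap_away_mul_left g₀ (g * h0)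
  have hu1 : IsUnit (algebraMap T (Localization.Away (g₀ * (g * h0))) (g * h0)) :=
    isUnit_algebraMap_away_mul_right g₀ (g * h0)
  have hu2 : IsUnit (algebraMap T (Localization.Away (g₀ * (g * h0))) h0) := by
    rw [map_mul] at hu1
    exact isUnit_of_mul_isUnit_right hu1
  have hdQ : S.Q (Localization.Away (g₀ * (g * h0)))
      ((σ ++ t).map (algebraMap T (Localization.Away (g₀ * (g * h0))))) := by
    apply q_away_of_forall_atPrime
    intro q' _ hq'
    have hgh' : g * h0 ∉ q' := fun h => hq' (Ideal.mul_mem_left _ _ h)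
    have hg' : g ∉ q' := fun h => hgh' (Ideal.mul_mem_right _ _ h)
    have hh' : h0 ∉ q' := fun h => hgh' (Ideal.mul_mem_left _ _ h)
    have h1 := q_atPrime_of_away S a g haQ q' hg'
    have h2 : J.map (algebraMap T (Localization.AtPrime q')) =
        Ideal.ofList (a.map (algebraMap T (Localization.AtPrime q'))) :=
      map_eq_ofList_of_isUnit J a g haspan _
        (IsLocalization.map_units _ (⟨g, hg'⟩ : q'.primeCompl))
    have h3 : J.map (algebraMap T (Localization.AtPrime q')) =
        Ideal.ofList ((σ ++ t).map (algebraMap T (Localization.AtPrime q'))) :=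
      map_eq_ofList_of_mul_mem J _ hdJ h0 hgen _
        (IsLocalization.map_units _ (⟨h0, hh'⟩ : q'.primeCompl))
    exact S.indep _ _ h1 (by
      rw [List.length_map, List.length_map, hdlen]) (h3.symm.trans h2)
  have hdspan : J.map (algebraMap T (Localization.Away (g₀ * (g * h0)))) =
      Ideal.ofList ((σ ++ t).map (algebraMap T (Localization.Away (g₀ * (g * h0))))) :=
    map_eq_ofList_of_mul_mem J _ hdJ h0 hgen _ hu2
  have hkerG : (RingHom.ker π).map (algebraMap T (Localization.Away (g₀ * (g * h0)))) =
      Ideal.ofList (t.map (algebraMap T (Localization.Away (g₀ * (g * h0))))) :=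
    map_eq_ofList_of_isUnit (RingHom.ker π) t g₀ hker _ hu0
  refine ⟨π (g₀ * (g * h0)), fun h => hG' h,
    (σ.map π).map (algebraMap Tb (Localization.Away (π (g₀ * (g * h0))))), ?_,
    span_transfer_down (g₀ * (g * h0)) hπ J t σ hkerG hdspan⟩
  rw [← map_phi]
  rw [List.map_append] at hdQ
  exact hdrop (phi π (g₀ * (g * h0))) (phi_surjective (g₀ * (g * h0)) hπ) _ _
    (by rw [ker_phi, hkerG]) hdQ

end Groth.Agent.Lib.Helper5.CnSplit
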