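import Mathlib
import Groth.Agent.Lib.Helper5.SecRegB
import Groth.Agent.Lib.Helper5.LciS

set_option autoImplicit false
universe u

open RingTheory.Sequence AlgebraicGeometry CategoryTheory Limits

namespace Groth.Agent.Lib.Helper5.SecReg

theorem exists_regular_lift {A B C : Type u} [CommRing A] [CommRing B] [CommRing C]
    (φ : A →+* B) (hφ : φ.IsStandardSmooth) (πA : A →+* C) (hπA : Function.Surjective πA)
    (πB : B →+* C) (hcomp : πB.comp φ = πA)
    (fs : List A) (hfs : IsWeaklyRegular A fs) (hk : RingHom.ker πA = Ideal.ofList fs)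
    (q : Ideal B) [hq : q.IsPrime] (hle : RingHom.ker πB ≤ q) :
    ∃ g : B, g ∉ q ∧ ∃ rs : List B, ∀ (T : Type u) [CommRing T] [Algebra B T]
      [IsLocalization.Away g T],
      IsWeaklyRegular T (rs.map (algebraMap B T)) ∧
      (RingHom.ker πB).map (algebraMap B T) = Ideal.ofList (rs.map (algebraMap B T)) := by
  let _ : Algebra A B := φ.toAlgebra
  have hsm : Algebra.IsStandardSmooth A B := hφ
  let I : Ideal A := RingHom.ker πA
  let IB : Ideal B := I.map (algebraMap A B)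
  have hIB : IB ≤ RingHom.ker πB := by
    rw [Ideal.map_le_iff_le_comap]
    intro a ha
    change πB (φ a) = 0
    rw [← RingHom.comp_apply, hcomp]
    exact ha
  have hsm' : Algebra.IsStandardSmooth (A ⧸ I) (B ⧸ IB) :=
    .of_algEquiv (Algebra.TensorProduct.quotIdealMapEquivQuotTensor B I).symm
  let eC : (A ⧸ I) ≃+* C := RingHom.quotientKerEquivOfSurjective hπA
  let lB : (B ⧸ IB) →+* C := Ideal.Quotient.lift IB πB hIB
  let σ' : (B ⧸ IB) →+* (A ⧸ I) := (eC.symm : C →+* (A ⧸ I)).comp lB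
  have hσ' : σ'.comp (algebraMap (A ⧸ I) (B ⧸ IB)) = RingHom.id (A ⧸ I) := by
    apply Ideal.Quotient.ringHom_ext
    ext a
    change eC.symm (πB (φ a)) = Ideal.Quotient.mk I a
    rw [← RingHom.comp_apply, hcomp, RingEquiv.symm_apply_eq]
    rfl
  have hkσ : ∀ b : B, σ' (Ideal.Quotient.mk IB b) = 0 ↔ πB b = 0 := by
    intro b
    change eC.symm (πB b) = 0 ↔ _
    rw [RingEquiv.symm_apply_eq, map_zero]
  let mB : B →+* (B ⧸ IB) := Ideal.Quotient.mk IB
  have hmB : Function.Surjective mB := Ideal.Quotient.mk_surjective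
  have hIBq : RingHom.ker mB ≤ q := by
    rw [Ideal.mk_ker]
    exact hIB.trans hle
  let q' : Ideal (B ⧸ IB) := q.map mB
  have hq' : q'.IsPrime := Ideal.map_isPrime_of_surjective hmB hIBq
  have hle' : RingHom.ker σ' ≤ q' := by
    intro x hx
    obtain ⟨b, rfl⟩ := hmB x
    have hb : πB b = 0 := (hkσ b).1 hx
    exact Ideal.mem_map_of_mem mB (hle hb)
  obtain ⟨g', hg', rs', H⟩ := exists_regular_of_section (algebraMap (A ⧸ I) (B ⧸ IB))
    (RingHom.isStandardSmooth_algebraMap.2 hsm') σ' hσ' q' hle'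
  obtain ⟨g, rfl⟩ := hmB g'
  have hg : g ∉ q := fun h => hg' (Ideal.mem_map_of_mem mB h)
  obtain ⟨rsB, hrsB⟩ : ∃ rsB : List B, rsB.map mB = rs' := by
    refine ⟨rs'.map (Function.surjInv hmB), ?_⟩
    rw [List.map_map]
    conv_rhs => rw [← List.map_id rs']
    apply List.map_congr_left
    intro b _
    exact Function.surjInv_eq hmB b
  refine ⟨g, hg, fs.map φ ++ rsB, ?_⟩
  intro T _ _ _
  let IT : Ideal T := IB.map (algebraMap B T)
  let mT : T →+* (T ⧸ IT) := Ideal.Quotient.mk IT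
  have hmT : Function.Surjective mT := Ideal.Quotient.mk_surjective
  have hloc : IsLocalization.Away (mB g) (T ⧸ IT) := by
    have h1 : IsLocalization (Algebra.algebraMapSubmonoid (B ⧸ IB) (Submonoid.powers g))
      (T ⧸ IT) := inferInstance
    have h2 : Algebra.algebraMapSubmonoid (B ⧸ IB) (Submonoid.powers g) =
        Submonoid.powers (mB g) := Submonoid.map_powers _ g
    rw [h2] at h1
    exact h1
  obtain ⟨hwr, hspan⟩ := H (T ⧸ IT)
  have hcomm : ∀ b : B, algebraMap (B ⧸ IB) (T ⧸ IT) (mB b) = mT (algebraMap B T b) :=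
    fun b => rfl
  have hlist : rs'.map (algebraMap (B ⧸ IB) (T ⧸ IT)) = (rsB.map (algebraMap B T)).map mT := by
    rw [← hrsB, List.map_map, List.map_map]
    apply List.map_congr_left
    intro b _
    exact hcomm b
  have hITfs : IT = Ideal.ofList ((fs.map φ).map (algebraMap B T)) := by
    change (I.map (algebraMap A B)).map (algebraMap B T) = _
    change ((RingHom.ker πA).map (algebraMap A B)).map (algebraMap B T) = _
    rw [hk, Ideal.map_ofList, Ideal.map_ofList]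
    rfl
  have hITle : IT ≤ (RingHom.ker πB).map (algebraMap B T) := Ideal.map_mono hIB
  constructor
  · rw [List.map_append, isWeaklyRegular_append_iff]
    constructor
    · let _ : Algebra A T := ((algebraMap B T).comp φ).toAlgebra
      have : IsScalarTower A B T := IsScalarTower.of_algebraMap_eq' rfl
      have hf1 : Module.Flat A B := inferInstance
      have hf2 : Module.Flat B T := IsLocalization.flat T (Submonoid.powers g)
      have hf3 : Module.Flat A T := Module.Flat.trans A B T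
      have h1 : IsWeaklyRegular T (fs.map (algebraMap A T)) := IsWeaklyRegular.of_flat hfs
      have h2 : (fs.map φ).map (algebraMap B T) = fs.map (algebraMap A T) := by
        rw [List.map_map]
        rfl
      rw [h2]
      exact h1
    · have hsm2 : (Ideal.ofList ((fs.map φ).map (algebraMap B T)) • ⊤ : Submodule T T) = IT := by
        rw [smul_eq_mul, Ideal.mul_top, hITfs]
      let e : (T ⧸ (Ideal.ofList ((fs.map φ).map (algebraMap B T)) • ⊤ : Submodule T T)) ≃ₗ[T]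
          (T ⧸ IT) := Submodule.quotEquivOfEq _ _ hsm2
      rw [e.isWeaklyRegular_congr, ← isWeaklyRegular_map_algebraMap_iff (T ⧸ IT) (T ⧸ IT)]
      have h3 : (rsB.map (algebraMap B T)).map (algebraMap T (T ⧸ IT)) =
          rs'.map (algebraMap (B ⧸ IB) (T ⧸ IT)) := hlist.symm
      rw [h3]
      exact hwr
  · have hK : RingHom.ker πB = (RingHom.ker σ').comap mB := by
      ext b
      rw [Ideal.mem_comap, RingHom.mem_ker, RingHom.mem_ker]
      exact (hkσ b).symm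
    have hmapL : ((RingHom.ker πB).map (algebraMap B T)).map mT =
        Ideal.ofList ((rsB.map (algebraMap B T)).map mT) := by
      rw [Ideal.map_map]
      have h1 : mT.comp (algebraMap B T) = (algebraMap (B ⧸ IB) (T ⧸ IT)).comp mB := rfl
      rw [h1, ← Ideal.map_map, hK, Ideal.map_comap_of_surjective mB hmB, hspan, hlist]
    have hker : Ideal.comap mT ⊥ = IT := by
      rw [← RingHom.ker_eq_comap_bot]
      exact Ideal.mk_ker
    have h2 : (RingHom.ker πB).map (algebraMap B T) =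
        Ideal.comap mT (((RingHom.ker πB).map (algebraMap B T)).map mT) := by
      rw [Ideal.comap_map_of_surjective mT hmT, hker]
      exact (sup_eq_left.2 hITle).symm
    rw [h2, hmapL, ← Ideal.map_ofList, Ideal.comap_map_of_surjective mT hmT, hker, hITfs,
      List.map_append, Ideal.ofList_append, sup_comm]

open Groth.Agent.Lib.Helper5.RegImmA Groth.Agent.Lib.Helper5.RegComp

theorem presheaf_map_bijective_of_le {S : Scheme.{u}} (U W : S.Opens) (e1 : U ≤ W) (e2 : W ≤ U) :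
    Function.Bijective (S.presheaf.map (homOfLE e1).op).hom := by
  obtain rfl : U = W := le_antisymm e1 e2
  have : S.presheaf.map (homOfLE e1).op = 𝟙 _ := by
    rw [show homOfLE e1 = 𝟙 U from rfl, op_id, S.presheaf.map_id]
  rw [this]
  exact Function.bijective_id

/-- a chart adapted to a factorisation of a closed immersion through a smooth morphism -/
theorem exists_affine_lift {X Y S : Scheme.{u}} (p : X ⟶ S) [Smooth p] (i : Y ⟶ X)
    [IsClosedImmersion i] [IsClosedImmersion (i ≫ p)] (y : Y) (U : S.Opens) (hyU : (i ≫ p) y ∈ U) :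
    ∃ (W : S.Opens) (V : X.Opens), IsAffineOpen W ∧ IsAffineOpen V ∧ i y ∈ V ∧ W ≤ U ∧
      ∃ (eV : V ≤ p ⁻¹ᵁ W) (_ : (i ≫ p) ⁻¹ᵁ W ≤ i ⁻¹ᵁ V), (p.appLE W V eV).hom.IsStandardSmooth := by
  obtain ⟨U₂, hU₂, V₂, hV₂, hxV₂, e₂, hstd⟩ := Smooth.exists_isStandardSmooth p (i y)
  have hyU₂ : (i ≫ p) y ∈ U₂ := e₂ hxV₂
  obtain ⟨O, hO, hOV⟩ := (i ≫ p).isEmbedding.isInducing.isOpen_iff.mp (i ⁻¹ᵁ V₂).isOpen
  have hyO : (i ≫ p) y ∈ O := by
    have : y ∈ (i ≫ p) ⁻¹' O := by rw [hOV]; exact hxV₂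
    exact this
  obtain ⟨r, hrW, hyr⟩ := hU₂.exists_basicOpen_le (V := (⟨O, hO⟩ ⊓ U) ⊓ U₂)
    ⟨(i ≫ p) y, ⟨⟨hyO, hyU⟩, hyU₂⟩⟩ hyU₂
  have eV : X.basicOpen (p.appLE U₂ V₂ e₂ r) ≤ p ⁻¹ᵁ S.basicOpen r := by
    simp [Scheme.Hom.appLE]
  have hVle : X.basicOpen (p.appLE U₂ V₂ e₂ r) = V₂ ⊓ p ⁻¹ᵁ S.basicOpen r := by
    simp [Scheme.Hom.appLE, Scheme.preimage_basicOpen]
  refine ⟨S.basicOpen r, X.basicOpen (p.appLE U₂ V₂ e₂ r), hU₂.basicOpen r, hV₂.basicOpen _,
    ?_, fun s hs => (hrW hs).1.2, eV, ?_, ?_⟩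
  · rw [hVle]
    exact ⟨hxV₂, hyr⟩
  · intro s hs
    rw [hVle]
    refine ⟨?_, hs⟩
    have h1 : (i ≫ p) s ∈ O := (hrW hs).1.1
    have h2 : s ∈ (i ≫ p) ⁻¹' O := h1
    rw [hOV] at h2
    exact h2
  · rw [IsAffineOpen.appLE_eq_away_map p hU₂ hV₂ e₂ r]
    have := hU₂.isLocalization_basicOpen r
    have := hV₂.isLocalization_basicOpen (p.appLE U₂ V₂ e₂ r)
    exact RingHom.isStandardSmooth_localizationPreserves.away _ r _ _ hstd

theorem lift_isRegularClosedImmersion {X Y S : Scheme.{u}} (p : X ⟶ S) [Smooth p] (i : Y ⟶ X)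
    (j : Y ⟶ S) [IsClosedImmersion i] [IsClosedImmersion j] (h : i ≫ p = j)
    (hj : Mor2.IsRegularClosedImmersion j) : Mor2.IsRegularClosedImmersion i := by
  subst h
  refine ⟨inferInstance, fun y => ?_⟩
  obtain ⟨-, hj'⟩ := hj
  obtain ⟨U, hU, hyU, fs, hfs, hkf⟩ := hj' y
  rw [Scheme.Hom.ker_apply] at hkf
  obtain ⟨W, V, hW, hV, hyV, hWU, eV, eW, hstd⟩ := exists_affine_lift p i y U hyU
  have hyW : (i ≫ p) y ∈ W := eV hyV
  have hn1 : Nontrivial Γ(Y, (i ≫ p) ⁻¹ᵁ W) := by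
    have : Nonempty ↥((i ≫ p) ⁻¹ᵁ W) := ⟨⟨y, hyW⟩⟩
    infer_instance
  obtain ⟨hf1, hk1⟩ := shrinkReg (i ≫ p) hU hW hWU fs hfs hkf hn1
  have hVW : i ⁻¹ᵁ V ≤ (i ≫ p) ⁻¹ᵁ W := fun s hs => eV hs
  have hbij := presheaf_map_bijective_of_le (i ⁻¹ᵁ V) ((i ≫ p) ⁻¹ᵁ W) hVW eW
  have hsurjW : Function.Surjective ((i ≫ p).app W).hom :=
    app_surjective_of_restrict (i ≫ p) hW
  have hπA : ∀ a, ((i ≫ p).appLE W (i ⁻¹ᵁ V) hVW).hom a =
      (Y.presheaf.map (homOfLE hVW).op).hom (((i ≫ p).app W).hom a) := fun a => rfl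
  have hsurjA : Function.Surjective ((i ≫ p).appLE W (i ⁻¹ᵁ V) hVW).hom := by
    intro c
    obtain ⟨c', rfl⟩ := hbij.2 c
    obtain ⟨a, rfl⟩ := hsurjW c'
    exact ⟨a, hπA a⟩
  have hkerA : RingHom.ker ((i ≫ p).appLE W (i ⁻¹ᵁ V) hVW).hom =
      RingHom.ker ((i ≫ p).app W).hom := by
    ext a
    rw [RingHom.mem_ker, RingHom.mem_ker, hπA]
    constructor
    · intro h
      apply hbij.1
      rw [h, map_zero]
    · intro h
      rw [h, map_zero]
  have hcomp : (i.app V).hom.comp (p.appLE W V eV).hom =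
      ((i ≫ p).appLE W (i ⁻¹ᵁ V) hVW).hom := by
    have h1 := Scheme.Hom.appLE_comp_appLE i p W V (i ⁻¹ᵁ V) eV le_rfl
    rw [← Scheme.Hom.app_eq_appLE] at h1
    exact congrArg CommRingCat.Hom.hom h1
  have hV' : IsAffineOpen (i ⁻¹ᵁ V) := hV.preimage i
  have hle := Groth.Agent.Lib.Helper5.Lci.ker_le_primeIdealOf i hV hV' y hyV
  obtain ⟨g, hg, rs, hT⟩ := exists_regular_lift (p.appLE W V eV).hom hstd
    ((i ≫ p).appLE W (i ⁻¹ᵁ V) hVW).hom hsurjA (i.app V).hom hcomp _ hf1.1 (hkerA.trans hk1)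
    (hV.primeIdealOf ⟨i y, hyV⟩).asIdeal hle
  have : IsClosedImmersion (i ∣_ V) := inferInstance
  obtain ⟨hU₁, hc₁, hz₁, loc₁, -, hk₁⟩ :=
    Groth.Agent.Lib.Helper5.RegSpreadSch.step i hV y hyV g hg
  obtain ⟨hwr, hspan⟩ := hT Γ(X, X.basicOpen g)
  refine ⟨X.basicOpen g, hU₁, hz₁, rs.map (algebraMap Γ(X, V) Γ(X, X.basicOpen g)), ?_, ?_⟩
  · apply isRegular_of_weaklyRegular_of_ne_top hwr
    rw [← hspan, ← hk₁]
    intro htop
    have h1 : (1 : Γ(X, X.basicOpen g)) ∈ RingHom.ker (i.app (X.basicOpen g)).hom := by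
      rw [htop]; trivial
    rw [RingHom.mem_ker, map_one] at h1
    have : Nontrivial Γ(Y, i ⁻¹ᵁ X.basicOpen g) := by
      have : Nonempty ↥(i ⁻¹ᵁ X.basicOpen g) := ⟨⟨y, hz₁⟩⟩
      infer_instance
    exact one_ne_zero h1
  · rw [Scheme.Hom.ker_apply, hk₁, hspan]

end Groth.Agent.Lib.Helper5.SecReg
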