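import Mathlib
import Groth.Prelude.Def_CAlgX
import Groth.Agent.Lib.Helper21.QRDescent

set_option autoImplicit false
universe u

namespace Groth.Agent.Lib.Helper5.SmDesc

open MvPolynomial Groth.Agent.Lib.Helper21.QRDescent

section H1

variable {R R' : Type u} [CommRing R] [CommRing R']

theorem h1_drop (φ : R →+* R') (hφ : Function.Surjective φ) {c m : ℕ} (f : Fin c → R)
    (g : Fin m → R) (hker : RingHom.ker φ = Ideal.span (Set.range g))
    (h : CAlgX.IsH1Regular (Fin.append f g)) : CAlgX.IsH1Regular (φ ∘ f) := by
  classical
  intro ab hab
  choose a ha using fun i => hφ (ab i)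
  have hmem : ∑ i, a i * f i ∈ RingHom.ker φ := by
    rw [RingHom.mem_ker, map_sum, ← hab]
    refine Finset.sum_congr rfl fun i _ => ?_
    rw [map_mul, ha]
    rfl
  rw [hker] at hmem
  obtain ⟨b, hb⟩ := (Ideal.mem_span_range_iff_exists_fun).1 hmem
  have hrel : ∑ k, (Fin.append a (fun j => - b j)) k * (Fin.append f g) k = 0 := by
    rw [Fin.sum_univ_add]
    simp only [Fin.append_left, Fin.append_right, neg_mul, Finset.sum_neg_distrib]
    rw [hb]
    ring
  have hspan := h _ hrel
  let G' : Set (Fin c → R') :=
    {v | ∃ i j : Fin c, v = Pi.single i ((φ ∘ f) j) - Pi.single j ((φ ∘ f) i)}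
  have hg0 : ∀ j, φ (g j) = 0 := fun j => by
    have : g j ∈ RingHom.ker φ := hker ▸ Ideal.subset_span ⟨j, rfl⟩
    exact this
  have hΦsingle_l : ∀ (i : Fin c) (y : R),
      (fun k : Fin c => φ ((Pi.single (Fin.castAdd m i) y : Fin (c + m) → R) (Fin.castAdd m k))) =
        Pi.single i (φ y) := by
    intro i y
    funext k
    by_cases hk : k = i
    · subst hk
      simp
    · have : Fin.castAdd m k ≠ Fin.castAdd m i := fun h => hk (Fin.castAdd_injective _ _ h)
      simp [Pi.single_apply, hk, this]
  have hΦsingle_r : ∀ (j : Fin m) (y : R),
      (fun k : Fin c => φ ((Pi.single (Fin.natAdd c j) y : Fin (c + m) → R) (Fin.castAdd m k))) =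
        0 := by
    intro j y
    funext k
    have : Fin.castAdd m k ≠ Fin.natAdd c j := by
      intro h
      have := congrArg Fin.val h
      simp at this
      omega
    simp [Pi.single_apply, this]
  have key : ∀ v ∈ Submodule.span R {v : Fin (c + m) → R | ∃ i j : Fin (c + m),
      v = Pi.single i ((Fin.append f g) j) - Pi.single j ((Fin.append f g) i)},
      (fun k : Fin c => φ (v (Fin.castAdd m k))) ∈ Submodule.span R' G' := by
    intro v hv
    refine Submodule.span_induction ?_ ?_ ?_ ?_ hv
    · rintro _ ⟨i, j, rfl⟩
      have hsub : ∀ (u w : Fin (c + m) → R),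
          (fun k : Fin c => φ ((u - w) (Fin.castAdd m k))) =
            (fun k : Fin c => φ (u (Fin.castAdd m k))) - (fun k : Fin c => φ (w (Fin.castAdd m k))) := by
        intro u w
        funext k
        simp
      rw [hsub]
      induction i using Fin.addCases with
      | left i =>
        induction j using Fin.addCases with
        | left j =>
          rw [hΦsingle_l, hΦsingle_l, Fin.append_left, Fin.append_left]
          exact Submodule.subset_span ⟨i, j, rfl⟩
        | right j =>
          rw [hΦsingle_l, hΦsingle_r, Fin.append_right, hg0, Pi.single_zero, sub_zero]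
          exact Submodule.zero_mem _
      | right i =>
        induction j using Fin.addCases with
        | left j =>
          rw [hΦsingle_r, hΦsingle_l, Fin.append_right, hg0, Pi.single_zero, sub_zero]
          exact Submodule.zero_mem _
        | right j =>
          rw [hΦsingle_r, hΦsingle_r, sub_zero]
          exact Submodule.zero_mem _
    · simp only [Pi.zero_apply, map_zero]
      exact Submodule.zero_mem _
    · intro u w _ _ hu hw
      have : (fun k : Fin c => φ ((u + w) (Fin.castAdd m k))) =
          (fun k : Fin c => φ (u (Fin.castAdd m k))) + (fun k : Fin c => φ (w (Fin.castAdd m k))) := by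
        funext k
        simp
      rw [this]
      exact Submodule.add_mem _ hu hw
    · intro r u _ hu
      have : (fun k : Fin c => φ ((r • u) (Fin.castAdd m k))) =
          φ r • (fun k : Fin c => φ (u (Fin.castAdd m k))) := by
        funext k
        simp
      rw [this]
      exact Submodule.smul_mem _ _ hu
  have := key _ hspan
  convert this using 1
  funext k
  simp [ha]

end H1

end Groth.Agent.Lib.Helper5.SmDesc
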