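import Mathlib
import Groth.Prelude.Def_CAlgX
import Groth.Agent.Lib.Helper21.QRDescent

set_option autoImplicit false
universe u

namespace Groth.Agent.Lib.Helper5.SmDesc

open MvPolynomial Groth.Agent.Lib.Helper21.QRDescent

section QR

variable {R R' : Type u} [CommRing R] [CommRing R']

/-- a form of degree `k` with coefficients in `J` takes values in `J^(k+1)` -/
theorem eval_mem_pow_succ {c : ℕ} (F : Fin c → R) (k : ℕ) (G : MvPolynomial (Fin c) R)
    (hG : G.IsHomogeneous k) (hc : ∀ d, G.coeff d ∈ Ideal.span (Set.range F)) :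
    eval F G ∈ Ideal.span (Set.range F) ^ (k + 1) := by
  rw [eval_eq]
  refine Ideal.sum_mem _ fun d hd => ?_
  rw [pow_succ']
  refine Ideal.mul_mem_mul (hc d) ?_
  rw [Ideal.mem_span_pow_iff_exists_isHomogeneous]
  refine ⟨monomial d 1, isHomogeneous_monomial _ ?_, ?_⟩
  · rw [Finsupp.degree_eq_weight_one]
    exact hG (mem_support_iff.1 hd)
  · rw [eval_monomial, one_mul]
    rfl

theorem mem_pow_of_mul_mem {c : ℕ} (x : R) (f : Fin c → R)
    (h : CAlgX.IsQuasiRegular (Fin.cons x f : Fin (c + 1) → R)) (n : ℕ) (r : R)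
    (hr : x * r ∈ Ideal.span (Set.range (Fin.cons x f : Fin (c + 1) → R)) ^ (n + 1)) :
    r ∈ Ideal.span (Set.range (Fin.cons x f : Fin (c + 1) → R)) ^ n := by
  classical
  set F : Fin (c + 1) → R := Fin.cons x f with hF
  set J := Ideal.span (Set.range F) with hJ
  have key : ∀ k, k ≤ n → r ∈ J ^ k := by
    intro k
    induction k with
    | zero => intro _; rw [pow_zero, Ideal.one_eq_top]; trivial
    | succ k ih =>
      intro hk
      have hrk := ih (by omega)
      obtain ⟨G, hG, hGr⟩ := (Ideal.mem_span_pow_iff_exists_isHomogeneous F r).1 hrk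
      have hX : (X 0 * G : MvPolynomial (Fin (c + 1)) R).IsHomogeneous (k + 1) := by
        have := (isHomogeneous_X R (0 : Fin (c + 1))).mul hG
        exact (add_comm 1 k) ▸ this
      have hev : eval F (X 0 * G) ∈ J ^ (k + 1 + 1) := by
        rw [map_mul, eval_X, hGr]
        have : F 0 = x := rfl
        rw [this]
        exact Ideal.pow_le_pow_right (by omega) hr
      have hco := h (k + 1) (X 0 * G) hX hev
      have hcoG : ∀ d, G.coeff d ∈ J := by
        intro d
        have := hco (Finsupp.single 0 1 + d)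
        rwa [coeff_X_mul] at this
      rw [← hGr]
      exact eval_mem_pow_succ F k G hG hcoG
  exact key n le_rfl

theorem exists_homogeneous_lift (φ : R →+* R') (hφ : Function.Surjective φ) {c : ℕ} (n : ℕ)
    (P' : MvPolynomial (Fin c) R') (hP' : P'.IsHomogeneous n) :
    ∃ P : MvPolynomial (Fin c) R, P.IsHomogeneous n ∧ map φ P = P' := by
  classical
  choose σ hσ using hφ
  refine ⟨∑ d ∈ P'.support, monomial d (σ (P'.coeff d)), ?_, ?_⟩
  · refine IsHomogeneous.sum _ _ _ fun d hd => isHomogeneous_monomial _ ?_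
    rw [Finsupp.degree_eq_weight_one]
    exact hP' (mem_support_iff.1 hd)
  · rw [map_sum]
    conv_rhs => rw [← support_sum_monomial_coeff P']
    refine Finset.sum_congr rfl fun d _ => ?_
    rw [map_monomial, hσ]

theorem qr_drop_one (φ : R →+* R') (hφ : Function.Surjective φ) {c : ℕ} (x : R) (f : Fin c → R)
    (hker : RingHom.ker φ = Ideal.span {x})
    (h : CAlgX.IsQuasiRegular (Fin.cons x f : Fin (c + 1) → R)) :
    CAlgX.IsQuasiRegular (φ ∘ f) := by
  classical
  set F : Fin (c + 1) → R := Fin.cons x f with hF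
  set J := Ideal.span (Set.range F) with hJ
  have hFs : F ∘ Fin.succ = f := by
    funext i
    simp [hF]
  have hx0 : φ x = 0 := by
    have : x ∈ RingHom.ker φ := hker ▸ Ideal.subset_span rfl
    exact this
  have hJ' : Ideal.span (Set.range (φ ∘ f)) = J.map φ := by
    apply le_antisymm
    · rw [Ideal.span_le]
      rintro _ ⟨i, rfl⟩
      exact Ideal.mem_map_of_mem φ (Ideal.subset_span ⟨i.succ, by simp [hF]⟩)
    · rw [Ideal.map_le_iff_le_comap, Ideal.span_le]
      rintro _ ⟨k, rfl⟩
      rw [SetLike.mem_coe, Ideal.mem_comap]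
      induction k using Fin.cases with
      | zero =>
        rw [show F 0 = x from rfl, hx0]
        exact zero_mem _
      | succ i =>
        rw [show F i.succ = f i from by simp [hF]]
        exact Ideal.subset_span ⟨i, rfl⟩
  intro n P' hP' hev d
  obtain ⟨P, hPhom, hPmap⟩ := exists_homogeneous_lift φ hφ n P' hP'
  set v := eval f P with hv
  have hφv : φ v = eval (φ ∘ f) P' := by rw [← hPmap, eval_comp_map]
  rw [hJ', ← Ideal.map_pow] at hev
  obtain ⟨u, hu, huv⟩ := (Ideal.mem_map_iff_of_surjective φ hφ).1 hev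
  have hvu : v - u ∈ RingHom.ker φ := by rw [RingHom.mem_ker, map_sub, hφv, huv, sub_self]
  rw [hker] at hvu
  obtain ⟨r, hr⟩ := Ideal.mem_span_singleton'.1 hvu
  have hvJ : v ∈ J ^ n := by
    rw [Ideal.mem_span_pow_iff_exists_isHomogeneous]
    exact ⟨rename Fin.succ P, hPhom.rename_isHomogeneous, by rw [eval_rename, hFs]⟩
  have hxJ : x ∈ J := Ideal.subset_span ⟨0, rfl⟩
  obtain ⟨G, hGhom, hGev, hGco⟩ : ∃ G : MvPolynomial (Fin (c + 1)) R, G.IsHomogeneous n ∧
      eval F G = x * r ∧ ∀ dd : Fin (c + 1) →₀ ℕ, dd 0 = 0 → G.coeff dd ∈ J := by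
    rcases n with _ | n
    · refine ⟨C (x * r), isHomogeneous_C _ _, eval_C _, ?_⟩
      intro dd _
      rw [coeff_C]
      split_ifs
      · exact Ideal.mul_mem_right _ _ hxJ
      · exact zero_mem _
    · have hxr : x * r ∈ J ^ (n + 1) := by
        have : x * r = v - u := by rw [← hr]; ring
        rw [this]
        exact Ideal.sub_mem _ hvJ (Ideal.pow_le_pow_right (by omega) hu)
      have hrn := mem_pow_of_mul_mem x f h n r hxr
      obtain ⟨G', hG', hG'r⟩ := (Ideal.mem_span_pow_iff_exists_isHomogeneous F r).1 hrn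
      refine ⟨X 0 * G', ?_, ?_, ?_⟩
      · exact (add_comm 1 n) ▸ (isHomogeneous_X R (0 : Fin (c + 1))).mul hG'
      · rw [map_mul, eval_X, hG'r]
        rfl
      · intro dd hdd
        rw [coeff_X_mul', if_neg]
        · exact zero_mem _
        · simp [hdd]
  have hPt : (rename Fin.succ P - G).IsHomogeneous n := hPhom.rename_isHomogeneous.sub hGhom
  have hevt : eval F (rename Fin.succ P - G) ∈ J ^ (n + 1) := by
    rw [map_sub, eval_rename, hGev, hFs]
    have : eval f P - x * r = u := by
      change v - x * r = u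
      rw [mul_comm, hr]
      ring
    rw [this]
    exact hu
  have hco := h n _ hPt hevt (d.mapDomain Fin.succ)
  rw [coeff_sub, coeff_rename_mapDomain _ (Fin.succ_injective _)] at hco
  have h0 : (d.mapDomain Fin.succ) 0 = 0 :=
    Finsupp.mapDomain_of_notMem_range _ _ (by simp [Fin.succ_ne_zero])
  have hPd : P.coeff d ∈ J := by
    have := Ideal.add_mem _ hco (hGco _ h0)
    simpa using this
  rw [← hPmap, coeff_map, hJ']
  exact Ideal.mem_map_of_mem φ hPd

end QR

end Groth.Agent.Lib.Helper5.SmDesc
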