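import Mathlib
import Groth.Agent.Lib.Helper5.SmDescA
import Groth.Agent.Lib.Helper5.SmDescB
import Groth.Agent.Lib.Helper5.SmDescC
import Groth.Agent.Lib.Helper5.KosH1C
import Groth.Agent.Lib.Helper5.FlatKind
import Groth.Agent.Lib.Helper26.QRegSpan
import Groth.Agent.Lib.Helper5.RegDescE

set_option autoImplicit false
universe u

namespace Groth.Agent.Lib.Helper5.SmDesc

open Groth.Agent.Lib.Helper5.SeqDesc Groth.Agent.Lib.Helper5.FlatKind
open Groth.Agent.Lib.Helper21.QRDescent Groth.Agent.Lib.Helper5.KosPerm
open Groth.Agent.Lib.Helper5.KosDesc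

theorem get_map_eq {R R' : Type u} (φ : R → R') (l : List R) (i : Fin l.length) :
    (φ ∘ l.get) i = (l.map φ).get (Fin.cast (List.length_map φ).symm i) := by
  simp only [Function.comp_apply, List.get_eq_getElem, Fin.val_cast, List.getElem_map]

theorem qr_list_eq {R : Type u} [CommRing R] {l l' : List R} (h : l = l')
    (hl : CAlgX.IsQuasiRegular l.get) : CAlgX.IsQuasiRegular l'.get := by
  subst h
  exact hl

/-- quasi-regular sequences as a `SeqProp` -/
noncomputable def quasiSeq : SeqProp.{u} where
  Q R _ l := CAlgX.IsQuasiRegular l.get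
  flat {R R'} _ _ φ hφ l hl := by
    let _ := φ.toAlgebra
    have : Module.Flat R R' := hφ
    exact qr_congr (List.length_map φ).symm _ _ (get_map_eq φ l) (qr_of_flat l.get hl)
  descent {R R'} _ _ φ hφ l hl := by
    let _ := φ.toAlgebra
    have : Module.FaithfullyFlat R R' := hφ
    apply qr_of_map φ l.get
    · exact le_of_eq (Ideal.comap_map_eq_self_of_faithfullyFlat (B := R') _)
    · exact qr_congr (List.length_map φ) _ _ (fun i => by
        rw [get_map_eq]
        congr 1) hl
  top l h := qr_of_span_eq_top l.get (by rw [← ofList_eq_span_range_get]; exact h)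
  loc l h := by
    apply qr_of_localization_maximal
    intro m _
    exact qr_congr (List.length_map _) _ _ (fun i => by
      rw [get_map_eq]
      congr 1) (h m)
  indep l a hl hlen hspan := by
    have h1 : CAlgX.IsQuasiRegular (fun i : Fin l.length => a.get (Fin.cast hlen.symm i)) := by
      apply Groth.Agent.Lib.Helper26.QRegSpan.main l.get _ hl
      rw [← ofList_eq_span_range_get, ← hspan, ofList_eq_span_range_get]
      congr 1
      exact (Fin.castOrderIso hlen.symm).surjective.range_comp a.get
    exact qr_congr hlen.symm _ _ (fun i => rfl) h1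
  rel l hl c hc i := by
    rw [ofList_eq_span_range_get]
    apply coeff_mem_of_qr l.get hl c
    rw [hc]
    exact zero_mem _

theorem kindIdeal_quasi_iff' {A : Type u} [CommRing A] (I : Ideal A) :
    Groth.Agent.Lib.Helper5.RegDesc.KindIdeal RegImm.Kind.quasi I ↔ quasiSeq.IsIdeal I := Iff.rfl

theorem append_get_eq {R : Type u} (f t : List R) (i : Fin (f.length + t.length)) :
    Fin.append f.get t.get i = (f ++ t).get (Fin.cast (List.length_append).symm i) := by
  induction i using Fin.addCases with
  | left i =>
    rw [Fin.append_left]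
    simp only [List.get_eq_getElem, Fin.val_cast, Fin.val_castAdd]
    rw [List.getElem_append_left]
  | right i =>
    rw [Fin.append_right]
    simp only [List.get_eq_getElem, Fin.val_cast, Fin.val_natAdd]
    rw [List.getElem_append_right (by omega)]
    congr 1
    omega

theorem h1_drop_list {R R' : Type u} [CommRing R] [CommRing R'] (φ : R →+* R')
    (hφ : Function.Surjective φ) (f t : List R) (hker : RingHom.ker φ = Ideal.ofList t)
    (h : CAlgX.IsH1Regular (f ++ t).get) : CAlgX.IsH1Regular (f.map φ).get := by
  have h1 : CAlgX.IsH1Regular (Fin.append f.get t.get) :=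
    h1_congr List.length_append _ _ (fun i => by
      rw [append_get_eq]
      congr 1) h
  have h2 := h1_drop φ hφ f.get t.get (by rw [hker, ofList_eq_span_range_get]) h1
  exact h1_congr (List.length_map φ).symm _ _ (get_map_eq φ f) h2

theorem qr_cons_of_append {R : Type u} [CommRing R] (f t : List R) (x : R)
    (h : CAlgX.IsQuasiRegular (f ++ x :: t).get) :
    CAlgX.IsQuasiRegular (Fin.cons x (f ++ t).get : Fin ((f ++ t).length + 1) → R) := by
  have hlen : (f ++ t).length + 1 = (f ++ x :: t).length := by
    simp only [List.length_append, List.length_cons]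
    omega
  have h1 : CAlgX.IsQuasiRegular (fun i : Fin ((f ++ t).length + 1) =>
      (f ++ x :: t).get (Fin.cast hlen i)) :=
    qr_congr hlen.symm _ _ (fun i => rfl) h
  apply Groth.Agent.Lib.Helper26.QRegSpan.main _ _ h1
  congr 1
  rw [Fin.range_cons, Set.range_list_get]
  have : Set.range (fun i : Fin ((f ++ t).length + 1) => (f ++ x :: t).get (Fin.cast hlen i)) =
      Set.range (f ++ x :: t).get :=
    (Fin.castOrderIso hlen).surjective.range_comp (f ++ x :: t).get
  rw [this, Set.range_list_get]
  ext y
  simp only [Set.mem_insert_iff, Set.mem_setOf_eq, List.mem_append, List.mem_cons]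
  tauto

theorem qr_drop_list_aux : ∀ (n : ℕ) (R : Type u) [CommRing R] (t : List R), t.length = n →
    ∀ (R' : Type u) [CommRing R'] (φ : R →+* R'), Function.Surjective φ →
    ∀ f : List R, RingHom.ker φ = Ideal.ofList t →
    CAlgX.IsQuasiRegular (f ++ t).get → CAlgX.IsQuasiRegular (f.map φ).get := by
  intro n
  induction n with
  | zero =>
    intro R _ t ht R' _ φ hφ f hker h
    have ht' : t = [] := List.length_eq_zero_iff.1 ht
    subst ht'
    rw [Ideal.ofList_nil] at hker
    have hinj : Function.Injective φ := (RingHom.injective_iff_ker_eq_bot φ).2 hker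
    let e : R ≃+* R' := RingEquiv.ofBijective φ ⟨hinj, hφ⟩
    have h1 : CAlgX.IsQuasiRegular f.get := qr_list_eq (List.append_nil f) h
    have h2 := qr_ringEquiv e f.get h1
    exact qr_congr (List.length_map φ).symm _ _ (get_map_eq φ f) h2
  | succ n ih =>
    intro R _ t ht R' _ φ hφ f hker h
    obtain ⟨x, t', rfl⟩ := List.exists_cons_of_length_eq_add_one ht
    have ht' : t'.length = n := by simpa using ht
    have hx : ∀ a : R, a ∈ Ideal.span {x} → φ a = 0 := by
      intro a ha
      have : a ∈ RingHom.ker φ := by
        rw [hker, Ideal.ofList_cons]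
        exact Ideal.mem_sup_left ha
      exact this
    let π₁ : R →+* R ⧸ Ideal.span {x} := Ideal.Quotient.mk _
    let φ₁ : R ⧸ Ideal.span {x} →+* R' := Ideal.Quotient.lift _ φ hx
    have hφ₁ : Function.Surjective φ₁ := Ideal.Quotient.lift_surjective_of_surjective _ hx hφ
    have hπx : π₁ x = 0 := Ideal.Quotient.eq_zero_iff_mem.2 (Ideal.subset_span rfl)
    have hker₁ : RingHom.ker φ₁ = Ideal.ofList (t'.map π₁) := by
      rw [Ideal.ker_quotient_lift, hker, Ideal.map_ofList, List.map_cons, Ideal.ofList_cons]
      change Ideal.span {π₁ x} ⊔ Ideal.ofList (t'.map π₁) = _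
      rw [hπx]
      simp
    have h₁ := qr_cons_of_append f t' x h
    have h₂ := qr_drop_one π₁ Ideal.Quotient.mk_surjective x (f ++ t').get Ideal.mk_ker h₁
    have h₃ : CAlgX.IsQuasiRegular (f.map π₁ ++ t'.map π₁).get := by
      have h4 := qr_congr (List.length_map π₁).symm _ _ (get_map_eq π₁ (f ++ t')) h₂
      exact qr_list_eq List.map_append h4
    have h₅ := ih (R ⧸ Ideal.span {x}) (t'.map π₁) (by rw [List.length_map, ht']) R' φ₁ hφ₁
      (f.map π₁) hker₁ h₃
    refine qr_list_eq ?_ h₅
    rw [List.map_map]
    apply List.map_congr_left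
    intro a _
    exact Ideal.Quotient.lift_mk _ φ hx

theorem drop_quasi : Drop quasiSeq.{u} := by
  intro R R' _ _ φ hφ f t hker h
  exact qr_drop_list_aux t.length R t rfl R' φ hφ f hker h

theorem drop_h1 : Drop Groth.Agent.Lib.Helper5.KosH1.h1Seq.{u} := by
  intro R R' _ _ φ hφ f t hker h
  exact (Groth.Agent.Lib.Helper5.KosH1.isH1Regular_iff_isZero _).1
    (h1_drop_list φ hφ f t hker ((Groth.Agent.Lib.Helper5.KosH1.isH1Regular_iff_isZero _).2 h))

end Groth.Agent.Lib.Helper5.SmDesc
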