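import Mathlib
import Groth.Agent.Lib.Helper5.SeqDescA

/-!
# Pointwise descent along a flat ring map with open spectrum map
-/

set_option autoImplicit false
universe u

namespace Groth.Agent.Lib.Helper5.SmDesc

open Groth.Agent.Lib.Helper5.SeqDesc Groth.Agent.Lib.Helper5.KosPerm
open Groth.Agent.Lib.Helper5.KosDesc Groth.Agent.Lib.Helper21.QRDescent

variable (S : SeqProp.{u})
variable {A B : Type u} [CommRing A] [CommRing B] [Algebra A B]

attribute [local instance] Localization.AtPrime.algebraOfLiesOver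

theorem exists_away_of_flat [Module.Flat A B]
    (hopen : IsOpenMap (PrimeSpectrum.comap (algebraMap A B)))
    (I : Ideal A) (hIfg : I.FG) (h : S.IsIdeal (Ideal.map (algebraMap A B) I))
    (P : Ideal A) [hPprime : P.IsPrime] (Q : Ideal B) [hQprime : Q.IsPrime] [hQP : Q.LiesOver P]
    (hIP : I ≤ P) :
    ∃ g : A, g ∉ P ∧ ∃ l : List (Localization.Away g), S.Q (Localization.Away g) l ∧
      I.map (algebraMap A (Localization.Away g)) = Ideal.ofList l := by
  classical
  obtain ⟨m, b, hb⟩ : ∃ (m : ℕ) (b : Fin m → A), Ideal.span (Set.range b) = I := by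
    obtain ⟨t, ht⟩ := hIfg
    refine ⟨t.card, fun i => (t.equivFin.symm i : A), ?_⟩
    rw [← ht]
    congr 1
    ext x
    simp only [Set.mem_range, Finset.mem_coe]
    constructor
    · rintro ⟨i, rfl⟩; exact (t.equivFin.symm i).2
    · intro hx; exact ⟨t.equivFin ⟨x, hx⟩, by simp⟩
  have hJQ : I.map (algebraMap A B) ≤ Q := by
    rw [Ideal.map_le_iff_le_comap]
    exact hIP.trans (le_of_eq (Ideal.LiesOver.over (p := P) (P := Q)))
  obtain ⟨g0, hg0, l0, hl0, hl0span⟩ := h ⟨Q, hQprime⟩ hJQ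
  obtain ⟨lQ, hlQ, -, hlQspan⟩ := atPrime_of_away S _ g0 l0 hl0 hl0span Q hg0
  set s := lQ.length with hs
  let γQ : Fin s → Localization.AtPrime Q := lQ.get
  have hγspan : Ideal.span (Set.range γQ) = Ideal.ofList lQ :=
    (ofList_eq_span_range_get lQ).symm
  have hbQ : Ideal.span (Set.range (algebraMap A (Localization.AtPrime Q) ∘ b)) =
      Ideal.span (Set.range γQ) := by
    rw [span_range_comp, hb, hγspan, hlQspan, Ideal.map_map, ← IsScalarTower.algebraMap_eq]
  have hLmax : Ideal.span (Set.range γQ) ≤ IsLocalRing.maximalIdeal (Localization.AtPrime Q) := by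
    rw [hγspan, hlQspan, ← Localization.AtPrime.map_eq_maximalIdeal]
    exact Ideal.map_mono hJQ
  have hrel : ∀ c : Fin s → Localization.AtPrime Q, ∑ k, c k * γQ k = 0 →
      ∀ k, c k ∈ Ideal.span (Set.range γQ) := by
    intro c hc k
    rw [hγspan]
    exact S.rel lQ hlQ c hc k
  obtain ⟨e, hespan⟩ := exists_sub_of_rel γQ hrel hLmax _ hbQ
  let a : Fin s → A := b ∘ e
  have ha : ∀ i, a i ∈ I := fun i => hb ▸ Ideal.subset_span ⟨e i, rfl⟩
  have hΦ : S.Q (Localization.AtPrime Q)
      (List.ofFn (algebraMap A (Localization.AtPrime Q) ∘ a)) := by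
    apply S.indep lQ _ hlQ
    · rw [List.length_ofFn]
    · rw [ofList_ofFn, ← hγspan]
      exact hespan
  have hex : ∀ i, ∃ t : A, t ∉ P ∧ t * b i ∈ Ideal.span (Set.range a) := by
    intro i
    have h1 : algebraMap A (Localization.AtPrime Q) (b i) ∈
        (Ideal.span (Set.range a)).map (algebraMap A (Localization.AtPrime Q)) := by
      rw [← span_range_comp]
      change _ ∈ Ideal.span (Set.range ((algebraMap A (Localization.AtPrime Q) ∘ b) ∘ e))
      rw [hespan, ← hbQ]
      exact Ideal.subset_span ⟨i, rfl⟩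
    have h2 := Groth.Agent.S9252.mem_map_atPrime_of_mem_map _ P Q _ h1
    rw [IsLocalization.mem_map_algebraMap_iff P.primeCompl] at h2
    obtain ⟨⟨x, t⟩, hxt⟩ := h2
    rw [← map_mul] at hxt
    obtain ⟨c, hc⟩ := (IsLocalization.eq_iff_exists P.primeCompl _).1 hxt
    refine ⟨c * t, fun hmem => ?_, ?_⟩
    · exact (Submonoid.mul_mem _ c.2 t.2) hmem
    · have : (c : A) * (t : A) * b i = c * (x : A) := by
        rw [mul_assoc, mul_comm (t : A), hc]
      rw [this]
      exact Ideal.mul_mem_left _ _ x.2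
  choose t ht htb using hex
  let h0 : A := ∏ i, t i
  have hh0 : h0 ∉ P := by
    intro hmem
    obtain ⟨i, -, hi⟩ := (Ideal.IsPrime.prod_mem_iff).1 hmem
    exact ht i hi
  have hgen : ∀ x ∈ I, h0 * x ∈ Ideal.span (Set.range a) := by
    intro x hx
    rw [← hb] at hx
    obtain ⟨c, rfl⟩ := (Ideal.mem_span_range_iff_exists_fun).1 hx
    rw [Finset.mul_sum]
    refine Ideal.sum_mem _ fun i _ => ?_
    have : h0 * (c i * b i) = (c i * ∏ j ∈ Finset.univ.erase i, t j) * (t i * b i) := by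
      simp only [h0]
      rw [← Finset.mul_prod_erase Finset.univ t (Finset.mem_univ i)]
      ring
    rw [this]
    exact Ideal.mul_mem_left _ _ (htb i)
  have hW := isOpen_W S (B := B) I h a ha h0 hgen
  have hU := hopen _ hW
  have hQW : (⟨Q, hQprime⟩ : PrimeSpectrum B) ∈ {Q' : PrimeSpectrum B |
      algebraMap A B h0 ∉ Q'.asIdeal ∧ S.Q (Localization.AtPrime Q'.asIdeal)
        (List.ofFn (algebraMap A (Localization.AtPrime Q'.asIdeal) ∘ a))} := by
    refine ⟨fun hmem => hh0 ?_, hΦ⟩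
    rw [Ideal.LiesOver.over (p := P) (P := Q)]
    exact hmem
  have hPU : (⟨P, hPprime⟩ : PrimeSpectrum A) ∈ PrimeSpectrum.comap (algebraMap A B) ''
      {Q' : PrimeSpectrum B | algebraMap A B h0 ∉ Q'.asIdeal ∧
        S.Q (Localization.AtPrime Q'.asIdeal)
          (List.ofFn (algebraMap A (Localization.AtPrime Q'.asIdeal) ∘ a))} := by
    refine ⟨⟨Q, hQprime⟩, hQW, ?_⟩
    apply PrimeSpectrum.ext
    exact (Ideal.LiesOver.over (p := P) (P := Q)).symm
  obtain ⟨_, ⟨h1, rfl⟩, hP1, hsub⟩ :=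
    PrimeSpectrum.isTopologicalBasis_basic_opens.exists_subset_of_mem_open hPU hU
  have hh1 : h1 ∉ P := hP1
  refine ⟨h1 * h0, fun hmem => (Ideal.IsPrime.mem_or_mem hPprime hmem).elim hh1 hh0,
    List.ofFn (algebraMap A (Localization.Away (h1 * h0)) ∘ a), ?_, ?_⟩
  · apply away_of_forall S
    intro P' _ hP'
    have h1' : h1 ∉ P' := fun hm => hP' (Ideal.mul_mem_right _ _ hm)
    obtain ⟨Q', ⟨-, hQ'⟩, hQP'⟩ := hsub (show (⟨P', inferInstance⟩ : PrimeSpectrum A) ∈
      (PrimeSpectrum.basicOpen h1 : Set (PrimeSpectrum A)) from h1')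
    have hover : Q'.asIdeal.LiesOver P' := ⟨by
      have := congrArg PrimeSpectrum.asIdeal hQP'
      exact this.symm⟩
    exact (atPrime_iff S a P' Q'.asIdeal).1 hQ'
  · rw [ofList_ofFn]
    symm
    apply Groth.Agent.S9252.span_eq_map_of_isUnit I a ha h0 hgen
    have hu : IsUnit (algebraMap A (Localization.Away (h1 * h0)) (h1 * h0)) :=
      IsLocalization.Away.algebraMap_isUnit _
    rw [map_mul] at hu
    exact isUnit_of_mul_isUnit_right hu

end Groth.Agent.Lib.Helper5.SmDesc
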