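import Mathlib
import Groth.Agent.Lib.Helper5.LciE

set_option autoImplicit false
universe u

namespace Groth.Agent.Lib.Helper5.SmDesc

open MvPolynomial TensorProduct

section Deriv

variable {A B : Type u} [CommRing A] [CommRing B] [Algebra A B] {d : ℕ}
  [Algebra (MvPolynomial (Fin d) A) B] [IsScalarTower A (MvPolynomial (Fin d) A) B]
  [Algebra.FormallyEtale (MvPolynomial (Fin d) A) B]

theorem exists_derivation (k : Fin d) :
    ∃ D : Derivation A B B, ∀ j : Fin d,
      D (algebraMap (MvPolynomial (Fin d) A) B (X j)) = if j = k then 1 else 0 := by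
  classical
  let P := MvPolynomial (Fin d) A
  let e := KaehlerDifferential.tensorKaehlerEquivOfFormallyEtale A P B
  let c : Ω[P⁄A] →ₗ[P] P :=
    (Finsupp.lapply k).comp (KaehlerDifferential.mvPolynomialBasis A (Fin d)).repr.toLinearMap
  let c' : Ω[P⁄A] →ₗ[P] B := (Algebra.linearMap P B).comp c
  let ℓ : B ⊗[P] Ω[P⁄A] →ₗ[B] B := LinearMap.liftBaseChange B c'
  refine ⟨(ℓ.comp e.symm.toLinearMap).compDer (KaehlerDifferential.D A B), fun j => ?_⟩
  change ℓ (e.symm (KaehlerDifferential.D A B (algebraMap P B (X j)))) = _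
  rw [KaehlerDifferential.tensorKaehlerEquivOfFormallyEtale_symm_D_algebraMap,
    LinearMap.liftBaseChange_tmul, one_smul]
  change algebraMap P B ((KaehlerDifferential.mvPolynomialBasis A (Fin d)).repr
    (KaehlerDifferential.D A P (X j)) k) = _
  rw [KaehlerDifferential.mvPolynomialBasis_repr_apply, pderiv_X, Pi.single_apply]
  by_cases h : j = k
  · rw [if_pos h, if_pos h, map_one]
  · rw [if_neg h, if_neg h, map_zero]

theorem indep_of_etale (a : Fin d → A) (q K : Ideal B) (hKq : K ≤ q)
    (hK : ∀ i, algebraMap (MvPolynomial (Fin d) A) B (X i - C (a i)) ∈ K)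
    (c : Fin d → B)
    (hc : ∑ k, c k * algebraMap (MvPolynomial (Fin d) A) B (X k - C (a k)) ∈ q * K) :
    ∀ k, c k ∈ q := by
  classical
  intro i
  obtain ⟨D, hD⟩ := exists_derivation (A := A) (B := B) i
  have hDt : ∀ k, D (algebraMap (MvPolynomial (Fin d) A) B (X k - C (a k))) =
      if k = i then 1 else 0 := by
    intro k
    rw [map_sub, map_sub, hD]
    have : algebraMap (MvPolynomial (Fin d) A) B (C (a k)) = algebraMap A B (a k) := by
      rw [← MvPolynomial.algebraMap_eq, ← IsScalarTower.algebraMap_apply]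
    rw [this, D.map_algebraMap, sub_zero]
  have h1 : D (∑ k, c k * algebraMap (MvPolynomial (Fin d) A) B (X k - C (a k))) ∈ q :=
    Groth.Agent.Lib.Helper5.Lci.derivation_mem_of_mem_mul (D.restrictScalars ℤ) q K hKq _ hc
  have h2 : D (∑ k, c k * algebraMap (MvPolynomial (Fin d) A) B (X k - C (a k))) =
      c i + ∑ k, algebraMap (MvPolynomial (Fin d) A) B (X k - C (a k)) * D (c k) := by
    rw [map_sum]
    simp only [Derivation.leibniz, hDt, smul_eq_mul]
    rw [Finset.sum_add_distrib]
    congr 1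
    rw [Finset.sum_eq_single i]
    · simp
    · intro k _ hk
      simp [hk]
    · simp
  rw [h2] at h1
  have h3 : ∑ k, algebraMap (MvPolynomial (Fin d) A) B (X k - C (a k)) * D (c k) ∈ q :=
    Ideal.sum_mem _ fun k _ => Ideal.mul_mem_right _ _ (hKq (hK k))
  exact (Ideal.add_mem_iff_left _ h3).1 h1

end Deriv

end Groth.Agent.Lib.Helper5.SmDesc
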