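import Mathlib
import Groth.Agent.Lib.Helper5.SmDescA
import Groth.Agent.Lib.Helper5.SecRegA
import Groth.Agent.Lib.Helper5.LciH

set_option autoImplicit false
universe u

namespace Groth.Agent.Lib.Helper5.SmDesc

open MvPolynomial TensorProduct Groth.Agent.Lib.Helper5.SeqDesc Groth.Agent.Lib.Helper5.Lci

section Idem

/-- for an etale algebra `D` over `A` and a ring map `τ : D → T` with `A → T` surjective, the
kernel of `τ` is generated, modulo the kernel of `A → T`, by an idempotent. -/
theorem exists_idem_of_etale {A D T : Type u} [CommRing A] [CommRing D] [CommRing T]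
    [Algebra A D] [Algebra.Etale A D] (τ : D →+* T)
    (hτ : Function.Surjective (τ.comp (algebraMap A D))) :
    ∃ e ∈ RingHom.ker τ, ∀ z ∈ RingHom.ker τ,
      (1 - e) * z ∈ (RingHom.ker (τ.comp (algebraMap A D))).map (algebraMap A D) := by
  set I : Ideal A := RingHom.ker (τ.comp (algebraMap A D)) with hI
  set L : Ideal D := I.map (algebraMap A D) with hL
  let eq : (D ⧸ L) ≃ₐ[A ⧸ I] (A ⧸ I) ⊗[A] D :=
    Algebra.TensorProduct.quotIdealMapEquivQuotTensor D I
  have hEt : Algebra.Etale (A ⧸ I) (D ⧸ L) :=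
    Algebra.Etale.of_equiv (A := (A ⧸ I) ⊗[A] D) (B := D ⧸ L) eq.symm
  have hLτ : ∀ x ∈ L, τ x = 0 := by
    intro x hx
    have : L ≤ RingHom.ker τ := by
      rw [hL, Ideal.map_le_iff_le_comap]
      intro y hy
      exact hy
    exact this hx
  let τb : (D ⧸ L) →+* T := Ideal.Quotient.lift L τ hLτ
  have hτmk : ∀ x : D, τb (Ideal.Quotient.mk L x) = τ x := fun x => Ideal.Quotient.lift_mk L τ _
  have hτb : Function.Surjective τb := by
    intro y
    obtain ⟨a, ha⟩ := hτ y
    exact ⟨Ideal.Quotient.mk L (algebraMap A D a), by rw [hτmk]; exact ha⟩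
  have hcomp : ∀ a : A, τb (algebraMap (A ⧸ I) (D ⧸ L) (Ideal.Quotient.mk I a)) =
      τ (algebraMap A D a) := by
    intro a
    have h1 : algebraMap (A ⧸ I) (D ⧸ L) (Ideal.Quotient.mk I a) =
        Ideal.Quotient.mk L (algebraMap A D a) := rfl
    rw [h1, hτmk]
  have hb : Function.Bijective (τb.comp (algebraMap (A ⧸ I) (D ⧸ L))) := by
    constructor
    · rw [injective_iff_map_eq_zero]
      intro x hx
      obtain ⟨a, rfl⟩ := Ideal.Quotient.mk_surjective x
      rw [RingHom.comp_apply, hcomp] at hx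
      exact Ideal.Quotient.eq_zero_iff_mem.2 hx
    · intro y
      obtain ⟨a, ha⟩ := hτ y
      exact ⟨Ideal.Quotient.mk I a, by rw [RingHom.comp_apply, hcomp]; exact ha⟩
  obtain ⟨ē, hē, hker⟩ := Groth.Agent.Lib.Helper5.SecReg.ker_eq_span_idempotent τb hτb hb
  obtain ⟨e, rfl⟩ := Ideal.Quotient.mk_surjective ē
  refine ⟨e, ?_, ?_⟩
  · have h1 : Ideal.Quotient.mk L e ∈ RingHom.ker τb := by
      rw [hker]
      exact Ideal.subset_span rfl
    rw [RingHom.mem_ker, hτmk] at h1
    exact h1
  · intro z hz
    have h1 : Ideal.Quotient.mk L z ∈ Ideal.span {Ideal.Quotient.mk L e} := by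
      rw [← hker, RingHom.mem_ker, hτmk]
      exact hz
    obtain ⟨t, ht⟩ := Ideal.mem_span_singleton'.1 h1
    rw [← Ideal.Quotient.eq_zero_iff_mem, map_mul, map_sub, map_one, ← ht]
    have h2 : Ideal.Quotient.mk L e * Ideal.Quotient.mk L e = Ideal.Quotient.mk L e := hē
    linear_combination (-t) * h2

end Idem

section Away

variable (S : SeqProp.{u}) {T : Type u} [CommRing T]

theorem isIdeal_map_away (J : Ideal T) (hJ : S.IsIdeal J) (h : T) :
    S.IsIdeal (J.map (algebraMap T (Localization.Away h))) := by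
  rintro ⟨Q', hQ'prime⟩ hJQ'
  have hJQ' : J.map (algebraMap T (Localization.Away h)) ≤ Q' := hJQ'
  set Q : Ideal T := Q'.comap (algebraMap T (Localization.Away h)) with hQ
  have hJQ : J ≤ Q := Ideal.map_le_iff_le_comap.1 hJQ'
  obtain ⟨g, hg, a, -, haQ, haspan⟩ := exists_global_gens S J hJ Q hJQ
  have hQ1 : S.Q (Localization.Away (g * h)) (a.map (algebraMap T (Localization.Away (g * h)))) := by
    apply q_away_of_forall_atPrime
    intro q' _ hq'
    exact q_atPrime_of_away S a g haQ q' (fun hm => hq' (Ideal.mul_mem_right _ _ hm))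
  have hsp1 : J.map (algebraMap T (Localization.Away (g * h))) =
      Ideal.ofList (a.map (algebraMap T (Localization.Away (g * h)))) :=
    map_eq_ofList_of_isUnit J a g haspan _ (isUnit_algebraMap_away_mul_left g h)
  refine ⟨algebraMap T (Localization.Away h) g, fun hm => hg hm,
    (a.map (algebraMap T (Localization.Away h))).map
      (algebraMap (Localization.Away h)
        (Localization.Away (algebraMap T (Localization.Away h) g))), ?_, ?_⟩
  · rw [← map_awayAwayEquiv]
    exact S.ringEquiv (awayAwayEquiv h g).toRingEquiv _ hQ1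
  · rw [← map_awayAwayEquiv]
    have hcoe : ∀ L : List (Localization.Away (g * h)),
        L.map (awayAwayEquiv h g) =
          L.map (((awayAwayEquiv h g).toRingEquiv : Localization.Away (g * h) →+* _)) :=
      fun L => rfl
    rw [hcoe, ← Ideal.map_ofList, ← hsp1, Ideal.map_map, Ideal.map_map]
    congr 1
    ext x
    simp only [RingHom.comp_apply]
    rw [← IsScalarTower.algebraMap_apply]
    exact ((awayAwayEquiv h g).commutes x).symm

end Away

end Groth.Agent.Lib.Helper5.SmDesc
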