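import Mathlib
import Groth.Agent.Lib.Helper5.SmDescE
import Groth.Agent.Lib.Helper5.SmDescF
import Groth.Agent.Lib.Helper5.SmDescG

set_option autoImplicit false
universe u

namespace Groth.Agent.Lib.Helper5.SmDesc

open MvPolynomial TensorProduct Groth.Agent.Lib.Helper5.SeqDesc Groth.Agent.Lib.Helper5.Lci
open Groth.Agent.Lib.Helper5.KosDesc

section Et

variable {A B : Type u} [CommRing A] [CommRing B] [Algebra A B] {d : ℕ}
  [Algebra (MvPolynomial (Fin d) A) B] [IsScalarTower A (MvPolynomial (Fin d) A) B]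
  [Algebra.Etale (MvPolynomial (Fin d) A) B]

theorem etale_quotient_aeval (a : Fin d → A) :
    Algebra.Etale A (B ⧸ (RingHom.ker (aeval a : MvPolynomial (Fin d) A →ₐ[A] A)).map
      (algebraMap (MvPolynomial (Fin d) A) B)) := by
  set P := MvPolynomial (Fin d) A with hP
  set J : Ideal P := RingHom.ker (aeval a : P →ₐ[A] A) with hJ
  have hsurj : Function.Surjective (aeval a : P →ₐ[A] A) := fun x => ⟨C x, by simp⟩
  let e1 : (P ⧸ J) ≃ₐ[A] A := Ideal.quotientKerAlgEquivOfSurjective hsurj
  have h1 : Algebra.Etale A (P ⧸ J) := Algebra.Etale.of_equiv e1.symm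
  let eq : (B ⧸ J.map (algebraMap P B)) ≃ₐ[P ⧸ J] (P ⧸ J) ⊗[P] B :=
    Algebra.TensorProduct.quotIdealMapEquivQuotTensor B J
  have h2 : Algebra.Etale (P ⧸ J) (B ⧸ J.map (algebraMap P B)) :=
    Algebra.Etale.of_equiv (A := (P ⧸ J) ⊗[P] B) eq.symm
  have h3 : IsScalarTower A (P ⧸ J) (B ⧸ J.map (algebraMap P B)) := by
    refine ⟨fun x y z => ?_⟩
    obtain ⟨p, rfl⟩ := Ideal.Quotient.mk_surjective y
    obtain ⟨b, rfl⟩ := Ideal.Quotient.mk_surjective z
    change Ideal.Quotient.mk _ ((x • p) • b) = Ideal.Quotient.mk _ (x • (p • b))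
    rw [smul_assoc]
  exact Algebra.Etale.comp A (P ⧸ J) _

end Et

set_option maxHeartbeats 1600000 in
set_option synthInstance.maxHeartbeats 200000 in
/-- **Descent through a smooth chart.** -/
theorem exists_away_of_etale (S : SeqProp.{u}) (hdrop : Drop S)
    {A B : Type u} [CommRing A] [CommRing B] [Algebra A B] (d : ℕ)
    [Algebra (MvPolynomial (Fin d) A) B] [IsScalarTower A (MvPolynomial (Fin d) A) B]
    [Algebra.Etale (MvPolynomial (Fin d) A) B]
    (K : Ideal B) (hsurj : ∀ b : B, ∃ a : A, b - algebraMap A B a ∈ K)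
    (hK : S.IsIdeal K) (q : Ideal B) [hqprime : q.IsPrime] (hKq : K ≤ q) :
    ∃ g : A, g ∉ q.comap (algebraMap A B) ∧ ∃ l : List (Localization.Away g),
      S.Q (Localization.Away g) l ∧
      (K.comap (algebraMap A B)).map (algebraMap A (Localization.Away g)) = Ideal.ofList l := by
  classical
  set P := MvPolynomial (Fin d) A with hP
  choose a ha using fun i : Fin d => hsurj (algebraMap P B (X i))
  set J : Ideal P := RingHom.ker (aeval a : P →ₐ[A] A) with hJdef
  have hJ : J = Ideal.span (Set.range fun i => (X i - C (a i) : P)) := ker_aeval_eq_span a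
  set Jb : Ideal B := J.map (algebraMap P B) with hJb
  let π : B →+* B ⧸ Jb := Ideal.Quotient.mk Jb
  let f : Fin d → B := fun i => algebraMap P B (X i - C (a i))
  let t : List B := List.ofFn f
  have hCa : ∀ i, algebraMap P B (C (a i)) = algebraMap A B (a i) := by
    intro i
    rw [← MvPolynomial.algebraMap_eq, ← IsScalarTower.algebraMap_apply]
  have htK : ∀ i, f i ∈ K := by
    intro i
    change algebraMap P B (X i - C (a i)) ∈ K
    rw [map_sub, hCa]
    exact ha i
  have hJbspan : Jb = Ideal.span (Set.range f) := by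
    rw [hJb, hJ, Ideal.map_span, ← Set.range_comp]
    rfl
  have hker : RingHom.ker π = Ideal.ofList t := by
    rw [Ideal.mk_ker, hJbspan, ofList_ofFn]
  have hJbK : Jb ≤ K := by
    rw [hJbspan, Ideal.span_le]
    rintro _ ⟨i, rfl⟩
    exact htK i
  have hlen : t.length = d := List.length_ofFn
  have hind : ∀ (q' : Ideal B) [q'.IsPrime], K ≤ q' → ∀ c : Fin t.length → B,
      ∑ k, c k * t.get k ∈ q' * K → ∀ k, c k ∈ q' := by
    intro q' _ hKq' c hc k
    have h1 := indep_of_etale (A := A) a q' K hKq' htK (fun i => c (Fin.cast hlen.symm i)) (by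
      convert hc using 1
      refine Fintype.sum_equiv (finCongr hlen.symm) _ _ (fun i => ?_)
      change c (Fin.cast hlen.symm i) * f i = c (Fin.cast hlen.symm i) * t.get (Fin.cast hlen.symm i)
      congr 1
      simp [t]) (Fin.cast hlen k)
    simpa using h1
  have htK' : ∀ x ∈ t, x ∈ K := by
    intro x hx
    obtain ⟨i, rfl⟩ := (List.mem_ofFn' f x).1 hx
    exact htK i
  have hKD : S.IsIdeal (K.map π) :=
    isIdeal_map_of_cancel S hdrop π Ideal.Quotient.mk_surjective K hK t htK' hker hind
  have hEt : Algebra.Etale A (B ⧸ Jb) := etale_quotient_aeval a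
  let τ : (B ⧸ Jb) →+* B ⧸ K := Ideal.Quotient.lift Jb (Ideal.Quotient.mk K)
    (fun x hx => Ideal.Quotient.eq_zero_iff_mem.2 (hJbK hx))
  have hτker : RingHom.ker τ = K.map π := by
    rw [Ideal.ker_quotient_lift, Ideal.mk_ker]
  have hτA : ∀ x : A, τ (algebraMap A (B ⧸ Jb) x) = Ideal.Quotient.mk K (algebraMap A B x) :=
    fun x => rfl
  have hτsurj : Function.Surjective (τ.comp (algebraMap A (B ⧸ Jb))) := by
    intro y
    obtain ⟨b, rfl⟩ := Ideal.Quotient.mk_surjective y
    obtain ⟨a', ha'⟩ := hsurj b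
    refine ⟨a', ?_⟩
    rw [RingHom.comp_apply, hτA]
    symm
    rw [Ideal.Quotient.eq]
    exact ha'
  have hI : RingHom.ker (τ.comp (algebraMap A (B ⧸ Jb))) = K.comap (algebraMap A B) := by
    ext x
    rw [RingHom.mem_ker, Ideal.mem_comap, RingHom.comp_apply, hτA]
    exact Ideal.Quotient.eq_zero_iff_mem
  obtain ⟨e, he, hez⟩ := exists_idem_of_etale τ hτsurj
  rw [hI] at hez
  rw [hτker] at he hez
  set I := K.comap (algebraMap A B) with hIdef
  have hkerq : RingHom.ker π ≤ q := by
    rw [Ideal.mk_ker]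
    exact hJbK.trans hKq
  have hqb : (q.map π).IsPrime :=
    Ideal.map_isPrime_of_surjective Ideal.Quotient.mk_surjective hkerq
  have hqbc : (q.map π).comap π = q := by
    rw [Ideal.comap_map_of_surjective π Ideal.Quotient.mk_surjective, ← RingHom.ker_eq_comap_bot]
    exact sup_eq_left.2 hkerq
  have hh : (1 - e) ∉ q.map π := by
    intro hm
    have he' : e ∈ q.map π := Ideal.map_mono hKq he
    have h1 : (1 : B ⧸ Jb) ∈ q.map π := by
      have := Ideal.add_mem _ hm he'
      simpa using this
    exact hqb.ne_top ((Ideal.eq_top_iff_one _).2 h1)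
  set h : B ⧸ Jb := 1 - e with hhdef
  have hIE : I.map (algebraMap A (Localization.Away h)) =
      (K.map π).map (algebraMap (B ⧸ Jb) (Localization.Away h)) := by
    rw [IsScalarTower.algebraMap_eq A (B ⧸ Jb) (Localization.Away h), ← Ideal.map_map]
    apply le_antisymm
    · apply Ideal.map_mono
      rw [Ideal.map_le_iff_le_comap]
      intro x hx
      exact Ideal.mem_map_of_mem π hx
    · rw [Ideal.map_le_iff_le_comap]
      intro z hz
      rw [Ideal.mem_comap]
      have h1 := Ideal.mem_map_of_mem (algebraMap (B ⧸ Jb) (Localization.Away h)) (hez z hz)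
      rw [map_mul] at h1
      exact (Ideal.unit_mul_mem_iff_mem _ (IsLocalization.Away.algebraMap_isUnit h)).1 h1
  have hIEideal : S.IsIdeal (I.map (algebraMap A (Localization.Away h))) := by
    rw [hIE]
    exact isIdeal_map_away S _ hKD h
  have : Module.Flat A (Localization.Away h) := Module.Flat.trans A (B ⧸ Jb) (Localization.Away h)
  have : Algebra.FinitePresentation (B ⧸ Jb) (Localization.Away h) :=
    IsLocalization.Away.finitePresentation h
  have : Algebra.FinitePresentation A (Localization.Away h) :=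
    Algebra.FinitePresentation.trans A (B ⧸ Jb) (Localization.Away h)
  have hopen : IsOpenMap (PrimeSpectrum.comap (algebraMap A (Localization.Away h))) :=
    PrimeSpectrum.isOpenMap_comap_of_hasGoingDown_of_finitePresentation
  have hIfg : I.FG := by
    haveI : Algebra.FinitePresentation A B := Algebra.FinitePresentation.trans A P B
    haveI : Algebra.FinitePresentation A (B ⧸ K) :=
      Algebra.FinitePresentation.quotient (fg_of_isIdeal S K hK)
    have hs : Function.Surjective (Algebra.ofId A (B ⧸ K)) := by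
      intro y
      obtain ⟨b, rfl⟩ := Ideal.Quotient.mk_surjective y
      obtain ⟨a', ha'⟩ := hsurj b
      refine ⟨a', ?_⟩
      change Ideal.Quotient.mk K (algebraMap A B a') = _
      symm
      rw [Ideal.Quotient.eq]
      exact ha'
    have := Algebra.FinitePresentation.ker_fG_of_surjective (Algebra.ofId A (B ⧸ K)) hs
    convert this using 1
    ext x
    rw [Ideal.mem_comap, RingHom.mem_ker]
    exact Ideal.Quotient.eq_zero_iff_mem.symm
  have hdisj : Disjoint (Submonoid.powers h : Set (B ⧸ Jb)) (q.map π : Set (B ⧸ Jb)) :=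
    (Ideal.disjoint_powers_iff_notMem _ hqb.isRadical).2 hh
  have hQprime : ((q.map π).map (algebraMap (B ⧸ Jb) (Localization.Away h))).IsPrime :=
    IsLocalization.isPrime_of_isPrime_disjoint (Submonoid.powers h) _ _ hqb hdisj
  have hQcomap : ((q.map π).map (algebraMap (B ⧸ Jb) (Localization.Away h))).comap
      (algebraMap (B ⧸ Jb) (Localization.Away h)) = q.map π :=
    IsLocalization.comap_map_of_isPrime_disjoint (Submonoid.powers h) _ hqb hdisj
  have hover : ((q.map π).map (algebraMap (B ⧸ Jb) (Localization.Away h))).LiesOver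
      (q.comap (algebraMap A B)) := by
    refine ⟨?_⟩
    rw [Ideal.under_def, IsScalarTower.algebraMap_eq A (B ⧸ Jb) (Localization.Away h),
      ← Ideal.comap_comap, hQcomap]
    have : algebraMap A (B ⧸ Jb) = π.comp (algebraMap A B) := rfl
    rw [this, ← Ideal.comap_comap, hqbc]
  have : (q.comap (algebraMap A B)).IsPrime := Ideal.comap_isPrime _ _
  exact exists_away_of_flat S hopen I hIfg hIEideal (q.comap (algebraMap A B))
    ((q.map π).map (algebraMap (B ⧸ Jb) (Localization.Away h))) (Ideal.comap_mono hKq)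

end Groth.Agent.Lib.Helper5.SmDesc
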