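import Mathlib
import Groth.Prelude.Def_RegImm
import Groth.Agent.Lib.Helper5.SmDescD
import Groth.Agent.Lib.Helper5.SmDescH
import Groth.Agent.Lib.Helper5.RegDescE
import Groth.Agent.Lib.Helper5.RegSchImm
import Groth.Agent.Lib.Helper5.LciS
import Groth.Agent.Lib.Helper5.SecRegC

set_option autoImplicit false
universe u

namespace Groth.Agent.Lib.Helper5.SmDesc

open AlgebraicGeometry CategoryTheory Limits
open Groth.Agent.Lib.Helper5.SeqDesc Groth.Agent.Lib.Helper5.RegDesc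
open Groth.Agent.Lib.Helper5.RegImmA

theorem exists_seqProp (k : RegImm.Kind) (hk : k ≠ RegImm.Kind.regular)
    (hk' : k ≠ RegImm.Kind.koszul) :
    ∃ S : SeqProp.{u}, Drop S ∧ ∀ (R : Type u) [CommRing R] (l : List R), S.Q R l ↔ k.Seq R l := by
  cases k with
  | regular => exact absurd rfl hk
  | koszul => exact absurd rfl hk'
  | h1 =>
    exact ⟨Groth.Agent.Lib.Helper5.KosH1.h1Seq, drop_h1,
      fun R _ l => (Groth.Agent.Lib.Helper5.KosH1.isH1Regular_iff_isZero l).symm⟩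
  | quasi => exact ⟨quasiSeq, drop_quasi, fun _ _ _ => Iff.rfl⟩

variable {X Y S : Scheme.{u}}

/-- pointwise form of `isRegularImmersionAt_of_kindIdeal` -/
theorem isRegularImmersionAt_of_away (i : Y ⟶ X) (k : RegImm.Kind)
    (hk : k ≠ RegImm.Kind.regular)
    {U : X.Opens} (hU : IsAffineOpen U) [IsClosedImmersion (i ∣_ U)] (z : Y) (hzU : i z ∈ U)
    (f : Γ(X, U)) (hfP : f ∉ (hU.primeIdealOf ⟨i z, hzU⟩).asIdeal)
    (l : List (Localization.Away f)) (hl : k.Seq (Localization.Away f) l)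
    (hspan : (RingHom.ker (i.app U).hom).map (algebraMap Γ(X, U) (Localization.Away f)) =
      Ideal.ofList l) :
    RegImm.IsRegularImmersionAt k i z := by
  set P := hU.primeIdealOf ⟨i z, hzU⟩ with hP
  have hfs : hU.fromSpec P = i z := hU.fromSpec_primeIdealOf ⟨i z, hzU⟩
  have hzf : i z ∈ X.basicOpen f := by
    rw [← hfs]
    exact (mem_basicOpen_fromSpec_iff hU P f).2 hfP
  have hV : IsAffineOpen (X.basicOpen f) := hU.basicOpen f
  have hVU : X.basicOpen f ≤ U := X.basicOpen_le f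
  have hloc : IsLocalization.Away f Γ(X, X.basicOpen f) := hU.isLocalization_basicOpen f
  let e : Localization.Away f ≃ₐ[Γ(X, U)] Γ(X, X.basicOpen f) :=
    IsLocalization.algEquiv (Submonoid.powers f) _ _
  refine ⟨⟨X.basicOpen f, hV⟩, hzf, isClosedImmersion_restrict_of_le i hVU,
    l.map (e : Localization.Away f →+* Γ(X, X.basicOpen f)), ?_, ?_⟩
  · exact kind_seq_map_of_flat' k hk _ (RingHom.Flat.of_bijective e.bijective) _ hl
  · have hk2 : (RingHom.ker (i.app U).hom).map (algebraMap Γ(X, U) Γ(X, X.basicOpen f)) =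
        RingHom.ker (i.app (X.basicOpen f)).hom := ker_map_res i hU hV hVU
    have hcomp : (e : Localization.Away f →+* Γ(X, X.basicOpen f)).comp
        (algebraMap Γ(X, U) (Localization.Away f)) = algebraMap Γ(X, U) Γ(X, X.basicOpen f) :=
      RingHom.ext (fun a => e.commutes a)
    rw [← Ideal.map_ofList, ← hspan, Ideal.map_map, hcomp]
    exact hk2.symm

/-- a standard smooth chart adapted to a pair of immersions -/
theorem exists_affine_chart (p : X ⟶ S) [Smooth p] (i : Y ⟶ X) [IsImmersion i]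
    [IsImmersion (i ≫ p)] (y : Y) :
    ∃ (W : S.Opens) (V : X.Opens), IsAffineOpen W ∧ IsAffineOpen V ∧ i y ∈ V ∧
      W ≤ (i ≫ p).coborderRange ∧ V ≤ i.coborderRange ∧
      ∃ (eV : V ≤ p ⁻¹ᵁ W) (_ : (i ≫ p) ⁻¹ᵁ W ≤ i ⁻¹ᵁ V), (p.appLE W V eV).hom.IsStandardSmooth := by
  obtain ⟨U₂, hU₂, V₂, hV₂, hxV₂, e₂, hstd⟩ := Smooth.exists_isStandardSmooth p (i y)
  have hyc : i y ∈ i.coborderRange := subset_coborder ⟨y, rfl⟩
  obtain ⟨r', hr'le, hxr'⟩ := hV₂.exists_basicOpen_le (V := i.coborderRange ⊓ V₂)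
    ⟨i y, ⟨hyc, hxV₂⟩⟩ hxV₂
  have hV₃ : IsAffineOpen (X.basicOpen r') := hV₂.basicOpen r'
  have e₃ : X.basicOpen r' ≤ p ⁻¹ᵁ U₂ := (X.basicOpen_le r').trans e₂
  have hstd₃ : (p.appLE U₂ (X.basicOpen r') e₃).hom.IsStandardSmooth := by
    have hloc : IsLocalization.Away r' Γ(X, X.basicOpen r') := hV₂.isLocalization_basicOpen r'
    have hloc' : (algebraMap Γ(X, V₂) Γ(X, X.basicOpen r')).IsStandardSmooth :=
      RingHom.isStandardSmooth_holdsForLocalizationAway _ r'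
    have h : ((algebraMap Γ(X, V₂) Γ(X, X.basicOpen r')).comp
        (p.appLE U₂ V₂ e₂).hom).IsStandardSmooth :=
      RingHom.isStandardSmooth_stableUnderComposition _ _ hstd hloc'
    have h2 : p.appLE U₂ (X.basicOpen r') e₃ =
        p.appLE U₂ V₂ e₂ ≫ X.presheaf.map (homOfLE (X.basicOpen_le r')).op := by
      rw [Scheme.Hom.appLE_map]
    rw [h2]
    exact h
  have hyU₂ : (i ≫ p) y ∈ U₂ := e₂ hxV₂
  obtain ⟨O, hO, hOV⟩ := (i ≫ p).isEmbedding.isInducing.isOpen_iff.mp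
    (i ⁻¹ᵁ X.basicOpen r').isOpen
  have hyO : (i ≫ p) y ∈ O := by
    have : y ∈ (i ≫ p) ⁻¹' O := by rw [hOV]; exact hxr'
    exact this
  have hycW : (i ≫ p) y ∈ (i ≫ p).coborderRange := subset_coborder ⟨y, rfl⟩
  obtain ⟨r, hrW, hyr⟩ := hU₂.exists_basicOpen_le (V := (⟨O, hO⟩ ⊓ (i ≫ p).coborderRange) ⊓ U₂)
    ⟨(i ≫ p) y, ⟨⟨hyO, hycW⟩, hyU₂⟩⟩ hyU₂
  have eV : X.basicOpen (p.appLE U₂ (X.basicOpen r') e₃ r) ≤ p ⁻¹ᵁ S.basicOpen r := by
    simp [Scheme.Hom.appLE]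
  have hVle : X.basicOpen (p.appLE U₂ (X.basicOpen r') e₃ r) =
      X.basicOpen r' ⊓ p ⁻¹ᵁ S.basicOpen r := by
    simp [Scheme.Hom.appLE, Scheme.preimage_basicOpen]
  refine ⟨S.basicOpen r, X.basicOpen (p.appLE U₂ (X.basicOpen r') e₃ r), hU₂.basicOpen r,
    hV₃.basicOpen _, ?_, fun s hs => (hrW hs).1.2, ?_, eV, ?_, ?_⟩
  · rw [hVle]
    exact ⟨hxr', hyr⟩
  · rw [hVle]
    exact fun s hs => (hr'le hs.1).1
  · intro s hs
    rw [hVle]
    refine ⟨?_, hs⟩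
    have h1 : (i ≫ p) s ∈ O := (hrW hs).1.1
    have h2 : s ∈ (i ≫ p) ⁻¹' O := h1
    rw [hOV] at h2
    exact h2
  · rw [IsAffineOpen.appLE_eq_away_map p hU₂ hV₃ e₃ r]
    have := hU₂.isLocalization_basicOpen r
    have := hV₃.isLocalization_basicOpen (p.appLE U₂ (X.basicOpen r') e₃ r)
    exact RingHom.isStandardSmooth_localizationPreserves.away _ r _ _ hstd₃

set_option maxHeartbeats 1600000 in
set_option synthInstance.maxHeartbeats 200000 in
theorem isRegularImmersionAt_comp_smooth (k : RegImm.Kind) (hk : k ≠ RegImm.Kind.regular)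
    (hk' : k ≠ RegImm.Kind.koszul) (p : X ⟶ S) [Smooth p] (i : Y ⟶ X) [IsImmersion i]
    [IsImmersion (i ≫ p)] (hi : RegImm.IsRegularImmersion k i) (y : Y) :
    RegImm.IsRegularImmersionAt k (i ≫ p) y := by
  obtain ⟨Sq, hdrop, hQ⟩ := exists_seqProp.{u} k hk hk'
  obtain ⟨W, V, hW, hV, hyV, hWc, hVc, eV, eW, hstd⟩ := exists_affine_chart p i y
  have hcV : IsClosedImmersion (i ∣_ V) :=
    Groth.Agent.Lib.Helper5.RegSchImm.isClosedImmersion_restrict_of_le_coborderRange i hVc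
  have hcW : IsClosedImmersion ((i ≫ p) ∣_ W) :=
    Groth.Agent.Lib.Helper5.RegSchImm.isClosedImmersion_restrict_of_le_coborderRange (i ≫ p) hWc
  have hyW : (i ≫ p) y ∈ W := eV hyV
  have hVW : i ⁻¹ᵁ V ≤ (i ≫ p) ⁻¹ᵁ W := fun s hs => eV hs
  have hbij := Groth.Agent.Lib.Helper5.SecReg.presheaf_map_bijective_of_le (i ⁻¹ᵁ V)
    ((i ≫ p) ⁻¹ᵁ W) hVW eW
  have hsurjW : Function.Surjective ((i ≫ p).app W).hom :=
    app_surjective_of_restrict (i ≫ p) hW
  have hπA : ∀ a, ((i ≫ p).appLE W (i ⁻¹ᵁ V) hVW).hom a =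
      (Y.presheaf.map (homOfLE hVW).op).hom (((i ≫ p).app W).hom a) := fun a => rfl
  have hsurjA : Function.Surjective ((i ≫ p).appLE W (i ⁻¹ᵁ V) hVW).hom := by
    intro c
    obtain ⟨c', rfl⟩ := hbij.2 c
    obtain ⟨a, rfl⟩ := hsurjW c'
    exact ⟨a, hπA a⟩
  have hkerA : RingHom.ker ((i ≫ p).appLE W (i ⁻¹ᵁ V) hVW).hom =
      RingHom.ker ((i ≫ p).app W).hom := by
    ext a
    rw [RingHom.mem_ker, RingHom.mem_ker, hπA]
    constructor
    · intro h
      apply hbij.1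
      rw [h, map_zero]
    · intro h
      rw [h, map_zero]
  have hcomp : (i.app V).hom.comp (p.appLE W V eV).hom =
      ((i ≫ p).appLE W (i ⁻¹ᵁ V) hVW).hom := by
    have h1 := Scheme.Hom.appLE_comp_appLE i p W V (i ⁻¹ᵁ V) eV le_rfl
    rw [← Scheme.Hom.app_eq_appLE] at h1
    exact congrArg CommRingCat.Hom.hom h1
  letI : Algebra Γ(S, W) Γ(X, V) := (p.appLE W V eV).hom.toAlgebra
  obtain ⟨n, g, hgC, hg⟩ := hstd.exists_etale_mvPolynomial
  letI : Algebra (MvPolynomial (Fin n) Γ(S, W)) Γ(X, V) := g.toAlgebra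
  haveI : IsScalarTower Γ(S, W) (MvPolynomial (Fin n) Γ(S, W)) Γ(X, V) :=
    IsScalarTower.of_algebraMap_eq (fun a => (RingHom.congr_fun hgC a).symm)
  haveI : Algebra.Etale (MvPolynomial (Fin n) Γ(S, W)) Γ(X, V) := hg
  have hK : KindIdeal k (RingHom.ker (i.app V).hom) :=
    kindIdeal_ker_app i k hk hV (fun z _ => hi.2 z)
  have hK' : Sq.IsIdeal (RingHom.ker (i.app V).hom) := by
    intro 𝔭 h𝔭
    obtain ⟨g', hg', l, hl, hspan⟩ := hK 𝔭 h𝔭
    exact ⟨g', hg', l, (hQ _ l).2 hl, hspan⟩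
  have hsurj : ∀ b : Γ(X, V), ∃ a : Γ(S, W),
      b - algebraMap Γ(S, W) Γ(X, V) a ∈ RingHom.ker (i.app V).hom := by
    intro b
    obtain ⟨a, ha⟩ := hsurjA ((i.app V).hom b)
    refine ⟨a, ?_⟩
    rw [RingHom.mem_ker, map_sub, sub_eq_zero, ← ha]
    exact (RingHom.congr_fun hcomp a).symm
  have hV' : IsAffineOpen (i ⁻¹ᵁ V) := isAffineOpen_preimage_of_restrict i hV
  have hle := Groth.Agent.Lib.Helper5.Lci.ker_le_primeIdealOf i hV hV' y hyV
  obtain ⟨g₀, hg₀, l, hl, hspan⟩ := exists_away_of_etale Sq hdrop n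
    (RingHom.ker (i.app V).hom) hsurj hK' (hV.primeIdealOf ⟨i y, hyV⟩).asIdeal hle
  have hKc : (RingHom.ker (i.app V).hom).comap (algebraMap Γ(S, W) Γ(X, V)) =
      RingHom.ker ((i ≫ p).app W).hom := by
    rw [← hkerA, ← hcomp]
    exact RingHom.comap_ker _ _
  have hqc : (hV.primeIdealOf ⟨i y, hyV⟩).asIdeal.comap (algebraMap Γ(S, W) Γ(X, V)) =
      (hW.primeIdealOf ⟨(i ≫ p) y, hyW⟩).asIdeal := by
    have := IsAffineOpen.comap_primeIdealOf_appLE (f := p) W hW V hV eV hyV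
    exact congrArg PrimeSpectrum.asIdeal this
  rw [hKc] at hspan
  rw [hqc] at hg₀
  exact isRegularImmersionAt_of_away (i ≫ p) k hk hW y hyW g₀ hg₀ l ((hQ _ l).1 hl) hspan

end Groth.Agent.Lib.Helper5.SmDesc
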