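import Mathlib
import Groth.Agent.Lib.Helper5.CnSplitC
import Groth.Agent.Lib.Helper5.CnSplitD
import Groth.Agent.Lib.Helper5.CnSplitE
import Groth.Agent.Lib.Helper5.SmDescI
import Groth.Agent.Lib.Helper29.ConormalStalk
import Groth.Agent.Lib.Helper26.LC14

set_option autoImplicit false
universe u
open CategoryTheory CategoryTheory.Limits AlgebraicGeometry TopologicalSpace Opposite

namespace Groth.Agent.Lib.Helper5.CnSplit

open Groth.Agent.Lib.Helper28.QCohLoc Groth.Agent.Lib.Helper29.ConormalBC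
  Groth.Agent.Lib.Helper29.H1Chart Groth.Agent.Lib.Helper5.RegImmA
  Groth.Agent.Lib.Helper5.RegDesc Groth.Agent.Lib.Helper5.SmDesc
  Groth.Agent.Lib.Helper5.SeqDesc

section Split

open Groth.Agent.Lib.Helper26.LC14

/-- a section of the epimorphism of a short exact sequence gives, over an open, a retraction of the
monomorphism -/
theorem exists_retraction_of_section {Z : Scheme.{u}} {N C Q : Z.Modules} (a : N ⟶ C) (b : C ⟶ Q)
    (w : a ≫ b = 0) (hex : (ShortComplex.mk a b w).ShortExact) (U : Z.Opens)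
    (r : (Scheme.Modules.restrictFunctor U.ι).obj Q ⟶ (Scheme.Modules.restrictFunctor U.ι).obj C)
    (hr : r ≫ (Scheme.Modules.restrictFunctor U.ι).map b = 𝟙 _) :
    ∃ ρ : (Scheme.Modules.restrictFunctor U.ι).obj C ⟶ (Scheme.Modules.restrictFunctor U.ι).obj N,
      (Scheme.Modules.restrictFunctor U.ι).map a ≫ ρ = 𝟙 _ := by
  have h1 := hex.map_of_exact (Scheme.Modules.restrictFunctor U.ι)
  have := h1.mono_f
  let sp := ShortComplex.Splitting.ofExactOfSection _ h1.exact r hr this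
  exact ⟨sp.r, sp.f_r⟩

end Split

section Kind

variable {Z Y X : Scheme.{u}} (i : Z ⟶ Y) (j : Y ⟶ X) [IsImmersion i] [IsImmersion j]
  [QuasiCompact i] [QuasiCompact j]
  (a : (Scheme.Modules.pullback i).obj (Omega.conormal j) ⟶ Omega.conormal (i ≫ j))
  (ha : OmegaSh.IsConormalMap (i ≫ j) j (𝟙 X) i a)

include ha in
theorem kind_of_retraction (k : RegImm.Kind) (hk : k ≠ RegImm.Kind.regular)
    (hk' : k ≠ RegImm.Kind.koszul) [LocallyOfFinitePresentation j]
    (hij : RegImm.IsRegularImmersion k (i ≫ j)) (z : Z) (U : Z.Opens) (hzU : z ∈ U)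
    (ρ : (Scheme.Modules.restrictFunctor U.ι).obj (Omega.conormal (i ≫ j)) ⟶
      (Scheme.Modules.restrictFunctor U.ι).obj ((Scheme.Modules.pullback i).obj (Omega.conormal j)))
    (hρ : (Scheme.Modules.restrictFunctor U.ι).map a ≫ ρ = 𝟙 _) :
    RegImm.IsRegularImmersionAt k i z := by
  obtain ⟨S, hdrop, hSQ⟩ := exists_seqProp k hk hk'
  obtain ⟨W, hW, hc1, hcj, hci, hzW, hWU, -⟩ := exists_chart i j U ⊤ z hzU trivial
  obtain ⟨hV, hs1⟩ := affine_surjective_of_le_coborder j hW hcj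
  obtain ⟨hU', hs2⟩ := affine_surjective_of_le_coborder i hV hci
  have hclij : IsClosedImmersion ((i ≫ j) ∣_ W) :=
    Groth.Agent.Lib.Helper5.RegSchImm.isClosedImmersion_restrict_of_le_coborderRange _ hc1
  have hcli : IsClosedImmersion (i ∣_ (j ⁻¹ᵁ W)) :=
    Groth.Agent.Lib.Helper5.RegSchImm.isClosedImmersion_restrict_of_le_coborderRange _ hci
  set π := (j.app W).hom with hπ
  set ι := (i.app (j ⁻¹ᵁ W)).hom with hι
  have h6 : ((i ≫ j).app W).hom = ι.comp π := by
    rw [Scheme.Hom.comp_app]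
    rfl
  have hK : S.IsIdeal (RingHom.ker (ι.comp π)) := by
    rw [← h6]
    intro 𝔭 h𝔭
    obtain ⟨g, hg, l, hl, hspan⟩ :=
      kindIdeal_ker_app (i ≫ j) k hk hW (fun z' _ => hij.2 z') 𝔭 h𝔭
    exact ⟨g, hg, l, (hSQ _ l).2 hl, hspan⟩
  have hIK : RingHom.ker π ≤ RingHom.ker (ι.comp π) := by
    intro x hx
    rw [RingHom.mem_ker] at hx ⊢
    rw [RingHom.comp_apply, hx, map_zero]
  have hfp : (j.appLE W (j ⁻¹ᵁ W) le_rfl).hom.FinitePresentation :=
    HasRingHomProperty.appLE @LocallyOfFinitePresentation j inferInstance ⟨W, hW⟩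
      ⟨j ⁻¹ᵁ W, hV⟩ le_rfl
  have hfg : (RingHom.ker π).FG := by
    have := Groth.Agent.Lib.Helper29.ConormalStalk.ker_fg_of_finitePresentation
      (j.appLE W (j ⁻¹ᵁ W) le_rfl).hom
      (by rw [← Scheme.Hom.app_eq_appLE]; exact hs1) hfp
    rw [← Scheme.Hom.app_eq_appLE] at this
    exact this
  set pb := (hV.primeIdealOf ⟨i z, hzW⟩).asIdeal with hpb
  have hmapeq : (RingHom.ker (ι.comp π)).map π = RingHom.ker ι := by
    rw [← RingHom.comap_ker, Ideal.map_comap_of_surjective π hs1]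
  have hkerle : RingHom.ker ι ≤ pb :=
    Groth.Agent.Lib.Helper5.Lci.ker_le_primeIdealOf i hV hU' z hzW
  have hKq : RingHom.ker (ι.comp π) ≤ pb.comap π := by
    rw [← RingHom.comap_ker]
    exact Ideal.comap_mono hkerle
  obtain ⟨g₀, hg₀, t, htI, hspan, hmin⟩ := exists_min_gens (RingHom.ker π) hfg (pb.comap π)
  obtain ⟨f, hf, l, hl, hlspan⟩ := exists_away_of_cancel S hdrop π hs1 (RingHom.ker (ι.comp π)) hK t
    (fun x hx => hIK (htI x hx)) pb (by rw [hmapeq]; exact hkerle) g₀ hg₀ hspan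
    (by
      intro c hc
      have heI : ∑ k, c k * t.get k ∈ RingHom.ker π :=
        Ideal.sum_mem _ (fun k _ => Ideal.mul_mem_left _ _ (htI _ (List.get_mem t k)))
      have h1 := mem_of_retraction i j hW hcj hci a ha U hWU ρ hρ (pb.comap π) _ heI hc
      have h2 : pb.comap π * RingHom.ker π + RingHom.ker (ι.comp π) * RingHom.ker π ≤
          pb.comap π * RingHom.ker π := sup_le le_rfl (Ideal.mul_mono_left hKq)
      exact hmin c (h2 h1))
  rw [hmapeq] at hlspan
  exact isRegularImmersionAt_of_away i k hk hV z hzW f hf l ((hSQ _ l).1 hl) hlspan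

end Kind

end Groth.Agent.Lib.Helper5.CnSplit
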