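import Groth.Agent.Lib.Helper5.ComplFreeF
import Mathlib

set_option autoImplicit false
set_option linter.unusedSectionVars false
universe u

open TensorProduct KaehlerDifferential IsLocalRing

namespace Groth.Agent.Lib.Helper5.CohenExist

section Base

variable (k₀ A L : Type u) [Field k₀] [CommRing A] [Algebra k₀ A] [CommRing L] [Algebra A L]
  [Algebra k₀ L] [IsScalarTower k₀ A L]

/-- the map on fibres of absolute differentials induced by the base field, for a general
target. -/
noncomputable def baseToTensorL : L ⊗[k₀] Ω[k₀⁄ℤ] →ₗ[L] L ⊗[A] Ω[A⁄ℤ] :=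
  LinearMap.liftBaseChange L
    (((TensorProduct.mk A L Ω[A⁄ℤ] 1).restrictScalars k₀).comp
      (KaehlerDifferential.map ℤ ℤ k₀ A))

theorem baseToTensorL_tmul (c : L) (ω : Ω[k₀⁄ℤ]) :
    baseToTensorL k₀ A L (c ⊗ₜ[k₀] ω) = c ⊗ₜ[A] KaehlerDifferential.map ℤ ℤ k₀ A ω := by
  unfold baseToTensorL
  rw [LinearMap.liftBaseChange_tmul]
  change c • ((1 : L) ⊗ₜ[A] KaehlerDifferential.map ℤ ℤ k₀ A ω) = _
  rw [TensorProduct.smul_tmul', smul_eq_mul, mul_one]

theorem map_map_kaehlerL (ω : Ω[k₀⁄ℤ]) :
    KaehlerDifferential.map ℤ ℤ A L (KaehlerDifferential.map ℤ ℤ k₀ A ω) =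
      KaehlerDifferential.map ℤ ℤ k₀ L ω := by
  have h : ((KaehlerDifferential.map ℤ ℤ A L).restrictScalars k₀).comp
      (KaehlerDifferential.map ℤ ℤ k₀ A) = KaehlerDifferential.map ℤ ℤ k₀ L := by
    apply Derivation.liftKaehlerDifferential_unique
    ext t
    change KaehlerDifferential.map ℤ ℤ A L
      (KaehlerDifferential.map ℤ ℤ k₀ A (KaehlerDifferential.D ℤ k₀ t)) =
        KaehlerDifferential.map ℤ ℤ k₀ L (KaehlerDifferential.D ℤ k₀ t)
    rw [KaehlerDifferential.map_D, KaehlerDifferential.map_D, KaehlerDifferential.map_D,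
      ← IsScalarTower.algebraMap_apply]
  exact LinearMap.congr_fun h ω

theorem mapBaseChange_comp_baseToTensorL :
    (KaehlerDifferential.mapBaseChange ℤ A L).comp (baseToTensorL k₀ A L) =
      KaehlerDifferential.mapBaseChange ℤ k₀ L := by
  apply TensorProduct.AlgebraTensorModule.ext
  intro c ω
  rw [LinearMap.comp_apply, baseToTensorL_tmul, KaehlerDifferential.mapBaseChange_tmul,
    KaehlerDifferential.mapBaseChange_tmul, map_map_kaehlerL]

theorem baseToTensorL_cancel (z : L ⊗[A] (A ⊗[k₀] Ω[k₀⁄ℤ])) :
    baseToTensorL k₀ A L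
      (TensorProduct.AlgebraTensorModule.cancelBaseChange k₀ A L L Ω[k₀⁄ℤ] z) =
        (KaehlerDifferential.mapBaseChange ℤ k₀ A).lTensor L z := by
  induction z using TensorProduct.induction_on with
  | zero => simp
  | add x y hx hy => rw [map_add, map_add, map_add, hx, hy]
  | tmul c y =>
    induction y using TensorProduct.induction_on with
    | zero => simp
    | add x y hx hy =>
      rw [TensorProduct.tmul_add, map_add, map_add, map_add, hx, hy]
    | tmul a ω =>
      rw [TensorProduct.AlgebraTensorModule.cancelBaseChange_tmul, baseToTensorL_tmul,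
        LinearMap.lTensor_tmul, KaehlerDifferential.mapBaseChange_tmul, TensorProduct.tmul_smul,
        TensorProduct.smul_tmul']

theorem baseToTensorL_injective_iff :
    Function.Injective (baseToTensorL k₀ A L) ↔
      Function.Injective ((KaehlerDifferential.mapBaseChange ℤ k₀ A).lTensor L) := by
  have h2 : ∀ w, baseToTensorL k₀ A L w =
      (KaehlerDifferential.mapBaseChange ℤ k₀ A).lTensor L
        ((TensorProduct.AlgebraTensorModule.cancelBaseChange k₀ A L L Ω[k₀⁄ℤ]).symm w) := by
    intro w
    rw [← baseToTensorL_cancel, LinearEquiv.apply_symm_apply]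
  constructor
  · intro h z z' hzz'
    rw [← baseToTensorL_cancel, ← baseToTensorL_cancel] at hzz'
    exact (LinearEquiv.injective _) (h hzz')
  · intro h w w' hww'
    rw [h2 w, h2 w'] at hww'
    exact (LinearEquiv.injective _) (h hww')

end Base

section Transport

variable {A : Type*} [CommRing A] {L L' M N : Type*} [AddCommGroup L] [AddCommGroup L']
  [AddCommGroup M] [AddCommGroup N] [Module A L] [Module A L'] [Module A M] [Module A N]

theorem lTensor_injective_of_equiv (g : L ≃ₗ[A] L') (f : M →ₗ[A] N)
    (h : Function.Injective (f.lTensor L)) : Function.Injective (f.lTensor L') := by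
  intro x y hxy
  apply (LinearEquiv.rTensor M g.symm).injective
  apply h
  have key : ∀ z, f.lTensor L (LinearEquiv.rTensor M g.symm z) =
      LinearEquiv.rTensor N g.symm (f.lTensor L' z) := by
    intro z
    induction z using TensorProduct.induction_on with
    | zero => simp
    | add x y hx hy => rw [map_add, map_add, map_add, map_add, hx, hy]
    | tmul c m =>
      rw [LinearEquiv.rTensor_tmul, LinearMap.lTensor_tmul, LinearMap.lTensor_tmul,
        LinearEquiv.rTensor_tmul]
  rw [key, key, hxy]

end Transport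

section Functionals

variable {K U : Type*} [Field K] [AddCommGroup U] [Module K U]

theorem exists_functionals (Υ : Submodule K U) [Module.Finite K Υ] (n : ℕ)
    (hn : Module.finrank K Υ ≤ n) :
    ∃ φ : Fin n → (U →ₗ[K] K), ∀ w ∈ Υ, (∀ i, φ i w = 0) → w = 0 := by
  classical
  let b := Module.finBasis K Υ
  have hext : ∀ j : Fin (Module.finrank K Υ), ∃ g : U →ₗ[K] K, g.comp Υ.subtype = b.coord j :=
    fun j => LinearMap.exists_extend (b.coord j)
  choose g hg using hext
  refine ⟨fun i => if h : (i : ℕ) < Module.finrank K Υ then g ⟨i, h⟩ else 0, ?_⟩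
  intro w hw hall
  have h0 : (⟨w, hw⟩ : Υ) = 0 := by
    rw [← b.forall_coord_eq_zero_iff]
    intro j
    have h1 := hall ⟨j, lt_of_lt_of_le j.2 hn⟩
    simp only [dif_pos j.2] at h1
    rw [← hg j]
    exact h1
  exact congrArg Subtype.val h0

end Functionals

end Groth.Agent.Lib.Helper5.CohenExist
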