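import Groth.Agent.Lib.Helper5.CohenExistA
import Groth.Agent.Lib.Helper5.CoeffField
import Groth.Agent.Lib.Helper5.PowSer
import Groth.Agent.Lib.Helper1.RegPS
import Mathlib

set_option autoImplicit false
set_option linter.unusedSectionVars false
universe u

open TensorProduct KaehlerDifferential IsLocalRing MvPowerSeries

namespace Groth.Agent.Lib.Helper5.CohenExist

variable {k K : Type u} [Field k] [Field K] [Algebra k K] (n : ℕ)

theorem X_mem_maximalIdeal (i : Fin n) :
    (X i : MvPowerSeries (Fin n) K) ∈ maximalIdeal (MvPowerSeries (Fin n) K) := by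
  rw [Groth.Agent.Lib.Helper5.PowSer.maximalIdeal_eq_span_X]
  exact Ideal.subset_span ⟨i, rfl⟩

variable {n}

theorem constantCoeff_eq_zero_of_mem {f : MvPowerSeries (Fin n) K}
    (hf : f ∈ maximalIdeal (MvPowerSeries (Fin n) K)) : constantCoeff f = 0 := by
  by_contra h
  exact hf (MvPowerSeries.isUnit_iff_constantCoeff.mpr (IsUnit.mk0 _ h))

theorem constantCoeff_pderiv_eq_zero_of_mem_sq (i : Fin n) {f : MvPowerSeries (Fin n) K}
    (hf : f ∈ maximalIdeal (MvPowerSeries (Fin n) K) ^ 2) :
    constantCoeff (pderiv K i f) = 0 := by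
  rw [pow_two] at hf
  refine Submodule.mul_induction_on hf ?_ ?_
  · intro a ha b hb
    rw [Derivation.leibniz, map_add, smul_eq_mul, smul_eq_mul, map_mul, map_mul,
      constantCoeff_eq_zero_of_mem ha, constantCoeff_eq_zero_of_mem hb, zero_mul, zero_mul,
      add_zero]
  · intro x y hx hy
    rw [map_add, map_add, hx, hy, add_zero]

/-- the linear part attached to a family of derivations. -/
noncomputable def linPart (d : Fin n → Derivation ℤ k K) (x : k) : MvPowerSeries (Fin n) K :=
  ∑ i, C (d i x) * X i

theorem linPart_mem (d : Fin n → Derivation ℤ k K) (x : k) :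
    linPart d x ∈ maximalIdeal (MvPowerSeries (Fin n) K) :=
  Ideal.sum_mem _ fun i _ => Ideal.mul_mem_left _ _ (X_mem_maximalIdeal n i)

theorem linPart_add (d : Fin n → Derivation ℤ k K) (x y : k) :
    linPart d (x + y) = linPart d x + linPart d y := by
  unfold linPart
  rw [← Finset.sum_add_distrib]
  refine Finset.sum_congr rfl fun i _ => ?_
  rw [map_add, map_add, add_mul]

theorem linPart_mul (d : Fin n → Derivation ℤ k K) (x y : k) :
    linPart d (x * y) =
      C (algebraMap k K x) * linPart d y + C (algebraMap k K y) * linPart d x := by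
  unfold linPart
  rw [Finset.mul_sum, Finset.mul_sum, ← Finset.sum_add_distrib]
  refine Finset.sum_congr rfl fun i _ => ?_
  rw [Derivation.leibniz, map_add, Algebra.smul_def, Algebra.smul_def, map_mul, map_mul]
  ring

theorem linPart_zero (d : Fin n → Derivation ℤ k K) {x : k} (hx : ∀ i, d i x = 0) :
    linPart d x = 0 := by
  unfold linPart
  refine Finset.sum_eq_zero fun i _ => ?_
  rw [hx i, map_zero, zero_mul]

theorem constantCoeff_pderiv_linPart (d : Fin n → Derivation ℤ k K) (x : k) (i : Fin n) :
    constantCoeff (pderiv K i (linPart d x)) = d i x := by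
  classical
  unfold linPart
  rw [map_sum, map_sum, Finset.sum_eq_single i]
  · rw [Derivation.leibniz, pderiv_C, smul_zero, add_zero, pderiv_X_self, smul_eq_mul, mul_one,
      constantCoeff_C]
  · intro j _ hji
    rw [Derivation.leibniz, pderiv_C, smul_zero, add_zero, pderiv_X_of_ne hji, smul_zero,
      map_zero]
  · intro h
    exact absurd (Finset.mem_univ i) h

/-- a ring map from the base field to the power series ring with prescribed constant term and
linear part. -/
theorem exists_section (d : Fin n → Derivation ℤ k K) :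
    ∃ σ : k →+* MvPowerSeries (Fin n) K, (∀ x, constantCoeff (σ x) = algebraMap k K x) ∧
      ∀ i x, constantCoeff (pderiv K i (σ x)) = d i x := by
  classical
  let R := MvPowerSeries (Fin n) K
  let u₀ : k → R := fun x => C (algebraMap k K x) + linPart d x
  have hu₀ : ∀ x, u₀ x = C (algebraMap k K x) + linPart d x := fun _ => rfl
  have hP : ∀ r : (⊥ : Subfield k), linPart d (r : k) = 0 := fun r =>
    linPart_zero d fun i => CoeffField.derivation_primeField (d i) r
  have : Algebra.FormallySmooth (⊥ : Subfield k) k := CoeffField.formallySmooth_primeField k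
  let algPC : Algebra (⊥ : Subfield k) R :=
    ((C : K →+* R).comp ((algebraMap k K).comp (algebraMap (⊥ : Subfield k) k))).toAlgebra
  have hmul : ∀ x y : k, u₀ (x * y) - u₀ x * u₀ y ∈ maximalIdeal R ^ 2 := by
    intro x y
    have h1 : u₀ (x * y) - u₀ x * u₀ y = -(linPart d x * linPart d y) := by
      rw [hu₀, hu₀, hu₀, linPart_mul, map_mul, map_mul]
      ring
    rw [h1, pow_two]
    exact (Ideal.neg_mem_iff _).mpr (Ideal.mul_mem_mul (linPart_mem d x) (linPart_mem d y))
  let w₀ : k →+* R ⧸ maximalIdeal R ^ 2 :=
    { toFun := fun x => Ideal.Quotient.mk _ (u₀ x)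
      map_one' := by
        have h1 : linPart d (1 : k) = 0 :=
          linPart_zero d fun i => (d i).map_one_eq_zero
        rw [hu₀, h1, add_zero, map_one, map_one, map_one]
      map_mul' := fun x y => by
        rw [← map_mul, Ideal.Quotient.eq]
        exact hmul x y
      map_zero' := by
        have h1 : linPart d (0 : k) = 0 := linPart_zero d fun i => map_zero (d i)
        rw [hu₀, h1, add_zero, map_zero, map_zero, map_zero]
      map_add' := fun x y => by
        rw [← map_add]
        congr 1
        rw [hu₀, hu₀, hu₀, linPart_add, map_add, map_add]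
        ring }
  let w : k →ₐ[(⊥ : Subfield k)] R ⧸ maximalIdeal R ^ 2 :=
    { w₀ with
      commutes' := fun r => by
        change Ideal.Quotient.mk _ (u₀ (r : k)) = _
        rw [hu₀, hP r, add_zero]
        rfl }
  have : IsAdicComplete (maximalIdeal R ^ 2) R := CoeffField.isAdicComplete_sq (maximalIdeal R)
  obtain ⟨v, hv⟩ := Algebra.FormallySmooth.exists_mkₐ_comp_eq_of_isAdicComplete w
  have hv' : ∀ x, Ideal.Quotient.mk (maximalIdeal R ^ 2) (v x) =
      Ideal.Quotient.mk (maximalIdeal R ^ 2) (u₀ x) := fun x => AlgHom.congr_fun hv x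
  have hv'' : ∀ x, v x - u₀ x ∈ maximalIdeal R ^ 2 := fun x => Ideal.Quotient.eq.1 (hv' x)
  have hsplit : ∀ x, v x = (v x - u₀ x) + (C (algebraMap k K x) + linPart d x) := by
    intro x
    rw [← hu₀]
    ring
  refine ⟨v.toRingHom, fun x => ?_, fun i x => ?_⟩
  · change constantCoeff (v x) = _
    rw [hsplit x, map_add, map_add,
      constantCoeff_eq_zero_of_mem (Ideal.pow_le_self two_ne_zero (hv'' x)),
      constantCoeff_eq_zero_of_mem (linPart_mem d x), constantCoeff_C, zero_add, add_zero]
  · change constantCoeff (pderiv K i (v x)) = _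
    rw [hsplit x, map_add, map_add, map_add, map_add,
      constantCoeff_pderiv_eq_zero_of_mem_sq i (hv'' x), pderiv_C, map_zero,
      constantCoeff_pderiv_linPart, zero_add, zero_add]

end Groth.Agent.Lib.Helper5.CohenExist
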