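import Groth.Agent.Lib.Helper5.CohenExistB
import Groth.Agent.Lib.Helper5.KahlerInjE
import Mathlib

set_option autoImplicit false
set_option linter.unusedSectionVars false
universe u

open TensorProduct KaehlerDifferential IsLocalRing

namespace Groth.Agent.Lib.Helper5.CohenExist

section ResEquiv

variable (C K : Type u) [CommRing C] [IsLocalRing C] [Field K] [Algebra C K]

theorem algebraMap_eq_zero_of_mem (hsurj : Function.Surjective (algebraMap C K)) {a : C}
    (ha : a ∈ maximalIdeal C) : algebraMap C K a = 0 := by
  have hmax : (RingHom.ker (algebraMap C K)).IsMaximal :=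
    RingHom.ker_isMaximal_of_surjective _ hsurj
  have h := IsLocalRing.eq_maximalIdeal hmax
  rw [← h] at ha
  exact ha

/-- the residue field of a local ring mapping onto a field is that field. -/
noncomputable def resEquivL (hsurj : Function.Surjective (algebraMap C K)) :
    ResidueField C ≃ₐ[C] K :=
  AlgEquiv.ofBijective
    (Ideal.Quotient.liftₐ (maximalIdeal C) (Algebra.ofId C K)
      (fun a ha => algebraMap_eq_zero_of_mem C K hsurj ha))
    ⟨RingHom.injective _, fun y => by
      obtain ⟨a, rfl⟩ := hsurj y
      exact ⟨residue C a, rfl⟩⟩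

end ResEquiv

section Inj

variable {k : Type u} [Field k] (C : Type u) [CommRing C] [Algebra k C]
  (K : Type u) [Field K] [Algebra C K] [Algebra k K] [IsScalarTower k C K]

theorem baseToTensorL_injective_of_derivations {n : ℕ} (Dd : Fin n → Derivation ℤ C K)
    (φ : Fin n → (K ⊗[k] Ω[k⁄ℤ] →ₗ[K] K))
    (hφ : ∀ w ∈ EGA41.imperfection ℤ k K, (∀ i, φ i w = 0) → w = 0)
    (hDφ : ∀ i x, Dd i (algebraMap k C x) = φ i ((1 : K) ⊗ₜ[k] KaehlerDifferential.D ℤ k x)) :
    Function.Injective (baseToTensorL k C K) := by
  rw [injective_iff_map_eq_zero]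
  intro w hw
  have h1 : w ∈ EGA41.imperfection ℤ k K := by
    change w ∈ LinearMap.ker (KaehlerDifferential.mapBaseChange ℤ k K)
    rw [LinearMap.mem_ker, ← mapBaseChange_comp_baseToTensorL k C K, LinearMap.comp_apply, hw,
      map_zero]
  apply hφ w h1
  intro i
  let ψ : K ⊗[C] Ω[C⁄ℤ] →ₗ[K] K := (Dd i).liftKaehlerDifferential.liftBaseChange K
  have hcomp : ψ.comp (baseToTensorL k C K) = φ i := by
    apply TensorProduct.AlgebraTensorModule.ext
    intro c ω
    have hω : ω ∈ Submodule.span k (Set.range (KaehlerDifferential.D ℤ k)) := by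
      rw [KaehlerDifferential.span_range_derivation]
      trivial
    revert c
    induction hω using Submodule.span_induction with
    | mem y hy =>
      intro c
      obtain ⟨x, rfl⟩ := hy
      rw [LinearMap.comp_apply, baseToTensorL_tmul, KaehlerDifferential.map_D]
      change (Dd i).liftKaehlerDifferential.liftBaseChange K _ = _
      rw [LinearMap.liftBaseChange_tmul, Derivation.liftKaehlerDifferential_comp_D, hDφ,
        ← map_smul, TensorProduct.smul_tmul', smul_eq_mul, mul_one]
    | zero =>
      intro c
      rw [TensorProduct.tmul_zero, map_zero, map_zero]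
    | add x y _ _ hx hy =>
      intro c
      rw [TensorProduct.tmul_add, map_add, map_add, hx, hy]
    | smul a x _ hx =>
      intro c
      rw [← TensorProduct.smul_tmul, hx]
  rw [← hcomp, LinearMap.comp_apply, hw, map_zero]

end Inj

section Main

variable {k : Type u} [Field k] (C : Type u) [CommRing C] [IsRegularLocalRing C] [Algebra k C]
  (K : Type u) [Field K] [Algebra C K] [Algebra k K] [IsScalarTower k C K]

/-- a regular local algebra with enough derivations into its residue field is formally smooth. -/
theorem adicSmooth_of_derivations (hsurj : Function.Surjective (algebraMap C K)) {n : ℕ}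
    (Dd : Fin n → Derivation ℤ C K) (φ : Fin n → (K ⊗[k] Ω[k⁄ℤ] →ₗ[K] K))
    (hφ : ∀ w ∈ EGA41.imperfection ℤ k K, (∀ i, φ i w = 0) → w = 0)
    (hDφ : ∀ i x, Dd i (algebraMap k C x) = φ i ((1 : K) ⊗ₜ[k] KaehlerDifferential.D ℤ k x)) :
    CAlgX.IsAdicFormallySmooth k C (maximalIdeal C) ∧ Nonempty (ResidueField C ≃ₐ[k] K) := by
  have h1 := baseToTensorL_injective_of_derivations C K Dd φ hφ hDφ
  rw [baseToTensorL_injective_iff] at h1
  have h2 : Function.Injective
      ((KaehlerDifferential.mapBaseChange ℤ k C).lTensor (ResidueField C)) :=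
    lTensor_injective_of_equiv (resEquivL C K hsurj).symm.toLinearEquiv _ h1
  refine ⟨Groth.Agent.Lib.Helper5.KahlerInj.adicSmooth_of_regular_of_injective h2, ?_⟩
  exact ⟨(resEquivL C K hsurj).restrictScalars k⟩

end Main

section Converse

variable {k A K : Type u} [Field k] [CommRing A] [IsLocalRing A] [IsNoetherianRing A]
  [Algebra k A] [Field K] [Algebra k K]

theorem finite_ker_mapBaseChange [Algebra A K] (hsurj : Function.Surjective (algebraMap A K)) :
    Module.Finite K (LinearMap.ker (KaehlerDifferential.mapBaseChange ℤ A K)) := by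
  have hex := KaehlerDifferential.exact_kerCotangentToTensor_mapBaseChange ℤ A K hsurj
  let F : K ⊗[A] (RingHom.ker (algebraMap A K)).Cotangent →ₗ[K] K ⊗[A] Ω[A⁄ℤ] :=
    (KaehlerDifferential.kerCotangentToTensor ℤ A K).liftBaseChange K
  have hr : LinearMap.range F = LinearMap.ker (KaehlerDifferential.mapBaseChange ℤ A K) := by
    apply le_antisymm
    · rintro _ ⟨z, rfl⟩
      induction z using TensorProduct.induction_on with
      | zero => rw [map_zero]; exact Submodule.zero_mem _
      | add x y hx hy => rw [map_add]; exact Submodule.add_mem _ hx hy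
      | tmul c x =>
        change (KaehlerDifferential.kerCotangentToTensor ℤ A K).liftBaseChange K _ ∈ _
        rw [LinearMap.liftBaseChange_tmul]
        apply Submodule.smul_mem
        rw [LinearMap.mem_ker, hex]
        exact ⟨x, rfl⟩
    · intro y hy
      rw [LinearMap.mem_ker, hex] at hy
      obtain ⟨x, rfl⟩ := hy
      refine ⟨(1 : K) ⊗ₜ[A] x, ?_⟩
      change (KaehlerDifferential.kerCotangentToTensor ℤ A K).liftBaseChange K _ = _
      rw [LinearMap.liftBaseChange_tmul, one_smul]
  have hfinI : Module.Finite A (RingHom.ker (algebraMap A K)).Cotangent :=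
    Module.Finite.of_surjective (RingHom.ker (algebraMap A K)).toCotangent
      (Ideal.toCotangent_surjective _)
  rw [← hr]
  exact Module.Finite.range F

/-- the residue field of a formally smooth Noetherian local algebra over a field has finite
imperfection module. -/
theorem finite_imperfection_of_adicSmooth
    (h : CAlgX.IsAdicFormallySmooth k A (maximalIdeal A)) (e : ResidueField A ≃ₐ[k] K) :
    Module.Finite K (EGA41.imperfection ℤ k K) := by
  let _ : Algebra A K := ((e : ResidueField A →+* K).comp (algebraMap A (ResidueField A))).toAlgebra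
  have halg : ∀ a : A, algebraMap A K a = e (algebraMap A (ResidueField A) a) := fun _ => rfl
  have hst : IsScalarTower k A K := IsScalarTower.of_algebraMap_eq fun x => by
    rw [halg, ← IsScalarTower.algebraMap_apply, e.commutes]
  have hsurj : Function.Surjective (algebraMap A K) := by
    intro y
    obtain ⟨a, ha⟩ := residue_surjective (e.symm y)
    refine ⟨a, ?_⟩
    rw [halg]
    change e (residue A a) = y
    rw [ha, AlgEquiv.apply_symm_apply]
  let g : ResidueField A ≃ₗ[A] K :=
    { e.toLinearEquiv with
      map_smul' := fun a c => by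
        change e (a • c) = a • e c
        rw [Algebra.smul_def, Algebra.smul_def, map_mul, halg] }
  have h1 := Groth.Agent.Lib.Helper5.KahlerInj.injective_of_adicSmooth h
  have h2 : Function.Injective ((KaehlerDifferential.mapBaseChange ℤ k A).lTensor K) :=
    lTensor_injective_of_equiv g _ h1
  rw [← baseToTensorL_injective_iff] at h2
  have hfin := finite_ker_mapBaseChange (A := A) (K := K) hsurj
  have hmem : ∀ w ∈ EGA41.imperfection ℤ k K,
      baseToTensorL k A K w ∈ LinearMap.ker (KaehlerDifferential.mapBaseChange ℤ A K) := by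
    intro w hw
    have hw' : KaehlerDifferential.mapBaseChange ℤ k K w = 0 := hw
    rw [LinearMap.mem_ker, ← LinearMap.comp_apply, mapBaseChange_comp_baseToTensorL, hw']
  let f : EGA41.imperfection ℤ k K →ₗ[K]
      LinearMap.ker (KaehlerDifferential.mapBaseChange ℤ A K) :=
    (baseToTensorL k A K).restrict hmem
  have hf : Function.Injective f := by
    intro x y hxy
    apply Subtype.ext
    apply h2
    exact congrArg Subtype.val hxy
  have hnoeth : IsNoetherian K (LinearMap.ker (KaehlerDifferential.mapBaseChange ℤ A K)) :=
    isNoetherian_of_isNoetherianRing_of_finite K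
      (LinearMap.ker (KaehlerDifferential.mapBaseChange ℤ A K))
  exact Module.Finite.of_injective f hf

end Converse

end Groth.Agent.Lib.Helper5.CohenExist
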