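import Groth.Agent.Lib.Helper5.CohenExistC
import Mathlib

set_option autoImplicit false
set_option linter.unusedSectionVars false
universe u

open TensorProduct KaehlerDifferential IsLocalRing MvPowerSeries

namespace Groth.Agent.Lib.Helper5.CohenExist

variable {k K : Type u} [Field k] [Field K] [Algebra k K]

/-- the coefficient field as an algebra over the power series ring, via the constant term. -/
noncomputable def ccAlgebra (n : ℕ) (K : Type u) [Field K] :
    Algebra (MvPowerSeries (Fin n) K) K :=
  (constantCoeff (σ := Fin n) (R := K)).toAlgebra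

attribute [local instance] ccAlgebra
attribute [local instance 2000] Ring.toIntAlgebra

theorem cc_smul (n : ℕ) (f : MvPowerSeries (Fin n) K) (c : K) : f • c = constantCoeff f * c :=
  rfl

/-- the constant term of a partial derivative, as a derivation with values in the coefficient
field. -/
noncomputable def Dcc (n : ℕ) (K : Type u) [Field K] (i : Fin n) :
    Derivation ℤ (MvPowerSeries (Fin n) K) K where
  toLinearMap :=
    ((constantCoeff (σ := Fin n) (R := K)).toAddMonoidHom.comp
      (pderiv K i).toLinearMap.toAddMonoidHom).toIntLinearMap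
  map_one_eq_zero' := by
    change constantCoeff (pderiv K i 1) = 0
    rw [pderiv_one, map_zero]
  leibniz' a b := by
    change constantCoeff (pderiv K i (a * b)) =
      a • constantCoeff (pderiv K i b) + b • constantCoeff (pderiv K i a)
    rw [Derivation.leibniz, map_add, smul_eq_mul, smul_eq_mul, map_mul, map_mul, cc_smul,
      cc_smul]

theorem Dcc_apply (n : ℕ) (i : Fin n) (f : MvPowerSeries (Fin n) K) :
    Dcc n K i f = constantCoeff (pderiv K i f) := rfl

/-- existence of a complete formally smooth local algebra with given residue field and given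
dimension, from a separating family of functionals. -/
theorem exists_of_functionals (n : ℕ) (φ : Fin n → (K ⊗[k] Ω[k⁄ℤ] →ₗ[K] K))
    (hφ : ∀ w ∈ EGA41.imperfection ℤ k K, (∀ i, φ i w = 0) → w = 0) :
    ∃ (A : Type u) (_ : CommRing A) (_ : IsLocalRing A) (_ : IsNoetherianRing A)
      (_ : Algebra k A),
      IsAdicComplete (maximalIdeal A) A ∧ CAlgX.IsAdicFormallySmooth k A (maximalIdeal A) ∧
      Nonempty (ResidueField A ≃ₐ[k] K) ∧ ringKrullDim A = n := by
  let d : Fin n → Derivation ℤ k K := fun i =>
    (((φ i).restrictScalars k).comp (TensorProduct.mk k K Ω[k⁄ℤ] 1)).compDer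
      (KaehlerDifferential.D ℤ k)
  have hd : ∀ i x, d i x = φ i ((1 : K) ⊗ₜ[k] KaehlerDifferential.D ℤ k x) := fun _ _ => rfl
  obtain ⟨σ, hσ1, hσ2⟩ := exists_section d
  let _ : Algebra k (MvPowerSeries (Fin n) K) := σ.toAlgebra
  have hst : IsScalarTower k (MvPowerSeries (Fin n) K) K :=
    IsScalarTower.of_algebraMap_eq fun x => (hσ1 x).symm
  have hsurj : Function.Surjective (algebraMap (MvPowerSeries (Fin n) K) K) := by
    intro c
    exact ⟨C c, constantCoeff_C c⟩
  obtain ⟨h1, h2⟩ := adicSmooth_of_derivations (MvPowerSeries (Fin n) K) K hsurj (Dcc n K) φ hφ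
    (fun i x => by
      rw [← hd]
      exact hσ2 i x)
  exact ⟨MvPowerSeries (Fin n) K, inferInstance, inferInstance, inferInstance, σ.toAlgebra,
    inferInstance, h1, h2, Groth.Agent.Lib.Helper1.RegPS.ringKrullDim_ps n⟩

/-- existence of a complete formally smooth local algebra with given residue field and given
dimension at least the rank of the imperfection module. -/
theorem exists_of_finite [Module.Finite K (EGA41.imperfection ℤ k K)] (n : ℕ)
    (hn : Module.finrank K (EGA41.imperfection ℤ k K) ≤ n) :
    ∃ (A : Type u) (_ : CommRing A) (_ : IsLocalRing A) (_ : IsNoetherianRing A)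
      (_ : Algebra k A),
      IsAdicComplete (maximalIdeal A) A ∧ CAlgX.IsAdicFormallySmooth k A (maximalIdeal A) ∧
      Nonempty (ResidueField A ≃ₐ[k] K) ∧ ringKrullDim A = n := by
  obtain ⟨φ, hφ⟩ := exists_functionals (EGA41.imperfection ℤ k K) n hn
  exact exists_of_functionals n φ hφ

end Groth.Agent.Lib.Helper5.CohenExist
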