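import Groth.Agent.Lib.Helper2.PowCrit
import Mathlib

set_option autoImplicit false
set_option linter.unusedSectionVars false
universe u v

open TensorProduct

namespace Groth.Agent.Lib.Helper5.ComplFree

section Tensor

variable {R : Type u} [CommRing R] (I : Ideal R) (M : Type v) [AddCommGroup M] [Module R M]

theorem tmul_eq_zero_of_mem (J : Ideal R) {N : Type v} [AddCommGroup N] [Module R N]
    (c : R ⧸ J) (y : N) (hy : y ∈ (J • ⊤ : Submodule R N)) : c ⊗ₜ[R] y = 0 := by
  refine Submodule.smul_induction_on hy ?_ ?_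
  · intro a ha z _
    rw [TensorProduct.tmul_smul, TensorProduct.smul_tmul']
    have : a • c = 0 := by
      rw [Algebra.smul_def, Ideal.Quotient.algebraMap_eq,
        Ideal.Quotient.eq_zero_iff_mem.mpr ha, zero_mul]
    rw [this, TensorProduct.zero_tmul]
  · intro y z hy hz
    rw [TensorProduct.tmul_add, hy, hz, add_zero]

/-- the quotient of `M` by `I ^ n` maps to the reduction modulo a larger ideal. -/
noncomputable def quotToTensor (J : Ideal R) (n : ℕ) (hJ : I ^ n ≤ J) :
    M ⧸ (I ^ n • ⊤ : Submodule R M) →ₗ[R] (R ⧸ J) ⊗[R] M :=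
  Submodule.liftQ _ (TensorProduct.mk R (R ⧸ J) M 1) (by
    intro y hy
    rw [LinearMap.mem_ker]
    exact tmul_eq_zero_of_mem J 1 y (Submodule.smul_mono_left hJ hy))

theorem quotToTensor_mk (J : Ideal R) (n : ℕ) (hJ : I ^ n ≤ J) (x : M) :
    quotToTensor I M J n hJ (Submodule.Quotient.mk x) = (1 : R ⧸ J) ⊗ₜ[R] x := rfl

/-- reduction of the completion modulo an open ideal agrees with that of the module. -/
theorem baseChange_of_bijective (hI : I.FG) (J : Ideal R) (n : ℕ) (hJ : I ^ n ≤ J) :
    Function.Bijective ((AdicCompletion.of I M).baseChange (R ⧸ J)) := by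
  constructor
  · let g₀ : AdicCompletion I M →ₗ[R] (R ⧸ J) ⊗[R] M :=
      (quotToTensor I M J n hJ).comp (AdicCompletion.eval I M n)
    let g : (R ⧸ J) ⊗[R] AdicCompletion I M →ₗ[R ⧸ J] (R ⧸ J) ⊗[R] M := g₀.liftBaseChange (R ⧸ J)
    have hg : g.comp ((AdicCompletion.of I M).baseChange (R ⧸ J)) = LinearMap.id := by
      apply TensorProduct.AlgebraTensorModule.ext
      intro c x
      simp only [LinearMap.comp_apply, LinearMap.baseChange_tmul, LinearMap.id_apply]
      change g₀.liftBaseChange (R ⧸ J) (c ⊗ₜ[R] AdicCompletion.of I M x) = _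
      rw [LinearMap.liftBaseChange_tmul]
      change c • quotToTensor I M J n hJ (AdicCompletion.eval I M n (AdicCompletion.of I M x)) = _
      rw [AdicCompletion.eval_of]
      change c • ((1 : R ⧸ J) ⊗ₜ[R] x) = _
      rw [TensorProduct.smul_tmul', smul_eq_mul, mul_one]
    exact Function.LeftInverse.injective (g := g) (fun y => LinearMap.congr_fun hg y)
  · intro z
    induction z using TensorProduct.induction_on with
    | zero => exact ⟨0, map_zero _⟩
    | tmul c y =>
      obtain ⟨x, hx⟩ := Submodule.Quotient.mk_surjective _ (AdicCompletion.eval I M n y)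
      have h1 : y - AdicCompletion.of I M x ∈ (I ^ n • ⊤ : Submodule R (AdicCompletion I M)) := by
        rw [AdicCompletion.pow_smul_top_eq_ker_eval hI, LinearMap.mem_ker, map_sub,
          AdicCompletion.eval_of, ← hx]
        exact sub_self _
      have h2 : c ⊗ₜ[R] (y - AdicCompletion.of I M x) = 0 :=
        tmul_eq_zero_of_mem J c _ (Submodule.smul_mono_left hJ h1)
      refine ⟨c ⊗ₜ[R] x, ?_⟩
      rw [LinearMap.baseChange_tmul]
      rw [TensorProduct.tmul_sub, sub_eq_zero] at h2
      exact h2.symm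
    | add z w hz hw =>
      obtain ⟨a, ha⟩ := hz
      obtain ⟨b, hb⟩ := hw
      exact ⟨a + b, by rw [map_add, ha, hb]⟩

/-- the reductions of the completion and of the module are isomorphic. -/
noncomputable def tensorEquiv (hI : I.FG) (J : Ideal R) (n : ℕ) (hJ : I ^ n ≤ J) :
    (R ⧸ J) ⊗[R] M ≃ₗ[R ⧸ J] (R ⧸ J) ⊗[R] AdicCompletion I M :=
  LinearEquiv.ofBijective _ (baseChange_of_bijective I M hI J n hJ)

end Tensor

section Free

variable {A : Type u} [CommRing A] [IsLocalRing A] [IsNoetherianRing A]
  (N : Type u) [AddCommGroup N] [Module A N] [Module.Finite A N]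

/-- a finite module over a Noetherian local ring which is flat modulo every power of the maximal
ideal is free. -/
theorem free_of_forall_flat
    (h : ∀ n : ℕ, 0 < n → Module.Flat (A ⧸ IsLocalRing.maximalIdeal A ^ n)
      ((A ⧸ IsLocalRing.maximalIdeal A ^ n) ⊗[A] N)) : Module.Free A N := by
  have hJ : (IsLocalRing.maximalIdeal A).map (algebraMap A A) ≤ Ideal.jacobson ⊥ := by
    rw [Algebra.algebraMap_self, Ideal.map_id, IsLocalRing.jacobson_eq_maximalIdeal ⊥ bot_ne_top]
  have hflat : Module.Flat A N :=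
    Groth.Agent.Lib.Helper2.PowCrit.flat_of_forall_flat_quotient_pow (S := A)
      (IsLocalRing.maximalIdeal A) hJ h
  exact Module.free_of_flat_of_isLocalRing

end Free

end Groth.Agent.Lib.Helper5.ComplFree
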