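import Groth.Agent.Lib.Helper5.ComplFreeA
import Groth.Agent.Lib.Helper5.AdicSmoothDer2
import Groth.Agent.Lib.Helper5.PBasisKaehler
import Mathlib

set_option autoImplicit false
set_option linter.unusedSectionVars false
universe u

open TensorProduct KaehlerDifferential

namespace Groth.Agent.Lib.Helper5.ComplFree

variable {k B : Type u} [CommRing k] [CommRing B] [Algebra k B] (𝔟 : Ideal B)

/-- over an adically formally smooth algebra, the module of differentials is projective modulo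
every open ideal. -/
theorem projective_tensor_kaehler (h : EGA41.IsFormallySmoothAdic k ⊥ B 𝔟) (J : Ideal B) (n : ℕ)
    (hJ : 𝔟 ^ n ≤ J) : Module.Projective (B ⧸ J) ((B ⧸ J) ⊗[B] Ω[B⁄k]) := by
  refine Module.Projective.of_lifting_property'' (fun f hf => ?_)
  let D₀ : Derivation k B ((B ⧸ J) ⊗[B] Ω[B⁄k]) :=
    (TensorProduct.mk B (B ⧸ J) Ω[B⁄k] 1).compDer (KaehlerDifferential.D k B)
  have hD₀ : ∀ b, D₀ b = (1 : B ⧸ J) ⊗ₜ[B] KaehlerDifferential.D k B b := fun _ => rfl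
  let D : Derivation ℤ B ((B ⧸ J) ⊗[B] Ω[B⁄k]) := PBasis.toIntDer D₀
  obtain ⟨D', hD'0, hD'⟩ := Groth.Agent.Lib.Helper5.AdicSmoothDer2.exists_derivation_lift
    (A := k) (B := B) (⊥ : Ideal k) 𝔟 (E := B ⧸ J) h
    ⟨1, by rw [pow_one, Ideal.map_bot]⟩
    ⟨n, fun x hx => Ideal.Quotient.eq_zero_iff_mem.mpr (hJ hx)⟩ f hf D
    (fun a => by
      change D₀ (algebraMap k B a) = 0
      exact D₀.map_algebraMap a)
  let D'' : Derivation k B (((B ⧸ J) ⊗[B] Ω[B⁄k]) →₀ (B ⧸ J)) := PBasis.toAlgDer D' hD'0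
  let s₀ : Ω[B⁄k] →ₗ[B] (((B ⧸ J) ⊗[B] Ω[B⁄k]) →₀ (B ⧸ J)) := D''.liftKaehlerDifferential
  have hs₀ : ∀ b, s₀ (KaehlerDifferential.D k B b) = D' b := fun b =>
    Derivation.liftKaehlerDifferential_comp_D D'' b
  have h1 : (f.restrictScalars B).comp s₀ = TensorProduct.mk B (B ⧸ J) Ω[B⁄k] 1 := by
    apply Derivation.liftKaehlerDifferential_unique
    ext b
    change f (s₀ (KaehlerDifferential.D k B b)) = (1 : B ⧸ J) ⊗ₜ[B] KaehlerDifferential.D k B b
    rw [hs₀, hD']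
    rfl
  refine ⟨s₀.liftBaseChange (B ⧸ J), ?_⟩
  apply TensorProduct.AlgebraTensorModule.ext
  intro c ω
  rw [LinearMap.comp_apply, LinearMap.liftBaseChange_tmul, map_smul, LinearMap.id_apply]
  have h2 := LinearMap.congr_fun h1 ω
  change f (s₀ ω) = (1 : B ⧸ J) ⊗ₜ[B] ω at h2
  rw [h2, TensorProduct.smul_tmul', smul_eq_mul, mul_one]

end Groth.Agent.Lib.Helper5.ComplFree
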