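import Groth.Agent.Lib.Helper5.ComplFreeB
import Mathlib

set_option autoImplicit false
set_option linter.unusedSectionVars false
universe u

open TensorProduct KaehlerDifferential IsLocalRing

namespace Groth.Agent.Lib.Helper5.ComplFree

variable {k A : Type u} [CommRing k] [CommRing A] [IsLocalRing A] [IsNoetherianRing A] [Algebra k A]

/-- the completed module of differentials of an adically formally smooth Noetherian local algebra
is free as soon as it is finite. -/
theorem free_completedKaehler (h : EGA41.IsFormallySmoothAdic k ⊥ A (maximalIdeal A))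
    [Module.Finite A (AdicCompletion (maximalIdeal A) (Ω[A⁄k]))] :
    Module.Free A (AdicCompletion (maximalIdeal A) (Ω[A⁄k])) := by
  apply free_of_forall_flat
  intro n _
  have hfg : (maximalIdeal A).FG := IsNoetherian.noetherian _
  have hproj : Module.Projective (A ⧸ maximalIdeal A ^ n)
      ((A ⧸ maximalIdeal A ^ n) ⊗[A] Ω[A⁄k]) :=
    projective_tensor_kaehler (maximalIdeal A) h (maximalIdeal A ^ n) n le_rfl
  have hproj' : Module.Projective (A ⧸ maximalIdeal A ^ n)
      ((A ⧸ maximalIdeal A ^ n) ⊗[A] AdicCompletion (maximalIdeal A) (Ω[A⁄k])) :=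
    Module.Projective.of_equiv
      (tensorEquiv (maximalIdeal A) (Ω[A⁄k]) hfg (maximalIdeal A ^ n) n le_rfl)
  infer_instance

/-- the rank of the completed module of differentials is the dimension of the fibre of the module
of differentials at the closed point. -/
theorem finrank_completedKaehler
    [Module.Finite A (AdicCompletion (maximalIdeal A) (Ω[A⁄k]))]
    [Module.Free A (AdicCompletion (maximalIdeal A) (Ω[A⁄k]))] :
    Module.finrank A (AdicCompletion (maximalIdeal A) (Ω[A⁄k])) =
      Module.finrank (A ⧸ maximalIdeal A) ((A ⧸ maximalIdeal A) ⊗[A] Ω[A⁄k]) := by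
  have hfg : (maximalIdeal A).FG := IsNoetherian.noetherian _
  have h1 : maximalIdeal A ^ 1 ≤ maximalIdeal A := by rw [pow_one]
  rw [(tensorEquiv (maximalIdeal A) (Ω[A⁄k]) hfg (maximalIdeal A) 1 h1).finrank_eq,
    Module.finrank_baseChange]

end Groth.Agent.Lib.Helper5.ComplFree
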