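import Groth.Agent.Lib.Helper5.SepSmooth
import Groth.Agent.Lib.Helper5.CohenEqui
import Mathlib

set_option autoImplicit false
universe u

open TensorProduct IsLocalRing KaehlerDifferential

namespace Groth.Agent.Lib.Helper5.GeomRegInj

/-- over a perfect base field, an element of the maximal ideal of a local algebra which is not in
its square is detected by a derivation with values in the residue field. -/
theorem exists_derivation_ne_zero (R₀ R : Type u) [Field R₀] [PerfectField R₀] [CommRing R]
    [IsLocalRing R] [Algebra R₀ R] (f : R) (hf : f ∈ maximalIdeal R)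
    (hf2 : f ∉ maximalIdeal R ^ 2) :
    ∃ D : Derivation R₀ R (ResidueField R), D f ≠ 0 := by
  have hgr : Algebra.IsGeometricallyReduced R₀ (ResidueField R) :=
    Groth.Agent.Lib.Helper5.CohenEqui.geomReduced_of_perfect _ _
  have hsm : Algebra.FormallySmooth R₀ (ResidueField R) :=
    Groth.Agent.Lib.Helper5.SepSmooth.formallySmooth_of_geomReduced
  have hsurj : Function.Surjective (algebraMap R (ResidueField R)) := residue_surjective
  let π := (IsScalarTower.toAlgHom R₀ R (ResidueField R)).kerSquareLift
  have hπ : Function.Surjective π := by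
    intro y
    obtain ⟨r, rfl⟩ := hsurj y
    exact ⟨Ideal.Quotient.mk _ r, rfl⟩
  have hnil : IsNilpotent (RingHom.ker (π : (R ⧸ RingHom.ker (IsScalarTower.toAlgHom R₀ R
      (ResidueField R)).toRingHom ^ 2) →+* ResidueField R)) := by
    refine ⟨2, ?_⟩
    have := AlgHom.ker_kerSquareLift (IsScalarTower.toAlgHom R₀ R (ResidueField R))
    rw [show RingHom.ker (π : (R ⧸ RingHom.ker (IsScalarTower.toAlgHom R₀ R
      (ResidueField R)).toRingHom ^ 2) →+* ResidueField R) = _ from this]
    exact Ideal.cotangentIdeal_square _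
  let g := Algebra.FormallySmooth.liftOfSurjective (AlgHom.id R₀ (ResidueField R)) π hπ hnil
  have hg : π.comp g = AlgHom.id R₀ (ResidueField R) :=
    Algebra.FormallySmooth.comp_liftOfSurjective _ _ hπ hnil
  obtain ⟨l, hl⟩ := (retractionKerCotangentToTensorEquivSection (R := R₀) hsurj).symm ⟨g, hg⟩
  have hfker : f ∈ RingHom.ker (algebraMap R (ResidueField R)) := by
    rw [RingHom.mem_ker]
    exact (residue_eq_zero_iff f).mpr hf
  have hne : kerCotangentToTensor R₀ R (ResidueField R)
      ((RingHom.ker (algebraMap R (ResidueField R))).toCotangent ⟨f, hfker⟩) ≠ 0 := by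
    intro h0
    have h1 := LinearMap.congr_fun hl
      ((RingHom.ker (algebraMap R (ResidueField R))).toCotangent ⟨f, hfker⟩)
    rw [LinearMap.comp_apply, h0, map_zero, LinearMap.id_apply] at h1
    have h2 := (Ideal.toCotangent_eq_zero _ _).mp h1.symm
    apply hf2
    have hk : RingHom.ker (algebraMap R (ResidueField R)) = maximalIdeal R := ker_residue (R := R)
    have h3 : f ∈ RingHom.ker (algebraMap R (ResidueField R)) ^ 2 := h2
    rwa [hk] at h3
  rw [kerCotangentToTensor_toCotangent] at hne
  obtain ⟨ψ, hψ⟩ : ∃ ψ : Module.Dual (ResidueField R) ((ResidueField R) ⊗[R] Ω[R⁄R₀]),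
      ψ ((1 : ResidueField R) ⊗ₜ[R] KaehlerDifferential.D R₀ R f) ≠ 0 := by
    by_contra hcon
    push Not at hcon
    exact hne ((Module.forall_dual_apply_eq_zero_iff (ResidueField R) _).mp hcon)
  refine ⟨((ψ.restrictScalars R).comp (TensorProduct.mk R (ResidueField R) Ω[R⁄R₀] 1)).compDer
    (KaehlerDifferential.D R₀ R), ?_⟩
  exact hψ

end Groth.Agent.Lib.Helper5.GeomRegInj
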