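import Groth.Agent.Lib.Helper5.KahlerInjA
import Mathlib

set_option autoImplicit false
universe u

open TensorProduct IsLocalRing KaehlerDifferential

namespace Groth.Agent.Lib.Helper5.KahlerInj

variable {k A : Type u} [Field k] [CommRing A] [IsLocalRing A] [Algebra k A]

/-- the linear form on `Ω_k` cut out by a functional on `K ⊗ (A ⊗ Ω_k)`. -/
noncomputable def nuOf
    (l : (ResidueField A) ⊗[A] (A ⊗[k] Ω[k⁄ℤ]) →ₗ[ResidueField A] ResidueField A) :
    Ω[k⁄ℤ] →ₗ[k] ResidueField A where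
  toFun ω := l ((1 : ResidueField A) ⊗ₜ[A] ((1 : A) ⊗ₜ[k] ω))
  map_add' x y := by rw [TensorProduct.tmul_add, TensorProduct.tmul_add, map_add]
  map_smul' a x := by
    rw [RingHom.id_apply, TensorProduct.tmul_smul, ← algebraMap_smul A a ((1 : A) ⊗ₜ[k] x),
      TensorProduct.tmul_smul, ← algebraMap_smul (ResidueField A) (algebraMap k A a), map_smul,
      algebraMap_smul, algebraMap_smul]

theorem apply_one_tmul_smul
    (l : (ResidueField A) ⊗[A] (A ⊗[k] Ω[k⁄ℤ]) →ₗ[ResidueField A] ResidueField A)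
    (a : A) (y : A ⊗[k] Ω[k⁄ℤ]) :
    l ((1 : ResidueField A) ⊗ₜ[A] (a • y)) = a • l ((1 : ResidueField A) ⊗ₜ[A] y) := by
  have h1 : (1 : ResidueField A) ⊗ₜ[A] (a • y) =
      (algebraMap A (ResidueField A) a) • ((1 : ResidueField A) ⊗ₜ[A] y) := by
    rw [TensorProduct.tmul_smul, algebraMap_smul]
  rw [h1, map_smul, algebraMap_smul]

theorem liftBaseChange_nuOf
    (l : (ResidueField A) ⊗[A] (A ⊗[k] Ω[k⁄ℤ]) →ₗ[ResidueField A] ResidueField A)
    (y : A ⊗[k] Ω[k⁄ℤ]) :
    (nuOf l).liftBaseChange A y = l ((1 : ResidueField A) ⊗ₜ[A] y) := by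
  induction y using TensorProduct.induction_on with
  | zero => simp
  | tmul a ω =>
    rw [LinearMap.liftBaseChange_tmul]
    have h2 : a ⊗ₜ[k] ω = a • ((1 : A) ⊗ₜ[k] ω) := by
      rw [TensorProduct.smul_tmul', smul_eq_mul, mul_one]
    rw [h2, apply_one_tmul_smul]
    rfl
  | add x y hx hy => rw [map_add, TensorProduct.tmul_add, map_add, hx, hy]

theorem formOf_nuOf
    (l : (ResidueField A) ⊗[A] (A ⊗[k] Ω[k⁄ℤ]) →ₗ[ResidueField A] ResidueField A) :
    formOf (nuOf l) = l.restrictScalars A := by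
  apply TensorProduct.ext'
  intro c y
  rw [formOf_tmul, LinearMap.restrictScalars_apply]
  have h1 : c ⊗ₜ[A] y = c • ((1 : ResidueField A) ⊗ₜ[A] y) := by
    rw [TensorProduct.smul_tmul', smul_eq_mul, mul_one]
  rw [h1, map_smul, smul_eq_mul, liftBaseChange_nuOf]

theorem injective_of_adicSmooth (h : CAlgX.IsAdicFormallySmooth k A (maximalIdeal A)) :
    Function.Injective
      ((KaehlerDifferential.mapBaseChange ℤ k A).lTensor (ResidueField A)) := by
  rw [injective_iff_map_eq_zero]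
  intro x hx
  by_contra hne
  obtain ⟨l, hl⟩ : ∃ l : Module.Dual (ResidueField A)
      ((ResidueField A) ⊗[A] (A ⊗[k] Ω[k⁄ℤ])), l x ≠ 0 := by
    by_contra hcon
    push Not at hcon
    exact hne ((Module.forall_dual_apply_eq_zero_iff (ResidueField A) x).mp hcon)
  let ν := nuOf l
  let D : Derivation ℤ k (ResidueField A) := ν.compDer (KaehlerDifferential.D ℤ k)
  obtain ⟨D', hD'⟩ := Groth.Agent.Lib.Helper5.AdicSmoothDer.exists_derivation_extends
    (L := ResidueField A) (maximalIdeal A) h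
    ⟨1, fun y hy => by
      rw [pow_one] at hy
      exact (residue_eq_zero_iff y).mpr hy⟩ D
  have h1 := formOfDer_comp D' ν (fun t => hD' t)
  have h2 := LinearMap.congr_fun h1 x
  rw [LinearMap.comp_apply, hx, map_zero, formOf_nuOf] at h2
  exact hl h2.symm

end Groth.Agent.Lib.Helper5.KahlerInj
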