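import Groth.Agent.Lib.Helper5.ComplFreeC
import Groth.Agent.Lib.Helper5.KahlerInjB
import Groth.Agent.Lib.Helper5.GeomRegInjA
import Groth.Agent.Lib.Helper5.AdicRegE
import Groth.Agent.Lib.Helper5.CartierMain
import Mathlib

set_option autoImplicit false
set_option linter.unusedSectionVars false
universe u

open TensorProduct KaehlerDifferential IsLocalRing

namespace Groth.Agent.Lib.Helper5.ComplFree

section LinAlg

variable {K X Y W : Type*} [Field K] [AddCommGroup X] [AddCommGroup Y] [AddCommGroup W]
  [Module K X] [Module K Y] [Module K W]

theorem finrank_comap_range (f : X →ₗ[K] W) (g : Y →ₗ[K] W) (hf : Function.Injective f)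
    (hg : Function.Injective g) :
    Module.finrank K (Submodule.comap f (LinearMap.range g)) =
      Module.finrank K (Submodule.comap g (LinearMap.range f)) := by
  have e1 := Submodule.equivMapOfInjective f hf (Submodule.comap f (LinearMap.range g))
  have e2 := Submodule.equivMapOfInjective g hg (Submodule.comap g (LinearMap.range f))
  rw [e1.finrank_eq, e2.finrank_eq, Submodule.map_comap_eq, Submodule.map_comap_eq, inf_comm]

end LinAlg

section Cot

variable (k : Type*) [CommRing k] (A : Type u) [CommRing A] [IsLocalRing A] [Algebra k A]

theorem ker_algebraMap_residue :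
    maximalIdeal A = RingHom.ker (algebraMap A (ResidueField A)) := (ker_residue (R := A)).symm

/-- the map from the cotangent space to the fibre of the module of differentials. -/
noncomputable def cotToTensor :
    CotangentSpace A →ₗ[ResidueField A] (ResidueField A) ⊗[A] Ω[A⁄k] :=
  ((kerCotangentToTensor k A (ResidueField A)).comp
    (Ideal.Cotangent.equivOfEq (maximalIdeal A) (RingHom.ker (algebraMap A (ResidueField A)))
      (ker_algebraMap_residue A)).toLinearMap).extendScalarsOfSurjective residue_surjective

theorem cotToTensor_toCotangent (x : maximalIdeal A) :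
    cotToTensor k A ((maximalIdeal A).toCotangent x) =
      (1 : ResidueField A) ⊗ₜ[A] KaehlerDifferential.D k A (x : A) := by
  change kerCotangentToTensor k A (ResidueField A)
    (Ideal.Cotangent.equivOfEq (maximalIdeal A) (RingHom.ker (algebraMap A (ResidueField A)))
      (ker_algebraMap_residue A) ((maximalIdeal A).toCotangent x)) = _
  rw [Ideal.Cotangent.equivOfEq_toCotangent, kerCotangentToTensor_toCotangent]
  rfl

theorem range_cotToTensor :
    LinearMap.range (cotToTensor k A) =
      LinearMap.ker (KaehlerDifferential.mapBaseChange k A (ResidueField A)) := by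
  have hex := KaehlerDifferential.exact_kerCotangentToTensor_mapBaseChange k A (ResidueField A)
    residue_surjective
  ext y
  rw [LinearMap.mem_ker, hex y]
  constructor
  · rintro ⟨x, rfl⟩
    exact ⟨_, rfl⟩
  · rintro ⟨x, rfl⟩
    refine ⟨(Ideal.Cotangent.equivOfEq (maximalIdeal A)
      (RingHom.ker (algebraMap A (ResidueField A))) (ker_algebraMap_residue A)).symm x, ?_⟩
    change kerCotangentToTensor k A (ResidueField A)
      (Ideal.Cotangent.equivOfEq (maximalIdeal A) (RingHom.ker (algebraMap A (ResidueField A)))
        (ker_algebraMap_residue A) _) = _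
    rw [LinearEquiv.apply_symm_apply]

end Cot

end Groth.Agent.Lib.Helper5.ComplFree
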