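import Groth.Agent.Lib.Helper5.ComplFreeD
import Mathlib

set_option autoImplicit false
set_option linter.unusedSectionVars false
universe u

open TensorProduct KaehlerDifferential IsLocalRing

namespace Groth.Agent.Lib.Helper5.ComplFree

variable {k₀ A : Type u} [Field k₀] [CommRing A] [IsLocalRing A] [Algebra k₀ A]

/-- over a local algebra over a field, the cotangent space embeds into the fibre of the module
of absolute differentials. -/
theorem cotToTensor_int_injective (k₀ : Type u) [Field k₀] [Algebra k₀ A] :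
    Function.Injective (cotToTensor ℤ A) := by
  let _ : Algebra (AdicReg.PF k₀) A :=
    ((algebraMap k₀ A).comp (algebraMap (AdicReg.PF k₀) k₀)).toAlgebra
  rw [injective_iff_map_eq_zero]
  intro x hx
  obtain ⟨f, rfl⟩ := Ideal.toCotangent_surjective _ x
  rw [Ideal.toCotangent_eq_zero]
  by_contra hf2
  obtain ⟨D, hD⟩ := Groth.Agent.Lib.Helper5.GeomRegInj.exists_derivation_ne_zero
    (AdicReg.PF k₀) A (f : A) f.2 hf2
  let ψ : (ResidueField A) ⊗[A] Ω[A⁄ℤ] →ₗ[ResidueField A] ResidueField A :=
    (PBasis.toIntDer D).liftKaehlerDifferential.liftBaseChange (ResidueField A)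
  have h1 : ψ ((1 : ResidueField A) ⊗ₜ[A] KaehlerDifferential.D ℤ A (f : A)) = D f := by
    change (PBasis.toIntDer D).liftKaehlerDifferential.liftBaseChange (ResidueField A) _ = _
    rw [LinearMap.liftBaseChange_tmul, one_smul, Derivation.liftKaehlerDifferential_comp_D]
    rfl
  rw [cotToTensor_toCotangent] at hx
  rw [hx, map_zero] at h1
  exact hD h1.symm

end Groth.Agent.Lib.Helper5.ComplFree

namespace Groth.Agent.Lib.Helper5.ComplFree

section Base

variable (k₀ A : Type u) [Field k₀] [CommRing A] [IsLocalRing A] [Algebra k₀ A]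

/-- the map on fibres of absolute differentials induced by the base field. -/
noncomputable def baseToTensor :
    (ResidueField A) ⊗[k₀] Ω[k₀⁄ℤ] →ₗ[ResidueField A] (ResidueField A) ⊗[A] Ω[A⁄ℤ] :=
  LinearMap.liftBaseChange (ResidueField A)
    (((TensorProduct.mk A (ResidueField A) Ω[A⁄ℤ] 1).restrictScalars k₀).comp
      (KaehlerDifferential.map ℤ ℤ k₀ A))

theorem baseToTensor_tmul (c : ResidueField A) (ω : Ω[k₀⁄ℤ]) :
    baseToTensor k₀ A (c ⊗ₜ[k₀] ω) = c ⊗ₜ[A] KaehlerDifferential.map ℤ ℤ k₀ A ω := by
  unfold baseToTensor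
  rw [LinearMap.liftBaseChange_tmul]
  change c • ((1 : ResidueField A) ⊗ₜ[A] KaehlerDifferential.map ℤ ℤ k₀ A ω) = _
  rw [TensorProduct.smul_tmul', smul_eq_mul, mul_one]

theorem map_map_kaehler (ω : Ω[k₀⁄ℤ]) :
    KaehlerDifferential.map ℤ ℤ A (ResidueField A) (KaehlerDifferential.map ℤ ℤ k₀ A ω) =
      KaehlerDifferential.map ℤ ℤ k₀ (ResidueField A) ω := by
  have h : ((KaehlerDifferential.map ℤ ℤ A (ResidueField A)).restrictScalars k₀).comp
      (KaehlerDifferential.map ℤ ℤ k₀ A) = KaehlerDifferential.map ℤ ℤ k₀ (ResidueField A) := by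
    apply Derivation.liftKaehlerDifferential_unique
    ext t
    change KaehlerDifferential.map ℤ ℤ A (ResidueField A)
      (KaehlerDifferential.map ℤ ℤ k₀ A (KaehlerDifferential.D ℤ k₀ t)) =
        KaehlerDifferential.map ℤ ℤ k₀ (ResidueField A) (KaehlerDifferential.D ℤ k₀ t)
    rw [KaehlerDifferential.map_D, KaehlerDifferential.map_D, KaehlerDifferential.map_D,
      ← IsScalarTower.algebraMap_apply]
  exact LinearMap.congr_fun h ω

theorem mapBaseChange_comp_baseToTensor :
    (KaehlerDifferential.mapBaseChange ℤ A (ResidueField A)).comp (baseToTensor k₀ A) =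
      KaehlerDifferential.mapBaseChange ℤ k₀ (ResidueField A) := by
  apply TensorProduct.AlgebraTensorModule.ext
  intro c ω
  rw [LinearMap.comp_apply, baseToTensor_tmul, KaehlerDifferential.mapBaseChange_tmul,
    KaehlerDifferential.mapBaseChange_tmul, map_map_kaehler]

theorem baseToTensor_cancel (z : (ResidueField A) ⊗[A] (A ⊗[k₀] Ω[k₀⁄ℤ])) :
    baseToTensor k₀ A
      (TensorProduct.AlgebraTensorModule.cancelBaseChange k₀ A (ResidueField A) (ResidueField A)
        Ω[k₀⁄ℤ] z) = (KaehlerDifferential.mapBaseChange ℤ k₀ A).lTensor (ResidueField A) z := by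
  induction z using TensorProduct.induction_on with
  | zero => simp
  | add x y hx hy => rw [map_add, map_add, map_add, hx, hy]
  | tmul c y =>
    induction y using TensorProduct.induction_on with
    | zero => simp
    | add x y hx hy =>
      rw [TensorProduct.tmul_add, map_add, map_add, map_add, hx, hy]
    | tmul a ω =>
      rw [TensorProduct.AlgebraTensorModule.cancelBaseChange_tmul, baseToTensor_tmul,
        LinearMap.lTensor_tmul, KaehlerDifferential.mapBaseChange_tmul, TensorProduct.tmul_smul,
        TensorProduct.smul_tmul']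

end Base

end Groth.Agent.Lib.Helper5.ComplFree
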