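import Mathlib

set_option autoImplicit false

namespace Groth.Agent.Lib.Helper5.ComplLimit

section Lim

variable {A : Type*} [CommRing A] {M : Type*} [AddCommGroup M] [Module A M] [UniformSpace M]
  [IsUniformAddGroup M] (S : ℕ → Submodule A M) (hS : Antitone S)
  (hnhds : ∀ n, (S n : Set M) ∈ nhds (0 : M))
  (hbasis : ∀ U ∈ nhds (0 : M), ∃ n, (S n : Set M) ⊆ U)

omit [IsUniformAddGroup M] in
include hbasis in
theorem eq_zero_of_forall_mem [T2Space M] (x : M) (hx : ∀ n, x ∈ S n) : x = 0 := by
  by_contra hne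
  have h1 : ({x}ᶜ : Set M) ∈ nhds (0 : M) :=
    isOpen_compl_singleton.mem_nhds (fun h => hne (Set.mem_singleton_iff.mp h).symm)
  obtain ⟨n, hn⟩ := hbasis _ h1
  exact hn (hx n) rfl

include hS hnhds hbasis in
theorem exists_limit [CompleteSpace M] (m : ℕ → M) (hm : ∀ n, m (n + 1) - m n ∈ S n) :
    ∃ a : M, ∀ n, a - m n ∈ S n := by
  have hm' : ∀ n k, m (n + k) - m n ∈ S n := by
    intro n k
    induction k with
    | zero => simp
    | succ k ih =>
      have h1 : m (n + (k + 1)) - m n = (m (n + k + 1) - m (n + k)) + (m (n + k) - m n) := by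
        rw [← add_assoc]; abel
      rw [h1]
      exact (S n).add_mem (hS (Nat.le_add_right n k) (hm (n + k))) ih
  have hb : (nhds (0 : M)).HasBasis (fun _ : ℕ => True) (fun n => (S n : Set M)) := by
    rw [Filter.hasBasis_iff]
    intro t
    constructor
    · intro ht
      obtain ⟨n, hn⟩ := hbasis t ht
      exact ⟨n, trivial, hn⟩
    · rintro ⟨n, -, hn⟩
      exact Filter.mem_of_superset (hnhds n) hn
  have hc : CauchySeq m := by
    rw [hb.uniformity_of_nhds_zero.cauchySeq_iff]
    intro n _
    refine ⟨n, fun a ha b hb' => ?_⟩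
    obtain ⟨ka, rfl⟩ := Nat.exists_eq_add_of_le ha
    obtain ⟨kb, rfl⟩ := Nat.exists_eq_add_of_le hb'
    change m (n + kb) - m (n + ka) ∈ S n
    have : m (n + kb) - m (n + ka) = (m (n + kb) - m n) - (m (n + ka) - m n) := by abel
    rw [this]
    exact (S n).sub_mem (hm' n kb) (hm' n ka)
  obtain ⟨a, ha⟩ := cauchySeq_tendsto_of_complete hc
  refine ⟨a, fun n => ?_⟩
  have hopen : IsOpen ((S n).toAddSubgroup : Set M) :=
    AddSubgroup.isOpen_of_mem_nhds _ (hnhds n)
  have hclosed : IsClosed ((S n).toAddSubgroup : Set M) := AddSubgroup.isClosed_of_isOpen _ hopen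
  have hC : IsClosed {x : M | x - m n ∈ S n} :=
    hclosed.preimage (continuous_id.sub continuous_const)
  apply hC.mem_of_tendsto ha
  rw [Filter.eventually_atTop]
  refine ⟨n, fun b hb' => ?_⟩
  obtain ⟨k, rfl⟩ := Nat.exists_eq_add_of_le hb'
  exact hm' n k

include hS hnhds hbasis in
/-- a compatible family of linear maps into the quotients defines a linear map into a complete
Hausdorff module -/
theorem exists_linearMap_of_compat [CompleteSpace M] [T2Space M] {N : Type*} [AddCommGroup N]
    [Module A N] (W : ∀ n, N →ₗ[A] M ⧸ S n)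
    (hcompat : ∀ n y, Submodule.mapQ (S (n + 1)) (S n) LinearMap.id
      (by rw [Submodule.comap_id]; exact hS (Nat.le_succ n)) (W (n + 1) y) = W n y) :
    ∃ w : N →ₗ[A] M, ∀ n y, Submodule.Quotient.mk (w y) = W n y := by
  have hex : ∀ y : N, ∃ a : M, ∀ n, Submodule.Quotient.mk a = W n y := by
    intro y
    choose m hm using fun n => Submodule.Quotient.mk_surjective (S n) (W n y)
    have hm' : ∀ n, m (n + 1) - m n ∈ S n := by
      intro n
      rw [← Submodule.Quotient.eq, hm n, ← hcompat n y, ← hm (n + 1)]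
      rfl
    obtain ⟨a, ha⟩ := exists_limit S hS hnhds hbasis m hm'
    refine ⟨a, fun n => ?_⟩
    rw [← hm n]
    exact (Submodule.Quotient.eq _).mpr (ha n)
  choose w hw using hex
  have huniq : ∀ a b : M, (∀ n, (Submodule.Quotient.mk a : M ⧸ S n) = Submodule.Quotient.mk b) →
      a = b := by
    intro a b h
    rw [← sub_eq_zero]
    apply eq_zero_of_forall_mem S hbasis
    intro n
    exact (Submodule.Quotient.eq _).mp (h n)
  refine ⟨{ toFun := w, map_add' := fun y z => ?_, map_smul' := fun c y => ?_ },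
    fun n y => hw y n⟩
  · apply huniq
    intro n
    rw [Submodule.Quotient.mk_add, hw, hw, hw, map_add]
  · apply huniq
    intro n
    rw [RingHom.id_apply, Submodule.Quotient.mk_smul, hw, hw, map_smul]

end Lim

end Groth.Agent.Lib.Helper5.ComplLimit
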