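import Mathlib
import Groth.Prelude.Def_RegImm
import Groth.Agent.Lib.Helper29.H1Alg

set_option autoImplicit false
universe u

namespace Groth.Agent.Lib.Helper5.ConInt

open Groth.Agent.Lib.Helper29.H1Alg

theorem coeff_mem_of_gens {A : Type u} [CommRing A] {N : ℕ} (h : Fin N → A)
    (hh : CAlgX.IsH1Regular h) {ι : Type} [Fintype ι] [DecidableEq ι]
    (hcard : Fintype.card ι = N) (f : ι → A)
    (hf : Ideal.span (Set.range f) = Ideal.span (Set.range h)) (c : ι → A)
    (hc : ∑ k, c k * f k ∈ Ideal.span (Set.range h) * Ideal.span (Set.range h)) (k : ι) :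
    c k ∈ Ideal.span (Set.range h) := by
  classical
  set I := Ideal.span (Set.range h) with hI
  have h1 : ∀ k, ∃ p : Fin N → A, ∑ m, p m * h m = f k := fun k =>
    (Ideal.mem_span_range_iff_exists_fun).1 (hf ▸ Ideal.subset_span ⟨k, rfl⟩ : f k ∈ I)
  choose P hP using h1
  have h2 : ∀ m, ∃ q : ι → A, ∑ k, q k * f k = h m := fun m =>
    (Ideal.mem_span_range_iff_exists_fun).1 (hf.symm ▸ Ideal.subset_span ⟨m, rfl⟩ :
      h m ∈ Ideal.span (Set.range f))
  choose Q hQ using h2
  let π := Ideal.Quotient.mk I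
  let Pm : Matrix ι (Fin N) A := Matrix.of P
  let Qm : Matrix (Fin N) ι A := Matrix.of Q
  have h3 : ∀ m m', (Qm * Pm - 1 : Matrix (Fin N) (Fin N) A) m m' ∈ I := by
    intro m
    have hrel : ∑ m', (Qm * Pm - 1 : Matrix (Fin N) (Fin N) A) m m' * h m' = 0 := by
      have e1 : ∑ m', (Qm * Pm) m m' * h m' = h m := by
        conv_rhs => rw [← hQ m]
        simp only [Matrix.mul_apply, Finset.sum_mul]
        rw [Finset.sum_comm]
        refine Finset.sum_congr rfl fun k _ => ?_
        rw [← hP k, Finset.mul_sum]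
        refine Finset.sum_congr rfl fun m' _ => ?_
        simp only [Qm, Pm, Matrix.of_apply]
        ring
      simp only [Matrix.sub_apply, sub_mul, Finset.sum_sub_distrib, e1, Matrix.one_apply, ite_mul,
        one_mul, zero_mul, Finset.sum_ite_eq, Finset.mem_univ, if_true, sub_self]
    exact fun m' => coeff_mem_of_h1 h hh _ hrel m'
  have h4 : Qm.map π * Pm.map π = 1 := by
    rw [← Matrix.map_mul]
    ext m m'
    have := h3 m m'
    rw [Matrix.map_apply, Matrix.one_apply]
    have e : π ((Qm * Pm) m m') - π ((1 : Matrix (Fin N) (Fin N) A) m m') = 0 := by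
      rw [← map_sub, ← Matrix.sub_apply]
      exact Ideal.Quotient.eq_zero_iff_mem.2 this
    rw [sub_eq_zero] at e
    rw [e, Matrix.one_apply]
    split_ifs <;> simp
  have h5 : Pm.map π * Qm.map π = 1 :=
    (Matrix.mul_eq_one_comm_of_equiv (Fintype.equivFinOfCardEq hcard).symm).1 h4
  have h6 : ∀ m, ∑ k, c k * P k m ∈ I := by
    have e : ∑ m, (∑ k, c k * P k m) * h m = ∑ k, c k * f k := by
      simp only [Finset.sum_mul]
      rw [Finset.sum_comm]
      refine Finset.sum_congr rfl fun k _ => ?_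
      rw [← hP k, Finset.mul_sum]
      refine Finset.sum_congr rfl fun m' _ => ?_
      ring
    rw [← e] at hc
    exact fun m => coeff_mem_of_sum_mem_sq h hh _ hc m
  have h7 : Matrix.vecMul (fun k => π (c k)) (Pm.map π) = 0 := by
    ext m
    simp only [Matrix.vecMul, dotProduct, Matrix.map_apply, Pi.zero_apply]
    rw [← Ideal.Quotient.eq_zero_iff_mem.2 (h6 m), map_sum]
    refine Finset.sum_congr rfl fun k _ => ?_
    rw [map_mul]
    rfl
  have h8 : (fun k => π (c k)) = 0 := by
    have := congrArg (fun v => Matrix.vecMul v (Qm.map π)) h7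
    simp only [Matrix.vecMul_vecMul, h5, Matrix.vecMul_one, Matrix.zero_vecMul] at this
    exact this
  exact Ideal.Quotient.eq_zero_iff_mem.1 (congrFun h8 k)

theorem mem_mul_of_sum_mem_sq {A : Type u} [CommRing A] {r : ℕ} (d : Fin r → ℕ)
    (rs : Fin r → List A) (hlen : ∀ l, (rs l).length = d l) (h : List A)
    (hhlen : h.length = ∑ l, d l) (hh : CAlgX.IsH1Regular h.get)
    (hI : Ideal.ofList h = ⨆ l, Ideal.ofList (rs l)) (a : Fin r → A)
    (ha : ∀ l, a l ∈ Ideal.ofList (rs l))
    (hsum : ∑ l, a l ∈ Ideal.ofList h * Ideal.ofList h) (l : Fin r) :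
    a l ∈ Ideal.ofList (rs l) * Ideal.ofList h := by
  classical
  have hoh : Ideal.ofList h = Ideal.span (Set.range h.get) := by
    rw [range_get_eq]
  have hors : ∀ l, Ideal.ofList (rs l) = Ideal.span (Set.range (rs l).get) := by
    intro l; rw [range_get_eq]
  have h1 : ∀ l, ∃ c : Fin (rs l).length → A, ∑ k, c k * (rs l).get k = a l := fun l =>
    (Ideal.mem_span_range_iff_exists_fun).1 (hors l ▸ ha l)
  choose c hc using h1
  let f : (Σ l : Fin r, Fin (rs l).length) → A := fun p => (rs p.1).get p.2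
  have hcard : Fintype.card (Σ l : Fin r, Fin (rs l).length) = h.length := by
    rw [Fintype.card_sigma, hhlen]
    refine Finset.sum_congr rfl fun l _ => ?_
    rw [Fintype.card_fin, hlen]
  have hf : Ideal.span (Set.range f) = Ideal.span (Set.range h.get) := by
    rw [← hoh, hI]
    apply le_antisymm
    · rw [Ideal.span_le]
      rintro _ ⟨⟨l, k⟩, rfl⟩
      exact (le_iSup (fun l => Ideal.ofList (rs l)) l) (hors l ▸ Ideal.subset_span ⟨k, rfl⟩)
    · refine iSup_le fun l => ?_
      rw [hors l, Ideal.span_le]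
      rintro _ ⟨k, rfl⟩
      exact Ideal.subset_span ⟨⟨l, k⟩, rfl⟩
  have hs : ∑ p : (Σ l : Fin r, Fin (rs l).length), c p.1 p.2 * f p = ∑ l, a l := by
    rw [Fintype.sum_sigma]
    exact Finset.sum_congr rfl fun l _ => hc l
  have key := coeff_mem_of_gens h.get hh hcard f hf (fun p => c p.1 p.2)
    (by rw [hs, ← hoh]; exact hsum)
  rw [← hc l, mul_comm]
  refine Ideal.sum_mem _ fun k _ => ?_
  refine Ideal.mul_mem_mul ?_ ?_
  · rw [hoh]; exact key ⟨l, k⟩
  · rw [hors l]; exact Ideal.subset_span ⟨k, rfl⟩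

end Groth.Agent.Lib.Helper5.ConInt
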