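import Mathlib
import Groth.Prelude.Def_RegImm
import Groth.Prelude.Def_Omega3
import Groth.Agent.Lib.Helper29.H1Mono
import Groth.Agent.Lib.Helper29.FreeIso
import Groth.Agent.Lib.Helper5.ConIntA
import Groth.Agent.Lib.Helper5.RegImmA
import Groth.Agent.Lib.Helper5.KosH1C

set_option autoImplicit false
universe u

open CategoryTheory CategoryTheory.Limits AlgebraicGeometry TopologicalSpace Opposite

namespace Groth.Agent.Lib.Helper5.ConInt

open Groth.Agent.Lib.Helper28.QCohLoc Groth.Agent.Lib.Helper29.ConormalMap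
  Groth.Agent.Lib.Helper29.ConormalBC Groth.Agent.Lib.Helper29.ConormalChart
  Groth.Agent.Lib.Helper29.H1Mono Groth.Agent.Lib.Helper29.FreeIso

theorem coborderRange_eq_top {Z X : Scheme.{u}} (f : Z ⟶ X) [IsClosedImmersion f] :
    f.coborderRange = ⊤ := by
  apply Opens.ext
  exact f.isClosedEmbedding.isClosed_range.coborder_eq

theorem le_coborderRange {Z X : Scheme.{u}} (f : Z ⟶ X) [IsClosedImmersion f] (W : X.Opens) :
    W ≤ f.coborderRange := by
  rw [coborderRange_eq_top]; exact le_top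

section

variable {X Y : Scheme.{u}} {r : ℕ} {Xs : Fin r → Scheme.{u}} (j : ∀ l, Xs l ⟶ X)
  [∀ l, IsClosedImmersion (j l)] (i : Y ⟶ X) [IsClosedImmersion i]
  (g : ∀ l, Y ⟶ Xs l) (hg : ∀ l, g l ≫ j l = i)

include hg in
theorem isClosedImmersion_g (l : Fin r) : IsClosedImmersion (g l) := by
  have : IsClosedImmersion (g l ≫ j l) := by rw [hg l]; infer_instance
  exact IsClosedImmersion.of_comp (g l) (j l)

include hg in
theorem hsq (l : Fin r) : g l ≫ j l = i ≫ 𝟙 X := (hg l).trans (Category.comp_id i).symm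

/-- the summands -/
noncomputable abbrev P (l : Fin r) : Y.Modules :=
  (Scheme.Modules.pullback (g l)).obj (Omega.conormal (j l))

/-- the canonical maps -/
noncomputable def φ (l : Fin r) : P j g l ⟶ Omega.conormal i :=
  conormalMap i (j l) (𝟙 X) (g l) (hsq j i g hg l)

/-- the transferred section of the big ideal -/
noncomputable def T (l : Fin r) (W : X.Opens) (s : Γ(ClSub.idealMod (j l).ker, W)) :
    Γ(ClSub.idealMod i.ker, W) :=
  pushSect i (j l) (𝟙 X) (g l) (hsq j i g hg l) W s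

theorem idealSect_T (l : Fin r) (W : X.Opens) (s : Γ(ClSub.idealMod (j l).ker, W)) :
    OmegaSh.idealSect i.ker W (T j i g hg l W s) = OmegaSh.idealSect (j l).ker W s := by
  have h := idealSect_pushSect i (j l) (𝟙 X) (g l) (hsq j i g hg l) W s
  have h4 : (𝟙 X : X ⟶ X).app W (OmegaSh.idealSect (j l).ker W s) =
      OmegaSh.idealSect (j l).ker W s := by
    rw [Scheme.Hom.id_app]; rfl
  exact h.trans h4

theorem φ_app (l : Fin r) (W : X.Opens) (s : Γ(ClSub.idealMod (j l).ker, W)) (V : Y.Opens)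
    (h₁ : V ≤ g l ⁻¹ᵁ (j l ⁻¹ᵁ W)) (h₂ : V ≤ i ⁻¹ᵁ W) :
    (φ j i g hg l).app V (res (P j g l) h₁ (cc (g l) (j l) s)) =
      res (Omega.conormal i) h₂ (OmegaSh.conormalSect i W (T j i g hg l W s)) := by
  rw [app_res]
  exact (isConormalMap_conormalMap i (j l) (𝟙 X) (g l) (hsq j i g hg l)).2 W s
    (T j i g hg l W s) (idealSect_pushSect i (j l) (𝟙 X) (g l) (hsq j i g hg l) W s) V h₁ h₂

theorem res_sum (M : Y.Modules) {U V : Y.Opens} (h : V ≤ U) {ι : Type*} (s : Finset ι)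
    (x : ι → Γ(M, U)) : res M h (∑ k ∈ s, x k) = ∑ k ∈ s, res M h (x k) := by
  classical
  induction s using Finset.induction_on with
  | empty => rw [Finset.sum_empty, Finset.sum_empty, res_zero]
  | insert a s ha ih => rw [Finset.sum_insert ha, Finset.sum_insert ha, res_add, ih]

theorem exists_sum_of_mem_iSup {R M : Type*} [CommRing R] [AddCommGroup M] [Module R M] {r : ℕ}
    (p : Fin r → Submodule R M) (x : M) (hx : x ∈ ⨆ l, p l) :
    ∃ a : Fin r → M, (∀ l, a l ∈ p l) ∧ ∑ l, a l = x := by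
  classical
  induction hx using Submodule.iSup_induction' with
  | mem l x hx =>
    refine ⟨Pi.single l x, fun l' => ?_, ?_⟩
    · by_cases h : l' = l
      · subst h; rw [Pi.single_eq_same]; exact hx
      · rw [Pi.single_eq_of_ne h]; exact zero_mem _
    · rw [Finset.sum_pi_single']; simp
  | zero => exact ⟨0, fun l => zero_mem _, by simp⟩
  | add x y _ _ hx hy =>
    obtain ⟨a, ha, hax⟩ := hx
    obtain ⟨b, hb, hby⟩ := hy
    exact ⟨a + b, fun l => add_mem (ha l) (hb l), by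
      rw [← hax, ← hby, ← Finset.sum_add_distrib]; rfl⟩

theorem desc_app_ι (l : Fin r) (V : Y.Opens) (x : Γ(P j g l, V)) :
    (biproduct.desc (φ j i g hg)).app V ((biproduct.ι (P j g) l).app V x) =
      (φ j i g hg l).app V x := by
  have := congrArg (fun α : P j g l ⟶ Omega.conormal i => α.app V x)
    (biproduct.ι_desc (φ j i g hg) l)
  exact this

include hg in
theorem preimage_eq_g (l : Fin r) (W : X.Opens) : g l ⁻¹ᵁ (j l ⁻¹ᵁ W) = i ⁻¹ᵁ W := by
  rw [← Scheme.Hom.comp_preimage, hg l]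

theorem exists_open_chart (O : Y.Opens) (y : Y) (hy : y ∈ O) (Ω : X.Opens) (hΩ : i y ∈ Ω) :
    ∃ W : X.Opens, IsAffineOpen W ∧ y ∈ i ⁻¹ᵁ W ∧ i ⁻¹ᵁ W ≤ O ∧ W ≤ Ω := by
  obtain ⟨O₁, hO₁, hO₁eq⟩ := (i.isEmbedding.isInducing.isOpen_iff).1 O.isOpen
  have h1 : i y ∈ (⟨O₁, hO₁⟩ : X.Opens) := by
    have : y ∈ (i ⁻¹' O₁ : Set Y) := by rw [hO₁eq]; exact hy
    exact this
  obtain ⟨W, hW, hyW, hWle⟩ := Opens.isBasis_iff_nbhd.mp X.isBasis_affineOpens
    (show i y ∈ (⟨O₁, hO₁⟩ : X.Opens) ⊓ Ω from ⟨h1, hΩ⟩)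
  refine ⟨W, hW, hyW, ?_, hWle.trans inf_le_right⟩
  intro z hz
  have h5 : i z ∈ O₁ := (hWle hz).1
  have : z ∈ (i ⁻¹' O₁ : Set Y) := h5
  rw [hO₁eq] at this
  exact this

theorem epi_desc (hY : ∀ U : X.affineOpens, i.ker.ideal U = ⨆ l, (j l).ker.ideal U) :
    Epi (biproduct.desc (φ j i g hg)) := by
  have hgc := fun l => isClosedImmersion_g j i g hg l
  refine epi_of_locally_in_range _ ?_
  intro U t pt hpt
  obtain ⟨W, hW, hptW, hVU, -⟩ := exists_open_chart i U pt hpt ⊤ trivial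
  refine ⟨i ⁻¹ᵁ W, hVU, hptW, ?_⟩
  obtain ⟨s, hs⟩ := conormalSect_surjective i hW (le_coborderRange i W)
    (res (Omega.conormal i) hVU t)
  have hmem : OmegaSh.idealSect i.ker W s ∈ i.ker.ideal ⟨W, hW⟩ := by
    rw [← range_idealιLin i.ker hW]; exact ⟨s, rfl⟩
  rw [hY ⟨W, hW⟩] at hmem
  obtain ⟨a, ha, hsum⟩ := exists_sum_of_mem_iSup _ _ hmem
  have hl : ∀ l, ∃ sl : Γ(ClSub.idealMod (j l).ker, W),
      OmegaSh.idealSect (j l).ker W sl = a l := by
    intro l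
    have := ha l
    rw [← range_idealιLin (j l).ker hW] at this
    obtain ⟨sl, hsl⟩ := this
    exact ⟨sl, hsl⟩
  choose sl hsl using hl
  have hs_eq : s = ∑ l, T j i g hg l W (sl l) := by
    apply idealSect_injective
    rw [map_sum]
    simp_rw [idealSect_T, hsl]
    exact hsum.symm
  have h₁ : ∀ l, i ⁻¹ᵁ W ≤ g l ⁻¹ᵁ (j l ⁻¹ᵁ W) := fun l => (preimage_eq_g j i g hg l W).ge
  refine ⟨∑ l, (biproduct.ι (P j g) l).app (i ⁻¹ᵁ W)
    (res (P j g l) (h₁ l) (cc (g l) (j l) (sl l))), ?_⟩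
  rw [app_sum]
  simp_rw [desc_app_ι, φ_app j i g hg _ W _ (i ⁻¹ᵁ W) (h₁ _) le_rfl, res_self]
  rw [← hs, hs_eq, map_sum]

include hg in
theorem exists_reg_chart (d : Fin r → ℕ)
    (hj : ∀ l, RegImm.IsRegularImmersionOfCodim RegImm.Kind.koszul (d l) (j l))
    (hi : RegImm.IsRegularImmersionOfCodim RegImm.Kind.koszul (∑ l, d l) i)
    (O : Y.Opens) (y : Y) (hy : y ∈ O) :
    ∃ W : X.Opens, IsAffineOpen W ∧ y ∈ i ⁻¹ᵁ W ∧ i ⁻¹ᵁ W ≤ O ∧
      ∃ h : List Γ(X, W), h.length = ∑ l, d l ∧ CAlgX.IsH1Regular h.get ∧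
        RingHom.ker (i.app W).hom = Ideal.ofList h ∧
        ∀ l, ∃ rs : List Γ(X, W), rs.length = d l ∧
          RingHom.ker ((j l).app W).hom = Ideal.ofList rs := by
  obtain ⟨U₀, hyU₀, hc₀, h₀, hlen₀, hseq₀, hker₀⟩ := hi.2 y
  have hjl : ∀ l, ∃ U : X.affineOpens, i y ∈ U.1 ∧ IsClosedImmersion (j l ∣_ U.1) ∧
      ∃ rs : List Γ(X, U.1), rs.length = d l ∧ LCI.IsKoszulRegularSeq Γ(X, U.1) rs ∧
        RingHom.ker ((j l).app U.1).hom = Ideal.ofList rs := by
    intro l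
    obtain ⟨U, hU, rest⟩ := (hj l).2 (g l y)
    refine ⟨U, ?_, rest⟩
    have : j l (g l y) = i y := by rw [← Scheme.Hom.comp_apply, hg l]
    rwa [this] at hU
  choose U hyU hcU rs hlen hseq hker using hjl
  let Ω : X.Opens := ⟨U₀.1.1 ∩ ⋂ l, (U l).1.1,
    U₀.1.2.inter (isOpen_iInter_of_finite fun l => (U l).1.2)⟩
  have hΩ : i y ∈ Ω := ⟨hyU₀, Set.mem_iInter.2 hyU⟩
  obtain ⟨W, hW, hyW, hWO, hWΩ⟩ := exists_open_chart i O y hy Ω hΩ
  have hWU₀ : W ≤ U₀.1 := fun z hz => (hWΩ hz).1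
  have hWU : ∀ l, W ≤ (U l).1 := fun l z hz => Set.mem_iInter.1 (hWΩ hz).2 l
  obtain ⟨-, hk, hkker⟩ := @RegImmA.shrink _ _ i _ _ U₀.2 hW hWU₀ hc₀ h₀ hseq₀ hker₀
  refine ⟨W, hW, hyW, hWO, h₀.map _, by rw [List.length_map, hlen₀],
    (Groth.Agent.Lib.Helper5.KosH1.isH1Regular_iff_isZero _).mpr (hk (-1) (by decide)), hkker,
    fun l => ?_⟩
  obtain ⟨-, -, hkk⟩ := @RegImmA.shrink _ _ (j l) _ _ (U l).2 hW (hWU l) (hcU l) (rs l) (hseq l)
    (hker l)
  exact ⟨_, by rw [List.length_map, hlen l], hkk⟩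

theorem decomp_P (V : Y.Opens) (z : Γ((⨁ (P j g) : Y.Modules), V)) :
    z = ∑ l : Fin r, (biproduct.ι (P j g) l).app V ((biproduct.π (P j g) l).app V z) := by
  have h := congrArg (fun φ : (⨁ (P j g) : Y.Modules) ⟶ ⨁ (P j g) => φ.app V z)
    (biproduct.total (f := P j g))
  simp only [sum_app] at h
  exact h.symm

theorem mono_desc (d : Fin r → ℕ)
    (hj : ∀ l, RegImm.IsRegularImmersionOfCodim RegImm.Kind.koszul (d l) (j l))
    (hY : ∀ U : X.affineOpens, i.ker.ideal U = ⨆ l, (j l).ker.ideal U)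
    (hi : RegImm.IsRegularImmersionOfCodim RegImm.Kind.koszul (∑ l, d l) i) :
    Mono (biproduct.desc (φ j i g hg)) := by
  have hgc := fun l => isClosedImmersion_g j i g hg l
  refine mono_of_injective _ (fun U => ?_)
  rw [injective_iff_map_eq_zero]
  intro x hx
  have hloc : ∀ pt : U, ∃ V : Y.Opens, ∃ hV : V ≤ U, pt.1 ∈ V ∧
      res (⨁ (P j g) : Y.Modules) hV x = 0 := by
    rintro ⟨pt, hpt⟩
    obtain ⟨W, hW, hptW, hVU, h, hlen, hh, hker, hrs⟩ :=
      exists_reg_chart j i g hg d hj hi U pt hpt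
    choose rs hrslen hrsker using hrs
    refine ⟨i ⁻¹ᵁ W, hVU, hptW, ?_⟩
    set x' := res (⨁ (P j g) : Y.Modules) hVU x with hx'
    have hx'0 : (biproduct.desc (φ j i g hg)).app (i ⁻¹ᵁ W) x' = 0 := by
      rw [hx', app_res, hx, res_zero]
    have h₁ : ∀ l, i ⁻¹ᵁ W ≤ g l ⁻¹ᵁ (j l ⁻¹ᵁ W) := fun l => (preimage_eq_g j i g hg l W).ge
    have h₁' : ∀ l, g l ⁻¹ᵁ (j l ⁻¹ᵁ W) ≤ i ⁻¹ᵁ W := fun l => (preimage_eq_g j i g hg l W).le
    have hsl : ∀ l, ∃ sl : Γ(ClSub.idealMod (j l).ker, W),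
        (biproduct.π (P j g) l).app (i ⁻¹ᵁ W) x' = res (P j g l) (h₁ l) (cc (g l) (j l) sl) := by
      intro l
      obtain ⟨sl, hsl⟩ := cc_surjective (g l) (j l) hW (le_coborderRange (j l) W)
        (le_coborderRange (g l) _)
        (res (P j g l) (h₁' l) ((biproduct.π (P j g) l).app (i ⁻¹ᵁ W) x'))
      refine ⟨sl, ?_⟩
      rw [hsl, res_res, res_self]
    choose sl hsl using hsl
    have e1 : (biproduct.desc (φ j i g hg)).app (i ⁻¹ᵁ W) x' =
        OmegaSh.conormalSect i W (∑ l, T j i g hg l W (sl l)) := by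
      conv_lhs => rw [decomp_P j g (i ⁻¹ᵁ W) x']
      rw [app_sum]
      simp_rw [desc_app_ι, hsl, φ_app j i g hg _ W _ (i ⁻¹ᵁ W) (h₁ _) le_rfl, res_self]
      rw [map_sum]
    rw [e1, conormalSect_eq_zero_iff i hW (le_coborderRange i W), map_sum] at hx'0
    simp_rw [idealSect_T] at hx'0
    have hkerI : i.ker.ideal ⟨W, hW⟩ = Ideal.ofList h := by
      rw [← hker]; exact Scheme.Hom.ker_apply i ⟨W, hW⟩
    have hkerJ : ∀ l, (j l).ker.ideal ⟨W, hW⟩ = Ideal.ofList (rs l) := by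
      intro l
      rw [← hrsker l]; exact Scheme.Hom.ker_apply (j l) ⟨W, hW⟩
    have hI : Ideal.ofList h = ⨆ l, Ideal.ofList (rs l) := by
      rw [← hkerI, hY ⟨W, hW⟩]
      exact iSup_congr hkerJ
    have hal : ∀ l, OmegaSh.idealSect (j l).ker W (sl l) ∈ Ideal.ofList (rs l) := by
      intro l
      rw [← hkerJ l, ← range_idealιLin (j l).ker hW]
      exact ⟨sl l, rfl⟩
    rw [hkerI] at hx'0
    have key := mem_mul_of_sum_mem_sq d rs hrslen h hlen hh hI _ hal hx'0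
    have hzero : ∀ l, cc (g l) (j l) (sl l) = 0 := by
      intro l
      apply cc_eq_zero_of_mem (g l) (j l) hW (le_coborderRange (j l) W)
        (le_coborderRange (g l) _)
      have hk2 : RingHom.ker (((g l).app (j l ⁻¹ᵁ W)).hom.comp ((j l).app W).hom) =
          Ideal.ofList h := by
        rw [← hker]
        have h6 : ((g l ≫ j l).app W).hom = ((g l).app (j l ⁻¹ᵁ W)).hom.comp ((j l).app W).hom := by
          rw [Scheme.Hom.comp_app]
          rfl
        rw [← h6]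
        have hgen : ∀ (f f' : Y ⟶ X), f = f' →
            RingHom.ker (f.app W).hom = RingHom.ker (f'.app W).hom := by
          rintro f _ rfl; rfl
        exact hgen _ _ (hg l)
      rw [hrsker l, hk2]
      exact key l
    rw [decomp_P j g (i ⁻¹ᵁ W) x']
    refine Finset.sum_eq_zero fun l _ => ?_
    rw [hsl l, hzero l, res_zero, map_zero]
  choose V hV hpt hres using hloc
  refine eq_of_locally_eq _ V U hV ?_ x 0 ?_
  · intro q hq
    exact TopologicalSpace.Opens.mem_iSup.mpr ⟨⟨q, hq⟩, hpt ⟨q, hq⟩⟩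
  · intro pt
    rw [hres pt, res_zero]

include hg in
theorem nonempty_iso (d : Fin r → ℕ)
    (hj : ∀ l, RegImm.IsRegularImmersionOfCodim RegImm.Kind.koszul (d l) (j l))
    (hY : ∀ U : X.affineOpens, i.ker.ideal U = ⨆ l, (j l).ker.ideal U)
    (hi : RegImm.IsRegularImmersionOfCodim RegImm.Kind.koszul (∑ l, d l) i) :
    Nonempty (Omega.conormal i ≅
      ∐ fun l => (Scheme.Modules.pullback (g l)).obj (Omega.conormal (j l))) := by
  have h1 := mono_desc j i g hg d hj hY hi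
  have h2 := epi_desc j i g hg hY
  have h3 : IsIso (biproduct.desc (φ j i g hg)) := isIso_of_mono_of_epi _
  exact ⟨(asIso (biproduct.desc (φ j i g hg))).symm ≪≫ biproduct.isoCoproduct (P j g)⟩

end

end Groth.Agent.Lib.Helper5.ConInt
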