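import Mathlib.RingTheory.Smooth.Basic
import Mathlib.RingTheory.Kaehler.Basic

set_option autoImplicit false
set_option linter.unusedSectionVars false
universe u

namespace Groth.Agent.Lib.Helper5.ConormalModP

open TensorProduct KaehlerDifferential

variable {Λ A C : Type u} [CommRing Λ] [CommRing A] [CommRing C] [Algebra Λ A] [Algebra A C]
  [Algebra Λ C] [IsScalarTower Λ A C]

theorem mem_of_tmul_D_eq_zero (hsurj : Function.Surjective (algebraMap A C)) (p : ℕ)
    [Algebra (Λ ⧸ Ideal.span {(p : Λ)}) C] [IsScalarTower Λ (Λ ⧸ Ideal.span {(p : Λ)}) C]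
    [Algebra.FormallySmooth (Λ ⧸ Ideal.span {(p : Λ)}) C]
    (hp : (p : A) ∈ RingHom.ker (algebraMap A C)) (x : A) (hx : x ∈ RingHom.ker (algebraMap A C))
    (h0 : (1 : C) ⊗ₜ[A] D Λ A x = 0) :
    x ∈ (RingHom.ker (algebraMap A C)) ^ 2 ⊔ Ideal.span {(p : A)} := by
  set J : Ideal A := RingHom.ker (algebraMap A C) with hJ
  set K : Ideal A := J ^ 2 ⊔ Ideal.span {(p : A)} with hK
  have hKJ : K ≤ J := by
    refine sup_le (Ideal.pow_le_self two_ne_zero) ?_
    rw [Ideal.span_le, Set.singleton_subset_iff]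
    exact hp
  have hpK : (p : A) ∈ K := le_sup_right (a := J ^ 2) (Ideal.subset_span rfl)
  -- `E = A / K` over `Λ / p`
  have hkill : ∀ a ∈ Ideal.span {(p : Λ)}, algebraMap Λ (A ⧸ K) a = 0 := by
    intro a ha
    obtain ⟨b, rfl⟩ := Ideal.mem_span_singleton'.1 ha
    rw [map_mul, map_natCast]
    have : ((p : ℕ) : A ⧸ K) = Ideal.Quotient.mk K (p : A) := by rw [map_natCast]
    rw [this, Ideal.Quotient.eq_zero_iff_mem.2 hpK, mul_zero]
  let algE : Algebra (Λ ⧸ Ideal.span {(p : Λ)}) (A ⧸ K) :=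
    (Ideal.Quotient.lift (Ideal.span {(p : Λ)}) (algebraMap Λ (A ⧸ K)) hkill).toAlgebra
  have halgE : ∀ l : Λ, algebraMap (Λ ⧸ Ideal.span {(p : Λ)}) (A ⧸ K) (Ideal.Quotient.mk _ l) =
      Ideal.Quotient.mk K (algebraMap Λ A l) := fun l => rfl
  let πE : (A ⧸ K) →ₐ[Λ ⧸ Ideal.span {(p : Λ)}] C :=
    { Ideal.Quotient.lift K (algebraMap A C) (fun a ha => hKJ ha) with
      commutes' := by
        intro y
        obtain ⟨l, rfl⟩ := Ideal.Quotient.mk_surjective y
        change Ideal.Quotient.lift K (algebraMap A C) _ (algebraMap _ (A ⧸ K) _) = _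
        rw [halgE, Ideal.Quotient.lift_mk, ← IsScalarTower.algebraMap_apply Λ A C,
          IsScalarTower.algebraMap_apply Λ (Λ ⧸ Ideal.span {(p : Λ)}) C]
        rfl }
  have hπmk : ∀ a : A, πE (Ideal.Quotient.mk K a) = algebraMap A C a := fun a => rfl
  have hπsurj : Function.Surjective πE := by
    intro c
    obtain ⟨a, rfl⟩ := hsurj c
    exact ⟨Ideal.Quotient.mk K a, rfl⟩
  have hker : RingHom.ker (πE : (A ⧸ K) →+* C) ≤ J.map (Ideal.Quotient.mk K) := by
    intro y hy
    obtain ⟨a, rfl⟩ := Ideal.Quotient.mk_surjective y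
    have : algebraMap A C a = 0 := hy
    exact Ideal.mem_map_of_mem _ this
  have hsq : (RingHom.ker (πE : (A ⧸ K) →+* C)) ^ 2 = ⊥ := by
    rw [eq_bot_iff]
    refine (Ideal.pow_right_mono hker 2).trans ?_
    rw [← Ideal.map_pow]
    refine (Ideal.map_mono (le_sup_left : J ^ 2 ≤ K)).trans ?_
    rw [Ideal.map_quotient_self]
  let s : C →ₐ[Λ ⧸ Ideal.span {(p : Λ)}] (A ⧸ K) :=
    Algebra.FormallySmooth.liftOfSurjective (AlgHom.id _ C) πE hπsurj ⟨2, hsq⟩
  have hs : ∀ c, πE (s c) = c := fun c =>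
    Algebra.FormallySmooth.liftOfSurjective_apply (AlgHom.id _ C) πE hπsurj ⟨2, hsq⟩ c
  let δ : A → A ⧸ K := fun a => Ideal.Quotient.mk K a - s (algebraMap A C a)
  have hδker : ∀ a, δ a ∈ RingHom.ker (πE : (A ⧸ K) →+* C) := by
    intro a
    rw [RingHom.mem_ker]
    change πE (Ideal.Quotient.mk K a - s (algebraMap A C a)) = 0
    rw [map_sub, hs, hπmk, sub_self]
  have hmul0 : ∀ y z, y ∈ RingHom.ker (πE : (A ⧸ K) →+* C) →
      z ∈ RingHom.ker (πE : (A ⧸ K) →+* C) → y * z = 0 := by
    intro y z hy hz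
    have := Ideal.mul_mem_mul hy hz
    rwa [← pow_two, hsq, Ideal.mem_bot] at this
  have hsΛ : ∀ l : Λ, s (algebraMap Λ C l) = Ideal.Quotient.mk K (algebraMap Λ A l) := by
    intro l
    rw [IsScalarTower.algebraMap_apply Λ (Λ ⧸ Ideal.span {(p : Λ)}) C, AlgHom.commutes]
    exact halgE l
  -- the derivation
  let Dδ : Derivation Λ A (A ⧸ K) :=
    { toFun := δ
      map_add' := fun a b => by
        change Ideal.Quotient.mk K (a + b) - s (algebraMap A C (a + b)) =
          (Ideal.Quotient.mk K a - s (algebraMap A C a)) +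
            (Ideal.Quotient.mk K b - s (algebraMap A C b))
        rw [map_add, map_add, map_add]
        ring
      map_smul' := fun l a => by
        change Ideal.Quotient.mk K (l • a) - s (algebraMap A C (l • a)) =
          l • (Ideal.Quotient.mk K a - s (algebraMap A C a))
        rw [Algebra.smul_def, map_mul, map_mul, map_mul, ← IsScalarTower.algebraMap_apply Λ A C,
          hsΛ, Algebra.smul_def, IsScalarTower.algebraMap_apply Λ A (A ⧸ K)]
        change _ = Ideal.Quotient.mk K (algebraMap Λ A l) * _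
        ring
      map_one_eq_zero' := by
        change Ideal.Quotient.mk K 1 - s (algebraMap A C 1) = 0
        rw [map_one, map_one, map_one, sub_self]
      leibniz' := fun a b => by
        change Ideal.Quotient.mk K (a * b) - s (algebraMap A C (a * b)) =
          a • (Ideal.Quotient.mk K b - s (algebraMap A C b)) +
            b • (Ideal.Quotient.mk K a - s (algebraMap A C a))
        have h := hmul0 _ _ (hδker a) (hδker b)
        change (Ideal.Quotient.mk K a - s (algebraMap A C a)) *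
          (Ideal.Quotient.mk K b - s (algebraMap A C b)) = 0 at h
        rw [Algebra.smul_def, Algebra.smul_def, map_mul, map_mul, map_mul]
        change _ = Ideal.Quotient.mk K a * _ + Ideal.Quotient.mk K b * _
        linear_combination (-1 : A ⧸ K) * h }
  have hDδ : ∀ a, Dδ a = δ a := fun a => rfl
  let l₀ : Ω[A⁄Λ] →ₗ[A] (A ⧸ K) := Dδ.liftKaehlerDifferential
  have hl₀D : ∀ a, l₀ (D Λ A a) = δ a := fun a => Dδ.liftKaehlerDifferential_comp_D a
  have hl₀ker : ∀ ω, l₀ ω ∈ RingHom.ker (πE : (A ⧸ K) →+* C) := by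
    intro ω
    have hω : ω ∈ Submodule.span A (Set.range (D Λ A)) := by
      rw [KaehlerDifferential.span_range_derivation]; trivial
    induction hω using Submodule.span_induction with
    | mem ω hm =>
      obtain ⟨a, rfl⟩ := hm
      rw [hl₀D]
      exact hδker a
    | zero => rw [map_zero]; exact Ideal.zero_mem _
    | add y z _ _ hy hz => rw [map_add]; exact Ideal.add_mem _ hy hz
    | smul a y _ hy =>
      rw [map_smul, Algebra.smul_def]
      exact Ideal.mul_mem_left _ _ hy
  -- the pairing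
  let B : C →ₗ[A] Ω[A⁄Λ] →ₗ[A] (A ⧸ K) :=
    LinearMap.mk₂ A (fun c ω => s c * l₀ ω)
      (fun c c' ω => by rw [map_add, add_mul])
      (fun a c ω => by
        rw [Algebra.smul_def, map_mul, Algebra.smul_def]
        change s (algebraMap A C a) * s c * l₀ ω = Ideal.Quotient.mk K a * (s c * l₀ ω)
        have h := hmul0 _ _ (hδker a) (hl₀ker ω)
        change (Ideal.Quotient.mk K a - s (algebraMap A C a)) * l₀ ω = 0 at h
        linear_combination (-(s c)) * h)
      (fun c ω ω' => by rw [map_add, mul_add])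
      (fun a c ω => by rw [map_smul, mul_smul_comm])
  have hB : ∀ c ω, TensorProduct.lift B (c ⊗ₜ ω) = s c * l₀ ω := fun c ω => rfl
  have h1 := congrArg (TensorProduct.lift B) h0
  rw [hB, map_zero, map_one, one_mul, hl₀D] at h1
  change Ideal.Quotient.mk K x - s (algebraMap A C x) = 0 at h1
  have hx0 : algebraMap A C x = 0 := hx
  rw [hx0, map_zero, sub_zero] at h1
  exact Ideal.Quotient.eq_zero_iff_mem.1 h1

end Groth.Agent.Lib.Helper5.ConormalModP
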