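import Mathlib

/-!
# Helper5 — CotBC

Base change of the conormal module `I/I²` along an arbitrary base change `R → T` when the quotient `S/I` is flat over `R`.
-/

set_option autoImplicit false
set_option linter.style.haveILetI false
universe u

open TensorProduct

namespace Groth.Agent.Lib.Helper5.CotBC

section Ideal

variable (R : Type*) {S : Type*} [CommRing R] [CommRing S] [Algebra R S]
variable (T : Type*) [CommRing T] [Algebra R T] (I : Ideal S)

set_option backward.isDefEq.respectTransparency.types false in
set_option backward.defeqAttrib.useBackward true in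
/-- If `S ⧸ I` is flat over `R`, the map `T ⊗ I/I² → I'/I'²` is injective, for every `T`. -/
lemma tensorCotangentHom_injective_of_flat_quotient [Module.Flat R (S ⧸ I)] :
    Function.Injective (I.tensorCotangentHom R T) := by
  let a : S →+* T ⊗[R] S := Algebra.TensorProduct.includeRight.toRingHom
  let f : (I.map a).Cotangent →ₗ[T] T ⊗[R] S ⧸ (I.map a) ^ 2 :=
    (Ideal.cotangentToQuotientSquare _).restrictScalars T
  suffices h : Function.Injective (f ∘ₗ Ideal.tensorCotangentHom R T I) from .of_comp h
  let g : T ⊗[R] I.Cotangent →ₗ[T] T ⊗[R] (S ⧸ I ^ 2) :=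
    AlgebraTensorModule.lTensor T T I.cotangentToQuotientSquare
  let hₐ : T ⊗[R] (S ⧸ I ^ 2) ≃ₐ[T] T ⊗[R] S ⧸ (I.map a) ^ 2 :=
    (Algebra.TensorProduct.tensorQuotientEquiv _ _ _ _).trans
      (Ideal.quotientEquivAlgOfEq T (Ideal.map_pow _ _ _))
  have : f ∘ₗ Ideal.tensorCotangentHom R T I = hₐ.toLinearMap ∘ₗ g := by
    ext x
    obtain ⟨x, rfl⟩ := I.toCotangent_surjective x
    dsimp [f, g, hₐ]
    rw [Ideal.tensorCotangentHom_tmul, one_smul, Ideal.toCotangent_to_quotient_square]
    simp
  rw [this, LinearMap.coe_comp]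
  apply hₐ.injective.comp
  have hle : I ^ 2 ≤ I := Ideal.pow_le_self two_ne_zero
  let π : (S ⧸ I ^ 2) →ₗ[R] (S ⧸ I) := (Ideal.Quotient.factorₐ R hle).toLinearMap
  have hπ : Function.Surjective π := Ideal.Quotient.factor_surjective hle
  have hex : Function.Exact (I.cotangentToQuotientSquare.restrictScalars R) π := by
    intro y
    obtain ⟨y, rfl⟩ := Ideal.Quotient.mk_surjective y
    constructor
    · intro hy
      have hyI : y ∈ I := by
        have : Ideal.Quotient.mk I y = 0 := hy
        exact Ideal.Quotient.eq_zero_iff_mem.mp this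
      exact ⟨I.toCotangent ⟨y, hyI⟩, rfl⟩
    · rintro ⟨z, hz⟩
      obtain ⟨z, rfl⟩ := I.toCotangent_surjective z
      have h1 : (I ^ 2).mkQ (z : S) = Ideal.Quotient.mk (I ^ 2) y := hz
      change π (Ideal.Quotient.mk (I ^ 2) y) = 0
      rw [← h1]
      change Ideal.Quotient.mk I (z : S) = 0
      exact Ideal.Quotient.eq_zero_iff_mem.mpr z.2
  exact LinearMap.lTensor_injective_of_exact_of_flat π hπ
    (I.cotangentToQuotientSquare.restrictScalars R) I.cotangentToQuotientSquare_injective hex T

/-- the base change equivalence for the conormal module when the quotient is flat. -/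
noncomputable def tensorCotangentEquiv' [Module.Flat R (S ⧸ I)] :
    T ⊗[R] I.Cotangent ≃ₗ[T]
      (I.map (Algebra.TensorProduct.includeRight.toRingHom : _ →+* T ⊗[R] S)).Cotangent :=
  LinearEquiv.ofBijective (I.tensorCotangentHom R T)
    ⟨tensorCotangentHom_injective_of_flat_quotient R T I, I.tensorCotangentHom_surjective R T⟩

lemma tensorCotangentEquiv'_tmul [Module.Flat R (S ⧸ I)] (t : T) (x : I) :
    tensorCotangentEquiv' R T I (t ⊗ₜ I.toCotangent x) =
      t • (I.map (Algebra.TensorProduct.includeRight.toRingHom : S →+* T ⊗[R] S)).toCotangent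
        ⟨1 ⊗ₜ x, Ideal.mem_map_of_mem _ x.2⟩ :=
  rfl

end Ideal

section Extension

open Algebra Algebra.Extension

variable {R S : Type*} [CommRing R] [CommRing S] [Algebra R S] (P : Extension.{u} R S)
variable (T : Type*) [CommRing T] [Algebra R T]

instance flat_quotient_ker [Module.Flat R S] : Module.Flat R (P.Ring ⧸ P.ker) :=
  Module.Flat.of_linearEquiv
    (Ideal.quotientKerAlgEquivOfSurjective
      (f := IsScalarTower.toAlgHom R P.Ring S) P.algebraMap_surjective).toLinearEquiv

/-- If `S` is flat over `R`, there is a `T`-linear isomorphism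
`T ⊗[R] P.Cotangent ≃ₗ[T] (P.baseChange).Cotangent`, for every `R`-algebra `T`. -/
noncomputable def tensorCotangentOfFlat' [Module.Flat R S] :
    T ⊗[R] P.Cotangent ≃ₗ[T] (P.baseChange (T := T)).Cotangent :=
  AlgebraTensorModule.congr (.refl T T) (P.cotangentEquivCotangentKer.restrictScalars R) ≪≫ₗ
    tensorCotangentEquiv' R T P.ker ≪≫ₗ
    (Ideal.Cotangent.equivOfEq _ _ (P.ker_baseChange T).symm).restrictScalars T ≪≫ₗ
    (P.baseChange (T := T)).cotangentEquivCotangentKer.symm.restrictScalars T

attribute [local instance] Algebra.TensorProduct.rightAlgebra in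
lemma tensorCotangentOfFlat'_tmul [Module.Flat R S] (t : T) (x : P.Cotangent) :
    tensorCotangentOfFlat' P T (t ⊗ₜ x) = t • Cotangent.map (P.toBaseChange T) x := by
  obtain ⟨x, rfl⟩ := Cotangent.mk_surjective x
  simp only [tensorCotangentOfFlat', LinearEquiv.trans_apply, AlgebraTensorModule.congr_tmul,
    LinearEquiv.refl_apply, LinearEquiv.restrictScalars_apply, cotangentEquivCotangentKer_apply,
    Cotangent.val_mk, tensorCotangentEquiv'_tmul, map_smul, Cotangent.map_mk,
    Hom.toAlgHom_apply, Ideal.Cotangent.equivOfEq_toCotangent]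
  rfl

attribute [local instance] Algebra.TensorProduct.rightAlgebra in
/-- **flatness of the conormal module of the base change**. -/
theorem flat_cotangent_baseChange [Module.Flat R S] [Module.Flat S P.Cotangent] :
    Module.Flat (T ⊗[R] S) (P.baseChange (T := T)).Cotangent := by
  let ψ : P.Cotangent →ₗ[S] (P.baseChange (T := T)).Cotangent := Cotangent.map (P.toBaseChange T)
  let L : (T ⊗[R] S) ⊗[S] P.Cotangent →ₗ[T ⊗[R] S] (P.baseChange (T := T)).Cotangent :=
    LinearMap.liftBaseChange (T ⊗[R] S) ψ
  let c := Algebra.IsPushout.cancelBaseChange R T S (T ⊗[R] S) P.Cotangent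
  have hL : ∀ z, L z = tensorCotangentOfFlat' P T (c z) := by
    intro z
    obtain ⟨w, rfl⟩ := c.symm.surjective z
    rw [LinearEquiv.apply_symm_apply]
    induction w with
    | zero => simp
    | add x y hx hy => simp only [map_add, hx, hy]
    | tmul t m =>
      rw [Algebra.IsPushout.cancelBaseChange_symm_tmul, tensorCotangentOfFlat'_tmul,
        LinearMap.liftBaseChange_tmul, algebraMap_smul]
  have hbij : Function.Bijective L := by
    have : (L : _ → _) = (tensorCotangentOfFlat' P T) ∘ c := funext hL
    rw [this]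
    exact (tensorCotangentOfFlat' P T).bijective.comp c.bijective
  exact Module.Flat.of_linearEquiv (LinearEquiv.ofBijective L hbij).symm

end Extension

end Groth.Agent.Lib.Helper5.CotBC
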