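import Mathlib

set_option autoImplicit false
universe u

open IsLocalRing

namespace Groth.Agent.Lib.Helper5.CotExtend

variable {R : Type u} [CommRing R] [IsLocalRing R] [IsNoetherianRing R]

/-- elements of the maximal ideal whose classes in the cotangent space are linearly independent
can be completed to a minimal system of generators of the maximal ideal. -/
theorem exists_extend {r : ℕ} (x : Fin r → maximalIdeal R)
    (hli : LinearIndependent (ResidueField R) (fun i => (maximalIdeal R).toCotangent (x i))) :
    ∃ (s : ℕ) (y : Fin s → maximalIdeal R),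
      r + s = Module.finrank (ResidueField R) (CotangentSpace R) ∧
      Submodule.span R (Set.range x ∪ Set.range y) = ⊤ := by
  let v : Fin r → CotangentSpace R := fun i => (maximalIdeal R).toCotangent (x i)
  let S : Submodule (ResidueField R) (CotangentSpace R) := Submodule.span _ (Set.range v)
  have hS : Module.finrank (ResidueField R) S = r := by
    have := finrank_span_eq_card hli
    rw [Fintype.card_fin] at this
    exact this
  obtain ⟨S', hS'⟩ := Submodule.exists_isCompl S
  let b := Module.finBasis (ResidueField R) S'
  have hsurj : ∀ j, ∃ y : maximalIdeal R, (maximalIdeal R).toCotangent y = (b j : CotangentSpace R) :=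
    fun j => (maximalIdeal R).toCotangent_surjective _
  choose y hy using hsurj
  refine ⟨Module.finrank (ResidueField R) S', y, ?_, ?_⟩
  · rw [← hS]
    exact Submodule.finrank_add_eq_of_isCompl hS'
  · rw [← CotangentSpace.span_image_eq_top_iff, Set.image_union, Submodule.span_union]
    have h1 : (maximalIdeal R).toCotangent '' Set.range x = Set.range v := by
      ext z
      constructor
      · rintro ⟨_, ⟨i, rfl⟩, rfl⟩
        exact ⟨i, rfl⟩
      · rintro ⟨i, rfl⟩
        exact ⟨x i, ⟨i, rfl⟩, rfl⟩
    have h2 : (maximalIdeal R).toCotangent '' Set.range y =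
        S'.subtype '' Set.range b := by
      ext z
      constructor
      · rintro ⟨_, ⟨j, rfl⟩, rfl⟩
        exact ⟨b j, ⟨j, rfl⟩, (hy j).symm⟩
      · rintro ⟨_, ⟨j, rfl⟩, rfl⟩
        exact ⟨y j, ⟨j, rfl⟩, hy j⟩
    rw [h1, h2, ← Submodule.map_span, b.span_eq, Submodule.map_top, Submodule.range_subtype]
    exact hS'.sup_eq_top

end Groth.Agent.Lib.Helper5.CotExtend
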