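import Mathlib
import Groth.Agent.S10834
import Groth.Agent.Lib.Helper21.DepthKit4
import Groth.Agent.Lib.Helper5.RegComp
import Groth.Agent.Lib.Helper5.RegGens

/-!
# Generators of the conormal module and regular sequences in regular local rings
-/

set_option autoImplicit false
universe u

namespace Groth.Agent.Lib.Helper5.CotGen

open RingTheory.Sequence IsLocalRing Groth.Agent.Lib.Helper5.RegGens

variable {R : Type u} [CommRing R]

/-- the classes of a generating list span the conormal module -/
theorem spanFinrank_cotangent_le (I : Ideal R) (rs : List R) (h : Ideal.ofList rs = I) :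
    (⊤ : Submodule (R ⧸ I) I.Cotangent).spanFinrank ≤ rs.length := by
  classical
  have hmem : ∀ i : Fin rs.length, rs.get i ∈ I := fun i => h ▸ Ideal.subset_span (List.get_mem rs i)
  let v : Fin rs.length → I.Cotangent := fun i => I.toCotangent ⟨rs.get i, hmem i⟩
  have htop : (⊤ : Submodule (R ⧸ I) I.Cotangent) =
      Submodule.span (R ⧸ I) (↑(Finset.univ.image v) : Set I.Cotangent) := by
    symm
    rw [eq_top_iff]
    rintro c -
    obtain ⟨⟨x, hx⟩, rfl⟩ := I.toCotangent_surjective c
    have hx' := hx
    rw [← h, ofList_eq_span_range_get, Ideal.mem_span_range_iff_exists_fun] at hx'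
    obtain ⟨a, ha⟩ := hx'
    have h1 : (⟨x, hx⟩ : I) = ∑ i, a i • (⟨rs.get i, hmem i⟩ : I) := by
      apply Subtype.ext
      change x = _
      rw [← ha]
      simp
    rw [h1, map_sum]
    refine Submodule.sum_mem _ fun i _ => ?_
    rw [map_smul, ← algebraMap_smul (R ⧸ I) (a i)]
    exact Submodule.smul_mem _ _ (Submodule.subset_span (by simp [v]))
  rw [htop]
  refine (Submodule.spanFinrank_span_le_ncard_of_finite (Finset.finite_toSet _)).trans ?_
  rw [Set.ncard_coe_finset]
  exact Finset.card_image_le.trans (by simp)

/-- lifting a minimal generating set of the conormal module (Nakayama) -/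
theorem exists_list_of_cotangent [IsNoetherianRing R] (I : Ideal R)
    (hI : I ≤ Ideal.jacobson (⊥ : Ideal R)) :
    ∃ xs : List R, xs.length = (⊤ : Submodule (R ⧸ I) I.Cotangent).spanFinrank ∧
      Ideal.ofList xs = I := by
  classical
  have finI : Module.Finite R I := Module.Finite.iff_fg.2 (IsNoetherian.noetherian I)
  have fin0 : Module.Finite R I.Cotangent :=
    Module.Finite.of_surjective I.toCotangent I.toCotangent_surjective
  have fin : Module.Finite (R ⧸ I) I.Cotangent := Module.Finite.of_restrictScalars_finite R _ _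
  obtain ⟨s, hs1, hs2⟩ := Submodule.FG.exists_span_finset_card_eq_spanFinrank
    (p := (⊤ : Submodule (R ⧸ I) I.Cotangent)) Module.Finite.fg_top
  let lift : I.Cotangent → I := Function.surjInv I.toCotangent_surjective
  have hlift : ∀ c, I.toCotangent (lift c) = c := Function.surjInv_eq I.toCotangent_surjective
  refine ⟨s.toList.map (fun c => (lift c : R)), by simp [hs1], le_antisymm ?_ ?_⟩
  · rw [Ideal.ofList, Ideal.span_le]
    intro x hx
    have hx' : x ∈ s.toList.map (fun c => (lift c : R)) := hx
    obtain ⟨c, -, rfl⟩ := List.mem_map.1 hx'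
    exact (lift c).2
  · apply Submodule.le_of_le_smul_of_le_jacobson_bot (I := I) (IsNoetherian.noetherian _) hI
    intro x hx
    have h1 : I.toCotangent ⟨x, hx⟩ ∈ Submodule.span (R ⧸ I) (↑s : Set I.Cotangent) := by
      rw [hs2]; trivial
    obtain ⟨f, -, hf⟩ := Submodule.mem_span_finset.1 h1
    let a : I.Cotangent → R := fun c => (Ideal.Quotient.mk_surjective (f c)).choose
    have ha : ∀ c, Ideal.Quotient.mk I (a c) = f c :=
      fun c => (Ideal.Quotient.mk_surjective (f c)).choose_spec
    let y : I := ∑ c ∈ s, a c • lift c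
    have hy : I.toCotangent y = I.toCotangent ⟨x, hx⟩ := by
      rw [← hf, map_sum]
      refine Finset.sum_congr rfl fun c _ => ?_
      rw [map_smul, hlift, ← ha c]
      exact (algebraMap_smul (R ⧸ I) (a c) c).symm
    have hsq : (x - (y : R)) ∈ I ^ 2 := by
      have := (I.toCotangent_eq (x := ⟨x, hx⟩) (y := y)).1 hy.symm
      exact this
    have hyK : (y : R) ∈ Ideal.ofList (s.toList.map (fun c => (lift c : R))) := by
      change ((∑ c ∈ s, a c • lift c : I) : R) ∈ _
      rw [AddSubmonoidClass.coe_finsetSum]
      refine Ideal.sum_mem _ fun c hc => ?_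
      change a c * (lift c : R) ∈ _
      refine Ideal.mul_mem_left _ _ (Ideal.subset_span ?_)
      exact List.mem_map.2 ⟨c, Finset.mem_toList.2 hc, rfl⟩
    have : x = (y : R) + (x - (y : R)) := by ring
    rw [this]
    refine Submodule.add_mem_sup hyK ?_
    rw [smul_eq_mul, ← pow_two]
    exact hsq

end Groth.Agent.Lib.Helper5.CotGen
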