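import Groth.Agent.Lib.Helper5.AdicSmoothDer2
import Groth.Agent.Lib.Helper5.ImperfExt
import Mathlib.RingTheory.Kaehler.Polynomial
import Mathlib.Algebra.MvPolynomial.Eval

set_option autoImplicit false
set_option linter.unusedSectionVars false
universe u

namespace Groth.Agent.Lib.Helper5.MvPolyDer

open TensorProduct KaehlerDifferential

attribute [local instance] PBasis.opMod PBasis.isCentralScalar_opMod

section Der

variable {A L N : Type u} [CommRing A] [CommRing L] [AddCommGroup N] [Module L N] {σ : Type*}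
  [Algebra A L] [Algebra (MvPolynomial σ A) L] [IsScalarTower A (MvPolynomial σ A) L]
  [Module A N] [Module (MvPolynomial σ A) N] [IsScalarTower A L N]
  [IsScalarTower (MvPolynomial σ A) L N]

/-- the ring map `A[T] → L ⊕ N` extending the graph of a derivation of `A` -/
noncomputable def coeffHom (δ : Derivation ℤ A N) : MvPolynomial σ A →+* TrivSqZeroExt L N :=
  MvPolynomial.eval₂Hom (AdicSmoothDer2.graphHom L δ)
    (fun i => TrivSqZeroExt.inl (algebraMap (MvPolynomial σ A) L (MvPolynomial.X i)))

lemma coeffHom_C (δ : Derivation ℤ A N) (a : A) :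
    coeffHom (L := L) (σ := σ) δ (MvPolynomial.C a) = AdicSmoothDer2.graphHom L δ a := by
  simp [coeffHom]

lemma coeffHom_X (δ : Derivation ℤ A N) (i : σ) :
    coeffHom (L := L) δ (MvPolynomial.X i) =
      TrivSqZeroExt.inl (algebraMap (MvPolynomial σ A) L (MvPolynomial.X i)) := by
  simp [coeffHom]

lemma coeffHom_fst (δ : Derivation ℤ A N) (q : MvPolynomial σ A) :
    (coeffHom (L := L) δ q).fst = algebraMap (MvPolynomial σ A) L q := by
  have : (TrivSqZeroExt.fstHom L L N).toRingHom.comp (coeffHom (L := L) δ) =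
      algebraMap (MvPolynomial σ A) L := by
    apply MvPolynomial.ringHom_ext
    · intro a
      change (coeffHom (L := L) δ (MvPolynomial.C a)).fst = _
      rw [coeffHom_C, AdicSmoothDer2.graphHom_fst, ← MvPolynomial.algebraMap_eq,
        ← IsScalarTower.algebraMap_apply]
    · intro i
      change (coeffHom (L := L) δ (MvPolynomial.X i)).fst = _
      rw [coeffHom_X, TrivSqZeroExt.fst_inl]
  exact RingHom.congr_fun this q

/-- the coefficientwise extension of a derivation of `A` to `A[T]` -/
noncomputable def coeffDer (δ : Derivation ℤ A N) : Derivation ℤ (MvPolynomial σ A) N :=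
  Derivation.mk'
    ((TrivSqZeroExt.sndHom L N).toAddMonoidHom.comp
      (coeffHom (L := L) δ).toAddMonoidHom).toIntLinearMap
    (by
      intro a b
      change (coeffHom (L := L) δ (a * b)).snd = a • (coeffHom (L := L) δ b).snd +
        b • (coeffHom (L := L) δ a).snd
      rw [map_mul, TrivSqZeroExt.snd_mul, coeffHom_fst, coeffHom_fst, op_smul_eq_smul,
        algebraMap_smul, algebraMap_smul])

lemma coeffDer_apply (δ : Derivation ℤ A N) (q : MvPolynomial σ A) :
    coeffDer (L := L) δ q = (coeffHom (L := L) δ q).snd := rfl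

lemma coeffDer_C (δ : Derivation ℤ A N) (a : A) :
    coeffDer (L := L) (σ := σ) δ (MvPolynomial.C a) = δ a := by
  rw [coeffDer_apply, coeffHom_C, AdicSmoothDer2.graphHom_snd]

lemma coeffDer_X (δ : Derivation ℤ A N) (i : σ) :
    coeffDer (L := L) δ (MvPolynomial.X i) = 0 := by
  rw [coeffDer_apply, coeffHom_X, TrivSqZeroExt.snd_inl]

end Der

section Up

variable {A L : Type u} [CommRing A] [CommRing L] {σ : Type*}
  [Algebra A L] [Algebra (MvPolynomial σ A) L] [IsScalarTower A (MvPolynomial σ A) L]

/-- the derivation `a ↦ 1 ⊗ da` -/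
noncomputable def tensorD : Derivation ℤ A (L ⊗[A] Ω[A⁄ℤ]) :=
  (TensorProduct.mk A L Ω[A⁄ℤ] 1).compDer (KaehlerDifferential.D ℤ A)

lemma tensorD_apply (a : A) :
    tensorD (L := L) a = (1 : L) ⊗ₜ[A] KaehlerDifferential.D ℤ A a := rfl

/-- a retraction of `L ⊗_A Ω_A → L ⊗_{A[T]} Ω_{A[T]}` -/
noncomputable def retr : L ⊗[MvPolynomial σ A] Ω[MvPolynomial σ A⁄ℤ] →ₗ[L] L ⊗[A] Ω[A⁄ℤ] :=
  LinearMap.liftBaseChange L
    (coeffDer (L := L) (σ := σ) (tensorD (A := A) (L := L))).liftKaehlerDifferential

lemma retr_tmul_D (c : L) (q : MvPolynomial σ A) :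
    retr (A := A) (L := L) (c ⊗ₜ KaehlerDifferential.D ℤ (MvPolynomial σ A) q) =
      c • coeffDer (L := L) (tensorD (A := A) (L := L)) q := by
  rw [retr, LinearMap.liftBaseChange_tmul, Derivation.liftKaehlerDifferential_comp_D]

lemma retr_up (z : L ⊗[A] Ω[A⁄ℤ]) :
    retr (A := A) (L := L) (σ := σ) (ImperfTower.up ℤ A (MvPolynomial σ A) L z) = z := by
  have : (retr (A := A) (L := L) (σ := σ)).comp (ImperfTower.up ℤ A (MvPolynomial σ A) L) =
      LinearMap.id := by
    apply ImperfTower.ext_tensor_kaehler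
    intro a
    rw [LinearMap.comp_apply, ImperfTower.up_tmul_D, MvPolynomial.algebraMap_eq, retr_tmul_D,
      coeffDer_C, one_smul, LinearMap.id_apply, tensorD_apply]
  exact LinearMap.congr_fun this z

theorem up_injective : Function.Injective (ImperfTower.up ℤ A (MvPolynomial σ A) L) :=
  Function.LeftInverse.injective (g := retr (A := A) (L := L) (σ := σ)) retr_up

end Up

section Coker

variable {A L : Type u} [CommRing A] [Field L] {σ : Type*}
  [Algebra A L] [Algebra (MvPolynomial σ A) L] [IsScalarTower A (MvPolynomial σ A) L]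

lemma range_up_eq_ker :
    LinearMap.range (ImperfTower.up ℤ A (MvPolynomial σ A) L) =
      LinearMap.ker ((KaehlerDifferential.map ℤ A (MvPolynomial σ A)
        (MvPolynomial σ A)).baseChange L) := by
  have hex : Function.Exact (KaehlerDifferential.mapBaseChange ℤ A (MvPolynomial σ A))
      (KaehlerDifferential.map ℤ A (MvPolynomial σ A) (MvPolynomial σ A)) :=
    KaehlerDifferential.exact_mapBaseChange_map ℤ A (MvPolynomial σ A)
  have hsurj : Function.Surjective
      (KaehlerDifferential.map ℤ A (MvPolynomial σ A) (MvPolynomial σ A)) :=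
    KaehlerDifferential.map_surjective ℤ A (MvPolynomial σ A)
  have h := lTensor_exact L hex hsurj
  rw [LinearMap.exact_iff] at h
  have h1 : LinearMap.range (ImperfTower.up ℤ A (MvPolynomial σ A) L) =
      LinearMap.range ((KaehlerDifferential.mapBaseChange ℤ A (MvPolynomial σ A)).baseChange L) := by
    unfold ImperfTower.up
    exact LinearMap.range_comp_of_range_eq_top _ (LinearEquiv.range _)
  rw [h1]
  ext z
  have h2 : z ∈ LinearMap.ker (LinearMap.lTensor L
      (KaehlerDifferential.map ℤ A (MvPolynomial σ A) (MvPolynomial σ A))) ↔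
      z ∈ LinearMap.range (LinearMap.lTensor L
        (KaehlerDifferential.mapBaseChange ℤ A (MvPolynomial σ A))) := by rw [h]
  rw [LinearMap.mem_ker, LinearMap.mem_range] at h2
  rw [LinearMap.mem_ker, LinearMap.mem_range]
  simpa [LinearMap.baseChange_eq_ltensor] using h2.symm

lemma baseChange_map_surjective : Function.Surjective
    ((KaehlerDifferential.map ℤ A (MvPolynomial σ A) (MvPolynomial σ A)).baseChange L) := by
  rw [LinearMap.baseChange_eq_ltensor]
  exact LinearMap.lTensor_surjective L (KaehlerDifferential.map_surjective ℤ A (MvPolynomial σ A))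

/-- the cokernel of `L ⊗_A Ω_A → L ⊗_{A[T]} Ω_{A[T]}` is `L ⊗ Ω_{A[T]/A}` -/
noncomputable def cokerUpEquiv :
    ((L ⊗[MvPolynomial σ A] Ω[MvPolynomial σ A⁄ℤ]) ⧸
      LinearMap.range (ImperfTower.up ℤ A (MvPolynomial σ A) L)) ≃ₗ[L]
      L ⊗[MvPolynomial σ A] Ω[MvPolynomial σ A⁄A] :=
  (Submodule.quotEquivOfEq _ _ range_up_eq_ker).trans
    (LinearMap.quotKerEquivOfSurjective _ baseChange_map_surjective)

variable [Fintype σ]

lemma finrank_tensor_kaehler :
    Module.finrank L (L ⊗[MvPolynomial σ A] Ω[MvPolynomial σ A⁄A]) = Fintype.card σ := by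
  have b := (KaehlerDifferential.mvPolynomialBasis A σ).baseChange L
  rw [Module.finrank_eq_card_basis b]

instance finite_tensor_kaehler :
    Module.Finite L (L ⊗[MvPolynomial σ A] Ω[MvPolynomial σ A⁄A]) :=
  Module.Finite.of_basis ((KaehlerDifferential.mvPolynomialBasis A σ).baseChange L)

theorem finite_coker_up :
    Module.Finite L ((L ⊗[MvPolynomial σ A] Ω[MvPolynomial σ A⁄ℤ]) ⧸
      LinearMap.range (ImperfTower.up ℤ A (MvPolynomial σ A) L)) :=
  Module.Finite.equiv (cokerUpEquiv (A := A) (L := L) (σ := σ)).symm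

theorem finrank_coker_up :
    Module.finrank L ((L ⊗[MvPolynomial σ A] Ω[MvPolynomial σ A⁄ℤ]) ⧸
      LinearMap.range (ImperfTower.up ℤ A (MvPolynomial σ A) L)) = Fintype.card σ := by
  rw [(cokerUpEquiv (A := A) (L := L) (σ := σ)).finrank_eq, finrank_tensor_kaehler]

end Coker

end Groth.Agent.Lib.Helper5.MvPolyDer
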