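import Groth.Agent.Lib.Helper5.ImperfExt
import Mathlib.RingTheory.Kaehler.Basic
import Mathlib.LinearAlgebra.TensorProduct.RightExactness

set_option autoImplicit false
set_option linter.unusedSectionVars false
universe u

namespace Groth.Agent.Lib.Helper5.QuotKaehler

open TensorProduct KaehlerDifferential

section General

variable {B L M M' : Type*} [CommRing B] [CommRing L] [Algebra B L] [AddCommGroup M] [Module B M]
  [AddCommGroup M'] [Module B M']

lemma ker_baseChange_le_span (g : M →ₗ[B] M') (hg : Function.Surjective g) (S : Set M)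
    (hS : LinearMap.ker g = Submodule.span B S) :
    LinearMap.ker (g.baseChange L) ≤
      Submodule.span L ((fun s => (1 : L) ⊗ₜ[B] s) '' S) := by
  have hex : Function.Exact (LinearMap.ker g).subtype g := by
    rw [LinearMap.exact_iff, Submodule.range_subtype]
  have h := lTensor_exact L hex hg
  intro z hz
  rw [LinearMap.mem_ker, LinearMap.baseChange_eq_ltensor] at hz
  obtain ⟨w, rfl⟩ := (h z).1 hz
  clear hz
  have key : ∀ x : M, x ∈ Submodule.span B S →
      (1 : L) ⊗ₜ[B] x ∈ Submodule.span L ((fun s => (1 : L) ⊗ₜ[B] s) '' S) := by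
    intro x hx
    induction hx using Submodule.span_induction with
    | mem x hm => exact Submodule.subset_span ⟨x, hm, rfl⟩
    | zero => rw [TensorProduct.tmul_zero]; exact Submodule.zero_mem _
    | add x y _ _ h1 h2 => rw [TensorProduct.tmul_add]; exact Submodule.add_mem _ h1 h2
    | smul b x _ h1 =>
      have : (1 : L) ⊗ₜ[B] (b • x) = (algebraMap B L b) • ((1 : L) ⊗ₜ[B] x) := by
        rw [TensorProduct.tmul_smul, TensorProduct.smul_tmul', TensorProduct.smul_tmul',
          Algebra.smul_def, mul_one, smul_eq_mul, mul_one]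
      rw [this]
      exact Submodule.smul_mem _ _ h1
  induction w using TensorProduct.induction_on with
  | zero => rw [map_zero]; exact Submodule.zero_mem _
  | tmul c x =>
    rw [LinearMap.lTensor_tmul, Submodule.subtype_apply]
    have : c ⊗ₜ[B] (x : M) = c • ((1 : L) ⊗ₜ[B] (x : M)) := by
      rw [TensorProduct.smul_tmul', smul_eq_mul, mul_one]
    rw [this]
    exact Submodule.smul_mem _ _ (key x (hS ▸ x.2))
  | add w w' h1 h2 => rw [map_add]; exact Submodule.add_mem _ h1 h2

end General

section Kaehler

variable {P B L : Type*} [CommRing P] [CommRing B] [CommRing L] [Algebra P B] [Algebra P L]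
  [Algebra B L] [IsScalarTower P B L]

lemma up_surjective (hsurj : Function.Surjective (algebraMap P B)) :
    Function.Surjective (ImperfTower.up ℤ P B L) := by
  have h1 : Function.Surjective ((KaehlerDifferential.mapBaseChange ℤ P B).baseChange L) := by
    rw [LinearMap.baseChange_eq_ltensor]
    exact LinearMap.lTensor_surjective L (KaehlerDifferential.mapBaseChange_surjective ℤ P B hsurj)
  intro y
  obtain ⟨x, rfl⟩ := h1 y
  refine ⟨TensorProduct.AlgebraTensorModule.cancelBaseChange P B L L Ω[P⁄ℤ] x, ?_⟩
  rw [ImperfTower.up_apply, LinearEquiv.symm_apply_apply]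

lemma tmul_D_mem_span {ι : Type*} (F : ι → P)
    (hker : RingHom.ker (algebraMap P B) = Ideal.span (Set.range F)) (y : P)
    (hy : y ∈ RingHom.ker (algebraMap P B)) :
    (1 : B) ⊗ₜ[P] KaehlerDifferential.D ℤ P y ∈
      Submodule.span B (Set.range fun i => (1 : B) ⊗ₜ[P] KaehlerDifferential.D ℤ P (F i)) := by
  rw [hker] at hy
  have key : ∀ y : P, y ∈ Ideal.span (Set.range F) →
      (1 : B) ⊗ₜ[P] KaehlerDifferential.D ℤ P y ∈
      Submodule.span B (Set.range fun i => (1 : B) ⊗ₜ[P] KaehlerDifferential.D ℤ P (F i)) := by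
    intro y hy
    induction hy using Submodule.span_induction with
    | mem x hm =>
      obtain ⟨i, rfl⟩ := hm
      exact Submodule.subset_span ⟨i, rfl⟩
    | zero => rw [map_zero, TensorProduct.tmul_zero]; exact Submodule.zero_mem _
    | add x y _ _ h1 h2 =>
      rw [map_add, TensorProduct.tmul_add]; exact Submodule.add_mem _ h1 h2
    | smul a x hx h1 =>
      have hx0 : algebraMap P B x = 0 := by
        have : x ∈ RingHom.ker (algebraMap P B) := hker ▸ hx
        exact this
      have : (1 : B) ⊗ₜ[P] KaehlerDifferential.D ℤ P (a • x) =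
          (algebraMap P B a) • ((1 : B) ⊗ₜ[P] KaehlerDifferential.D ℤ P x) := by
        rw [smul_eq_mul, Derivation.leibniz, TensorProduct.tmul_add, TensorProduct.tmul_smul,
          TensorProduct.tmul_smul, TensorProduct.smul_tmul', TensorProduct.smul_tmul',
          Algebra.smul_def, Algebra.smul_def, mul_one, mul_one, hx0, TensorProduct.zero_tmul,
          add_zero, TensorProduct.smul_tmul', smul_eq_mul, mul_one]
      rw [this]
      exact Submodule.smul_mem _ _ h1
  exact key y hy

lemma ker_mapBaseChange_eq_span (hsurj : Function.Surjective (algebraMap P B)) {ι : Type*}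
    (F : ι → P) (hker : RingHom.ker (algebraMap P B) = Ideal.span (Set.range F)) :
    LinearMap.ker (KaehlerDifferential.mapBaseChange ℤ P B) =
      Submodule.span B (Set.range fun i => (1 : B) ⊗ₜ[P] KaehlerDifferential.D ℤ P (F i)) := by
  apply le_antisymm
  · intro z hz
    have hex := KaehlerDifferential.exact_kerCotangentToTensor_mapBaseChange ℤ P B hsurj
    obtain ⟨w, rfl⟩ := (hex z).1 hz
    obtain ⟨y, rfl⟩ := Ideal.toCotangent_surjective _ w
    rw [kerCotangentToTensor_toCotangent]
    exact tmul_D_mem_span F hker y y.2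
  · rw [Submodule.span_le]
    rintro _ ⟨i, rfl⟩
    have hFi : algebraMap P B (F i) = 0 := by
      have : F i ∈ RingHom.ker (algebraMap P B) := by
        rw [hker]; exact Ideal.subset_span ⟨i, rfl⟩
      exact this
    change KaehlerDifferential.mapBaseChange ℤ P B _ = 0
    rw [KaehlerDifferential.mapBaseChange_tmul, KaehlerDifferential.map_D, hFi, map_zero,
      smul_zero]

/-- the kernel of `L ⊗_P Ω_P → L ⊗_B Ω_B` for a quotient `B` of `P` -/
theorem ker_up_eq_span (hsurj : Function.Surjective (algebraMap P B)) {ι : Type*}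
    (F : ι → P) (hker : RingHom.ker (algebraMap P B) = Ideal.span (Set.range F)) :
    LinearMap.ker (ImperfTower.up ℤ P B L) =
      Submodule.span L (Set.range fun i => (1 : L) ⊗ₜ[P] KaehlerDifferential.D ℤ P (F i)) := by
  apply le_antisymm
  · intro z hz
    rw [LinearMap.mem_ker, ImperfTower.up_apply] at hz
    have h1 := ker_baseChange_le_span (L := L) (KaehlerDifferential.mapBaseChange ℤ P B)
      (KaehlerDifferential.mapBaseChange_surjective ℤ P B hsurj) _
      (ker_mapBaseChange_eq_span hsurj F hker) hz
    set e := TensorProduct.AlgebraTensorModule.cancelBaseChange P B L L Ω[P⁄ℤ] with he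
    have h2 : z = e (e.symm z) := (e.apply_symm_apply z).symm
    rw [h2]
    have h3 : Submodule.span L ((fun s => (1 : L) ⊗ₜ[B] s) ''
        (Set.range fun i => (1 : B) ⊗ₜ[P] KaehlerDifferential.D ℤ P (F i))) ≤
        (Submodule.span L (Set.range fun i =>
          (1 : L) ⊗ₜ[P] KaehlerDifferential.D ℤ P (F i))).comap e.toLinearMap := by
      rw [Submodule.span_le]
      rintro _ ⟨_, ⟨i, rfl⟩, rfl⟩
      refine Submodule.mem_comap.2 ?_
      rw [LinearEquiv.coe_coe, he, TensorProduct.AlgebraTensorModule.cancelBaseChange_tmul,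
        one_smul]
      exact Submodule.subset_span ⟨i, rfl⟩
    exact h3 h1
  · rw [Submodule.span_le]
    rintro _ ⟨i, rfl⟩
    have hFi : algebraMap P B (F i) = 0 := by
      have : F i ∈ RingHom.ker (algebraMap P B) := by
        rw [hker]; exact Ideal.subset_span ⟨i, rfl⟩
      exact this
    change ImperfTower.up ℤ P B L _ = 0
    rw [ImperfTower.up_tmul_D, hFi, map_zero, TensorProduct.tmul_zero]

end Kaehler

end Groth.Agent.Lib.Helper5.QuotKaehler
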