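import Groth.Agent.Lib.Helper5.CartierFinite
import Groth.Agent.Lib.Helper5.MvPolyDer
import Groth.Agent.Lib.Helper5.QuotKaehler

set_option autoImplicit false
set_option linter.unusedSectionVars false
universe u

namespace Groth.Agent.Lib.Helper5.CotIndex

open TensorProduct KaehlerDifferential Module ImperfTower Cartier

section Aux

variable {k : Type*} [Field k] {M N : Type*} [AddCommGroup M] [Module k M] [AddCommGroup N]
  [Module k N]

lemma finite_coker_of_surjective {f : M →ₗ[k] N} (hf : Function.Surjective f) :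
    FiniteDimensional k (N ⧸ LinearMap.range f) := by
  have : Subsingleton (N ⧸ LinearMap.range f) := by
    exact Submodule.Quotient.subsingleton_iff.2 (LinearMap.range_eq_top.2 hf)
  infer_instance

lemma finite_ker_of_injective {f : M →ₗ[k] N} (hf : Function.Injective f) :
    FiniteDimensional k (LinearMap.ker f) := by
  rw [LinearMap.ker_eq_bot.2 hf]
  infer_instance

end Aux

section Main

variable {A K B K' : Type u} [CommRing A] [Field K] [CommRing B] [Field K'] {σ : Type}
  [Fintype σ]
  [Algebra A K] [Algebra A B] [Algebra B K'] [Algebra K K'] [Algebra A K']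
  [IsScalarTower A K K'] [IsScalarTower A B K']
  [Algebra (MvPolynomial σ A) B] [IsScalarTower A (MvPolynomial σ A) B]
  [Algebra (MvPolynomial σ A) K'] [IsScalarTower (MvPolynomial σ A) B K']
  [IsScalarTower A (MvPolynomial σ A) K']

/-- the index of `K' ⊗_A Ω_A → Ω_{K'}` for a finite extension `K'` of the quotient `K` of `A` -/
theorem index_mapBaseChange_of_finite [FiniteDimensional K K']
    (hAK : Function.Surjective (algebraMap A K))
    [FiniteDimensional K (LinearMap.ker (KaehlerDifferential.mapBaseChange ℤ A K))] :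
    (KaehlerDifferential.mapBaseChange ℤ A K').index =
      finrank K (LinearMap.ker (KaehlerDifferential.mapBaseChange ℤ A K)) ∧
    FiniteDimensional K' (LinearMap.ker (KaehlerDifferential.mapBaseChange ℤ A K')) ∧
    FiniteDimensional K' (Ω[K'⁄ℤ] ⧸ LinearMap.range (KaehlerDifferential.mapBaseChange ℤ A K')) := by
  have hc : CData K K' 0 := cdata_of_finite K K'
  have _ := hc.finKer
  have _ := hc.finCoker
  set πA := KaehlerDifferential.mapBaseChange ℤ A K with hπA
  have hπAsurj : Function.Surjective πA := KaehlerDifferential.mapBaseChange_surjective ℤ A K hAK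
  have _ : FiniteDimensional K (Ω[K⁄ℤ] ⧸ LinearMap.range πA) := finite_coker_of_surjective hπAsurj
  set g := πA.baseChange K' with hg
  set e := (TensorProduct.AlgebraTensorModule.cancelBaseChange A K K' K' Ω[A⁄ℤ]).symm with he
  have hup : up ℤ A K K' = g ∘ₗ e.toLinearMap := rfl
  have hcomp : KaehlerDifferential.mapBaseChange ℤ A K' =
      (KaehlerDifferential.mapBaseChange ℤ K K') ∘ₗ (up ℤ A K K') := by
    apply LinearMap.ext
    intro z
    exact (mapBaseChange_up ℤ A K K' z).symm
  have _ : FiniteDimensional K' (LinearMap.ker g) := finite_ker_baseChange _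
  have _ : FiniteDimensional K' (_ ⧸ LinearMap.range g) := finite_coker_baseChange _
  have _ : FiniteDimensional K' (LinearMap.ker (up ℤ A K K')) := by
    rw [hup]; exact finite_ker_comp_equiv g e
  have _ : FiniteDimensional K' (_ ⧸ LinearMap.range (up ℤ A K K')) := by
    rw [hup, range_comp_equiv]; infer_instance
  have hidx : (up ℤ A K K').index = finrank K (LinearMap.ker πA) := by
    rw [hup, index_comp_equiv, hg, index_baseChange, LinearMap.index_of_surjective hπAsurj]
  refine ⟨?_, ?_, ?_⟩
  · rw [hcomp, LinearMap.index_comp, hc.index_eq, hidx]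
    simp
  · rw [hcomp, LinearMap.ker_comp]
    infer_instance
  · rw [hcomp, LinearMap.range_comp]
    infer_instance

omit [Fintype σ] in
lemma tmul_D_rel (p : ℕ) (hpK' : (p : K') = 0) (f : σ → A) (i : σ) :
    (1 : K') ⊗ₜ[MvPolynomial σ A] KaehlerDifferential.D ℤ (MvPolynomial σ A)
      (MvPolynomial.X i ^ p - MvPolynomial.C (f i)) =
    - up ℤ A (MvPolynomial σ A) K' ((1 : K') ⊗ₜ[A] KaehlerDifferential.D ℤ A (f i)) := by
  have hXp : (1 : K') ⊗ₜ[MvPolynomial σ A] KaehlerDifferential.D ℤ (MvPolynomial σ A)
      ((MvPolynomial.X i : MvPolynomial σ A) ^ p) = 0 := by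
    rw [Derivation.leibniz_pow, ← Nat.cast_smul_eq_nsmul (MvPolynomial σ A),
      ← TensorProduct.smul_tmul, Algebra.smul_def, map_natCast, hpK', zero_mul,
      TensorProduct.zero_tmul]
  rw [map_sub, TensorProduct.tmul_sub, hXp, zero_sub, up_tmul_D, MvPolynomial.algebraMap_eq]

/-- the numerical relation between the kernels of `K ⊗ Ω_A → Ω_K` and `K' ⊗ Ω_B → Ω_{K'}` for
`B = A[T]/(T_i ^ p - f_i)` -/
theorem main (p : ℕ) (hpK' : (p : K') = 0) (f : σ → A) [FiniteDimensional K K']
    (hAK : Function.Surjective (algebraMap A K))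
    (hPB : Function.Surjective (algebraMap (MvPolynomial σ A) B))
    (hBK' : Function.Surjective (algebraMap B K'))
    (hker : RingHom.ker (algebraMap (MvPolynomial σ A) B) =
      Ideal.span (Set.range fun i => MvPolynomial.X i ^ p - MvPolynomial.C (f i)))
    [FiniteDimensional K (LinearMap.ker (KaehlerDifferential.mapBaseChange ℤ A K))]
    [FiniteDimensional K' (LinearMap.ker (KaehlerDifferential.mapBaseChange ℤ B K'))] :
    (finrank K' (LinearMap.ker (KaehlerDifferential.mapBaseChange ℤ B K')) : ℤ) +
      finrank K' (Submodule.span K'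
        (Set.range fun i => (1 : K') ⊗ₜ[A] KaehlerDifferential.D ℤ A (f i))) =
    finrank K (LinearMap.ker (KaehlerDifferential.mapBaseChange ℤ A K)) + Fintype.card σ := by
  obtain ⟨hidxA, hfinA1, hfinA2⟩ := index_mapBaseChange_of_finite (A := A) (K := K) (K' := K') hAK
  set ι := up ℤ A (MvPolynomial σ A) K' with hι
  set q := up ℤ (MvPolynomial σ A) B K' with hq
  set πB := KaehlerDifferential.mapBaseChange ℤ B K' with hπB
  have hι_inj : Function.Injective ι := MvPolyDer.up_injective
  have hq_surj : Function.Surjective q := QuotKaehler.up_surjective hPB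
  have hq_ker : LinearMap.ker q = Submodule.span K' (Set.range fun i =>
      (1 : K') ⊗ₜ[MvPolynomial σ A] KaehlerDifferential.D ℤ (MvPolynomial σ A)
        (MvPolynomial.X i ^ p - MvPolynomial.C (f i))) :=
    QuotKaehler.ker_up_eq_span (L := K') hPB _ hker
  have hπB_surj : Function.Surjective πB :=
    KaehlerDifferential.mapBaseChange_surjective ℤ B K' hBK'
  have hcomp : KaehlerDifferential.mapBaseChange ℤ A K' = πB ∘ₗ (q ∘ₗ ι) := by
    apply LinearMap.ext
    intro z
    rw [LinearMap.comp_apply, LinearMap.comp_apply, hπB, hq, mapBaseChange_up, hι,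
      mapBaseChange_up]
  have _ : FiniteDimensional K' (LinearMap.ker ι) := finite_ker_of_injective hι_inj
  have _ : FiniteDimensional K' (_ ⧸ LinearMap.range ι) := MvPolyDer.finite_coker_up
  have _ : FiniteDimensional K' (LinearMap.ker q) := by
    rw [hq_ker]
    exact FiniteDimensional.span_of_finite K' (Set.finite_range _)
  have _ : FiniteDimensional K' (_ ⧸ LinearMap.range q) := finite_coker_of_surjective hq_surj
  have _ : FiniteDimensional K' (_ ⧸ LinearMap.range πB) := finite_coker_of_surjective hπB_surj
  have _ : FiniteDimensional K' (LinearMap.ker (q ∘ₗ ι)) := by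
    rw [LinearMap.ker_comp]; infer_instance
  have _ : FiniteDimensional K' (_ ⧸ LinearMap.range (q ∘ₗ ι)) := by
    rw [LinearMap.range_comp]; infer_instance
  have hidxι : ι.index = -(Fintype.card σ : ℤ) := by
    rw [LinearMap.index_of_injective hι_inj, MvPolyDer.finrank_coker_up]
  have hidxq : q.index = finrank K' (LinearMap.ker q) := LinearMap.index_of_surjective hq_surj
  have hidxB : πB.index = finrank K' (LinearMap.ker πB) :=
    LinearMap.index_of_surjective hπB_surj
  have htot : (KaehlerDifferential.mapBaseChange ℤ A K').index =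
      πB.index + (q.index + ι.index) := by
    rw [hcomp, LinearMap.index_comp, LinearMap.index_comp]
  have hspan : LinearMap.ker q = (Submodule.span K'
      (Set.range fun i => (1 : K') ⊗ₜ[A] KaehlerDifferential.D ℤ A (f i))).map ι := by
    rw [hq_ker, Submodule.map_span]
    apply le_antisymm
    · rw [Submodule.span_le]
      rintro _ ⟨i, rfl⟩
      change (1 : K') ⊗ₜ[MvPolynomial σ A] KaehlerDifferential.D ℤ (MvPolynomial σ A)
        (MvPolynomial.X i ^ p - MvPolynomial.C (f i)) ∈ _
      rw [tmul_D_rel p hpK' f i]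
      exact Submodule.neg_mem _ (Submodule.subset_span ⟨_, ⟨i, rfl⟩, rfl⟩)
    · rw [Submodule.span_le]
      rintro _ ⟨_, ⟨i, rfl⟩, rfl⟩
      have h1 := tmul_D_rel (K' := K') p hpK' f i
      have h2 : ι ((1 : K') ⊗ₜ[A] KaehlerDifferential.D ℤ A (f i)) =
          - ((1 : K') ⊗ₜ[MvPolynomial σ A] KaehlerDifferential.D ℤ (MvPolynomial σ A)
            (MvPolynomial.X i ^ p - MvPolynomial.C (f i))) := by
        rw [h1, neg_neg]
      rw [SetLike.mem_coe, h2]
      exact Submodule.neg_mem _ (Submodule.subset_span ⟨i, rfl⟩)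
  have hfr : finrank K' (LinearMap.ker q) = finrank K' (Submodule.span K'
      (Set.range fun i => (1 : K') ⊗ₜ[A] KaehlerDifferential.D ℤ A (f i))) := by
    rw [hspan]
    exact (Submodule.equivMapOfInjective ι hι_inj _).finrank_eq.symm
  rw [hidxA, hidxB, hidxq, hidxι, hfr] at htot
  linarith

end Main

end Groth.Agent.Lib.Helper5.CotIndex
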