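import Groth.Agent.S12289
import Mathlib

set_option autoImplicit false
universe u

namespace Groth.Agent.Lib.Helper5.CotSyz

open CotT TensorProduct

theorem formallySmooth_iff_T1 (k B : Type u) [CommRing k] [CommRing B] [Algebra k B] :
    Algebra.FormallySmooth k B ↔
      ∀ (M : Type u) [AddCommGroup M] [Module B M], Subsingleton (T1 (canon k B) M) := by
  let P := canon k B
  have hR : Algebra.FormallySmooth k P.toExtension.Ring :=
    inferInstanceAs (Algebra.FormallySmooth k (MvPolynomial B k))
  rw [Algebra.Extension.formallySmooth_iff_split_injection P.toExtension]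
  constructor
  · rintro ⟨l, hl⟩ M _ _
    obtain ⟨_, hker, hsurj⟩ := Groth.Agent.S12289.result k B B (CanonRels k B) P M
    refine ⟨fun a b => ?_⟩
    have key : ∀ x : T1 P M, x = 0 := by
      intro x
      obtain ⟨φ, rfl⟩ := hsurj x
      rw [← LinearMap.mem_ker, hker]
      refine ⟨φ ∘ₗ l, ?_⟩
      rw [LinearMap.lcomp_apply', LinearMap.comp_assoc, hl, LinearMap.comp_id]
    rw [key a, key b]
  · intro h
    obtain ⟨_, hker, _⟩ := Groth.Agent.S12289.result k B B (CanonRels k B) P
      P.toExtension.Cotangent
    have hsub := h P.toExtension.Cotangent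
    have hid : (LinearMap.id : P.toExtension.Cotangent →ₗ[B] P.toExtension.Cotangent) ∈
        LinearMap.ker (homToT1 P P.toExtension.Cotangent) := by
      rw [LinearMap.mem_ker]
      exact Subsingleton.elim _ _
    rw [hker] at hid
    obtain ⟨ψ, hψ⟩ := hid
    exact ⟨ψ, hψ⟩

end Groth.Agent.Lib.Helper5.CotSyz
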