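import Groth.Agent.Lib.Helper1.CotRel
import Groth.Agent.Lib.Helper1.Koszul
import Mathlib

set_option autoImplicit false
universe u v w t

namespace Groth.Agent.Lib.Helper5.CotSyz

open CotT TensorProduct Groth.Agent.Lib.Helper1.Koszul Groth.Agent.Lib.Helper1.CotRel

def Syz {S : Type*} [CommRing S] {J : Type*} (z : J → S) : Prop :=
  ∀ c : J →₀ S, tot z c = 0 → (∀ j, c j ∈ Ideal.span (Set.range z)) → c ∈ K z

section tensor

variable {R : Type*} {B : Type*} [CommRing R] [CommRing B] [Algebra R B]
  {N : Type*} [AddCommGroup N] [Module R N]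

theorem exists_one_tmul {N : Type*} [AddCommMonoid N] [Module R N]
    (hs : Function.Surjective (algebraMap R B)) (y : B ⊗[R] N) :
    ∃ n : N, y = (1 : B) ⊗ₜ[R] n := by
  induction y using TensorProduct.induction_on with
  | zero => exact ⟨0, (TensorProduct.tmul_zero _ _).symm⟩
  | tmul b n =>
    obtain ⟨r, rfl⟩ := hs b
    refine ⟨r • n, ?_⟩
    rw [TensorProduct.tmul_smul, TensorProduct.smul_tmul', Algebra.smul_def, mul_one]
  | add x y hx hy =>
    obtain ⟨a, rfl⟩ := hx
    obtain ⟨b, rfl⟩ := hy
    exact ⟨a + b, (TensorProduct.tmul_add _ _ _).symm⟩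

theorem mem_smul_top_of_one_tmul_eq_zero (hs : Function.Surjective (algebraMap R B)) (m : N)
    (hm : (1 : B) ⊗ₜ[R] m = 0) : m ∈ (RingHom.ker (algebraMap R B) • ⊤ : Submodule R N) := by
  let I := RingHom.ker (algebraMap R B)
  let e : (R ⧸ I) ≃ₐ[R] B := Ideal.quotientKerAlgEquivOfSurjective (f := Algebra.ofId R B) hs
  have h1 : ((1 : R ⧸ I) ⊗ₜ[R] m) = 0 := by
    have := congrArg (LinearMap.rTensor N e.symm.toLinearMap) hm
    simpa using this
  have h2 := congrArg (TensorProduct.quotTensorEquivQuotSMul N I) h1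
  rw [map_zero, ← map_one (Ideal.Quotient.mk I), TensorProduct.quotTensorEquivQuotSMul_mk_tmul,
    one_smul, Submodule.Quotient.mk_eq_zero] at h2
  exact h2

theorem one_tmul_eq_zero_of_mem_smul_top (m : N)
    (hm : m ∈ (RingHom.ker (algebraMap R B) • ⊤ : Submodule R N)) : (1 : B) ⊗ₜ[R] m = 0 := by
  refine Submodule.smul_induction_on hm ?_ ?_
  · intro r hr n _
    rw [TensorProduct.tmul_smul, TensorProduct.smul_tmul', Algebra.smul_def, mul_one,
      (RingHom.mem_ker).1 hr, TensorProduct.zero_tmul]
  · intro x y hx hy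
    rw [TensorProduct.tmul_add, hx, hy, add_zero]

end tensor

section koszul

variable {S : Type*} [CommRing S] {J : Type*} (z : J → S)

theorem smul_sub_smul_mem_K (a b : J →₀ S) : tot z a • b - tot z b • a ∈ K z := by
  induction a using Finsupp.induction_linear with
  | zero => simp
  | add f g hf hg =>
    have : tot z (f + g) • b - tot z b • (f + g) =
        (tot z f • b - tot z b • f) + (tot z g • b - tot z b • g) := by
      rw [map_add, add_smul, smul_add]; abel
    rw [this]
    exact Submodule.add_mem _ hf hg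
  | single i x =>
    induction b using Finsupp.induction_linear with
    | zero => simp
    | add f g hf hg =>
      have : tot z (Finsupp.single i x) • (f + g) - tot z (f + g) • Finsupp.single i x =
          (tot z (Finsupp.single i x) • f - tot z f • Finsupp.single i x) +
          (tot z (Finsupp.single i x) • g - tot z g • Finsupp.single i x) := by
        rw [map_add, add_smul, smul_add]; abel
      rw [this]
      exact Submodule.add_mem _ hf hg
    | single j y =>
      have h1 : tot z (Finsupp.single i x) • Finsupp.single j y -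
          tot z (Finsupp.single j y) • Finsupp.single i x =
          (x * y) • (Finsupp.single j (z i) - Finsupp.single i (z j)) := by
        rw [tot_single, tot_single, smul_sub, Finsupp.smul_single, Finsupp.smul_single,
          Finsupp.smul_single, Finsupp.smul_single, smul_eq_mul, smul_eq_mul, smul_eq_mul,
          smul_eq_mul]
        congr 2 <;> ring
      rw [h1]
      exact Submodule.smul_mem _ _ (Submodule.subset_span ⟨i, j, rfl⟩)

end koszul

variable {A : Type u} {B : Type v} {ι : Type w} {σ : Type t}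
variable [CommRing A] [CommRing B] [Algebra A B]
variable (P : Algebra.Presentation A B ι σ)

theorem K_le_trivRel : K (rel P) ≤ trivRel P := by
  refine Submodule.span_le.mpr ?_
  rintro _ ⟨i, j, rfl⟩
  have h1 : (Finsupp.single j (rel P i) - Finsupp.single i (rel P j) : relMod P) =
      jmap P (Finsupp.single i 1) • Finsupp.single j 1 -
        jmap P (Finsupp.single j 1) • Finsupp.single i 1 := by
    rw [jmap_single, jmap_single, one_mul, one_mul, Finsupp.smul_single,
      Finsupp.smul_single, smul_eq_mul, smul_eq_mul, mul_one, mul_one]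
  rw [SetLike.mem_coe, h1]
  exact Submodule.subset_span ⟨_, _, rfl⟩

theorem trivRel_le_K : trivRel P ≤ K (rel P) := by
  refine Submodule.span_le.mpr ?_
  rintro _ ⟨a, b, rfl⟩
  exact smul_sub_smul_mem_K (rel P) a b

theorem coeff_mem_ker_of_mem_smul_top (c : relMod P)
    (hc : c ∈ (P.toExtension.ker • ⊤ : Submodule P.toExtension.Ring (relMod P))) (s : σ) :
    c s ∈ P.toExtension.ker := by
  refine Submodule.smul_induction_on hc ?_ ?_
  · intro r hr n _
    rw [Finsupp.smul_apply, smul_eq_mul]
    exact Ideal.mul_mem_right _ _ hr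
  · intro x y hx hy
    rw [Finsupp.add_apply]
    exact Ideal.add_mem _ hx hy

theorem mem_smul_top_of_coeff_mem_ker (c : relMod P) (hc : ∀ s, c s ∈ P.toExtension.ker) :
    c ∈ (P.toExtension.ker • ⊤ : Submodule P.toExtension.Ring (relMod P)) := by
  classical
  rw [← Finsupp.sum_single c]
  refine Submodule.sum_mem _ fun s _ => ?_
  have : Finsupp.single s (c s) = (c s) • (Finsupp.single s (1 : P.toExtension.Ring)) := by
    rw [Finsupp.smul_single, smul_eq_mul, mul_one]
  rw [this]
  exact Submodule.smul_mem_smul (hc s) Submodule.mem_top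

theorem span_range_rel : Ideal.span (Set.range (rel P)) = P.toExtension.ker :=
  P.span_range_relation_eq_ker

theorem d2_injective (hS : Syz (rel P)) : Function.Injective (d2 P) := by
  rw [injective_iff_map_eq_zero]
  intro x hx
  obtain ⟨q, rfl⟩ := mk2_surjective P x
  rw [d2_mk2] at hx
  apply mk2_eq_zero_of_mem
  apply K_le_trivRel
  apply hS
  · exact q.2
  · intro s
    rw [span_range_rel]
    exact coeff_mem_ker_of_mem_smul_top P _
      (mem_smul_top_of_one_tmul_eq_zero P.toExtension.algebraMap_surjective _ hx) s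

theorem toCot_surjective : Function.Surjective (toCot P) := by
  intro x
  obtain ⟨y, rfl⟩ := Algebra.Extension.Cotangent.mk_surjective x
  have hy : (y : P.toExtension.Ring) ∈ LinearMap.range (jmap P) := by
    rw [range_jmap]
    exact y.2
  obtain ⟨f, hf⟩ := hy
  refine ⟨(1 : B) ⊗ₜ f, ?_⟩
  rw [toCot_tmul, one_smul]
  congr 1
  exact Subtype.ext hf

theorem ker_toCot_le_range_d2 : LinearMap.ker (toCot P) ≤ LinearMap.range (d2 P) := by
  intro y hy
  obtain ⟨c, rfl⟩ := exists_one_tmul P.toExtension.algebraMap_surjective y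
  rw [LinearMap.mem_ker, toCot_tmul, one_smul, Algebra.Extension.Cotangent.mk_eq_zero_iff] at hy
  have h1 : jmap P c ∈ (P.toExtension.ker • (LinearMap.range (jmap P)) :
      Submodule P.toExtension.Ring P.toExtension.Ring) := by
    rw [range_jmap, Ideal.smul_eq_mul, ← pow_two]
    exact hy
  rw [← Submodule.map_top, ← Submodule.map_smul''] at h1
  obtain ⟨c', hc', hcc'⟩ := h1
  have hq : c - c' ∈ relKer P := by
    change jmap P (c - c') = 0
    rw [map_sub, hcc', sub_self]
  refine ⟨mk2 P ⟨c - c', hq⟩, ?_⟩
  rw [d2_mk2]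
  change (1 : B) ⊗ₜ[P.toExtension.Ring] (c - c') = _
  rw [TensorProduct.tmul_sub, one_tmul_eq_zero_of_mem_smul_top c' hc', sub_zero]

theorem subsingleton_T2_of_syz (hS : Syz (rel P)) [Module.Projective B P.toExtension.Cotangent]
    (M : Type*) [AddCommGroup M] [Module B M] : Subsingleton (T2 P M) := by
  obtain ⟨s, hs⟩ := Module.projective_lifting_property (toCot P) LinearMap.id (toCot_surjective P)
  have hinj := d2_injective P hS
  let e : L2 P ≃ₗ[B] LinearMap.range (d2 P) := LinearEquiv.ofInjective (d2 P) hinj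
  have hmem : ∀ y : L1 P, y - s (toCot P y) ∈ LinearMap.range (d2 P) := by
    intro y
    apply ker_toCot_le_range_d2
    rw [LinearMap.mem_ker, map_sub]
    have : toCot P (s (toCot P y)) = toCot P y := LinearMap.congr_fun hs (toCot P y)
    rw [this, sub_self]
  let π : L1 P →ₗ[B] LinearMap.range (d2 P) :=
    LinearMap.codRestrict _ (LinearMap.id - s ∘ₗ toCot P) hmem
  let ρ : L1 P →ₗ[B] L2 P := e.symm.toLinearMap ∘ₗ π
  have hρ : ∀ x : L2 P, ρ (d2 P x) = x := by
    intro x
    change e.symm (π (d2 P x)) = x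
    rw [LinearEquiv.symm_apply_eq]
    apply Subtype.ext
    change d2 P x - s (toCot P (d2 P x)) = d2 P x
    have h0 : toCot P (d2 P x) = 0 := LinearMap.congr_fun (toCot_comp_d2 P) x
    rw [h0, map_zero, sub_zero]
  refine ⟨fun a b => ?_⟩
  obtain ⟨φ, rfl⟩ := Submodule.Quotient.mk_surjective _ a
  obtain ⟨ψ, rfl⟩ := Submodule.Quotient.mk_surjective _ b
  have key : ∀ φ : L2 P →ₗ[B] M, φ ∈ LinearMap.range (d2Star P M) := by
    intro φ
    refine ⟨φ ∘ₗ ρ, ?_⟩
    rw [d2Star_apply]
    refine LinearMap.ext fun x => ?_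
    change φ (ρ (d2 P x)) = φ x
    rw [hρ]
  rw [(Submodule.Quotient.mk_eq_zero _).2 (key φ), (Submodule.Quotient.mk_eq_zero _).2 (key ψ)]

theorem syz_of_subsingleton_T2 (h : Subsingleton (T2 P (L2 P))) : Syz (rel P) := by
  have hid : (LinearMap.id : L2 P →ₗ[B] L2 P) ∈ LinearMap.range (d2Star P (L2 P)) := by
    rw [← Submodule.Quotient.mk_eq_zero]
    exact Subsingleton.elim _ _
  obtain ⟨ρ, hρ⟩ := hid
  rw [d2Star_apply] at hρ
  have hinj : Function.Injective (d2 P) := by
    intro x y hxy
    have hx : ρ (d2 P x) = x := LinearMap.congr_fun hρ x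
    have hy : ρ (d2 P y) = y := LinearMap.congr_fun hρ y
    rw [← hx, ← hy, hxy]
  intro c hc0 hcI
  have hq : c ∈ relKer P := hc0
  have h1 : d2 P (mk2 P ⟨c, hq⟩) = 0 := by
    rw [d2_mk2]
    apply one_tmul_eq_zero_of_mem_smul_top
    apply mem_smul_top_of_coeff_mem_ker
    intro s
    rw [← span_range_rel]
    exact hcI s
  have h2 : mk2 P ⟨c, hq⟩ = 0 := hinj (h1.trans (map_zero _).symm)
  rw [mk2_apply, Submodule.Quotient.mk_eq_zero] at h2
  obtain ⟨y, hy⟩ := h2
  obtain ⟨w, rfl⟩ := exists_one_tmul P.toExtension.algebraMap_surjective y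
  rw [LinearMap.baseChange_tmul] at hy
  have h3 : (1 : B) ⊗ₜ[P.toExtension.Ring] ((trivRelKer P).subtype w - ⟨c, hq⟩) = 0 := by
    have := TensorProduct.tmul_sub (R := P.toExtension.Ring) (1 : B)
      ((trivRelKer P).subtype w) (⟨c, hq⟩ : relKer P)
    rw [hy, sub_self] at this
    exact this
  have h4 := mem_smul_top_of_one_tmul_eq_zero (N := ↥(relKer P))
    P.toExtension.algebraMap_surjective _ h3
  have h5 : ∀ x : relKer P, x ∈ (P.toExtension.ker • ⊤ :
      Submodule P.toExtension.Ring (relKer P)) → (x : relMod P) ∈ trivRel P := by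
    intro x hx
    refine Submodule.smul_induction_on hx ?_ ?_
    · intro r hr n _
      have hr' : r ∈ LinearMap.range (jmap P) := by
        rw [range_jmap]
        exact hr
      obtain ⟨f, rfl⟩ := hr'
      have hn : jmap P (n : relMod P) = 0 := n.2
      have : ((jmap P f • n : relKer P) : relMod P) =
          jmap P f • (n : relMod P) - jmap P (n : relMod P) • f := by
        rw [hn, zero_smul, sub_zero]
        rfl
      rw [this]
      exact Submodule.subset_span ⟨_, _, rfl⟩
    · intro x y hx hy
      rw [Submodule.coe_add]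
      exact Submodule.add_mem _ hx hy
  have h6 := h5 _ h4
  have hw : ((trivRelKer P).subtype w : relMod P) ∈ trivRel P := w.2
  apply trivRel_le_K
  have h7 : c = ((trivRelKer P).subtype w : relMod P) -
      (((trivRelKer P).subtype w - ⟨c, hq⟩ : relKer P) : relMod P) := by
    rw [Submodule.coe_sub]
    simp
  rw [h7]
  exact Submodule.sub_mem _ hw h6

end Groth.Agent.Lib.Helper5.CotSyz
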