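import Groth.Agent.Lib.Helper5.CotSyz
import Mathlib

set_option autoImplicit false
universe u v w t

namespace Groth.Agent.Lib.Helper5.CotSyz

open CotT TensorProduct Groth.Agent.Lib.Helper1.Koszul Groth.Agent.Lib.Helper1.CotRel

section transfer

variable {S S' : Type*} [CommRing S] [CommRing S'] {J : Type*}

theorem tot_mapRange_ringHom (f : S →+* S') (z : J → S) (c : J →₀ S) :
    tot (fun j => f (z j)) (c.mapRange f (map_zero f)) = f (tot z c) := by
  induction c using Finsupp.induction_linear with
  | zero => simp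
  | add a b ha hb =>
    rw [Finsupp.mapRange_add (f.map_add), map_add, ha, hb, map_add, map_add]
  | single j x =>
    rw [Finsupp.mapRange_single, tot_single, tot_single, map_mul]

theorem mapRange_mem_K (f : S →+* S') (z : J → S) (c : J →₀ S) (hc : c ∈ K z) :
    c.mapRange f (map_zero f) ∈ K (fun j => f (z j)) := by
  refine Submodule.span_induction ?_ ?_ ?_ ?_ hc
  · rintro _ ⟨i, j, rfl⟩
    rw [Finsupp.mapRange_sub (f.map_sub), Finsupp.mapRange_single, Finsupp.mapRange_single]
    exact Submodule.subset_span ⟨i, j, rfl⟩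
  · rw [Finsupp.mapRange_zero]
    exact Submodule.zero_mem _
  · intro x y _ _ hx hy
    rw [Finsupp.mapRange_add (f.map_add)]
    exact Submodule.add_mem _ hx hy
  · intro a x _ hx
    have : (a • x).mapRange f (map_zero f) = f a • x.mapRange f (map_zero f) := by
      ext j
      simp [Finsupp.mapRange_apply]
    rw [this]
    exact Submodule.smul_mem _ _ hx

theorem Syz.of_ringEquiv (e : S ≃+* S') (z : J → S) (h : Syz (fun j => e (z j))) : Syz z := by
  intro c hc0 hcI
  have h1 : tot (fun j => e (z j)) (c.mapRange e (map_zero e)) = 0 := by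
    have := tot_mapRange_ringHom (e : S →+* S') z c
    rw [hc0, map_zero] at this
    exact this
  have h2 : ∀ j, (c.mapRange e (map_zero e)) j ∈ Ideal.span (Set.range fun j => e (z j)) := by
    intro j
    rw [Finsupp.mapRange_apply]
    have h3 : Ideal.span (Set.range fun j => e (z j)) =
        (Ideal.span (Set.range z)).map (e : S →+* S') := by
      rw [Ideal.map_span, ← Set.range_comp]
      rfl
    rw [h3]
    exact Ideal.mem_map_of_mem _ (hcI j)
  have h4 := h _ h1 h2
  have h5 := mapRange_mem_K (e.symm : S' →+* S) (fun j => e (z j)) _ h4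
  have h6 : (c.mapRange e (map_zero e)).mapRange (e.symm : S' →+* S) (map_zero _) = c := by
    ext j
    simp [Finsupp.mapRange_apply]
  have h7 : (fun j => (e.symm : S' →+* S) (e (z j))) = z := by
    funext j
    simp
  rw [h6, h7] at h5
  exact h5

end transfer

section localglobal

variable {S : Type*} [CommRing S] {J : Type*} (z : J → S)

theorem smul_mem_K_of_mem_span (c : J →₀ S) (hc0 : tot z c = 0) (x : S)
    (hx : x ∈ Ideal.span (Set.range z)) : x • c ∈ K z := by
  have hx' : x ∈ LinearMap.range (tot z) := by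
    rw [Finsupp.range_linearCombination]
    exact hx
  obtain ⟨a, rfl⟩ := hx'
  have := smul_sub_smul_mem_K z a c
  rw [hc0, zero_smul, sub_zero] at this
  exact this

theorem exists_smul_eq_mapRange (n : Ideal S) [n.IsPrime]
    (y : J →₀ Localization.AtPrime n)
    (hy : y ∈ K (fun j => algebraMap S (Localization.AtPrime n) (z j))) :
    ∃ r ∈ n.primeCompl, ∃ w ∈ K z,
      algebraMap S (Localization.AtPrime n) r • y =
        w.mapRange (algebraMap S (Localization.AtPrime n)) (map_zero _) := by
  refine Submodule.span_induction ?_ ?_ ?_ ?_ hy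
  · rintro _ ⟨i, j, rfl⟩
    refine ⟨1, Submonoid.one_mem _, Finsupp.single j (z i) - Finsupp.single i (z j),
      Submodule.subset_span ⟨i, j, rfl⟩, ?_⟩
    rw [map_one, one_smul, Finsupp.mapRange_sub (map_sub _), Finsupp.mapRange_single,
      Finsupp.mapRange_single]
  · exact ⟨1, Submonoid.one_mem _, 0, Submodule.zero_mem _, by simp⟩
  · rintro x y _ _ ⟨r1, hr1, w1, hw1, h1⟩ ⟨r2, hr2, w2, hw2, h2⟩
    refine ⟨r1 * r2, Submonoid.mul_mem _ hr1 hr2, r2 • w1 + r1 • w2,
      Submodule.add_mem _ (Submodule.smul_mem _ _ hw1) (Submodule.smul_mem _ _ hw2), ?_⟩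
    rw [Finsupp.mapRange_add (map_add _), smul_add, map_mul]
    congr 1
    · rw [mul_comm, mul_smul, h1]
      ext j
      simp [Finsupp.mapRange_apply, Algebra.smul_def]
    · rw [mul_smul, h2]
      ext j
      simp [Finsupp.mapRange_apply, Algebra.smul_def]
  · rintro a x _ ⟨r, hr, w, hw, h⟩
    obtain ⟨a', s, rfl⟩ := IsLocalization.exists_mk'_eq n.primeCompl a
    refine ⟨s * r, Submonoid.mul_mem _ s.2 hr, a' • w, Submodule.smul_mem _ _ hw, ?_⟩
    have h1 : algebraMap S (Localization.AtPrime n) (s * r) •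
        (IsLocalization.mk' (Localization.AtPrime n) a' s • x) =
        algebraMap S (Localization.AtPrime n) a' • (algebraMap S (Localization.AtPrime n) r • x) := by
      rw [smul_smul, smul_smul]
      congr 1
      rw [map_mul, mul_comm (algebraMap S _ (s : S)), mul_assoc, IsLocalization.mk'_spec',
        mul_comm]
    rw [h1, h]
    ext j
    simp [Finsupp.mapRange_apply, Algebra.smul_def]

theorem syz_of_forall_maximal
    (h : ∀ (n : Ideal S) [n.IsMaximal], Ideal.span (Set.range z) ≤ n →
      Syz (fun j => algebraMap S (Localization.AtPrime n) (z j))) : Syz z := by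
  classical
  intro c hc0 hcI
  let Jc : Ideal S := Submodule.comap (LinearMap.toSpanSingleton S (J →₀ S) c) (K z)
  have hJc : ∀ r, r ∈ Jc ↔ r • c ∈ K z := fun r => Iff.rfl
  by_contra hcK
  have hne : Jc ≠ ⊤ := by
    intro htop
    have : (1 : S) ∈ Jc := htop ▸ Submodule.mem_top
    rw [hJc, one_smul] at this
    exact hcK this
  obtain ⟨n, hn, hJn⟩ := Ideal.exists_le_maximal Jc hne
  have hIn : Ideal.span (Set.range z) ≤ n := by
    intro x hx
    exact hJn ((hJc x).2 (smul_mem_K_of_mem_span z c hc0 x hx))
  have hloc := h n hIn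
  let f := algebraMap S (Localization.AtPrime n)
  have h1 : tot (fun j => f (z j)) (c.mapRange f (map_zero f)) = 0 := by
    have := tot_mapRange_ringHom f z c
    rw [hc0, map_zero] at this
    exact this
  have h2 : ∀ j, (c.mapRange f (map_zero f)) j ∈ Ideal.span (Set.range fun j => f (z j)) := by
    intro j
    rw [Finsupp.mapRange_apply]
    have h3 : Ideal.span (Set.range fun j => f (z j)) = (Ideal.span (Set.range z)).map f := by
      rw [Ideal.map_span, ← Set.range_comp]
      rfl
    rw [h3]
    exact Ideal.mem_map_of_mem _ (hcI j)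
  obtain ⟨r, hr, w, hw, hrw⟩ := exists_smul_eq_mapRange z n _ (hloc _ h1 h2)
  have h4 : ∀ j, f ((r • c - w) j) = 0 := by
    intro j
    have := DFunLike.congr_fun hrw j
    rw [Finsupp.smul_apply, Finsupp.mapRange_apply, Finsupp.mapRange_apply, smul_eq_mul,
      ← map_mul] at this
    rw [Finsupp.sub_apply, Finsupp.smul_apply, smul_eq_mul, map_sub, this, sub_self]
  have h5 : ∀ j, ∃ t : n.primeCompl, (t : S) * (r • c - w) j = 0 := by
    intro j
    exact (IsLocalization.map_eq_zero_iff n.primeCompl (Localization.AtPrime n) _).1 (h4 j)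
  choose t ht using h5
  obtain ⟨r2, hr2def⟩ : ∃ r2 : S, r2 = ∏ j ∈ (r • c - w).support, (t j : S) := ⟨_, rfl⟩
  have hr2 : r2 ∈ n.primeCompl := by
    rw [hr2def]
    exact Submonoid.prod_mem _ fun j _ => (t j).2
  have h6 : r2 • (r • c - w) = 0 := by
    ext j
    rw [Finsupp.smul_apply, Finsupp.zero_apply, smul_eq_mul]
    by_cases hj : j ∈ (r • c - w).support
    · rw [hr2def, ← Finset.mul_prod_erase _ _ hj, mul_comm (t j : S), mul_assoc, ht j, mul_zero]
    · rw [Finsupp.notMem_support_iff.1 hj, mul_zero]
  have h7 : (r2 * r) • c ∈ K z := by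
    rw [smul_sub, sub_eq_zero] at h6
    rw [mul_smul, h6]
    exact Submodule.smul_mem _ _ hw
  exact (Submonoid.mul_mem _ hr2 hr) (hJn ((hJc _).2 h7))

end localglobal

end Groth.Agent.Lib.Helper5.CotSyz
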