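import Groth.Agent.Lib.Helper5.PowSerSmooth
import Mathlib.RingTheory.Smooth.Kaehler
import Mathlib.RingTheory.LocalRing.ResidueField.Basic
import Mathlib.RingTheory.Ideal.Cotangent

set_option autoImplicit false
set_option linter.unusedSectionVars false
universe u

namespace Groth.Agent.Lib.Helper5.CotTensor

open TensorProduct KaehlerDifferential IsLocalRing

section General

variable {P S : Type u} [CommRing P] [CommRing S] [Algebra P S]

/-- a ring section of `P/I² → S` makes `I/I² → S ⊗ Ω_P` injective -/
theorem kerCotangentToTensor_injective (hf : Function.Surjective (algebraMap P S))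
    (g : S →ₐ[ℤ] P ⧸ (RingHom.ker (IsScalarTower.toAlgHom ℤ P S).toRingHom ^ 2))
    (hg : (IsScalarTower.toAlgHom ℤ P S).kerSquareLift.comp g = AlgHom.id ℤ S) :
    Function.Injective (kerCotangentToTensor ℤ P S) := by
  obtain ⟨l, hl⟩ := (retractionKerCotangentToTensorEquivSection (R := ℤ) hf).symm ⟨g, hg⟩
  exact Function.LeftInverse.injective (g := l) (fun x => LinearMap.congr_fun hl x)

end General

section CharP

variable (p : ℕ) [Fact p.Prime] {P S : Type u} [CommRing P] [Field S] [Algebra P S]
  [Algebra (ZMod p) P] [Algebra (ZMod p) S] [IsScalarTower (ZMod p) P S]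

include p

theorem exists_section (hf : Function.Surjective (algebraMap P S)) :
    ∃ g : S →ₐ[ℤ] P ⧸ (RingHom.ker (IsScalarTower.toAlgHom ℤ P S).toRingHom ^ 2),
      (IsScalarTower.toAlgHom ℤ P S).kerSquareLift.comp g = AlgHom.id ℤ S := by
  have _ : Algebra.FormallySmooth (ZMod p) S := PowSer.formallySmooth_of_perfectField
  let q : P ⧸ (RingHom.ker (IsScalarTower.toAlgHom (ZMod p) P S).toRingHom ^ 2) →ₐ[ZMod p] S :=
    (IsScalarTower.toAlgHom (ZMod p) P S).kerSquareLift
  have hq : Function.Surjective q := by
    intro s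
    obtain ⟨x, rfl⟩ := hf s
    exact ⟨Ideal.Quotient.mk _ x, rfl⟩
  have hnil : IsNilpotent (RingHom.ker q) := by
    refine ⟨2, ?_⟩
    have := AlgHom.ker_kerSquareLift (IsScalarTower.toAlgHom (ZMod p) P S)
    change RingHom.ker q.toRingHom ^ 2 = ⊥
    rw [this, Ideal.cotangentIdeal_square]
  let s := Algebra.FormallySmooth.liftOfSurjective (AlgHom.id (ZMod p) S) q hq hnil
  have hs : ∀ x, q (s x) = x := fun x =>
    Algebra.FormallySmooth.liftOfSurjective_apply (AlgHom.id (ZMod p) S) q hq hnil x
  refine ⟨(s.restrictScalars ℤ : S →ₐ[ℤ] _), ?_⟩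
  ext x
  exact hs x

theorem kerCotangentToTensor_injective_of_charP (hf : Function.Surjective (algebraMap P S)) :
    Function.Injective (kerCotangentToTensor ℤ P S) := by
  obtain ⟨g, hg⟩ := exists_section p hf
  exact kerCotangentToTensor_injective hf g hg

end CharP

section Local

attribute [local instance 100000] Ring.toIntAlgebra

variable (p : ℕ) [Fact p.Prime] (R : Type u) [CommRing R] [IsLocalRing R] [Algebra (ZMod p) R]

include p

theorem ker_algebraMap_residueField :
    RingHom.ker (algebraMap R (ResidueField R)) = maximalIdeal R :=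
  IsLocalRing.ker_residue

/-- the cotangent space of a local ring of characteristic `p` is the kernel of
`k ⊗ Ω_R → Ω_k` -/
theorem nonempty_cotangentSpace_equiv :
    Nonempty (CotangentSpace R ≃ₗ[ResidueField R]
      LinearMap.ker (KaehlerDifferential.mapBaseChange ℤ R (ResidueField R))) := by
  have hsurj : Function.Surjective (algebraMap R (ResidueField R)) :=
    IsLocalRing.residue_surjective
  have hinj := kerCotangentToTensor_injective_of_charP p hsurj
  have hex := KaehlerDifferential.exact_kerCotangentToTensor_mapBaseChange ℤ R (ResidueField R) hsurj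
  have hI : RingHom.ker (algebraMap R (ResidueField R)) = maximalIdeal R :=
    IsLocalRing.ker_residue
  have hle : maximalIdeal R ≤ (RingHom.ker (algebraMap R (ResidueField R))).comap
      (AlgHom.id R R) := by
    intro x hx
    rw [Ideal.mem_comap, hI]
    exact hx
  let e₀ : (maximalIdeal R).Cotangent →ₗ[R]
      (RingHom.ker (algebraMap R (ResidueField R))).Cotangent :=
    Ideal.mapCotangent _ _ (AlgHom.id R R) hle
  let κ : (maximalIdeal R).Cotangent →ₗ[R] ResidueField R ⊗[R] Ω[R⁄ℤ] :=
    (kerCotangentToTensor ℤ R (ResidueField R)).comp e₀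
  have hκ : ∀ y : maximalIdeal R, κ ((maximalIdeal R).toCotangent y) =
      (1 : ResidueField R) ⊗ₜ[R] KaehlerDifferential.D ℤ R (y : R) := by
    intro y
    change kerCotangentToTensor ℤ R (ResidueField R) (e₀ ((maximalIdeal R).toCotangent y)) = _
    rw [Ideal.mapCotangent_toCotangent, kerCotangentToTensor_toCotangent]
    rfl
  have hκinj : Function.Injective κ := by
    rw [injective_iff_map_eq_zero]
    intro x hx
    obtain ⟨y, rfl⟩ := Ideal.toCotangent_surjective _ x
    change kerCotangentToTensor ℤ R (ResidueField R) (e₀ ((maximalIdeal R).toCotangent y)) = 0 at hx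
    rw [Ideal.mapCotangent_toCotangent] at hx
    have h1 := (injective_iff_map_eq_zero _).1 hinj _ hx
    rw [Ideal.toCotangent_eq_zero] at h1 ⊢
    have h2 : (y : R) ∈ RingHom.ker (algebraMap R (ResidueField R)) ^ 2 := h1
    rwa [hI] at h2
  have hκrange : ∀ z : ResidueField R ⊗[R] Ω[R⁄ℤ],
      z ∈ LinearMap.ker (KaehlerDifferential.mapBaseChange ℤ R (ResidueField R)) ↔
        ∃ x, κ x = z := by
    intro z
    rw [LinearMap.mem_ker, hex z]
    constructor
    · rintro ⟨w, rfl⟩
      obtain ⟨y, rfl⟩ := Ideal.toCotangent_surjective _ w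
      have hy : (y : R) ∈ maximalIdeal R := hI ▸ y.2
      refine ⟨(maximalIdeal R).toCotangent ⟨y, hy⟩, ?_⟩
      rw [hκ, kerCotangentToTensor_toCotangent]
    · rintro ⟨x, rfl⟩
      exact ⟨e₀ x, rfl⟩
  let κ' : CotangentSpace R →ₗ[ResidueField R] ResidueField R ⊗[R] Ω[R⁄ℤ] :=
    { toFun := κ
      map_add' := κ.map_add
      map_smul' := by
        intro c x
        obtain ⟨a, rfl⟩ := IsLocalRing.residue_surjective c
        have h1 : (residue R a) • x = a • x := by
          rw [← ResidueField.algebraMap_eq, algebraMap_smul]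
        have h2 : (residue R a) • κ x = a • κ x := by
          rw [← ResidueField.algebraMap_eq, algebraMap_smul]
        simp only [RingHom.id_apply]
        rw [h1, h2, κ.map_smul] }
  have hκ'inj : Function.Injective κ' := hκinj
  have hrange : LinearMap.range κ' =
      LinearMap.ker (KaehlerDifferential.mapBaseChange ℤ R (ResidueField R)) := by
    ext z
    rw [LinearMap.mem_range, hκrange z]
    rfl
  exact ⟨(LinearEquiv.ofInjective κ' hκ'inj).trans (LinearEquiv.ofEq _ _ hrange)⟩

end Local

end Groth.Agent.Lib.Helper5.CotTensor
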