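import Mathlib

/-!
# `K ⊗[A] Â` is a field when `K` is a field killed by the maximal ideal of the local ring `A`
-/

universe u

open IsLocalRing TensorProduct

namespace Groth.Agent.Lib.Helper5.CplFibre

variable (A : Type u) [CommRing A] [IsLocalRing A] [IsNoetherianRing A]
variable (K : Type u) [Field K] [Algebra A K]

local notation "Â" => AdicCompletion (maximalIdeal A) A

theorem exists_sub_mem (b : Â) :
    ∃ a : A, b - algebraMap A Â a ∈ (maximalIdeal A).map (algebraMap A Â) := by
  obtain ⟨a, ha⟩ := Ideal.Quotient.mk_surjective (AdicCompletion.evalOneₐ (maximalIdeal A) b)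
  refine ⟨a, ?_⟩
  rw [← AdicCompletion.ker_evalOneₐ_eq_map (maximalIdeal A) (maximalIdeal A).fg_of_isNoetherianRing]
  rw [RingHom.mem_ker, map_sub]
  have := AdicCompletion.evalOneₐ_comp_algebraMap_eq_mk (maximalIdeal A)
  have h2 := congrArg (fun g => g a) this
  simp only [RingHom.coe_comp, Function.comp_apply] at h2
  rw [h2, ha]
  exact sub_self _

theorem tmul_eq_zero_of_mem (hm : ∀ a ∈ maximalIdeal A, algebraMap A K a = 0) (k : K) (n : Â)
    (hn : n ∈ (maximalIdeal A).map (algebraMap A Â)) : k ⊗ₜ[A] n = 0 := by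
  have hn' : n ∈ (maximalIdeal A • ⊤ : Submodule A Â) := by
    rw [Ideal.smul_top_eq_map]
    exact hn
  refine Submodule.smul_induction_on hn' ?_ ?_
  · intro r hr b _
    rw [TensorProduct.tmul_smul, TensorProduct.smul_tmul', Algebra.smul_def, hm r hr, zero_mul,
      TensorProduct.zero_tmul]
  · intro x y hx hy
    rw [TensorProduct.tmul_add, hx, hy, add_zero]

theorem includeLeft_surjective (hm : ∀ a ∈ maximalIdeal A, algebraMap A K a = 0) :
    Function.Surjective (Algebra.TensorProduct.includeLeft : K →ₐ[A] K ⊗[A] Â) := by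
  intro t
  induction t using TensorProduct.induction_on with
  | zero => exact ⟨0, map_zero _⟩
  | tmul k b =>
    obtain ⟨a, ha⟩ := exists_sub_mem A b
    refine ⟨a • k, ?_⟩
    have h0 := tmul_eq_zero_of_mem A K hm k _ ha
    rw [TensorProduct.tmul_sub, sub_eq_zero] at h0
    rw [h0, Algebra.TensorProduct.includeLeft_apply, Algebra.algebraMap_eq_smul_one,
      TensorProduct.tmul_smul, TensorProduct.smul_tmul']
  | add x y hx hy =>
    obtain ⟨a, rfl⟩ := hx
    obtain ⟨b, rfl⟩ := hy
    exact ⟨a + b, map_add _ _ _⟩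

theorem isField_tensor (hm : ∀ a ∈ maximalIdeal A, algebraMap A K a = 0) :
    IsField (K ⊗[A] Â) := by
  have hff : Module.FaithfullyFlat A Â := Module.FaithfullyFlat.of_flat_of_isLocalHom
  have hnt : Nontrivial (K ⊗[A] Â) := Module.FaithfullyFlat.rTensor_nontrivial A Â K
  have hinj : Function.Injective (Algebra.TensorProduct.includeLeft : K →ₐ[A] K ⊗[A] Â) :=
    (Algebra.TensorProduct.includeLeft : K →ₐ[A] K ⊗[A] Â).toRingHom.injective
  let e : K ≃+* K ⊗[A] Â := RingEquiv.ofBijective
    (Algebra.TensorProduct.includeLeft : K →ₐ[A] K ⊗[A] Â).toRingHom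
    ⟨hinj, includeLeft_surjective A K hm⟩
  exact e.symm.toMulEquiv.isField (Field.toIsField K)

end Groth.Agent.Lib.Helper5.CplFibre
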