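import Mathlib
import Groth.Agent.Lib.Helper5.CplFibreA
import Groth.Agent.Lib.Helper7.FibreStalkIso

/-!
# Base change to the completion: the maximal ideal extends at points of the closed fibre
-/

universe u

open CategoryTheory CategoryTheory.Limits AlgebraicGeometry IsLocalRing TensorProduct

namespace Groth.Agent.Lib.Helper5.CplFibre

/-- stalks of a scheme isomorphic to the spectrum of a field are fields -/
theorem isField_stalk_of_iso_spec {Z : Scheme.{u}} {F : Type u} [CommRing F] (hF : IsField F)
    (e : Z ≅ Spec (CommRingCat.of F)) (z : Z) : IsField (Z.presheaf.stalk z) := by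
  let _ : Field F := hF.toField
  let p : PrimeSpectrum F := e.hom z
  have e1 : (Spec (CommRingCat.of F)).presheaf.stalk (e.hom z) ≃+* Z.presheaf.stalk z :=
    (asIso (e.hom.stalkMap z)).commRingCatIsoToRingEquiv
  have e2 : (Spec (CommRingCat.of F)).presheaf.stalk (e.hom z) ≃+*
      Localization.AtPrime p.asIdeal :=
    (AlgebraicGeometry.Spec.stalkIso (CommRingCat.of F) p).commRingCatIsoToRingEquiv
  have h3 : IsField (Localization.AtPrime p.asIdeal) := by
    have hp : p.asIdeal = ⊥ := Ideal.eq_bot_of_prime p.asIdeal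
    rw [IsLocalRing.isField_iff_maximalIdeal_eq,
      ← IsLocalization.AtPrime.map_eq_maximalIdeal p.asIdeal (Localization.AtPrime p.asIdeal)]
    exact (Ideal.map_eq_bot_iff_le_ker _).mpr ((le_of_eq hp).trans bot_le)
  exact (e2.symm.trans e1).symm.toMulEquiv.isField h3

section General

variable {X S S' : Scheme.{u}} (f : X ⟶ S) (g : S' ⟶ S)

/-- the fibre of a base change `X ×_S S' ⟶ X` over `x` is `Spec κ(x) ×_S S'` -/
noncomputable def fibreBCIso (x : X) :
    (pullback.fst f g).fiber x ≅ pullback (X.fromSpecResidueField x ≫ f) g :=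
  pullbackSymmetry _ _ ≪≫ pullbackRightPullbackFstIso f g (X.fromSpecResidueField x)

end General

section Affine

variable {A : Type u} [CommRing A] {X : Scheme.{u}} (f : X ⟶ Spec (CommRingCat.of A))

/-- the ring map `A → κ(x)` -/
noncomputable def psi (x : X) : CommRingCat.of A ⟶ X.residueField x :=
  Spec.preimage (X.fromSpecResidueField x ≫ f)

theorem spec_psi (x : X) : Spec.map (psi f x) = X.fromSpecResidueField x ≫ f :=
  Spec.map_preimage _

theorem psi_eq_zero [IsLocalRing A] (x : X) (hx : f x = closedPoint A) (a : A)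
    (ha : a ∈ maximalIdeal A) : (psi f x).hom a = 0 := by
  let pt : Spec (X.residueField x) := (⊥ : PrimeSpectrum (X.residueField x))
  have h1 : (Spec.map (psi f x)) pt = closedPoint A := by
    rw [spec_psi, Scheme.Hom.comp_apply, Scheme.fromSpecResidueField_apply, hx]
  have h2 : a ∈ ((Spec.map (psi f x)) pt).asIdeal := by
    rw [h1]
    exact ha
  have h3 : (psi f x).hom a ∈ (⊥ : Ideal (X.residueField x)) := h2
  simpa using h3

variable (A' : Type u) [CommRing A'] [Algebra A A']

/-- the fibre of `X ×_A A' ⟶ X` over `x` is `Spec (κ(x) ⊗[A] A')` -/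
noncomputable def fibreSpecIso (x : X) :
    letI := (psi f x).hom.toAlgebra
    (pullback.fst f (Spec.map (CommRingCat.ofHom (algebraMap A A')))).fiber x ≅
      Spec (CommRingCat.of (X.residueField x ⊗[A] A')) :=
  letI := (psi f x).hom.toAlgebra
  fibreBCIso f _ x ≪≫ pullback.congrHom (spec_psi f x).symm rfl ≪≫
    pullbackSpecIso A (X.residueField x) A'

end Affine

end Groth.Agent.Lib.Helper5.CplFibre
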