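import Mathlib
import Groth.Agent.Lib.Helper5.CplFibreB
import Groth.Agent.Lib.Helper5.RegCompletion
import Groth.Agent.Lib.Helper5.SerreFlat
import Groth.Agent.Lib.helper19.CompletionNoetherian

/-!
# Base change to the completion: regularity at points of the closed fibre
-/

universe u

open CategoryTheory CategoryTheory.Limits AlgebraicGeometry IsLocalRing TensorProduct

namespace Groth.Agent.Lib.Helper5.CplFibre

variable (A : Type u) [CommRing A] [IsLocalRing A] [IsNoetherianRing A]
variable {X : Scheme.{u}} (f : X ⟶ Spec (CommRingCat.of A))

local notation "Â" => AdicCompletion (maximalIdeal A) A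
local notation "cA" => Spec.map (CommRingCat.ofHom (algebraMap A Â))

theorem apply_fst_eq_closedPoint (y : ↥(pullback f cA))
    (hy : (pullback.snd f cA) y = closedPoint Â) : f ((pullback.fst f cA) y) = closedPoint A := by
  have h1 : f ((pullback.fst f cA) y) = cA ((pullback.snd f cA) y) := by
    have := congrArg (fun h => h y) (pullback.condition (f := f) (g := cA))
    simpa using this
  rw [h1, hy]
  exact IsLocalRing.comap_closedPoint (algebraMap A Â)

/-- the maximal ideal extends along `O_{X,x} ⟶ O_{Y,y}` for `y` in the closed fibre -/
theorem map_maximalIdeal_eq (y : ↥(pullback f cA))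
    (hy : (pullback.snd f cA) y = closedPoint Â) :
    (maximalIdeal (X.presheaf.stalk ((pullback.fst f cA) y))).map
      ((pullback.fst f cA).stalkMap y).hom = maximalIdeal ((pullback f cA).presheaf.stalk y) := by
  have hx := apply_fst_eq_closedPoint A f y hy
  set x := (pullback.fst f cA) y with hxdef
  let _ := (psi f x).hom.toAlgebra
  have hF : IsField (X.residueField x ⊗[A] Â) :=
    isField_tensor A (X.residueField x) (fun a ha => psi_eq_zero f x hx a ha)
  obtain ⟨e⟩ := Groth.Agent.Lib.Helper7.FibreStalkIso.nonempty_ringEquiv (pullback.fst f cA) y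
  have hfield := isField_stalk_of_iso_spec hF (fibreSpecIso f Â x)
    ((pullback.fst f cA).asFiber y)
  have hq := e.toMulEquiv.isField hfield
  have hmax := Ideal.Quotient.maximal_of_isField _ hq
  exact IsLocalRing.eq_maximalIdeal hmax

/-- regularity at a point of the closed fibre of the base change to the completion -/
theorem isRegularLocalRing_iff [LocallyOfFiniteType f] (y : ↥(pullback f cA))
    (hy : (pullback.snd f cA) y = closedPoint Â) :
    IsRegularLocalRing ((pullback f cA).presheaf.stalk y) ↔
      IsRegularLocalRing (X.presheaf.stalk ((pullback.fst f cA) y)) := by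
  have hmap := map_maximalIdeal_eq A f y hy
  have hNA : IsNoetherianRing Â := Groth.Agent.Lib.helper19.isNoetherianRing_adicCompletion A _
  have hX : IsLocallyNoetherian X := LocallyOfFiniteType.isLocallyNoetherian f
  have hY : IsLocallyNoetherian (pullback f cA) :=
    LocallyOfFiniteType.isLocallyNoetherian (pullback.snd f cA)
  have hflatc : Flat cA := by
    rw [Flat.SpecMap_iff]
    change (algebraMap A Â).Flat
    rw [RingHom.flat_algebraMap_iff]
    infer_instance
  have hflat : ((pullback.fst f cA).stalkMap y).hom.Flat := Flat.stalkMap (pullback.fst f cA) y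
  let _ := ((pullback.fst f cA).stalkMap y).hom.toAlgebra
  have hfl : Module.Flat (X.presheaf.stalk ((pullback.fst f cA) y))
      ((pullback f cA).presheaf.stalk y) := hflat
  have hloc : IsLocalHom (algebraMap (X.presheaf.stalk ((pullback.fst f cA) y))
      ((pullback f cA).presheaf.stalk y)) :=
    inferInstanceAs (IsLocalHom ((pullback.fst f cA).stalkMap y).hom)
  constructor
  · intro h
    exact Groth.Agent.Lib.Helper5.SerreLoc.regular_of_flat _ ((pullback f cA).presheaf.stalk y)
  · intro h
    exact Groth.Agent.Lib.Helper5.RegCompletion.regular_of_flat_map_eq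
      (A := X.presheaf.stalk ((pullback.fst f cA) y)) hmap

end Groth.Agent.Lib.Helper5.CplFibre
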