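import Mathlib
import Groth.Agent.Lib.Helper5.CplFibreC
import Groth.Agent.Lib.Helper5.SerreLoc
import Groth.Agent.Lib.Helper13.StalkSpecLoc

/-!
# Base change of a proper scheme to the completion: regularity
-/

universe u

open CategoryTheory CategoryTheory.Limits AlgebraicGeometry IsLocalRing TensorProduct

namespace Groth.Agent.Lib.Helper5.CplFibre

/-- regularity passes to generizations -/
theorem isRegularLocalRing_of_specializes {Y : Scheme.{u}} {ζ x : Y} (h : ζ ⤳ x)
    [IsRegularLocalRing (Y.presheaf.stalk x)] : IsRegularLocalRing (Y.presheaf.stalk ζ) := by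
  let _ := (Y.presheaf.stalkSpecializes h).hom.toAlgebra
  have := Groth.Agent.Lib.Helper13.StalkSpecLoc.isLocalization_stalkSpecializes h
  have hreg := Groth.Agent.Lib.Helper5.SerreLoc.localization_regular (Y.presheaf.stalk x)
    (Groth.Agent.Lib.Helper13.StalkSpecLoc.primeOf h)
  exact IsRegularLocalRing.of_ringEquiv
    (IsLocalization.algEquiv (Groth.Agent.Lib.Helper13.StalkSpecLoc.primeOf h).primeCompl
      (Localization.AtPrime (Groth.Agent.Lib.Helper13.StalkSpecLoc.primeOf h))
      (Y.presheaf.stalk ζ)).toRingEquiv

variable (A : Type u) [CommRing A] [IsLocalRing A] [IsNoetherianRing A]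
variable {X : Scheme.{u}} (f : X ⟶ Spec (CommRingCat.of A))

local notation "Â" => AdicCompletion (maximalIdeal A) A
local notation "cA" => Spec.map (CommRingCat.ofHom (algebraMap A Â))

theorem flat_cA : Flat cA := by
  rw [Flat.SpecMap_iff]
  change (algebraMap A Â).Flat
  rw [RingHom.flat_algebraMap_iff]
  infer_instance

theorem surjective_cA : Surjective cA := by
  have hff : Module.FaithfullyFlat A Â := Module.FaithfullyFlat.of_flat_of_isLocalHom
  exact ⟨PrimeSpectrum.comap_surjective_of_faithfullyFlat⟩

theorem regular_of_regular_bc [LocallyOfFiniteType f]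
    (h : ∀ y : ↥(pullback f cA), IsRegularLocalRing ((pullback f cA).presheaf.stalk y)) (x : X) :
    IsRegularLocalRing (X.presheaf.stalk x) := by
  have hX : IsLocallyNoetherian X := LocallyOfFiniteType.isLocallyNoetherian f
  have := flat_cA A
  have := surjective_cA A
  obtain ⟨y, rfl⟩ := (pullback.fst f cA).surjective x
  have hflat : ((pullback.fst f cA).stalkMap y).hom.Flat := Flat.stalkMap (pullback.fst f cA) y
  let _ := ((pullback.fst f cA).stalkMap y).hom.toAlgebra
  have hfl : Module.Flat (X.presheaf.stalk ((pullback.fst f cA) y))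
      ((pullback f cA).presheaf.stalk y) := hflat
  have hloc : IsLocalHom (algebraMap (X.presheaf.stalk ((pullback.fst f cA) y))
      ((pullback f cA).presheaf.stalk y)) :=
    inferInstanceAs (IsLocalHom ((pullback.fst f cA).stalkMap y).hom)
  have := h y
  exact Groth.Agent.Lib.Helper5.SerreLoc.regular_of_flat _ ((pullback f cA).presheaf.stalk y)

theorem regular_bc_of_regular [IsProper f] (h : ∀ x : X, IsRegularLocalRing (X.presheaf.stalk x))
    (y : ↥(pullback f cA)) : IsRegularLocalRing ((pullback f cA).presheaf.stalk y) := by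
  have hc : CompactSpace ↥(pullback f cA) :=
    QuasiCompact.compactSpace_of_compactSpace (pullback.snd f cA)
  obtain ⟨y0, hy0, hcl⟩ := IsClosed.exists_closed_singleton (isClosed_closure (s := {y}))
    ⟨y, subset_closure rfl⟩
  have hsp : y ⤳ y0 := specializes_iff_mem_closure.mpr hy0
  have hcl2 : IsClosed ({(pullback.snd f cA) y0} : Set (Spec (CommRingCat.of Â))) := by
    have := (pullback.snd f cA).isClosedMap _ hcl
    rwa [Set.image_singleton] at this
  have hy0' : (pullback.snd f cA) y0 = closedPoint Â := by
    have hmax := (PrimeSpectrum.isClosed_singleton_iff_isMaximal _).mp hcl2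
    exact PrimeSpectrum.ext (IsLocalRing.eq_maximalIdeal hmax)
  have hreg0 : IsRegularLocalRing ((pullback f cA).presheaf.stalk y0) :=
    (isRegularLocalRing_iff A f y0 hy0').mpr (h _)
  exact isRegularLocalRing_of_specializes hsp

end Groth.Agent.Lib.Helper5.CplFibre
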