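import Mathlib
import Groth.Agent.Lib.Helper25.StdSmoothDim
import Groth.Agent.Lib.Helper5.RegSmoothScheme2
import Groth.Agent.Lib.helper19.RegularLocal
import Groth.Agent.Lib.Helper24.CodimPre.Main

set_option autoImplicit false
universe u

namespace Groth.Agent.Lib.Helper5.CurveDiv

open AlgebraicGeometry CategoryTheory Limits IsLocalRing

/-- local rings of a smooth curve over a field have dimension at most one. -/
theorem ringKrullDim_stalk_le_one (K : Type u) [Field K] (Z : Scheme.{u})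
    (g : Z ⟶ Spec (CommRingCat.of K)) [SmoothOfRelativeDimension 1 g] (ξ : Z) :
    ringKrullDim (Z.presheaf.stalk ξ) ≤ 1 := by
  obtain ⟨U, hU, V, hV, hξV, e, hφ⟩ :=
    SmoothOfRelativeDimension.exists_isStandardSmoothOfRelativeDimension (n := 1) (f := g) ξ
  have : Subsingleton ↥(Spec (CommRingCat.of K)) :=
    inferInstanceAs (Subsingleton (PrimeSpectrum K))
  have hU' : U = ⊤ := by
    ext p
    simp only [TopologicalSpace.Opens.coe_top, Set.mem_univ, iff_true]
    have : p = g ξ := Subsingleton.elim _ _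
    rw [this]
    exact e hξV
  subst hU'
  let eK : K ≃+* Γ(Spec (CommRingCat.of K), ⊤) :=
    (Scheme.ΓSpecIso (CommRingCat.of K)).symm.commRingCatIsoToRingEquiv
  let ψ : K →+* Γ(Z, V) := (g.appLE ⊤ V e).hom.comp eK.toRingHom
  have hψ : ψ.IsStandardSmoothOfRelativeDimension 1 :=
    (RingHom.isStandardSmoothOfRelativeDimension_respectsIso (n := 1)).2 _ eK hφ
  let : Algebra K Γ(Z, V) := ψ.toAlgebra
  have : Algebra.IsStandardSmoothOfRelativeDimension 1 K Γ(Z, V) := hψ
  have : Nonempty V := ⟨⟨ξ, hξV⟩⟩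
  have : Nontrivial Γ(Z, V) := by
    have : Nonempty (V : Z.Opens).toScheme := ⟨⟨ξ, hξV⟩⟩
    exact (Scheme.component_nontrivial Z V)
  have hdim := Groth.Agent.Lib.Helper25.StdSmoothDim.ringKrullDim_eq_of_isStandardSmoothOfRelativeDimension
    K 1 Γ(Z, V)
  let := Z.presheaf.algebra_section_stalk ⟨ξ, hξV⟩
  have := hV.isLocalization_stalk ⟨ξ, hξV⟩
  rw [IsLocalization.AtPrime.ringKrullDim_eq_height (hV.primeIdealOf ⟨ξ, hξV⟩).asIdeal]
  refine Ideal.height_le_ringKrullDim_of_isPrime.trans ?_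
  rw [hdim]
  rfl

/-- stalks of a locally Artinian scheme have dimension at most zero. -/
theorem ringKrullDim_stalk_le_zero_of_isLocallyArtinian (P : Scheme.{u}) [IsLocallyArtinian P]
    (b : P) : ringKrullDim (P.presheaf.stalk b) ≤ 0 := by
  obtain ⟨W, hW, hbW, -⟩ := exists_isAffineOpen_mem_and_subset (X := P) (x := b) (U := ⊤) trivial
  have : IsArtinianRing Γ(P, W) := IsLocallyArtinian.isArtinianRing_presheaf_obj ⟨W, hW⟩
  let := P.presheaf.algebra_section_stalk ⟨b, hbW⟩
  have := hW.isLocalization_stalk ⟨b, hbW⟩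
  have : IsArtinianRing (P.presheaf.stalk b) :=
    IsArtinianRing.localization_artinian (hW.primeIdealOf ⟨b, hbW⟩).asIdeal.primeCompl
      (P.presheaf.stalk b)
  exact Ring.krullDimLE_iff.mp inferInstance

/-- a locally Noetherian scheme all of whose local rings have dimension at most zero is locally
Artinian. -/
theorem isLocallyArtinian_of_stalk (P : Scheme.{u}) [IsLocallyNoetherian P]
    (h : ∀ b : P, ringKrullDim (P.presheaf.stalk b) ≤ 0) : IsLocallyArtinian P where
  isArtinianRing_presheaf_obj := by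
    rintro ⟨W, hW⟩
    have : IsNoetherianRing Γ(P, W) := IsLocallyNoetherian.component_noetherian ⟨W, hW⟩
    rw [isArtinianRing_iff_krullDimLE_zero, Ring.krullDimLE_iff, Nat.cast_zero,
      ringKrullDim_le_iff_height_le]
    intro q hq
    obtain ⟨b, hb⟩ : ∃ b : W, hW.primeIdealOf b = ⟨q, hq⟩ :=
      ⟨hW.isoSpec.inv ⟨q, hq⟩, by simp [IsAffineOpen.primeIdealOf]⟩
    have h1 := Groth.Agent.Lib.Helper24.CodimPre.stalk_dim_eq_height hW b.1 b.2
    rw [show (⟨b.1, b.2⟩ : W) = b from rfl, hb] at h1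
    rw [← h1]
    exact h b.1

end Groth.Agent.Lib.Helper5.CurveDiv
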