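import Mathlib
import Groth.Agent.Lib.Helper21.FlatLocal3

/-!
# Helper5 — FibRegA

List version of the local criterion: a sequence weakly regular on the closed fibre `N/𝔪N` of a
finite `S`-module `N` flat over `R` (local homomorphism of Noetherian local rings) is weakly regular
on `N`, with `R`-flat quotient.
-/

set_option autoImplicit false
universe u

namespace Groth.Agent.Lib.Helper5.FibReg

open RingTheory.Sequence IsLocalRing Groth.Agent.Lib.Helper21.FlatLocal Pointwise

variable {R S : Type u} [CommRing R] [CommRing S] [IsLocalRing R] [IsLocalRing S]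
  [IsNoetherianRing R] [IsNoetherianRing S] [Algebra R S] [IsLocalHom (algebraMap R S)]

theorem isWeaklyRegular_and_flat_of_fibre (ys : List S) :
    ∀ (N : Type u) [AddCommGroup N] [Module S N] [Module R N] [IsScalarTower R S N]
      [Module.Finite S N] [Module.Flat R N],
      IsWeaklyRegular (N ⧸ ((maximalIdeal R).map (algebraMap R S) • (⊤ : Submodule S N))) ys →
      IsWeaklyRegular N ys ∧
        Module.Flat R (N ⧸ (Ideal.ofList ys • ⊤ : Submodule S N)) := by
  induction ys with
  | nil =>
    intro N _ _ _ _ _ _ _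
    refine ⟨IsWeaklyRegular.nil S N, ?_⟩
    have e : (N ⧸ (Ideal.ofList ([] : List S) • ⊤ : Submodule S N)) ≃ₗ[S] N :=
      Submodule.quotEquivOfEqBot _ (by rw [Ideal.ofList_nil, Submodule.bot_smul])
    exact Module.Flat.of_linearEquiv (e.restrictScalars R)
  | cons y ys ih =>
    intro N _ _ _ _ _ _ h
    rw [isWeaklyRegular_cons_iff] at h
    obtain ⟨hy, hys⟩ := h
    have hreg := isSMulRegular_of_fibre (R := R) y hy
    have hfl := flat_quotSMulTop_of_fibre (R := R) y hy
    have hys' : IsWeaklyRegular ((QuotSMulTop y N) ⧸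
        ((maximalIdeal R).map (algebraMap R S) • (⊤ : Submodule S (QuotSMulTop y N)))) ys :=
      ((quotSMulTopQuotEquiv' (N := N) y _).isWeaklyRegular_congr ys).1 hys
    obtain ⟨h1, h2⟩ := ih (QuotSMulTop y N) hys'
    refine ⟨(isWeaklyRegular_cons_iff N y ys).2 ⟨hreg, h1⟩, ?_⟩
    exact Module.Flat.of_linearEquiv
      ((Submodule.quotOfListConsSMulTopEquivQuotSMulTopInner N y ys).restrictScalars R)

end Groth.Agent.Lib.Helper5.FibReg
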