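import Groth.Agent.Lib.Helper5.IndPresC
import Groth.Agent.Lib.helper11.CIQuot

/-!
# A quotient of a regular local ring is a complete intersection iff the ideal is generated by a
regular sequence
-/

set_option autoImplicit false
universe u

namespace Groth.Agent.Lib.Helper5.IndPres

open IsLocalRing RingTheory.Sequence

/-- the completion of a Noetherian local ring is a complete intersection iff the ring is -/
theorem isCompleteIntersection_completion_iff (S : Type u) [CommRing S] [IsLocalRing S]
    [IsNoetherianRing S] :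
    Pi1.IsCompleteIntersection (AdicCompletion (maximalIdeal S) S) ↔
      Pi1.IsCompleteIntersection S := by
  let e0 : AdicCompletion (maximalIdeal S) S ≃+*
      AdicCompletion (maximalIdeal (AdicCompletion (maximalIdeal S) S))
        (AdicCompletion (maximalIdeal S) S) :=
    (AdicCompletion.ofAlgEquiv (maximalIdeal (AdicCompletion (maximalIdeal S) S))).toRingEquiv
  constructor
  · rintro ⟨B, i1, i2, rs, hmem, hreg, ⟨e⟩⟩
    exact ⟨B, i1, i2, rs, hmem, hreg, ⟨e0.trans e⟩⟩
  · rintro ⟨B, i1, i2, rs, hmem, hreg, ⟨e⟩⟩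
    exact ⟨B, i1, i2, rs, hmem, hreg, ⟨e0.symm.trans e⟩⟩

/-- S2166, forward direction -/
theorem regular_of_isCompleteIntersection_quotient {R : Type u} [CommRing R]
    [IsRegularLocalRing R] (I : Ideal R) (hI : I ≠ ⊤) [IsLocalRing (R ⧸ I)]
    (h : Pi1.IsCompleteIntersection (R ⧸ I)) :
    ∃ rs : List R, Ideal.ofList rs = I ∧ IsRegular R rs := by
  have hN : IsNoetherianRing (AdicCompletion (maximalIdeal R) R) :=
    Groth.Agent.Lib.helper19.isNoetherianRing_adicCompletion R _
  have hNS : IsNoetherianRing (AdicCompletion (maximalIdeal (R ⧸ I)) (R ⧸ I)) :=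
    Groth.Agent.Lib.helper19.isNoetherianRing_adicCompletion _ _
  have hreg := isRegularLocalRing_completion R
  obtain ⟨hm1, hi1, hs1⟩ := Groth.Agent.Lib.Helper12.HensFC.level_hat R
  obtain ⟨_, ⟨e1⟩⟩ := Groth.Agent.Lib.Helper12.HensFC.nonempty_complEquiv_quotient R
    (AdicCompletion (maximalIdeal R) R) (algebraMap R (AdicCompletion (maximalIdeal R) R))
    hm1 hi1 hs1 I
  obtain ⟨J, hJ⟩ : ∃ J, J = I.map (algebraMap R (AdicCompletion (maximalIdeal R) R)) :=
    ⟨_, rfl⟩
  rw [← hJ] at e1
  let g : AdicCompletion (maximalIdeal R) R →+*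
      AdicCompletion (maximalIdeal (R ⧸ I)) (R ⧸ I) :=
    e1.symm.toRingHom.comp (Ideal.Quotient.mk J)
  have hg : Function.Surjective g := e1.symm.surjective.comp Ideal.Quotient.mk_surjective
  have hker : RingHom.ker g = J := by
    ext x
    rw [RingHom.mem_ker]
    change e1.symm (Ideal.Quotient.mk _ x) = 0 ↔ _
    rw [map_eq_zero_iff _ e1.symm.injective, Ideal.Quotient.eq_zero_iff_mem]
  have hCI := (isCompleteIntersection_completion_iff (R ⧸ I)).mpr h
  obtain ⟨ys, hysk, hys⟩ := ker_regular_of_isCompleteIntersection g hg hCI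
  obtain ⟨rs, hrs, hrsI⟩ := (regular_iff_completion I (le_maximalIdeal hI)).mpr
    ⟨ys, hys, by rw [hysk, hker, hJ]⟩
  exact ⟨rs, hrsI, hrs⟩

/-- S2166 -/
theorem isCompleteIntersection_quotient_iff {R : Type u} [CommRing R] [IsRegularLocalRing R]
    (I : Ideal R) (hI : I ≠ ⊤) [IsLocalRing (R ⧸ I)] :
    Pi1.IsCompleteIntersection (R ⧸ I) ↔
      ∃ rs : List R, Ideal.ofList rs = I ∧ IsRegular R rs := by
  constructor
  · exact regular_of_isCompleteIntersection_quotient I hI
  · rintro ⟨rs, hrs, hreg⟩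
    refine Groth.Agent.Lib.helper11.CIQuot.isCompleteIntersection_quotient R rs ?_ hreg.1 I
      hrs.symm
    intro f hf
    apply le_maximalIdeal hI
    rw [← hrs]
    exact Ideal.subset_span hf

end Groth.Agent.Lib.Helper5.IndPres
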