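import Mathlib

/-!
# Helper5 — FibRegB

For a surjective ring map `f : R → R'` and a prime `Q ⊇ ker f`, the quotient of the localization
`R_Q` by the extension of `ker f` is the localization of `R'` at `f(Q)`.
-/

set_option autoImplicit false

namespace Groth.Agent.Lib.Helper5.FibReg

variable {R R' : Type*} [CommRing R] [CommRing R'] (f : R →+* R') (hf : Function.Surjective f)

include hf in
theorem comap_map_of_ker_le (Q : Ideal R) (hQ : RingHom.ker f ≤ Q) : (Q.map f).comap f = Q := by
  rw [Ideal.comap_map_of_surjective f hf, ← RingHom.ker_eq_comap_bot]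
  exact sup_eq_left.2 hQ

include hf in
theorem primeCompl_map (Q : Ideal R) [Q.IsPrime] (hQ : RingHom.ker f ≤ Q) [(Q.map f).IsPrime] :
    Q.primeCompl.map f = (Q.map f).primeCompl := by
  ext x
  constructor
  · rintro ⟨a, ha, rfl⟩
    intro hmem
    have : a ∈ (Q.map f).comap f := hmem
    rw [comap_map_of_ker_le f hf Q hQ] at this
    exact ha this
  · intro hx
    obtain ⟨a, rfl⟩ := hf x
    exact ⟨a, fun ha => hx (Ideal.mem_map_of_mem f ha), rfl⟩

variable (S : Type*) [CommRing S] [Algebra R S]

/-- the induced map `R' → S/(ker f)S`. -/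
noncomputable def quotHom : R' →+* S ⧸ (RingHom.ker f).map (algebraMap R S) :=
  RingHom.liftOfSurjective f hf ⟨(Ideal.Quotient.mk _).comp (algebraMap R S), by
    intro x hx
    rw [RingHom.mem_ker, RingHom.comp_apply, Ideal.Quotient.eq_zero_iff_mem]
    exact Ideal.mem_map_of_mem _ hx⟩

theorem quotHom_comp :
    (quotHom f hf S).comp f = (Ideal.Quotient.mk _).comp (algebraMap R S) :=
  RingHom.liftOfRightInverse_comp _ _ _ _

theorem quotHom_apply (x : R) :
    quotHom f hf S (f x) = Ideal.Quotient.mk _ (algebraMap R S x) :=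
  RingHom.congr_fun (quotHom_comp f hf S) x

theorem isLocalization_quot (Q : Ideal R) [Q.IsPrime] (hQ : RingHom.ker f ≤ Q)
    [IsLocalization.AtPrime S Q] [(Q.map f).IsPrime] :
    letI := (quotHom f hf S).toAlgebra
    IsLocalization.AtPrime (S ⧸ (RingHom.ker f).map (algebraMap R S)) (Q.map f) := by
  let _ := (quotHom f hf S).toAlgebra
  unfold IsLocalization.AtPrime
  rw [← primeCompl_map f hf Q hQ]
  refine IsLocalization.of_surjective Q.primeCompl S f hf (Ideal.Quotient.mk _)
    Ideal.Quotient.mk_surjective ?_ ?_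
  · rw [RingHom.algebraMap_toAlgebra, quotHom_comp]
  · rw [Ideal.mk_ker]

end Groth.Agent.Lib.Helper5.FibReg
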