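import Mathlib
import Groth.Agent.Lib.Helper5.GCIReg
import Groth.Agent.Lib.Helper5.FibRegA
import Groth.Agent.Lib.Helper5.FibRegB
import Groth.Agent.Lib.Helper12.CohenAlgA

/-!
# Helper5 — FibRegC

Core local statement: over a Noetherian local ring `A`, a prime `Q` of `A[X_1..X_N]` over the
maximal ideal, an ideal `I ≤ Q` with `(A[X]/I)_Q` flat over `A`, and `fs ⊆ I` whose reductions generate
the reduction of `I` with `dim κ[X]/Ī ≤ N - |fs|`: then `fs` is a regular sequence in `A[X]_Q`
generating `I_Q`.
-/

set_option autoImplicit false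
universe u

namespace Groth.Agent.Lib.Helper5.FibReg

open RingTheory.Sequence IsLocalRing

variable {A : Type u} [CommRing A] [IsLocalRing A] [IsNoetherianRing A] (N : ℕ)

/-- reduction of coefficients modulo the maximal ideal -/
noncomputable def rho : MvPolynomial (Fin N) A →+* MvPolynomial (Fin N) (ResidueField A) :=
  MvPolynomial.map (residue A)

theorem rho_surjective : Function.Surjective (rho (A := A) N) :=
  MvPolynomial.map_surjective _ residue_surjective

theorem ker_rho : RingHom.ker (rho (A := A) N) = (maximalIdeal A).map MvPolynomial.C := by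
  rw [rho, MvPolynomial.ker_map, ker_residue]

variable {N}

theorem map_ker_rho (S : Type u) [CommRing S] [Algebra (MvPolynomial (Fin N) A) S] [Algebra A S]
    [IsScalarTower A (MvPolynomial (Fin N) A) S] :
    (RingHom.ker (rho (A := A) N)).map (algebraMap (MvPolynomial (Fin N) A) S) =
      (maximalIdeal A).map (algebraMap A S) := by
  rw [ker_rho, Ideal.map_map, IsScalarTower.algebraMap_eq A (MvPolynomial (Fin N) A) S,
    MvPolynomial.algebraMap_eq]

theorem isLocalHom_algebraMap (Q : Ideal (MvPolynomial (Fin N) A)) [Q.IsPrime]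
    (hQ : RingHom.ker (rho (A := A) N) ≤ Q) :
    IsLocalHom (algebraMap A (Localization.AtPrime Q)) := by
  constructor
  intro a ha
  by_contra hna
  have h1 : a ∈ maximalIdeal A := hna
  have h2 : (MvPolynomial.C a : MvPolynomial (Fin N) A) ∈ Q :=
    hQ (by rw [ker_rho]; exact Ideal.mem_map_of_mem _ h1)
  have h3 : algebraMap (MvPolynomial (Fin N) A) (Localization.AtPrime Q) (MvPolynomial.C a) ∈
      maximalIdeal (Localization.AtPrime Q) :=
    (IsLocalization.AtPrime.to_map_mem_maximal_iff (Localization.AtPrime Q) Q _).2 h2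
  apply h3
  rwa [IsScalarTower.algebraMap_apply A (MvPolynomial (Fin N) A) (Localization.AtPrime Q),
    MvPolynomial.algebraMap_eq] at ha

theorem flat_localization (Q : Ideal (MvPolynomial (Fin N) A)) [Q.IsPrime] :
    Module.Flat A (Localization.AtPrime Q) := by
  have : Module.Flat (MvPolynomial (Fin N) A) (Localization.AtPrime Q) :=
    IsLocalization.flat _ Q.primeCompl
  exact Module.Flat.trans A (MvPolynomial (Fin N) A) (Localization.AtPrime Q)


/-- the reductions of `fs` are weakly regular on the closed fibre of `A[X]_Q`. -/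
theorem isWeaklyRegular_fibre (I Q : Ideal (MvPolynomial (Fin N) A)) [Q.IsPrime] (hIQ : I ≤ Q)
    (hQ : RingHom.ker (rho (A := A) N) ≤ Q)
    (fs : List (MvPolynomial (Fin N) A)) (hfs : Ideal.ofList fs ≤ I)
    (hgen : I.map (rho N) ≤ Ideal.ofList (fs.map (rho N)))
    (hlen : fs.length ≤ N)
    (hdim : ringKrullDim (MvPolynomial (Fin N) (ResidueField A) ⧸ I.map (rho N)) ≤
      ((N - fs.length : ℕ) : WithBot ℕ∞)) :
    IsWeaklyRegular (Localization.AtPrime Q ⧸
      ((maximalIdeal A).map (algebraMap A (Localization.AtPrime Q)) •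
        (⊤ : Submodule (Localization.AtPrime Q) (Localization.AtPrime Q))))
      (fs.map (algebraMap (MvPolynomial (Fin N) A) (Localization.AtPrime Q))) := by
  have hprime : (Q.map (rho (A := A) N)).IsPrime :=
    Ideal.map_isPrime_of_surjective (rho_surjective N) hQ
  let _ : Algebra (MvPolynomial (Fin N) (ResidueField A))
      (Localization.AtPrime Q ⧸ (RingHom.ker (rho (A := A) N)).map
        (algebraMap (MvPolynomial (Fin N) A) (Localization.AtPrime Q))) :=
    (quotHom (rho N) (rho_surjective N) (Localization.AtPrime Q)).toAlgebra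
  have hlocS : IsLocalization.AtPrime (Localization.AtPrime Q ⧸ (RingHom.ker (rho (A := A) N)).map
      (algebraMap (MvPolynomial (Fin N) A) (Localization.AtPrime Q))) (Q.map (rho (A := A) N)) :=
    isLocalization_quot (rho N) (rho_surjective N) (Localization.AtPrime Q) Q hQ
  have hIeq : I.map (rho (A := A) N) = Ideal.ofList (fs.map (rho N)) := by
    apply le_antisymm hgen
    rw [← Ideal.map_ofList]
    exact Ideal.map_mono hfs
  have hw := GCIReg.isWeaklyRegular_of_isLocalization (ResidueField A) N (fs.map (rho N))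
    (by rwa [List.length_map]) (by rw [List.length_map, ← hIeq]; exact hdim)
    (Q.map (rho (A := A) N)) (by rw [← hIeq]; exact Ideal.map_mono hIQ)
    (Localization.AtPrime Q ⧸ (RingHom.ker (rho (A := A) N)).map
      (algebraMap (MvPolynomial (Fin N) A) (Localization.AtPrime Q)))
  have hlist : (fs.map (rho (A := A) N)).map (algebraMap (MvPolynomial (Fin N) (ResidueField A))
      (Localization.AtPrime Q ⧸ (RingHom.ker (rho (A := A) N)).map
        (algebraMap (MvPolynomial (Fin N) A) (Localization.AtPrime Q)))) =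
      (fs.map (algebraMap (MvPolynomial (Fin N) A) (Localization.AtPrime Q))).map
        (algebraMap (Localization.AtPrime Q) (Localization.AtPrime Q ⧸
          (RingHom.ker (rho (A := A) N)).map
            (algebraMap (MvPolynomial (Fin N) A) (Localization.AtPrime Q)))) := by
    rw [List.map_map, List.map_map]
    apply List.map_congr_left
    intro x _
    exact quotHom_apply (rho N) (rho_surjective N) (Localization.AtPrime Q) x
  rw [hlist, isWeaklyRegular_map_algebraMap_iff] at hw
  have heq : ((RingHom.ker (rho (A := A) N)).map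
      (algebraMap (MvPolynomial (Fin N) A) (Localization.AtPrime Q)) :
        Submodule (Localization.AtPrime Q) (Localization.AtPrime Q)) =
      ((maximalIdeal A).map (algebraMap A (Localization.AtPrime Q)) •
        (⊤ : Submodule (Localization.AtPrime Q) (Localization.AtPrime Q))) := by
    rw [map_ker_rho, smul_eq_mul, Ideal.mul_top]
  exact ((Submodule.quotEquivOfEq _ _ heq).isWeaklyRegular_congr _).1 hw


theorem le_sup_ker (I : Ideal (MvPolynomial (Fin N) A))
    (fs : List (MvPolynomial (Fin N) A))
    (hgen : I.map (rho N) ≤ Ideal.ofList (fs.map (rho N))) :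
    I ≤ Ideal.ofList fs ⊔ RingHom.ker (rho (A := A) N) := by
  intro a ha
  have h1 : rho N a ∈ (Ideal.ofList fs).map (rho (A := A) N) := by
    rw [Ideal.map_ofList]
    exact hgen (Ideal.mem_map_of_mem _ ha)
  have h2 : a ∈ ((Ideal.ofList fs).map (rho (A := A) N)).comap (rho N) := h1
  rwa [Ideal.comap_map_of_surjective _ (rho_surjective N), ← RingHom.ker_eq_comap_bot] at h2

/-- **Core**: `fs` is weakly regular in `A[X]_Q` and generates `I_Q`. -/
theorem core (I Q : Ideal (MvPolynomial (Fin N) A)) [Q.IsPrime] (hIQ : I ≤ Q)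
    (hQ : RingHom.ker (rho (A := A) N) ≤ Q)
    (fs : List (MvPolynomial (Fin N) A)) (hfs : Ideal.ofList fs ≤ I)
    (hgen : I.map (rho N) ≤ Ideal.ofList (fs.map (rho N)))
    (hlen : fs.length ≤ N)
    (hdim : ringKrullDim (MvPolynomial (Fin N) (ResidueField A) ⧸ I.map (rho N)) ≤
      ((N - fs.length : ℕ) : WithBot ℕ∞))
    (hflat : Module.Flat A (Localization.AtPrime Q ⧸
      I.map (algebraMap (MvPolynomial (Fin N) A) (Localization.AtPrime Q)))) :
    IsWeaklyRegular (Localization.AtPrime Q)
        (fs.map (algebraMap (MvPolynomial (Fin N) A) (Localization.AtPrime Q))) ∧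
      I.map (algebraMap (MvPolynomial (Fin N) A) (Localization.AtPrime Q)) =
        Ideal.ofList (fs.map (algebraMap (MvPolynomial (Fin N) A) (Localization.AtPrime Q))) := by
  have hfib := isWeaklyRegular_fibre I Q hIQ hQ fs hfs hgen hlen hdim
  have hloc : IsLocalHom (algebraMap A (Localization.AtPrime Q)) := isLocalHom_algebraMap Q hQ
  have hfl : Module.Flat A (Localization.AtPrime Q) := flat_localization Q
  obtain ⟨hreg, -⟩ := isWeaklyRegular_and_flat_of_fibre (R := A) _ (Localization.AtPrime Q) hfib
  refine ⟨hreg, ?_⟩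
  obtain ⟨ys, hys⟩ : ∃ ys, ys = fs.map (algebraMap (MvPolynomial (Fin N) A) (Localization.AtPrime Q)) :=
    ⟨_, rfl⟩
  rw [← hys]
  have hle : Ideal.ofList ys ≤
      I.map (algebraMap (MvPolynomial (Fin N) A) (Localization.AtPrime Q)) := by
    rw [hys, ← Ideal.map_ofList]
    exact Ideal.map_mono hfs
  have hmax : Ideal.ofList ys ≤ maximalIdeal (Localization.AtPrime Q) := by
    refine hle.trans ?_
    rw [Ideal.map_le_iff_le_comap]
    intro x hx
    exact (IsLocalization.AtPrime.to_map_mem_maximal_iff (Localization.AtPrime Q) Q _).2 (hIQ hx)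
  have hne : Ideal.ofList ys ≠ ⊤ := fun h =>
    (Ideal.IsPrime.ne_top (inferInstance : (maximalIdeal (Localization.AtPrime Q)).IsPrime))
      (top_le_iff.1 (h ▸ hmax))
  have hnt : Nontrivial (Localization.AtPrime Q ⧸ Ideal.ofList ys) :=
    Ideal.Quotient.nontrivial_iff.2 hne
  have hlocB : IsLocalRing (Localization.AtPrime Q ⧸ Ideal.ofList ys) :=
    IsLocalRing.of_surjective' (Ideal.Quotient.mk (Ideal.ofList ys)) Ideal.Quotient.mk_surjective
  have hI : (maximalIdeal A).map (algebraMap A (Localization.AtPrime Q ⧸ Ideal.ofList ys)) ≤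
      maximalIdeal (Localization.AtPrime Q ⧸ Ideal.ofList ys) := by
    refine IsLocalRing.le_maximalIdeal (R := Localization.AtPrime Q ⧸ Ideal.ofList ys) ?_
    intro htop
    have h1 : (maximalIdeal A).map (algebraMap A (Localization.AtPrime Q ⧸ Ideal.ofList ys)) =
        ((maximalIdeal A).map (algebraMap A (Localization.AtPrime Q))).map
          (Ideal.Quotient.mk (Ideal.ofList ys)) := by
      rw [Ideal.map_map]; rfl
    rw [h1] at htop
    have h2 : (1 : Localization.AtPrime Q ⧸ Ideal.ofList ys) ∈
        ((maximalIdeal A).map (algebraMap A (Localization.AtPrime Q))).map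
          (Ideal.Quotient.mk (Ideal.ofList ys)) := by rw [htop]; trivial
    rw [Ideal.mem_map_iff_of_surjective _ Ideal.Quotient.mk_surjective] at h2
    obtain ⟨x, hx, hx1⟩ := h2
    have hx' : x ∈ maximalIdeal (Localization.AtPrime Q) :=
      IsLocalRing.map_maximalIdeal_le (algebraMap A (Localization.AtPrime Q)) hx
    have h3 : x - 1 ∈ Ideal.ofList ys := by
      rw [← Ideal.Quotient.eq_zero_iff_mem, map_sub, hx1, map_one, sub_self]
    have h4 : (1 : Localization.AtPrime Q) ∈ maximalIdeal (Localization.AtPrime Q) := by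
      have := Ideal.sub_mem _ hx' (hmax h3)
      rwa [sub_sub_cancel] at this
    exact (Ideal.IsPrime.ne_top (inferInstance : (maximalIdeal (Localization.AtPrime Q)).IsPrime))
      ((Ideal.eq_top_iff_one _).2 h4)
  have hv : Function.Surjective (Ideal.Quotient.factorₐ A hle) :=
    Ideal.Quotient.factor_surjective hle
  have hsup := le_sup_ker I fs hgen
  have hmod : ∀ x, Ideal.Quotient.factorₐ A hle x = 0 →
      x ∈ (maximalIdeal A).map (algebraMap A (Localization.AtPrime Q ⧸ Ideal.ofList ys)) := by
    intro x hx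
    obtain ⟨s, rfl⟩ := Ideal.Quotient.mk_surjective x
    rw [Ideal.Quotient.factorₐ_apply_mk, Ideal.Quotient.eq_zero_iff_mem] at hx
    have h1 : I.map (algebraMap (MvPolynomial (Fin N) A) (Localization.AtPrime Q)) ≤
        Ideal.ofList ys ⊔ (maximalIdeal A).map (algebraMap A (Localization.AtPrime Q)) := by
      refine (Ideal.map_mono hsup).trans ?_
      rw [Ideal.map_sup, Ideal.map_ofList, map_ker_rho, hys]
    obtain ⟨s₁, hs₁, s₂, hs₂, rfl⟩ := Submodule.mem_sup.1 (h1 hx)
    have h2 : (Ideal.Quotient.mk (Ideal.ofList ys)) (s₁ + s₂) =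
        (Ideal.Quotient.mk (Ideal.ofList ys)) s₂ := by
      rw [map_add, Ideal.Quotient.eq_zero_iff_mem.2 hs₁, zero_add]
    rw [h2]
    have h3 : (maximalIdeal A).map (algebraMap A (Localization.AtPrime Q ⧸ Ideal.ofList ys)) =
        ((maximalIdeal A).map (algebraMap A (Localization.AtPrime Q))).map
          (Ideal.Quotient.mk (Ideal.ofList ys)) := by
      rw [Ideal.map_map]; rfl
    rw [h3]
    exact Ideal.mem_map_of_mem _ hs₂
  have hinj := Groth.Agent.Lib.Helper12.CohenAlg.injective_of_flat_of_mod
    (B := Localization.AtPrime Q ⧸ Ideal.ofList ys)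
    (B' := Localization.AtPrime Q ⧸
      I.map (algebraMap (MvPolynomial (Fin N) A) (Localization.AtPrime Q))) (maximalIdeal A) hI
    (Ideal.Quotient.factorₐ A hle) hv hmod
  apply le_antisymm _ hle
  intro s hs
  have h1 : Ideal.Quotient.factorₐ A hle (Ideal.Quotient.mk _ s) = 0 := by
    rw [Ideal.Quotient.factorₐ_apply_mk, Ideal.Quotient.eq_zero_iff_mem]
    exact hs
  have h2 := hinj (h1.trans (map_zero _).symm)
  exact Ideal.Quotient.eq_zero_iff_mem.1 h2

end Groth.Agent.Lib.Helper5.FibReg
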