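import Mathlib
import Groth.Agent.Lib.Helper5.FibRegC

/-!
# Helper5 — RelGCIB

Over a Noetherian local ring `A`: a sequence `fs` in `A[X_1..X_N]` whose reduction cuts out a closed
fibre of dimension `≤ N - |fs|` is weakly regular in `A[X]_Q`, and all partial quotients are flat
over `A`.
-/

set_option autoImplicit false
universe u

namespace Groth.Agent.Lib.Helper5.RelGCI

open RingTheory.Sequence IsLocalRing Groth.Agent.Lib.Helper5.FibReg

section Local

variable {A : Type u} [CommRing A] [IsLocalRing A] [IsNoetherianRing A] {N : ℕ}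

theorem flat_quotient_of_smul_top {B : Type u} [CommRing B] [Algebra A B] (J : Ideal B)
    (h : Module.Flat A (B ⧸ (J • ⊤ : Submodule B B))) : Module.Flat A (B ⧸ J) := by
  have heq : (J • ⊤ : Submodule B B) = J := by rw [smul_eq_mul, Ideal.mul_top]
  exact Module.Flat.of_linearEquiv
    ((Submodule.quotEquivOfEq _ _ heq).restrictScalars A).symm

theorem core' (Q : Ideal (MvPolynomial (Fin N) A)) [Q.IsPrime]
    (hQ : RingHom.ker (rho (A := A) N) ≤ Q)
    (fs : List (MvPolynomial (Fin N) A)) (hfs : Ideal.ofList fs ≤ Q)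
    (hlen : fs.length ≤ N)
    (hdim : ringKrullDim (MvPolynomial (Fin N) (ResidueField A) ⧸ (Ideal.ofList fs).map (rho N)) ≤
      ((N - fs.length : ℕ) : WithBot ℕ∞)) :
    IsWeaklyRegular (Localization.AtPrime Q)
        (fs.map (algebraMap (MvPolynomial (Fin N) A) (Localization.AtPrime Q))) ∧
      ∀ i : ℕ, Module.Flat A (Localization.AtPrime Q ⧸ Ideal.ofList
        ((fs.take i).map (algebraMap (MvPolynomial (Fin N) A) (Localization.AtPrime Q)))) := by
  have hfib := isWeaklyRegular_fibre (Ideal.ofList fs) Q hfs hQ fs le_rfl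
    (by rw [Ideal.map_ofList]) hlen hdim
  have hloc : IsLocalHom (algebraMap A (Localization.AtPrime Q)) := isLocalHom_algebraMap Q hQ
  have hfl : Module.Flat A (Localization.AtPrime Q) := flat_localization Q
  refine ⟨(isWeaklyRegular_and_flat_of_fibre (R := A) _ (Localization.AtPrime Q) hfib).1, ?_⟩
  intro i
  have hsplit : fs.map (algebraMap (MvPolynomial (Fin N) A) (Localization.AtPrime Q)) =
      (fs.take i).map (algebraMap (MvPolynomial (Fin N) A) (Localization.AtPrime Q)) ++
        (fs.drop i).map (algebraMap (MvPolynomial (Fin N) A) (Localization.AtPrime Q)) := by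
    rw [← List.map_append, List.take_append_drop]
  rw [hsplit, isWeaklyRegular_append_iff] at hfib
  exact flat_quotient_of_smul_top _
    (isWeaklyRegular_and_flat_of_fibre (R := A) _ (Localization.AtPrime Q) hfib.1).2

end Local


section Transfer

variable {A P : Type u} [CommRing A] [CommRing P] [Algebra A P]
  {L₁ L₂ : Type u} [CommRing L₁] [CommRing L₂] [Algebra P L₁] [Algebra P L₂]
  [Algebra A L₁] [Algebra A L₂] [IsScalarTower A P L₁] [IsScalarTower A P L₂]

theorem isWeaklyRegular_of_algEquiv (e : L₁ ≃ₐ[P] L₂) (fs : List P)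
    (h : IsWeaklyRegular L₁ (fs.map (algebraMap P L₁))) :
    IsWeaklyRegular L₂ (fs.map (algebraMap P L₂)) := by
  rw [isWeaklyRegular_map_algebraMap_iff] at h ⊢
  exact (e.toLinearEquiv.isWeaklyRegular_congr fs).1 h

theorem flat_quotient_of_algEquiv (e : L₁ ≃ₐ[P] L₂) (gs : List P)
    (h : Module.Flat A (L₁ ⧸ Ideal.ofList (gs.map (algebraMap P L₁)))) :
    Module.Flat A (L₂ ⧸ Ideal.ofList (gs.map (algebraMap P L₂))) := by
  have hIJ : Ideal.ofList (gs.map (algebraMap P L₂)) =
      (Ideal.ofList (gs.map (algebraMap P L₁))).map ((e.restrictScalars A : L₁ ≃ₐ[A] L₂) : L₁ →+* L₂) := by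
    rw [Ideal.map_ofList, List.map_map]
    congr 1
    apply List.map_congr_left
    intro x _
    exact (e.commutes x).symm
  exact Module.Flat.of_linearEquiv
    (Ideal.quotientEquivAlg _ _ (e.restrictScalars A) hIJ).toLinearEquiv.symm

end Transfer

section Global

attribute [local instance] MvPolynomial.algebraMvPolynomial

variable {A : Type u} [CommRing A] [IsNoetherianRing A] {N : ℕ}

set_option maxSynthPendingDepth 3 in
theorem regular_flat_localization (Q : Ideal (MvPolynomial (Fin N) A)) [Q.IsPrime]
    (p : Ideal A) [p.IsPrime] (hp : Q.comap MvPolynomial.C = p)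
    (fs : List (MvPolynomial (Fin N) A)) (hfs : Ideal.ofList fs ≤ Q)
    (hlen : fs.length ≤ N)
    (hdim : ringKrullDim (MvPolynomial (Fin N) p.ResidueField ⧸
      (Ideal.ofList fs).map (MvPolynomial.map (algebraMap A p.ResidueField))) ≤
        ((N - fs.length : ℕ) : WithBot ℕ∞)) :
    IsWeaklyRegular (Localization.AtPrime Q)
        (fs.map (algebraMap (MvPolynomial (Fin N) A) (Localization.AtPrime Q))) ∧
      ∀ i : ℕ, Module.Flat A (Localization.AtPrime Q ⧸ Ideal.ofList
        ((fs.take i).map (algebraMap (MvPolynomial (Fin N) A) (Localization.AtPrime Q)))) := by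
  let pc : Submonoid (MvPolynomial (Fin N) A) :=
    p.primeCompl.map (MvPolynomial.C : A →+* MvPolynomial (Fin N) A)
  have hlocP : IsLocalization pc (MvPolynomial (Fin N) (Localization.AtPrime p)) :=
    MvPolynomial.isLocalization p.primeCompl (Localization.AtPrime p)
  have disj : Disjoint (pc : Set (MvPolynomial (Fin N) A)) (Q : Set (MvPolynomial (Fin N) A)) := by
    rw [Set.disjoint_left]
    rintro _ ⟨a, ha, rfl⟩ hQ
    apply ha
    rw [← hp]
    exact hQ
  have hQ'prime : (Q.map (algebraMap (MvPolynomial (Fin N) A)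
      (MvPolynomial (Fin N) (Localization.AtPrime p)))).IsPrime :=
    IsLocalization.isPrime_of_isPrime_disjoint pc _ _ ‹_› disj
  have hunder : (Q.map (algebraMap (MvPolynomial (Fin N) A)
      (MvPolynomial (Fin N) (Localization.AtPrime p)))).comap (algebraMap (MvPolynomial (Fin N) A)
      (MvPolynomial (Fin N) (Localization.AtPrime p))) = Q :=
    IsLocalization.under_map_of_isPrime_disjoint pc _ ‹_› disj
  obtain ⟨Q', hQ'⟩ : ∃ Q' : Ideal (MvPolynomial (Fin N) (Localization.AtPrime p)),
      Q' = Q.map (algebraMap (MvPolynomial (Fin N) A)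
        (MvPolynomial (Fin N) (Localization.AtPrime p))) := ⟨_, rfl⟩
  rw [← hQ'] at hQ'prime hunder
  have hlocR : IsLocalization.AtPrime (Localization.AtPrime Q') Q := by
    convert IsLocalization.isLocalization_isLocalization_atPrime_isLocalization pc
      (Localization.AtPrime Q') Q'
    exact hunder.symm
  have hcomp : (rho (A := Localization.AtPrime p) N).comp (algebraMap (MvPolynomial (Fin N) A)
      (MvPolynomial (Fin N) (Localization.AtPrime p))) =
      MvPolynomial.map (algebraMap A p.ResidueField) := by
    apply MvPolynomial.ringHom_ext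
    · intro a
      rw [RingHom.comp_apply, MvPolynomial.algebraMap_def, rho]
      simp only [MvPolynomial.map_C]
      rfl
    · intro i
      rw [RingHom.comp_apply, MvPolynomial.algebraMap_def, rho]
      simp only [MvPolynomial.map_X]
  obtain ⟨fs', hfs'⟩ : ∃ fs' : List (MvPolynomial (Fin N) (Localization.AtPrime p)),
      fs' = fs.map (algebraMap (MvPolynomial (Fin N) A)
        (MvPolynomial (Fin N) (Localization.AtPrime p))) := ⟨_, rfl⟩
  have hImap : (Ideal.ofList fs').map (rho (A := Localization.AtPrime p) N) =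
      (Ideal.ofList fs).map (MvPolynomial.map (algebraMap A p.ResidueField)) := by
    rw [hfs', ← Ideal.map_ofList, Ideal.map_map, hcomp]
  have h2 : RingHom.ker (rho (A := Localization.AtPrime p) N) ≤ Q' := by
    rw [ker_rho, ← Localization.AtPrime.map_eq_maximalIdeal, Ideal.map_map]
    have hc : (MvPolynomial.C : Localization.AtPrime p →+* MvPolynomial (Fin N) (Localization.AtPrime p)).comp
        (algebraMap A (Localization.AtPrime p)) =
        (algebraMap (MvPolynomial (Fin N) A) (MvPolynomial (Fin N) (Localization.AtPrime p))).comp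
          (MvPolynomial.C : A →+* MvPolynomial (Fin N) A) := by
      ext a
      rw [RingHom.comp_apply, RingHom.comp_apply, MvPolynomial.algebraMap_def, MvPolynomial.map_C]
    rw [hc, ← Ideal.map_map, hQ']
    apply Ideal.map_mono
    rw [Ideal.map_le_iff_le_comap, hp]
  have h3 : Ideal.ofList fs' ≤ Q' := by
    rw [hfs', ← Ideal.map_ofList, hQ']
    exact Ideal.map_mono hfs
  have h5 : fs'.length ≤ N := by rw [hfs', List.length_map]; exact hlen
  have h6 : ringKrullDim (MvPolynomial (Fin N) (ResidueField (Localization.AtPrime p)) ⧸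
      (Ideal.ofList fs').map (rho (A := Localization.AtPrime p) N)) ≤
        ((N - fs'.length : ℕ) : WithBot ℕ∞) := by
    rw [hImap, hfs', List.length_map]; exact hdim
  obtain ⟨hreg, hflat⟩ := core' Q' h2 fs' h3 h5 h6
  have hlist : ∀ gs : List (MvPolynomial (Fin N) A),
      (gs.map (algebraMap (MvPolynomial (Fin N) A)
        (MvPolynomial (Fin N) (Localization.AtPrime p)))).map
        (algebraMap (MvPolynomial (Fin N) (Localization.AtPrime p)) (Localization.AtPrime Q')) =
      gs.map (algebraMap (MvPolynomial (Fin N) A) (Localization.AtPrime Q')) := by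
    intro gs
    rw [List.map_map]
    apply List.map_congr_left
    intro x _
    exact (IsScalarTower.algebraMap_apply _ _ _ x).symm
  let e : Localization.AtPrime Q' ≃ₐ[MvPolynomial (Fin N) A] Localization.AtPrime Q :=
    IsLocalization.algEquiv Q.primeCompl (Localization.AtPrime Q') (Localization.AtPrime Q)
  refine ⟨isWeaklyRegular_of_algEquiv e fs (by rw [← hlist, ← hfs']; exact hreg), ?_⟩
  intro i
  refine flat_quotient_of_algEquiv (A := A) e (fs.take i) ?_
  have h7 := hflat i
  rw [hfs', ← List.map_take, hlist] at h7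
  exact Module.Flat.trans A (Localization.AtPrime p) _

end Global

end Groth.Agent.Lib.Helper5.RelGCI
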