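import Mathlib

/-!
# Helper5 — RelGCIO

If `L/𝔞` is flat over `R` then `𝔞 ∩ pL = p𝔞`; a Nakayama consequence.
-/

set_option autoImplicit false
universe u

namespace Groth.Agent.Lib.Helper5.RelGCI

open TensorProduct

variable {R L : Type u} [CommRing R] [CommRing L] [Algebra R L]

theorem inf_map_le_mul_of_flat_quotient (𝔞 : Ideal L) [Module.Flat R (L ⧸ 𝔞)] (p : Ideal R) :
    𝔞 ⊓ p.map (algebraMap R L) ≤ p.map (algebraMap R L) * 𝔞 := by
  let g₁ : 𝔞 →ₗ[R] L := 𝔞.subtype.restrictScalars R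
  let g₂ : L →ₗ[R] L ⧸ 𝔞 := (Ideal.Quotient.mkₐ R 𝔞).toLinearMap
  have hgex : Function.Exact g₁ g₂ := by
    intro y
    change Ideal.Quotient.mk 𝔞 y = 0 ↔ y ∈ Set.range g₁
    rw [Ideal.Quotient.eq_zero_iff_mem]
    constructor
    · intro hy
      exact ⟨⟨y, hy⟩, rfl⟩
    · rintro ⟨z, rfl⟩
      exact z.2
  have hgs : Function.Surjective g₂ := Ideal.Quotient.mk_surjective
  have hfex : Function.Exact p.subtype (Submodule.mkQ p) := LinearMap.exact_subtype_mkQ p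
  have hfs : Function.Surjective (Submodule.mkQ p) := Submodule.mkQ_surjective p
  have hfinj : Function.Injective (p.subtype.rTensor (L ⧸ 𝔞)) :=
    Module.Flat.rTensor_preserves_injective_linearMap _ p.injective_subtype
  have hginj : Function.Injective (g₁.lTensor R) :=
    Module.Flat.lTensor_preserves_injective_linearMap _ 𝔞.injective_subtype
  have key : Function.Injective (g₁.lTensor (R ⧸ p)) :=
    lTensor_injective_of_exact_of_exact_of_rTensor_injective hfex hfs hgex hgs hfinj hginj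
  intro x hx
  obtain ⟨hxa, hxp⟩ := hx
  have h1 : (g₁.lTensor (R ⧸ p)) ((1 : R ⧸ p) ⊗ₜ[R] (⟨x, hxa⟩ : 𝔞)) = 0 := by
    rw [LinearMap.lTensor_tmul]
    change (1 : R ⧸ p) ⊗ₜ[R] x = 0
    apply (TensorProduct.quotTensorEquivQuotSMul L p).injective
    rw [TensorProduct.quotTensorEquivQuotSMul_mk_one_tmul, map_zero,
      Submodule.Quotient.mk_eq_zero, Ideal.smul_top_eq_map]
    exact hxp
  have h2 : (1 : R ⧸ p) ⊗ₜ[R] (⟨x, hxa⟩ : 𝔞) = 0 := key (by rw [h1, map_zero])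
  have h3 := congrArg (TensorProduct.quotTensorEquivQuotSMul 𝔞 p) h2
  rw [TensorProduct.quotTensorEquivQuotSMul_mk_one_tmul, map_zero,
    Submodule.Quotient.mk_eq_zero] at h3
  have h4 : (p • (⊤ : Submodule R 𝔞)).map g₁ ≤
      ((p.map (algebraMap R L) * 𝔞 : Ideal L).restrictScalars R) := by
    rw [Submodule.map_smul'', Submodule.smul_le]
    intro r hr y hy
    obtain ⟨z, -, rfl⟩ := hy
    change r • (z : L) ∈ p.map (algebraMap R L) * 𝔞
    rw [Algebra.smul_def]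
    exact Ideal.mul_mem_mul (Ideal.mem_map_of_mem _ hr) z.2
  exact h4 ⟨⟨x, hxa⟩, h3, rfl⟩

theorem eq_of_le_sup_map_of_flat_quotient (𝔞 𝔟 : Ideal L) [Module.Flat R (L ⧸ 𝔞)] (p : Ideal R)
    (hfg : 𝔞.FG) (hle : 𝔟 ≤ 𝔞) (hjac : p.map (algebraMap R L) ≤ Ideal.jacobson ⊥)
    (h : 𝔞 ≤ 𝔟 ⊔ p.map (algebraMap R L)) : 𝔞 = 𝔟 := by
  refine le_antisymm ?_ hle
  refine Submodule.le_of_le_smul_of_le_jacobson_bot hfg hjac ?_
  intro x hx
  obtain ⟨b, hb, y, hy, rfl⟩ := Submodule.mem_sup.1 (h hx)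
  have hya : y ∈ 𝔞 := by
    have := 𝔞.sub_mem hx (hle hb)
    rwa [add_sub_cancel_left] at this
  refine Submodule.mem_sup.2 ⟨b, hb, y, ?_, rfl⟩
  rw [smul_eq_mul]
  exact inf_map_le_mul_of_flat_quotient 𝔞 p ⟨hya, hy⟩

end Groth.Agent.Lib.Helper5.RelGCI
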