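import Mathlib
import Groth.Prelude.Def_EGA4b
import Groth.Prelude.Def_RegImm
import Groth.Agent.Lib.Helper5.FibRegA
import Groth.Agent.Lib.Helper5.IndPresD
import Groth.Agent.Lib.Helper5.IndPresE
import Groth.Agent.Lib.Helper5.RelGCIO
import Groth.Agent.Lib.Helper5.RelGCIB

/-!
# Helper5 — TransRegA

Transversally regular generating sequences of `J ⊂ C` (with `C` flat over `A`, regular closed fibre)
versus flatness of `C/J` plus complete intersection closed fibre.
-/

set_option autoImplicit false
universe u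

namespace Groth.Agent.Lib.Helper5.TransReg

open RingTheory.Sequence IsLocalRing Groth.Agent.Lib.Helper21.FlatLocal Pointwise TensorProduct
open Groth.Agent.Lib.Helper5.IndPres

section Fibre

variable {R S : Type u} [CommRing R] [CommRing S] [IsLocalRing R] [Algebra R S]

theorem isSMulRegular_fibre_of_flat_quot {N : Type u} [AddCommGroup N] [Module S N] [Module R N]
    [IsScalarTower R S N] (y : S) (hy : IsSMulRegular N y)
    [Module.Flat R (QuotSMulTop y N)] :
    IsSMulRegular (N ⧸ ((maximalIdeal R).map (algebraMap R S) • (⊤ : Submodule S N))) y := by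
  have h3 := isSMulRegular_tensor_of_flat_quot (R := R) (S := S) (N := N)
    (R ⧸ maximalIdeal R) y hy
  rw [isSMulRegular_quotient_iff_mem_of_smul_mem]
  intro n hn
  rw [mem_map_smul_top_iff] at hn ⊢
  have h4 : y • (n ⊗ₜ[R] (1 : R ⧸ maximalIdeal R)) = 0 := by
    rw [TensorProduct.smul_tmul', ← tensorQuotEquivQuotSMul_symm_mk,
      (Submodule.Quotient.mk_eq_zero _).2 hn, map_zero]
  have h5 : n ⊗ₜ[R] (1 : R ⧸ maximalIdeal R) = 0 :=
    h3 (by show y • _ = y • 0; rw [h4, smul_zero])
  rw [← tensorQuotEquivQuotSMul_symm_mk, LinearEquiv.map_eq_zero_iff,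
    Submodule.Quotient.mk_eq_zero] at h5
  exact h5

theorem isWeaklyRegular_fibre_of_flat (ys : List S) :
    ∀ (N : Type u) [AddCommGroup N] [Module S N] [Module R N] [IsScalarTower R S N],
      IsWeaklyRegular N ys →
      (∀ j : ℕ, j ≤ ys.length →
        Module.Flat R (N ⧸ (Ideal.ofList (ys.take j) • ⊤ : Submodule S N))) →
      IsWeaklyRegular (N ⧸ ((maximalIdeal R).map (algebraMap R S) • (⊤ : Submodule S N))) ys := by
  induction ys with
  | nil =>
    intro N _ _ _ _ _ _
    exact IsWeaklyRegular.nil S _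
  | cons y ys ih =>
    intro N _ _ _ _ h hfl
    rw [isWeaklyRegular_cons_iff] at h ⊢
    obtain ⟨hy, hys⟩ := h
    have hfl1 : Module.Flat R (QuotSMulTop y N) := by
      have h1 := hfl 1 (by simp)
      rw [List.take_succ_cons, List.take_zero] at h1
      let e1 : (N ⧸ (Ideal.ofList [y] • ⊤ : Submodule S N)) ≃ₗ[S]
          (QuotSMulTop y N ⧸ (Ideal.ofList ([] : List S) • ⊤ : Submodule S (QuotSMulTop y N))) :=
        Submodule.quotOfListConsSMulTopEquivQuotSMulTopInner N y []
      let e2 : (QuotSMulTop y N ⧸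
          (Ideal.ofList ([] : List S) • ⊤ : Submodule S (QuotSMulTop y N))) ≃ₗ[S]
          QuotSMulTop y N :=
        Submodule.quotEquivOfEqBot _ (by rw [Ideal.ofList_nil, Submodule.bot_smul])
      exact Module.Flat.of_linearEquiv ((e1.trans e2).symm.restrictScalars R)
    refine ⟨isSMulRegular_fibre_of_flat_quot y hy, ?_⟩
    have h2 := ih (QuotSMulTop y N) hys (fun j hj => by
      have h1 := hfl (j + 1) (by simpa using hj)
      rw [List.take_succ_cons] at h1
      exact Module.Flat.of_linearEquiv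
        ((Submodule.quotOfListConsSMulTopEquivQuotSMulTopInner N y (ys.take j)).symm.restrictScalars
          R))
    exact ((quotSMulTopQuotEquiv' (N := N) y _).isWeaklyRegular_congr ys).2 h2

end Fibre

noncomputable def equivOfKerEq {C T₁ T₂ : Type u} [CommRing C] [CommRing T₁] [CommRing T₂]
    (φ₁ : C →+* T₁) (h₁ : Function.Surjective φ₁) (φ₂ : C →+* T₂) (h₂ : Function.Surjective φ₂)
    (hk : RingHom.ker φ₁ = RingHom.ker φ₂) : T₁ ≃+* T₂ :=
  (RingHom.quotientKerEquivOfSurjective h₁).symm.trans
    ((Ideal.quotEquivOfEq hk).trans (RingHom.quotientKerEquivOfSurjective h₂))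

theorem exists_lift_list_mem {C D : Type u} [CommRing C] [CommRing D] (π : C →+* D) (J : Ideal C)
    (l : List D) (h : ∀ x ∈ l, ∃ r ∈ J, π r = x) :
    ∃ rs : List C, (∀ r ∈ rs, r ∈ J) ∧ rs.map π = l := by
  induction l with
  | nil => exact ⟨[], by simp, rfl⟩
  | cons x l ih =>
    obtain ⟨rs, h1, h2⟩ := ih (fun z hz => h z (List.mem_cons_of_mem _ hz))
    obtain ⟨r, hr, hrx⟩ := h x List.mem_cons_self
    refine ⟨r :: rs, ?_, by rw [List.map_cons, hrx, h2]⟩
    intro z hz
    rcases List.mem_cons.1 hz with rfl | hz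
    exacts [hr, h1 z hz]

section Main

variable (A C B : Type u) [CommRing A] [IsLocalRing A] [IsNoetherianRing A] [CommRing C]
  [IsLocalRing C] [IsNoetherianRing C] [Algebra A C] [IsLocalHom (algebraMap A C)]
  [Module.Flat A C] [CommRing B] [IsLocalRing B] [Algebra C B] [Algebra A B]
  [IsScalarTower A C B] [IsLocalHom (algebraMap A B)]

omit [IsNoetherianRing A] [IsLocalRing C] [IsNoetherianRing C] [IsLocalHom (algebraMap A C)]
  [Module.Flat A C] [IsLocalRing B] [IsLocalHom (algebraMap A B)] in
theorem ker_toFibRing (hsurj : Function.Surjective (algebraMap C B)) :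
    RingHom.ker ((Ideal.Quotient.mk (EGA4.mB A B)).comp (algebraMap C B)) =
      EGA4.mB A C ⊔ RingHom.ker (algebraMap C B) := by
  rw [← RingHom.comap_ker, Ideal.mk_ker]
  have h1 : EGA4.mB A B = (EGA4.mB A C).map (algebraMap C B) := by
    unfold EGA4.mB
    rw [Ideal.map_map, ← IsScalarTower.algebraMap_eq]
  rw [h1, Ideal.comap_map_of_surjective' _ hsurj]

omit [IsNoetherianRing A] [IsLocalRing C] [IsNoetherianRing C] [IsLocalHom (algebraMap A C)]
  [Module.Flat A C] in
theorem ker_toFibQuot (K : Ideal C) :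
    RingHom.ker ((Ideal.Quotient.mk (K.map (Ideal.Quotient.mk (EGA4.mB A C)))).comp
      (Ideal.Quotient.mk (EGA4.mB A C))) = EGA4.mB A C ⊔ K := by
  rw [← RingHom.comap_ker, Ideal.mk_ker,
    Ideal.comap_map_of_surjective' _ Ideal.Quotient.mk_surjective, Ideal.mk_ker, sup_comm]

/-- the closed fibre of `B = C/J` as a quotient of the closed fibre of `C` -/
noncomputable def fibEquiv (hsurj : Function.Surjective (algebraMap C B)) :
    (EGA4.FibRing A C ⧸ (RingHom.ker (algebraMap C B)).map (Ideal.Quotient.mk (EGA4.mB A C))) ≃+*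
      EGA4.FibRing A B :=
  equivOfKerEq
    ((Ideal.Quotient.mk ((RingHom.ker (algebraMap C B)).map
      (Ideal.Quotient.mk (EGA4.mB A C)))).comp (Ideal.Quotient.mk (EGA4.mB A C)))
    (Ideal.Quotient.mk_surjective.comp Ideal.Quotient.mk_surjective)
    ((Ideal.Quotient.mk (EGA4.mB A B)).comp (algebraMap C B))
    (Ideal.Quotient.mk_surjective.comp hsurj)
    (by rw [ker_toFibQuot, ker_toFibRing A C B hsurj])

omit [IsNoetherianRing A] [IsNoetherianRing C] [Module.Flat A C] [IsLocalHom (algebraMap A B)]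
  [Algebra A B] [IsScalarTower A C B] in
theorem map_ker_ne_top :
    (RingHom.ker (algebraMap C B)).map (Ideal.Quotient.mk (EGA4.mB A C)) ≠ ⊤ := by
  intro h
  have h1 := congrArg (Ideal.comap (Ideal.Quotient.mk (EGA4.mB A C))) h
  rw [Ideal.comap_map_of_surjective' _ Ideal.Quotient.mk_surjective, Ideal.mk_ker,
    Ideal.comap_top] at h1
  have h2 : RingHom.ker (algebraMap C B) ⊔ EGA4.mB A C ≤ maximalIdeal C :=
    sup_le (le_maximalIdeal (RingHom.ker_ne_top _)) (map_maximalIdeal_le (algebraMap A C))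
  rw [h1] at h2
  exact (maximalIdeal.isMaximal C).ne_top (top_le_iff.1 h2)

/-- `C ⧸ 𝔪C` as the module quotient by `𝔪C • ⊤` -/
noncomputable def fibLinEquiv :
    (C ⧸ ((maximalIdeal A).map (algebraMap A C) • (⊤ : Submodule C C))) ≃ₗ[C] EGA4.FibRing A C :=
  Submodule.quotEquivOfEq _ _ (by rw [smul_eq_mul, Ideal.mul_top])

omit [Module.Flat A C] [IsNoetherianRing A] [IsNoetherianRing C] in
theorem forward (hreg : IsRegularLocalRing (EGA4.FibRing A C))
    (hsurj : Function.Surjective (algebraMap C B)) (rs : List C)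
    (hrs : Ideal.ofList rs = RingHom.ker (algebraMap C B))
    (htr : RegImm.IsTransRegularSeq A C rs) :
    Module.Flat A B ∧ Pi1.IsCompleteIntersection (EGA4.FibRing A B) := by
  obtain ⟨hw, hfl⟩ := htr
  constructor
  · have h1 := hfl rs.length le_rfl
    rw [List.take_length, hrs] at h1
    have h1' : Module.Flat A (C ⧸ RingHom.ker (IsScalarTower.toAlgHom A C B)) := h1
    exact Module.Flat.of_linearEquiv
      ((Ideal.quotientKerAlgEquivOfSurjective
        (f := IsScalarTower.toAlgHom A C B) hsurj).toLinearEquiv).symm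
  · have hne := map_ker_ne_top A C B
    have : Nontrivial (EGA4.FibRing A C ⧸
        (RingHom.ker (algebraMap C B)).map (Ideal.Quotient.mk (EGA4.mB A C))) :=
      Ideal.Quotient.nontrivial_iff.2 hne
    have : IsLocalRing (EGA4.FibRing A C ⧸
        (RingHom.ker (algebraMap C B)).map (Ideal.Quotient.mk (EGA4.mB A C))) :=
      IsLocalRing.of_surjective' (Ideal.Quotient.mk _) Ideal.Quotient.mk_surjective
    refine (isCompleteIntersection_ringEquiv_iff (fibEquiv A C B hsurj)).1 ?_
    refine (isCompleteIntersection_quotient_iff _ hne).2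
      ⟨rs.map (Ideal.Quotient.mk (EGA4.mB A C)), ?_, ?_, ?_⟩
    · rw [← Ideal.map_ofList, hrs]
    · have h1 := isWeaklyRegular_fibre_of_flat (R := A) rs C hw (fun j hj => by
        have h2 := hfl j hj
        have heq : (Ideal.ofList (rs.take j) • ⊤ : Submodule C C) = Ideal.ofList (rs.take j) := by
          rw [smul_eq_mul, Ideal.mul_top]
        exact Module.Flat.of_linearEquiv ((Submodule.quotEquivOfEq _ _ heq).restrictScalars A))
      have h2 := ((fibLinEquiv A C).isWeaklyRegular_congr rs).1 h1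
      exact (isWeaklyRegular_map_algebraMap_iff (EGA4.FibRing A C) (EGA4.FibRing A C) rs).2 h2
    · rw [← Ideal.map_ofList, hrs, smul_eq_mul, Ideal.mul_top]
      exact hne.symm

theorem backward (hreg : IsRegularLocalRing (EGA4.FibRing A C))
    (hsurj : Function.Surjective (algebraMap C B)) (hflat : Module.Flat A B)
    (hci : Pi1.IsCompleteIntersection (EGA4.FibRing A B)) :
    ∃ rs : List C, Ideal.ofList rs = RingHom.ker (algebraMap C B) ∧
      RegImm.IsTransRegularSeq A C rs := by
  have hne := map_ker_ne_top A C B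
  have : Nontrivial (EGA4.FibRing A C ⧸
      (RingHom.ker (algebraMap C B)).map (Ideal.Quotient.mk (EGA4.mB A C))) :=
    Ideal.Quotient.nontrivial_iff.2 hne
  have : IsLocalRing (EGA4.FibRing A C ⧸
      (RingHom.ker (algebraMap C B)).map (Ideal.Quotient.mk (EGA4.mB A C))) :=
    IsLocalRing.of_surjective' (Ideal.Quotient.mk _) Ideal.Quotient.mk_surjective
  have hci' := (isCompleteIntersection_ringEquiv_iff (fibEquiv A C B hsurj)).2 hci
  obtain ⟨ys, hys, hysreg⟩ := (isCompleteIntersection_quotient_iff _ hne).1 hci'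
  obtain ⟨rs, hrsJ, hrsmap⟩ := exists_lift_list_mem (Ideal.Quotient.mk (EGA4.mB A C))
    (RingHom.ker (algebraMap C B)) ys (fun x hx => by
      have hx' : x ∈ (RingHom.ker (algebraMap C B)).map (Ideal.Quotient.mk (EGA4.mB A C)) := by
        rw [← hys]
        exact Ideal.subset_span hx
      exact (Ideal.mem_map_iff_of_surjective _ Ideal.Quotient.mk_surjective).1 hx')
  have hle : Ideal.ofList rs ≤ RingHom.ker (algebraMap C B) := Ideal.span_le.2 hrsJ
  have hflatJ : Module.Flat A (C ⧸ RingHom.ker (algebraMap C B)) := by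
    have h1' : Module.Flat A (C ⧸ RingHom.ker (IsScalarTower.toAlgHom A C B)) :=
      Module.Flat.of_linearEquiv
        (Ideal.quotientKerAlgEquivOfSurjective
          (f := IsScalarTower.toAlgHom A C B) hsurj).toLinearEquiv
    exact h1'
  have hJ : RingHom.ker (algebraMap C B) = Ideal.ofList rs := by
    refine RelGCI.eq_of_le_sup_map_of_flat_quotient (R := A) _ _ (maximalIdeal A)
      (IsNoetherian.noetherian _) hle ?_ ?_
    · rw [IsLocalRing.jacobson_eq_maximalIdeal ⊥ bot_ne_top]
      exact map_maximalIdeal_le (algebraMap A C)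
    · intro x hx
      have h1 : Ideal.Quotient.mk (EGA4.mB A C) x ∈
          (Ideal.ofList rs).map (Ideal.Quotient.mk (EGA4.mB A C)) := by
        rw [Ideal.map_ofList, hrsmap, hys]
        exact Ideal.mem_map_of_mem _ hx
      obtain ⟨y, hy, hyx⟩ := (Ideal.mem_map_iff_of_surjective _ Ideal.Quotient.mk_surjective).1 h1
      have h2 : x - y ∈ EGA4.mB A C := by
        rw [← Ideal.Quotient.eq, hyx]
      have h3 : x = y + (x - y) := by ring
      rw [h3]
      exact Submodule.add_mem_sup hy h2
  have key : ∀ j : ℕ, IsWeaklyRegular C (rs.take j) ∧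
      Module.Flat A (C ⧸ Ideal.ofList (rs.take j)) := by
    intro j
    have h1 : IsWeaklyRegular (EGA4.FibRing A C) (ys.take j) := by
      have h2 := hysreg.toIsWeaklyRegular
      rw [← List.take_append_drop j ys, isWeaklyRegular_append_iff] at h2
      exact h2.1
    rw [← hrsmap, ← List.map_take] at h1
    have h2 := (isWeaklyRegular_map_algebraMap_iff (EGA4.FibRing A C) (EGA4.FibRing A C)
      (rs.take j)).1 h1
    have h3 := ((fibLinEquiv A C).isWeaklyRegular_congr (rs.take j)).2 h2
    obtain ⟨h4, h5⟩ := FibReg.isWeaklyRegular_and_flat_of_fibre (R := A) (rs.take j) C h3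
    exact ⟨h4, RelGCI.flat_quotient_of_smul_top _ h5⟩
  refine ⟨rs, hJ.symm, ?_, fun j _ => (key j).2⟩
  have h1 := (key rs.length).1
  rwa [List.take_length] at h1

end Main

end Groth.Agent.Lib.Helper5.TransReg
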