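import Mathlib
import Groth.Agent.Lib.Helper5.TransRegA

set_option autoImplicit false
universe u

namespace Groth.Agent.Lib.Helper5.CurveDiv

open IsLocalRing TensorProduct
open scoped Pointwise

/-- algebra of the fibre of a relative effective Cartier divisor on a relative curve: the fibre of
the divisor has dimension zero. -/
theorem ringKrullDim_fibre_quot_le_zero {A O OD : Type u} [CommRing A] [CommRing O] [CommRing OD]
    [IsLocalRing A] [IsLocalRing O] (φ : A →+* O) [IsLocalHom φ] (π : O →+* OD)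
    (hπ : Function.Surjective π) (t : O) (ht : IsSMulRegular O t)
    (hker : RingHom.ker π = Ideal.span {t}) (hflD : (π.comp φ).Flat)
    (hdom : IsDomain (O ⧸ (maximalIdeal A).map φ))
    (hdim : ringKrullDim (O ⧸ (maximalIdeal A).map φ) ≤ 1) :
    ringKrullDim (OD ⧸ (maximalIdeal A).map (π.comp φ)) ≤ 0 := by
  let : Algebra A O := φ.toAlgebra
  let : Algebra A OD := (π.comp φ).toAlgebra
  let : Algebra O OD := π.toAlgebra
  have : IsScalarTower A O OD := IsScalarTower.of_algebraMap_eq fun _ => rfl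
  have hflD' : Module.Flat A OD := hflD
  -- QuotSMulTop t O ≃ OD
  have hkerS : (t • (⊤ : Submodule O O)) = LinearMap.ker (Algebra.linearMap O OD) := by
    ext a
    rw [LinearMap.mem_ker, Algebra.linearMap_apply]
    change _ ↔ π a = 0
    rw [← RingHom.mem_ker, hker, Submodule.mem_smul_pointwise_iff_exists]
    simp only [Submodule.mem_top, true_and, smul_eq_mul, Ideal.mem_span_singleton']
    constructor
    · rintro ⟨b, rfl⟩; exact ⟨b, mul_comm _ _⟩
    · rintro ⟨b, rfl⟩; exact ⟨b, mul_comm _ _⟩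
  let e1 : QuotSMulTop t O ≃ₗ[O] OD :=
    (Submodule.quotEquivOfEq _ _ hkerS).trans
      ((Algebra.linearMap O OD).quotKerEquivOfSurjective hπ)
  have : Module.Flat A (QuotSMulTop t O) :=
    Module.Flat.of_linearEquiv (e1.restrictScalars A)
  have hreg := Groth.Agent.Lib.Helper5.TransReg.isSMulRegular_fibre_of_flat_quot
    (R := A) (S := O) (N := O) t ht
  have hmtop : ((maximalIdeal A).map (algebraMap A O) • (⊤ : Submodule O O)) =
      (maximalIdeal A).map φ := by
    rw [smul_eq_mul, Ideal.mul_top]; rfl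
  have hne : (maximalIdeal A).map φ ≠ ⊤ :=
    ne_top_of_le_ne_top (maximalIdeal.isMaximal O).ne_top
      (((IsLocalRing.local_hom_TFAE φ).out 0 2).mp ‹IsLocalHom φ›)
  have htbar : Ideal.Quotient.mk ((maximalIdeal A).map φ) t ≠ 0 := by
    intro h0
    rw [Ideal.Quotient.eq_zero_iff_mem] at h0
    have h1 : t • (Submodule.Quotient.mk (1 : O) :
        O ⧸ ((maximalIdeal A).map (algebraMap A O) • (⊤ : Submodule O O))) =
        t • (0 : O ⧸ ((maximalIdeal A).map (algebraMap A O) • (⊤ : Submodule O O))) := by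
      rw [smul_zero, ← Submodule.Quotient.mk_smul, Submodule.Quotient.mk_eq_zero, hmtop,
        smul_eq_mul, mul_one]
      exact h0
    have h2 := hreg h1
    rw [Submodule.Quotient.mk_eq_zero, hmtop] at h2
    exact hne ((Ideal.eq_top_iff_one _).mpr h2)
  have htnz : Ideal.Quotient.mk ((maximalIdeal A).map φ) t ∈
      nonZeroDivisors (O ⧸ (maximalIdeal A).map φ) :=
    mem_nonZeroDivisors_of_ne_zero htbar
  have h3 := ringKrullDim_quotient_succ_le_of_nonZeroDivisor htnz
  have h4 : ringKrullDim ((O ⧸ (maximalIdeal A).map φ) ⧸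
      Ideal.span {Ideal.Quotient.mk ((maximalIdeal A).map φ) t}) ≤ 0 := by
    have h5 := h3.trans hdim
    generalize ringKrullDim ((O ⧸ (maximalIdeal A).map φ) ⧸
      Ideal.span {Ideal.Quotient.mk ((maximalIdeal A).map φ) t}) = d at h5
    induction d using WithBot.recBotCoe with
    | bot => exact bot_le
    | coe d =>
      have : ((d + 1 : ℕ∞) : WithBot ℕ∞) ≤ ((1 : ℕ∞) : WithBot ℕ∞) := by exact_mod_cast h5
      have h6 : d + 1 ≤ 1 := WithBot.coe_le_coe.mp this
      have h7 : d ≤ 0 := by
        have h8 : d + 1 ≤ 0 + 1 := by rw [zero_add]; exact h6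
        exact (ENat.add_le_add_iff_right (k := 1) (by simp)).mp h8
      exact_mod_cast WithBot.coe_le_coe.mpr h7
  -- the surjection
  let θ : O →+* OD ⧸ (maximalIdeal A).map (π.comp φ) := (Ideal.Quotient.mk _).comp π
  have hθ1 : ∀ a ∈ (maximalIdeal A).map φ, θ a = 0 := by
    intro a ha
    change Ideal.Quotient.mk _ (π a) = 0
    rw [Ideal.Quotient.eq_zero_iff_mem, ← Ideal.map_map]
    exact Ideal.mem_map_of_mem π ha
  let θ1 : (O ⧸ (maximalIdeal A).map φ) →+* OD ⧸ (maximalIdeal A).map (π.comp φ) :=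
    Ideal.Quotient.lift _ θ hθ1
  have hθ2 : ∀ a ∈ Ideal.span {Ideal.Quotient.mk ((maximalIdeal A).map φ) t}, θ1 a = 0 := by
    intro a ha
    obtain ⟨c, rfl⟩ := Ideal.mem_span_singleton'.mp ha
    rw [map_mul]
    have : θ1 (Ideal.Quotient.mk ((maximalIdeal A).map φ) t) = 0 := by
      change Ideal.Quotient.mk _ (π t) = 0
      have : π t = 0 := by
        rw [← RingHom.mem_ker, hker]; exact Ideal.mem_span_singleton_self t
      rw [this, map_zero]
    rw [this, mul_zero]
  let θ2 := Ideal.Quotient.lift _ θ1 hθ2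
  have hs : Function.Surjective θ2 := by
    intro y
    obtain ⟨y', rfl⟩ := Ideal.Quotient.mk_surjective y
    obtain ⟨a, rfl⟩ := hπ y'
    exact ⟨Ideal.Quotient.mk _ (Ideal.Quotient.mk _ a), rfl⟩
  exact (ringKrullDim_le_of_surjective θ2 hs).trans h4

end Groth.Agent.Lib.Helper5.CurveDiv
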