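import Mathlib
import Groth.Prelude.Def_BlowUp2
import Groth.Agent.Lib.Helper5.CurveDivA
import Groth.Agent.Lib.Helper5.CurveDivB
import Groth.Agent.Lib.Helper5.StalkKer
import Groth.Agent.Lib.Helper21.FibreStalk

set_option autoImplicit false
universe u

namespace Groth.Agent.Lib.Helper5.CurveDiv

open AlgebraicGeometry CategoryTheory Limits IsLocalRing RingTheory.Sequence
open Groth.Agent.Lib.Helper21.FibreStalk

/-- the fibre of a smooth morphism of relative dimension one is a smooth curve. -/
instance smoothOfRelativeDimension_fiberToSpecResidueField {X S : Scheme.{u}} (f : X ⟶ S)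
    [SmoothOfRelativeDimension 1 f] (s : S) :
    SmoothOfRelativeDimension 1 (f.fiberToSpecResidueField s) :=
  have := smoothOfRelativeDimension_isStableUnderBaseChange 1
  MorphismProperty.pullback_snd (P := @SmoothOfRelativeDimension 1) _ _ inferInstance

/-- the local rings of the fibres of a smooth relative curve are regular local domains of
dimension at most one. -/
theorem fibre_stalk_props {X S : Scheme.{u}} (f : X ⟶ S) [SmoothOfRelativeDimension 1 f] (s : S)
    (ξ : f.fiber s) :
    IsRegularLocalRing ((f.fiber s).presheaf.stalk ξ) ∧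
      IsDomain ((f.fiber s).presheaf.stalk ξ) ∧
      ringKrullDim ((f.fiber s).presheaf.stalk ξ) ≤ 1 := by
  have : Smooth (f.fiberToSpecResidueField s) := SmoothOfRelativeDimension.smooth 1 _
  have h1 : IsRegularLocalRing ((f.fiber s).presheaf.stalk ξ) :=
    Groth.Agent.Lib.Helper5.RegSmooth.regular_stalk_of_smooth (S.residueField s) (f.fiber s)
      (f.fiberToSpecResidueField s) ξ
  refine ⟨h1, Groth.Agent.Lib.helper19.isDomain_of_isRegularLocalRing _, ?_⟩
  exact ringKrullDim_stalk_le_one (S.residueField s) (f.fiber s) (f.fiberToSpecResidueField s) ξ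

/-- the fibres of a relative effective Cartier divisor on a smooth relative curve have local rings
of dimension zero. -/
theorem ringKrullDim_fibre_stalk_le_zero {X S : Scheme.{u}} (f : X ⟶ S)
    [SmoothOfRelativeDimension 1 f] (I : X.IdealSheafData) (hC : BlowUp.IsEffCartierIdeal I)
    (hfl : Flat (I.subschemeι ≫ f)) (z : I.subscheme) :
    ringKrullDim (((I.subschemeι ≫ f).fiber ((I.subschemeι ≫ f) z)).presheaf.stalk
      ((I.subschemeι ≫ f).asFiber z)) ≤ 0 := by
  obtain ⟨e⟩ := nonempty_fibreStalkEquiv (I.subschemeι ≫ f) z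
  rw [ringKrullDim_eq_of_ringEquiv e]
  obtain ⟨⟨U, hU⟩, hxU, t₀, ht₀, hI⟩ := hC (I.subschemeι z)
  have hker0 : RingHom.ker (I.subschemeι.app U).hom = Ideal.ofList [t₀] := by
    rw [← Scheme.Hom.ker_apply I.subschemeι ⟨U, hU⟩, Scheme.IdealSheafData.ker_subschemeι, hI]
    simp [Ideal.ofList]
  have hwr : IsWeaklyRegular Γ(X, U) [t₀] := by
    rw [isWeaklyRegular_cons_iff]
    refine ⟨?_, IsWeaklyRegular.nil _ _⟩
    intro a b hab
    simp only [smul_eq_mul] at hab
    have h0 : (a - b) * t₀ = 0 := by rw [sub_mul, mul_comm a, mul_comm b, hab, sub_self]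
    exact sub_eq_zero.mp ((mem_nonZeroDivisors_iff_right.mp ht₀) _ h0)
  obtain ⟨hreg, hkerst⟩ :=
    Groth.Agent.Lib.Helper5.StalkKer.isRegular_germ I.subschemeι hU z hxU [t₀] hwr hker0
  have hregt : IsSMulRegular (X.presheaf.stalk (I.subschemeι z))
      ((X.presheaf.germ U (I.subschemeι z) hxU).hom t₀) := by
    have h1 := hreg.toIsWeaklyRegular
    rw [List.map_cons, isWeaklyRegular_cons_iff] at h1
    exact h1.1
  obtain ⟨e'⟩ := nonempty_fibreStalkEquiv f (I.subschemeι z)
  obtain ⟨-, hdom0, hdim0⟩ := fibre_stalk_props f (f (I.subschemeι z)) (f.asFiber (I.subschemeι z))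
  have hdom : IsDomain (X.presheaf.stalk (I.subschemeι z) ⧸
      (maximalIdeal (S.presheaf.stalk (f (I.subschemeι z)))).map
        (f.stalkMap (I.subschemeι z)).hom) :=
    have := hdom0
    MulEquiv.isDomain _ e'.symm.toMulEquiv
  have hdim : ringKrullDim (X.presheaf.stalk (I.subschemeι z) ⧸
      (maximalIdeal (S.presheaf.stalk (f (I.subschemeι z)))).map
        (f.stalkMap (I.subschemeι z)).hom) ≤ 1 := by
    rw [← ringKrullDim_eq_of_ringEquiv e']
    exact hdim0
  have hcomp : ((I.subschemeι ≫ f).stalkMap z).hom =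
      (I.subschemeι.stalkMap z).hom.comp (f.stalkMap (I.subschemeι z)).hom := by
    rw [Scheme.Hom.stalkMap_comp]; rfl
  have hflat : ((I.subschemeι.stalkMap z).hom.comp (f.stalkMap (I.subschemeι z)).hom).Flat := by
    rw [← hcomp]
    exact Flat.stalkMap (I.subschemeι ≫ f) z
  have key := ringKrullDim_fibre_quot_le_zero (f.stalkMap (I.subschemeι z)).hom
    (I.subschemeι.stalkMap z).hom (I.subschemeι.stalkMap_surjective z)
    ((X.presheaf.germ U (I.subschemeι z) hxU).hom t₀) hregt
    (by rw [hkerst]; simp [Ideal.ofList]) hflat hdom hdim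
  change ringKrullDim (_ ⧸ (maximalIdeal _).map ((I.subschemeι ≫ f).stalkMap z).hom) ≤ 0
  rw [hcomp]
  exact key

end Groth.Agent.Lib.Helper5.CurveDiv
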