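import Mathlib
import Groth.Agent.Lib.Helper5.CurveDivC
import Groth.Agent.Lib.helper19.Tame3

set_option autoImplicit false
universe u

namespace Groth.Agent.Lib.Helper5.CurveDiv

open AlgebraicGeometry CategoryTheory Limits IsLocalRing RingTheory.Sequence
open Groth.Agent.Lib.Helper21.FibreStalk

/-- a relative effective Cartier divisor on a smooth relative curve, flat over the base, is locally
quasi-finite over the base. -/
theorem locallyQuasiFinite_of_effCartier {X S : Scheme.{u}} (f : X ⟶ S)
    [SmoothOfRelativeDimension 1 f] (I : X.IdealSheafData) (hC : BlowUp.IsEffCartierIdeal I)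
    (hfl : Flat (I.subschemeι ≫ f)) [LocallyOfFiniteType (I.subschemeι ≫ f)] :
    LocallyQuasiFinite (I.subschemeι ≫ f) := by
  refine LocallyQuasiFinite.of_fiberToSpecResidueField _ fun s => ?_
  have : LocallyOfFiniteType ((I.subschemeι ≫ f).fiberToSpecResidueField s) :=
    MorphismProperty.pullback_snd (P := @LocallyOfFiniteType) _ _ inferInstance
  have : IsLocallyNoetherian ((I.subschemeι ≫ f).fiber s) :=
    LocallyOfFiniteType.isLocallyNoetherian ((I.subschemeι ≫ f).fiberToSpecResidueField s)
  have : IsLocallyArtinian ((I.subschemeι ≫ f).fiber s) := by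
    refine isLocallyArtinian_of_stalk _ (fun b => ?_)
    obtain ⟨z, hz⟩ : ∃ z, (I.subschemeι ≫ f).fiberι s b = z := ⟨_, rfl⟩
    have hs : (I.subschemeι ≫ f) z = s := by
      have h1 : (I.subschemeι ≫ f).fiberι s b ∈ (I.subschemeι ≫ f) ⁻¹' {s} := by
        rw [← Scheme.Hom.range_fiberι]; exact Set.mem_range_self b
      rw [← hz]; exact h1
    subst hs
    have hb : b = (I.subschemeι ≫ f).asFiber z :=
      ((I.subschemeι ≫ f).fiberι _).isEmbedding.injective
        (by rw [hz, Scheme.Hom.fiberι_asFiber])
    rw [hb]
    exact ringKrullDim_fibre_stalk_le_zero f I hC hfl z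
  rw [locallyQuasiFinite_iff_isDiscrete_preimage_singleton]
  intro x
  exact IsDiscrete.univ.mono (Set.subset_univ _)

/-- on a smooth curve over a field, a locally Artinian closed subscheme is locally cut out by a
nonzerodivisor. -/
theorem exists_ker_stalkMap_eq_span {X S : Scheme.{u}} (f : X ⟶ S)
    [SmoothOfRelativeDimension 1 f] (s : S) {P : Scheme.{u}} (j : P ⟶ f.fiber s)
    [IsClosedImmersion j] [IsLocallyArtinian P] (b : P) :
    ∃ t ∈ nonZeroDivisors ((f.fiber s).presheaf.stalk (j b)),
      RingHom.ker (j.stalkMap b).hom = Ideal.span {t} := by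
  obtain ⟨hreg, hdom, hdim⟩ := fibre_stalk_props f s (j b)
  have := hreg
  have := hdom
  have hfin : Module.finrank (ResidueField ((f.fiber s).presheaf.stalk (j b)))
      (CotangentSpace ((f.fiber s).presheaf.stalk (j b))) ≤ 1 := by
    have h1 := (IsRegularLocalRing.iff_finrank_cotangentSpace
      (R := (f.fiber s).presheaf.stalk (j b))).mp hreg
    rw [← h1] at hdim
    exact_mod_cast hdim
  have hpid : IsPrincipalIdealRing ((f.fiber s).presheaf.stalk (j b)) :=
    ((tfae_of_isNoetherianRing_of_isLocalRing_of_isDomain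
      ((f.fiber s).presheaf.stalk (j b))).out 0 5).mpr hfin
  obtain ⟨t, ht⟩ := (IsPrincipalIdealRing.principal (RingHom.ker (j.stalkMap b).hom)).principal
  refine ⟨t, ?_, ht⟩
  apply mem_nonZeroDivisors_of_ne_zero
  rintro rfl
  -- the stalk map is an isomorphism
  have hinj : Function.Injective (j.stalkMap b).hom := by
    rw [RingHom.injective_iff_ker_eq_bot, ht]
    simp
  have hsurj : Function.Surjective (j.stalkMap b).hom := j.stalkMap_surjective b
  let e := RingEquiv.ofBijective (j.stalkMap b).hom ⟨hinj, hsurj⟩
  have h0 := ringKrullDim_stalk_le_zero_of_isLocallyArtinian P b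
  rw [← ringKrullDim_eq_of_ringEquiv e] at h0
  -- the point is closed
  have hcl : IsClosed ({j b} : Set (f.fiber s)) := by
    have := j.isClosedEmbedding.isClosedMap _ (isClosed_discrete ({b} : Set P))
    rwa [Set.image_singleton] at this
  let : (f.fiber s).Over (Spec (CommRingCat.of (S.residueField s))) :=
    ⟨f.fiberToSpecResidueField s⟩
  have : SmoothOfRelativeDimension 1
      ((f.fiber s) ↘ Spec (CommRingCat.of (S.residueField s))) :=
    smoothOfRelativeDimension_fiberToSpecResidueField f s
  have h1 := Groth.Agent.Lib.Helper19.Tame3.ringKrullDim_stalk (S.residueField s) (f.fiber s) 1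
    (j b) hcl
  rw [h1] at h0
  exact absurd h0 (by norm_num)

end Groth.Agent.Lib.Helper5.CurveDiv
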