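import Mathlib
import Groth.Prelude.Def_Mor2
import Groth.Agent.Lib.Helper5.CurveDivD
import Groth.Agent.Lib.Helper5.KLK
import Groth.Agent.Lib.Helper13.ClosedRep

set_option autoImplicit false
universe u

namespace Groth.Agent.Lib.Helper5.CurveDiv

open AlgebraicGeometry CategoryTheory Limits IsLocalRing RingTheory.Sequence
open Groth.Agent.Lib.Helper5.TransNbhd

/-- a relative effective Cartier divisor is locally of finite presentation over its ambient
scheme. -/
theorem lfp_of_effCartier {X : Scheme.{u}} (I : X.IdealSheafData)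
    (hC : BlowUp.IsEffCartierIdeal I) : LocallyOfFinitePresentation I.subschemeι := by
  apply Groth.Agent.Lib.Helper13.ClosedRep.lfp_subschemeι'
  intro p
  obtain ⟨U, hpU, t, -, hI⟩ := hC p
  refine ⟨U, hpU, ?_⟩
  rw [hI]
  exact ⟨{t}, by simp⟩

set_option maxHeartbeats 800000 in
/-- Stacks 062Y, (3) ⇒ (2). -/
theorem effCartier_of_lqf {X S : Scheme.{u}} (f : X ⟶ S) [SmoothOfRelativeDimension 1 f]
    (I : X.IdealSheafData) [LocallyQuasiFinite (I.subschemeι ≫ f)]
    (hfl : Flat (I.subschemeι ≫ f)) [LocallyOfFinitePresentation (I.subschemeι ≫ f)] :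
    BlowUp.IsEffCartierIdeal I := by
  have : Smooth f := SmoothOfRelativeDimension.smooth 1 f
  intro x
  by_cases hx : x ∈ Set.range I.subschemeι
  · obtain ⟨z, rfl⟩ := hx
    have hsq := Groth.Agent.Lib.Helper5.KL.isPullback_cint_fiberMap I.subschemeι f
      (f (I.subschemeι z))
    have : IsClosedImmersion (CInt.fiberMap I.subschemeι f (f (I.subschemeι z))) :=
      MorphismProperty.of_isPullback hsq (inferInstance : IsClosedImmersion I.subschemeι)
    obtain ⟨b, hb⟩ : ∃ b : ((I.subschemeι ≫ f).fiber (f (I.subschemeι z)) : Scheme.{u}),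
        (I.subschemeι ≫ f).fiberι (f (I.subschemeι z)) b = z :=
      ⟨(I.subschemeι ≫ f).asFiber z, (I.subschemeι ≫ f).fiberι_asFiber z⟩
    have : IsLocallyArtinian ((I.subschemeι ≫ f).fiber (f (I.subschemeι z))) := inferInstance
    obtain ⟨t, ht, hker⟩ := exists_ker_stalkMap_eq_span f (f (I.subschemeι z))
      (CInt.fiberMap I.subschemeι f (f (I.subschemeι z))) b
    have hwr : IsWeaklyRegular ((f.fiber (f (I.subschemeι z))).presheaf.stalk
        ((CInt.fiberMap I.subschemeι f (f (I.subschemeι z))) b)) [t] := by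
      rw [isWeaklyRegular_cons_iff]
      refine ⟨?_, IsWeaklyRegular.nil _ _⟩
      intro a c hac
      simp only [smul_eq_mul] at hac
      have h0 : (a - c) * t = 0 := by rw [sub_mul, mul_comm a, mul_comm c, hac, sub_self]
      exact sub_eq_zero.mp ((mem_nonZeroDivisors_iff_right.mp ht) _ h0)
    have hgq : CAlgX.IsQuasiRegular [t].get :=
      Groth.Agent.Lib.Helper21.QuasiReg.qr_of_isWeaklyRegular [t].get
        (by rw [List.ofFn_get]; exact hwr)
    obtain ⟨U, hU, hzU, rs, hreg, hkerU, hlen⟩ := exists_regular_data_of_fibre_germs f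
      I.subschemeι z (Flat.stalkMap f (I.subschemeι z)) (Flat.stalkMap (I.subschemeι ≫ f) z)
      _ _ hsq b hb [t] hgq (by rw [hker]; simp [Ideal.ofList])
    match rs, hlen with
    | [r], _ =>
      refine ⟨⟨U, hU⟩, hzU, r, ?_, ?_⟩
      · have h2 := hreg.toIsWeaklyRegular
        rw [isWeaklyRegular_cons_iff] at h2
        have h3 : IsSMulRegular Γ(X, U) r := h2.1
        rw [mem_nonZeroDivisors_iff_right]
        intro a ha
        apply h3
        simp only [smul_eq_mul, mul_zero]
        rw [mul_comm]; exact ha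
      · rw [← Scheme.IdealSheafData.ker_subschemeι I, Scheme.Hom.ker_apply, hkerU]
        simp [Ideal.ofList]
  · have hcl : IsClosed (Set.range I.subschemeι) := I.subschemeι.isClosedEmbedding.isClosed_range
    obtain ⟨_, ⟨U, hU, rfl⟩, hxU, hUsub⟩ := X.isBasis_affineOpens.exists_subset_of_mem_open
      (show x ∈ (Set.range I.subschemeι)ᶜ from hx) hcl.isOpen_compl
    refine ⟨⟨U, hU⟩, hxU, 1, one_mem _, ?_⟩
    rw [← Scheme.IdealSheafData.ker_subschemeι I, Scheme.Hom.ker_apply, Ideal.span_singleton_one]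
    have hempty : I.subschemeι ⁻¹ᵁ U = ⊥ := by
      ext y
      simp only [TopologicalSpace.Opens.coe_bot, Set.mem_empty_iff_false, iff_false]
      intro hy
      exact hUsub hy ⟨y, rfl⟩
    have : Subsingleton Γ(I.subscheme, I.subschemeι ⁻¹ᵁ U) := by rw [hempty]; infer_instance
    rw [Ideal.eq_top_iff_one, RingHom.mem_ker]
    exact Subsingleton.elim _ _

end Groth.Agent.Lib.Helper5.CurveDiv
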