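import Mathlib.RingTheory.Kaehler.Basic
import Mathlib.RingTheory.TensorProduct.Basic
import Mathlib.LinearAlgebra.Dual.Lemmas

set_option autoImplicit false
set_option linter.unusedSectionVars false

namespace Groth.Agent.Lib.Helper5.DerExt

open TensorProduct

section General

variable {R k K : Type*} [CommRing R] [CommRing k] [CommRing K] [Algebra R k] [Algebra k K]
  [Algebra R K] [IsScalarTower R k K]

/-- the functional on `K ⊗ Ω_k` attached to a derivation `k → K` -/
noncomputable def lam (D : Derivation R k K) : K ⊗[k] Ω[k⁄R] →ₗ[K] K :=
  LinearMap.liftBaseChange K D.liftKaehlerDifferential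

lemma lam_tmul_D (D : Derivation R k K) (c : K) (a : k) :
    lam D (c ⊗ₜ KaehlerDifferential.D R k a) = c * D a := by
  rw [lam, LinearMap.liftBaseChange_tmul, Derivation.liftKaehlerDifferential_comp_D, smul_eq_mul]

lemma lam_comp_of_extends (D : Derivation R k K) (D' : Derivation R K K)
    (h : ∀ a, D' (algebraMap k K a) = D a) (z : K ⊗[k] Ω[k⁄R]) :
    D'.liftKaehlerDifferential (KaehlerDifferential.mapBaseChange R k K z) = lam D z := by
  induction z using TensorProduct.induction_on with
  | zero => simp
  | add x y hx hy => rw [map_add, map_add, map_add, hx, hy]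
  | tmul c ω =>
    have hspan := KaehlerDifferential.span_range_derivation R k
    have hω : ω ∈ Submodule.span k (Set.range (KaehlerDifferential.D R k)) := by
      rw [hspan]; trivial
    induction hω using Submodule.span_induction generalizing c with
    | mem ω hm =>
      obtain ⟨a, rfl⟩ := hm
      rw [KaehlerDifferential.mapBaseChange_tmul, KaehlerDifferential.map_D, map_smul,
        Derivation.liftKaehlerDifferential_comp_D, lam_tmul_D, h, smul_eq_mul]
    | zero => simp
    | add ω ω' _ _ h1 h2 => rw [tmul_add, map_add, map_add, map_add, h1, h2]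
    | smul r ω _ h1 =>
      rw [← TensorProduct.smul_tmul, h1]

lemma lam_eq_zero_of_extends (D : Derivation R k K) (D' : Derivation R K K)
    (h : ∀ a, D' (algebraMap k K a) = D a) (z : K ⊗[k] Ω[k⁄R])
    (hz : KaehlerDifferential.mapBaseChange R k K z = 0) : lam D z = 0 := by
  rw [← lam_comp_of_extends D D' h, hz, map_zero]

/-- every functional on `K ⊗ Ω_k` comes from a derivation -/
lemma exists_der_of_functional (l : K ⊗[k] Ω[k⁄R] →ₗ[K] K) :
    ∃ D : Derivation R k K, lam D = l := by
  refine ⟨((LinearMap.liftBaseChangeEquiv K).symm l).compDer (KaehlerDifferential.D R k), ?_⟩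
  have : (((LinearMap.liftBaseChangeEquiv K).symm l).compDer
      (KaehlerDifferential.D R k)).liftKaehlerDifferential =
      (LinearMap.liftBaseChangeEquiv K).symm l := by
    apply Derivation.liftKaehlerDifferential_unique
    rw [Derivation.liftKaehlerDifferential_comp]
  rw [lam, this]
  exact (LinearMap.liftBaseChangeEquiv K).apply_symm_apply l

end General

section Field

variable {R k K : Type*} [CommRing R] [CommRing k] [Field K] [Algebra R k] [Algebra k K]
  [Algebra R K] [IsScalarTower R k K]

/-- if every derivation extends, the base change map on differentials is injective -/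
theorem mapBaseChange_injective_of_extends
    (h : ∀ D : Derivation R k K, ∃ D' : Derivation R K K, ∀ a, D' (algebraMap k K a) = D a) :
    Function.Injective (KaehlerDifferential.mapBaseChange R k K) := by
  rw [injective_iff_map_eq_zero]
  intro z hz
  rw [← Module.forall_dual_apply_eq_zero_iff K z]
  intro l
  obtain ⟨D, rfl⟩ := exists_der_of_functional (R := R) (k := k) (K := K) l
  obtain ⟨D', hD'⟩ := h D
  exact lam_eq_zero_of_extends D D' hD' z hz

/-- if the base change map on differentials is injective, every derivation extends -/
theorem exists_extends_of_mapBaseChange_injective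
    (hinj : Function.Injective (KaehlerDifferential.mapBaseChange R k K))
    (D : Derivation R k K) :
    ∃ D' : Derivation R K K, ∀ a, D' (algebraMap k K a) = D a := by
  obtain ⟨r, hr⟩ := LinearMap.exists_leftInverse_of_injective
    (KaehlerDifferential.mapBaseChange R k K) (LinearMap.ker_eq_bot.2 hinj)
  refine ⟨((lam D).comp r).compDer (KaehlerDifferential.D R K), fun a => ?_⟩
  have h1 : KaehlerDifferential.D R K (algebraMap k K a) =
      KaehlerDifferential.mapBaseChange R k K (1 ⊗ₜ KaehlerDifferential.D R k a) := by
    rw [KaehlerDifferential.mapBaseChange_tmul, KaehlerDifferential.map_D, one_smul]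
  have h2 := LinearMap.congr_fun hr ((1 : K) ⊗ₜ[k] KaehlerDifferential.D R k a)
  rw [LinearMap.comp_apply, LinearMap.id_apply] at h2
  change lam D (r (KaehlerDifferential.D R K (algebraMap k K a))) = D a
  rw [h1, h2, lam_tmul_D, one_mul]

end Field

end Groth.Agent.Lib.Helper5.DerExt
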