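import Mathlib.RingTheory.Kaehler.Basic
import Mathlib.RingTheory.TensorProduct.Basic
import Mathlib.LinearAlgebra.Dual.Lemmas

set_option autoImplicit false
set_option linter.unusedSectionVars false

namespace Groth.Agent.Lib.Helper5.DerExtMod

open TensorProduct

section General

variable {k K L : Type*} [CommRing k] [CommRing K] [CommRing L] [Algebra k K] [Algebra K L]
  [Algebra k L] [IsScalarTower k K L]

/-- the linear map on `K ⊗ Ω_k` attached to a derivation `k → L` -/
noncomputable def lamL (D : Derivation ℤ k L) : K ⊗[k] Ω[k⁄ℤ] →ₗ[K] L :=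
  LinearMap.liftBaseChange K D.liftKaehlerDifferential

lemma lamL_tmul_D (D : Derivation ℤ k L) (c : K) (a : k) :
    lamL D (c ⊗ₜ KaehlerDifferential.D ℤ k a) = c • D a := by
  rw [lamL, LinearMap.liftBaseChange_tmul, Derivation.liftKaehlerDifferential_comp_D]

lemma lamL_comp_of_extends (D : Derivation ℤ k L) (D' : Derivation ℤ K L)
    (h : ∀ a, D' (algebraMap k K a) = D a) (z : K ⊗[k] Ω[k⁄ℤ]) :
    D'.liftKaehlerDifferential (KaehlerDifferential.mapBaseChange ℤ k K z) = lamL D z := by
  induction z using TensorProduct.induction_on with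
  | zero => simp
  | add x y hx hy => rw [map_add, map_add, map_add, hx, hy]
  | tmul c ω =>
    have hspan := KaehlerDifferential.span_range_derivation ℤ k
    have hω : ω ∈ Submodule.span k (Set.range (KaehlerDifferential.D ℤ k)) := by
      rw [hspan]; trivial
    induction hω using Submodule.span_induction generalizing c with
    | mem ω hm =>
      obtain ⟨a, rfl⟩ := hm
      rw [KaehlerDifferential.mapBaseChange_tmul, KaehlerDifferential.map_D, map_smul,
        Derivation.liftKaehlerDifferential_comp_D, lamL_tmul_D, h]
    | zero => simp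
    | add ω ω' _ _ h1 h2 => rw [tmul_add, map_add, map_add, map_add, h1, h2]
    | smul r ω _ h1 =>
      rw [← TensorProduct.smul_tmul, h1]

/-- every linear map on `K ⊗ Ω_k` comes from a derivation -/
lemma exists_der_of_linear (l : K ⊗[k] Ω[k⁄ℤ] →ₗ[K] L) :
    ∃ D : Derivation ℤ k L, lamL D = l := by
  refine ⟨((LinearMap.liftBaseChangeEquiv K).symm l).compDer (KaehlerDifferential.D ℤ k), ?_⟩
  have : (((LinearMap.liftBaseChangeEquiv K).symm l).compDer
      (KaehlerDifferential.D ℤ k)).liftKaehlerDifferential =
      (LinearMap.liftBaseChangeEquiv K).symm l := by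
    apply Derivation.liftKaehlerDifferential_unique
    rw [Derivation.liftKaehlerDifferential_comp]
  rw [lamL, this]
  exact (LinearMap.liftBaseChangeEquiv K).apply_symm_apply l

end General

section Field

variable {k K L : Type*} [CommRing k] [Field K] [CommRing L] [Nontrivial L] [Algebra k K]
  [Algebra K L] [Algebra k L] [IsScalarTower k K L]

/-- if every derivation into a nonzero `K`-algebra extends, the base change map on differentials
is injective -/
theorem mapBaseChange_injective_of_extends
    (h : ∀ D : Derivation ℤ k L, ∃ D' : Derivation ℤ K L, ∀ a, D' (algebraMap k K a) = D a) :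
    Function.Injective (KaehlerDifferential.mapBaseChange ℤ k K) := by
  rw [injective_iff_map_eq_zero]
  intro z hz
  rw [← Module.forall_dual_apply_eq_zero_iff K z]
  intro l₀
  obtain ⟨D, hD⟩ := exists_der_of_linear (k := k) (K := K) (L := L)
    (l₀.smulRight (1 : L))
  obtain ⟨D', hD'⟩ := h D
  have h1 := lamL_comp_of_extends D D' hD' z
  rw [hz, map_zero, hD, LinearMap.smulRight_apply] at h1
  have h2 : algebraMap K L (l₀ z) = 0 := by
    rw [Algebra.algebraMap_eq_smul_one]; exact h1.symm
  exact (map_eq_zero (algebraMap K L)).1 h2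

end Field

end Groth.Agent.Lib.Helper5.DerExtMod
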