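import Mathlib
import Groth.Agent.Lib.Helper7.FibrePD
import Groth.Agent.Lib.Helper16.FlatKer

/-!
# Helper5 — DiagA: base change of finite projective dimension along `E → E ⊗[B] K` for `B`-flat
modules.
-/

set_option autoImplicit false
set_option linter.style.haveILetI false

namespace Groth.Agent.Lib.Helper5.Diag

open TensorProduct Function CategoryTheory

universe u

variable {B E : Type u} [CommRing B] [CommRing E] [Algebra B E] [Module.Flat B E]
  (K : Type u) [CommRing K] [Algebra B K]

theorem hasPDLT_baseChange (n : ℕ) : ∀ (M : Type u) [AddCommGroup M] [Module E M] [Module B M]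
    [IsScalarTower B E M] [Module.Flat B M],
    HasProjectiveDimensionLT (ModuleCat.of E M) (n + 1) →
    HasProjectiveDimensionLT (ModuleCat.of (E ⊗[B] K) ((E ⊗[B] K) ⊗[E] M)) (n + 1) := by
  induction n with
  | zero =>
    intro M _ _ _ _ _ h
    rw [zero_add, ← projective_iff_hasProjectiveDimensionLT_one] at h ⊢
    have h1 : Module.Projective E M := (IsProjective.iff_projective (R := E) (P := M)).mpr h
    exact (IsProjective.iff_projective (R := E ⊗[B] K) (P := (E ⊗[B] K) ⊗[E] M)).mp inferInstance
  | succ n ih =>
    intro M _ _ _ _ _ h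
    let G := M →₀ E
    let π : G →ₗ[E] M := Finsupp.linearCombination E id
    have hπ : Surjective π := Finsupp.linearCombination_id_surjective E M
    let K₁ : Submodule E G := LinearMap.ker π
    let j : K₁ →ₗ[E] G := K₁.subtype
    have hj : Injective j := Submodule.injective_subtype _
    have hex : Exact j π := LinearMap.exact_subtype_ker_map π
    have hG : Module.Flat B G := Module.Flat.trans B E G
    have hK₁ : Module.Flat B K₁ :=
      Groth.Agent.Lib.Helper16.FlatKer.flat_of_exact (M := K₁) (N := G) (P := M)
        (j.restrictScalars B) (π.restrictScalars B) hj hπ (fun x => hex x)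
    have h1 : HasProjectiveDimensionLT (ModuleCat.of E K₁) (n + 1) :=
      (Groth.Agent.Lib.Helper7.FibrePD.hasPDLT_iff_of_shortExact j π hj hex hπ n).mp h
    have h2 := ih K₁ h1
    obtain ⟨hj', hex', hπ'⟩ :=
      Groth.Agent.Lib.Helper7.FibrePD.baseChange_shortExact (A := B) (B := E) (K := K₁) (G := G)
        (M := M) j π hj hex hπ K
    exact (Groth.Agent.Lib.Helper7.FibrePD.hasPDLT_iff_of_shortExact _ _ hj' hex' hπ' n).mpr h2

end Groth.Agent.Lib.Helper5.Diag
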