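import Mathlib
import Groth.Agent.Lib.Helper5.SerreLoc
import Groth.Agent.Lib.Helper5.DiagA

/-!
# Helper5 — DiagB: if the diagonal `B ⊗[A] B → B` has finite projective dimension (with `B` flat
over `A`), then for every field-valued point `B → K` the local ring of `(B ⊗[A] B) ⊗[B] K` at the
diagonal point is regular.
-/

set_option autoImplicit false
set_option linter.style.haveILetI false
set_option linter.unusedSectionVars false

namespace Groth.Agent.Lib.Helper5.Diag

open TensorProduct Function CategoryTheory IsLocalRing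

universe u

/-- a prime `p` of a Noetherian ring with `R ⧸ p` of finite projective dimension has regular
local ring. -/
theorem regular_atPrime_of_pd (R : Type u) [CommRing R] [IsNoetherianRing R] (p : Ideal R)
    [p.IsPrime] (d : ℕ) (hpd : HasProjectiveDimensionLT (ModuleCat.of R (R ⧸ p)) (d + 1)) :
    IsRegularLocalRing (Localization.AtPrime p) := by
  let M : ModuleCat.{u} R := ModuleCat.of R (R ⧸ p)
  have hpd2 : HasProjectiveDimensionLE M d := hpd
  have hpd3 : HasProjectiveDimensionLE (M.localizedModule p.primeCompl) d :=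
    ModuleCat.localizedModule_hasProjectiveDimensionLE d p.primeCompl M
  let g : (R ⧸ p) →ₗ[R] (M.localizedModule p.primeCompl) :=
    M.localizedModuleMkLinearMap p.primeCompl
  have hg : IsLocalizedModule p.primeCompl g := M.localizedModule_isLocalizedModule p.primeCompl
  let v : M.localizedModule p.primeCompl := g 1
  let f : Localization.AtPrime p →ₗ[Localization.AtPrime p] (M.localizedModule p.primeCompl) :=
    LinearMap.toSpanSingleton _ _ v
  have hgv : ∀ r : R, g (Ideal.Quotient.mk p r) = r • v := by
    intro r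
    rw [← map_smul]
    congr 1
    change Ideal.Quotient.mk p r = r • Ideal.Quotient.mk p 1
    rw [Algebra.smul_def, map_one, mul_one]
    rfl
  have key : ∀ (r : R) (s : p.primeCompl), (s : R) • (f (IsLocalization.mk' _ r s)) = r • v := by
    intro r s
    rw [LinearMap.toSpanSingleton_apply, ← algebraMap_smul (Localization.AtPrime p) (s : R),
      smul_smul, IsLocalization.mk'_spec', algebraMap_smul]
  have hf1 : Function.Surjective f := by
    intro n
    obtain ⟨⟨m, s⟩, hms⟩ := IsLocalizedModule.surj p.primeCompl g n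
    obtain ⟨r, rfl⟩ := Ideal.Quotient.mk_surjective m
    refine ⟨IsLocalization.mk' _ r s, ?_⟩
    apply IsLocalizedModule.smul_injective g s
    change (s : R) • _ = (s : R) • n
    rw [key, ← hgv]
    exact hms.symm
  have hf2 : LinearMap.ker f = maximalIdeal (Localization.AtPrime p) := by
    ext r'
    obtain ⟨r, s, rfl⟩ := IsLocalization.exists_mk'_eq p.primeCompl r'
    rw [IsLocalization.AtPrime.mk'_mem_maximal_iff (Localization.AtPrime p) p, LinearMap.mem_ker]
    have h1 : f (IsLocalization.mk' _ r s) = 0 ↔ r • v = 0 := by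
      rw [← key r s]
      constructor
      · intro h; rw [h, smul_zero]
      · intro h
        apply IsLocalizedModule.smul_injective g s
        change (s : R) • _ = (s : R) • (0 : M.localizedModule p.primeCompl)
        rw [h, smul_zero]
    rw [h1, ← hgv, IsLocalizedModule.eq_zero_iff p.primeCompl g]
    constructor
    · rintro ⟨t, ht⟩
      have h2 : Ideal.Quotient.mk p ((t : R) * r) = 0 := by
        rw [map_mul]
        exact ht
      rw [Ideal.Quotient.eq_zero_iff_mem] at h2
      exact (‹p.IsPrime›.mem_or_mem h2).resolve_left t.2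
    · intro hr
      exact ⟨1, by rw [one_smul]; exact Ideal.Quotient.eq_zero_iff_mem.2 hr⟩
  exact Groth.Agent.Lib.Helper5.SerreConv.main_aux _ (Localization.AtPrime p) rfl
    (M.localizedModule p.primeCompl) f hf1 hf2 d hpd3

section Diagonal

variable {B E : Type u} [CommRing B] [CommRing E] [Algebra B E] [Algebra E B]
  [IsScalarTower B E B] (K : Type u) [Field K] [Algebra B K]

/-- the retraction `E → B` followed by `B → K`, as a `B`-algebra map. -/
noncomputable def multK : E →ₐ[B] K :=
  (Algebra.ofId B K).comp (IsScalarTower.toAlgHom B E B)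

theorem multK_apply (e : E) : multK (B := B) K e = algebraMap B K (algebraMap E B e) := rfl

/-- evaluation at the diagonal point. -/
noncomputable def diagEval : E ⊗[B] K →ₐ[B] K :=
  Algebra.TensorProduct.lift (multK K) (AlgHom.id B K) (fun _ _ => Commute.all _ _)

theorem diagEval_tmul (e : E) (c : K) :
    diagEval (B := B) K (e ⊗ₜ[B] c) = algebraMap B K (algebraMap E B e) * c := by
  rw [diagEval, Algebra.TensorProduct.lift_tmul, multK_apply, AlgHom.id_apply]

theorem diagEval_surjective : Surjective (diagEval (B := B) (E := E) K) := fun c =>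
  ⟨1 ⊗ₜ[B] c, by rw [diagEval_tmul, map_one, map_one, one_mul]⟩

instance : (RingHom.ker (diagEval (B := B) (E := E) K)).IsPrime := RingHom.ker_isPrime _

theorem retract_apply (b : B) : algebraMap E B (algebraMap B E b) = b := by
  rw [← IsScalarTower.algebraMap_apply]
  rfl

theorem tmul_one_eq (r : E ⊗[B] K) :
    (r ⊗ₜ[E] (1 : B) : (E ⊗[B] K) ⊗[E] B) =
      ((1 : E) ⊗ₜ[B] (diagEval K r)) ⊗ₜ[E] (1 : B) := by
  induction r using TensorProduct.induction_on with
  | zero => rw [map_zero, TensorProduct.tmul_zero, TensorProduct.zero_tmul]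
  | add x y hx hy => rw [TensorProduct.add_tmul, hx, hy, map_add, TensorProduct.tmul_add,
      TensorProduct.add_tmul]
  | tmul e c =>
    set b : B := algebraMap E B e with hb
    have h1 : (e ⊗ₜ[B] c : E ⊗[B] K) = e • ((1 : E) ⊗ₜ[B] c) := by
      rw [TensorProduct.smul_tmul', smul_eq_mul, mul_one]
    have h2 : e • (1 : B) = (algebraMap B E b) • (1 : B) := by
      rw [Algebra.smul_def, mul_one, Algebra.smul_def, mul_one, retract_apply]
    have h3 : (algebraMap B E b) • ((1 : E) ⊗ₜ[B] c : E ⊗[B] K) =
        (1 : E) ⊗ₜ[B] (algebraMap B K b * c) := by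
      rw [TensorProduct.smul_tmul', smul_eq_mul, mul_one, Algebra.algebraMap_eq_smul_one,
        TensorProduct.smul_tmul, Algebra.smul_def]
    rw [h1, TensorProduct.smul_tmul, h2, ← TensorProduct.smul_tmul, h3, ← h1, diagEval_tmul]

/-- the map `r ↦ r ⊗ 1`. -/
noncomputable def toN : E ⊗[B] K →ₗ[E ⊗[B] K] (E ⊗[B] K) ⊗[E] B :=
  LinearMap.toSpanSingleton _ _ ((1 : E ⊗[B] K) ⊗ₜ[E] (1 : B))

theorem toN_apply (r : E ⊗[B] K) : toN (B := B) (E := E) K r = r ⊗ₜ[E] (1 : B) := by
  rw [toN, LinearMap.toSpanSingleton_apply, TensorProduct.smul_tmul', smul_eq_mul, mul_one]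

theorem toN_surjective : Surjective (toN (B := B) (E := E) K) := by
  intro z
  induction z using TensorProduct.induction_on with
  | zero => exact ⟨0, map_zero _⟩
  | add x y hx hy =>
    obtain ⟨a, rfl⟩ := hx
    obtain ⟨b, rfl⟩ := hy
    exact ⟨a + b, map_add _ _ _⟩
  | tmul r b =>
    refine ⟨(algebraMap B E b) • r, ?_⟩
    rw [toN_apply, TensorProduct.smul_tmul]
    congr 1
    rw [Algebra.smul_def, mul_one, retract_apply]

/-- the additive evaluation `N → K`. -/
noncomputable def evalN : (E ⊗[B] K) ⊗[E] B →+ K :=
  TensorProduct.liftAddHom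
    (AddMonoidHom.mk' (fun r => AddMonoidHom.mk' (fun b => diagEval K r * algebraMap B K b)
      (fun x y => by rw [map_add, mul_add]))
      (fun x y => by ext b; simp only [AddMonoidHom.mk'_apply, AddMonoidHom.add_apply, map_add,
        add_mul]))
    (fun e r b => by
      simp only [AddMonoidHom.mk'_apply]
      have h1 : diagEval (B := B) K (e • r) =
          algebraMap B K (algebraMap E B e) * diagEval K r := by
        rw [Algebra.smul_def, map_mul, Algebra.TensorProduct.algebraMap_apply, diagEval_tmul,
          mul_one]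
        rfl
      rw [h1, Algebra.smul_def, map_mul]
      ring)

theorem evalN_tmul (r : E ⊗[B] K) (b : B) :
    evalN K (r ⊗ₜ[E] b) = diagEval K r * algebraMap B K b := rfl

theorem ker_toN : LinearMap.ker (toN (B := B) (E := E) K) = RingHom.ker (diagEval (B := B) K) := by
  ext r
  rw [LinearMap.mem_ker, RingHom.mem_ker, toN_apply]
  constructor
  · intro h
    have h1 := congrArg (evalN K) h
    rwa [evalN_tmul, map_one, mul_one, map_zero] at h1
  · intro h
    rw [tmul_one_eq K, h, TensorProduct.tmul_zero, TensorProduct.zero_tmul]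

/-- the main result of this file. -/
theorem regular_of_pd [Module.Flat B E] [IsNoetherianRing (E ⊗[B] K)] (n : ℕ)
    (h : HasProjectiveDimensionLT (ModuleCat.of E B) (n + 1)) :
    IsRegularLocalRing (Localization.AtPrime (RingHom.ker (diagEval (B := B) (E := E) K))) := by
  have h1 := hasPDLT_baseChange (B := B) (E := E) K n B h
  let e1 := LinearMap.quotKerEquivOfSurjective (toN (B := B) (E := E) K) (toN_surjective K)
  have h2 : HasProjectiveDimensionLT (ModuleCat.of (E ⊗[B] K)
      ((E ⊗[B] K) ⧸ LinearMap.ker (toN (B := B) (E := E) K))) (n + 1) :=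
    hasProjectiveDimensionLT_of_iso e1.symm.toModuleIso (n + 1)
  have h3 : HasProjectiveDimensionLT (ModuleCat.of (E ⊗[B] K)
      ((E ⊗[B] K) ⧸ RingHom.ker (diagEval (B := B) (E := E) K))) (n + 1) := by
    rw [ker_toN K] at h2
    exact h2
  exact regular_atPrime_of_pd _ _ n h3

end Diagonal

end Groth.Agent.Lib.Helper5.Diag
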