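import Mathlib
import Groth.Agent.Lib.Helper5.DiagB
import Groth.Agent.Lib.Helper5.RegSmoothPerfect
import Groth.Agent.Lib.Helper17.SmoothBaseChange

/-!
# Helper5 — DiagC: finite projective dimension of the diagonal implies that the fibres are
formally smooth at every point.
-/

set_option autoImplicit false
set_option linter.style.haveILetI false
set_option linter.unusedSectionVars false

namespace Groth.Agent.Lib.Helper5.Diag

open TensorProduct Function CategoryTheory IsLocalRing

universe u

/-- over a perfect field, an essentially finite type algebra is formally smooth at a prime where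
it is regular. -/
theorem formallySmooth_atPrime_of_regular (L : Type u) [Field L] [PerfectField L] (T : Type u)
    [CommRing T] [Algebra L T] [Algebra.EssFiniteType L T] (q : Ideal T) [q.IsPrime]
    [IsRegularLocalRing (Localization.AtPrime q)] :
    Algebra.FormallySmooth L (Localization.AtPrime q) := by
  let P := Algebra.EssFiniteType.subalgebra L T
  let M := Algebra.EssFiniteType.submonoid L T
  let q₀ : Ideal P := q.comap (algebraMap P T)
  have : q₀.IsPrime := Ideal.comap_isPrime _ _
  have hloc : IsLocalization.AtPrime (Localization.AtPrime q) q₀ :=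
    IsLocalization.isLocalization_isLocalization_atPrime_isLocalization M
      (Localization.AtPrime q) q
  let e : Localization.AtPrime q₀ ≃ₐ[P] Localization.AtPrime q :=
    IsLocalization.algEquiv q₀.primeCompl _ _
  have : IsRegularLocalRing (Localization.AtPrime q₀) :=
    IsRegularLocalRing.of_ringEquiv e.symm.toRingEquiv
  have hs : Algebra.IsSmoothAt L q₀ :=
    Groth.Agent.Lib.Helper5.RegSmoothCore.isSmoothAt_of_regular L P q₀
  exact Algebra.FormallySmooth.of_equiv (e.restrictScalars L)

theorem isScalarTower_of_hmul {A B : Type u} [CommRing A] [CommRing B] [Algebra A B]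
    [Algebra (B ⊗[A] B) B]
    (hmul : ∀ x y : B, algebraMap (B ⊗[A] B) B (x ⊗ₜ[A] y) = x * y) :
    IsScalarTower B (B ⊗[A] B) B :=
  IsScalarTower.of_algebraMap_eq (fun x => by
    rw [Algebra.TensorProduct.algebraMap_apply, hmul]
    simp)

section Core

variable {A B : Type u} [CommRing A] [CommRing B] [Algebra A B] [Algebra (B ⊗[A] B) B]
  [IsScalarTower B (B ⊗[A] B) B]
  (hmul : ∀ x y : B, algebraMap (B ⊗[A] B) B (x ⊗ₜ[A] y) = x * y)
  (k : Type u) [Field k] [Algebra A k] (L : Type u) [Field L] [Algebra k L] [Algebra A L]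
  [IsScalarTower A k L] [Algebra B L] [IsScalarTower A B L]

/-- evaluation `k ⊗[A] B → L`. -/
noncomputable def evalFibre : k ⊗[A] B →ₐ[k] L :=
  Algebra.TensorProduct.lift (Algebra.ofId k L) (IsScalarTower.toAlgHom A B L)
    (fun _ _ => Commute.all _ _)

theorem evalFibre_tmul (c : k) (b : B) :
    evalFibre (A := A) k L (c ⊗ₜ[A] b) = algebraMap k L c * algebraMap B L b := by
  rw [evalFibre, Algebra.TensorProduct.lift_tmul]
  rfl

/-- evaluation `L ⊗[k] (k ⊗[A] B) → L`. -/
noncomputable def evalPt : L ⊗[k] (k ⊗[A] B) →ₐ[L] L :=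
  Algebra.TensorProduct.lift (AlgHom.id L L) (evalFibre (A := A) (B := B) k L)
    (fun _ _ => Commute.all _ _)

theorem evalPt_tmul (l : L) (s : k ⊗[A] B) :
    evalPt (A := A) k L (l ⊗ₜ[k] s) = l * evalFibre k L s := by
  rw [evalPt, Algebra.TensorProduct.lift_tmul, AlgHom.id_apply]

instance : (RingHom.ker (evalPt (A := A) (B := B) k L)).IsPrime := RingHom.ker_isPrime _

/-- the comparison isomorphism. -/
noncomputable def cmpEquiv : (B ⊗[A] B) ⊗[B] L ≃+* L ⊗[k] (k ⊗[A] B) :=
  (Algebra.TensorProduct.comm B (B ⊗[A] B) L).toRingEquiv.trans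
    ((Algebra.TensorProduct.cancelBaseChange A B L L B).toRingEquiv.trans
      (Algebra.TensorProduct.cancelBaseChange A k L L B).symm.toRingEquiv)

theorem cmpEquiv_tmul (x y : B) (l : L) :
    cmpEquiv (A := A) k L ((x ⊗ₜ[A] y) ⊗ₜ[B] l) = (x • l) ⊗ₜ[k] ((1 : k) ⊗ₜ[A] y) := by
  simp [cmpEquiv]

include hmul in
theorem evalPt_cmpEquiv (r : (B ⊗[A] B) ⊗[B] L) :
    evalPt (A := A) k L (cmpEquiv k L r) = diagEval (B := B) (E := B ⊗[A] B) L r := by
  induction r using TensorProduct.induction_on with
  | zero => rw [map_zero, map_zero, map_zero]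
  | add x y hx hy => rw [map_add, map_add, map_add, hx, hy]
  | tmul e l =>
    induction e using TensorProduct.induction_on with
    | zero => rw [TensorProduct.zero_tmul, map_zero, map_zero, map_zero]
    | add x y hx hy => rw [TensorProduct.add_tmul, map_add, map_add, map_add, hx, hy]
    | tmul x y =>
      rw [cmpEquiv_tmul, evalPt_tmul, evalFibre_tmul, diagEval_tmul, hmul, map_one, one_mul,
        Algebra.smul_def, map_mul]
      ring

include hmul in
theorem formallySmooth_evalPt [Module.Flat A B] [Algebra.EssFiniteType A B] [PerfectField L]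
    (n : ℕ) (h : HasProjectiveDimensionLT (ModuleCat.of (B ⊗[A] B) B) (n + 1)) :
    Algebra.FormallySmooth L (Localization.AtPrime (RingHom.ker (evalPt (A := A) (B := B) k L))) := by
  have hN1 : IsNoetherianRing (L ⊗[k] (k ⊗[A] B)) := Algebra.EssFiniteType.isNoetherianRing L _
  have hN2 : IsNoetherianRing ((B ⊗[A] B) ⊗[B] L) :=
    isNoetherianRing_of_ringEquiv _ (cmpEquiv (A := A) (B := B) k L).symm
  have hreg := regular_of_pd (B := B) (E := B ⊗[A] B) L n h
  have H : Submonoid.map (cmpEquiv (A := A) (B := B) k L)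
      (RingHom.ker (diagEval (B := B) (E := B ⊗[A] B) L)).primeCompl =
      (RingHom.ker (evalPt (A := A) (B := B) k L)).primeCompl := by
    ext x
    constructor
    · rintro ⟨y, hy, rfl⟩
      rw [SetLike.mem_coe, Ideal.mem_primeCompl_iff, RingHom.mem_ker] at hy
      rw [Ideal.mem_primeCompl_iff, RingHom.mem_ker]
      intro hx
      apply hy
      rw [← evalPt_cmpEquiv hmul k L]
      exact hx
    · intro hx
      rw [Ideal.mem_primeCompl_iff, RingHom.mem_ker] at hx
      refine ⟨(cmpEquiv (A := A) (B := B) k L).symm x, ?_, RingEquiv.apply_symm_apply _ x⟩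
      rw [SetLike.mem_coe, Ideal.mem_primeCompl_iff, RingHom.mem_ker]
      intro hy
      apply hx
      rw [← evalPt_cmpEquiv hmul k L, RingEquiv.apply_symm_apply] at hy
      exact hy
  let E' : Localization.AtPrime (RingHom.ker (diagEval (B := B) (E := B ⊗[A] B) L)) ≃+*
      Localization.AtPrime (RingHom.ker (evalPt (A := A) (B := B) k L)) :=
    IsLocalization.ringEquivOfRingEquiv _ _ (cmpEquiv (A := A) (B := B) k L) H
  have : IsRegularLocalRing (Localization.AtPrime (RingHom.ker (evalPt (A := A) (B := B) k L))) :=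
    IsRegularLocalRing.of_ringEquiv E'
  exact formallySmooth_atPrime_of_regular L _ _

end Core

/-- a copy of the algebraic closure that does not inherit any scalar actions. -/
def AC (κ : Type u) [Field κ] : Type u := AlgebraicClosure κ

noncomputable instance (κ : Type u) [Field κ] : Field (AC κ) :=
  inferInstanceAs (Field (AlgebraicClosure κ))

instance (κ : Type u) [Field κ] : IsAlgClosed (AC κ) :=
  inferInstanceAs (IsAlgClosed (AlgebraicClosure κ))

/-- the inclusion into `AC κ`. -/
noncomputable def AC.of (κ : Type u) [Field κ] : κ →+* AC κ :=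
  algebraMap κ (AlgebraicClosure κ)

section Fibre

attribute [local instance] Algebra.TensorProduct.rightAlgebra

variable {A B : Type u} [CommRing A] [CommRing B] [Algebra A B] [Algebra (B ⊗[A] B) B]
  [IsScalarTower B (B ⊗[A] B) B]
  (hmul : ∀ x y : B, algebraMap (B ⊗[A] B) B (x ⊗ₜ[A] y) = x * y)
  (k : Type u) [Field k] [Algebra A k]

include hmul in
theorem formallySmooth_fibre_atPrime_aux (L : Type u) [Field L] [Algebra k L] [Algebra A L]
    [IsScalarTower A k L] [Algebra B L] [IsScalarTower A B L]
    [Module.Flat A B] [Algebra.EssFiniteType A B] [PerfectField L]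
    (n : ℕ) (h : HasProjectiveDimensionLT (ModuleCat.of (B ⊗[A] B) B) (n + 1))
    (q : Ideal (k ⊗[A] B)) [q.IsPrime]
    (hq : RingHom.ker (evalFibre (A := A) (B := B) k L) = q) :
    Algebra.FormallySmooth k (Localization.AtPrime q) := by
  have hfs := formallySmooth_evalPt hmul k L n h
  refine Groth.Agent.Lib.Helper17.SmoothBaseChange.formallySmooth_localization_of_tensorProduct
    (R := k) (T := L) (A := k ⊗[A] B) (RingHom.ker (evalPt (A := A) (B := B) k L)) q ?_
  ext s
  rw [Ideal.mem_comap, RingHom.mem_ker, Algebra.TensorProduct.right_algebraMap_apply,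
    evalPt_tmul, one_mul, ← hq, RingHom.mem_ker]

include hmul in
theorem formallySmooth_fibre_atPrime [Module.Flat A B] [Algebra.EssFiniteType A B]
    (n : ℕ) (h : HasProjectiveDimensionLT (ModuleCat.of (B ⊗[A] B) B) (n + 1))
    (q : Ideal (k ⊗[A] B)) [q.IsPrime] :
    Algebra.FormallySmooth k (Localization.AtPrime q) := by
  let φ : (k ⊗[A] B) →+* AC q.ResidueField :=
    (AC.of q.ResidueField).comp (algebraMap (k ⊗[A] B) q.ResidueField)
  let a1 : Algebra k (AC q.ResidueField) :=
    (φ.comp (algebraMap k (k ⊗[A] B))).toAlgebra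
  let a2 : Algebra A (AC q.ResidueField) :=
    (φ.comp (algebraMap A (k ⊗[A] B))).toAlgebra
  let a3 : Algebra B (AC q.ResidueField) :=
    (φ.comp (algebraMap B (k ⊗[A] B))).toAlgebra
  have t1 : IsScalarTower A k (AC q.ResidueField) :=
    IsScalarTower.of_algebraMap_eq (R := A) (S := k) (A := AC q.ResidueField)
      fun a => by
      change φ (algebraMap A (k ⊗[A] B) a) = φ (algebraMap k (k ⊗[A] B) (algebraMap A k a))
      rw [← IsScalarTower.algebraMap_apply]
  have t2 : IsScalarTower A B (AC q.ResidueField) :=
    IsScalarTower.of_algebraMap_eq (R := A) (S := B) (A := AC q.ResidueField)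
      fun a => by
      change φ (algebraMap A (k ⊗[A] B) a) = φ (algebraMap B (k ⊗[A] B) (algebraMap A B a))
      rw [← IsScalarTower.algebraMap_apply]
  have hφ : ∀ s, evalFibre (A := A) (B := B) k (AC q.ResidueField) s = φ s := by
    intro s
    induction s using TensorProduct.induction_on with
    | zero => rw [map_zero, map_zero]
    | add x y hx hy => rw [map_add, map_add, hx, hy]
    | tmul c b =>
      rw [evalFibre_tmul]
      change φ (algebraMap k (k ⊗[A] B) c) * φ (algebraMap B (k ⊗[A] B) b) = _
      rw [← map_mul, Algebra.TensorProduct.algebraMap_apply,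
        Algebra.TensorProduct.right_algebraMap_apply, Algebra.TensorProduct.tmul_mul_tmul,
        mul_one, one_mul]
      rfl
  refine formallySmooth_fibre_atPrime_aux hmul k (AC q.ResidueField) n h q ?_
  ext s
  rw [RingHom.mem_ker, hφ]
  change AC.of q.ResidueField (algebraMap (k ⊗[A] B) q.ResidueField s) = 0 ↔ _
  rw [map_eq_zero_iff _ (AC.of q.ResidueField).injective,
    Ideal.algebraMap_residueField_eq_zero]

end Fibre

end Groth.Agent.Lib.Helper5.Diag
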