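import Mathlib

/-!
# Helper5 — FlatOpc: a right exact functor which preserves monomorphisms with cokernel in `P`
preserves exactness below the top degree of a complex with terms in `P` whose top opcycles are in `P`.
-/

open CategoryTheory CategoryTheory.Limits

namespace Groth.Agent.Lib.Helper5.FlatOpc

universe v v' u u'

variable {C : Type u} [Category.{v} C] [Abelian C] {D : Type u'} [Category.{v'} D] [Abelian D]

lemma mono_fromOpcycles_of_exactAt (K : CochainComplex C ℤ) (i j : ℤ) (hij : i + 1 = j)
    (h : K.ExactAt i) : Mono (K.fromOpcycles i j) := by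
  rw [HomologicalComplex.exactAt_iff_isZero_homology] at h
  exact Preadditive.mono_of_isZero_kernel' _ (K.homologyIsKernel i j (by simp [← hij])) h

/-- the short complex `Q^i → K^j → Q^j`. -/
noncomputable def opcSC (K : CochainComplex C ℤ) (i j : ℤ) : ShortComplex C :=
  ShortComplex.mk (K.fromOpcycles i j) (K.pOpcycles j) (by
    rw [← cancel_epi (K.pOpcycles i), K.p_fromOpcycles_assoc, K.d_pOpcycles, comp_zero])

lemma shortExact_opcSC (K : CochainComplex C ℤ) (i j : ℤ) (hij : i + 1 = j) (h : K.ExactAt i) :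
    (opcSC K i j).ShortExact := by
  have hmono : Mono (opcSC K i j).f := mono_fromOpcycles_of_exactAt K i j hij h
  have hepi : Epi (opcSC K i j).g := (inferInstance : Epi (K.pOpcycles j))
  refine ShortComplex.ShortExact.mk' ?_ hmono hepi
  apply ShortComplex.exact_of_g_is_cokernel
  exact isCokernelOfComp (K.pOpcycles i) (K.d i j)
    (K.opcyclesIsCokernel i j (by simp [← hij])) _ (K.p_fromOpcycles i j)

variable (G : C ⥤ D) [G.Additive] [PreservesFiniteColimits G]
  (P : ObjectProperty C) [P.IsClosedUnderIsomorphisms]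

include P in
theorem prop_opcycles
    (hst : ∀ (E F : C) (u : E ⟶ F), Epi u → P E → P F → P (kernel u))
    (K : CochainComplex C ℤ) (a n : ℤ)
    (hex : ∀ i : ℤ, a < i → i < n → K.ExactAt i) (hP : ∀ i : ℤ, a < i → i ≤ n → P (K.X i))
    (hn : P (K.opcycles n)) :
    ∀ i : ℤ, a < i → i ≤ n → P (K.opcycles i) := by
  have key : ∀ (k : ℕ) (i : ℤ), a < i → i ≤ n → n - i ≤ k → P (K.opcycles i) := by
    intro k
    induction k with
    | zero =>
      intro i _ hin hi
      have : i = n := by simp at hi; omega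
      subst this
      exact hn
    | succ k ih =>
      intro i hai hin hi
      rcases eq_or_lt_of_le hin with h | h
      · subst h
        exact hn
      · have h1 := ih (i + 1) (by omega) (by omega) (by push_cast at hi; omega)
        have hS := shortExact_opcSC K i (i + 1) rfl (hex i hai h)
        have h2 : P (kernel (K.pOpcycles (i + 1))) :=
          hst _ _ (K.pOpcycles (i + 1)) inferInstance (hP (i + 1) (by omega) (by omega)) h1
        exact P.prop_of_iso
          (IsLimit.conePointUniqueUpToIso (kernelIsKernel (K.pOpcycles (i + 1))) hS.fIsKernel) h2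
  intro i hi hin
  exact key (n - i).toNat i hi hin (Int.self_le_toNat _)

include P in
theorem exactAt_map
    (hst : ∀ (E F : C) (u : E ⟶ F), Epi u → P E → P F → P (kernel u))
    (hG : ∀ S : ShortComplex C, S.ShortExact → P S.X₃ → Mono (G.map S.f))
    (K : CochainComplex C ℤ) (a n : ℤ)
    (hex : ∀ i : ℤ, a < i → i < n → K.ExactAt i) (hP : ∀ i : ℤ, a < i → i ≤ n → P (K.X i))
    (hn : P (K.opcycles n)) (i : ℤ) (hi : a < i) (hin : i < n) :
    ((G.mapHomologicalComplex (ComplexShape.up ℤ)).obj K).ExactAt i := by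
  have hQ := prop_opcycles P hst K a n hex hP hn
  have hS := shortExact_opcSC K i (i + 1) rfl (hex i hi hin)
  have hm : Mono (G.map (K.fromOpcycles i (i + 1))) := hG _ hS (hQ (i + 1) (by omega) (by omega))
  let S₁ : ShortComplex C := ShortComplex.mk (K.d (i - 1) i) (K.pOpcycles i) (K.d_pOpcycles _ _)
  have hS₁ : S₁.Exact :=
    ShortComplex.exact_of_g_is_cokernel _ (K.opcyclesIsCokernel (i - 1) i (by simp))
  have hepi : Epi S₁.g := (inferInstance : Epi (K.pOpcycles i))
  have hex₁ : (S₁.map G).Exact := hS₁.map_of_epi_of_preservesCokernel G hepi inferInstance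
  rw [HomologicalComplex.exactAt_iff' _ (i - 1) i (i + 1) (by simp) (by simp)]
  let φ : S₁.map G ⟶ ((G.mapHomologicalComplex (ComplexShape.up ℤ)).obj K).sc' (i - 1) i (i + 1) :=
    { τ₁ := 𝟙 _
      τ₂ := 𝟙 _
      τ₃ := G.map (K.fromOpcycles i (i + 1))
      comm₁₂ := by
        change 𝟙 _ ≫ G.map (K.d (i - 1) i) = G.map (K.d (i - 1) i) ≫ 𝟙 _
        rw [Category.comp_id, Category.id_comp]
      comm₂₃ := by
        change 𝟙 _ ≫ G.map (K.d i (i + 1)) = G.map (K.pOpcycles i) ≫ G.map (K.fromOpcycles i (i + 1))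
        rw [← G.map_comp, K.p_fromOpcycles, Category.id_comp] }
  have : Epi φ.τ₁ := (inferInstance : Epi (𝟙 _))
  have : IsIso φ.τ₂ := (inferInstance : IsIso (𝟙 _))
  have : Mono φ.τ₃ := hm
  exact (ShortComplex.exact_iff_of_epi_of_isIso_of_mono φ).1 hex₁

end Groth.Agent.Lib.Helper5.FlatOpc
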