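import Mathlib
import Groth.Agent.Lib.Helper5.FlatOpc
import Groth.Agent.Lib.Helper5.KosBCB
import Groth.Agent.Lib.Helper2.KosTor2
import Groth.Agent.Lib.Helper16.FlatKer

set_option autoImplicit false
universe u

open CategoryTheory CategoryTheory.Limits TensorProduct

namespace Groth.Agent.Lib.Helper5.KosFlatBC

section ModuleLevel

variable (A A' : Type*) {R R' : Type*} [CommRing A] [CommRing A'] [CommRing R] [CommRing R']
  [Algebra A A'] [Algebra A R] [Algebra A R'] [Algebra A' R'] [Algebra R R']
  [IsScalarTower A A' R'] [IsScalarTower A R R'] [Algebra.IsPushout A A' R R']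

include A' in
theorem lTensor_injective_of_isPushout {M N P : Type*} [AddCommGroup M] [AddCommGroup N]
    [AddCommGroup P] [Module R M] [Module R N] [Module R P] [Module A M] [Module A N] [Module A P]
    [IsScalarTower A R M] [IsScalarTower A R N] [IsScalarTower A R P]
    (g : M →ₗ[R] N) (f : N →ₗ[R] P) (hg : Function.Injective g) (hf : Function.Surjective f)
    (H : Function.Exact g f) [Module.Flat A P] :
    Function.Injective (g.lTensor R') := by
  have h1 : Function.Injective ((g.restrictScalars A).lTensor A') :=
    LinearMap.lTensor_injective_of_exact_of_flat (f.restrictScalars A) hf (g.restrictScalars A) hg H A'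
  have hsq : ∀ x : A' ⊗[A] M,
      (Algebra.IsPushout.cancelBaseChange A A' R R' N).symm ((g.restrictScalars A).lTensor A' x) =
        g.lTensor R' ((Algebra.IsPushout.cancelBaseChange A A' R R' M).symm x) := by
    intro x
    induction x with
    | zero => simp
    | add x y hx hy => simp only [map_add, hx, hy]
    | tmul s m => simp
  intro x y hxy
  obtain ⟨x', rfl⟩ := (Algebra.IsPushout.cancelBaseChange A A' R R' M).symm.surjective x
  obtain ⟨y', rfl⟩ := (Algebra.IsPushout.cancelBaseChange A A' R R' M).symm.surjective y
  rw [← hsq, ← hsq] at hxy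
  rw [h1 ((Algebra.IsPushout.cancelBaseChange A A' R R' N).symm.injective hxy)]

end ModuleLevel

section Cat

variable (A : Type u) {R : Type u} [CommRing A] [CommRing R] [Algebra A R]

/-- `R`-modules which are flat over `A`. -/
def flatOver : ObjectProperty (ModuleCat.{u} R) :=
  fun M => @Module.Flat A M _ _ (Module.compHom M (algebraMap A R))

theorem isScalarTower_compHom (M : Type*) [AddCommGroup M] [Module R M] :
    @IsScalarTower A R M _ _ (Module.compHom M (algebraMap A R)).toSMul := by
  let _ : Module A M := Module.compHom M (algebraMap A R)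
  exact ⟨fun a r m => by rw [Algebra.smul_def, mul_smul]; rfl⟩

instance : (flatOver A (R := R)).IsClosedUnderIsomorphisms where
  of_iso {M N} e h := by
    let _ : Module A M := Module.compHom M (algebraMap A R)
    let _ : Module A N := Module.compHom N (algebraMap A R)
    have : IsScalarTower A R M := isScalarTower_compHom A M
    have : IsScalarTower A R N := isScalarTower_compHom A N
    have : Module.Flat A M := h
    exact Module.Flat.of_linearEquiv (e.toLinearEquiv.restrictScalars A).symm

theorem flatOver_kernel (E F : ModuleCat.{u} R) (u : E ⟶ F) (hu : Epi u)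
    (hE : flatOver A E) (hF : flatOver A F) : flatOver A (kernel u) := by
  let _ : Module A E := Module.compHom E (algebraMap A R)
  let _ : Module A F := Module.compHom F (algebraMap A R)
  let _ : Module A (kernel u : ModuleCat.{u} R) := Module.compHom _ (algebraMap A R)
  have : IsScalarTower A R E := isScalarTower_compHom A E
  have : IsScalarTower A R F := isScalarTower_compHom A F
  have : IsScalarTower A R (kernel u : ModuleCat.{u} R) := isScalarTower_compHom A _
  have : Module.Flat A E := hE
  have : Module.Flat A F := hF
  have hS : (ShortComplex.mk (kernel.ι u) u (kernel.condition u)).Exact :=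
    ShortComplex.exact_of_f_is_kernel _ (kernelIsKernel u)
  rw [ShortComplex.ShortExact.moduleCat_exact_iff_function_exact] at hS
  have hi : Function.Injective (kernel.ι u).hom := (ModuleCat.mono_iff_injective _).1 inferInstance
  have hs : Function.Surjective u.hom := (ModuleCat.epi_iff_surjective _).1 hu
  exact Groth.Agent.Lib.Helper16.FlatKer.flat_of_exact ((kernel.ι u).hom.restrictScalars A)
    (u.hom.restrictScalars A) hi hs hS

theorem flatOver_of_projective [Module.Flat A R] (M : ModuleCat.{u} R) [Projective M] :
    flatOver A M := by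
  let _ : Module A M := Module.compHom M (algebraMap A R)
  have : IsScalarTower A R M := isScalarTower_compHom A M
  have : Module.Projective R M := (IsProjective.iff_projective M).2 inferInstance
  exact Module.Flat.trans A R M

variable {A' R' : Type u} [CommRing A'] [CommRing R']
  [Algebra A A'] [Algebra A R'] [Algebra A' R'] [Algebra R R']
  [IsScalarTower A A' R'] [IsScalarTower A R R'] [Algebra.IsPushout A A' R R']

include A' in
theorem mono_E_map (S : ShortComplex (ModuleCat.{u} R)) (hS : S.ShortExact)
    (h3 : flatOver A S.X₃) : Mono ((KosBC.E (algebraMap R R')).map S.f) := by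
  let _ : Module A S.X₁ := Module.compHom S.X₁ (algebraMap A R)
  let _ : Module A S.X₂ := Module.compHom S.X₂ (algebraMap A R)
  let _ : Module A S.X₃ := Module.compHom S.X₃ (algebraMap A R)
  have : IsScalarTower A R S.X₁ := isScalarTower_compHom A S.X₁
  have : IsScalarTower A R S.X₂ := isScalarTower_compHom A S.X₂
  have : IsScalarTower A R S.X₃ := isScalarTower_compHom A S.X₃
  have : Module.Flat A S.X₃ := h3
  have hinj : Function.Injective (S.f.hom.lTensor R') :=
    lTensor_injective_of_isPushout A A' S.f.hom S.g.hom
      ((ModuleCat.mono_iff_injective _).1 hS.mono_f) ((ModuleCat.epi_iff_surjective _).1 hS.epi_g)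
      ((ShortComplex.ShortExact.moduleCat_exact_iff_function_exact _).1 hS.exact)
  rw [ModuleCat.mono_iff_injective]
  let X : ModuleCat.{u} R := (ModuleCat.restrictScalars.{u} (algebraMap R R')).obj (ModuleCat.of R' R')
  let bEquiv : R' ≃ₗ[R] X :=
    { toFun := fun x => x
      invFun := fun x => x
      left_inv := fun _ => rfl
      right_inv := fun _ => rfl
      map_add' := fun _ _ => rfl
      map_smul' := fun a x => Algebra.smul_def a x }
  let c₁ : R' ⊗[R] S.X₁ ≃ₗ[R] X ⊗[R] S.X₁ := TensorProduct.congr bEquiv (LinearEquiv.refl R S.X₁)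
  let c₂ : R' ⊗[R] S.X₂ ≃ₗ[R] X ⊗[R] S.X₂ := TensorProduct.congr bEquiv (LinearEquiv.refl R S.X₂)
  have hsq : ∀ z : R' ⊗[R] S.X₁, S.f.hom.lTensor X (c₁ z) = c₂ (S.f.hom.lTensor R' z) := by
    intro z
    induction z with
    | zero => simp
    | add x y hx hy => simp only [map_add, hx, hy]
    | tmul s m => rfl
  intro z₁ z₂ h
  have h' : S.f.hom.lTensor X z₁ = S.f.hom.lTensor X z₂ := h
  obtain ⟨w₁, rfl⟩ := c₁.surjective z₁
  obtain ⟨w₂, rfl⟩ := c₁.surjective z₂
  rw [hsq, hsq] at h'
  rw [hinj (c₂.injective h')]

theorem flatOver_of_flat (M : Type u) [AddCommGroup M] [Module R M] [inst : Module A M]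
    [IsScalarTower A R M] [h : Module.Flat A M] : flatOver A (ModuleCat.of R M) := by
  have e : Module.compHom M (algebraMap A R) = inst :=
    Module.ext' _ _ (fun a m => algebraMap_smul R a m)
  change @Module.Flat A M _ _ (Module.compHom M (algebraMap A R))
  rw [e]
  exact h

open Groth.Agent.Lib.Helper2.KosTor2 in
include A' in
/-- a Koszul-regular sequence in a flat `A`-algebra with `A`-flat quotient stays Koszul-regular
after any base change `A → A'`. -/
theorem isKoszulRegularSeq_map_of_flat [Module.Flat A R] (l : List R)
    (hl : LCI.IsKoszulRegularSeq R l) [hq : Module.Flat A (R ⧸ Ideal.span {x | x ∈ l})] :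
    LCI.IsKoszulRegularSeq R' (l.map (algebraMap R R')) := by
  intro i hi
  rcases lt_or_gt_of_ne hi with h | h
  · obtain ⟨e⟩ := opcycles_iso l
    have h00 : (-((0 : ℕ) : ℤ)) = (0 : ℤ) := by norm_num
    have e0 : (Koszul.koszul R l).opcycles (-((0 : ℕ) : ℤ)) ≅ (Koszul.koszul R l).opcycles 0 :=
      eqToIso (by rw [h00])
    have hn : flatOver A ((Koszul.koszul R l).opcycles 0) :=
      (flatOver A).prop_of_iso (e0.symm ≪≫ e).symm (flatOver_of_flat A _)
    have hex : ((KosBC.EC (algebraMap R R')).obj (Koszul.koszul R l)).ExactAt i :=
      FlatOpc.exactAt_map (KosBC.E (algebraMap R R')) (flatOver A) (flatOver_kernel A)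
        (mono_E_map A (A' := A')) (Koszul.koszul R l) (i - 1) 0
        (fun j _ hj => by
          rw [HomologicalComplex.exactAt_iff_isZero_homology]
          exact hl j (by omega))
        (fun j _ _ => by
          have := projective_koszul' l j
          exact flatOver_of_projective A _)
        hn i (by omega) h
    rw [HomologicalComplex.exactAt_iff_isZero_homology] at hex
    exact IsZero.of_iso hex
      ((HomologicalComplex.homologyFunctor _ _ i).mapIso (KosBC.koszulIso (algebraMap R R') l)).symm
  · have hz : (Koszul.koszul R' (l.map (algebraMap R R'))).ExactAt i :=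
      ShortComplex.exact_of_isZero_X₂ _ (isZero_koszul_X _ i h)
    exact hz.isZero_homology

end Cat

end Groth.Agent.Lib.Helper5.KosFlatBC
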