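import Mathlib
import Groth.Agent.Lib.Helper5.KosFlatBC

set_option autoImplicit false
universe u

open CategoryTheory CategoryTheory.Limits TensorProduct

namespace Groth.Agent.Lib.Helper5.KosFlatBC

section Ideal

variable (A A' : Type u) {P P' : Type u} [CommRing A] [CommRing A'] [CommRing P] [CommRing P']
    [Algebra A A'] [Algebra A P] [Algebra A P'] [Algebra A' P'] [Algebra P P']
    [IsScalarTower A A' P'] [IsScalarTower A P P'] [Algebra.IsPushout A A' P P']

include A' in
theorem isKoszulRegularIdeal_map_of_flat [Module.Flat A P] (I : Ideal P)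
    (hI : LCI.IsKoszulRegularIdeal I) [Module.Flat A (P ⧸ I)] :
    LCI.IsKoszulRegularIdeal (I.map (algebraMap P P')) := by
  intro 𝔭' h𝔭'
  let 𝔭 : PrimeSpectrum P := PrimeSpectrum.comap (algebraMap P P') 𝔭'
  have hI𝔭 : I ≤ 𝔭.asIdeal := Ideal.map_le_iff_le_comap.1 h𝔭'
  obtain ⟨g, hg, l, hl, hspan⟩ := hI 𝔭 hI𝔭
  refine ⟨algebraMap P P' g, hg, ?_⟩
  have hu : IsUnit (algebraMap P (Localization.Away (algebraMap P P' g)) g) := by
    rw [IsScalarTower.algebraMap_apply P P' (Localization.Away (algebraMap P P' g))]
    exact IsLocalization.Away.algebraMap_isUnit (algebraMap P P' g)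
  let ψ : Localization.Away g →+* Localization.Away (algebraMap P P' g) :=
    IsLocalization.Away.lift g hu
  let _ : Algebra (Localization.Away g) (Localization.Away (algebraMap P P' g)) := ψ.toAlgebra
  have hψ : ∀ x : P, ψ (algebraMap P (Localization.Away g) x) =
      algebraMap P (Localization.Away (algebraMap P P' g)) x := fun x =>
    IsLocalization.Away.lift_eq g hu x
  have t1 : IsScalarTower P (Localization.Away g) (Localization.Away (algebraMap P P' g)) :=
    IsScalarTower.of_algebraMap_eq (fun x => (hψ x).symm)
  have t2 : IsScalarTower A (Localization.Away g) (Localization.Away (algebraMap P P' g)) :=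
    IsScalarTower.of_algebraMap_eq (fun x => by
      rw [IsScalarTower.algebraMap_apply A P (Localization.Away g)]
      change _ = ψ _
      rw [hψ, ← IsScalarTower.algebraMap_apply])
  have hloc : IsLocalization (Algebra.algebraMapSubmonoid P' (Submonoid.powers g))
      (Localization.Away (algebraMap P P' g)) := by
    have : Algebra.algebraMapSubmonoid P' (Submonoid.powers g) =
        Submonoid.powers (algebraMap P P' g) := Submonoid.map_powers _ _
    rw [this]
    infer_instance
  have hp1 : Algebra.IsPushout P P' (Localization.Away g) (Localization.Away (algebraMap P P' g)) :=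
    Algebra.isPushout_of_isLocalization (Submonoid.powers g) (Localization.Away g) P'
      (Localization.Away (algebraMap P P' g))
  have hp2 : Algebra.IsPushout P (Localization.Away g) P' (Localization.Away (algebraMap P P' g)) :=
    hp1.symm
  have hp0 : Algebra.IsPushout A P A' P' := Algebra.IsPushout.symm inferInstance
  have hp3 : Algebra.IsPushout A (Localization.Away g) A' (Localization.Away (algebraMap P P' g)) :=
    (Algebra.IsPushout.comp_iff A P A' (S' := P')).2 hp2
  have hp : Algebra.IsPushout A A' (Localization.Away g) (Localization.Away (algebraMap P P' g)) :=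
    hp3.symm
  have hfR : Module.Flat A (Localization.Away g) := Module.Flat.trans A P (Localization.Away g)
  have hlocq : IsLocalization (Algebra.algebraMapSubmonoid (P ⧸ I) (Submonoid.powers g))
      (Localization.Away g ⧸ I.map (algebraMap P (Localization.Away g))) := inferInstance
  have hfq1 : Module.Flat (P ⧸ I)
      (Localization.Away g ⧸ I.map (algebraMap P (Localization.Away g))) :=
    IsLocalization.flat _ (Algebra.algebraMapSubmonoid (P ⧸ I) (Submonoid.powers g))
  have t3 : IsScalarTower A (P ⧸ I)
      (Localization.Away g ⧸ I.map (algebraMap P (Localization.Away g))) := by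
    refine IsScalarTower.of_algebraMap_eq (fun a => ?_)
    rw [IsScalarTower.algebraMap_apply A P (P ⧸ I), ← IsScalarTower.algebraMap_apply P (P ⧸ I),
      ← IsScalarTower.algebraMap_apply A P]
  have hfq2 : Module.Flat A (Localization.Away g ⧸ I.map (algebraMap P (Localization.Away g))) :=
    Module.Flat.trans A (P ⧸ I) _
  rw [hspan] at hfq2
  have hreg := isKoszulRegularSeq_map_of_flat A (A' := A')
    (R' := Localization.Away (algebraMap P P' g)) l hl
  refine ⟨l.map ψ, hreg, ?_⟩
  rw [Ideal.map_map]
  have hcomp : (algebraMap P' (Localization.Away (algebraMap P P' g))).comp (algebraMap P P') =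
      ψ.comp (algebraMap P (Localization.Away g)) := by
    ext x
    rw [RingHom.comp_apply, RingHom.comp_apply, hψ, ← IsScalarTower.algebraMap_apply]
  rw [hcomp, ← Ideal.map_map, hspan, Ideal.map_span]
  congr 1
  ext x
  simp [List.mem_map]

end Ideal

end Groth.Agent.Lib.Helper5.KosFlatBC
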