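import Mathlib
import Groth.Prelude.Def_RegImm
import Groth.Prelude.Def_Flat
import Groth.Agent.Lib.Helper25.GlobalCI
import Groth.Agent.Lib.lead.AffLocalDim
import Groth.Agent.Lib.lead.FibreRingDim
import Groth.Agent.Lib.Helper21.FlatLocal10

/-!
# Helper5 — RelGCIA

Fibre rings of a presented algebra `R[x]/(F)` and the local dimension of `K[x]/(G)` when its
dimension is `n - c`.
-/

set_option autoImplicit false
universe u

namespace Groth.Agent.Lib.Helper5.RelGCI

open TensorProduct Synt

section Field

variable {K : Type u} [Field K] {A : Type u} [CommRing A] [Algebra K A]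

/-- In a `K`-algebra presented by `n` generators and `c` relations of dimension `n - c`, every
point has local dimension `n - c`. -/
theorem localDim_eq_of_presentation {n c : ℕ} (hcn : c ≤ n)
    (P : Algebra.Presentation K A (Fin n) (Fin c))
    (hdim : ringKrullDim A = ((n - c : ℕ) : WithBot ℕ∞)) (Q : PrimeSpectrum A) :
    FlatMor.localDim (PrimeSpectrum A) Q = ((n - c : ℕ) : WithBot ℕ∞) := by
  have : Algebra.FiniteType K A := by
    have := P.finitePresentation_of_isFinite
    exact Algebra.FiniteType.of_finitePresentation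
  rw [Groth.Agent.Lib.lead.AffLocalDim.localDim_eq (k := K) A Q]
  apply le_antisymm
  · rw [← hdim]
    have : Nonempty (PrimeSpectrum A) := ⟨Q⟩
    have h := Order.krullDim_eq_iSup_height_add_coheight_of_nonempty (α := PrimeSpectrum A)
    rw [ringKrullDim, h, WithBot.coe_le_coe]
    exact le_iSup (fun a : PrimeSpectrum A => Order.height a + Order.coheight a) Q
  · obtain ⟨P0, hP0, hle⟩ := Ideal.exists_minimalPrimes_le (I := (⊥ : Ideal A)) (J := Q.asIdeal) bot_le
    have hP0p : P0.IsPrime := hP0.1.1
    have h1 := Groth.Agent.Lib.Helper25.GlobalCI.le_ringKrullDim_quotient_minimalPrime hcn P P0 hP0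
    have h2 := Groth.Agent.Lib.Helper7.AffChain.ringKrullDim_quotient_eq_coheight
      (⟨P0, hP0p⟩ : PrimeSpectrum A)
    have h3 := Groth.Agent.Lib.lead.AffLocalDim.coheight_add_height_mono (k := K) A
      (Q := (⟨P0, hP0p⟩ : PrimeSpectrum A)) (p := Q) hle
    change ((n - c : ℕ) : WithBot ℕ∞) ≤ ringKrullDim (A ⧸ (⟨P0, hP0p⟩ : PrimeSpectrum A).asIdeal) at h1
    rw [h2] at h1
    refine h1.trans ?_
    rw [WithBot.coe_le_coe]
    calc Order.coheight (⟨P0, hP0p⟩ : PrimeSpectrum A)
        ≤ Order.coheight (⟨P0, hP0p⟩ : PrimeSpectrum A) + Order.height (⟨P0, hP0p⟩ : PrimeSpectrum A) :=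
          le_self_add
      _ ≤ Order.coheight Q + Order.height Q := h3
      _ = Order.height Q + Order.coheight Q := add_comm _ _

end Field


section Rel

variable (R : Type u) [CommRing R] (n c : ℕ) (F : Fin c → MvPolynomial (Fin n) R)

/-- the presentation of a fibre ring of `R[x]/(F)`. -/
noncomputable def fibrePresentation (p : Ideal R) [p.IsPrime] :
    Algebra.Presentation p.ResidueField (p.Fiber (RelGCIRing R n c F)) (Fin n) (Fin c) :=
  (Algebra.Presentation.naive (v := F)).baseChange p.ResidueField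

/-- local dimension of the fibre rings of a relative global complete intersection. -/
theorem localDim_fibre_eq (hF : IsRelGCI R n c F) (p : Ideal R) [p.IsPrime]
    (Q : PrimeSpectrum (p.Fiber (RelGCIRing R n c F))) :
    FlatMor.localDim (PrimeSpectrum (p.Fiber (RelGCIRing R n c F))) Q =
      ((n - c : ℕ) : WithBot ℕ∞) := by
  have hnt : Nontrivial (p.Fiber (RelGCIRing R n c F)) := Q.nontrivial
  obtain ⟨hcn, hdim⟩ := hF ⟨p, inferInstance⟩ hnt
  exact localDim_eq_of_presentation hcn (fibrePresentation R n c F p) hdim Q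

/-- the fibre dimension of `Spec R[x]/(F) ⟶ Spec R` for a relative global complete intersection. -/
theorem fibreDimAt_eq (hF : IsRelGCI R n c F) (x : PrimeSpectrum (RelGCIRing R n c F)) :
    FlatMor.fibreDimAt (AlgebraicGeometry.Spec.map
      (CommRingCat.ofHom (algebraMap R (RelGCIRing R n c F)))) x =
      ((n - c : ℕ) : WithBot ℕ∞) := by
  have hx := x.isPrime
  obtain ⟨Q, hQ, hq⟩ := Groth.Agent.Lib.Helper21.FlatLocal.exists_fiber_prime
    (x.asIdeal.under R) x.asIdeal rfl
  rw [← Groth.Agent.Lib.lead.FibreRingDim.localDim_fiberRing_eq R (RelGCIRing R n c F) x ⟨Q, hQ⟩ hq.symm]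
  exact localDim_fibre_eq R n c F hF (x.asIdeal.under R) ⟨Q, hQ⟩

end Rel

end Groth.Agent.Lib.Helper5.RelGCI
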