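import Mathlib
import Groth.Agent.Lib.Helper5.RelGCIA
import Groth.Agent.Lib.Helper5.RelGCIB
import Groth.Agent.Lib.Helper5.CIFieldB

/-!
# Helper5 — RelGCIC

A relative global complete intersection over a Noetherian ring: regular sequence in the local rings
of the polynomial ring, flat partial quotients, flatness of `R[x]/(F)`.
-/

set_option autoImplicit false
universe u

namespace Groth.Agent.Lib.Helper5.RelGCI

open RingTheory.Sequence IsLocalRing Synt TensorProduct

variable {A : Type u} [CommRing A] {n c : ℕ} (F : Fin c → MvPolynomial (Fin n) A)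

theorem map_ofList_ofFn (p : Ideal A) [p.IsPrime] :
    (Ideal.ofList (List.ofFn F)).map (MvPolynomial.map (algebraMap A p.ResidueField)) =
      (fibrePresentation A n c F p).ker := by
  rw [← (fibrePresentation A n c F p).span_range_relation_eq_ker,
    Groth.Agent.Lib.Helper5.CIField.ofList_ofFn_eq_span_range, Ideal.map_span, ← Set.range_comp]
  rfl

theorem ringKrullDim_fibre_eq (p : Ideal A) [p.IsPrime] :
    ringKrullDim (MvPolynomial (Fin n) p.ResidueField ⧸
      (Ideal.ofList (List.ofFn F)).map (MvPolynomial.map (algebraMap A p.ResidueField))) =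
      ringKrullDim (p.Fiber (RelGCIRing A n c F)) := by
  rw [map_ofList_ofFn]
  exact ringKrullDim_eq_of_ringEquiv (fibrePresentation A n c F p).quotientEquiv.toRingEquiv

theorem nontrivial_fibre_of_le (Q : Ideal (MvPolynomial (Fin n) A)) [Q.IsPrime]
    (hQ : Ideal.span (Set.range F) ≤ Q) (p : Ideal A) [p.IsPrime]
    (hp : Q.comap MvPolynomial.C = p) : Nontrivial (p.Fiber (RelGCIRing A n c F)) := by
  have hsurj : Function.Surjective (Ideal.Quotient.mk (Ideal.span (Set.range F))) :=
    Ideal.Quotient.mk_surjective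
  have hker : RingHom.ker (Ideal.Quotient.mk (Ideal.span (Set.range F))) ≤ Q := by
    rw [Ideal.mk_ker]; exact hQ
  have hq : (Q.map (Ideal.Quotient.mk (Ideal.span (Set.range F)))).IsPrime :=
    Ideal.map_isPrime_of_surjective hsurj hker
  have hcomap : (Q.map (Ideal.Quotient.mk (Ideal.span (Set.range F)))).comap
      (Ideal.Quotient.mk (Ideal.span (Set.range F))) = Q := by
    rw [Ideal.comap_map_of_surjective _ hsurj, ← RingHom.ker_eq_comap_bot]
    exact sup_eq_left.2 hker
  have hunder : (Q.map (Ideal.Quotient.mk (Ideal.span (Set.range F)))).under A = p := by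
    rw [Ideal.under, IsScalarTower.algebraMap_eq A (MvPolynomial (Fin n) A) (RelGCIRing A n c F),
      ← Ideal.comap_comap, Ideal.Quotient.algebraMap_eq, hcomap, MvPolynomial.algebraMap_eq, hp]
  obtain ⟨Q', hQ', -⟩ := Groth.Agent.Lib.Helper21.FlatLocal.exists_fiber_prime p _ hunder
  exact (⟨Q', hQ'⟩ : PrimeSpectrum _).nontrivial


theorem regular_flat_of_isRelGCI [IsNoetherianRing A] (hF : IsRelGCI A n c F)
    (Q : Ideal (MvPolynomial (Fin n) A)) [Q.IsPrime] (hQ : Ideal.span (Set.range F) ≤ Q) :
    IsWeaklyRegular (Localization.AtPrime Q)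
        ((List.ofFn F).map (algebraMap (MvPolynomial (Fin n) A) (Localization.AtPrime Q))) ∧
      ∀ i : ℕ, Module.Flat A (Localization.AtPrime Q ⧸ Ideal.ofList
        (((List.ofFn F).take i).map (algebraMap (MvPolynomial (Fin n) A) (Localization.AtPrime Q)))) := by
  have hp : (Q.comap (MvPolynomial.C : A →+* MvPolynomial (Fin n) A)).IsPrime :=
    Ideal.comap_isPrime _ _
  have hnt := nontrivial_fibre_of_le F Q hQ _ rfl
  obtain ⟨hcn, hdim⟩ := hF ⟨_, hp⟩ hnt
  refine regular_flat_localization Q _ rfl (List.ofFn F) ?_ ?_ ?_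
  · rw [Groth.Agent.Lib.Helper5.CIField.ofList_ofFn_eq_span_range]; exact hQ
  · rw [List.length_ofFn]; exact hcn
  · rw [List.length_ofFn, ringKrullDim_fibre_eq]
    exact hdim.le


theorem flat_of_isRelGCI_of_isNoetherianRing [IsNoetherianRing A] (hF : IsRelGCI A n c F) :
    Module.Flat A (RelGCIRing A n c F) := by
  refine Module.flat_of_isLocalized_maximal (RelGCIRing A n c F) (RelGCIRing A n c F)
    (fun q _ => Localization.AtPrime q) (fun q _ => Algebra.linearMap _ _) ?_
  intro q hq
  obtain ⟨I, hI⟩ : ∃ I : Ideal (MvPolynomial (Fin n) A), I = Ideal.span (Set.range F) := ⟨_, rfl⟩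
  have hsurj : Function.Surjective (Ideal.Quotient.mk (Ideal.span (Set.range F))) :=
    Ideal.Quotient.mk_surjective
  have hQp : (q.comap (Ideal.Quotient.mk (Ideal.span (Set.range F)))).IsPrime :=
    Ideal.comap_isPrime _ _
  obtain ⟨Q, hQdef⟩ : ∃ Q : Ideal (MvPolynomial (Fin n) A),
      Q = q.comap (Ideal.Quotient.mk (Ideal.span (Set.range F))) := ⟨_, rfl⟩
  rw [← hQdef] at hQp
  have hQ : Ideal.span (Set.range F) ≤ Q := by
    rw [hQdef]
    intro x hx
    rw [Ideal.mem_comap, Ideal.Quotient.eq_zero_iff_mem.2 hx]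
    exact zero_mem _
  have hmapQ : Q.map (Ideal.Quotient.mk (Ideal.span (Set.range F))) = q := by
    rw [hQdef, Ideal.map_comap_of_surjective _ hsurj]
  obtain ⟨-, hflat⟩ := regular_flat_of_isRelGCI F hF Q hQ
  have h1 := hflat c
  have htake : (List.ofFn F).take c = List.ofFn F := by
    apply List.take_of_length_le
    rw [List.length_ofFn]
  rw [htake, ← Ideal.map_ofList, Groth.Agent.Lib.Helper5.CIField.ofList_ofFn_eq_span_range] at h1
  have hloc0 : IsLocalization (Algebra.algebraMapSubmonoid (RelGCIRing A n c F) Q.primeCompl)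
      (Localization.AtPrime Q ⧸ (Ideal.span (Set.range F)).map
        (algebraMap (MvPolynomial (Fin n) A) (Localization.AtPrime Q))) := inferInstance
  have hcompl : Algebra.algebraMapSubmonoid (RelGCIRing A n c F) Q.primeCompl = q.primeCompl := by
    have hker : RingHom.ker (Ideal.Quotient.mk (Ideal.span (Set.range F))) ≤ Q := by
      rw [Ideal.mk_ker]; exact hQ
    have hq' : (Q.map (Ideal.Quotient.mk (Ideal.span (Set.range F)))).IsPrime := by
      rw [hmapQ]; exact hq.isPrime
    have := Groth.Agent.Lib.Helper5.FibReg.primeCompl_map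
      (Ideal.Quotient.mk (Ideal.span (Set.range F))) hsurj Q hker
    change Q.primeCompl.map (Ideal.Quotient.mk (Ideal.span (Set.range F))) = _
    rw [this]
    congr 1
  rw [hcompl] at hloc0
  have hst : IsScalarTower A (RelGCIRing A n c F) (Localization.AtPrime Q ⧸
      (Ideal.span (Set.range F)).map
        (algebraMap (MvPolynomial (Fin n) A) (Localization.AtPrime Q))) := by
    refine IsScalarTower.of_algebraMap_eq (R := A) (S := RelGCIRing A n c F)
      (A := Localization.AtPrime Q ⧸ (Ideal.span (Set.range F)).map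
        (algebraMap (MvPolynomial (Fin n) A) (Localization.AtPrime Q))) fun a => ?_
    have e1 : algebraMap A (RelGCIRing A n c F) a =
        Ideal.Quotient.mk _ (algebraMap A (MvPolynomial (Fin n) A) a) := rfl
    have e2 : algebraMap A (Localization.AtPrime Q ⧸ (Ideal.span (Set.range F)).map
        (algebraMap (MvPolynomial (Fin n) A) (Localization.AtPrime Q))) a =
        Ideal.Quotient.mk _ (algebraMap A (Localization.AtPrime Q) a) := rfl
    rw [e1, e2, Ideal.Quotient.algebraMap_quotient_map_quotient,
      ← IsScalarTower.algebraMap_apply A (MvPolynomial (Fin n) A) (Localization.AtPrime Q)]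
  let e := IsLocalization.algEquiv q.primeCompl (Localization.AtPrime q)
    (Localization.AtPrime Q ⧸ (Ideal.span (Set.range F)).map
      (algebraMap (MvPolynomial (Fin n) A) (Localization.AtPrime Q)))
  exact Module.Flat.of_linearEquiv (e.restrictScalars A).toLinearEquiv

end Groth.Agent.Lib.Helper5.RelGCI
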