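import Mathlib
import Groth.Agent.Lib.Helper5.RelGCIC
import Groth.Agent.Lib.Helper5.RelGCIE
import Groth.Agent.S9148

/-!
# Helper5 — RelGCIF

For a relative global complete intersection over an arbitrary ring `R` and a prime `Q` of `R[x]`
containing the relations: the relations form a weakly regular sequence in `R[x]_Q`, with `R`-flat
partial quotients.
-/

set_option autoImplicit false
universe u

namespace Groth.Agent.Lib.Helper5.RelGCI

open RingTheory.Sequence Synt TensorProduct

attribute [local instance] MvPolynomial.algebraMvPolynomial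

variable (R : Type u) [CommRing R] (n c : ℕ) (F : Fin c → MvPolynomial (Fin n) R)

set_option maxSynthPendingDepth 3 in
theorem regular_flat_of_isRelGCI' (hF : IsRelGCI R n c F)
    (Q : Ideal (MvPolynomial (Fin n) R)) [Q.IsPrime] (hQ : Ideal.span (Set.range F) ≤ Q) :
    IsWeaklyRegular (Localization.AtPrime Q)
        ((List.ofFn F).map (algebraMap (MvPolynomial (Fin n) R) (Localization.AtPrime Q))) ∧
      ∀ i : ℕ, Module.Flat R (Localization.AtPrime Q ⧸ Ideal.ofList
        (((List.ofFn F).take i).map (algebraMap (MvPolynomial (Fin n) R) (Localization.AtPrime Q)))) := by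
  obtain ⟨R₀, F₀, hft, hmap, h₀⟩ := Groth.Agent.S9148.result R n c F hF
  have hN : IsNoetherianRing R₀ := Algebra.FiniteType.isNoetherianRing ℤ R₀
  have hQ₀p : (Q.comap (algebraMap (MvPolynomial (Fin n) R₀) (MvPolynomial (Fin n) R))).IsPrime :=
    Ideal.comap_isPrime _ _
  obtain ⟨Q₀, hQ₀⟩ : ∃ Q₀ : Ideal (MvPolynomial (Fin n) R₀),
      Q₀ = Q.comap (algebraMap (MvPolynomial (Fin n) R₀) (MvPolynomial (Fin n) R)) := ⟨_, rfl⟩
  rw [← hQ₀] at hQ₀p
  have hmap' : ∀ i, algebraMap (MvPolynomial (Fin n) R₀) (MvPolynomial (Fin n) R) (F₀ i) = F i := by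
    intro i
    rw [MvPolynomial.algebraMap_def]
    exact hmap i
  have hle₀ : Ideal.span (Set.range F₀) ≤ Q₀ := by
    rw [Ideal.span_le]
    rintro _ ⟨i, rfl⟩
    rw [hQ₀, SetLike.mem_coe, Ideal.mem_comap, hmap']
    exact hQ (Ideal.subset_span ⟨i, rfl⟩)
  obtain ⟨hreg, hfl⟩ := regular_flat_of_isRelGCI F₀ h₀ Q₀ hle₀
  have hle : Algebra.algebraMapSubmonoid (MvPolynomial (Fin n) R) Q₀.primeCompl ≤ Q.primeCompl := by
    rintro _ ⟨x, hx, rfl⟩
    intro hmem
    apply hx
    rw [hQ₀]
    exact hmem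
  have hlist : (List.ofFn F₀).map (algebraMap (MvPolynomial (Fin n) R₀) (MvPolynomial (Fin n) R)) =
      List.ofFn F := by
    rw [List.map_ofFn]
    congr 1
    funext i
    exact hmap' i
  have key := regular_flat_baseChange (R₀ := R₀) (R := R) (P₀ := MvPolynomial (Fin n) R₀)
    (P := MvPolynomial (Fin n) R) (L₀ := Localization.AtPrime Q₀) (L := Localization.AtPrime Q)
    Q₀.primeCompl Q.primeCompl hle (List.ofFn F₀) hreg hfl
  rw [hlist] at key
  refine ⟨key.1, fun i => ?_⟩
  have h2 := key.2 i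
  rw [List.map_take, hlist] at h2
  exact h2

end Groth.Agent.Lib.Helper5.RelGCI
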