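import Mathlib
import Groth.Prelude.Def_LCI2
import Groth.Agent.Lib.Helper5.RelGCIF
import Groth.Agent.Lib.Helper5.KosDescA
import Groth.Agent.Lib.Helper5.RegImmB

/-!
# Helper5 — RelGCIH

The relations of a relative global complete intersection form a Koszul-regular sequence.
-/

set_option autoImplicit false
universe u

namespace Groth.Agent.Lib.Helper5.RelGCI

open RingTheory.Sequence Synt

variable (R : Type u) [CommRing R] (n c : ℕ) (F : Fin c → MvPolynomial (Fin n) R)

theorem isKoszulRegularSeq_of_isRelGCI (hF : IsRelGCI R n c F) :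
    LCI.IsKoszulRegularSeq (MvPolynomial (Fin n) R) (List.ofFn F) := by
  apply Groth.Agent.Lib.Helper5.KosDesc.isKoszulRegularSeq_of_forall_maximal
  intro m hm
  by_cases h : Ideal.span (Set.range F) ≤ m
  · exact Groth.Agent.Lib.Helper5.RegImmB.isKoszulRegularSeq_of_isWeaklyRegular _
      (regular_flat_of_isRelGCI' R n c F hF m h).1
  · apply Groth.Agent.Lib.Helper5.KosDesc.isKoszulRegularSeq_of_ofList_eq_top
    rw [Ideal.span_le] at h
    obtain ⟨_, ⟨i, rfl⟩, hi⟩ := Set.not_subset.1 h
    have hu : IsUnit (algebraMap (MvPolynomial (Fin n) R) (Localization.AtPrime m) (F i)) :=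
      IsLocalization.map_units (Localization.AtPrime m) (⟨F i, hi⟩ : m.primeCompl)
    refine Ideal.eq_top_of_isUnit_mem _ (Ideal.subset_span ?_) hu
    exact List.mem_map.2 ⟨F i, (List.mem_ofFn' F _).2 ⟨i, rfl⟩, rfl⟩

end Groth.Agent.Lib.Helper5.RelGCI
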