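import Mathlib
import Groth.Agent.Lib.Helper5.RelGCIC
import Groth.Agent.Lib.Helper5.CIFieldJ
import Groth.Agent.S9148

/-!
# Helper5 — RelGCID

A relative global complete intersection over any ring is flat, and syntomic.
-/

set_option autoImplicit false
universe u

namespace Groth.Agent.Lib.Helper5.RelGCI

open Synt TensorProduct

variable (R : Type u) [CommRing R] (n c : ℕ) (F : Fin c → MvPolynomial (Fin n) R)

theorem flat_of_isRelGCI (hF : IsRelGCI R n c F) : Module.Flat R (RelGCIRing R n c F) := by
  obtain ⟨R₀, F₀, hft, hmap, h₀⟩ := Groth.Agent.S9148.result R n c F hF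
  have hN : IsNoetherianRing R₀ := Algebra.FiniteType.isNoetherianRing ℤ R₀
  have hfl := flat_of_isRelGCI_of_isNoetherianRing F₀ h₀
  let e := Groth.Agent.Lib.Helper25.RelGCIApprox.relEquiv n c F₀ F (fun i => (hmap i).symm)
  exact Module.Flat.of_linearEquiv e.toLinearEquiv

theorem isLCIOver_fibre (hF : IsRelGCI R n c F) (p : Ideal R) [p.IsPrime] :
    IsLCIOver p.ResidueField (p.Fiber (RelGCIRing R n c F)) := by
  have hft : Algebra.FiniteType p.ResidueField (p.Fiber (RelGCIRing R n c F)) := by
    have := (fibrePresentation R n c F p).finitePresentation_of_isFinite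
    exact Algebra.FiniteType.of_finitePresentation (R := p.ResidueField)
      (A := p.Fiber (RelGCIRing R n c F))
  apply Groth.Agent.Lib.Helper5.CIField.isLCIOver_of_isGlobalCI
  rcases subsingleton_or_nontrivial (p.Fiber (RelGCIRing R n c F)) with h | h
  · exact Or.inl h
  · obtain ⟨hcn, hdim⟩ := hF ⟨p, inferInstance⟩ h
    exact Groth.Agent.Lib.Helper25.FiniteSyntomic.isGlobalCI_of_presentation _ _ n c hcn
      (fibrePresentation R n c F p) hdim

theorem isSyntomic_of_isRelGCI (hF : IsRelGCI R n c F) : IsSyntomic R (RelGCIRing R n c F) :=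
  ⟨flat_of_isRelGCI R n c F hF,
    Groth.Agent.Lib.Helper25.RelGCIApprox.finitePresentation_relGCIRing R n c F,
    fun p => isLCIOver_fibre R n c F hF p.asIdeal⟩

end Groth.Agent.Lib.Helper5.RelGCI
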