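import Mathlib
import Groth.Prelude.Def_RegImm
import Groth.Agent.Lib.Helper5.RegGens
import Groth.Agent.Lib.Helper5.KosDescA
import Groth.Agent.Lib.Helper21.QRDescent
import Groth.Agent.Lib.Helper5.CIFieldJ

/-!
# Helper5 — RelGCIQ

General lemmas towards the local characterisation of syntomic maps: choosing a regular
generating subfamily, comparing localizations of two quotients, flatness of a local ring of a
quotient.
-/

set_option autoImplicit false
universe u

namespace Groth.Agent.Lib.Helper5.RelGCI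

open RingTheory.Sequence IsLocalRing

section SubRegular

variable {B : Type u} [CommRing B] [IsLocalRing B] [IsNoetherianRing B]

/-- in a Noetherian local ring, any finite generating family of an ideal generated by a regular
sequence contains a regular generating subfamily of the same length. -/
theorem exists_sub_regular (rs : List B) (hrs : IsRegular B rs) {m : ℕ} (b : Fin m → B)
    (hb : Ideal.span (Set.range b) = Ideal.ofList rs) :
    ∃ e : Fin rs.length → Fin m, IsRegular B (List.ofFn (b ∘ e)) ∧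
      Ideal.span (Set.range (b ∘ e)) = Ideal.ofList rs := by
  have hqr : CAlgX.IsQuasiRegular rs.get :=
    Groth.Agent.S5802.result B rs.length rs.get (by rw [List.ofFn_get]; exact hrs.1)
  have hγ : Ideal.span (Set.range rs.get) = Ideal.ofList rs :=
    (Groth.Agent.Lib.Helper5.RegGens.ofList_eq_span_range_get rs).symm
  have hne : Ideal.ofList rs ≠ ⊤ := Groth.Agent.Lib.Helper5.RegComp.ofList_ne_top_of_isRegular hrs
  have hrel : ∀ c : Fin rs.length → B, ∑ k, c k * rs.get k = 0 →
      ∀ k, c k ∈ Ideal.span (Set.range rs.get) := by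
    intro c hc k
    exact Groth.Agent.Lib.Helper21.QRDescent.coeff_mem_of_qr rs.get hqr c
      (by rw [hc]; exact Ideal.zero_mem _) k
  have hL : Ideal.span (Set.range rs.get) ≤ maximalIdeal B := by
    rw [hγ]; exact le_maximalIdeal hne
  obtain ⟨e, he⟩ := Groth.Agent.Lib.Helper5.KosDesc.exists_sub_of_rel rs.get hrel hL b
    (hb.trans hγ.symm)
  refine ⟨e, ?_, he.trans hγ⟩
  refine Groth.Agent.Lib.Helper5.RegGens.isRegular_of_ofList_eq rs _ hrs (List.length_ofFn) ?_
  rw [Groth.Agent.Lib.Helper5.RegGens.ofList_eq_span_range_get (List.ofFn (b ∘ e))]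
  rw [← hγ, ← he]
  congr 1
  ext x
  simp only [Set.mem_range, List.get_eq_getElem, List.getElem_ofFn, Function.comp_apply]
  constructor
  · rintro ⟨i, rfl⟩
    exact ⟨Fin.cast (List.length_ofFn) i, rfl⟩
  · rintro ⟨i, rfl⟩
    exact ⟨Fin.cast (List.length_ofFn).symm i, rfl⟩

end SubRegular

section AwayQuot

variable {R A : Type u} [CommRing R] [CommRing A] [Algebra R A]

theorem nonempty_away_quotient_equiv (I J : Ideal A) (hJI : J ≤ I) (t₀ h₁ : A)
    (ht : ∀ a ∈ I, t₀ * a ∈ J) :
    Nonempty (Localization.Away (Ideal.Quotient.mk I (t₀ * h₁)) ≃ₐ[R]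
      Localization.Away (Ideal.Quotient.mk J (t₀ * h₁))) := by
  obtain ⟨h, hh⟩ : ∃ h : A, h = t₀ * h₁ := ⟨_, rfl⟩
  rw [← hh]
  let π : (A ⧸ J) →ₐ[R] (A ⧸ I) := Ideal.Quotient.factorₐ R hJI
  have hπ : ∀ a : A, π (Ideal.Quotient.mk J a) = Ideal.Quotient.mk I a := fun a => rfl
  let T := Localization.Away (Ideal.Quotient.mk I h)
  let alg : Algebra (A ⧸ J) T := ((algebraMap (A ⧸ I) T).comp π.toRingHom).toAlgebra
  have halg : ∀ x : A ⧸ J, algebraMap (A ⧸ J) T x = algebraMap (A ⧸ I) T (π x) := fun x => rfl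
  have hst : IsScalarTower R (A ⧸ J) T := IsScalarTower.of_algebraMap_eq fun r => by
    rw [halg, π.commutes, ← IsScalarTower.algebraMap_apply]
  have hloc : IsLocalization.Away (Ideal.Quotient.mk J h) T := by
    refine IsLocalization.Away.mk _ ?_ ?_ ?_
    · rw [halg, hπ]
      exact IsLocalization.Away.algebraMap_isUnit _
    · intro s
      obtain ⟨k, a, hka⟩ := IsLocalization.Away.surj (Ideal.Quotient.mk I h) s
      obtain ⟨a', rfl⟩ := Ideal.Quotient.mk_surjective a
      exact ⟨k, Ideal.Quotient.mk J a', by rw [halg, halg, hπ, hπ]; exact hka⟩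
    · intro a b hab
      obtain ⟨a', rfl⟩ := Ideal.Quotient.mk_surjective a
      obtain ⟨b', rfl⟩ := Ideal.Quotient.mk_surjective b
      rw [halg, halg, hπ, hπ] at hab
      obtain ⟨k, hk⟩ := IsLocalization.Away.exists_of_eq (Ideal.Quotient.mk I h) hab
      refine ⟨k + 1, ?_⟩
      rw [← map_pow, ← map_mul, ← map_mul, Ideal.Quotient.mk_eq_mk_iff_sub_mem] at hk ⊢
      have h1 := J.mul_mem_left h₁ (ht _ hk)
      have h2 : h ^ (k + 1) * a' - h ^ (k + 1) * b' = h₁ * (t₀ * (h ^ k * a' - h ^ k * b')) := by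
        rw [hh]; ring
      rw [h2]
      exact h1
  exact ⟨(IsLocalization.algEquiv (Submonoid.powers (Ideal.Quotient.mk J h))
    (Localization.Away (Ideal.Quotient.mk J h)) T).symm.restrictScalars R⟩

end AwayQuot

section FlatQuot

variable {R P : Type u} [CommRing R] [CommRing P] [Algebra R P]

theorem algebraMapSubmonoid_primeCompl_comap (I : Ideal P) (q : Ideal (P ⧸ I)) [q.IsPrime] :
    Algebra.algebraMapSubmonoid (P ⧸ I) (q.comap (Ideal.Quotient.mk I)).primeCompl =
      q.primeCompl := by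
  ext x
  constructor
  · rintro ⟨a, ha, rfl⟩
    exact ha
  · intro hx
    obtain ⟨a, rfl⟩ := Ideal.Quotient.mk_surjective x
    exact ⟨a, hx, rfl⟩

theorem nonempty_atPrime_quotient_equiv (I : Ideal P) (q : Ideal (P ⧸ I)) [q.IsPrime]
    (Q : Ideal P) [Q.IsPrime] (hQ : Q = q.comap (Ideal.Quotient.mk I)) :
    Nonempty (Localization.AtPrime q ≃ₐ[R]
      (Localization.AtPrime Q ⧸ I.map (algebraMap P (Localization.AtPrime Q)))) := by
  subst hQ
  have hloc0 : IsLocalization (Algebra.algebraMapSubmonoid (P ⧸ I)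
      (q.comap (Ideal.Quotient.mk I)).primeCompl)
      (Localization.AtPrime (q.comap (Ideal.Quotient.mk I)) ⧸
        I.map (algebraMap P (Localization.AtPrime (q.comap (Ideal.Quotient.mk I))))) :=
    inferInstance
  rw [algebraMapSubmonoid_primeCompl_comap] at hloc0
  have hst : IsScalarTower R (P ⧸ I) (Localization.AtPrime (q.comap (Ideal.Quotient.mk I)) ⧸
        I.map (algebraMap P (Localization.AtPrime (q.comap (Ideal.Quotient.mk I))))) := by
    refine IsScalarTower.of_algebraMap_eq (R := R) (S := P ⧸ I)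
      (A := Localization.AtPrime (q.comap (Ideal.Quotient.mk I)) ⧸
        I.map (algebraMap P (Localization.AtPrime (q.comap (Ideal.Quotient.mk I))))) fun a => ?_
    have e1 : algebraMap R (P ⧸ I) a = Ideal.Quotient.mk _ (algebraMap R P a) := rfl
    have e2 : algebraMap R (Localization.AtPrime (q.comap (Ideal.Quotient.mk I)) ⧸
        I.map (algebraMap P (Localization.AtPrime (q.comap (Ideal.Quotient.mk I))))) a =
        Ideal.Quotient.mk _ (algebraMap R (Localization.AtPrime (q.comap (Ideal.Quotient.mk I))) a) :=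
      rfl
    rw [e1, e2, Ideal.Quotient.algebraMap_quotient_map_quotient,
      ← IsScalarTower.algebraMap_apply R P (Localization.AtPrime (q.comap (Ideal.Quotient.mk I)))]
  exact ⟨(IsLocalization.algEquiv q.primeCompl (Localization.AtPrime q)
    (Localization.AtPrime (q.comap (Ideal.Quotient.mk I)) ⧸
        I.map (algebraMap P (Localization.AtPrime (q.comap (Ideal.Quotient.mk I)))))).restrictScalars R⟩

end FlatQuot

section W1

open Groth.Agent.Lib.Helper5.CIField

variable {k : Type u} [Field k] {A : Type u} [CommRing A] [Algebra k A]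

theorem isCIOver_atPrime_congr (q₁ q₂ : Ideal A) [q₁.IsPrime] [q₂.IsPrime] (h : q₁ = q₂)
    (hci : Synt.IsCIOver k (Localization.AtPrime q₁)) :
    Synt.IsCIOver k (Localization.AtPrime q₂) := by
  subst h
  exact hci

/-- the two directions at once: the local ring of `A` at `q` versus that of `A_g`. -/
theorem isCIOver_atPrime_away_iff (q : Ideal A) [hq : q.IsPrime] (g : A) (hg : g ∉ q)
    (p : Ideal (Localization.Away g)) [hp : p.IsPrime]
    (hpq : p = q.map (algebraMap A (Localization.Away g))) :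
    Synt.IsCIOver k (Localization.AtPrime p) ↔ Synt.IsCIOver k (Localization.AtPrime q) := by
  have hdisj : Disjoint (Submonoid.powers g : Set A) (q : Set A) := by
    rw [Set.disjoint_left]
    rintro _ ⟨m, rfl⟩ hm
    exact hg (hq.mem_of_pow_mem m hm)
  have hcomap : p.comap (algebraMap A (Localization.Away g)) = q := by
    rw [hpq]
    exact IsLocalization.under_map_of_isPrime_disjoint (Submonoid.powers g) _ hq hdisj
  let e := (IsLocalization.localizationLocalizationAtPrimeIsoLocalization
    (Submonoid.powers g) p).restrictScalars k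
  constructor
  · intro h1
    exact isCIOver_atPrime_congr _ _ hcomap (IsCIOver.of_algEquiv e.symm h1)
  · intro h1
    exact IsCIOver.of_algEquiv e (isCIOver_atPrime_congr _ _ hcomap.symm h1)

theorem isCIOver_atPrime_of_isLCIOver_away' (q : Ideal A) [hq : q.IsPrime] (g : A) (hg : g ∉ q)
    (h : Synt.IsLCIOver k (Localization.Away g)) : Synt.IsCIOver k (Localization.AtPrime q) := by
  have hft : Algebra.FiniteType k (Localization.Away g) := h.1
  have hdisj : Disjoint (Submonoid.powers g : Set A) (q : Set A) := by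
    rw [Set.disjoint_left]
    rintro _ ⟨m, rfl⟩ hm
    exact hg (hq.mem_of_pow_mem m hm)
  have hp : (q.map (algebraMap A (Localization.Away g))).IsPrime :=
    IsLocalization.isPrime_of_isPrime_disjoint (Submonoid.powers g) _ q hq hdisj
  obtain ⟨h', hh', hG⟩ := h.2 ⟨_, hp⟩
  have h1 : Synt.IsCIOver k (Localization.AtPrime (q.map (algebraMap A (Localization.Away g)))) :=
    (isCIOver_atPrime_iff _).2 ⟨h', hh', hG⟩
  exact (isCIOver_atPrime_away_iff q g hg _ rfl).1 h1

end W1

section AwayQuot2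

variable {R A T : Type u} [CommRing R] [CommRing A] [Algebra R A] [CommRing T] [Algebra R T]

theorem nonempty_away_equiv_of_surjective (π : A →ₐ[R] T) (hπ : Function.Surjective π)
    (J : Ideal A) (hJ : ∀ a ∈ J, π a = 0) (t₀ h₁ : A)
    (ht : ∀ a : A, π a = 0 → t₀ * a ∈ J) :
    Nonempty (Localization.Away (π (t₀ * h₁)) ≃ₐ[R]
      Localization.Away (Ideal.Quotient.mk J (t₀ * h₁))) := by
  obtain ⟨h, hh⟩ : ∃ h : A, h = t₀ * h₁ := ⟨_, rfl⟩
  rw [← hh]
  let π' : (A ⧸ J) →ₐ[R] T := Ideal.Quotient.liftₐ J π hJ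
  have hπ' : ∀ a : A, π' (Ideal.Quotient.mk J a) = π a := fun a => rfl
  let U := Localization.Away (π h)
  let alg : Algebra (A ⧸ J) U := ((algebraMap T U).comp π'.toRingHom).toAlgebra
  have halg : ∀ x : A ⧸ J, algebraMap (A ⧸ J) U x = algebraMap T U (π' x) := fun x => rfl
  have hst : IsScalarTower R (A ⧸ J) U := IsScalarTower.of_algebraMap_eq fun r => by
    rw [halg, π'.commutes, ← IsScalarTower.algebraMap_apply]
  have hloc : IsLocalization.Away (Ideal.Quotient.mk J h) U := by
    refine IsLocalization.Away.mk _ ?_ ?_ ?_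
    · rw [halg, hπ']
      exact IsLocalization.Away.algebraMap_isUnit _
    · intro s
      obtain ⟨k, a, hka⟩ := IsLocalization.Away.surj (π h) s
      obtain ⟨a', rfl⟩ := hπ a
      exact ⟨k, Ideal.Quotient.mk J a', by rw [halg, halg, hπ', hπ']; exact hka⟩
    · intro a b hab
      obtain ⟨a', rfl⟩ := Ideal.Quotient.mk_surjective a
      obtain ⟨b', rfl⟩ := Ideal.Quotient.mk_surjective b
      rw [halg, halg, hπ', hπ'] at hab
      obtain ⟨k, hk⟩ := IsLocalization.Away.exists_of_eq (π h) hab
      refine ⟨k + 1, ?_⟩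
      rw [← map_pow, ← map_mul, ← map_mul, ← sub_eq_zero, ← map_sub] at hk
      rw [← map_pow, ← map_mul, ← map_mul, Ideal.Quotient.mk_eq_mk_iff_sub_mem]
      have h1 := J.mul_mem_left h₁ (ht _ hk)
      have h2 : h ^ (k + 1) * a' - h ^ (k + 1) * b' = h₁ * (t₀ * (h ^ k * a' - h ^ k * b')) := by
        rw [hh]; ring
      rw [h2]
      exact h1
  exact ⟨(IsLocalization.algEquiv (Submonoid.powers (Ideal.Quotient.mk J h))
    (Localization.Away (Ideal.Quotient.mk J h)) U).symm.restrictScalars R⟩

end AwayQuot2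

section FlatQuot2

variable {R P T : Type u} [CommRing R] [CommRing P] [Algebra R P] [CommRing T] [Algebra R T]

theorem flat_atPrime_quotient_of_surjective (Ψ : P →ₐ[R] T) (hΨ : Function.Surjective Ψ)
    (qT : Ideal T) [qT.IsPrime] (Q : Ideal P) [Q.IsPrime] (hQ : Q = qT.comap Ψ.toRingHom)
    (h : Module.Flat R (Localization.AtPrime qT)) :
    Module.Flat R (Localization.AtPrime Q ⧸
      (RingHom.ker Ψ).map (algebraMap P (Localization.AtPrime Q))) := by
  let e₀ : (P ⧸ RingHom.ker Ψ) ≃ₐ[R] T := Ideal.quotientKerAlgEquivOfSurjective hΨ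
  have he₀ : ∀ a : P, e₀ (Ideal.Quotient.mk _ a) = Ψ a := fun a => rfl
  obtain ⟨q₁, hq₁⟩ : ∃ q₁ : Ideal (P ⧸ RingHom.ker Ψ), q₁ = qT.comap e₀ := ⟨_, rfl⟩
  have hq₁p : q₁.IsPrime := by rw [hq₁]; exact Ideal.comap_isPrime _ _
  let e₁ : Localization.AtPrime q₁ ≃ₐ[R] Localization.AtPrime qT :=
    Localization.localAlgEquiv q₁ qT e₀ hq₁
  have hQ' : Q = q₁.comap (Ideal.Quotient.mk (RingHom.ker Ψ)) := by
    rw [hQ, hq₁]
    ext a
    rw [Ideal.mem_comap, Ideal.mem_comap, Ideal.mem_comap, he₀]
    rfl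
  obtain ⟨e₂⟩ := nonempty_atPrime_quotient_equiv (R := R) (RingHom.ker Ψ) q₁ Q hQ'
  exact Module.Flat.of_linearEquiv (e₁.symm.trans e₂).symm.toLinearEquiv

end FlatQuot2

end Groth.Agent.Lib.Helper5.RelGCI
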