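import Mathlib
import Groth.Prelude.Def_RegImm

/-!
# Helper5 — RelGCII

The principal localization `(R[x]/(F))_g` is presented by `R[x, y]/(F, h y - 1)`.
-/

set_option autoImplicit false
universe u

namespace Groth.Agent.Lib.Helper5.RelGCI

open MvPolynomial Synt

variable (R : Type u) [CommRing R] (n c : ℕ) (F : Fin c → MvPolynomial (Fin n) R)
  (h : MvPolynomial (Fin n) R)

/-- the extended family of relations `(F, h y - 1)`. -/
noncomputable def extF : Fin (c + 1) → MvPolynomial (Fin (n + 1)) R :=
  Fin.snoc (fun i => rename Fin.castSucc (F i)) (rename Fin.castSucc h * X (Fin.last n) - 1)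

theorem extF_castSucc (i : Fin c) : extF R n c F h i.castSucc = rename Fin.castSucc (F i) := by
  unfold extF
  exact Fin.snoc_castSucc (α := fun _ => MvPolynomial (Fin (n + 1)) R) _ _ i

theorem extF_last : extF R n c F h (Fin.last c) = rename Fin.castSucc h * X (Fin.last n) - 1 := by
  unfold extF
  exact Fin.snoc_last (α := fun _ => MvPolynomial (Fin (n + 1)) R) _ _

/-- `S = R[x]/(F) → T = R[x,y]/(F, hy - 1)`. -/
noncomputable def toExt : RelGCIRing R n c F →ₐ[R] RelGCIRing R (n + 1) (c + 1) (extF R n c F h) :=
  Ideal.Quotient.liftₐ (Ideal.span (Set.range F))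
    ((Ideal.Quotient.mkₐ R (Ideal.span (Set.range (extF R n c F h)))).comp (rename Fin.castSucc))
    (by
      intro a ha
      have hle : Ideal.span (Set.range F) ≤ RingHom.ker
          ((Ideal.Quotient.mkₐ R (Ideal.span (Set.range (extF R n c F h)))).comp
            (rename Fin.castSucc) : MvPolynomial (Fin n) R →ₐ[R] _).toRingHom := by
        rw [Ideal.span_le]
        rintro _ ⟨i, rfl⟩
        rw [SetLike.mem_coe, RingHom.mem_ker]
        change Ideal.Quotient.mk _ (rename Fin.castSucc (F i)) = 0
        rw [Ideal.Quotient.eq_zero_iff_mem, ← extF_castSucc R n c F h i]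
        exact Ideal.subset_span ⟨_, rfl⟩
      exact hle ha)

theorem toExt_mk (a : MvPolynomial (Fin n) R) :
    toExt R n c F h (Ideal.Quotient.mk _ a) = Ideal.Quotient.mk _ (rename Fin.castSucc a) := rfl

theorem toExt_mul_X_last :
    toExt R n c F h (Ideal.Quotient.mk _ h) *
      Ideal.Quotient.mk (Ideal.span (Set.range (extF R n c F h))) (X (Fin.last n)) = 1 := by
  rw [toExt_mk, ← map_mul, ← sub_eq_zero, ← map_one (Ideal.Quotient.mk _), ← map_sub,
    Ideal.Quotient.eq_zero_iff_mem, ← extF_last R n c F h]
  exact Ideal.subset_span ⟨_, rfl⟩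

theorem isUnit_toExt : IsUnit (toExt R n c F h (Ideal.Quotient.mk _ h)) :=
  IsUnit.of_mul_eq_one _ (toExt_mul_X_last R n c F h)

/-- `S_g → T`. -/
noncomputable def awayToExt :
    Localization.Away (Ideal.Quotient.mk (Ideal.span (Set.range F)) h) →ₐ[R]
      RelGCIRing R (n + 1) (c + 1) (extF R n c F h) :=
  IsLocalization.liftAlgHom
    (M := Submonoid.powers (Ideal.Quotient.mk (Ideal.span (Set.range F)) h))
    (f := toExt R n c F h) (by
      rintro ⟨_, k, rfl⟩
      rw [map_pow]
      exact (isUnit_toExt R n c F h).pow k)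

theorem awayToExt_algebraMap (s : RelGCIRing R n c F) :
    awayToExt R n c F h (algebraMap _ _ s) = toExt R n c F h s := by
  unfold awayToExt
  rw [IsLocalization.liftAlgHom_apply, IsLocalization.lift_eq]
  rfl

/-- the values of the variables in `S_g`. -/
noncomputable def extVal : Fin (n + 1) →
    Localization.Away (Ideal.Quotient.mk (Ideal.span (Set.range F)) h) :=
  Fin.snoc (fun i => algebraMap (RelGCIRing R n c F) _ (Ideal.Quotient.mk _ (X i)))
    (IsLocalization.Away.invSelf (Ideal.Quotient.mk (Ideal.span (Set.range F)) h))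

theorem extVal_castSucc (i : Fin n) :
    extVal R n c F h i.castSucc = algebraMap (RelGCIRing R n c F) _ (Ideal.Quotient.mk _ (X i)) := by
  unfold extVal
  exact Fin.snoc_castSucc (α := fun _ => Localization.Away _) _ _ i

theorem extVal_last :
    extVal R n c F h (Fin.last n) =
      IsLocalization.Away.invSelf (Ideal.Quotient.mk (Ideal.span (Set.range F)) h) := by
  unfold extVal
  exact Fin.snoc_last (α := fun _ => Localization.Away _) _ _

theorem aeval_extVal_rename (a : MvPolynomial (Fin n) R) :
    aeval (extVal R n c F h) (rename Fin.castSucc a) =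
      algebraMap (RelGCIRing R n c F) _ (Ideal.Quotient.mk _ a) := by
  rw [aeval_rename]
  have : (aeval (extVal R n c F h ∘ Fin.castSucc) : MvPolynomial (Fin n) R →ₐ[R] _) =
      (IsScalarTower.toAlgHom R (RelGCIRing R n c F)
        (Localization.Away (Ideal.Quotient.mk (Ideal.span (Set.range F)) h))).comp
        (Ideal.Quotient.mkₐ R (Ideal.span (Set.range F))) := by
    apply MvPolynomial.algHom_ext
    intro i
    rw [aeval_X, Function.comp_apply, extVal_castSucc]
    rfl
  rw [this]
  rfl

/-- `T → S_g`. -/
noncomputable def extToAway : RelGCIRing R (n + 1) (c + 1) (extF R n c F h) →ₐ[R]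
    Localization.Away (Ideal.Quotient.mk (Ideal.span (Set.range F)) h) :=
  Ideal.Quotient.liftₐ (Ideal.span (Set.range (extF R n c F h))) (aeval (extVal R n c F h))
    (by
      intro a ha
      have hle : Ideal.span (Set.range (extF R n c F h)) ≤ RingHom.ker
          (aeval (extVal R n c F h) : MvPolynomial (Fin (n + 1)) R →ₐ[R] _).toRingHom := by
        rw [Ideal.span_le]
        rintro _ ⟨j, rfl⟩
        rw [SetLike.mem_coe, RingHom.mem_ker]
        change aeval (extVal R n c F h) (extF R n c F h j) = 0
        refine Fin.lastCases ?_ ?_ j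
        · rw [extF_last, map_sub, map_mul, map_one, aeval_extVal_rename, aeval_X, extVal_last,
            IsLocalization.Away.mul_invSelf, sub_self]
        · intro i
          rw [extF_castSucc, aeval_extVal_rename]
          have : Ideal.Quotient.mk (Ideal.span (Set.range F)) (F i) = 0 :=
            Ideal.Quotient.eq_zero_iff_mem.2 (Ideal.subset_span ⟨i, rfl⟩)
          rw [this, map_zero]
      exact hle ha)

theorem extToAway_mk (a : MvPolynomial (Fin (n + 1)) R) :
    extToAway R n c F h (Ideal.Quotient.mk _ a) = aeval (extVal R n c F h) a := rfl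

theorem extToAway_comp_awayToExt :
    (extToAway R n c F h).comp (awayToExt R n c F h) = AlgHom.id R _ := by
  apply AlgHom.coe_ringHom_injective
  apply IsLocalization.ringHom_ext
    (Submonoid.powers (Ideal.Quotient.mk (Ideal.span (Set.range F)) h))
  apply Ideal.Quotient.ringHom_ext
  apply MvPolynomial.ringHom_ext
  · intro r
    simp only [RingHom.comp_apply, AlgHom.coe_toRingHom, AlgHom.comp_apply, AlgHom.id_apply]
    rw [awayToExt_algebraMap, toExt_mk, extToAway_mk, aeval_extVal_rename]
  · intro i
    simp only [RingHom.comp_apply, AlgHom.coe_toRingHom, AlgHom.comp_apply, AlgHom.id_apply]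
    rw [awayToExt_algebraMap, toExt_mk, extToAway_mk, aeval_extVal_rename]

theorem awayToExt_invSelf :
    awayToExt R n c F h
        (IsLocalization.Away.invSelf (Ideal.Quotient.mk (Ideal.span (Set.range F)) h)) =
      Ideal.Quotient.mk _ (X (Fin.last n)) := by
  have h1 : awayToExt R n c F h
        (algebraMap _ _ (Ideal.Quotient.mk (Ideal.span (Set.range F)) h)) *
      awayToExt R n c F h
        (IsLocalization.Away.invSelf (Ideal.Quotient.mk (Ideal.span (Set.range F)) h)) = 1 := by
    rw [← map_mul, IsLocalization.Away.mul_invSelf, map_one]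
  rw [awayToExt_algebraMap] at h1
  have h2 := toExt_mul_X_last R n c F h
  exact (isUnit_toExt R n c F h).mul_left_cancel (h1.trans h2.symm)

theorem awayToExt_comp_extToAway :
    (awayToExt R n c F h).comp (extToAway R n c F h) = AlgHom.id R _ := by
  apply Ideal.Quotient.algHom_ext
  apply MvPolynomial.algHom_ext
  intro j
  simp only [AlgHom.comp_apply, Ideal.Quotient.mkₐ_eq_mk, AlgHom.id_apply]
  rw [extToAway_mk, aeval_X]
  refine Fin.lastCases ?_ ?_ j
  · rw [extVal_last, awayToExt_invSelf]
  · intro i
    rw [extVal_castSucc, awayToExt_algebraMap, toExt_mk, rename_X]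

/-- **the isomorphism** `S_g ≃ R[x, y]/(F, h y - 1)`. -/
noncomputable def awayEquiv :
    Localization.Away (Ideal.Quotient.mk (Ideal.span (Set.range F)) h) ≃ₐ[R]
      RelGCIRing R (n + 1) (c + 1) (extF R n c F h) :=
  AlgEquiv.ofAlgHom (awayToExt R n c F h) (extToAway R n c F h)
    (awayToExt_comp_extToAway R n c F h) (extToAway_comp_awayToExt R n c F h)

theorem awayEquiv_algebraMap_mk (a : MvPolynomial (Fin n) R) :
    awayEquiv R n c F h (algebraMap _ _ (Ideal.Quotient.mk (Ideal.span (Set.range F)) a)) =
      Ideal.Quotient.mk _ (rename Fin.castSucc a) := by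
  change awayToExt R n c F h _ = _
  rw [awayToExt_algebraMap, toExt_mk]

end Groth.Agent.Lib.Helper5.RelGCI
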