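import Mathlib
import Groth.Agent.Lib.Helper5.RelGCIA
import Groth.Agent.Lib.Helper5.RelGCII
import Groth.Agent.Lib.Helper18.Chev.Main

/-!
# Helper5 — RelGCIJ

If the local fibre dimension of `Spec R[x]/(F) ⟶ Spec R` is `≤ n - c` on `D(g)`, then
`R[x, y]/(F, h y - 1)` is a relative global complete intersection.
-/

set_option autoImplicit false
universe u

namespace Groth.Agent.Lib.Helper5.RelGCI

open MvPolynomial Synt TensorProduct AlgebraicGeometry CategoryTheory

section General

variable (R S : Type u) [CommRing R] [CommRing S] [Algebra R S]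

theorem localDim_transport (p₁ p₂ : Ideal R) [p₁.IsPrime] [p₂.IsPrime] (h : p₁ = p₂)
    (Q : PrimeSpectrum (p₂.Fiber S)) :
    ∃ Q₁ : PrimeSpectrum (p₁.Fiber S),
      Q₁.asIdeal.comap (Algebra.TensorProduct.includeRight.toRingHom) =
        Q.asIdeal.comap (Algebra.TensorProduct.includeRight.toRingHom) ∧
      FlatMor.localDim (PrimeSpectrum (p₁.Fiber S)) Q₁ =
        FlatMor.localDim (PrimeSpectrum (p₂.Fiber S)) Q := by
  subst h
  exact ⟨Q, rfl, rfl⟩

/-- the prime of `S` under a prime of the fibre ring. -/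
noncomputable def fibrePoint (p : Ideal R) [p.IsPrime] (Q : PrimeSpectrum (p.Fiber S)) :
    PrimeSpectrum S :=
  ⟨Q.asIdeal.comap (Algebra.TensorProduct.includeRight.toRingHom), inferInstance⟩

theorem fibrePoint_under (p : Ideal R) [p.IsPrime] (Q : PrimeSpectrum (p.Fiber S)) :
    (fibrePoint R S p Q).asIdeal.under R = p := by
  have h := ((PrimeSpectrum.preimageEquivFiber R S ⟨p, inferInstance⟩).symm Q).2
  have h' := congrArg PrimeSpectrum.asIdeal h
  exact h'

theorem localDim_fibre_eq_fibreDimAt (p : Ideal R) [p.IsPrime] (Q : PrimeSpectrum (p.Fiber S)) :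
    FlatMor.localDim (PrimeSpectrum (p.Fiber S)) Q =
      FlatMor.fibreDimAt (Spec.map (CommRingCat.ofHom (algebraMap R S))) (fibrePoint R S p Q) := by
  obtain ⟨Q₁, hQ₁, hdim⟩ := localDim_transport R S ((fibrePoint R S p Q).asIdeal.under R) p
    (fibrePoint_under R S p Q) Q
  rw [← hdim]
  exact Groth.Agent.Lib.lead.FibreRingDim.localDim_fiberRing_eq R S (fibrePoint R S p Q) Q₁ hQ₁

end General

section Field

variable {K : Type u} [Field K] (A : Type u) [CommRing A] [Algebra K A] [Algebra.FiniteType K A]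

include K in
theorem ringKrullDim_le_of_localDim_le (d : ℕ)
    (h : ∀ Q : PrimeSpectrum A, FlatMor.localDim (PrimeSpectrum A) Q ≤ (d : WithBot ℕ∞)) :
    ringKrullDim A ≤ (d : WithBot ℕ∞) := by
  rcases isEmpty_or_nonempty (PrimeSpectrum A) with he | hne
  · rw [ringKrullDim, Order.krullDim_eq_bot]
    exact bot_le
  · rw [ringKrullDim, Order.krullDim_eq_iSup_height_add_coheight_of_nonempty]
    have : (d : WithBot ℕ∞) = ((d : ℕ∞) : WithBot ℕ∞) := rfl
    rw [this, WithBot.coe_le_coe]
    refine iSup_le fun Q => ?_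
    have hQ := h Q
    rw [Groth.Agent.Lib.lead.AffLocalDim.localDim_eq (k := K) A Q, this, WithBot.coe_le_coe] at hQ
    exact hQ

theorem le_ringKrullDim_of_presentation {K : Type u} [Field K] {A : Type u} [CommRing A]
    [Algebra K A] [Nontrivial A] {n c : ℕ} (hcn : c ≤ n)
    (P : Algebra.Presentation K A (Fin n) (Fin c)) :
    ((n - c : ℕ) : WithBot ℕ∞) ≤ ringKrullDim A := by
  obtain ⟨Q0⟩ : Nonempty (PrimeSpectrum A) := inferInstance
  obtain ⟨P0, hP0, -⟩ := Ideal.exists_minimalPrimes_le (I := (⊥ : Ideal A)) (J := Q0.asIdeal) bot_le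
  have h1 := Groth.Agent.Lib.Helper25.GlobalCI.le_ringKrullDim_quotient_minimalPrime hcn P P0 hP0
  exact h1.trans (ringKrullDim_quotient_le P0)

end Field


section Open

variable (R : Type u) [CommRing R] (n c : ℕ) (F : Fin c → MvPolynomial (Fin n) R)
  (h : MvPolynomial (Fin n) R)

theorem locallyOfFiniteType_specMap :
    LocallyOfFiniteType (Spec.map (CommRingCat.ofHom (algebraMap R (RelGCIRing R n c F)))) := by
  have hfp : Algebra.FinitePresentation R (RelGCIRing R n c F) := by
    classical
    exact .quotient ⟨Finset.image F .univ, by simp⟩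
  have : Algebra.FiniteType R (RelGCIRing R n c F) := Algebra.FiniteType.of_finitePresentation
  exact (HasRingHomProperty.Spec_iff (P := @LocallyOfFiniteType)).mpr
    (RingHom.finiteType_algebraMap.mpr inferInstance)

theorem isOpenImmersion_toExt :
    IsOpenImmersion (Spec.map (CommRingCat.ofHom (toExt R n c F h).toRingHom)) := by
  have hφ : CommRingCat.ofHom (toExt R n c F h).toRingHom =
      CommRingCat.ofHom (algebraMap (RelGCIRing R n c F)
        (Localization.Away (Ideal.Quotient.mk (Ideal.span (Set.range F)) h))) ≫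
        (awayEquiv R n c F h).toRingEquiv.toCommRingCatIso.hom := by
    refine CommRingCat.hom_ext (RingHom.ext fun s => ?_)
    exact (awayToExt_algebraMap R n c F h s).symm
  rw [hφ, Spec.map_comp]
  infer_instance

theorem isRelGCI_extF
    (hle : ∀ q : PrimeSpectrum (RelGCIRing R n c F),
      Ideal.Quotient.mk (Ideal.span (Set.range F)) h ∉ q.asIdeal →
      c ≤ n ∧ FlatMor.fibreDimAt
        (Spec.map (CommRingCat.ofHom (algebraMap R (RelGCIRing R n c F)))) q ≤
          ((n - c : ℕ) : WithBot ℕ∞)) :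
    IsRelGCI R (n + 1) (c + 1) (extF R n c F h) := by
  intro p' hnt
  have hopen := isOpenImmersion_toExt R n c F h
  have hft1 := locallyOfFiniteType_specMap R n c F
  have hft2 := locallyOfFiniteType_specMap R (n + 1) (c + 1) (extF R n c F h)
  have comm : Spec.map (CommRingCat.ofHom (algebraMap R
        (RelGCIRing R (n + 1) (c + 1) (extF R n c F h)))) ≫ 𝟙 _ =
      Spec.map (CommRingCat.ofHom (toExt R n c F h).toRingHom) ≫
        Spec.map (CommRingCat.ofHom (algebraMap R (RelGCIRing R n c F))) := by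
    rw [Category.comp_id, ← Spec.map_comp, ← CommRingCat.ofHom_comp]
    congr 2
    exact ((toExt R n c F h).comp_algebraMap).symm
  have key : ∀ y : PrimeSpectrum (RelGCIRing R (n + 1) (c + 1) (extF R n c F h)),
      c ≤ n ∧ FlatMor.fibreDimAt (Spec.map (CommRingCat.ofHom (algebraMap R
        (RelGCIRing R (n + 1) (c + 1) (extF R n c F h))))) y ≤ ((n - c : ℕ) : WithBot ℕ∞) := by
    intro y
    have h1 := Groth.Agent.Lib.Helper18.Chev.fibreDimAt_eq_of_openImmersion_square
      (Spec.map (CommRingCat.ofHom (algebraMap R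
        (RelGCIRing R (n + 1) (c + 1) (extF R n c F h))))) (𝟙 _)
      (Spec.map (CommRingCat.ofHom (toExt R n c F h).toRingHom))
      (Spec.map (CommRingCat.ofHom (algebraMap R (RelGCIRing R n c F)))) comm y
    rw [← h1]
    apply hle
    change Ideal.Quotient.mk (Ideal.span (Set.range F)) h ∉
      (PrimeSpectrum.comap (toExt R n c F h).toRingHom y).asIdeal
    intro hmem
    have hy : (toExt R n c F h) (Ideal.Quotient.mk (Ideal.span (Set.range F)) h) ∈ y.asIdeal := hmem
    exact y.isPrime.ne_top (Ideal.eq_top_of_isUnit_mem _ hy (isUnit_toExt R n c F h))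
  obtain ⟨Q0⟩ : Nonempty (PrimeSpectrum (p'.asIdeal.Fiber
    (RelGCIRing R (n + 1) (c + 1) (extF R n c F h)))) := inferInstance
  have hcn : c ≤ n := (key (fibrePoint R _ p'.asIdeal Q0)).1
  have hsub : n + 1 - (c + 1) = n - c := Nat.add_sub_add_right n 1 c
  refine ⟨Nat.succ_le_succ hcn, ?_⟩
  rw [hsub]
  apply le_antisymm
  · have hft : Algebra.FiniteType p'.asIdeal.ResidueField
        (p'.asIdeal.Fiber (RelGCIRing R (n + 1) (c + 1) (extF R n c F h))) := by
      have := (fibrePresentation R (n + 1) (c + 1) (extF R n c F h)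
        p'.asIdeal).finitePresentation_of_isFinite
      exact Algebra.FiniteType.of_finitePresentation (R := p'.asIdeal.ResidueField)
        (A := p'.asIdeal.Fiber (RelGCIRing R (n + 1) (c + 1) (extF R n c F h)))
    have h3 := ringKrullDim_le_of_localDim_le (K := p'.asIdeal.ResidueField)
      (p'.asIdeal.Fiber (RelGCIRing R (n + 1) (c + 1) (extF R n c F h))) (n - c) (by
        intro Q
        rw [localDim_fibre_eq_fibreDimAt]
        exact (key _).2)
    exact h3
  · have h1 := le_ringKrullDim_of_presentation (Nat.succ_le_succ hcn)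
      (fibrePresentation R (n + 1) (c + 1) (extF R n c F h) p'.asIdeal)
    rw [hsub] at h1
    exact h1

end Open

end Groth.Agent.Lib.Helper5.RelGCI
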