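import Mathlib
import Groth.Agent.Lib.Helper5.RelGCIJ
import Groth.Agent.Lib.Helper25.RelGCIApprox

/-!
# Helper5 — RelGCIK

The dimension of the fibre rings of a presented algebra `R[x]/(F)` is invariant under base change.
Shrinking `Spec R[x]/(F)` to a relative global complete intersection.
-/

set_option autoImplicit false
universe u

namespace Groth.Agent.Lib.Helper5.RelGCI

open MvPolynomial Synt TensorProduct AlgebraicGeometry CategoryTheory
open Groth.Agent.Lib.Helper25.RelGCIApprox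

section BC

variable {R₀ : Type u} [CommRing R₀] (n c : ℕ) (F₀ : Fin c → MvPolynomial (Fin n) R₀)

theorem ringKrullDim_fibre_baseChange (R' : Type u) [CommRing R'] [Algebra R₀ R']
    (q : PrimeSpectrum R') :
    ringKrullDim (q.asIdeal.Fiber (RelGCIRing R' n c
      (fun i => MvPolynomial.map (algebraMap R₀ R') (F₀ i)))) =
    ringKrullDim ((PrimeSpectrum.comap (algebraMap R₀ R') q).asIdeal.Fiber
      (RelGCIRing R₀ n c F₀)) := by
  have hfp := finitePresentation_relGCIRing R₀ n c F₀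
  have : LocallyOfFinitePresentation (specMap R₀ n c F₀) :=
    (HasRingHomProperty.Spec_iff (P := @LocallyOfFinitePresentation)).mpr
      (RingHom.finitePresentation_algebraMap.mpr inferInstance)
  obtain ⟨θ, hθ⟩ := exists_isPushout n c F₀
    (fun i => MvPolynomial.map (algebraMap R₀ R') (F₀ i)) (fun i => rfl)
  have hpb := isPullback_SpecMap_of_isPushout _ _ _ _ hθ
  have h1 := Groth.Agent.S9777.result (specMap R₀ n c F₀)
    (Spec.map (CommRingCat.ofHom (algebraMap R₀ R'))) _ _ hpb q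
  have h2 := Groth.Agent.Lib.Helper24.ValRing.dim_fiber_Spec R'
    (RelGCIRing R' n c (fun i => MvPolynomial.map (algebraMap R₀ R') (F₀ i))) q
  have h3 := Groth.Agent.Lib.Helper24.ValRing.dim_fiber_Spec R₀ (RelGCIRing R₀ n c F₀)
    (PrimeSpectrum.comap (algebraMap R₀ R') q)
  exact h2.symm.trans (h1.trans h3)

end BC


section Unit

variable {R S : Type u} [CommRing R] [CommRing S] [Algebra R S]

theorem exists_smul_eq_one_tmul_mem (p : Ideal R) [p.IsPrime] (J : Ideal S)
    (x : p.Fiber S) (hx : x ∈ J.map (Algebra.TensorProduct.includeRight : S →ₐ[R] p.Fiber S)) :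
    ∃ r ∉ p, ∃ j ∈ J, r • x = (1 : p.ResidueField) ⊗ₜ[R] j := by
  unfold Ideal.map at hx
  induction hx using Submodule.span_induction with
  | mem x hx =>
    obtain ⟨j, hj, rfl⟩ := hx
    exact ⟨1, (Ideal.ne_top_iff_one p).1 (Ideal.IsPrime.ne_top inferInstance), j, hj, by
      rw [one_smul]; rfl⟩
  | zero => exact ⟨1, (Ideal.ne_top_iff_one p).1 (Ideal.IsPrime.ne_top inferInstance), 0,
      J.zero_mem, by rw [smul_zero, TensorProduct.tmul_zero]⟩
  | add x y _ _ hx hy =>
    obtain ⟨r₁, hr₁, j₁, hj₁, e₁⟩ := hx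
    obtain ⟨r₂, hr₂, j₂, hj₂, e₂⟩ := hy
    have hm₁ : r₂ • j₁ ∈ J := by
      rw [Algebra.smul_def]; exact J.mul_mem_left _ hj₁
    have hm₂ : r₁ • j₂ ∈ J := by
      rw [Algebra.smul_def]; exact J.mul_mem_left _ hj₂
    refine ⟨r₁ * r₂, fun hmem => ?_, r₂ • j₁ + r₁ • j₂, J.add_mem hm₁ hm₂, ?_⟩
    · rcases (Ideal.IsPrime.mem_or_mem inferInstance hmem) with h | h
      · exact hr₁ h
      · exact hr₂ h
    · rw [smul_add, TensorProduct.tmul_add, TensorProduct.tmul_smul, TensorProduct.tmul_smul,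
        ← e₁, ← e₂, smul_smul, smul_smul, mul_comm r₂ r₁]
  | smul a x _ hx =>
    obtain ⟨r, hr, j, hj, e⟩ := hx
    obtain ⟨r', hr', s, e'⟩ := Ideal.Fiber.exists_smul_eq_one_tmul p a
    refine ⟨r' * r, fun hmem => ?_, s * j, J.mul_mem_left s hj, ?_⟩
    · rcases (Ideal.IsPrime.mem_or_mem inferInstance hmem) with h | h
      · exact hr' h
      · exact hr h
    · rw [smul_eq_mul, ← smul_smul, ← smul_eq_mul, smul_comm r a x, smul_eq_mul, ← smul_mul_assoc,
        e, e', Algebra.TensorProduct.tmul_mul_tmul, one_mul]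

theorem exists_isUnit_one_tmul (p : Ideal R) [p.IsPrime] (J : Ideal S)
    (hJ : J.map (Algebra.TensorProduct.includeRight : S →ₐ[R] p.Fiber S) = ⊤) :
    ∃ j ∈ J, IsUnit ((1 : p.ResidueField) ⊗ₜ[R] j : p.Fiber S) := by
  obtain ⟨r, hr, j, hj, e⟩ := exists_smul_eq_one_tmul_mem p J 1 (by rw [hJ]; trivial)
  refine ⟨j, hj, ?_⟩
  rw [← e, Algebra.smul_def, mul_one]
  have hne : algebraMap R p.ResidueField r ≠ 0 := by
    rw [Ne, Ideal.algebraMap_residueField_eq_zero]
    exact hr
  have hu : IsUnit (algebraMap R p.ResidueField r) := isUnit_iff_ne_zero.2 hne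
  rw [IsScalarTower.algebraMap_apply R p.ResidueField (p.Fiber S)]
  exact hu.map (algebraMap p.ResidueField (p.Fiber S))

end Unit

end Groth.Agent.Lib.Helper5.RelGCI
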