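import Mathlib
import Groth.Agent.Lib.Helper5.RelGCIK

/-!
# Helper5 — RelGCIL

Shrinking `Spec R[x]/(F)` around a fibre of dimension `n - c` to a relative global complete
intersection (Stacks 00SR–00ST).
-/

set_option autoImplicit false
universe u

namespace Groth.Agent.Lib.Helper5.RelGCI

open MvPolynomial Synt TensorProduct AlgebraicGeometry CategoryTheory

variable (R : Type u) [CommRing R] (n c : ℕ) (F : Fin c → MvPolynomial (Fin n) R)

/-- the locus where the local fibre dimension is at most `n - c`. -/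
def goodLocus : Set (PrimeSpectrum (RelGCIRing R n c F)) :=
  {q | FlatMor.fibreDimAt (Spec.map (CommRingCat.ofHom (algebraMap R (RelGCIRing R n c F)))) q ≤
    ((n - c : ℕ) : WithBot ℕ∞)}

theorem isOpen_goodLocus : IsOpen (goodLocus R n c F) := by
  have := locallyOfFiniteType_specMap R n c F
  exact Groth.Agent.Lib.Helper18.Chev.isOpen_fibreDimAt_le
    (Spec.map (CommRingCat.ofHom (algebraMap R (RelGCIRing R n c F)))) (n - c)

theorem fibrePoint_mem_goodLocus (p : Ideal R) [p.IsPrime]
    (hp : c ≤ n ∧ ringKrullDim (p.Fiber (RelGCIRing R n c F)) = ((n - c : ℕ) : WithBot ℕ∞))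
    (Q : PrimeSpectrum (p.Fiber (RelGCIRing R n c F))) :
    fibrePoint R (RelGCIRing R n c F) p Q ∈ goodLocus R n c F := by
  change FlatMor.fibreDimAt _ _ ≤ _
  rw [← localDim_fibre_eq_fibreDimAt,
    localDim_eq_of_presentation hp.1 (fibrePresentation R n c F p) hp.2 Q]

/-- the ideal of the complement of the good locus. -/
noncomputable def badIdeal : Ideal (RelGCIRing R n c F) :=
  PrimeSpectrum.vanishingIdeal (goodLocus R n c F)ᶜ

theorem zeroLocus_badIdeal :
    PrimeSpectrum.zeroLocus (badIdeal R n c F : Set (RelGCIRing R n c F)) = (goodLocus R n c F)ᶜ := by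
  unfold badIdeal
  rw [PrimeSpectrum.zeroLocus_vanishingIdeal_eq_closure]
  exact (isOpen_goodLocus R n c F).isClosed_compl.closure_eq

theorem mem_goodLocus_of_notMem {q : PrimeSpectrum (RelGCIRing R n c F)}
    {j : RelGCIRing R n c F} (hj : j ∈ badIdeal R n c F) (hq : j ∉ q.asIdeal) :
    q ∈ goodLocus R n c F := by
  by_contra hcon
  have : q ∈ PrimeSpectrum.zeroLocus (badIdeal R n c F : Set (RelGCIRing R n c F)) := by
    rw [zeroLocus_badIdeal]; exact hcon
  exact hq (this hj)

theorem isRelGCI_extF_of_mem_badIdeal (hcn : c ≤ n) (h : MvPolynomial (Fin n) R)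
    (hh : Ideal.Quotient.mk (Ideal.span (Set.range F)) h ∈ badIdeal R n c F) :
    IsRelGCI R (n + 1) (c + 1) (extF R n c F h) :=
  isRelGCI_extF R n c F h fun _ hq => ⟨hcn, mem_goodLocus_of_notMem R n c F hh hq⟩

/-- **Stacks 00SR-type**: shrinking around a fibre of the right dimension. -/
theorem exists_away_of_fibre_dim (p : Ideal R) [p.IsPrime]
    (hp : c ≤ n ∧ ringKrullDim (p.Fiber (RelGCIRing R n c F)) = ((n - c : ℕ) : WithBot ℕ∞)) :
    ∃ h : MvPolynomial (Fin n) R,
      IsUnit ((1 : p.ResidueField) ⊗ₜ[R] (Ideal.Quotient.mk (Ideal.span (Set.range F)) h) :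
        p.Fiber (RelGCIRing R n c F)) ∧
      IsRelGCI R (n + 1) (c + 1) (extF R n c F h) := by
  have htop : (badIdeal R n c F).map
      (Algebra.TensorProduct.includeRight : RelGCIRing R n c F →ₐ[R] p.Fiber (RelGCIRing R n c F)) =
      ⊤ := by
    by_contra hne
    have hne' : (PrimeSpectrum.zeroLocus (((badIdeal R n c F).map
        (Algebra.TensorProduct.includeRight :
          RelGCIRing R n c F →ₐ[R] p.Fiber (RelGCIRing R n c F)) :
        Ideal (p.Fiber (RelGCIRing R n c F))) : Set (p.Fiber (RelGCIRing R n c F)))).Nonempty := by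
      rw [Set.nonempty_iff_ne_empty]
      intro h0
      exact hne (PrimeSpectrum.zeroLocus_empty_iff_eq_top.1 h0)
    obtain ⟨Q, hQ⟩ := hne'
    have h1 := fibrePoint_mem_goodLocus R n c F p hp Q
    have h2 : fibrePoint R (RelGCIRing R n c F) p Q ∈
        PrimeSpectrum.zeroLocus (badIdeal R n c F : Set (RelGCIRing R n c F)) := by
      intro j hj
      exact hQ (Ideal.mem_map_of_mem _ hj)
    rw [zeroLocus_badIdeal] at h2
    exact h2 h1
  obtain ⟨j, hj, hu⟩ := exists_isUnit_one_tmul p (badIdeal R n c F) htop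
  obtain ⟨h, rfl⟩ := Ideal.Quotient.mk_surjective j
  exact ⟨h, hu, isRelGCI_extF_of_mem_badIdeal R n c F hp.1 h hj⟩

end Groth.Agent.Lib.Helper5.RelGCI
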