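import Mathlib
import Groth.Prelude.Def_RegImm
import Groth.Prelude.Def_Flat
import Groth.Agent.Lib.lead.AffLocalDim
import Groth.Agent.Lib.Helper5.FibRegB
import Groth.Agent.Lib.Helper5.CIFieldB

/-!
# Helper5 — RelGCIN

Field level: if `f_1..f_c` form a regular sequence in `K[x]_q`, then the local dimension of
`Spec K[x]/(f)` at `q` is `n - c`.
-/

set_option autoImplicit false
universe u

namespace Groth.Agent.Lib.Helper5.RelGCI

open RingTheory.Sequence Synt

variable {K : Type u} [Field K] {n c : ℕ} (f : Fin c → MvPolynomial (Fin n) K)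

theorem localDim_of_isRegular (q : Ideal (MvPolynomial (Fin n) K)) [hq : q.IsPrime]
    (hfq : Ideal.span (Set.range f) ≤ q)
    (hreg : IsRegular (Localization.AtPrime q)
      ((List.ofFn f).map (algebraMap (MvPolynomial (Fin n) K) (Localization.AtPrime q))))
    (Q : PrimeSpectrum (RelGCIRing K n c f))
    (hQ : Q.asIdeal = q.map (Ideal.Quotient.mk (Ideal.span (Set.range f)))) :
    c ≤ n ∧ FlatMor.localDim (PrimeSpectrum (RelGCIRing K n c f)) Q =
      ((n - c : ℕ) : WithBot ℕ∞) := by
  have hQp := Q.isPrime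
  have hsurj : Function.Surjective (Ideal.Quotient.mk (Ideal.span (Set.range f))) :=
    Ideal.Quotient.mk_surjective
  have hker : RingHom.ker (Ideal.Quotient.mk (Ideal.span (Set.range f))) ≤ q := by
    rw [Ideal.mk_ker]; exact hfq
  -- dimension of the local ring of the quotient
  have h1 := ringKrullDim_add_length_eq_ringKrullDim_of_isRegular _ hreg
  rw [List.length_map, List.length_ofFn, ← Ideal.map_ofList,
    Groth.Agent.Lib.Helper5.CIField.ofList_ofFn_eq_span_range,
    IsLocalization.AtPrime.ringKrullDim_eq_height q (Localization.AtPrime q)] at h1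
  have hloc0 : IsLocalization (Algebra.algebraMapSubmonoid (RelGCIRing K n c f) q.primeCompl)
      (Localization.AtPrime q ⧸ (Ideal.span (Set.range f)).map
        (algebraMap (MvPolynomial (Fin n) K) (Localization.AtPrime q))) := inferInstance
  have hQ' : (q.map (Ideal.Quotient.mk (Ideal.span (Set.range f)))).IsPrime := hQ ▸ hQp
  have hcompl : Algebra.algebraMapSubmonoid (RelGCIRing K n c f) q.primeCompl =
      Q.asIdeal.primeCompl := by
    have := Groth.Agent.Lib.Helper5.FibReg.primeCompl_map
      (Ideal.Quotient.mk (Ideal.span (Set.range f))) hsurj q hker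
    change q.primeCompl.map (Ideal.Quotient.mk (Ideal.span (Set.range f))) = _
    rw [this]
    congr 1
    exact hQ.symm
  rw [hcompl] at hloc0
  have h2 := IsLocalization.AtPrime.ringKrullDim_eq_height Q.asIdeal
    (Localization.AtPrime q ⧸ (Ideal.span (Set.range f)).map
      (algebraMap (MvPolynomial (Fin n) K) (Localization.AtPrime q)))
  rw [h2] at h1
  -- the dimension formula in the polynomial ring
  have h3 := Groth.Agent.Lib.Helper7.AffDim.height_add_dim_quotient (k := K)
    (MvPolynomial (Fin n) K) q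
  rw [MvPolynomial.ringKrullDim_of_isNoetherianRing, ringKrullDim_eq_zero_of_field, zero_add] at h3
  -- the coheight
  have h4 := Groth.Agent.Lib.Helper7.AffChain.ringKrullDim_quotient_eq_coheight Q
  have h5 : ringKrullDim (RelGCIRing K n c f ⧸ Q.asIdeal) =
      ringKrullDim (MvPolynomial (Fin n) K ⧸ q) := by
    rw [hQ]
    exact ringKrullDim_eq_of_ringEquiv (DoubleQuot.quotQuotEquivQuotOfLE hfq)
  rw [h5] at h4
  rw [h4] at h3
  have hft : Algebra.FiniteType K (RelGCIRing K n c f) := inferInstance
  rw [Groth.Agent.Lib.lead.AffLocalDim.localDim_eq (k := K) (RelGCIRing K n c f) Q]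
  rw [PrimeSpectrum.height_eq_orderHeight Q] at h1
  rw [Nat.card_fin] at h3
  have h1' : (Order.height Q + (c : ℕ∞) : ℕ∞) = q.height := by exact_mod_cast h1
  have h3' : (q.height + Order.coheight Q : ℕ∞) = (n : ℕ∞) := by exact_mod_cast h3
  have hb : q.height ≠ ⊤ := fun h => by rw [h, top_add] at h3'; exact ENat.top_ne_coe n h3'
  have hd : Order.coheight Q ≠ ⊤ := fun h => by
    rw [h, add_top] at h3'; exact ENat.top_ne_coe n h3'
  have ha : Order.height Q ≠ ⊤ := fun h => by rw [h, top_add] at h1'; exact hb h1'.symm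
  obtain ⟨a, ha'⟩ := ENat.ne_top_iff_exists.1 ha
  obtain ⟨b, hb'⟩ := ENat.ne_top_iff_exists.1 hb
  obtain ⟨d, hd'⟩ := ENat.ne_top_iff_exists.1 hd
  rw [← ha', ← hb'] at h1'
  rw [← hb', ← hd'] at h3'
  have e1 : a + c = b := by exact_mod_cast h1'
  have e2 : b + d = n := by exact_mod_cast h3'
  refine ⟨by omega, ?_⟩
  rw [← ha', ← hd']
  have h6 : a + d = n - c := by omega
  have h7 : ((a : ℕ∞) + (d : ℕ∞)) = ((n - c : ℕ) : ℕ∞) := by exact_mod_cast h6
  rw [h7]
  rfl


theorem localDim_ringEquiv {A B : Type u} [CommRing A] [CommRing B] [Algebra K A] [Algebra K B]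
    [Algebra.FiniteType K A] [Algebra.FiniteType K B] (e : A ≃+* B) (Q : PrimeSpectrum B) :
    FlatMor.localDim (PrimeSpectrum B) Q =
      FlatMor.localDim (PrimeSpectrum A) (PrimeSpectrum.comap e.toRingHom Q) := by
  rw [Groth.Agent.Lib.lead.AffLocalDim.localDim_eq (k := K) B Q,
    Groth.Agent.Lib.lead.AffLocalDim.localDim_eq (k := K) A _]
  have h1 := Order.height_orderIso (PrimeSpectrum.comapEquiv e).symm Q
  have h2 := Order.coheight_orderIso (PrimeSpectrum.comapEquiv e).symm Q
  change Order.height (PrimeSpectrum.comap e.toRingHom Q) = _ at h1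
  change Order.coheight (PrimeSpectrum.comap e.toRingHom Q) = _ at h2
  rw [h1, h2]

/-- version for an algebra isomorphic to `K[x]/(f)`. -/
theorem localDim_of_isRegular' {A' : Type u} [CommRing A'] [Algebra K A']
    (e : RelGCIRing K n c f ≃ₐ[K] A') (Q' : PrimeSpectrum A')
    (q : Ideal (MvPolynomial (Fin n) K)) [hq : q.IsPrime]
    (hqQ : q = Q'.asIdeal.comap ((e : RelGCIRing K n c f →+* A').comp
      (Ideal.Quotient.mk (Ideal.span (Set.range f)))))
    (hreg : IsRegular (Localization.AtPrime q)
      ((List.ofFn f).map (algebraMap (MvPolynomial (Fin n) K) (Localization.AtPrime q)))) :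
    c ≤ n ∧ FlatMor.localDim (PrimeSpectrum A') Q' = ((n - c : ℕ) : WithBot ℕ∞) := by
  have hft : Algebra.FiniteType K (RelGCIRing K n c f) := inferInstance
  have hft' : Algebra.FiniteType K A' := hft.equiv e
  have hsurj : Function.Surjective (Ideal.Quotient.mk (Ideal.span (Set.range f))) :=
    Ideal.Quotient.mk_surjective
  have hQ : (PrimeSpectrum.comap e.toRingEquiv.toRingHom Q').asIdeal =
      q.map (Ideal.Quotient.mk (Ideal.span (Set.range f))) := by
    rw [hqQ, ← Ideal.comap_comap, Ideal.map_comap_of_surjective _ hsurj]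
    rfl
  have hfq : Ideal.span (Set.range f) ≤ q := by
    rw [hqQ]
    intro x hx
    rw [Ideal.mem_comap, RingHom.comp_apply, Ideal.Quotient.eq_zero_iff_mem.2 hx, map_zero]
    exact Ideal.zero_mem _
  rw [localDim_ringEquiv (K := K) e.toRingEquiv Q']
  exact localDim_of_isRegular f q hfq hreg _ hQ

end Groth.Agent.Lib.Helper5.RelGCI
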