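import Mathlib
import Groth.Prelude.Def_RegImm
import Groth.Agent.Lib.Helper5.SyntPresA
import Groth.Agent.Lib.Helper5.RelGCIL
import Groth.Agent.Lib.Helper5.RelGCIN
import Groth.Agent.Lib.Helper5.RelGCIO
import Groth.Agent.Lib.Helper5.RelGCIP

/-!
# Helper5 — RelGCIR

Steps of the local structure theorem: lifting a fibrewise generation statement, the Nakayama
step in the local ring of the polynomial ring, and a point of the good locus from a fibrewise
regular sequence.
-/

set_option autoImplicit false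
universe u

namespace Groth.Agent.Lib.Helper5.RelGCI

open MvPolynomial Synt TensorProduct Groth.Agent.Lib.Helper5.SyntPres

section Core

variable {R : Type u} [CommRing R] {n : ℕ} (p : Ideal R) [p.IsPrime]

theorem C_notMem_of_notMem (qb : Ideal (MvPolynomial (Fin n) p.ResidueField)) [hq : qb.IsPrime]
    (s : R) (hs : s ∉ p) : (C (algebraMap R p.ResidueField s) : MvPolynomial (Fin n) _) ∉ qb := by
  intro hmem
  have hne : algebraMap R p.ResidueField s ≠ 0 := by
    rw [Ne, Ideal.algebraMap_residueField_eq_zero]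
    exact hs
  have hu : IsUnit (C (algebraMap R p.ResidueField s) : MvPolynomial (Fin n) p.ResidueField) :=
    (isUnit_iff_ne_zero.2 hne).map C
  exact hq.ne_top (Ideal.eq_top_of_isUnit_mem _ hmem hu)

theorem exists_mul_mem_sup (I J : Ideal (MvPolynomial (Fin n) R))
    (qb : Ideal (MvPolynomial (Fin n) p.ResidueField)) [hq : qb.IsPrime]
    (h : (I.map (MvPolynomial.map (algebraMap R p.ResidueField))).map
        (algebraMap _ (Localization.AtPrime qb)) ≤
      (J.map (MvPolynomial.map (algebraMap R p.ResidueField))).map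
        (algebraMap _ (Localization.AtPrime qb)))
    (a : MvPolynomial (Fin n) R) (ha : a ∈ I) :
    ∃ w : MvPolynomial (Fin n) R,
      w ∉ qb.comap (MvPolynomial.map (algebraMap R p.ResidueField)) ∧
      w * a ∈ J ⊔ p.map C := by
  obtain ⟨φ, hφ⟩ : ∃ φ : MvPolynomial (Fin n) R →+* MvPolynomial (Fin n) p.ResidueField,
    φ = MvPolynomial.map (algebraMap R p.ResidueField) := ⟨_, rfl⟩
  rw [← hφ] at h ⊢
  have h1 : algebraMap _ (Localization.AtPrime qb) (φ a) ∈
      (J.map φ).map (algebraMap _ (Localization.AtPrime qb)) :=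
    h (Ideal.mem_map_of_mem _ (Ideal.mem_map_of_mem _ ha))
  rw [IsLocalization.mem_map_algebraMap_iff qb.primeCompl] at h1
  obtain ⟨⟨x, s⟩, hxs⟩ := h1
  rw [← map_mul] at hxs
  obtain ⟨t, ht⟩ := (IsLocalization.eq_iff_exists qb.primeCompl _).1 hxs
  have hwb : (t : MvPolynomial (Fin n) p.ResidueField) * (s : MvPolynomial (Fin n) p.ResidueField) ∉ qb :=
    Submonoid.mul_mem _ t.2 s.2
  have hwba : ((t : MvPolynomial (Fin n) p.ResidueField) * (s : MvPolynomial (Fin n) p.ResidueField)) * φ a ∈ J.map φ := by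
    have : ((t : MvPolynomial (Fin n) p.ResidueField) * (s : MvPolynomial (Fin n) p.ResidueField)) * φ a = t * (φ a * s) := by ring
    rw [this, ht]
    exact Ideal.mul_mem_left _ _ x.2
  obtain ⟨s₁, hs₁, w', hw'⟩ := exists_map_eq_C_mul p ((t : MvPolynomial (Fin n) p.ResidueField) * (s : MvPolynomial (Fin n) p.ResidueField))
  rw [← hφ] at hw'
  have hw'q : w' ∉ qb.comap φ := by
    rw [Ideal.mem_comap, hw']
    intro hmem
    rcases hq.mem_or_mem hmem with h' | h'
    · exact C_notMem_of_notMem p qb s₁ hs₁ h'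
    · exact hwb h'
  have hw'a : φ (w' * a) ∈ J.map φ := by
    rw [map_mul, hw', mul_assoc]
    exact Ideal.mul_mem_left _ _ hwba
  obtain ⟨s₂, hs₂, j, hj, hjeq⟩ := exists_mem_map_eq_C_mul p J (φ (w' * a)) (hφ ▸ hw'a)
  rw [← hφ] at hjeq
  have hker : C s₂ * (w' * a) - j ∈ p.map (C : R →+* MvPolynomial (Fin n) R) := by
    have hk : C s₂ * (w' * a) - j ∈ RingHom.ker φ := by
      rw [RingHom.mem_ker, map_sub, map_mul φ (C s₂), hjeq, sub_eq_zero, hφ, MvPolynomial.map_C]
    rw [hφ, MvPolynomial.ker_map, Ideal.ker_algebraMap_residueField] at hk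
    exact hk
  refine ⟨C s₂ * w', ?_, ?_⟩
  · rw [Ideal.mem_comap, map_mul]
    intro hmem
    rcases hq.mem_or_mem hmem with h' | h'
    · rw [hφ, MvPolynomial.map_C] at h'
      exact C_notMem_of_notMem p qb s₂ hs₂ h'
    · exact hw'q h'
  · have : C s₂ * w' * a = j + (C s₂ * (w' * a) - j) := by ring
    rw [this]
    exact Submodule.add_mem_sup hj hker

end Core

section Core2

variable {R : Type u} [CommRing R] {n : ℕ} (p : Ideal R) [p.IsPrime]

omit [p.IsPrime] in
/-- Nakayama step: the two ideals agree in the local ring of the polynomial ring. -/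
theorem map_atPrime_eq_of_flat (I J : Ideal (MvPolynomial (Fin n) R)) (hI : I.FG) (hJI : J ≤ I)
    (q' : Ideal (MvPolynomial (Fin n) R)) [hq' : q'.IsPrime]
    (hpq : p.map (C : R →+* MvPolynomial (Fin n) R) ≤ q')
    [Module.Flat R (Localization.AtPrime q' ⧸ I.map (algebraMap _ (Localization.AtPrime q')))]
    (h : ∀ a ∈ I, ∃ w : MvPolynomial (Fin n) R, w ∉ q' ∧ w * a ∈ J ⊔ p.map C) :
    I.map (algebraMap _ (Localization.AtPrime q')) =
      J.map (algebraMap _ (Localization.AtPrime q')) := by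
  have hmapC : (p.map (C : R →+* MvPolynomial (Fin n) R)).map
      (algebraMap _ (Localization.AtPrime q')) =
      p.map (algebraMap R (Localization.AtPrime q')) := by
    rw [Ideal.map_map]
    rfl
  refine eq_of_le_sup_map_of_flat_quotient (R := R) _ _ p (hI.map _) (Ideal.map_mono hJI) ?_ ?_
  · rw [IsLocalRing.jacobson_eq_maximalIdeal ⊥ bot_ne_top, ← hmapC,
      ← Localization.AtPrime.map_eq_maximalIdeal]
    exact Ideal.map_mono hpq
  · rw [Ideal.map_le_iff_le_comap]
    intro a ha
    obtain ⟨w, hw, hwa⟩ := h a ha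
    rw [Ideal.mem_comap]
    have hu : IsUnit (algebraMap _ (Localization.AtPrime q') w) :=
      IsLocalization.map_units (Localization.AtPrime q') (⟨w, hw⟩ : q'.primeCompl)
    have h1 : algebraMap _ (Localization.AtPrime q') (w * a) ∈
        J.map (algebraMap _ (Localization.AtPrime q')) ⊔
          p.map (algebraMap R (Localization.AtPrime q')) := by
      rw [← hmapC, ← Ideal.map_sup]
      exact Ideal.mem_map_of_mem _ hwa
    rw [map_mul] at h1
    exact (Ideal.unit_mul_mem_iff_mem _ hu).1 h1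

theorem exists_mul_mem_of_map_le {P : Type u} [CommRing P] (I J : Ideal P) (hI : I.FG)
    (Q : Ideal P) [hQ : Q.IsPrime]
    (h : I.map (algebraMap P (Localization.AtPrime Q)) ≤
      J.map (algebraMap P (Localization.AtPrime Q))) :
    ∃ t : P, t ∉ Q ∧ ∀ a ∈ I, t * a ∈ J := by
  classical
  obtain ⟨s, rfl⟩ := hI
  have hex : ∀ b ∈ s, ∃ t : P, t ∉ Q ∧ t * b ∈ J := by
    intro b hb
    have h1 : algebraMap P (Localization.AtPrime Q) b ∈
        J.map (algebraMap P (Localization.AtPrime Q)) :=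
      h (Ideal.mem_map_of_mem _ (Ideal.subset_span hb))
    rw [IsLocalization.mem_map_algebraMap_iff Q.primeCompl] at h1
    obtain ⟨⟨x, t⟩, hxt⟩ := h1
    rw [← map_mul] at hxt
    obtain ⟨c, hc⟩ := (IsLocalization.eq_iff_exists Q.primeCompl _).1 hxt
    refine ⟨c * t, Submonoid.mul_mem _ c.2 t.2, ?_⟩
    have : (c : P) * (t : P) * b = c * (x : P) := by
      rw [mul_assoc, mul_comm (t : P), hc]
    rw [this]
    exact Ideal.mul_mem_left _ _ x.2
  choose! t ht htb using hex
  refine ⟨∏ b ∈ s, t b, ?_, ?_⟩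
  · intro hmem
    obtain ⟨b, hb, hbQ⟩ := (Ideal.IsPrime.prod_mem_iff).1 hmem
    exact ht b hb hbQ
  · intro a ha
    refine Submodule.span_induction (p := fun a _ => (∏ b ∈ s, t b) * a ∈ J) ?_ ?_ ?_ ?_ ha
    · intro b hb
      rw [← Finset.mul_prod_erase s t hb, mul_assoc, mul_comm _ b, ← mul_assoc]
      exact Ideal.mul_mem_right _ _ (htb b hb)
    · rw [mul_zero]; exact J.zero_mem
    · intro x y _ _ hx hy
      rw [mul_add]; exact J.add_mem hx hy
    · intro r x _ hx
      rw [smul_eq_mul, mul_left_comm]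
      exact J.mul_mem_left _ hx

end Core2

section Core4

variable {R : Type u} [CommRing R] {n c : ℕ} (p : Ideal R) [p.IsPrime]

theorem exists_mem_goodLocus (f : Fin c → MvPolynomial (Fin n) R)
    (qb : Ideal (MvPolynomial (Fin n) p.ResidueField)) [hq : qb.IsPrime]
    (hfq : (Ideal.span (Set.range f)).map (MvPolynomial.map (algebraMap R p.ResidueField)) ≤ qb)
    (hreg : RingTheory.Sequence.IsRegular (Localization.AtPrime qb)
      ((List.ofFn (fun i => MvPolynomial.map (algebraMap R p.ResidueField) (f i))).map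
        (algebraMap (MvPolynomial (Fin n) p.ResidueField) (Localization.AtPrime qb)))) :
    c ≤ n ∧ ∃ x : PrimeSpectrum (RelGCIRing R n c f), x ∈ goodLocus R n c f ∧
      x.asIdeal.comap (Ideal.Quotient.mk (Ideal.span (Set.range f))) =
        qb.comap (MvPolynomial.map (algebraMap R p.ResidueField)) := by
  obtain ⟨J, hJ⟩ : ∃ J : Ideal (MvPolynomial (Fin n) R), J = Ideal.span (Set.range f) := ⟨_, rfl⟩
  obtain ⟨γ', hγ'def⟩ : ∃ γ' : MvPolynomial (Fin n) p.ResidueField →ₐ[p.ResidueField]
      p.Fiber (RelGCIRing R n c f),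
      γ' = fibHom p.ResidueField (Ideal.Quotient.mkₐ R (Ideal.span (Set.range f))) := ⟨_, rfl⟩
  have hγ' : Function.Surjective γ' := by
    rw [hγ'def]
    exact fibHom_surjective p.ResidueField _ (Ideal.Quotient.mkₐ_surjective R _)
  have hkmk : RingHom.ker (Ideal.Quotient.mkₐ R (Ideal.span (Set.range f))) =
      Ideal.span (Set.range f) := by
    ext x
    rw [RingHom.mem_ker]
    exact Ideal.Quotient.eq_zero_iff_mem
  have hker : RingHom.ker γ' =
      Ideal.span (Set.range (fun i => MvPolynomial.map (algebraMap R p.ResidueField) (f i))) := by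
    rw [hγ'def, ker_fibHom p.ResidueField _ (Ideal.Quotient.mkₐ_surjective R _), hkmk,
      Ideal.map_span, ← Set.range_comp]
    rfl
  have hkerle : RingHom.ker γ' ≤ qb := by
    rw [hγ'def, ker_fibHom p.ResidueField _ (Ideal.Quotient.mkₐ_surjective R _), hkmk]
    exact hfq
  obtain ⟨e, he⟩ : ∃ e : RelGCIRing p.ResidueField n c
      (fun i => MvPolynomial.map (algebraMap R p.ResidueField) (f i)) ≃ₐ[p.ResidueField]
      p.Fiber (RelGCIRing R n c f), ∀ x, e (Ideal.Quotient.mk _ x) = γ' x :=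
    ⟨(Ideal.quotientEquivAlgOfEq p.ResidueField hker.symm).trans
      (Ideal.quotientKerAlgEquivOfSurjective hγ'), fun x => rfl⟩
  have hQ'prime : (qb.map γ').IsPrime := Ideal.map_isPrime_of_surjective hγ' hkerle
  have hcomap : (qb.map γ').comap γ' = qb := by
    rw [Ideal.comap_map_of_surjective γ' hγ']
    refine sup_eq_left.2 ?_
    intro x hx
    rw [Ideal.mem_comap, Submodule.mem_bot] at hx
    exact hkerle hx
  obtain ⟨Q', hQ'def⟩ : ∃ Q' : PrimeSpectrum (p.Fiber (RelGCIRing R n c f)),
      Q'.asIdeal = qb.map γ' := ⟨⟨qb.map γ', hQ'prime⟩, rfl⟩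
  have hqQ : qb = Q'.asIdeal.comap ((RingHomClass.toRingHom e).comp
      (Ideal.Quotient.mk (Ideal.span (Set.range
        (fun i => MvPolynomial.map (algebraMap R p.ResidueField) (f i)))))) := by
    ext x
    rw [Ideal.mem_comap, hQ'def]
    change _ ↔ e (Ideal.Quotient.mk (Ideal.span (Set.range
      (fun i => MvPolynomial.map (algebraMap R p.ResidueField) (f i)))) x) ∈ qb.map γ'
    rw [he, ← Ideal.mem_comap, hcomap]
  obtain ⟨hcn, hdim⟩ := localDim_of_isRegular' (A' := p.Fiber (RelGCIRing R n c f))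
    (fun i => MvPolynomial.map (algebraMap R p.ResidueField) (f i)) e Q' qb hqQ hreg
  refine ⟨hcn, fibrePoint R (RelGCIRing R n c f) p Q', ?_, ?_⟩
  · change FlatMor.fibreDimAt _ _ ≤ _
    rw [← localDim_fibre_eq_fibreDimAt, hdim]
  · ext a
    rw [Ideal.mem_comap, Ideal.mem_comap]
    change (1 : p.ResidueField) ⊗ₜ[R] (Ideal.Quotient.mk (Ideal.span (Set.range f)) a) ∈
      Q'.asIdeal ↔ _
    have : (1 : p.ResidueField) ⊗ₜ[R] (Ideal.Quotient.mk (Ideal.span (Set.range f)) a) =
        γ' (MvPolynomial.map (algebraMap R p.ResidueField) a) := by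
      rw [hγ'def]
      exact (fibHom_map p.ResidueField (Ideal.Quotient.mkₐ R (Ideal.span (Set.range f))) a).symm
    rw [hQ'def, this, ← Ideal.mem_comap, hcomap]

end Core4

end Groth.Agent.Lib.Helper5.RelGCI
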