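import Mathlib
import Groth.Prelude.Def_RegImm
import Groth.Agent.Lib.Helper5.RelGCIQ
import Groth.Agent.Lib.Helper5.RelGCIR

/-!
# Helper5 — RelGCIS

Local structure: a finitely presented algebra which is flat at a prime with complete intersection
fibre local ring is, near that prime, a relative global complete intersection.
-/

set_option autoImplicit false
universe u

namespace Groth.Agent.Lib.Helper5.RelGCI

open MvPolynomial Synt TensorProduct Groth.Agent.Lib.Helper5.SyntPres

section Core5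

variable {R : Type u} [CommRing R] {n : ℕ} (p : Ideal R) [p.IsPrime]

theorem exists_fin_generators {P : Type u} [CommRing P] (I : Ideal P) (hI : I.FG) :
    ∃ (m : ℕ) (b : Fin m → P), Ideal.span (Set.range b) = I := by
  classical
  obtain ⟨t, ht⟩ := hI
  refine ⟨t.card, fun i => (t.equivFin.symm i : P), ?_⟩
  rw [← ht]
  congr 1
  ext x
  simp only [Set.mem_range, Finset.mem_coe]
  constructor
  · rintro ⟨i, rfl⟩; exact (t.equivFin.symm i).2
  · intro hx; exact ⟨t.equivFin ⟨x, hx⟩, by simp⟩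

theorem core {T : Type u} [CommRing T] [Algebra R T]
    (Ψ : MvPolynomial (Fin n) R →ₐ[R] T) (hΨ : Function.Surjective Ψ)
    (hI : (RingHom.ker Ψ).FG)
    (QT : Ideal (p.Fiber T)) [hQT : QT.IsPrime]
    (qT : Ideal T) [hqTp : qT.IsPrime]
    (hqT : QT.comap (Algebra.TensorProduct.includeRight.toRingHom) = qT)
    (hflat : Module.Flat R (Localization.AtPrime qT))
    (hCI : IsCIOver p.ResidueField (Localization.AtPrime QT)) :
    ∃ g : T, g ∉ qT ∧
      ∃ (n' c' : ℕ) (F : Fin c' → MvPolynomial (Fin n') R), IsRelGCI R n' c' F ∧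
        Nonempty (Localization.Away g ≃ₐ[R] RelGCIRing R n' c' F) := by
  obtain ⟨I, hIdef⟩ : ∃ I : Ideal (MvPolynomial (Fin n) R), I = RingHom.ker Ψ := ⟨_, rfl⟩
  obtain ⟨γ, hγdef⟩ : ∃ γ : MvPolynomial (Fin n) p.ResidueField →ₐ[p.ResidueField] p.Fiber T,
      γ = fibHom p.ResidueField Ψ := ⟨_, rfl⟩
  have hγ : Function.Surjective γ := by
    rw [hγdef]
    exact fibHom_surjective p.ResidueField _ hΨ
  have hkerγ : RingHom.ker γ.toRingHom =
      I.map (MvPolynomial.map (algebraMap R p.ResidueField)) := by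
    rw [hγdef, hIdef]
    change RingHom.ker (fibHom p.ResidueField Ψ) = _
    rw [ker_fibHom p.ResidueField _ hΨ]
  have hγmap : ∀ a : MvPolynomial (Fin n) R,
      γ (MvPolynomial.map (algebraMap R p.ResidueField) a) =
        (1 : p.ResidueField) ⊗ₜ[R] (Ψ a) := by
    intro a
    rw [hγdef]
    exact fibHom_map p.ResidueField Ψ a
  obtain ⟨qb, hqb⟩ : ∃ qb : Ideal (MvPolynomial (Fin n) p.ResidueField),
    qb = QT.comap γ.toRingHom := ⟨_, rfl⟩
  have hqbprime : qb.IsPrime := hqb ▸ Ideal.comap_isPrime _ _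
  obtain ⟨rs, hrs, hrsspan⟩ :=
    (Groth.Agent.Lib.Helper5.CIField.isCIOver_atPrime_iff_regular γ QT qb hqb hγ).1 hCI
  rw [hkerγ] at hrsspan
  rw [← hIdef] at hI
  obtain ⟨m, b, hb⟩ := exists_fin_generators I hI
  have hbb : Ideal.span (Set.range
      (fun i => algebraMap _ (Localization.AtPrime qb)
        (MvPolynomial.map (algebraMap R p.ResidueField) (b i)))) = Ideal.ofList rs := by
    rw [hrsspan, ← hb, Ideal.map_span, Ideal.map_span, ← Set.range_comp, ← Set.range_comp]
    rfl
  obtain ⟨e, hreg, hespan⟩ := exists_sub_regular rs hrs _ hbb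
  obtain ⟨c, hc⟩ : ∃ c : ℕ, c = rs.length := ⟨_, rfl⟩
  subst hc
  obtain ⟨f, hf⟩ : ∃ f : Fin rs.length → MvPolynomial (Fin n) R, f = b ∘ e := ⟨_, rfl⟩
  have hfI : Ideal.span (Set.range f) ≤ I := by
    rw [Ideal.span_le, hf]
    rintro _ ⟨i, rfl⟩
    rw [← hb]
    exact Ideal.subset_span ⟨e i, rfl⟩
  have hreg' : RingTheory.Sequence.IsRegular (Localization.AtPrime qb)
      ((List.ofFn (fun i => MvPolynomial.map (algebraMap R p.ResidueField) (f i))).map
        (algebraMap (MvPolynomial (Fin n) p.ResidueField) (Localization.AtPrime qb))) := by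
    rw [List.map_ofFn, hf]
    exact hreg
  have hJspan : ((Ideal.span (Set.range f)).map
      (MvPolynomial.map (algebraMap R p.ResidueField))).map
        (algebraMap _ (Localization.AtPrime qb)) = Ideal.ofList rs := by
    rw [← hespan, Ideal.map_span, Ideal.map_span, ← Set.range_comp, ← Set.range_comp, hf]
    rfl
  have h3 := exists_mul_mem_sup p I (Ideal.span (Set.range f)) qb
    (by rw [hJspan, hrsspan])
  obtain ⟨q', hq'⟩ : ∃ q' : Ideal (MvPolynomial (Fin n) R),
    q' = qb.comap (MvPolynomial.map (algebraMap R p.ResidueField)) := ⟨_, rfl⟩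
  have hq'prime : q'.IsPrime := hq' ▸ Ideal.comap_isPrime _ _
  rw [← hq'] at h3
  have hq'qT : q' = qT.comap Ψ.toRingHom := by
    rw [hq', hqb, ← hqT]
    ext a
    rw [Ideal.mem_comap, Ideal.mem_comap, Ideal.mem_comap, Ideal.mem_comap]
    change γ (MvPolynomial.map (algebraMap R p.ResidueField) a) ∈ QT ↔ _
    rw [hγmap]
    rfl
  have hflat' : Module.Flat R (Localization.AtPrime q' ⧸
      I.map (algebraMap _ (Localization.AtPrime q'))) := by
    rw [hIdef]
    exact flat_atPrime_quotient_of_surjective Ψ hΨ qT q' hq'qT hflat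
  have hpq : p.map (C : R →+* MvPolynomial (Fin n) R) ≤ q' := by
    rw [Ideal.map_le_iff_le_comap]
    intro r hr
    rw [Ideal.mem_comap, hq', Ideal.mem_comap, MvPolynomial.map_C,
      Ideal.algebraMap_residueField_eq_zero.2 hr, map_zero]
    exact Ideal.zero_mem _
  have h4 := map_atPrime_eq_of_flat p I (Ideal.span (Set.range f)) hI hfI q' hpq h3
  obtain ⟨t₀, ht₀, ht₀I⟩ := exists_mul_mem_of_map_le I (Ideal.span (Set.range f)) hI q' h4.le
  have hfq : (Ideal.span (Set.range f)).map (MvPolynomial.map (algebraMap R p.ResidueField)) ≤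
      qb := by
    refine (Ideal.map_mono hfI).trans ?_
    rw [← hkerγ, hqb]
    intro x hx
    rw [Ideal.mem_comap, (RingHom.mem_ker).1 hx]
    exact Ideal.zero_mem _
  obtain ⟨hcn, x, hx, hxq⟩ := exists_mem_goodLocus p f qb hfq hreg'
  rw [← hq'] at hxq
  have hnle : ¬ (badIdeal R n rs.length f ≤ x.asIdeal) := by
    intro hle
    have hmem : x ∈ PrimeSpectrum.zeroLocus
        (badIdeal R n rs.length f : Set (RelGCIRing R n rs.length f)) := hle
    rw [zeroLocus_badIdeal] at hmem
    exact hmem hx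
  obtain ⟨t₁, ht₁, ht₁x⟩ := SetLike.not_le_iff_exists.1 hnle
  obtain ⟨h₁, rfl⟩ := Ideal.Quotient.mk_surjective t₁
  have hh₁ : h₁ ∉ q' := by
    rw [← hxq, Ideal.mem_comap]
    exact ht₁x
  have hrel := isRelGCI_extF_of_mem_badIdeal R n rs.length f hcn (t₀ * h₁)
    (by rw [map_mul]; exact Ideal.mul_mem_left _ _ ht₁)
  obtain ⟨e1⟩ := nonempty_away_equiv_of_surjective (R := R) Ψ hΨ (Ideal.span (Set.range f))
    (fun a ha => by
      have := hfI ha
      rw [hIdef] at this
      exact this) t₀ h₁ (fun a ha => ht₀I a (by rw [hIdef]; exact ha))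
  refine ⟨Ψ (t₀ * h₁), ?_, n + 1, rs.length + 1, extF R n rs.length f (t₀ * h₁), hrel,
    ⟨e1.trans (awayEquiv R n rs.length f (t₀ * h₁))⟩⟩
  intro hmem
  have : t₀ * h₁ ∈ q' := by
    rw [hq'qT, Ideal.mem_comap]
    exact hmem
  rcases hq'prime.mem_or_mem this with h' | h'
  · exact ht₀ h'
  · exact hh₁ h'

end Core5

end Groth.Agent.Lib.Helper5.RelGCI
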