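import Mathlib
import Groth.Prelude.Def_RegImm
import Groth.Agent.Lib.Helper5.RelGCID
import Groth.Agent.Lib.Helper5.RelGCIQ
import Groth.Agent.Lib.Helper5.RelGCIS
import Groth.Agent.Lib.Helper25.GlobalCI
import Groth.Agent.Lib.Helper25.SyntLocal

/-!
# Helper5 — RelGCIT

Transport between a ring and a basic open of it (local ring, fibre local ring), and the
equivalence: syntomic neighbourhood ↔ relative global complete intersection neighbourhood ↔
(finitely presented neighbourhood, flat local ring, complete intersection fibre local ring).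
-/

set_option autoImplicit false
universe u

namespace Groth.Agent.Lib.Helper5.RelGCI

open Synt TensorProduct

section Wrapper

variable {R S : Type u} [CommRing R] [CommRing S] [Algebra R S] (p : Ideal R) [p.IsPrime]
  (q : Ideal S) [hq : q.IsPrime] (Q : Ideal (p.Fiber S)) [hQp : Q.IsPrime]
  (hQ : Q.comap (Algebra.TensorProduct.includeRight.toRingHom) = q)

omit hq hQp in
include hQ in
theorem one_tmul_notMem (g₀ : S) (hg₀ : g₀ ∉ q) : ((1 : p.ResidueField) ⊗ₜ[R] g₀) ∉ Q := by
  intro hmem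
  apply hg₀
  rw [← hQ]
  exact hmem

theorem eq_of_comap_eq_of_isLocalization {A B : Type u} [CommRing A] [CommRing B] [Algebra A B]
    (M : Submonoid A) [IsLocalization M B] (J₁ J₂ : Ideal B)
    (h : J₁.comap (algebraMap A B) = J₂.comap (algebraMap A B)) : J₁ = J₂ := by
  have h1 : (J₁.comap (algebraMap A B)).map (algebraMap A B) = J₁ := IsLocalization.map_under M B J₁
  have h2 : (J₂.comap (algebraMap A B)).map (algebraMap A B) = J₂ := IsLocalization.map_under M B J₂
  rw [← h1, ← h2, h]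

include hQ in
theorem exists_fibre_prime_away (g₀ : S) (hg₀ : g₀ ∉ q) :
    ∃ (QT : Ideal (p.Fiber (Localization.Away g₀))) (_ : QT.IsPrime),
      QT.comap (Algebra.TensorProduct.includeRight.toRingHom) =
        q.map (algebraMap S (Localization.Away g₀)) ∧
      (IsCIOver p.ResidueField (Localization.AtPrime QT) ↔
        IsCIOver p.ResidueField (Localization.AtPrime Q)) := by
  have hg : ((1 : p.ResidueField) ⊗ₜ[R] g₀) ∉ Q := one_tmul_notMem p q Q hQ g₀ hg₀
  obtain ⟨eW, heW⟩ : ∃ eW : p.ResidueField ⊗[R] Localization.Away g₀ ≃ₐ[p.ResidueField]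
      Localization.Away ((1 : p.ResidueField) ⊗ₜ[R] g₀),
      ∀ (x : p.ResidueField) (a : S), eW (x ⊗ₜ algebraMap _ _ a) = algebraMap _ _ (x ⊗ₜ[R] a) :=
    ⟨IsLocalization.Away.tensorProductEquivTMulRight R p.ResidueField g₀ (Localization.Away g₀),
      IsLocalization.Away.tensorProductEquivTMulRight_tmul S g₀ (Localization.Away g₀)⟩
  have hdisjW : Disjoint (Submonoid.powers ((1 : p.ResidueField) ⊗ₜ[R] g₀) : Set (p.Fiber S))
      (Q : Set (p.Fiber S)) := by
    rw [Set.disjoint_left]
    rintro _ ⟨m, rfl⟩ hm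
    exact hg (hQp.mem_of_pow_mem m hm)
  obtain ⟨QW, hQW⟩ : ∃ QW : Ideal (Localization.Away ((1 : p.ResidueField) ⊗ₜ[R] g₀)),
    QW = Q.map (algebraMap (p.Fiber S) _) := ⟨_, rfl⟩
  have hQWp : QW.IsPrime := by
    rw [hQW]
    exact IsLocalization.isPrime_of_isPrime_disjoint
      (Submonoid.powers ((1 : p.ResidueField) ⊗ₜ[R] g₀)) _ Q hQp hdisjW
  have hQWcomap : QW.comap (algebraMap (p.Fiber S) _) = Q := by
    rw [hQW]
    exact IsLocalization.under_map_of_isPrime_disjoint
      (Submonoid.powers ((1 : p.ResidueField) ⊗ₜ[R] g₀)) _ hQp hdisjW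
  have hiff := isCIOver_atPrime_away_iff (k := p.ResidueField) Q _ hg QW hQW
  obtain ⟨QT, hQT⟩ : ∃ QT : Ideal (p.Fiber (Localization.Away g₀)), QT = QW.comap eW := ⟨_, rfl⟩
  have hQTp : QT.IsPrime := by rw [hQT]; exact Ideal.comap_isPrime _ _
  refine ⟨QT, hQTp, ?_, ?_⟩
  · have hdisj : Disjoint (Submonoid.powers g₀ : Set S) (q : Set S) := by
      rw [Set.disjoint_left]
      rintro _ ⟨m, rfl⟩ hm
      exact hg₀ (hq.mem_of_pow_mem m hm)
    refine eq_of_comap_eq_of_isLocalization (Submonoid.powers g₀) _ _ ?_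
    have hc : (q.map (algebraMap S (Localization.Away g₀))).comap
        (algebraMap S (Localization.Away g₀)) = q :=
      IsLocalization.under_map_of_isPrime_disjoint (Submonoid.powers g₀) _ hq hdisj
    rw [hc]
    ext s
    rw [Ideal.mem_comap, Ideal.mem_comap, hQT, Ideal.mem_comap]
    change eW ((1 : p.ResidueField) ⊗ₜ[R] algebraMap S (Localization.Away g₀) s) ∈ QW ↔ _
    rw [heW, ← Ideal.mem_comap, hQWcomap, ← hQ]
    rfl
  · rw [← hiff]
    let e := Localization.localAlgEquiv QT QW eW hQT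
    constructor
    · intro h
      exact Groth.Agent.Lib.Helper5.CIField.IsCIOver.of_algEquiv e h
    · intro h
      exact Groth.Agent.Lib.Helper5.CIField.IsCIOver.of_algEquiv e.symm h

end Wrapper

section Wrapper2

variable {R S : Type u} [CommRing R] [CommRing S] [Algebra R S]

theorem flat_atPrime_congr (q₁ q₂ : Ideal S) [q₁.IsPrime] [q₂.IsPrime] (h : q₁ = q₂)
    (hf : Module.Flat R (Localization.AtPrime q₁)) : Module.Flat R (Localization.AtPrime q₂) := by
  subst h
  exact hf

theorem flat_atPrime_away_iff (q : Ideal S) [hq : q.IsPrime] (g₀ : S) (hg₀ : g₀ ∉ q)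
    (qT : Ideal (Localization.Away g₀)) [hqT : qT.IsPrime]
    (hqTq : qT = q.map (algebraMap S (Localization.Away g₀))) :
    Module.Flat R (Localization.AtPrime qT) ↔ Module.Flat R (Localization.AtPrime q) := by
  have hdisj : Disjoint (Submonoid.powers g₀ : Set S) (q : Set S) := by
    rw [Set.disjoint_left]
    rintro _ ⟨m, rfl⟩ hm
    exact hg₀ (hq.mem_of_pow_mem m hm)
  have hcomap : qT.comap (algebraMap S (Localization.Away g₀)) = q := by
    rw [hqTq]
    exact IsLocalization.under_map_of_isPrime_disjoint (Submonoid.powers g₀) _ hq hdisj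
  let e := (IsLocalization.localizationLocalizationAtPrimeIsoLocalization
    (Submonoid.powers g₀) qT).restrictScalars R
  constructor
  · intro h1
    exact flat_atPrime_congr _ _ hcomap (Module.Flat.of_linearEquiv e.toLinearEquiv)
  · intro h1
    have h2 := flat_atPrime_congr (R := R) _ _ hcomap.symm h1
    exact Module.Flat.of_linearEquiv e.symm.toLinearEquiv

/-- a basic open of a basic open is a basic open. -/
theorem exists_away_equiv (q : Ideal S) [hq : q.IsPrime] (g₀ : S) (hg₀ : g₀ ∉ q)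
    (z : Localization.Away g₀) (hz : z ∉ q.map (algebraMap S (Localization.Away g₀))) :
    ∃ g : S, g ∉ q ∧ Nonempty (Localization.Away g ≃ₐ[R] Localization.Away z) := by
  have hass := IsLocalization.Away.associated_sec_fst g₀ z
  obtain ⟨s, hs⟩ : ∃ s : S, s = (IsLocalization.Away.sec g₀ z).1 := ⟨_, rfl⟩
  rw [← hs] at hass
  have hsq : s ∉ q := by
    intro hmem
    apply hz
    rw [← Ideal.mem_iff_of_associated hass]
    exact Ideal.mem_map_of_mem _ hmem
  have hloc : IsLocalization.Away (g₀ * s) (Localization.Away z) :=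
    IsLocalization.Away.mul_of_associated g₀ s z hass
  refine ⟨g₀ * s, fun hmem => (hq.mem_or_mem hmem).elim hg₀ hsq, ?_⟩
  exact ⟨(IsLocalization.algEquiv (Submonoid.powers (g₀ * s)) (Localization.Away (g₀ * s))
    (Localization.Away z)).restrictScalars R⟩

end Wrapper2

section Main

variable (R S : Type u) [CommRing R] [CommRing S] [Algebra R S] (p : Ideal R) [hp : p.IsPrime]
  (q : Ideal S) [hq : q.IsPrime] (Q : Ideal (p.Fiber S)) [hQp : Q.IsPrime]
  (hQ : Q.comap (Algebra.TensorProduct.includeRight.toRingHom) = q)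

include hQ in
theorem relGCI_nhd_of_local_conditions
    (h : ∃ g : S, g ∉ q ∧ Algebra.FinitePresentation R (Localization.Away g) ∧
      Module.Flat R (Localization.AtPrime q) ∧
      IsCIOver p.ResidueField (Localization.AtPrime Q)) :
    ∃ g : S, g ∉ q ∧ ∃ (n c : ℕ) (F : Fin c → MvPolynomial (Fin n) R), IsRelGCI R n c F ∧
      Nonempty (Localization.Away g ≃ₐ[R] RelGCIRing R n c F) := by
  obtain ⟨g₀, hg₀, hfp, hflat, hCI⟩ := h
  obtain ⟨n, Ψ, hΨ, hker⟩ := hfp.out
  obtain ⟨QT, hQTp, hQTcomap, hiff⟩ := exists_fibre_prime_away p q Q hQ g₀ hg₀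
  have hdisj : Disjoint (Submonoid.powers g₀ : Set S) (q : Set S) := by
    rw [Set.disjoint_left]
    rintro _ ⟨m, rfl⟩ hm
    exact hg₀ (hq.mem_of_pow_mem m hm)
  have hqTp : (q.map (algebraMap S (Localization.Away g₀))).IsPrime :=
    IsLocalization.isPrime_of_isPrime_disjoint (Submonoid.powers g₀) _ q hq hdisj
  have hflatT := (flat_atPrime_away_iff (R := R) q g₀ hg₀ _ rfl).2 hflat
  obtain ⟨z, hz, n', c', F, hF, ⟨e⟩⟩ := core p Ψ hΨ hker QT _ hQTcomap hflatT (hiff.2 hCI)
  obtain ⟨g, hg, ⟨e'⟩⟩ := exists_away_equiv (R := R) q g₀ hg₀ z hz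
  exact ⟨g, hg, n', c', F, hF, ⟨e'.trans e⟩⟩

omit hq hQp hp in
theorem syntomic_nhd_of_relGCI_nhd
    (h : ∃ g : S, g ∉ q ∧ ∃ (n c : ℕ) (F : Fin c → MvPolynomial (Fin n) R), IsRelGCI R n c F ∧
      Nonempty (Localization.Away g ≃ₐ[R] RelGCIRing R n c F)) :
    ∃ g : S, g ∉ q ∧ IsSyntomic R (Localization.Away g) := by
  obtain ⟨g, hg, n, c, F, hF, ⟨e⟩⟩ := h
  exact ⟨g, hg, Groth.Agent.Lib.Helper25.SyntLocal.isSyntomic_of_algEquiv e.symm
    (isSyntomic_of_isRelGCI R n c F hF)⟩

include hQ in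
theorem local_conditions_of_syntomic_nhd
    (h : ∃ g : S, g ∉ q ∧ IsSyntomic R (Localization.Away g)) :
    ∃ g : S, g ∉ q ∧ Algebra.FinitePresentation R (Localization.Away g) ∧
      Module.Flat R (Localization.AtPrime q) ∧
      IsCIOver p.ResidueField (Localization.AtPrime Q) := by
  obtain ⟨g, hg, hflat, hfp, hfib⟩ := h
  refine ⟨g, hg, hfp, ?_, ?_⟩
  · have hdisj : Disjoint (Submonoid.powers g : Set S) (q : Set S) := by
      rw [Set.disjoint_left]
      rintro _ ⟨m, rfl⟩ hm
      exact hg (hq.mem_of_pow_mem m hm)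
    have hqTp : (q.map (algebraMap S (Localization.Away g))).IsPrime :=
      IsLocalization.isPrime_of_isPrime_disjoint (Submonoid.powers g) _ q hq hdisj
    refine (flat_atPrime_away_iff (R := R) q g hg _ rfl).1 ?_
    exact Module.Flat.trans R (Localization.Away g) _
  · have h1 := hfib ⟨p, hp⟩
    have h2 : IsLCIOver p.ResidueField (Localization.Away ((1 : p.ResidueField) ⊗ₜ[R] g)) :=
      Groth.Agent.Lib.Helper25.GlobalCI.isLCIOver_of_algEquiv
        (IsLocalization.Away.tensorProductEquivTMulRight R p.ResidueField g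
          (Localization.Away g)) h1
    exact isCIOver_atPrime_of_isLCIOver_away' Q _ (one_tmul_notMem p q Q hQ g hg) h2

include hQ in
theorem main :
    ((∃ g : S, g ∉ q ∧ Synt.IsSyntomic R (Localization.Away g)) ↔
        ∃ g : S, g ∉ q ∧ ∃ (n c : ℕ) (F : Fin c → MvPolynomial (Fin n) R), Synt.IsRelGCI R n c F ∧
          Nonempty (Localization.Away g ≃ₐ[R] Synt.RelGCIRing R n c F)) ∧
      ((∃ g : S, g ∉ q ∧ Synt.IsSyntomic R (Localization.Away g)) ↔
        ∃ g : S, g ∉ q ∧ Algebra.FinitePresentation R (Localization.Away g) ∧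
          Module.Flat R (Localization.AtPrime q) ∧
          Synt.IsCIOver p.ResidueField (Localization.AtPrime Q)) := by
  refine ⟨⟨fun h => ?_, syntomic_nhd_of_relGCI_nhd R S q⟩, ⟨?_, fun h => ?_⟩⟩
  · exact relGCI_nhd_of_local_conditions R S p q Q hQ
      (local_conditions_of_syntomic_nhd R S p q Q hQ h)
  · exact local_conditions_of_syntomic_nhd R S p q Q hQ
  · exact syntomic_nhd_of_relGCI_nhd R S q (relGCI_nhd_of_local_conditions R S p q Q hQ h)

end Main

end Groth.Agent.Lib.Helper5.RelGCI
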