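import Mathlib
import Groth.Prelude.Def_RegImm
import Groth.Prelude.Def_LCI2
import Groth.Agent.Lib.Helper5.RelGCIH
import Groth.Agent.Lib.Helper5.RelGCIT
import Groth.Agent.Lib.Helper5.CIFieldC
import Groth.Agent.Lib.Helper5.CIFieldJ
import Groth.Agent.Lib.Helper5.KosFlatBC2
import Groth.Agent.Lib.Helper5.LciL
import Groth.Agent.Lib.Helper21.FlatLocal10

/-!
# Helper5 — RelGCIU

Syntomic ring maps are exactly the flat local complete intersection homomorphisms.
-/

set_option autoImplicit false
universe u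

namespace Groth.Agent.Lib.Helper5.RelGCI

open Synt TensorProduct Groth.Agent.Lib.Helper5.Lci Groth.Agent.Lib.Helper5.SyntPres

section Local

variable {R S : Type u} [CommRing R] [CommRing S] [Algebra R S]

/-- a syntomic algebra is, near every prime, a relative global complete intersection. -/
theorem exists_relGCI_nhd_of_isSyntomic (h : IsSyntomic R S) (q : Ideal S) [hq : q.IsPrime] :
    ∃ g : S, g ∉ q ∧ ∃ (n c : ℕ) (F : Fin c → MvPolynomial (Fin n) R), IsRelGCI R n c F ∧
      Nonempty (Localization.Away g ≃ₐ[R] RelGCIRing R n c F) := by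
  obtain ⟨Q, hQp, hQq⟩ := Groth.Agent.Lib.Helper21.FlatLocal.exists_fiber_prime
    (q.under R) q rfl
  have hQ : Q.comap (Algebra.TensorProduct.includeRight.toRingHom) = q := hQq.symm
  refine ((main R S (q.under R) q Q hQ).1).1 ⟨1, ?_, ?_⟩
  · exact (Ideal.ne_top_iff_one q).1 hq.ne_top
  · exact Groth.Agent.Lib.Helper25.SyntLocal.isSyntomic_away h 1 (Localization.Away (1 : S))

theorem isLCI_relGCIRing (n c : ℕ) (F : Fin c → MvPolynomial (Fin n) R)
    (hF : IsRelGCI R n c F) : LCI.IsLCI R (RelGCIRing R n c F) := by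
  have hsurj : Function.Surjective (Ideal.Quotient.mkₐ R (Ideal.span (Set.range F))) :=
    Ideal.Quotient.mkₐ_surjective R _
  refine ⟨Algebra.FiniteType.of_surjective _ hsurj, n, Ideal.Quotient.mkₐ R _, hsurj, ?_⟩
  have hker : RingHom.ker (Ideal.Quotient.mkₐ R (Ideal.span (Set.range F))).toRingHom =
      Ideal.ofList (List.ofFn F) := by
    rw [Groth.Agent.Lib.Helper5.CIField.ofList_ofFn_eq_span_range]
    ext x
    rw [RingHom.mem_ker]
    exact Ideal.Quotient.eq_zero_iff_mem
  rw [hker]
  exact isKoszulRegularIdeal_ofList _ (isKoszulRegularSeq_of_isRelGCI R n c F hF)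

theorem isLCI_of_algEquiv {S' : Type u} [CommRing S'] [Algebra R S'] (e : S ≃ₐ[R] S')
    (h : LCI.IsLCI R S) : LCI.IsLCI R S' := by
  rw [← isLciHom_algebraMap] at h ⊢
  have h1 : algebraMap R S' = (e : S →+* S').comp (algebraMap R S) := by
    ext x
    exact (e.commutes x).symm
  rw [h1]
  exact h.comp (isLciHom_of_bijective _ e.bijective)

theorem isLCI_of_isSyntomic (h : IsSyntomic R S) : LCI.IsLCI R S := by
  refine Groth.Agent.Lib.Helper5.CIField.isLCI_of_forall_prime fun q => ?_
  have := q.isPrime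
  obtain ⟨g, hg, n, c, F, hF, ⟨e⟩⟩ := exists_relGCI_nhd_of_isSyntomic h q.asIdeal
  exact ⟨g, hg, isLCI_of_algEquiv e.symm (isLCI_relGCIRing n c F hF)⟩

end Local

section Field

variable {k A : Type u} [Field k] [CommRing A] [Algebra k A]

theorem isLCI_away (g : A) (h : LCI.IsLCI k A) : LCI.IsLCI k (Localization.Away g) := by
  rw [← isLciHom_algebraMap] at h ⊢
  rw [IsScalarTower.algebraMap_eq k A (Localization.Away g)]
  exact h.comp (isLciHom_algebraMap_away g)

theorem isLCIOver_of_isLCI_field (h : LCI.IsLCI k A) : IsLCIOver k A := by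
  have hft : Algebra.FiniteType k A := h.1
  obtain ⟨n, γ, hγ⟩ := Algebra.FiniteType.iff_quotient_mvPolynomial''.1 hft
  refine ⟨hft, fun Q => ?_⟩
  have hQp := Q.isPrime
  refine (Groth.Agent.Lib.Helper5.CIField.isCIOver_atPrime_iff (k := k) Q.asIdeal).1 ?_
  have hq'p : (Q.asIdeal.comap γ.toRingHom).IsPrime := Ideal.comap_isPrime _ _
  have hker : RingHom.ker γ.toRingHom ≤ Q.asIdeal.comap γ.toRingHom := by
    intro x hx
    rw [Ideal.mem_comap, (RingHom.mem_ker).1 hx]
    exact Ideal.zero_mem _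
  have h1 : (1 : MvPolynomial (Fin n) k) ∉ Q.asIdeal.comap γ.toRingHom :=
    (Ideal.ne_top_iff_one _).1 hq'p.ne_top
  obtain ⟨a, hreg, hspan⟩ := Groth.Agent.Lib.Helper5.CIField.exists_isRegular_of_isLCI_away γ hγ
    (Q.asIdeal.comap γ.toRingHom) hker 1 h1 (isLCI_away (γ 1) h)
  exact (Groth.Agent.Lib.Helper5.CIField.isCIOver_atPrime_iff_regular γ Q.asIdeal
    (Q.asIdeal.comap γ.toRingHom) rfl hγ).2 ⟨_, hreg, hspan.symm⟩

end Field

section Converse

attribute [local instance] MvPolynomial.algebraMvPolynomial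

variable {R S : Type u} [CommRing R] [CommRing S] [Algebra R S]

theorem fg_of_isKoszulRegularIdeal {T : Type u} [CommRing T] (J : Ideal T)
    (h : LCI.IsKoszulRegularIdeal J) : J.FG := by
  classical
  let t : Set T := {g | (J.map (algebraMap T (Localization.Away g))).FG}
  apply Ideal.fg_of_localizationSpan t ?_ (fun g => g.2)
  by_contra hne
  obtain ⟨Q, hQmax, hQ⟩ := Ideal.exists_le_maximal _ hne
  have := hQmax.isPrime
  by_cases hJQ : J ≤ Q
  · obtain ⟨g, hg, l, -, hspan⟩ := h ⟨Q, inferInstance⟩ hJQ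
    apply hg
    apply hQ
    apply Ideal.subset_span
    show (J.map _).FG
    rw [hspan]
    exact ⟨l.toFinset, by simp⟩
  · obtain ⟨g, hgJ, hgQ⟩ := Set.not_subset.1 hJQ
    apply hgQ
    apply hQ
    apply Ideal.subset_span
    show (J.map _).FG
    have : J.map (algebraMap T (Localization.Away g)) = ⊤ := by
      apply Ideal.eq_top_of_isUnit_mem _ (Ideal.mem_map_of_mem _ hgJ)
      exact IsLocalization.Away.algebraMap_isUnit g
    rw [this]
    exact ⟨{1}, by simp⟩

theorem isSyntomic_of_flat_of_isLCI (hfl : Module.Flat R S) (h : LCI.IsLCI R S) :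
    IsSyntomic R S := by
  obtain ⟨hft, n, f, hf, hI⟩ := h
  have hfg : (RingHom.ker f.toRingHom).FG := fg_of_isKoszulRegularIdeal _ hI
  have hfp : Algebra.FinitePresentation R S := Algebra.FinitePresentation.of_surjective hf hfg
  refine ⟨hfl, hfp, fun p => ?_⟩
  have := p.isPrime
  apply isLCIOver_of_isLCI_field
  have hflatq : Module.Flat R (MvPolynomial (Fin n) R ⧸ RingHom.ker f.toRingHom) :=
    Module.Flat.of_linearEquiv (Ideal.quotientKerAlgEquivOfSurjective hf).toLinearEquiv
  have hI' := Groth.Agent.Lib.Helper5.KosFlatBC.isKoszulRegularIdeal_map_of_flat R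
    p.asIdeal.ResidueField (P' := MvPolynomial (Fin n) p.asIdeal.ResidueField)
    (RingHom.ker f.toRingHom) hI
  have hγ : Function.Surjective (fibHom p.asIdeal.ResidueField f) :=
    fibHom_surjective _ _ hf
  refine ⟨Algebra.FiniteType.of_surjective _ hγ, n, fibHom p.asIdeal.ResidueField f, hγ, ?_⟩
  have hk : RingHom.ker (fibHom p.asIdeal.ResidueField f).toRingHom =
      (RingHom.ker f.toRingHom).map (algebraMap (MvPolynomial (Fin n) R)
        (MvPolynomial (Fin n) p.asIdeal.ResidueField)) := by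
    change RingHom.ker (fibHom p.asIdeal.ResidueField f) = _
    rw [ker_fibHom _ _ hf]
    rfl
  rw [hk]
  exact hI'

end Converse

end Groth.Agent.Lib.Helper5.RelGCI
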