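import Mathlib
import Groth.Prelude.Def_DRing2
import Groth.Agent.Lib.Helper16.TorAmp7
import Groth.Agent.Lib.Helper16.TorAmp9
import Groth.Agent.Lib.Helper16.TorBal6
import Groth.Agent.Lib.Helper16.TensInd
import Groth.Agent.Lib.Helper15.RelPC23
import Groth.Agent.Lib.Helper8.DRing2

/-!
# Helper5 — TorDbl

A two-term complex `M → L` (degrees `-1, 0`) with `L` flat and tor amplitude in `[-1, 0]` has `M` flat.
-/

set_option autoImplicit false
set_option linter.style.haveILetI false
universe u

open CategoryTheory CategoryTheory.Limits HomologicalComplex DerivedCategory CochainComplex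

attribute [local instance] HasDerivedCategory.standard

namespace Groth.Agent.Lib.Helper5.TorDbl

variable {R : Type u} [CommRing R]

theorem hr : (ComplexShape.up ℤ).Rel (-1) 0 := by simp

variable {M L : ModuleCat.{u} R} (d : M ⟶ L)

/-- the map of single complexes -/
noncomputable abbrev sMap :
    (single (ModuleCat.{u} R) (ComplexShape.up ℤ) 0).obj M ⟶
      (single (ModuleCat.{u} R) (ComplexShape.up ℤ) 0).obj L :=
  (single (ModuleCat.{u} R) (ComplexShape.up ℤ) 0).map d

/-- the chain map from the two-term complex to the mapping cone -/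
noncomputable def toCone : double d hr ⟶ mappingCone (sMap d) :=
  mkHomFromDouble hr (by decide)
    ((singleObjXSelf (ComplexShape.up ℤ) 0 M).inv ≫ (mappingCone.inl (sMap d)).v 0 (-1) (by simp))
    ((singleObjXSelf (ComplexShape.up ℤ) 0 L).inv ≫ (mappingCone.inr (sMap d)).f 0)
    (by
      rw [Category.assoc, mappingCone.inl_v_d (sMap d) 0 (-1) 1 (by simp) (by simp)]
      simp [single_map_f_self])
    (by
      intro k hk
      have hk' : k = 1 := by simpa using hk.symm
      subst hk'
      rw [Category.assoc, mappingCone.inr_f_d]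
      simp)

theorem isIso_toCone : IsIso (toCone d) := by
  have key : ∀ n : ℤ, IsIso ((toCone d).f n) := by
    intro n
    by_cases hn1 : n = -1
    · subst hn1
      have h1 : IsIso ((mappingCone.inl (sMap d)).v 0 (-1) (by simp)) := by
        refine ⟨(mappingCone.fst (sMap d)).1.v (-1) 0 (by simp), ?_, ?_⟩
        · exact mappingCone.inl_v_fst_v (sMap d) 0 (-1) (by simp)
        · have hz : IsZero (((single (ModuleCat.{u} R) (ComplexShape.up ℤ) 0).obj L).X (-1)) :=
            isZero_single_obj_X _ _ _ _ (by decide)
          have := mappingCone.id_X (sMap d) (-1) 0 (by simp)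
          rw [hz.eq_of_tgt ((mappingCone.snd (sMap d)).v (-1) (-1) (add_zero _)) 0, zero_comp,
            add_zero] at this
          exact this
      rw [toCone, mkHomFromDouble_f₀]
      infer_instance
    · by_cases hn0 : n = 0
      · subst hn0
        have h1 : IsIso ((mappingCone.inr (sMap d)).f 0) := by
          refine ⟨(mappingCone.snd (sMap d)).v 0 0 (add_zero _), ?_, ?_⟩
          · exact mappingCone.inr_f_snd_v (sMap d) 0
          · have hz : IsZero (((single (ModuleCat.{u} R) (ComplexShape.up ℤ) 0).obj M).X 1) :=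
              isZero_single_obj_X _ _ _ _ (by decide)
            have := mappingCone.id_X (sMap d) 0 1 (by simp)
            rw [hz.eq_of_tgt ((mappingCone.fst (sMap d)).1.v 0 1 (by simp)) 0, zero_comp,
              zero_add] at this
            exact this
        rw [toCone, mkHomFromDouble_f₁]
        infer_instance
      · have z1 : IsZero ((double d hr).X n) := isZero_double_X _ _ n hn1 hn0
        have z2 : IsZero ((mappingCone (sMap d)).X n) :=
          Groth.Agent.Lib.Helper8.DRing2.isZero_mappingCone_X (sMap d) n
            (isZero_single_obj_X _ _ _ _ (by omega)) (isZero_single_obj_X _ _ _ _ hn0)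
        exact isIso_of_source_target_iso_zero _ z1.isoZero z2.isoZero
  exact HomologicalComplex.Hom.isIso_of_components _

open Groth.Agent.Lib.Helper16.TorAmp in
/-- **flatness of the degree `-1` term** -/
theorem flat_of_torAmp_double [Module.Flat R L]
    (h : DRing.HasTorAmplitudeIn R (-1) 0 (DRing.toD (double d hr))) : Module.Flat R M := by
  have := isIso_toCone d
  have e3 : DRing.toD (double d hr) ≅ Q.obj (mappingCone (sMap d)) := Q.mapIso (asIso (toCone d))
  have hT := mappingCone_triangle_distinguished (sMap d)
  have h3 : DRing.HasTorAmplitudeIn R (-1) 0 (Q.obj (mappingCone (sMap d))) :=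
    hasTorAmplitudeIn_of_iso e3 _ _ h
  have h2 : DRing.HasTorAmplitudeIn R (-1 + 1) (0 + 1)
      (Q.obj ((single (ModuleCat.{u} R) (ComplexShape.up ℤ) 0).obj L)) := by
    refine ⟨(single (ModuleCat.{u} R) (ComplexShape.up ℤ) 0).obj L, fun i hi => ?_,
      Groth.Agent.Lib.Helper16.TensInd.termwiseFlat_single L 0, ⟨Iso.refl _⟩⟩
    exact isZero_single_obj_X _ _ _ _ (by omega)
  have h1 := torAmp_obj₁ _ hT (-1) 0 h2 h3
  have h1' : DRing.HasTorAmplitudeIn R 0 1 (Dual.inD R M) := by
    have e1 : Q.obj ((single (ModuleCat.{u} R) (ComplexShape.up ℤ) 0).obj M) ≅ Dual.inD R M :=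
      ((singleFunctorIsoCompQ (ModuleCat.{u} R) 0).symm.app M)
    have := hasTorAmplitudeIn_of_iso e1 _ _ h1
    simpa using this
  have h4 := Groth.Agent.Lib.Helper15.RelPC23.hasTorDimLE_of_torAmp (R := R) M 0 1 h1'
  have h5 := (Groth.Agent.Lib.Helper16.TorBal.hasTorDimLE_iff_torAmp (R := R) M 0).1
    (by simpa using h4)
  exact (Groth.Agent.Lib.Helper16.TorBal.torAmp_zero_iff_flat (R := R) M).1 (by simpa using h5)

end Groth.Agent.Lib.Helper5.TorDbl
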