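import Mathlib
import Groth.Prelude.Def_LCI2
import Groth.Prelude.Def_RegImm
import Groth.Agent.S2189
import Groth.Agent.Lib.Helper5.CotBC
import Groth.Agent.Lib.Helper5.TorDbl
import Groth.Agent.Lib.Helper5.NLHtpy
import Groth.Agent.Lib.Helper5.RelGCIU
import Groth.Agent.Lib.Helper5.LciF
import Groth.Agent.Lib.Helper5.RegImmB
import Groth.Agent.Lib.helper11.RegularRingPD

/-!
# Helper5 — NLFib

For a flat finitely presented algebra whose conormal module (for a finite presentation) is flat, all fibres are
local complete intersections; hence the algebra is a local complete intersection.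
-/

set_option autoImplicit false
set_option linter.style.haveILetI false
universe u

open TensorProduct Algebra Algebra.Extension CategoryTheory

namespace Groth.Agent.Lib.Helper5.NLFib

section Proj

variable {R S : Type u} [CommRing R] [CommRing S] [Algebra R S]

/-- projectivity of the conormal module over the quotient ring, from the extension form. -/
theorem projective_ker_cotangent (P : Extension.{u} R S) [Module.Projective S P.Cotangent] :
    Module.Projective (P.Ring ⧸ P.ker) P.ker.Cotangent := by
  let e₁ : (P.Ring ⧸ P.ker) ≃+* S :=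
    RingHom.quotientKerEquivOfSurjective P.algebraMap_surjective
  have he₁ : ∀ p : P.Ring, e₁ (Ideal.Quotient.mk P.ker p) = algebraMap P.Ring S p := fun p => rfl
  have i1 : RingHomInvPair (e₁ : P.Ring ⧸ P.ker →+* S) (e₁.symm : S →+* P.Ring ⧸ P.ker) :=
    RingHomInvPair.of_ringEquiv e₁
  have i2 : RingHomInvPair (e₁.symm : S →+* P.Ring ⧸ P.ker) (e₁ : P.Ring ⧸ P.ker →+* S) :=
    RingHomInvPair.of_ringEquiv_symm e₁
  let e₂ : P.ker.Cotangent ≃ₛₗ[(e₁ : P.Ring ⧸ P.ker →+* S)] P.Cotangent :=
    { toFun := Cotangent.of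
      invFun := Cotangent.val
      map_add' := fun x y => rfl
      map_smul' := fun c m => by
        obtain ⟨p, rfl⟩ := Ideal.Quotient.mk_surjective c
        change Cotangent.of ((Ideal.Quotient.mk P.ker p) • m) =
          e₁ (Ideal.Quotient.mk P.ker p) • Cotangent.of m
        rw [he₁, algebraMap_smul]
        apply Cotangent.ext
        rw [Cotangent.val_smul', Cotangent.val_of, Cotangent.val_of]
        exact algebraMap_smul (P.Ring ⧸ P.ker) p m
      left_inv := fun x => rfl
      right_inv := fun x => rfl }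
  exact Module.Projective.of_equiv e₂.symm

end Proj

section Fibre

variable {A B : Type u} [CommRing A] [CommRing B] [Algebra A B]

/-- **the fibres are local complete intersections**. -/
theorem isLCI_fibre [Module.Flat A B] (n : ℕ) (G : Generators A B (Fin n))
    [Module.Flat B G.toExtension.Cotangent] (κ : Type u) [Field κ] [Algebra A κ] :
    LCI.IsLCI κ (κ ⊗[A] B) := by
  classical
  let P := G.toExtension
  let P' : Extension κ (κ ⊗[A] B) := P.baseChange (T := κ)
  let e : P'.Ring ≃ₐ[κ] MvPolynomial (Fin n) κ := MvPolynomial.algebraTensorAlgEquiv A κ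
  have hN : IsNoetherianRing P'.Ring := isNoetherianRing_of_ringEquiv _ e.symm.toRingEquiv
  have hreg : IsRegularRing P'.Ring := IsRegularRing.of_ringEquiv e.symm.toRingEquiv
  have hNC : IsNoetherianRing (κ ⊗[A] B) :=
    isNoetherianRing_of_surjective _ _ (algebraMap P'.Ring (κ ⊗[A] B)) P'.algebraMap_surjective
  have hfl : Module.Flat (κ ⊗[A] B) P'.Cotangent :=
    Groth.Agent.Lib.Helper5.CotBC.flat_cotangent_baseChange P κ
  have hfin : Module.Finite (κ ⊗[A] B) P'.Cotangent :=
    Cotangent.finite (IsNoetherian.noetherian P'.ker)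
  have hfp : Module.FinitePresentation (κ ⊗[A] B) P'.Cotangent :=
    Module.finitePresentation_of_finite _ _
  have hproj : Module.Projective (κ ⊗[A] B) P'.Cotangent :=
    Module.Flat.projective_of_finitePresentation
  have hproj' : Module.Projective (P'.Ring ⧸ P'.ker) P'.ker.Cotangent :=
    projective_ker_cotangent P'
  have : Module.Finite P'.Ring ↥P'.ker := Module.Finite.iff_fg.mpr (IsNoetherian.noetherian _)
  obtain ⟨d, hd⟩ := Groth.Agent.Lib.helper11.RegularRingPD.exists_hasProjectiveDimensionLE
    (ModuleCat.of P'.Ring ↥P'.ker)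
  have hKR : LCI.IsKoszulRegularIdeal P'.ker := by
    rintro ⟨q, hq⟩ hle
    obtain ⟨g, hg, rs, hrs, hspan⟩ := Groth.Agent.S2189.result P'.ker (d + 1) hd q hle
    exact ⟨g, hg, rs,
      Groth.Agent.Lib.Helper5.RegImmB.isKoszulRegularSeq_of_isWeaklyRegular rs hrs.1, hspan.symm⟩
  let γ : MvPolynomial (Fin n) κ →ₐ[κ] (κ ⊗[A] B) :=
    (IsScalarTower.toAlgHom κ P'.Ring (κ ⊗[A] B)).comp (e.symm : MvPolynomial (Fin n) κ →ₐ[κ] P'.Ring)
  have hγ : Function.Surjective γ := P'.algebraMap_surjective.comp e.symm.surjective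
  have hker : RingHom.ker γ.toRingHom = P'.ker.map (e.toRingEquiv : P'.Ring →+* _) := by
    ext x
    rw [RingHom.mem_ker]
    constructor
    · intro hx
      have : e.symm x ∈ P'.ker := hx
      have h2 := Ideal.mem_map_of_mem (e.toRingEquiv : P'.Ring →+* MvPolynomial (Fin n) κ) this
      simpa using h2
    · intro hx
      rw [Ideal.mem_map_iff_of_surjective (e.toRingEquiv : P'.Ring →+* MvPolynomial (Fin n) κ)
        e.toRingEquiv.surjective] at hx
      obtain ⟨y, hy, rfl⟩ := hx
      change algebraMap P'.Ring (κ ⊗[A] B) (e.symm (e y)) = 0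
      rw [AlgEquiv.symm_apply_apply]
      exact hy
  refine ⟨Algebra.FiniteType.of_surjective γ hγ, n, γ, hγ, ?_⟩
  rw [hker]
  exact Groth.Agent.Lib.Helper5.Lci.isKoszulRegularIdeal_map_ringEquiv e.toRingEquiv P'.ker hKR

end Fibre

section Main

attribute [local instance] HasDerivedCategory.standard

variable {A B : Type u} [CommRing A] [CommRing B] [Algebra A B]

open Groth.Agent.Lib.Helper5.NLHtpy in
/-- tor amplitude of `NL` gives flatness of the conormal module of any presentation. -/
theorem flat_cotangent_of_torAmp {ι : Type} (G : Generators A B ι)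
    (h : DRing.HasTorAmplitudeIn B (-1) 0 (LCI.NL A B)) :
    Module.Flat B G.toExtension.Cotangent := by
  obtain ⟨e⟩ := nonempty_toD_iso_NL A B G
  have h1 : DRing.HasTorAmplitudeIn B (-1) 0 (DRing.toD (NLCx.cx G.toExtension)) :=
    Groth.Agent.Lib.Helper16.TorAmp.hasTorAmplitudeIn_of_iso e.symm _ _ h
  have : Module.Flat B (ModuleCat.of B G.toExtension.CotangentSpace) :=
    inferInstanceAs (Module.Flat B G.toExtension.CotangentSpace)
  exact Groth.Agent.Lib.Helper5.TorDbl.flat_of_torAmp_double
    (ModuleCat.ofHom G.toExtension.cotangentComplex) h1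

theorem isLCI_of_torAmp [Module.Flat A B] [Algebra.FinitePresentation A B]
    (h : DRing.HasTorAmplitudeIn B (-1) 0 (LCI.NL A B)) : LCI.IsLCI A B := by
  obtain ⟨n, f, hf, -⟩ := (inferInstance : Algebra.FinitePresentation A B).out
  let G : Generators A B (Fin n) := Generators.ofAlgHom f hf
  have := flat_cotangent_of_torAmp G h
  refine Groth.Agent.Lib.Helper5.RelGCI.isLCI_of_isSyntomic ⟨inferInstance, inferInstance, fun p => ?_⟩
  exact Groth.Agent.Lib.Helper5.RelGCI.isLCIOver_of_isLCI_field
    (isLCI_fibre n G p.asIdeal.ResidueField)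

end Main

end Groth.Agent.Lib.Helper5.NLFib
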