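import Mathlib
import Groth.Prelude.Def_LCI2
import Groth.Agent.S2189
import Groth.Agent.Lib.Helper5.NLFib
import Groth.Agent.Lib.Helper25.PdTor
import Groth.Agent.Lib.Helper15.RelPC17

/-!
# Helper5 — NLFtd

Finite modules of finite tor dimension over a Noetherian ring have finite projective dimension; the
Noetherian finite-tor-dimension form of "NL has tor amplitude in [-1,0] implies lci".
-/

set_option autoImplicit false
set_option linter.style.haveILetI false
universe u

open TensorProduct Algebra Algebra.Extension CategoryTheory

namespace Groth.Agent.Lib.Helper5.NLFtd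

open Groth.Agent.Lib.Helper25

section Syz

variable {S : Type u} [CommRing S]

theorem syzClosed_finite [IsNoetherianRing S] :
    PdTor.SyzClosed (fun M : ModuleCat.{u} S => Module.Finite S M) := by
  refine ⟨fun M hM => ?_, fun M hM => ?_⟩
  · have : Module.Finite S M := hM
    exact Module.finitePresentation_of_finite S M
  · have : Module.Finite S M := hM
    obtain ⟨k, π₀, hπ₀⟩ := Module.Finite.exists_fin' S M
    let K₀ : Submodule S (Fin k → S) := LinearMap.ker π₀
    have hex₀ : Function.Exact K₀.subtype π₀ := LinearMap.exact_subtype_ker_map π₀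
    let i : ModuleCat.of S K₀ ⟶ ModuleCat.of S (Fin k → S) := ModuleCat.ofHom K₀.subtype
    let q : ModuleCat.of S (Fin k → S) ⟶ M := ModuleCat.ofHom π₀
    have w : i ≫ q = 0 := by
      ext x
      show π₀ (K₀.subtype x) = 0
      exact hex₀.apply_apply_eq_zero x
    refine ⟨_, _, i, q, w, ?_, ?_, ?_⟩
    · apply ModuleCat.shortComplex_shortExact
      · exact hex₀
      · exact K₀.injective_subtype
      · exact hπ₀
    · have : Module.Projective S (Fin k → S) := inferInstance
      exact (IsProjective.iff_projective _).1 inferInstance
    · show Module.Finite S K₀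
      infer_instance

theorem hasProjectiveDimensionLT_of_hasTorDimLE [IsNoetherianRing S] (M : Type u)
    [AddCommGroup M] [Module S M] [Module.Finite S M] (d : ℕ) (h : DRing.HasTorDimLE S d M) :
    HasProjectiveDimensionLT (ModuleCat.of S M) (d + 1) := by
  refine PdTor.hasProjectiveDimensionLT_of_torLT syzClosed_finite (d + 1) (ModuleCat.of S M)
    (inferInstanceAs (Module.Finite S M)) ?_
  intro j hj N
  rw [ModuleCat.isZero_iff_subsingleton]
  exact h N j (by omega)

/-- the kernel of a surjection from the ring onto a cyclic module of finite projective dimension. -/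
theorem hasProjectiveDimensionLT_ker {B : Type u} [CommRing B] [Algebra S B]
    (hsurj : Function.Surjective (algebraMap S B)) (d : ℕ)
    (h : HasProjectiveDimensionLT (ModuleCat.of S B) (d + 1)) :
    HasProjectiveDimensionLT (ModuleCat.of S (RingHom.ker (algebraMap S B))) (d + 1) := by
  let I : Ideal S := RingHom.ker (algebraMap S B)
  let i : ModuleCat.of S I ⟶ ModuleCat.of S S := ModuleCat.ofHom (Submodule.subtype I)
  let q : ModuleCat.of S S ⟶ ModuleCat.of S B := ModuleCat.ofHom (Algebra.linearMap S B)
  have hex : Function.Exact (Submodule.subtype I) (Algebra.linearMap S B) := by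
    intro y
    constructor
    · intro hy
      exact ⟨⟨y, hy⟩, rfl⟩
    · rintro ⟨z, rfl⟩
      exact z.2
  have w : i ≫ q = 0 := by
    ext x
    exact hex.apply_apply_eq_zero x
  have hS : (ShortComplex.mk i q w).ShortExact := by
    apply ModuleCat.shortComplex_shortExact
    · exact hex
    · exact Submodule.injective_subtype I
    · exact hsurj
  have hP : Projective (ModuleCat.of S S) := (IsProjective.iff_projective _).1 inferInstance
  have h2 : HasProjectiveDimensionLT (ModuleCat.of S B) (d + 2) :=
    hasProjectiveDimensionLT_of_ge _ (d + 1) (d + 2) (by omega)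
  exact (hS.hasProjectiveDimensionLT_X₃_iff d hP).1 h2

end Syz

section Main

attribute [local instance] HasDerivedCategory.standard

variable {A B : Type u} [CommRing A] [CommRing B] [Algebra A B]

theorem isLCI_of_torAmp_of_finiteTorDim [IsNoetherianRing A] [Algebra.FiniteType A B]
    (hB : DRing.HasFiniteTorDim A B)
    (h : DRing.HasTorAmplitudeIn B (-1) 0 (LCI.NL A B)) : LCI.IsLCI A B := by
  obtain ⟨n, f, hf⟩ := Algebra.FiniteType.iff_quotient_mvPolynomial''.1
    (inferInstance : Algebra.FiniteType A B)
  let G : Generators A B (Fin n) := Generators.ofAlgHom f hf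
  let P := G.toExtension
  have haev : MvPolynomial.aeval G.val = f := by
    ext j
    simp [G, Generators.ofAlgHom]
  have hker : P.ker = RingHom.ker f.toRingHom := by
    ext x
    change algebraMap G.Ring B x = 0 ↔ f x = 0
    rw [Generators.algebraMap_apply, haev]
  have hNP : IsNoetherianRing P.Ring := inferInstanceAs (IsNoetherianRing (MvPolynomial (Fin n) A))
  have hNB : IsNoetherianRing B :=
    isNoetherianRing_of_surjective _ _ (algebraMap P.Ring B) P.algebraMap_surjective
  have hfl : Module.Flat B P.Cotangent := Groth.Agent.Lib.Helper5.NLFib.flat_cotangent_of_torAmp G h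
  have hfin : Module.Finite B P.Cotangent := Cotangent.finite (IsNoetherian.noetherian P.ker)
  have hfp : Module.FinitePresentation B P.Cotangent := Module.finitePresentation_of_finite _ _
  have hproj : Module.Projective B P.Cotangent := Module.Flat.projective_of_finitePresentation
  have hproj' : Module.Projective (P.Ring ⧸ P.ker) P.ker.Cotangent :=
    Groth.Agent.Lib.Helper5.NLFib.projective_ker_cotangent P
  -- finite tor dimension over the polynomial ring
  have hftd : DRing.HasFiniteTorDim P.Ring B := by
    have h1 := Groth.Agent.Lib.Helper15.RelPC17.ftd_presentation hB f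
    have halg : (f : MvPolynomial (Fin n) A →+* B).toAlgebra =
        (inferInstance : Algebra P.Ring B) := by
      apply Algebra.algebra_ext
      intro r
      change f r = algebraMap G.Ring B r
      rw [Generators.algebraMap_apply, haev]
    unfold Groth.Agent.Lib.Helper15.RelPC11.FTD at h1
    rw [halg] at h1
    exact h1
  obtain ⟨d, hd⟩ := hftd
  have : Module.Finite P.Ring B := Module.Finite.of_surjective (Algebra.linearMap P.Ring B)
    P.algebraMap_surjective
  have hpdB := hasProjectiveDimensionLT_of_hasTorDimLE (S := P.Ring) B d hd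
  have hpd : HasProjectiveDimensionLT (ModuleCat.of P.Ring ↥P.ker) (d + 1) :=
    hasProjectiveDimensionLT_ker P.algebraMap_surjective d hpdB
  have hKR : LCI.IsKoszulRegularIdeal P.ker := by
    rintro ⟨q, hq⟩ hle
    obtain ⟨g, hg, rs, hrs, hspan⟩ := Groth.Agent.S2189.result P.ker (d + 1) hpd q hle
    exact ⟨g, hg, rs,
      Groth.Agent.Lib.Helper5.RegImmB.isKoszulRegularSeq_of_isWeaklyRegular rs hrs.1, hspan.symm⟩
  refine ⟨inferInstance, n, f, hf, ?_⟩
  rw [← hker]
  exact hKR

end Main

end Groth.Agent.Lib.Helper5.NLFtd
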