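import Mathlib
import Groth.Agent.Lib.Helper5.DiagC
import Groth.Agent.Lib.Helper5.NLFtd

/-!
# Helper5 — DiagD: a flat, essentially finite type local homomorphism of Noetherian local rings
whose diagonal has finite Tor dimension is formally smooth.
-/

set_option autoImplicit false
set_option linter.style.haveILetI false
set_option linter.unusedSectionVars false

namespace Groth.Agent.Lib.Helper5.Diag

open TensorProduct Function CategoryTheory IsLocalRing

universe u

/-- a localization which is a local ring is the localization at a prime. -/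
theorem atPrime_of_isLocalRing {P B : Type*} [CommRing P] [CommRing B] [Algebra P B]
    (M : Submonoid P) [IsLocalization M B] [IsLocalRing B] :
    IsLocalization.AtPrime B ((maximalIdeal B).comap (algebraMap P B)) := by
  refine IsLocalization.of_le (M := M) (S := B) _ ?_ ?_
  · intro m hm
    change m ∉ (maximalIdeal B).comap (algebraMap P B)
    rw [Ideal.mem_comap, mem_maximalIdeal, mem_nonunits_iff, not_not]
    exact IsLocalization.map_units B ⟨m, hm⟩
  · intro r hr
    have hr' : r ∉ (maximalIdeal B).comap (algebraMap P B) := hr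
    rw [Ideal.mem_comap, mem_maximalIdeal, mem_nonunits_iff, not_not] at hr'
    exact hr'

section Local

variable {A B : Type u} [CommRing A] [CommRing B] [Algebra A B] [IsNoetherianRing A]
  [IsNoetherianRing B] [IsLocalRing A] [IsLocalRing B] [IsLocalHom (algebraMap A B)]
  [Module.Flat A B] [Algebra.EssFiniteType A B] [Algebra (B ⊗[A] B) B]

theorem formallySmooth_of_diagonal
    (hmul : ∀ x y : B, algebraMap (B ⊗[A] B) B (x ⊗ₜ[A] y) = x * y)
    (h : DRing.HasFiniteTorDim (B ⊗[A] B) B) : Algebra.FormallySmooth A B := by
  have := isScalarTower_of_hmul hmul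
  have hNE : IsNoetherianRing (B ⊗[A] B) := Algebra.EssFiniteType.isNoetherianRing B _
  have hsurj : Function.Surjective (algebraMap (B ⊗[A] B) B) := fun b =>
    ⟨b ⊗ₜ[A] 1, by rw [hmul, mul_one]⟩
  have hfin : Module.Finite (B ⊗[A] B) B :=
    Module.Finite.of_surjective (Algebra.linearMap (B ⊗[A] B) B) hsurj
  obtain ⟨d, hd⟩ := h
  have hpd := Groth.Agent.Lib.Helper5.NLFtd.hasProjectiveDimensionLT_of_hasTorDimLE
    (S := B ⊗[A] B) B d hd
  -- the closed fibre is a local ring
  have hff : Module.FaithfullyFlat A B := Module.FaithfullyFlat.of_flat_of_isLocalHom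
  have hnt : Nontrivial (ResidueField A ⊗[A] B) := inferInstance
  have hsurj2 : Function.Surjective
      ((Algebra.TensorProduct.includeRight : B →ₐ[A] ResidueField A ⊗[A] B).toRingHom) := by
    intro z
    induction z using TensorProduct.induction_on with
    | zero => exact ⟨0, map_zero _⟩
    | add x y hx hy =>
      obtain ⟨a, rfl⟩ := hx
      obtain ⟨b, rfl⟩ := hy
      exact ⟨a + b, map_add _ _ _⟩
    | tmul c b =>
      obtain ⟨a, rfl⟩ := residue_surjective c
      refine ⟨a • b, ?_⟩
      change (1 : ResidueField A) ⊗ₜ[A] (a • b) = _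
      rw [← TensorProduct.smul_tmul, Algebra.smul_def, mul_one]
      rfl
  have hloc : IsLocalRing (ResidueField A ⊗[A] B) :=
    IsLocalRing.of_surjective' _ hsurj2
  have hfs1 : Algebra.FormallySmooth (ResidueField A)
      (Localization.AtPrime (maximalIdeal (ResidueField A ⊗[A] B))) :=
    formallySmooth_fibre_atPrime hmul (ResidueField A) d hpd _
  let e0 : (ResidueField A ⊗[A] B) ≃ₐ[ResidueField A ⊗[A] B]
      Localization.AtPrime (maximalIdeal (ResidueField A ⊗[A] B)) :=
    IsLocalization.atUnits _ (maximalIdeal (ResidueField A ⊗[A] B)).primeCompl (by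
      intro x hx
      have hx' : x ∉ maximalIdeal (ResidueField A ⊗[A] B) := hx
      rw [mem_maximalIdeal, mem_nonunits_iff, not_not] at hx'
      exact hx')
  have hfs2 : Algebra.FormallySmooth (ResidueField A) (ResidueField A ⊗[A] B) :=
    Algebra.FormallySmooth.of_equiv (e0.restrictScalars (ResidueField A)).symm
  have hfpP : Algebra.FinitePresentation A (Algebra.EssFiniteType.subalgebra A B) :=
    Algebra.FinitePresentation.of_finiteType.mp inferInstance
  exact Algebra.FormallySmooth.of_formallySmooth_residueField_tensor
    (P := Algebra.EssFiniteType.subalgebra A B) (Algebra.EssFiniteType.submonoid A B)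

end Local

end Groth.Agent.Lib.Helper5.Diag
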