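import Mathlib.FieldTheory.Galois.Basic
import Mathlib.FieldTheory.Separable
import Mathlib.FieldTheory.PrimitiveElement
import Mathlib.FieldTheory.Minpoly.IsConjRoot
import Mathlib.FieldTheory.PurelyInseparable.PerfectClosure
import Mathlib.Algebra.Central.Defs

set_option autoImplicit false
universe u v w

open Polynomial

namespace Groth.Agent.Lib.Helper5.DivAlg

variable {K : Type u} [Field K] {A : Type v} [DivisionRing A] [Algebra K A]
  {L : Type w} [Field L] [Algebra K L]

/-- Left multiplication by `ι ℓ`. -/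
noncomputable def Lm (ι : L →ₐ[K] A) : L →ₐ[K] Module.End K A :=
  (Algebra.lmul K A).comp ι

/-- Right multiplication by `ι ℓ`. -/
noncomputable def Rm (ι : L →ₐ[K] A) : L →ₐ[K] Module.End K A where
  toFun ℓ := LinearMap.mulRight K (ι ℓ)
  map_one' := by ext; simp
  map_mul' a b := by
    ext x
    simp only [LinearMap.mulRight_apply, Module.End.mul_apply]
    rw [mul_comm a b, map_mul, mul_assoc]
  map_zero' := by ext; simp
  map_add' a b := by ext; simp [mul_add]
  commutes' k := by
    ext x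
    simp only [AlgHom.commutes, LinearMap.mulRight_apply, Module.algebraMap_end_apply]
    rw [← Algebra.commutes, Algebra.smul_def]

@[simp] lemma Lm_apply (ι : L →ₐ[K] A) (ℓ : L) (x : A) : Lm ι ℓ x = ι ℓ * x := rfl
@[simp] lemma Rm_apply (ι : L →ₐ[K] A) (ℓ : L) (x : A) : Rm ι ℓ x = x * ι ℓ := rfl

lemma Lm_comm_Rm (ι : L →ₐ[K] A) (a b : L) : Commute (Lm ι a) (Rm ι b) := by
  ext x
  simp [mul_assoc]

lemma exists_eigen_of_list_prod (ι : L →ₐ[K] A) (θ : L) :
    ∀ (l : List L) (y : A), y ≠ 0 →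
      (l.map (fun lam => Rm ι θ - Lm ι lam)).prod y = 0 →
      ∃ lam ∈ l, ∃ u : A, u ≠ 0 ∧ u * ι θ = ι lam * u
  | [], y, hy, h => by
      simp at h
      exact absurd h hy
  | lam :: l, y, hy, h => by
      simp only [List.map_cons, List.prod_cons, Module.End.mul_apply] at h
      by_cases hz : (l.map (fun lam => Rm ι θ - Lm ι lam)).prod y = 0
      · obtain ⟨lam', hl, u, hu, hu'⟩ := exists_eigen_of_list_prod ι θ l y hy hz
        exact ⟨lam', List.mem_cons_of_mem _ hl, u, hu, hu'⟩
      · refine ⟨lam, List.mem_cons_self, _, hz, ?_⟩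
        simpa [sub_eq_zero] using h

theorem exists_eigen (ι : L →ₐ[K] A) (θ : L) (hint : IsIntegral K θ)
    (hsplit : ((minpoly K θ).map (algebraMap K L)).Splits) (hsep : (minpoly K θ).Separable)
    (x₀ : A) (hx₀ : x₀ * ι θ ≠ ι θ * x₀) :
    ∃ (u : A) (lam : L), u ≠ 0 ∧ lam ≠ θ ∧ aeval lam (minpoly K θ) = 0 ∧
      u * ι θ = ι lam * u := by
  classical
  set m := minpoly K θ with hm
  set mL := m.map (algebraMap K L) with hmL
  have hmonic : mL.Monic := (minpoly.monic hint).map _
  let Φ : L[X] →+* Module.End K A :=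
    eval₂RingHom' (Lm ι).toRingHom (Rm ι θ) (fun a => Lm_comm_Rm ι a θ)
  have hΦm : Φ mL = 0 := by
    show eval₂ _ _ (m.map _) = 0
    rw [eval₂_map]
    have : ((Lm ι).toRingHom.comp (algebraMap K L)) = algebraMap K (Module.End K A) := by
      ext k x
      simp [Algebra.smul_def]
    rw [this, ← aeval_def, aeval_algHom_apply, hm, minpoly.aeval, map_zero]
  have hΦX : ∀ a : L, Φ (X - C a) = Rm ι θ - Lm ι a := by
    intro a
    show eval₂ _ _ (X - C a) = _
    rw [eval₂_sub, eval₂_X, eval₂_C]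
    rfl
  have hroots : mL = (mL.roots.map fun a => X - C a).prod :=
    hsplit.eq_prod_roots_of_monic hmonic
  have hθroot : θ ∈ mL.roots := by
    rw [mem_roots hmonic.ne_zero, IsRoot, hmL, eval_map_algebraMap]
    exact minpoly.aeval K θ
  have hnodup : mL.roots.Nodup := nodup_roots hsep.map
  obtain ⟨s', hs'⟩ := Multiset.exists_cons_of_mem hθroot
  obtain ⟨l, rfl⟩ : ∃ l : List L, (l : Multiset L) = s' := ⟨s'.toList, Multiset.coe_toList s'⟩
  have hθl : θ ∉ l := by
    rw [hs'] at hnodup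
    simpa using (Multiset.nodup_cons.1 hnodup).1
  have hfac : mL = (l.map (fun a => X - C a)).prod * (X - C θ) := by
    conv_lhs => rw [hroots, hs']
    rw [Multiset.map_cons, Multiset.prod_cons, mul_comm, Multiset.map_coe, Multiset.prod_coe]
  have hy : x₀ * ι θ - ι θ * x₀ ≠ 0 := sub_ne_zero.2 hx₀
  have hprod : (l.map (fun lam => Rm ι θ - Lm ι lam)).prod (x₀ * ι θ - ι θ * x₀) = 0 := by
    have h1 : Φ mL x₀ = 0 := by rw [hΦm]; rfl
    rw [hfac, map_mul, map_list_prod, List.map_map, hΦX] at h1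
    have h2 : ((fun a => Φ (X - C a)) : L → Module.End K A) = fun lam => Rm ι θ - Lm ι lam :=
      funext hΦX
    simpa [Function.comp_def, hΦX] using h1
  obtain ⟨lam, hlam, u, hu, hu'⟩ := exists_eigen_of_list_prod ι θ l _ hy hprod
  refine ⟨u, lam, hu, ?_, ?_, hu'⟩
  · rintro rfl
    exact hθl hlam
  · have : lam ∈ mL.roots := by
      rw [hs']
      simp [hlam]
    rw [mem_roots hmonic.ne_zero, IsRoot, hmL, eval_map_algebraMap] at this
    exact this

lemma intertwine_all (ι : L →ₐ[K] A) (θ : L) (hθ : Algebra.adjoin K {θ} = ⊤) (τ : L →ₐ[K] L)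
    (u : A) (h : u * ι θ = ι (τ θ) * u) : ∀ ℓ : L, u * ι ℓ = ι (τ ℓ) * u := by
  let S : Subalgebra K L :=
    { carrier := {ℓ | u * ι ℓ = ι (τ ℓ) * u}
      mul_mem' := by
        intro a b ha hb
        simp only [Set.mem_ofPred_eq] at *
        rw [map_mul, map_mul, map_mul, ← mul_assoc, ha, mul_assoc, hb, mul_assoc]
      add_mem' := by
        intro a b ha hb
        simp only [Set.mem_ofPred_eq] at *
        rw [map_add, map_add, map_add, mul_add, add_mul, ha, hb]
      algebraMap_mem' := by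
        intro k
        simp only [Set.mem_ofPred_eq, AlgHom.commutes]
        exact (Algebra.commutes k u).symm }
  have hle : Algebra.adjoin K {θ} ≤ S := Algebra.adjoin_le (by
    intro x hx
    rw [Set.mem_singleton_iff] at hx
    subst hx
    exact h)
  intro ℓ
  have hℓ : ℓ ∈ S := hle (hθ ▸ Algebra.mem_top)
  exact hℓ

lemma intertwine_pow (ι : L →ₐ[K] A) (τ : L ≃ₐ[K] L) (u : A)
    (h : ∀ ℓ : L, u * ι ℓ = ι (τ ℓ) * u) (n : ℕ) :
    ∀ ℓ : L, u ^ n * ι ℓ = ι ((τ ^ n) ℓ) * u ^ n := by
  induction n with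
  | zero => intro ℓ; simp
  | succ n ih =>
    intro ℓ
    rw [pow_succ', mul_assoc, ih, ← mul_assoc, h, mul_assoc, pow_succ' τ n, AlgEquiv.mul_apply]

lemma mem_adjoin_pow_of_isSeparable (p : ℕ) [ExpChar K p] (u : A) (hu : IsSeparable K u) :
    u ∈ Algebra.adjoin K {u ^ p} := by
  have hint : IsIntegral K u := hu.isIntegral
  set f := minpoly K u with hf
  have : Fact (Irreducible f) := ⟨minpoly.irreducible hint⟩
  have hmonic : f.Monic := minpoly.monic hint
  let φ : AdjoinRoot f →ₐ[K] A := Ideal.Quotient.liftₐ (Ideal.span {f}) (aeval u) (by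
    intro a ha
    obtain ⟨b, rfl⟩ := Ideal.mem_span_singleton.1 ha
    rw [map_mul, hf, minpoly.aeval, zero_mul])
  have hφ : φ (AdjoinRoot.root f) = u := by
    show φ (Ideal.Quotient.mk _ X) = u
    simp only [φ]
    erw [Ideal.Quotient.liftₐ_apply, Ideal.Quotient.lift_mk]
    simp
  have hroot_sep : IsSeparable K (AdjoinRoot.root f) := by
    rw [IsSeparable, AdjoinRoot.minpoly_root hmonic.ne_zero, hmonic.leadingCoeff, inv_one, C_1,
      mul_one]
    exact hu
  have : Algebra.IsSeparable K (IntermediateField.adjoin K {AdjoinRoot.root f}) :=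
    (IntermediateField.isSeparable_adjoin_simple_iff_isSeparable K (AdjoinRoot f)).2 hroot_sep
  have h1 := IntermediateField.adjoin_eq_adjoin_pow_expChar_of_isSeparable K (AdjoinRoot f)
    {AdjoinRoot.root f} p
  rw [Set.image_singleton] at h1
  have h2 : AdjoinRoot.root f ∈ IntermediateField.adjoin K {AdjoinRoot.root f ^ p} := by
    rw [← h1]
    exact IntermediateField.mem_adjoin_simple_self K _
  have halg : IsAlgebraic K (AdjoinRoot.root f ^ p) := hroot_sep.isIntegral.isAlgebraic.pow p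
  rw [← IntermediateField.mem_toSubalgebra,
    IntermediateField.adjoin_simple_toSubalgebra_of_isAlgebraic halg] at h2
  have h3 : φ (AdjoinRoot.root f) ∈ (Algebra.adjoin K {AdjoinRoot.root f ^ p}).map φ :=
    ⟨_, h2, rfl⟩
  rw [AlgHom.map_adjoin, Set.image_singleton, map_pow, hφ] at h3
  exact h3

end Groth.Agent.Lib.Helper5.DivAlg
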