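import Mathlib
import Groth.Prelude.Def_EGA41
import Groth.Agent.Lib.Helper5.CohenAlgSmooth
import Groth.Agent.Lib.Helper5.AdicLift

set_option autoImplicit false

namespace Groth.Agent.Lib.Helper5.DvrIso

open IsLocalRing

universe u

section Bij

variable {B B' : Type*} [CommRing B] [IsDomain B] [IsDiscreteValuationRing B]
  [CommRing B'] [IsDomain B'] [IsDiscreteValuationRing B']

theorem injective_of_map_maximalIdeal (v : B →+* B')
    (hv : (maximalIdeal B).map v = maximalIdeal B') : Function.Injective v := by
  rw [injective_iff_map_eq_zero]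
  intro x hx
  by_contra hx0
  obtain ⟨ϖ, hϖ⟩ := IsDiscreteValuationRing.exists_irreducible B
  obtain ⟨n, w, rfl⟩ := IsDiscreteValuationRing.eq_unit_mul_pow_irreducible hx0 hϖ
  rw [map_mul, map_pow] at hx
  have hw : IsUnit (v (w : B)) := w.isUnit.map v
  have h1 : v ϖ ^ n = 0 := by
    rcases mul_eq_zero.mp hx with h | h
    · exact absurd h hw.ne_zero
    · exact h
  have h2 : v ϖ = 0 := eq_zero_of_pow_eq_zero h1
  apply IsDiscreteValuationRing.not_a_field B'
  rw [← hv, (IsDiscreteValuationRing.irreducible_iff_uniformizer ϖ).mp hϖ, Ideal.map_span,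
    Set.image_singleton, h2, Ideal.span_singleton_eq_bot]

theorem bijective_of_map_maximalIdeal [IsPrecomplete (maximalIdeal B) B]
    [IsHausdorff (maximalIdeal B') B'] (v : B →+* B')
    (hv : (maximalIdeal B).map v = maximalIdeal B')
    (hsurj : Function.Surjective ((Ideal.Quotient.mk (maximalIdeal B')).comp v)) :
    Function.Bijective v := by
  refine ⟨injective_of_map_maximalIdeal v hv, ?_⟩
  have : IsHausdorff ((maximalIdeal B).map v) B' := by rw [hv]; infer_instance
  apply surjective_of_mk_map_comp_surjective (I := maximalIdeal B) v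
  rw [hv]
  exact hsurj

end Bij

end Groth.Agent.Lib.Helper5.DvrIso
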