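import Groth.Agent.Lib.Helper5.AdicQuot
import Groth.Agent.Lib.Helper5.CohenAlgSmooth
import Groth.Agent.Lib.Helper5.PowSerAdic
import Groth.Agent.Lib.Helper5.AdicRegE
import Groth.Agent.Lib.Helper5.SepCartier2
import Groth.Agent.Lib.Helper5.SepSmooth
import Mathlib

set_option autoImplicit false
universe u

open IsLocalRing

namespace Groth.Agent.Lib.Helper5.DvrSmooth

variable {A B : Type u} [CommRing A] [IsLocalRing A] [CommRing B] [IsLocalRing B] [Algebra A B]
  [IsLocalHom (algebraMap A B)]

/-- flat, weakly unramified with separable residue extension implies adically formally smooth. -/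
theorem adicSmooth_of_flat_of_map_eq [Module.Flat A B]
    (hmap : (maximalIdeal A).map (algebraMap A B) = maximalIdeal B)
    [Algebra.IsGeometricallyReduced (ResidueField A) (ResidueField B)] :
    CAlgX.IsAdicFormallySmooth A B (maximalIdeal B) := by
  have hsm : Algebra.FormallySmooth (ResidueField A) (ResidueField B) :=
    SepSmooth.formallySmooth_of_geomReduced
  have h1 : EGA41.IsFormallySmoothAdic A (maximalIdeal A) B (maximalIdeal B) :=
    (FormallyProj.isFormallySmoothAdic_iff_quotient _ _
      (CohenAlgSmooth.formallyProjective_of_flat hmap)).2 (CohenAlgSmooth.quotient_smooth hmap)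
  exact PowSer.adicSmooth_of_isFormallySmoothAdic _ _ h1 hmap.le

/-- the closed fibre of an adically formally smooth local homomorphism is a regular local ring. -/
theorem fibre_regular [IsNoetherianRing B]
    (h : CAlgX.IsAdicFormallySmooth A B (maximalIdeal B)) :
    ∃ _ : IsLocalRing (B ⧸ (maximalIdeal A).map (algebraMap A B)),
      IsRegularLocalRing (B ⧸ (maximalIdeal A).map (algebraMap A B)) := by
  have hle : (maximalIdeal A).map (algebraMap A B) ≤ maximalIdeal B :=
    ((IsLocalRing.local_hom_TFAE (algebraMap A B)).out 0 2).mp ‹IsLocalHom (algebraMap A B)›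
  have hne : (maximalIdeal A).map (algebraMap A B) ≠ ⊤ := fun htop =>
    (maximalIdeal.isMaximal B).ne_top (top_le_iff.mp (htop ▸ hle))
  have hnt : Nontrivial (B ⧸ (maximalIdeal A).map (algebraMap A B)) :=
    Ideal.Quotient.nontrivial_iff.mpr hne
  have hloc : IsLocalRing (B ⧸ (maximalIdeal A).map (algebraMap A B)) :=
    IsLocalRing.of_surjective' (Ideal.Quotient.mk _) Ideal.Quotient.mk_surjective
  refine ⟨hloc, ?_⟩
  let φ : ResidueField A →+* B ⧸ (maximalIdeal A).map (algebraMap A B) :=
    Ideal.Quotient.lift (maximalIdeal A)
      ((Ideal.Quotient.mk ((maximalIdeal A).map (algebraMap A B))).comp (algebraMap A B))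
      (fun a ha => by
        rw [RingHom.comp_apply, Ideal.Quotient.eq_zero_iff_mem]
        exact Ideal.mem_map_of_mem _ ha)
  let _ : Algebra (ResidueField A) (B ⧸ (maximalIdeal A).map (algebraMap A B)) := φ.toAlgebra
  have hst : IsScalarTower A (ResidueField A) (B ⧸ (maximalIdeal A).map (algebraMap A B)) :=
    IsScalarTower.of_algebraMap_eq (fun a => rfl)
  have h2 := AdicQuot.adicSmooth_quotient (maximalIdeal A) (maximalIdeal B) (ResidueField A)
    IsLocalRing.residue_surjective
    (fun a ha => (IsLocalRing.residue_eq_zero_iff a).mpr ha)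
    (B ⧸ (maximalIdeal A).map (algebraMap A B))
    (by
      change RingHom.ker (Ideal.Quotient.mk _) = _
      exact Ideal.mk_ker)
    Ideal.Quotient.mk_surjective h
  have hideal : (maximalIdeal B).map
      (algebraMap B (B ⧸ (maximalIdeal A).map (algebraMap A B))) =
      maximalIdeal (B ⧸ (maximalIdeal A).map (algebraMap A B)) := by
    rcases Ideal.map_eq_top_or_isMaximal_of_surjective
      (algebraMap B (B ⧸ (maximalIdeal A).map (algebraMap A B))) Ideal.Quotient.mk_surjective
      (maximalIdeal.isMaximal B) with htop | hmax
    · exfalso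
      have h1 : (1 : B ⧸ (maximalIdeal A).map (algebraMap A B)) ∈
          (maximalIdeal B).map (algebraMap B _) := htop ▸ Submodule.mem_top
      obtain ⟨b, hb, hb1⟩ := (Ideal.mem_map_iff_of_surjective _
        Ideal.Quotient.mk_surjective).mp h1
      have h3 : b - 1 ∈ (maximalIdeal A).map (algebraMap A B) := by
        rw [← Ideal.Quotient.eq_zero_iff_mem, map_sub, map_one]
        exact sub_eq_zero.mpr hb1
      have h4 : (1 : B) ∈ maximalIdeal B := by
        have := (maximalIdeal B).sub_mem hb (hle h3)
        simp at this
      exact (maximalIdeal.isMaximal B).ne_top ((Ideal.eq_top_iff_one _).mpr h4)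
    · exact IsLocalRing.eq_maximalIdeal hmax
  rw [hideal] at h2
  exact AdicReg.isRegularLocalRing_of_adicSmooth h2

/-- residue field extension of an adically formally smooth weakly unramified local homomorphism is
separable. -/
theorem geomReduced_of_adicSmooth
    (hmap : (maximalIdeal A).map (algebraMap A B) = maximalIdeal B)
    (h : CAlgX.IsAdicFormallySmooth A B (maximalIdeal B)) :
    Algebra.IsGeometricallyReduced (ResidueField A) (ResidueField B) := by
  have hst : IsScalarTower A (ResidueField A) (ResidueField B) :=
    IsScalarTower.of_algebraMap_eq (fun a => rfl)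
  have h2 := AdicQuot.adicSmooth_quotient (maximalIdeal A) (maximalIdeal B) (ResidueField A)
    IsLocalRing.residue_surjective
    (fun a ha => (IsLocalRing.residue_eq_zero_iff a).mpr ha)
    (ResidueField B)
    (by
      change RingHom.ker (IsLocalRing.residue B) = _
      rw [IsLocalRing.ker_residue, hmap])
    IsLocalRing.residue_surjective h
  have hsm : Algebra.FormallySmooth (ResidueField A) (ResidueField B) := by
    apply Algebra.FormallySmooth.of_comp_surjective
    intro T _ _ J hJ ψ
    obtain ⟨χ, hχ⟩ := h2 T J hJ ψ ⟨1, fun x hx => by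
      rw [pow_one] at hx
      have h0 : (maximalIdeal B).map (algebraMap B (ResidueField B)) = ⊥ := by
        rw [eq_bot_iff, Ideal.map_le_iff_le_comap]
        intro b hb
        rw [Ideal.mem_comap, Ideal.mem_bot]
        exact (IsLocalRing.residue_eq_zero_iff b).mpr hb
      rw [h0, Ideal.mem_bot] at hx
      rw [hx, map_zero]⟩
    exact ⟨χ, hχ⟩
  have hinj := SepSmooth.mapBaseChange_injective_of_formallySmooth
    (k := ResidueField A) (K := ResidueField B) ℤ
  exact SepCartier.geomReduced_of_mapBaseChange_injective hinj

end Groth.Agent.Lib.Helper5.DvrSmooth
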