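import Mathlib.RingTheory.LocalRing.ResidueField.Basic
import Mathlib.RingTheory.Nilpotent.Lemmas
import Mathlib.RingTheory.MvPolynomial.Basic
import Mathlib.RingTheory.Ideal.Quotient.Operations
import Mathlib.RingTheory.Nilpotent.Basic

set_option autoImplicit false
set_option linter.unusedSectionVars false
universe u

namespace Groth.Agent.Lib.Helper5.EisLocal

open IsLocalRing MvPolynomial

variable {A : Type u} [CommRing A] [IsLocalRing A] {σ : Type*} (d : σ → ℕ) (c : σ → ℕ → A)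

/-- the one-variable monic polynomials -/
noncomputable def F : σ → MvPolynomial σ A := fun i =>
  X i ^ d i + (Finset.range (d i)).sum fun k => C (c i k) * X i ^ k

theorem main (hm : maximalIdeal A ^ 2 = ⊥) (hd : ∀ i, 2 ≤ d i)
    (hc : ∀ i k, c i k ∈ maximalIdeal A) :
    ∃ _ : IsLocalRing (MvPolynomial σ A ⧸ Ideal.span (Set.range (F d c))),
      Function.Surjective ((Ideal.Quotient.mk
        (maximalIdeal (MvPolynomial σ A ⧸ Ideal.span (Set.range (F d c))))).comp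
          (algebraMap A (MvPolynomial σ A ⧸ Ideal.span (Set.range (F d c))))) ∧
      maximalIdeal A ⊓ Ideal.comap
          (algebraMap A (MvPolynomial σ A ⧸ Ideal.span (Set.range (F d c))))
          (maximalIdeal (MvPolynomial σ A ⧸ Ideal.span (Set.range (F d c))) ^ 2) =
        Ideal.span (Set.range fun i => c i 0) := by
  classical
  set I : Ideal (MvPolynomial σ A) := Ideal.span (Set.range (F d c)) with hI
  let q : MvPolynomial σ A →+* MvPolynomial σ A ⧸ I := Ideal.Quotient.mk I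
  have hqC : ∀ a, q (C a) = algebraMap A (MvPolynomial σ A ⧸ I) a := fun a => rfl
  let T : σ → MvPolynomial σ A ⧸ I := fun i => q (X i)
  set 𝔫 : Ideal (MvPolynomial σ A ⧸ I) :=
    (maximalIdeal A).map (algebraMap A (MvPolynomial σ A ⧸ I)) with h𝔫
  set 𝔱 : Ideal (MvPolynomial σ A ⧸ I) := Ideal.span (Set.range T) with h𝔱
  set 𝔪' : Ideal (MvPolynomial σ A ⧸ I) := 𝔫 ⊔ 𝔱 with h𝔪'
  set S : Ideal A := Ideal.span (Set.range fun i => c i 0) with hS
  have hS𝔪 : S ≤ maximalIdeal A := by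
    rw [hS, Ideal.span_le]
    rintro _ ⟨i, rfl⟩
    exact hc i 0
  have hT𝔪' : ∀ i, T i ∈ 𝔪' := fun i => le_sup_right (a := 𝔫) (Ideal.subset_span ⟨i, rfl⟩)
  have hc𝔪' : ∀ i k, algebraMap A (MvPolynomial σ A ⧸ I) (c i k) ∈ 𝔪' :=
    fun i k => le_sup_left (b := 𝔱) (Ideal.mem_map_of_mem _ (hc i k))
  have hrel : ∀ i, T i ^ d i +
      ∑ k ∈ Finset.range (d i), algebraMap A (MvPolynomial σ A ⧸ I) (c i k) * T i ^ k = 0 := by
    intro i
    have h0 : q (F d c i) = 0 := Ideal.Quotient.eq_zero_iff_mem.2 (Ideal.subset_span ⟨i, rfl⟩)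
    unfold F at h0
    rw [map_add, map_pow, map_sum] at h0
    rw [← h0]
    rfl
  have h𝔫sq : 𝔫 ^ 2 = ⊥ := by rw [h𝔫, ← Ideal.map_pow, hm, Ideal.map_bot]
  have hTd : ∀ i, T i ^ d i ∈ 𝔫 := by
    intro i
    rw [eq_neg_of_add_eq_zero_left (hrel i)]
    refine Ideal.neg_mem_iff _ |>.2 (Submodule.sum_mem _ (fun k _ => ?_))
    exact Ideal.mul_mem_right _ _ (Ideal.mem_map_of_mem _ (hc i k))
  have h𝔫nil : ∀ x ∈ 𝔫, IsNilpotent x := by
    intro x hx
    refine ⟨2, ?_⟩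
    have := Ideal.pow_mem_pow hx 2
    rwa [h𝔫sq, Ideal.mem_bot] at this
  have hnil' : 𝔪' ≤ nilradical (MvPolynomial σ A ⧸ I) := by
    refine sup_le (fun x hx => mem_nilradical.2 (h𝔫nil x hx)) ?_
    rw [h𝔱, Ideal.span_le]
    rintro _ ⟨i, rfl⟩
    obtain ⟨n, hn⟩ := h𝔫nil _ (hTd i)
    exact mem_nilradical.2 ⟨d i * n, by rw [pow_mul, hn]⟩
  have hnil : ∀ x ∈ 𝔪', IsNilpotent x := fun x hx => mem_nilradical.1 (hnil' hx)
  have hdec : ∀ x : MvPolynomial σ A ⧸ I, ∃ a : A,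
      x - algebraMap A (MvPolynomial σ A ⧸ I) a ∈ 𝔱 := by
    intro x
    obtain ⟨P, rfl⟩ := Ideal.Quotient.mk_surjective x
    induction P using MvPolynomial.induction_on with
    | C a =>
      refine ⟨a, ?_⟩
      change q (C a) - _ ∈ 𝔱
      rw [hqC, sub_self]
      exact 𝔱.zero_mem
    | add P Q hP hQ =>
      obtain ⟨a, ha⟩ := hP
      obtain ⟨b, hb⟩ := hQ
      refine ⟨a + b, ?_⟩
      have := 𝔱.add_mem ha hb
      rw [map_add, map_add]
      convert this using 1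
      ring
    | mul_X P i _ =>
      refine ⟨0, ?_⟩
      rw [map_zero, sub_zero, map_mul]
      exact Ideal.mul_mem_left _ _ (Ideal.subset_span ⟨i, rfl⟩)
  -- the augmentation
  let ε₀ : MvPolynomial σ A →+* A ⧸ S := eval₂Hom (Ideal.Quotient.mk S) (fun _ => 0)
  have hε₀F : ∀ i, ε₀ (F d c i) = 0 := by
    intro i
    unfold F
    rw [map_add, map_pow, map_sum]
    have hX : ε₀ (X i) = 0 := eval₂_X _ _ i
    have hd0 : d i ≠ 0 := by have := hd i; omega
    rw [hX, zero_pow hd0, zero_add, Finset.sum_eq_single 0]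
    · rw [map_mul, map_pow, hX, pow_zero, mul_one]
      change eval₂ (Ideal.Quotient.mk S) (fun _ => 0) (C (c i 0)) = 0
      rw [eval₂_C, Ideal.Quotient.eq_zero_iff_mem]
      exact Ideal.subset_span ⟨i, rfl⟩
    · intro k _ hk
      rw [map_mul, map_pow, hX, zero_pow hk, mul_zero]
    · intro h
      exact absurd (Finset.mem_range.2 (Nat.pos_of_ne_zero hd0)) h
  have hIε : I ≤ RingHom.ker ε₀ := by
    rw [hI, Ideal.span_le]
    rintro _ ⟨i, rfl⟩
    exact hε₀F i
  let ε : MvPolynomial σ A ⧸ I →+* A ⧸ S := Ideal.Quotient.lift I ε₀ (fun x hx => hIε hx)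
  have hεalg : ∀ a, ε (algebraMap A (MvPolynomial σ A ⧸ I) a) = Ideal.Quotient.mk S a := by
    intro a
    change eval₂ (Ideal.Quotient.mk S) (fun _ => 0) (C a) = _
    rw [eval₂_C]
  have hεT : ∀ i, ε (T i) = 0 := fun i => eval₂_X _ _ i
  have hε𝔪' : 𝔪'.map ε ≤ (maximalIdeal A).map (Ideal.Quotient.mk S) := by
    rw [Ideal.map_le_iff_le_comap]
    refine sup_le ?_ ?_
    · rw [h𝔫, Ideal.map_le_iff_le_comap]
      intro a ha
      rw [Ideal.mem_comap, Ideal.mem_comap, hεalg]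
      exact Ideal.mem_map_of_mem _ ha
    · rw [h𝔱, Ideal.span_le]
      rintro _ ⟨i, rfl⟩
      rw [SetLike.mem_coe, Ideal.mem_comap, hεT]
      exact Ideal.zero_mem _
  have hproper : 𝔪' ≠ ⊤ := by
    intro htop
    have h1 : ε 1 ∈ 𝔪'.map ε := Ideal.mem_map_of_mem _ (by rw [htop]; trivial)
    have h2 := hε𝔪' h1
    rw [map_one] at h2
    obtain ⟨a, ha, ha1⟩ := (Ideal.mem_map_iff_of_surjective _ Ideal.Quotient.mk_surjective).1 h2
    have hdc : a - 1 ∈ S := Ideal.Quotient.eq.1 (by rw [ha1, map_one])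
    have h3 : (1 : A) ∈ maximalIdeal A := by
      have : (1 : A) = a - (a - 1) := by ring
      rw [this]
      exact Ideal.sub_mem _ ha (hS𝔪 hdc)
    exact (Ideal.ne_top_iff_one _).1 (maximalIdeal.isMaximal A).ne_top h3
  have hunit : ∀ x, x ∉ 𝔪' → IsUnit x := by
    intro x hx
    obtain ⟨a, ha⟩ := hdec x
    have hxa : x = (x - algebraMap A (MvPolynomial σ A ⧸ I) a) +
        algebraMap A (MvPolynomial σ A ⧸ I) a := by ring
    have ha𝔪 : a ∉ maximalIdeal A := by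
      intro h
      apply hx
      rw [hxa]
      exact 𝔪'.add_mem (le_sup_right (a := 𝔫) ha)
        (le_sup_left (b := 𝔱) (Ideal.mem_map_of_mem _ h))
    have hau : IsUnit a := by
      by_contra h
      exact ha𝔪 ((IsLocalRing.mem_maximalIdeal a).2 h)
    have hn : IsNilpotent (x - algebraMap A (MvPolynomial σ A ⧸ I) a) :=
      hnil _ (le_sup_right (a := 𝔫) ha)
    rw [hxa]
    exact hn.isUnit_add_right_of_commute (hau.map _) (Commute.all _ _)
  have hmax : 𝔪'.IsMaximal := by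
    refine ⟨⟨hproper, fun J hJ => ?_⟩⟩
    obtain ⟨x, hxJ, hx𝔪'⟩ := SetLike.exists_of_lt hJ
    exact Ideal.eq_top_of_isUnit_mem _ hxJ (hunit x hx𝔪')
  have huniq : ∀ M : Ideal (MvPolynomial σ A ⧸ I), M.IsMaximal → M = 𝔪' := by
    intro M hM
    have hle : M ≤ 𝔪' := by
      intro x hx
      by_contra h
      exact hM.ne_top (Ideal.eq_top_of_isUnit_mem _ hx (hunit x h))
    exact hM.eq_of_le hproper hle
  have hloc : IsLocalRing (MvPolynomial σ A ⧸ I) :=
    IsLocalRing.of_unique_max_ideal ⟨𝔪', hmax, huniq⟩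
  have hmeq : @maximalIdeal (MvPolynomial σ A ⧸ I) _ hloc = 𝔪' :=
    (@IsLocalRing.eq_maximalIdeal _ _ hloc 𝔪' hmax).symm
  refine ⟨hloc, ?_, ?_⟩
  · rw [hmeq]
    intro y
    obtain ⟨x, rfl⟩ := Ideal.Quotient.mk_surjective y
    obtain ⟨a, ha⟩ := hdec x
    refine ⟨a, ?_⟩
    rw [RingHom.comp_apply]
    symm
    rw [Ideal.Quotient.eq]
    exact le_sup_right (a := 𝔫) ha
  · rw [hmeq]
    apply le_antisymm
    · rintro a ⟨_, ha2⟩
      rw [SetLike.mem_coe, Ideal.mem_comap] at ha2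
      have h1 : ε (algebraMap A (MvPolynomial σ A ⧸ I) a) ∈ (𝔪' ^ 2).map ε :=
        Ideal.mem_map_of_mem _ ha2
      rw [Ideal.map_pow] at h1
      have h2 := Ideal.pow_right_mono hε𝔪' 2 h1
      rw [← Ideal.map_pow, hm, Ideal.map_bot, Ideal.mem_bot, hεalg] at h2
      exact Ideal.Quotient.eq_zero_iff_mem.1 h2
    · rw [hS, Ideal.span_le]
      rintro _ ⟨i, rfl⟩
      refine ⟨hc i 0, ?_⟩
      rw [SetLike.mem_coe, Ideal.mem_comap]
      obtain ⟨d', hd'⟩ : ∃ d', d i = d' + 2 := ⟨d i - 2, by have := hd i; omega⟩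
      have h0 := hrel i
      rw [hd', Finset.sum_range_succ', pow_zero, mul_one] at h0
      have h1 : algebraMap A (MvPolynomial σ A ⧸ I) (c i 0) =
          -(T i ^ (d' + 2) + ∑ k ∈ Finset.range (d' + 1),
            algebraMap A (MvPolynomial σ A ⧸ I) (c i (k + 1)) * T i ^ (k + 1)) := by
        rw [eq_neg_iff_add_eq_zero, ← h0]
        ring
      rw [h1]
      refine Ideal.neg_mem_iff _ |>.2 (Ideal.add_mem _ ?_ (Submodule.sum_mem _ (fun k _ => ?_)))
      · rw [pow_add, mul_comm]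
        exact Ideal.mul_mem_right _ _ (Ideal.pow_mem_pow (hT𝔪' i) 2)
      · have h2 : algebraMap A (MvPolynomial σ A ⧸ I) (c i (k + 1)) * T i ∈ 𝔪' ^ 2 := by
          rw [pow_two]
          exact Ideal.mul_mem_mul (hc𝔪' i (k + 1)) (hT𝔪' i)
        rw [pow_succ' (T i) k, ← mul_assoc]
        exact Ideal.mul_mem_right _ _ h2

end Groth.Agent.Lib.Helper5.EisLocal
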