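import Groth.Agent.Lib.Helper5.SepQuotA
import Mathlib

set_option autoImplicit false
set_option linter.unusedSectionVars false
universe u

open MvPolynomial IsLocalRing

namespace Groth.Agent.Lib.Helper5.SepQuot

variable {A : Type u} [CommRing A] [IsLocalRing A] {r : ℕ} (G : Fin r → Polynomial A)

/-- the data are of Eisenstein type: monic with all lower coefficients in the maximal ideal. -/
structure IsEis : Prop where
  monic : ∀ i, (G i).Monic
  low : ∀ i k, k < (G i).natDegree → (G i).coeff k ∈ maximalIdeal A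
  pos : ∀ i, 0 < (G i).natDegree

variable {G}

theorem IsEis.pow_mem (h : IsEis G) (i : Fin r) :
    t G i ^ (G i).natDegree ∈ (maximalIdeal A).map (algebraMap A (Q G)) := by
  have h1 := aeval_t G i
  rw [Polynomial.aeval_eq_sum_range, Finset.sum_range_succ] at h1
  have h2 : (G i).coeff (G i).natDegree = 1 := (h.monic i)
  rw [h2, one_smul] at h1
  have h3 : t G i ^ (G i).natDegree =
      - ∑ k ∈ Finset.range (G i).natDegree, (G i).coeff k • t G i ^ k := by
    rw [eq_neg_iff_add_eq_zero, add_comm]
    exact h1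
  rw [h3]
  refine Ideal.neg_mem_iff _ |>.mpr (Ideal.sum_mem _ (fun k hk => ?_))
  rw [smul_eq]
  exact Ideal.mul_mem_right _ _ (Ideal.mem_map_of_mem _ (h.low i k (Finset.mem_range.mp hk)))

theorem IsEis.aeval_zero (h : IsEis G) (i : Fin r) :
    Polynomial.aeval (0 : ResidueField A) (G i) = 0 := by
  rw [← Polynomial.coeff_zero_eq_aeval_zero']
  exact (residue_eq_zero_iff _).mpr (h.low i 0 (h.pos i))

/-- the augmentation to the residue field. -/
noncomputable def IsEis.aug (h : IsEis G) : Q G →ₐ[A] ResidueField A :=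
  lift G (fun _ => 0) h.aeval_zero

theorem IsEis.aug_t (h : IsEis G) (i : Fin r) : h.aug (t G i) = 0 := lift_t G _ _ i

theorem IsEis.aug_surjective (h : IsEis G) : Function.Surjective h.aug := by
  intro y
  obtain ⟨a, rfl⟩ := residue_surjective y
  exact ⟨algebraMap A (Q G) a, h.aug.commutes a⟩

theorem IsEis.ker_aug (h : IsEis G) :
    RingHom.ker h.aug = (maximalIdeal A).map (algebraMap A (Q G)) ⊔ Ideal.span (Set.range (t G)) := by
  apply le_antisymm
  · intro x hx
    rw [RingHom.mem_ker] at hx
    obtain ⟨a, ha⟩ := exists_sub_mem_span_t G x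
    have h1 : h.aug (x - algebraMap A (Q G) a) = 0 := by
      have hle : Ideal.span (Set.range (t G)) ≤ RingHom.ker h.aug := by
        rw [Ideal.span_le]
        rintro _ ⟨i, rfl⟩
        exact h.aug_t i
      exact hle ha
    rw [map_sub, hx, zero_sub, neg_eq_zero, AlgHom.commutes] at h1
    have ha' : a ∈ maximalIdeal A := (residue_eq_zero_iff a).mp h1
    have : x = algebraMap A (Q G) a + (x - algebraMap A (Q G) a) := by ring
    rw [this]
    exact Ideal.add_mem _ (Ideal.mem_sup_left (Ideal.mem_map_of_mem _ ha'))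
      (Ideal.mem_sup_right ha)
  · rw [sup_le_iff]
    constructor
    · rw [Ideal.map_le_iff_le_comap]
      intro a ha
      rw [Ideal.mem_comap, RingHom.mem_ker, AlgHom.commutes]
      exact (residue_eq_zero_iff a).mpr ha
    · rw [Ideal.span_le]
      rintro _ ⟨i, rfl⟩
      exact h.aug_t i

theorem IsEis.ker_aug_isMaximal (h : IsEis G) : (RingHom.ker h.aug).IsMaximal :=
  RingHom.ker_isMaximal_of_surjective _ h.aug_surjective

theorem IsEis.eq_ker_aug (h : IsEis G) (N : Ideal (Q G)) [hN : N.IsMaximal] :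
    N = RingHom.ker h.aug := by
  have hint := isIntegral G h.monic
  have h1 : (N.comap (algebraMap A (Q G))).IsMaximal :=
    Ideal.isMaximal_comap_of_isIntegral_of_isMaximal N
  have h2 : N.comap (algebraMap A (Q G)) = maximalIdeal A := eq_maximalIdeal h1
  have h3 : (maximalIdeal A).map (algebraMap A (Q G)) ≤ N := by
    rw [← h2]
    exact Ideal.map_comap_le
  have h4 : Ideal.span (Set.range (t G)) ≤ N := by
    rw [Ideal.span_le]
    rintro _ ⟨i, rfl⟩
    exact hN.isPrime.mem_of_pow_mem _ (h3 (h.pow_mem i))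
  have h5 : RingHom.ker h.aug ≤ N := by
    rw [h.ker_aug]
    exact sup_le h3 h4
  exact (h.ker_aug_isMaximal.eq_of_le hN.ne_top h5).symm

theorem IsEis.isLocalRing (h : IsEis G) : IsLocalRing (Q G) :=
  IsLocalRing.of_unique_max_ideal
    ⟨RingHom.ker h.aug, h.ker_aug_isMaximal, fun N hN => h.eq_ker_aug N (hN := hN)⟩

theorem IsEis.maximalIdeal_eq (h : IsEis G) [IsLocalRing (Q G)] :
    maximalIdeal (Q G) =
      (maximalIdeal A).map (algebraMap A (Q G)) ⊔ Ideal.span (Set.range (t G)) := by
  rw [← h.ker_aug]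
  exact h.eq_ker_aug _

theorem IsEis.residue_surjective (h : IsEis G) (M : Ideal (Q G)) [M.IsMaximal] :
    Function.Surjective ((Ideal.Quotient.mk M).comp (algebraMap A (Q G))) := by
  intro y
  obtain ⟨x, rfl⟩ := Ideal.Quotient.mk_surjective y
  obtain ⟨a, ha⟩ := exists_sub_mem_span_t G x
  refine ⟨a, ?_⟩
  rw [RingHom.comp_apply]
  symm
  rw [Ideal.Quotient.eq]
  have hM : M = RingHom.ker h.aug := h.eq_ker_aug M
  rw [hM, h.ker_aug]
  exact Ideal.mem_sup_right ha

/-- the constant term lies in the ideal generated by the variable. -/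
theorem coeff_zero_mem_span (i : Fin r) :
    algebraMap A (Q G) ((G i).coeff 0) ∈ Ideal.span ({t G i} : Set (Q G)) := by
  have h1 := aeval_t G i
  conv_lhs at h1 => rw [← Polynomial.divX_mul_X_add (G i)]
  rw [map_add, map_mul, Polynomial.aeval_X, Polynomial.aeval_C] at h1
  have h2 : algebraMap A (Q G) ((G i).coeff 0) = - (Polynomial.aeval (t G i) (G i).divX * t G i) :=
    eq_neg_of_add_eq_zero_right h1
  rw [h2]
  exact (Ideal.neg_mem_iff _).mpr (Ideal.mul_mem_left _ _ (Ideal.mem_span_singleton_self _))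

end Groth.Agent.Lib.Helper5.SepQuot
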