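import Groth.Agent.Lib.Helper5.EisenA
import Groth.Agent.Lib.Helper5.CotExtend
import Groth.Agent.Lib.helper19.RegularLocal
import Mathlib

set_option autoImplicit false
set_option linter.unusedSectionVars false
universe u

open MvPolynomial IsLocalRing

namespace Groth.Agent.Lib.Helper5.SepQuot

variable {A : Type u} [CommRing A] [IsRegularLocalRing A] {r : ℕ} {G : Fin r → Polynomial A}

/-- the constant terms, as elements of the maximal ideal. -/
def IsEis.cx (h : IsEis G) (i : Fin r) : maximalIdeal A := ⟨(G i).coeff 0, h.low i 0 (h.pos i)⟩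

theorem IsEis.isNoetherianRing (h : IsEis G) : IsNoetherianRing (Q G) := by
  have := finite G h.monic
  exact IsNoetherianRing.of_finite A (Q G)

theorem IsEis.natDegree_ne_zero (h : IsEis G) (i : Fin r) : (G i).natDegree ≠ 0 :=
  (h.pos i).ne'

theorem IsEis.regular_of_linearIndependent (h : IsEis G)
    (hli : LinearIndependent (ResidueField A) (fun i => (maximalIdeal A).toCotangent (h.cx i))) :
    ∃ _ : IsLocalRing (Q G), IsRegularLocalRing (Q G) := by
  have hloc := h.isLocalRing
  have hN := h.isNoetherianRing
  refine ⟨hloc, ?_⟩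
  obtain ⟨s, y, hrs, hspan⟩ := CotExtend.exists_extend h.cx hli
  have hm : maximalIdeal A =
      Ideal.span ((fun z : maximalIdeal A => (z : A)) '' (Set.range h.cx ∪ Set.range y)) := by
    have h1 := congrArg (Submodule.map (maximalIdeal A).subtype) hspan
    rw [Submodule.map_span, Submodule.map_top, Submodule.range_subtype] at h1
    exact h1.symm
  let gens : Set (Q G) := Set.range (t G) ∪ Set.range (fun j => algebraMap A (Q G) (y j))
  have hmax : maximalIdeal (Q G) = Ideal.span gens := by
    rw [h.maximalIdeal_eq]
    apply le_antisymm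
    · rw [sup_le_iff]
      constructor
      · rw [hm, Ideal.map_span, Ideal.span_le]
        rintro _ ⟨_, ⟨z, hz, rfl⟩, rfl⟩
        rcases hz with ⟨i, rfl⟩ | ⟨j, rfl⟩
        · have h2 := coeff_zero_mem_span (G := G) i
          have h3 : Ideal.span ({t G i} : Set (Q G)) ≤ Ideal.span gens :=
            Ideal.span_mono (Set.singleton_subset_iff.mpr (Or.inl ⟨i, rfl⟩))
          exact h3 h2
        · exact Ideal.subset_span (Or.inr ⟨j, rfl⟩)
      · exact Ideal.span_mono Set.subset_union_left
    · rw [Ideal.span_le]
      rintro _ (⟨i, rfl⟩ | ⟨j, rfl⟩)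
      · exact Ideal.mem_sup_right (Ideal.subset_span ⟨i, rfl⟩)
      · exact Ideal.mem_sup_left (Ideal.mem_map_of_mem _ (y j).2)
  have hfin : gens.Finite := (Set.finite_range _).union (Set.finite_range _)
  have hcard : gens.ncard ≤ r + s := by
    refine (Set.ncard_union_le _ _).trans ?_
    have hr : ∀ {n : ℕ} (w : Fin n → Q G), (Set.range w).ncard ≤ n := by
      intro n w
      rw [← Set.image_univ]
      refine (Set.ncard_image_le (Set.finite_univ)).trans ?_
      rw [Set.ncard_univ, Nat.card_eq_fintype_card, Fintype.card_fin]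
    have h1 := hr (t G)
    have h2 := hr (fun j => algebraMap A (Q G) (y j))
    omega
  have hsf : (maximalIdeal (Q G)).spanFinrank ≤ r + s := by
    rw [hmax]
    exact (Submodule.spanFinrank_span_le_ncard_of_finite hfin).trans hcard
  have hdimA : (Module.finrank (ResidueField A) (CotangentSpace A) : WithBot ℕ∞) = ringKrullDim A :=
    (IsRegularLocalRing.iff_finrank_cotangentSpace A).mp inferInstance
  have hdom : IsDomain A := Groth.Agent.Lib.helper19.isDomain_of_isRegularLocalRing A
  have hdim : ringKrullDim (Q G) = ringKrullDim A :=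
    ringKrullDim_eq G h.monic h.natDegree_ne_zero
  apply IsRegularLocalRing.of_spanFinrank_maximalIdeal_le
  rw [hdim, ← hdimA, ← hrs]
  exact_mod_cast hsf

end Groth.Agent.Lib.Helper5.SepQuot
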