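import Groth.Agent.Lib.Helper5.EisenB
import Mathlib

set_option autoImplicit false
set_option linter.unusedSectionVars false
universe u

open MvPolynomial IsLocalRing

namespace Groth.Agent.Lib.Helper5.SepQuot

section Local

variable {A : Type u} [CommRing A] [IsLocalRing A] {r : ℕ} {G : Fin r → Polynomial A}

/-- the trivial square zero extension of the residue field by `r` copies of it. -/
abbrev E2 (A : Type u) [CommRing A] [IsLocalRing A] (r : ℕ) : Type u :=
  TrivSqZeroExt (ResidueField A) (Fin r → ResidueField A)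

theorem aeval_inr (p : Polynomial A) (v : Fin r → ResidueField A) :
    Polynomial.aeval (TrivSqZeroExt.inr v : E2 A r) p =
      TrivSqZeroExt.inl (residue A (p.coeff 0)) + TrivSqZeroExt.inr (residue A (p.coeff 1) • v) := by
  have h1 : p = (p.divX.divX * Polynomial.X + Polynomial.C (p.coeff 1)) * Polynomial.X +
      Polynomial.C (p.coeff 0) := by
    conv_lhs => rw [← Polynomial.divX_mul_X_add p]
    congr 2
    conv_lhs => rw [← Polynomial.divX_mul_X_add p.divX]
    rw [Polynomial.coeff_divX]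
  conv_lhs => rw [h1]
  simp only [map_add, map_mul, Polynomial.aeval_X, Polynomial.aeval_C]
  have h2 : (TrivSqZeroExt.inr v : E2 A r) * TrivSqZeroExt.inr v = 0 :=
    TrivSqZeroExt.inr_mul_inr _ v v
  have h3 : algebraMap A (E2 A r) (p.coeff 1) = TrivSqZeroExt.inl (residue A (p.coeff 1)) := rfl
  have h4 : algebraMap A (E2 A r) (p.coeff 0) = TrivSqZeroExt.inl (residue A (p.coeff 0)) := rfl
  rw [add_mul, mul_assoc, h2, mul_zero, zero_add, h3, h4, TrivSqZeroExt.inl_mul_inr, add_comm]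

theorem IsEis.aeval_single (h : IsEis G) (hd2 : ∀ i, 2 ≤ (G i).natDegree) (i : Fin r) :
    Polynomial.aeval (TrivSqZeroExt.inr (Pi.single i 1) : E2 A r) (G i) = 0 := by
  rw [aeval_inr, (residue_eq_zero_iff _).mpr (h.low i 0 (h.pos i)),
    (residue_eq_zero_iff _).mpr (h.low i 1 (hd2 i)), zero_smul, TrivSqZeroExt.inl_zero,
    TrivSqZeroExt.inr_zero, add_zero]

/-- the map recording the linear coefficients modulo the maximal ideal. -/
noncomputable def IsEis.theta2 (h : IsEis G) (hd2 : ∀ i, 2 ≤ (G i).natDegree) : Q G →ₐ[A] E2 A r :=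
  lift G (fun i => TrivSqZeroExt.inr (Pi.single i 1)) (h.aeval_single hd2)

theorem IsEis.theta2_t (h : IsEis G) (hd2 : ∀ i, 2 ≤ (G i).natDegree) (i : Fin r) :
    h.theta2 hd2 (t G i) = TrivSqZeroExt.inr (Pi.single i 1) := lift_t G _ _ i

theorem IsEis.fst_theta2 (h : IsEis G) (hd2 : ∀ i, 2 ≤ (G i).natDegree) (x : Q G) : (h.theta2 hd2 x).fst = h.aug x := by
  have h1 : (TrivSqZeroExt.fstHom A (ResidueField A) (Fin r → ResidueField A)).comp
      (h.theta2 hd2) = h.aug := by
    apply algHom_ext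
    intro i
    rw [AlgHom.comp_apply, h.theta2_t hd2, h.aug_t]
    rfl
  exact AlgHom.congr_fun h1 x

theorem IsEis.theta2_mul_eq_zero (h : IsEis G) (hd2 : ∀ i, 2 ≤ (G i).natDegree) {x y : Q G} (hx : h.aug x = 0) (hy : h.aug y = 0) :
    h.theta2 hd2 (x * y) = 0 := by
  rw [map_mul]
  apply TrivSqZeroExt.ext
  · rw [TrivSqZeroExt.fst_mul, h.fst_theta2 hd2, hx, zero_mul, TrivSqZeroExt.fst_zero]
  · rw [TrivSqZeroExt.snd_mul, h.fst_theta2 hd2, h.fst_theta2 hd2, hx, hy, zero_smul,
      TrivSqZeroExt.snd_zero]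
    simp

theorem IsEis.theta2_eq_zero_of_mem_sq (h : IsEis G) (hd2 : ∀ i, 2 ≤ (G i).natDegree) {x : Q G} (hx : x ∈ (RingHom.ker h.aug) ^ 2) :
    h.theta2 hd2 x = 0 := by
  rw [pow_two] at hx
  refine Submodule.mul_induction_on hx (fun a ha b hb => ?_) (fun a b ha hb => ?_)
  · exact h.theta2_mul_eq_zero hd2 ha hb
  · rw [map_add, ha, hb, add_zero]

theorem IsEis.t_mem (h : IsEis G) [IsLocalRing (Q G)] (i : Fin r) : t G i ∈ maximalIdeal (Q G) := by
  rw [h.maximalIdeal_eq]
  exact Ideal.mem_sup_right (Ideal.subset_span ⟨i, rfl⟩)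

theorem IsEis.maximalIdeal_eq_ker (h : IsEis G) [IsLocalRing (Q G)] :
    maximalIdeal (Q G) = RingHom.ker h.aug := h.eq_ker_aug _

theorem IsEis.linearIndependent_t (h : IsEis G) (hd2 : ∀ i, 2 ≤ (G i).natDegree)
    [IsLocalRing (Q G)] :
    LinearIndependent (ResidueField (Q G))
      (fun i => (maximalIdeal (Q G)).toCotangent ⟨t G i, h.t_mem i⟩) := by
  rw [Fintype.linearIndependent_iff]
  intro g hg i
  have hsurj : ∀ j, ∃ β : Q G, residue (Q G) β = g j := fun j => IsLocalRing.residue_surjective _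
  choose β hβ using hsurj
  have h1 : ∑ j, g j • (maximalIdeal (Q G)).toCotangent ⟨t G j, h.t_mem j⟩ =
      (maximalIdeal (Q G)).toCotangent (∑ j, β j • (⟨t G j, h.t_mem j⟩ : maximalIdeal (Q G))) := by
    rw [map_sum]
    refine Finset.sum_congr rfl (fun j _ => ?_)
    rw [map_smul, ← hβ j]
    rfl
  rw [h1, Ideal.toCotangent_eq_zero] at hg
  have h2 : ((∑ j, β j • (⟨t G j, h.t_mem j⟩ : maximalIdeal (Q G)) : maximalIdeal (Q G)) : Q G) =
      ∑ j, β j * t G j := by
    rw [Submodule.coe_sum]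
    rfl
  rw [h2, h.maximalIdeal_eq_ker] at hg
  have h3 := h.theta2_eq_zero_of_mem_sq hd2 hg
  rw [map_sum] at h3
  have h4 : ∀ j, h.theta2 hd2 (β j * t G j) =
      TrivSqZeroExt.inr (h.aug (β j) • (Pi.single j 1 : Fin r → ResidueField A)) := by
    intro j
    rw [map_mul, h.theta2_t hd2]
    apply TrivSqZeroExt.ext
    · simp
    · rw [TrivSqZeroExt.snd_mul, h.fst_theta2 hd2]
      simp
  simp only [h4] at h3
  have h5 := congrArg TrivSqZeroExt.snd h3
  rw [TrivSqZeroExt.snd_sum, TrivSqZeroExt.snd_zero] at h5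
  have h6 := congrFun h5 i
  simp only [TrivSqZeroExt.snd_inr, Finset.sum_apply, Pi.smul_apply, Pi.single_apply, smul_eq_mul,
    mul_ite, mul_one, mul_zero, Finset.sum_ite_eq, Finset.mem_univ, if_true, Pi.zero_apply] at h6
  have h7 : β i ∈ maximalIdeal (Q G) := by
    rw [h.maximalIdeal_eq_ker, RingHom.mem_ker]
    exact h6
  rw [← hβ i]
  exact (residue_eq_zero_iff _).mpr h7

end Local

end Groth.Agent.Lib.Helper5.SepQuot
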