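import Groth.Agent.Lib.Helper5.EisenC
import Mathlib

set_option autoImplicit false
set_option linter.unusedSectionVars false
universe u

open MvPolynomial IsLocalRing

namespace Groth.Agent.Lib.Helper5.SepQuot

variable {A : Type u} [CommRing A] [IsRegularLocalRing A] {r : ℕ} {G : Fin r → Polynomial A}

/-- the ideal of the base generated by the constant terms. -/
def J0 (G : Fin r → Polynomial A) : Ideal A := Ideal.span (Set.range fun i => (G i).coeff 0)

theorem aeval_zero_J0 (i : Fin r) : Polynomial.aeval (0 : A ⧸ J0 G) (G i) = 0 := by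
  rw [← Polynomial.coeff_zero_eq_aeval_zero']
  exact Ideal.Quotient.eq_zero_iff_mem.mpr (Ideal.subset_span ⟨i, rfl⟩)

/-- setting the variables to zero. -/
noncomputable def theta1 (G : Fin r → Polynomial A) : Q G →ₐ[A] A ⧸ J0 G :=
  lift G (fun _ => 0) aeval_zero_J0

theorem theta1_t (i : Fin r) : theta1 G (t G i) = 0 := lift_t G _ _ i

theorem theta1_eq_zero_of_mem_span {x : Q G} (hx : x ∈ Ideal.span (Set.range (t G))) :
    theta1 G x = 0 := by
  have hle : Ideal.span (Set.range (t G)) ≤ RingHom.ker (theta1 G) := by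
    rw [Ideal.span_le]
    rintro _ ⟨i, rfl⟩
    exact theta1_t i
  exact hle hx

theorem IsEis.linearIndependent_of_regular (h : IsEis G) (hd2 : ∀ i, 2 ≤ (G i).natDegree)
    [IsLocalRing (Q G)] (hreg : IsRegularLocalRing (Q G)) :
    LinearIndependent (ResidueField A) (fun i => (maximalIdeal A).toCotangent (h.cx i)) := by
  have hN := h.isNoetherianRing
  obtain ⟨s, b', hrs, hspan⟩ := CotExtend.exists_extend
    (fun i => (⟨t G i, h.t_mem i⟩ : maximalIdeal (Q G))) (h.linearIndependent_t hd2)
  -- representatives in the base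
  have hrep : ∀ j, ∃ a : maximalIdeal A, theta1 G (b' j) = Ideal.Quotient.mk (J0 G) a := by
    intro j
    obtain ⟨a, ha⟩ := exists_sub_mem_span_t G (b' j : Q G)
    have h1 : h.aug (b' j : Q G) = 0 := by
      have h0 : (b' j : Q G) ∈ maximalIdeal (Q G) := (b' j).2
      have h0' : (b' j : Q G) ∈ RingHom.ker h.aug := h.maximalIdeal_eq_ker ▸ h0
      exact h0'
    have h2 : h.aug ((b' j : Q G) - algebraMap A (Q G) a) = 0 := by
      have hle : Ideal.span (Set.range (t G)) ≤ RingHom.ker h.aug := by
        rw [Ideal.span_le]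
        rintro _ ⟨i, rfl⟩
        exact h.aug_t i
      exact hle ha
    rw [map_sub, h1, zero_sub, neg_eq_zero, AlgHom.commutes] at h2
    have ham : a ∈ maximalIdeal A := (residue_eq_zero_iff a).mp h2
    refine ⟨⟨a, ham⟩, ?_⟩
    have h3 := theta1_eq_zero_of_mem_span ha
    rw [map_sub, sub_eq_zero, AlgHom.commutes] at h3
    exact h3
  choose y hy using hrep
  -- the maximal ideal of the base is generated by the `y j` and the constant terms
  have hmB : maximalIdeal (Q G) = Ideal.span ((fun z : maximalIdeal (Q G) => (z : Q G)) ''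
      (Set.range (fun i => (⟨t G i, h.t_mem i⟩ : maximalIdeal (Q G))) ∪ Set.range b')) := by
    have h1 := congrArg (Submodule.map (maximalIdeal (Q G)).subtype) hspan
    rw [Submodule.map_span, Submodule.map_top, Submodule.range_subtype] at h1
    exact h1.symm
  have hm : ∀ x ∈ maximalIdeal A,
      x ∈ Ideal.span (Set.range fun j => (y j : A)) ⊔ J0 G := by
    intro x hx
    have h1 : algebraMap A (Q G) x ∈ maximalIdeal (Q G) := by
      rw [h.maximalIdeal_eq]
      exact Ideal.mem_sup_left (Ideal.mem_map_of_mem _ hx)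
    rw [hmB] at h1
    have h2 : theta1 G (algebraMap A (Q G) x) ∈
        (Ideal.span (Set.range fun j => (y j : A))).map (Ideal.Quotient.mk (J0 G)) := by
      have h3 := Ideal.mem_map_of_mem (theta1 G).toRingHom h1
      rw [Ideal.map_span] at h3
      refine (Ideal.span_le.mpr ?_) h3
      rintro _ ⟨_, ⟨z, hz, rfl⟩, rfl⟩
      rcases hz with ⟨i, rfl⟩ | ⟨j, rfl⟩
      · change theta1 G (t G i) ∈ _
        rw [theta1_t]
        exact Ideal.zero_mem _
      · change theta1 G (b' j : Q G) ∈ _
        rw [hy j]
        exact Ideal.mem_map_of_mem _ (Ideal.subset_span ⟨j, rfl⟩)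
    rw [AlgHom.commutes] at h2
    obtain ⟨z, hz, hzx⟩ := (Ideal.mem_map_iff_of_surjective _
      Ideal.Quotient.mk_surjective).mp h2
    have h4 : x - z ∈ J0 G := by
      have : Ideal.Quotient.mk (J0 G) z = Ideal.Quotient.mk (J0 G) x := hzx
      rw [← Ideal.Quotient.eq_zero_iff_mem, map_sub, this, sub_self]
    have : x = z + (x - z) := by ring
    rw [this]
    exact Ideal.add_mem _ (Ideal.mem_sup_left hz) (Ideal.mem_sup_right h4)
  let w : Fin s ⊕ Fin r → maximalIdeal A := Sum.elim y h.cx
  have hw : Submodule.span A (Set.range w) = ⊤ := by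
    rw [eq_top_iff]
    rintro ⟨x, hx⟩ -
    have h1 := hm x hx
    have h2 : Ideal.span (Set.range fun j => (y j : A)) ⊔ J0 G ≤
        (Submodule.span A (Set.range w)).map (maximalIdeal A).subtype := by
      rw [sup_le_iff]
      constructor
      · rw [Ideal.span_le]
        rintro _ ⟨j, rfl⟩
        exact ⟨y j, Submodule.subset_span ⟨Sum.inl j, rfl⟩, rfl⟩
      · unfold J0
        rw [Ideal.span_le]
        rintro _ ⟨i, rfl⟩
        exact ⟨h.cx i, Submodule.subset_span ⟨Sum.inr i, rfl⟩, rfl⟩
    obtain ⟨z, hz, hzx⟩ := h2 h1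
    have : z = ⟨x, hx⟩ := Subtype.ext hzx
    rw [← this]
    exact hz
  have hspanK : ⊤ ≤ Submodule.span (ResidueField A)
      (Set.range fun k => (maximalIdeal A).toCotangent (w k)) := by
    have h1 := (CotangentSpace.span_image_eq_top_iff (R := A) (s := Set.range w)).mpr hw
    rw [← Set.range_comp] at h1
    exact h1.ge
  have hdom : IsDomain A := Groth.Agent.Lib.helper19.isDomain_of_isRegularLocalRing A
  have hdimA : (Module.finrank (ResidueField A) (CotangentSpace A) : WithBot ℕ∞) = ringKrullDim A :=
    (IsRegularLocalRing.iff_finrank_cotangentSpace A).mp inferInstance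
  have hdimB : (Module.finrank (ResidueField (Q G)) (CotangentSpace (Q G)) : WithBot ℕ∞) =
      ringKrullDim (Q G) :=
    (IsRegularLocalRing.iff_finrank_cotangentSpace (Q G)).mp hreg
  have hdim : ringKrullDim (Q G) = ringKrullDim A :=
    ringKrullDim_eq G h.monic h.natDegree_ne_zero
  have hcard : Fintype.card (Fin s ⊕ Fin r) =
      Module.finrank (ResidueField A) (CotangentSpace A) := by
    rw [Fintype.card_sum, Fintype.card_fin, Fintype.card_fin]
    have : (Module.finrank (ResidueField A) (CotangentSpace A) : WithBot ℕ∞) =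
        (Module.finrank (ResidueField (Q G)) (CotangentSpace (Q G)) : WithBot ℕ∞) := by
      rw [hdimA, hdimB, hdim]
    have h2 : Module.finrank (ResidueField A) (CotangentSpace A) =
        Module.finrank (ResidueField (Q G)) (CotangentSpace (Q G)) := by
      exact_mod_cast this
    rw [h2, ← hrs]
    omega
  have hli := linearIndependent_of_top_le_span_of_card_eq_finrank hspanK hcard
  exact hli.comp Sum.inr Sum.inr_injective

end Groth.Agent.Lib.Helper5.SepQuot
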