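import Groth.Agent.Lib.Helper5.EisenD
import Groth.Agent.Lib.Helper5.RegCompletion
import Mathlib

set_option autoImplicit false
set_option linter.unusedSectionVars false
universe u

open IsLocalRing

namespace Groth.Agent.Lib.Helper5.SepQuot

variable {A : Type u} [CommRing A] {r : ℕ} (d : Fin r → ℕ) (c : Fin r → ℕ → A)

/-- the one-variable polynomials `X ^ d + ∑_{k<d} c k X ^ k`. -/
noncomputable def eisPoly (i : Fin r) : Polynomial A :=
  Polynomial.X ^ d i + (Finset.range (d i)).sum fun k => Polynomial.C (c i k) * Polynomial.X ^ k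

theorem degree_low_lt [Nontrivial A] (i : Fin r) :
    ((Finset.range (d i)).sum fun k => Polynomial.C (c i k) * Polynomial.X ^ k).degree <
      (d i : WithBot ℕ) := by
  refine (Polynomial.degree_sum_le _ _).trans_lt ?_
  rw [Finset.sup_lt_iff (WithBot.bot_lt_coe _)]
  intro k hk
  exact (Polynomial.degree_C_mul_X_pow_le k _).trans_lt
    (by exact_mod_cast Finset.mem_range.mp hk)

theorem eisPoly_monic [Nontrivial A] (i : Fin r) : (eisPoly d c i).Monic :=
  Polynomial.monic_X_pow_add (degree_low_lt d c i)

theorem eisPoly_natDegree [Nontrivial A] (i : Fin r) : (eisPoly d c i).natDegree = d i := by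
  have h1 : ((Finset.range (d i)).sum fun k => Polynomial.C (c i k) * Polynomial.X ^ k).degree <
      ((Polynomial.X : Polynomial A) ^ d i).degree := by
    rw [Polynomial.degree_X_pow]
    exact degree_low_lt d c i
  have h2 : (eisPoly d c i).degree = (d i : WithBot ℕ) := by
    unfold eisPoly
    rw [Polynomial.degree_add_eq_left_of_degree_lt h1, Polynomial.degree_X_pow]
  exact Polynomial.natDegree_eq_of_degree_eq_some h2

theorem eisPoly_coeff (i : Fin r) (k : ℕ) (hk : k < d i) : (eisPoly d c i).coeff k = c i k := by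
  unfold eisPoly
  rw [Polynomial.coeff_add, Polynomial.coeff_X_pow, if_neg hk.ne, zero_add,
    Polynomial.finsetSum_coeff]
  simp only [Polynomial.coeff_C_mul_X_pow]
  rw [Finset.sum_ite_eq (Finset.range (d i)) k (fun j => c i j), if_pos (Finset.mem_range.mpr hk)]

theorem sepPoly_eisPoly (i : Fin r) :
    sepPoly (eisPoly d c) i = MvPolynomial.X i ^ d i +
      (Finset.range (d i)).sum fun k => MvPolynomial.C (c i k) * MvPolynomial.X i ^ k := by
  unfold sepPoly eisPoly
  simp only [map_add, map_pow, Polynomial.aeval_X, map_sum, map_mul, Polynomial.aeval_C]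
  rfl

theorem eisPoly_isEis [IsLocalRing A] (hd : ∀ i, 2 ≤ d i) (hc : ∀ i k, c i k ∈ maximalIdeal A) :
    IsEis (eisPoly d c) where
  monic := eisPoly_monic d c
  low := by
    intro i k hk
    rw [eisPoly_natDegree] at hk
    rw [eisPoly_coeff d c i k hk]
    exact hc i k
  pos := by
    intro i
    rw [eisPoly_natDegree]
    have := hd i
    omega

end Groth.Agent.Lib.Helper5.SepQuot
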