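import Mathlib
import Groth.Agent.Lib.Helper17.ColimSys

set_option autoImplicit false
universe u

namespace Groth.Agent.Lib.Helper5.EtColim

open TensorProduct Groth.Agent.Lib.Helper17.ColimSys

theorem ringHom_aeval_int {S T σ : Type*} [CommRing S] [CommRing T] (φ : S →+* T) (y : σ → S)
    (p : MvPolynomial σ ℤ) :
    φ (MvPolynomial.aeval y p) = MvPolynomial.aeval (fun k => φ (y k)) p :=
  MvPolynomial.comp_aeval_apply (R := ℤ) (f := y) φ.toIntAlgHom p

section Sys

variable {ι : Type u} [Preorder ι] [IsDirected ι (· ≤ ·)] [Nonempty ι]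
  {G : ι → Type u} [∀ i, CommRing (G i)] {A : Type u} [CommRing A] (g : ∀ i, G i →+* A)

/-- admissible transition maps -/
def RAdm (i l : ι) : Type u := {F : G i →+* G l // (g l).comp F = g i}

def RAdm.comp (i j l : ι) (F : RAdm g i j) (F' : RAdm g j l) : RAdm g i l :=
  ⟨F'.1.comp F.1, by rw [← RingHom.comp_assoc, F'.2, F.2]⟩

variable (f : ∀ i j, i ≤ j → (G i →+* G j))
  (hg : ∀ i j (h : i ≤ j), (g j).comp (f i j h) = g i)
  (hsurj : ∀ a : A, ∃ i, ∃ x : G i, g i x = a)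
  (hker : ∀ i (x : G i), g i x = 0 → ∃ j, ∃ h : i ≤ j, f i j h x = 0)

include hg hsurj hker in
theorem isSys_R : IsSys (RAdm.comp g) (fun i => (g i).toAddMonoidHom.toIntLinearMap)
    (fun i l (F : RAdm g i l) => F.1.toAddMonoidHom.toIntLinearMap) where
  compat F x := DFunLike.congr_fun F.2 x
  comp_apply F F' x := rfl
  surj i a := by
    obtain ⟨j, x, rfl⟩ := hsurj a
    obtain ⟨k, hik, hjk⟩ := exists_ge_ge i j
    exact ⟨k, ⟨f i k hik, hg i k hik⟩, f j k hjk x, DFunLike.congr_fun (hg j k hjk) x⟩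
  kill i x hx := by
    obtain ⟨j, h, hj⟩ := hker i x hx
    exact ⟨j, ⟨f i j h, hg i j h⟩, hj⟩

include hg hsurj hker in
/-- a finitely presented `ℤ`-subalgebra of the colimit lifts to a stage -/
theorem exists_lift_subalgebra (A₀ : Subalgebra ℤ A) [Algebra.FinitePresentation ℤ A₀] :
    ∃ (i : ι) (ψ : A₀ →+* G i), (g i).comp ψ = A₀.val.toRingHom := by
  classical
  let P := Algebra.Presentation.ofFinitePresentation ℤ A₀
  have hS := isSys_R g f hg hsurj hker
  obtain ⟨i₀⟩ := ‹Nonempty ι›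
  obtain ⟨l₁, F₁, y, hy⟩ := hS.lift_family i₀ (fun k => ((P.val k : A₀) : A))
  have hy' : ∀ k, g l₁ (y k) = ((P.val k : A₀) : A) := hy
  have he : ∀ j, (g l₁).toAddMonoidHom.toIntLinearMap
      (MvPolynomial.aeval y (P.relation j)) = 0 := by
    intro j
    change g l₁ (MvPolynomial.aeval y (P.relation j)) = 0
    rw [ringHom_aeval_int]
    have h2 : (fun k => g l₁ (y k)) = fun k => A₀.val (P.val k) := funext hy'
    rw [h2, ← MvPolynomial.comp_aeval_apply, P.aeval_val_relation, map_zero]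
  obtain ⟨l₂, F₂, h₂⟩ := hS.kill_family l₁ _ he
  have h₂' : ∀ j, F₂.1 (MvPolynomial.aeval y (P.relation j)) = 0 := h₂
  let y' : Fin _ → G l₂ := fun k => F₂.1 (y k)
  have hrel : ∀ a ∈ P.ker, MvPolynomial.aeval y' a = 0 := by
    intro a ha
    rw [← P.span_range_relation_eq_ker] at ha
    have : Ideal.span (Set.range P.relation) ≤ RingHom.ker (MvPolynomial.aeval (R := ℤ) y') := by
      rw [Ideal.span_le]
      rintro _ ⟨j, rfl⟩
      change MvPolynomial.aeval y' (P.relation j) = 0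
      have := ringHom_aeval_int F₂.1 y (P.relation j)
      rw [← this]
      exact h₂' j
    exact this ha
  let ψ₀ : P.Quotient →ₐ[ℤ] G l₂ := Ideal.Quotient.liftₐ P.ker (MvPolynomial.aeval y') hrel
  let ψ : A₀ →+* G l₂ := ψ₀.toRingHom.comp
    ((P.quotientEquiv.symm.restrictScalars ℤ : A₀ ≃ₐ[ℤ] P.Quotient) : A₀ →ₐ[ℤ] P.Quotient).toRingHom
  refine ⟨l₂, ψ, ?_⟩
  ext x
  obtain ⟨p, rfl⟩ := P.algebraMap_surjective x
  have h1 : ψ (algebraMap P.Ring A₀ p) = MvPolynomial.aeval y' p := by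
    change ψ₀ (P.quotientEquiv.symm (algebraMap P.Ring A₀ p)) = _
    rw [← P.quotientEquiv_mk, AlgEquiv.symm_apply_apply]
    rfl
  rw [RingHom.comp_apply, h1, ringHom_aeval_int]
  have h3 : (fun k => g l₂ (y' k)) = fun k => A₀.val (P.val k) := by
    funext k
    change g l₂ (F₂.1 (y k)) = _
    rw [← RingHom.comp_apply, F₂.2]
    exact hy' k
  rw [h3, ← MvPolynomial.comp_aeval_apply, ← Algebra.Generators.algebraMap_apply]
  rfl

include hg hsurj hker in
theorem exists_etale_model (B : Type u) [CommRing B] [Algebra A B] [Algebra.Etale A B] :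
    ∃ (i : ι) (Bi : Type u) (_ : CommRing Bi) (_ : Algebra (G i) Bi), Algebra.Etale (G i) Bi ∧
      letI : Algebra (G i) A := (g i).toAlgebra
      Nonempty (B ≃ₐ[A] A ⊗[G i] Bi) := by
  obtain ⟨A₀, B₀, _, _, hfg, hét, ⟨e⟩⟩ := Algebra.Etale.exists_subalgebra_fg ℤ A B
  have hft : Algebra.FiniteType ℤ A₀ := (Subalgebra.fg_iff_finiteType A₀).mp hfg
  have hfp : Algebra.FinitePresentation ℤ A₀ := Algebra.FinitePresentation.of_finiteType.mp hft
  obtain ⟨i, ψ, hψ⟩ := exists_lift_subalgebra g f hg hsurj hker A₀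
  let _ : Algebra A₀ (G i) := ψ.toAlgebra
  let _ : Algebra (G i) A := (g i).toAlgebra
  have : IsScalarTower A₀ (G i) A := .of_algebraMap_eq' hψ.symm
  refine ⟨i, G i ⊗[A₀] B₀, inferInstance, inferInstance, inferInstance, ?_⟩
  exact ⟨e.trans (Algebra.TensorProduct.cancelBaseChange A₀ (G i) A A B₀).symm⟩

end Sys

end Groth.Agent.Lib.Helper5.EtColim
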