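import Mathlib
import Groth.Prelude.Def_RegImm
import Groth.Agent.Lib.Helper5.TransRegA
import Groth.Agent.Lib.Helper5.KLH
import Groth.Agent.Lib.Helper5.KosLow
import Groth.Agent.Lib.Helper5.KosPermD

set_option autoImplicit false
universe u

namespace Groth.Agent.Lib.Helper5.KSyn

open RingTheory.Sequence IsLocalRing Groth.Agent.Lib.Helper21.FlatLocal Pointwise TensorProduct
open Groth.Agent.Lib.Helper5.KL

section Fibre

variable {R S : Type u} [CommRing R] [CommRing S] [Algebra R S]

theorem isSMulRegular_quot_of_flat_quot (J : Ideal R) {N : Type u} [AddCommGroup N] [Module S N]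
    [Module R N] [IsScalarTower R S N] (y : S) (hy : IsSMulRegular N y)
    [Module.Flat R (QuotSMulTop y N)] :
    IsSMulRegular (N ⧸ (J.map (algebraMap R S) • (⊤ : Submodule S N))) y := by
  have h3 := isSMulRegular_tensor_of_flat_quot (R := R) (S := S) (N := N) (R ⧸ J) y hy
  rw [isSMulRegular_quotient_iff_mem_of_smul_mem]
  intro n hn
  rw [mem_map_smul_top_iff] at hn ⊢
  have h4 : y • (n ⊗ₜ[R] (1 : R ⧸ J)) = 0 := by
    rw [TensorProduct.smul_tmul', ← tensorQuotEquivQuotSMul_symm_mk,
      (Submodule.Quotient.mk_eq_zero _).2 hn, map_zero]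
  have h5 : n ⊗ₜ[R] (1 : R ⧸ J) = 0 :=
    h3 (by show y • _ = y • 0; rw [h4, smul_zero])
  rw [← tensorQuotEquivQuotSMul_symm_mk, LinearEquiv.map_eq_zero_iff,
    Submodule.Quotient.mk_eq_zero] at h5
  exact h5

theorem isWeaklyRegular_quot_of_flat (J : Ideal R) (ys : List S) :
    ∀ (N : Type u) [AddCommGroup N] [Module S N] [Module R N] [IsScalarTower R S N],
      IsWeaklyRegular N ys →
      (∀ j : ℕ, j ≤ ys.length →
        Module.Flat R (N ⧸ (Ideal.ofList (ys.take j) • ⊤ : Submodule S N))) →
      IsWeaklyRegular (N ⧸ (J.map (algebraMap R S) • (⊤ : Submodule S N))) ys := by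
  induction ys with
  | nil =>
    intro N _ _ _ _ _ _
    exact IsWeaklyRegular.nil S _
  | cons y ys ih =>
    intro N _ _ _ _ h hfl
    rw [isWeaklyRegular_cons_iff] at h ⊢
    obtain ⟨hy, hys⟩ := h
    have hfl1 : Module.Flat R (QuotSMulTop y N) := by
      have h1 := hfl 1 (by simp)
      rw [List.take_succ_cons, List.take_zero] at h1
      let e1 : (N ⧸ (Ideal.ofList [y] • ⊤ : Submodule S N)) ≃ₗ[S]
          (QuotSMulTop y N ⧸ (Ideal.ofList ([] : List S) • ⊤ : Submodule S (QuotSMulTop y N))) :=
        Submodule.quotOfListConsSMulTopEquivQuotSMulTopInner N y []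
      let e2 : (QuotSMulTop y N ⧸
          (Ideal.ofList ([] : List S) • ⊤ : Submodule S (QuotSMulTop y N))) ≃ₗ[S]
          QuotSMulTop y N :=
        Submodule.quotEquivOfEqBot _ (by rw [Ideal.ofList_nil, Submodule.bot_smul])
      exact Module.Flat.of_linearEquiv ((e1.trans e2).symm.restrictScalars R)
    refine ⟨isSMulRegular_quot_of_flat_quot J y hy, ?_⟩
    have h2 := ih (QuotSMulTop y N) hys (fun j hj => by
      have h1 := hfl (j + 1) (by simpa using hj)
      rw [List.take_succ_cons] at h1
      exact Module.Flat.of_linearEquiv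
        ((Submodule.quotOfListConsSMulTopEquivQuotSMulTopInner N y (ys.take j)).symm.restrictScalars
          R))
    exact ((quotSMulTopQuotEquiv' (N := N) y _).isWeaklyRegular_congr ys).2 h2

end Fibre

section Loc

theorem isTransRegularSeq_of_isLocalization (A B : Type u) [CommRing A] [CommRing B] [Algebra A B]
    (M : Submonoid B) (B' : Type u) [CommRing B'] [Algebra B B'] [Algebra A B']
    [IsScalarTower A B B'] [IsLocalization M B'] (rs : List B)
    (h : RegImm.IsTransRegularSeq A B rs) :
    RegImm.IsTransRegularSeq A B' (rs.map (algebraMap B B')) := by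
  obtain ⟨hwr, hfl⟩ := h
  refine ⟨IsWeaklyRegular.of_isLocalization B' M hwr, fun j hj => ?_⟩
  rw [List.length_map] at hj
  have hflj := hfl j hj
  rw [← List.map_take]
  have hloc : (Ideal.ofList (rs.take j)).localized' B' M (Algebra.linearMap B B') =
      Ideal.ofList ((rs.take j).map (algebraMap B B')) := by
    rw [Ideal.localized'_eq_map, Ideal.map_ofList]
  have hF1 : Module.Flat A (B' ⧸ (Ideal.ofList (rs.take j)).localized' B' M
      (Algebra.linearMap B B')) :=
    Groth.Agent.Lib.Helper5.TransPow.flat_of_isLocalizedModule_of_flat M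
      ((Ideal.ofList (rs.take j)).toLocalizedQuotient' B' M (Algebra.linearMap B B'))
  exact Module.Flat.of_linearEquiv ((Submodule.quotEquivOfEq _ _ hloc).symm.restrictScalars A)

theorem isTransRegularSeq_of_transNear {A B : Type u} [CommRing A] [CommRing B]
    [Algebra A B] {fs : List B} {q : Ideal B} (h : TransNear A B fs q) (M : Submonoid B)
    (hM : ∀ x, x ∉ q → x ∈ M) (B' : Type u) [CommRing B'] [Algebra B B'] [Algebra A B']
    [IsScalarTower A B B'] [IsLocalization M B'] :
    RegImm.IsTransRegularSeq A B' (fs.map (algebraMap B B')) := by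
  obtain ⟨g, hg, H⟩ := h
  have hgM : g ∈ M := hM g hg
  have hle : Submonoid.powers g ≤ M := Submonoid.powers_le.mpr hgM
  let _ : Algebra (Localization.Away g) B' :=
    IsLocalization.localizationAlgebraOfSubmonoidLe (Localization.Away g) B' (Submonoid.powers g) M hle
  have : IsScalarTower B (Localization.Away g) B' :=
    IsLocalization.localization_isScalarTower_of_submonoid_le (Localization.Away g) B' _ _ hle
  have hloc : IsLocalization (M.map (algebraMap B (Localization.Away g))) B' :=
    IsLocalization.isLocalization_of_submonoid_le (Localization.Away g) B' _ _ hle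
  have : IsScalarTower A (Localization.Away g) B' := IsScalarTower.of_algebraMap_eq (fun a => by
    rw [IsScalarTower.algebraMap_apply A B (Localization.Away g),
      ← IsScalarTower.algebraMap_apply B (Localization.Away g) B',
      ← IsScalarTower.algebraMap_apply A B B'])
  have h1 := H (Localization.Away g)
  have h2 := isTransRegularSeq_of_isLocalization A (Localization.Away g)
    (M.map (algebraMap B (Localization.Away g))) B' _ h1
  rw [List.map_map] at h2
  convert h2 using 2
  funext x
  exact IsScalarTower.algebraMap_apply B (Localization.Away g) B' x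

end Loc

section Indep

open CategoryTheory CategoryTheory.Limits

theorem indep_of_h1 {L : Type u} [CommRing L] (l : List L)
    (h1 : IsZero ((Koszul.koszul L l).homology (-1))) (m : Ideal L) (hm : Ideal.ofList l ≤ m)
    (c : Fin l.length → L) (hc : ∑ k, c k * l.get k ∈ m * Ideal.ofList l) (k : Fin l.length) :
    c k ∈ m := by
  rw [Groth.Agent.Lib.Helper5.KosPerm.ofList_eq_span_range_get] at hc
  obtain ⟨b, hb, hbsum⟩ := Groth.Agent.Lib.Helper5.KosLow.exists_of_mem_mul_span_range m l.get _ hc
  have h0 : ∑ i, (c i - b i) * l.get i = 0 := by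
    simp only [sub_mul, Finset.sum_sub_distrib, hbsum, sub_self]
  have h2 : c k - b k ∈ m :=
    hm (Groth.Agent.Lib.Helper5.KosLow.coeff_mem_of_sum_eq_zero l h1 (fun i => c i - b i) h0 k)
  have := m.add_mem h2 (hb k)
  simpa using this

end Indep

end Groth.Agent.Lib.Helper5.KSyn
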