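import Groth.Prelude.Def_Exal2
import Mathlib.Tactic.LinearCombination

set_option autoImplicit false
universe u v w

namespace Groth.Agent.Lib.Helper5.ExalTriv

open Exal Exal.Ext

attribute [local instance] Exal.opModule Exal.isCentralScalar_opModule

variable {A : Type u} {B C L : Type v} [CommRing A] [CommRing B] [CommRing C]
  [Algebra A B] [Algebra B C] [Algebra A C] [IsScalarTower A B C]
  [AddCommGroup L] [Module C L] [Module B L] [IsScalarTower B C L]
  (Y : Ext A B L) (s : B →+* Y.E) (hs : ∀ b, Y.proj (s b) = b)

/-- the `L`-component of an element with respect to the section -/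
noncomputable def ell (y : Y.E) : L :=
  Y.kerLift (y - s (Y.proj y)) (by rw [map_sub, hs, sub_self])

omit [CommRing C] [Algebra B C] [Algebra A C] [IsScalarTower A B C] [Module C L]
  [IsScalarTower B C L] in
lemma incl_ell (y : Y.E) : Y.incl (ell Y s hs y) = y - s (Y.proj y) := Y.incl_kerLift _ _

omit [CommRing C] [Algebra B C] [Algebra A C] [IsScalarTower A B C] [Module C L]
  [IsScalarTower B C L] in
lemma ell_add (y y' : Y.E) : ell Y s hs (y + y') = ell Y s hs y + ell Y s hs y' := by
  apply Y.isExtension.incl_injective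
  rw [map_add, incl_ell, incl_ell, incl_ell, map_add, map_add]
  ring

omit [CommRing C] [Algebra B C] [Algebra A C] [IsScalarTower A B C] [Module C L]
  [IsScalarTower B C L] in
lemma ell_zero : ell Y s hs 0 = 0 := by
  apply Y.isExtension.incl_injective
  rw [incl_ell, map_zero, map_zero, map_zero, sub_zero]

omit [CommRing C] [Algebra B C] [Algebra A C] [IsScalarTower A B C] [Module C L]
  [IsScalarTower B C L] in
lemma ell_one : ell Y s hs 1 = 0 := by
  apply Y.isExtension.incl_injective
  rw [incl_ell, map_one, map_one, sub_self, map_zero]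

omit [CommRing C] [Algebra B C] [Algebra A C] [IsScalarTower A B C] [Module C L]
  [IsScalarTower B C L] in
lemma proj_incl (z : L) : Y.proj (Y.incl z) = 0 := (Y.isExtension.exact _).2 ⟨z, rfl⟩

omit [CommRing C] [Algebra B C] [Algebra A C] [IsScalarTower A B C] [Module C L]
  [IsScalarTower B C L] in
lemma ell_incl (z : L) : ell Y s hs (Y.incl z) = z := by
  apply Y.isExtension.incl_injective
  rw [incl_ell, proj_incl, map_zero, sub_zero]

omit [CommRing C] [Algebra B C] [Algebra A C] [IsScalarTower A B C] [Module C L]
  [IsScalarTower B C L] in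
lemma ell_s (b : B) : ell Y s hs (s b) = 0 := by
  apply Y.isExtension.incl_injective
  rw [incl_ell, hs, sub_self, map_zero]

omit [CommRing C] [Algebra B C] [Algebra A C] [IsScalarTower A B C] [Module C L]
  [IsScalarTower B C L] in
lemma ell_mul (y y' : Y.E) :
    ell Y s hs (y * y') = Y.proj y • ell Y s hs y' + Y.proj y' • ell Y s hs y := by
  apply Y.isExtension.incl_injective
  have h0 : (y - s (Y.proj y)) * (y' - s (Y.proj y')) = 0 := by
    rw [← incl_ell Y s hs y', Y.isExtension.mul_incl, map_sub, hs, sub_self, zero_smul, map_zero]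
  rw [map_add, ← Y.isExtension.mul_incl, ← Y.isExtension.mul_incl, incl_ell, incl_ell, incl_ell,
    map_mul, map_mul]
  linear_combination (-1 : Y.E) * h0

/-- the ring map `E → C ⊕ L` -/
noncomputable def Theta : Y.E →+* TrivSqZeroExt C L where
  toFun y := TrivSqZeroExt.inl (algebraMap B C (Y.proj y)) + TrivSqZeroExt.inr (ell Y s hs y)
  map_one' := by
    rw [map_one, map_one, ell_one, TrivSqZeroExt.inr_zero, add_zero, TrivSqZeroExt.inl_one]
  map_mul' y y' := by
    apply TrivSqZeroExt.ext
    · simp
    · simp only [TrivSqZeroExt.snd_add, TrivSqZeroExt.snd_inl, TrivSqZeroExt.snd_inr, zero_add,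
        TrivSqZeroExt.snd_mul, TrivSqZeroExt.fst_add, TrivSqZeroExt.fst_inl, TrivSqZeroExt.fst_inr,
        add_zero, ell_mul, op_smul_eq_smul]
      rw [IsScalarTower.algebraMap_smul, IsScalarTower.algebraMap_smul]
  map_zero' := by
    rw [map_zero, map_zero, ell_zero, TrivSqZeroExt.inl_zero, TrivSqZeroExt.inr_zero, add_zero]
  map_add' y y' := by
    rw [map_add, map_add, ell_add, TrivSqZeroExt.inl_add, TrivSqZeroExt.inr_add]
    abel

omit [Algebra A C] [IsScalarTower A B C] in
lemma Theta_apply (y : Y.E) : Theta (C := C) Y s hs y =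
    TrivSqZeroExt.inl (algebraMap B C (Y.proj y)) + TrivSqZeroExt.inr (ell Y s hs y) := rfl

/-- carrier of the descended extension -/
@[nolint unusedArguments]
def XCarrier (Y : Ext A B L) (s : B →+* Y.E) (_hs : ∀ b, Y.proj (s b) = b) : Type v :=
  TrivSqZeroExt C L

instance : CommRing (XCarrier (C := C) Y s hs) := inferInstanceAs (CommRing (TrivSqZeroExt C L))

noncomputable instance : Algebra A (XCarrier (C := C) Y s hs) :=
  ((Theta (C := C) Y s hs).comp (algebraMap A Y.E) : A →+* XCarrier (C := C) Y s hs).toAlgebra

omit [Algebra A C] [IsScalarTower A B C] in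
lemma algebraMap_X (a : A) : algebraMap A (XCarrier (C := C) Y s hs) a =
    Theta (C := C) Y s hs (algebraMap A Y.E a) := rfl

/-- the descended extension of `C` by `L` -/
noncomputable def X : Ext A C L where
  E := XCarrier (C := C) Y s hs
  proj :=
    { toFun := fun x => TrivSqZeroExt.fst x
      map_one' := TrivSqZeroExt.fst_one
      map_mul' := TrivSqZeroExt.fst_mul
      map_zero' := TrivSqZeroExt.fst_zero
      map_add' := TrivSqZeroExt.fst_add
      commutes' := fun a => by
        rw [algebraMap_X, Theta_apply]
        rw [TrivSqZeroExt.fst_add, TrivSqZeroExt.fst_inl, TrivSqZeroExt.fst_inr, add_zero,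
          AlgHom.commutes, ← IsScalarTower.algebraMap_apply] }
  incl := (TrivSqZeroExt.inrHom C L).toAddMonoidHom
  isExtension :=
    { proj_surjective := fun c => ⟨TrivSqZeroExt.inl c, rfl⟩
      incl_injective := TrivSqZeroExt.inr_injective
      exact := fun x => by
        constructor
        · intro hx
          exact ⟨TrivSqZeroExt.snd x, TrivSqZeroExt.ext hx.symm rfl⟩
        · rintro ⟨z, rfl⟩
          rfl
      mul_incl := fun x z => by
        refine TrivSqZeroExt.ext ?_ ?_
        · change TrivSqZeroExt.fst x * 0 = 0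
          exact mul_zero _
        · change TrivSqZeroExt.fst x • z + MulOpposite.op (0 : C) • TrivSqZeroExt.snd x =
            TrivSqZeroExt.fst x • z
          rw [MulOpposite.op_zero, zero_smul, add_zero] }

section Trivial

variable {Λ : Type w} [CommRing Λ] [Algebra Λ A] [Algebra Λ B] [Algebra Λ C]
  [IsScalarTower Λ A B] [IsScalarTower Λ A C]

theorem X_isTrivialOver
    (hsΛ : ∀ r : Λ, s (algebraMap Λ B r) = algebraMap A Y.E (algebraMap Λ A r)) :
    (X (C := C) Y s hs).IsTrivialOver Λ := by
  refine ⟨{ toFun := fun c => (TrivSqZeroExt.inl c : TrivSqZeroExt C L)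
            map_one' := TrivSqZeroExt.inl_one _
            map_mul' := fun a b => TrivSqZeroExt.inl_mul _ a b
            map_zero' := TrivSqZeroExt.inl_zero _
            map_add' := fun a b => TrivSqZeroExt.inl_add _ a b
            commutes' := fun r => ?_ }, fun b => rfl⟩
  change (TrivSqZeroExt.inl (algebraMap Λ C r) : TrivSqZeroExt C L) =
    Theta (C := C) Y s hs (algebraMap A Y.E (algebraMap Λ A r))
  rw [← hsΛ, Theta_apply, hs, ell_s, TrivSqZeroExt.inr_zero, add_zero,
    IsScalarTower.algebraMap_apply Λ A B, ← IsScalarTower.algebraMap_apply A B C,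
    ← IsScalarTower.algebraMap_apply Λ A C]

end Trivial

section Equiv

/-- `Theta` as an algebra map into the descended extension -/
noncomputable def ThetaAlg : Y.E →ₐ[A] (X (C := C) Y s hs).E :=
  { (Theta (C := C) Y s hs : Y.E →+* XCarrier (C := C) Y s hs) with
    commutes' := fun _ => rfl }

lemma ThetaAlg_apply (y : Y.E) : ThetaAlg (C := C) Y s hs y = Theta (C := C) Y s hs y := rfl

/-- the comparison map to the fibre product -/
noncomputable def toFiber : Y.E →ₐ[A] ((X (C := C) Y s hs).fiberProd B) :=
  AlgHom.codRestrict ((ThetaAlg (C := C) Y s hs).prod Y.proj) ((X (C := C) Y s hs).fiberProd B)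
    (fun y => by
      change TrivSqZeroExt.fst (Theta (C := C) Y s hs y) = algebraMap B C (Y.proj y)
      rw [Theta_apply, TrivSqZeroExt.fst_add, TrivSqZeroExt.fst_inl, TrivSqZeroExt.fst_inr,
        add_zero])

lemma toFiber_val (y : Y.E) :
    (toFiber (C := C) Y s hs y).1 = (Theta (C := C) Y s hs y, Y.proj y) := rfl

lemma toFiber_bijective : Function.Bijective (toFiber (C := C) Y s hs) := by
  constructor
  · rw [injective_iff_map_eq_zero]
    intro y hy
    have h := congrArg Subtype.val hy
    rw [toFiber_val] at h
    have h1 : Theta (C := C) Y s hs y = 0 := congrArg Prod.fst h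
    have h2 : Y.proj y = 0 := congrArg Prod.snd h
    have h3 : ell Y s hs y = 0 := by
      have := congrArg TrivSqZeroExt.snd h1
      rw [Theta_apply, TrivSqZeroExt.snd_add, TrivSqZeroExt.snd_inl, TrivSqZeroExt.snd_inr,
        zero_add] at this
      exact this
    have h4 := incl_ell Y s hs y
    rw [h3, h2, map_zero, map_zero, sub_zero] at h4
    exact h4.symm
  · rintro ⟨⟨x, b⟩, hx⟩
    have hx' : TrivSqZeroExt.fst (x : TrivSqZeroExt C L) = algebraMap B C b := hx
    refine ⟨s b + Y.incl (TrivSqZeroExt.snd (x : TrivSqZeroExt C L)), ?_⟩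
    apply Subtype.ext
    rw [toFiber_val]
    have hp : Y.proj (s b + Y.incl (TrivSqZeroExt.snd (x : TrivSqZeroExt C L))) = b := by
      rw [map_add, hs, proj_incl, add_zero]
    apply Prod.ext
    · change Theta (C := C) Y s hs _ = x
      rw [Theta_apply, hp, ell_add, ell_s, ell_incl, zero_add, ← hx']
      exact TrivSqZeroExt.inl_fst_add_inr_snd_eq x
    · exact hp

/-- the equivalence of `Y` with the inverse image of the descended extension -/
noncomputable def equiv : ((X (C := C) Y s hs).pullback B).Equiv Y :=
  Exal.Ext.Equiv.symm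
    { toAlgEquiv := (AlgEquiv.ofBijective (toFiber (C := C) Y s hs) (toFiber_bijective Y s hs) :
        Y.E ≃ₐ[A] ((X (C := C) Y s hs).fiberProd B))
      proj_apply := fun y => rfl
      apply_incl := fun z => by
        apply Subtype.ext
        change (toFiber (C := C) Y s hs (Y.incl z)).1 = ((X (C := C) Y s hs).incl z, 0)
        rw [toFiber_val, proj_incl, Theta_apply, proj_incl, map_zero, TrivSqZeroExt.inl_zero,
          zero_add, ell_incl]
        rfl }

end Equiv

end Groth.Agent.Lib.Helper5.ExalTriv
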