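import Groth.Prelude.Def_Exal3
import Groth.Prelude.Def_Exal2
import Groth.Agent.Lib.Helper5.ExalTriv

set_option autoImplicit false
universe u v

namespace Groth.Agent.Lib.Helper5.ExalChar

open Exal Exal.Ext TensorProduct KaehlerDifferential
open Groth.Agent.Lib.Helper5

variable (A : Type u) {B C L : Type v} [CommRing A] [CommRing B] [CommRing C] [Algebra A B]
  [Algebra B C] [Algebra A C] [IsScalarTower A B C] [AddCommGroup L] [Module C L]
variable (X : Ext B C L)

/-- A copy of `L` carrying its module structures over `A`, `B` and the middle ring. -/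
@[nolint unusedArguments]
def LX (A : Type u) [CommRing A] [Algebra A B] (_X : Ext B C L) : Type v := L

instance : AddCommGroup (LX A X) := inferInstanceAs (AddCommGroup L)
instance : Module C (LX A X) := inferInstanceAs (Module C L)
instance modE : Module (X.CharCarrier A) (LX A X) :=
  Module.compHom L (algebraMap (X.CharCarrier A) C)
instance modA : Module A (LX A X) := Module.compHom L (algebraMap A C)
instance modB : Module B (LX A X) := Module.compHom L (algebraMap B C)

instance towerECL : IsScalarTower (X.CharCarrier A) C (LX A X) :=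
  IsScalarTower.of_algebraMap_smul (fun _ _ => rfl)

instance towerACL : IsScalarTower A C (LX A X) :=
  IsScalarTower.of_algebraMap_smul (fun _ _ => rfl)

instance towerBCL : IsScalarTower B C (LX A X) :=
  IsScalarTower.of_algebraMap_smul (fun _ _ => rfl)

instance towerAEL : IsScalarTower A (X.CharCarrier A) (LX A X) := by
  refine ⟨fun a e l => ?_⟩
  change algebraMap (X.CharCarrier A) C (a • e) • (show L from l) =
    algebraMap A C a • (algebraMap (X.CharCarrier A) C e • (show L from l))
  rw [Algebra.smul_def, map_mul, ← IsScalarTower.algebraMap_apply A (X.CharCarrier A) C, mul_smul]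

instance towerABL : IsScalarTower A B (LX A X) := by
  refine ⟨fun a b l => ?_⟩
  change algebraMap B C (a • b) • (show L from l) =
    algebraMap A C a • (algebraMap B C b • (show L from l))
  rw [Algebra.smul_def, map_mul, ← IsScalarTower.algebraMap_apply A B C, mul_smul]

omit [IsScalarTower A B C] [Algebra A C] in
lemma smulE_def (e : X.CharCarrier A) (l : LX A X) :
    e • l = (X.proj e • (show L from l) : L) := rfl

section Section

variable {A X}
variable (s : C →ₐ[A] X.CharCarrier A) (hs : ∀ c, X.proj (s c) = c)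

/-- the section as a ring map to the middle ring -/
def sR : C →+* X.E := (s : C →+* X.CharCarrier A)

/-- the `L`-component with respect to the section -/
noncomputable def ellX (e : X.CharCarrier A) : LX A X :=
  (ExalTriv.ell X (sR s) hs (e : X.E) : L)

lemma incl_ellX (e : X.CharCarrier A) : X.incl (ellX s hs e) = e - s (X.proj e) :=
  ExalTriv.incl_ell X (sR s) hs e

lemma ellX_incl (z : L) : ellX s hs (X.incl z) = z :=
  ExalTriv.ell_incl X (sR s) hs z

lemma ellX_s (c : C) : ellX s hs (s c) = 0 :=
  ExalTriv.ell_s X (sR s) hs c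

lemma ellX_add (e e' : X.CharCarrier A) : ellX s hs (e + e') = ellX s hs e + ellX s hs e' :=
  ExalTriv.ell_add X (sR s) hs e e'

lemma ellX_mul (e e' : X.CharCarrier A) :
    ellX s hs (e * e') = e • ellX s hs e' + e' • ellX s hs e :=
  ExalTriv.ell_mul X (sR s) hs e e'

lemma proj_algebraMap (a : A) : X.proj (algebraMap A (X.CharCarrier A) a) = algebraMap A C a :=
  (IsScalarTower.algebraMap_apply A (X.CharCarrier A) C a).symm

lemma ellX_algebraMap (a : A) : ellX s hs (algebraMap A (X.CharCarrier A) a) = 0 := by
  apply X.isExtension.incl_injective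
  rw [incl_ellX, proj_algebraMap, AlgHom.commutes, sub_self]
  exact (map_zero X.incl).symm

/-- the derivation `E → L` attached to the section -/
noncomputable def ellDer : Derivation A (X.CharCarrier A) (LX A X) :=
  Derivation.mk'
    { toFun := ellX s hs
      map_add' := ellX_add s hs
      map_smul' := fun a e => by
        rw [Algebra.smul_def, ellX_mul, ellX_algebraMap, smul_zero, add_zero, RingHom.id_apply,
          algebraMap_smul] }
    (ellX_mul s hs)

/-- the retraction of `deltaL` attached to the section -/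
noncomputable def rho : C ⊗[X.CharCarrier A] Ω[X.CharCarrier A⁄A] →ₗ[C] LX A X :=
  (ellDer s hs).liftKaehlerDifferential.liftBaseChange C

lemma rho_tmul_D (c : C) (e : X.CharCarrier A) :
    rho s hs (c ⊗ₜ KaehlerDifferential.D A (X.CharCarrier A) e) = c • ellX s hs e := by
  rw [rho, LinearMap.liftBaseChange_tmul, Derivation.liftKaehlerDifferential_comp_D]
  rfl

lemma rho_deltaL (z : L) : rho s hs (X.deltaL A z) = z := by
  change rho s hs ((1 : C) ⊗ₜ[X.CharCarrier A]
    KaehlerDifferential.D A (X.CharCarrier A) (X.inclC A z)) = z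
  rw [rho_tmul_D, one_smul]
  exact ellX_incl s hs z

end Section

section DeltaLin

variable {A}

omit [IsScalarTower A B C] in
lemma proj_inclC (z : L) : algebraMap (X.CharCarrier A) C (X.inclC A z) = 0 :=
  (X.isExtension.exact _).2 ⟨z, rfl⟩

lemma deltaL_smul (c : C) (z : L) : X.deltaL A (c • z) = c • X.deltaL A z := by
  obtain ⟨e, rfl⟩ : ∃ e : X.CharCarrier A, X.proj e = c := X.isExtension.proj_surjective c
  have h1 : X.inclC A (X.proj e • z) = e * X.inclC A z :=
    (X.isExtension.mul_incl e z).symm
  change (1 : C) ⊗ₜ[X.CharCarrier A]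
      KaehlerDifferential.D A (X.CharCarrier A) (X.inclC A (X.proj e • z)) =
    X.proj e • ((1 : C) ⊗ₜ[X.CharCarrier A]
      KaehlerDifferential.D A (X.CharCarrier A) (X.inclC A z))
  rw [h1, Derivation.leibniz, TensorProduct.tmul_add, TensorProduct.tmul_smul,
    TensorProduct.tmul_smul]
  have h2 : (X.inclC A z) • (1 : C) = 0 := by
    rw [Algebra.smul_def, proj_inclC, zero_mul]
  have h3 : e • (1 : C) = X.proj e := by
    rw [Algebra.smul_def, mul_one]
    rfl
  rw [TensorProduct.smul_tmul', TensorProduct.smul_tmul', h2, TensorProduct.zero_tmul,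
    add_zero, h3, TensorProduct.smul_tmul', smul_eq_mul, mul_one]

/-- `deltaL` as a `C`-linear map -/
noncomputable def deltaLin : LX A X →ₗ[C] C ⊗[X.CharCarrier A] Ω[X.CharCarrier A⁄A] where
  toFun := fun z => X.deltaL A (show L from z)
  map_add' := fun z z' => map_add (X.deltaL A) (show L from z) (show L from z')
  map_smul' := fun c z => deltaL_smul X c (show L from z)

end DeltaLin

section Sigma

variable {A X}
variable (s : C →ₐ[A] X.CharCarrier A) (hs : ∀ c, X.proj (s c) = c)

include hs in
lemma s_smul_one (c : C) : (s c) • (1 : C) = c := by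
  rw [Algebra.smul_def, mul_one]
  exact hs c

/-- the derivation `C → C ⊗_E Ω_{E/A}`, `c ↦ 1 ⊗ d(s c)` -/
noncomputable def sigmaDer : Derivation A C (C ⊗[X.CharCarrier A] Ω[X.CharCarrier A⁄A]) :=
  Derivation.mk'
    { toFun := fun c => (1 : C) ⊗ₜ[X.CharCarrier A] KaehlerDifferential.D A (X.CharCarrier A) (s c)
      map_add' := fun c c' => by rw [map_add, map_add, TensorProduct.tmul_add]
      map_smul' := fun a c => by
        rw [map_smul, Derivation.map_smul, RingHom.id_apply, TensorProduct.tmul_smul] }
    (fun c c' => by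
      change (1 : C) ⊗ₜ[X.CharCarrier A] KaehlerDifferential.D A (X.CharCarrier A) (s (c * c')) =
        c • ((1 : C) ⊗ₜ[X.CharCarrier A] KaehlerDifferential.D A (X.CharCarrier A) (s c')) +
        c' • ((1 : C) ⊗ₜ[X.CharCarrier A] KaehlerDifferential.D A (X.CharCarrier A) (s c))
      rw [map_mul, Derivation.leibniz, TensorProduct.tmul_add, TensorProduct.tmul_smul,
        TensorProduct.tmul_smul, TensorProduct.smul_tmul', TensorProduct.smul_tmul',
        s_smul_one s hs, s_smul_one s hs, TensorProduct.smul_tmul', TensorProduct.smul_tmul',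
        smul_eq_mul, smul_eq_mul, mul_one, mul_one])

/-- the splitting `Ω_{C/A} → C ⊗_E Ω_{E/A}` -/
noncomputable def sigma : Ω[C⁄A] →ₗ[C] C ⊗[X.CharCarrier A] Ω[X.CharCarrier A⁄A] :=
  (sigmaDer s hs).liftKaehlerDifferential

lemma sigma_D (c : C) : sigma s hs (KaehlerDifferential.D A C c) =
    (1 : C) ⊗ₜ[X.CharCarrier A] KaehlerDifferential.D A (X.CharCarrier A) (s c) := by
  rw [sigma, Derivation.liftKaehlerDifferential_comp_D]
  rfl

lemma deltaLin_ellX (e : X.CharCarrier A) :
    deltaLin X (ellX s hs e) = (1 : C) ⊗ₜ[X.CharCarrier A]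
      (KaehlerDifferential.D A (X.CharCarrier A) e -
        KaehlerDifferential.D A (X.CharCarrier A) (s (X.proj e))) := by
  change (1 : C) ⊗ₜ[X.CharCarrier A]
    KaehlerDifferential.D A (X.CharCarrier A) (X.inclC A (ellX s hs e)) = _
  have : X.inclC A (ellX s hs e) = e - s (X.proj e) := incl_ellX s hs e
  rw [this, map_sub]

lemma decomp_tmul (c : C) (ω : Ω[X.CharCarrier A⁄A]) :
    deltaLin X (rho s hs (c ⊗ₜ ω)) +
      sigma s hs (KaehlerDifferential.mapBaseChange A (X.CharCarrier A) C (c ⊗ₜ ω)) = c ⊗ₜ ω := by
  have hω : ω ∈ Submodule.span (X.CharCarrier A)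
      (Set.range (KaehlerDifferential.D A (X.CharCarrier A))) := by
    rw [KaehlerDifferential.span_range_derivation]; trivial
  induction hω using Submodule.span_induction generalizing c with
  | mem ω h =>
    obtain ⟨e, rfl⟩ := h
    rw [rho_tmul_D, map_smul, deltaLin_ellX, KaehlerDifferential.mapBaseChange_tmul,
      KaehlerDifferential.map_D, map_smul, sigma_D, ← smul_add, ← TensorProduct.tmul_add]
    have : algebraMap (X.CharCarrier A) C e = X.proj e := rfl
    rw [this, sub_add_cancel, TensorProduct.smul_tmul', smul_eq_mul, mul_one]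
  | zero => simp
  | add ω ω' _ _ h h' =>
    rw [TensorProduct.tmul_add, map_add, map_add, map_add, map_add, add_add_add_comm, h c, h' c]
  | smul e ω _ h =>
    rw [← TensorProduct.smul_tmul]
    exact h (e • c)

lemma decomp (w : C ⊗[X.CharCarrier A] Ω[X.CharCarrier A⁄A]) :
    deltaLin X (rho s hs w) +
      sigma s hs (KaehlerDifferential.mapBaseChange A (X.CharCarrier A) C w) = w := by
  induction w using TensorProduct.induction_on with
  | zero => simp
  | tmul c ω => exact decomp_tmul s hs c ω
  | add w w' h h' =>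
    rw [map_add, map_add, map_add, map_add, add_add_add_comm, h, h']

end Sigma

section BCTM

variable {A}

lemma bCTM_tmul (c : C) (ω : Ω[B⁄A]) : X.baseChangeToMiddle A (c ⊗ₜ ω) =
    c ⊗ₜ[X.CharCarrier A] KaehlerDifferential.map A A B (X.CharCarrier A) ω := rfl

lemma map_map (ω : Ω[B⁄A]) :
    KaehlerDifferential.map A A (X.CharCarrier A) C
      (KaehlerDifferential.map A A B (X.CharCarrier A) ω) = KaehlerDifferential.map A A B C ω := by
  have hω : ω ∈ Submodule.span B (Set.range (KaehlerDifferential.D A B)) := by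
    rw [KaehlerDifferential.span_range_derivation]; trivial
  induction hω using Submodule.span_induction with
  | mem ω h =>
    obtain ⟨b, rfl⟩ := h
    rw [KaehlerDifferential.map_D, KaehlerDifferential.map_D, KaehlerDifferential.map_D,
      ← IsScalarTower.algebraMap_apply]
  | zero => simp
  | add ω ω' _ _ h h' => rw [map_add, map_add, map_add, h, h']
  | smul b ω _ h =>
    have e1 : KaehlerDifferential.map A A B (X.CharCarrier A) (b • ω) =
        b • KaehlerDifferential.map A A B (X.CharCarrier A) ω := map_smul _ _ _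
    have e2 : KaehlerDifferential.map A A (X.CharCarrier A) C
        (b • KaehlerDifferential.map A A B (X.CharCarrier A) ω) =
        b • KaehlerDifferential.map A A (X.CharCarrier A) C
          (KaehlerDifferential.map A A B (X.CharCarrier A) ω) := by
      rw [← IsScalarTower.algebraMap_smul (X.CharCarrier A) b
        (KaehlerDifferential.map A A B (X.CharCarrier A) ω), map_smul,
        IsScalarTower.algebraMap_smul]
    rw [e1, e2, h, map_smul]

lemma mapBaseChange_bCTM (z : C ⊗[B] Ω[B⁄A]) :
    KaehlerDifferential.mapBaseChange A (X.CharCarrier A) C (X.baseChangeToMiddle A z) =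
      KaehlerDifferential.mapBaseChange A B C z := by
  induction z using TensorProduct.induction_on with
  | zero => simp
  | tmul c ω =>
    rw [bCTM_tmul, KaehlerDifferential.mapBaseChange_tmul, KaehlerDifferential.mapBaseChange_tmul,
      map_map]
  | add z z' h h' => rw [map_add, map_add, map_add, h, h']

lemma bCTM_smul (c : C) (z : C ⊗[B] Ω[B⁄A]) :
    X.baseChangeToMiddle A (c • z) = c • X.baseChangeToMiddle A z := by
  induction z using TensorProduct.induction_on with
  | zero => simp
  | tmul c' ω =>
    rw [TensorProduct.smul_tmul', bCTM_tmul, bCTM_tmul, TensorProduct.smul_tmul']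
  | add z z' h h' => rw [smul_add, map_add, map_add, h, h', smul_add]

end BCTM

section Main

variable {A X}
variable (s : C →ₐ[A] X.CharCarrier A) (hs : ∀ c, X.proj (s c) = c)

/-- the explicit characteristic map on all of `C ⊗_B Ω_{B/A}` -/
noncomputable def chiTilde : C ⊗[B] Ω[B⁄A] →ₗ[C] LX A X where
  toFun z := rho s hs (X.baseChangeToMiddle A z)
  map_add' z z' := by rw [map_add, map_add]
  map_smul' c z := by rw [bCTM_smul, map_smul, RingHom.id_apply]

lemma chiTilde_tmul_D (c : C) (b : B) :
    chiTilde s hs (c ⊗ₜ KaehlerDifferential.D A B b) =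
      c • ellX s hs (algebraMap B (X.CharCarrier A) b) := by
  change rho s hs (X.baseChangeToMiddle A (c ⊗ₜ KaehlerDifferential.D A B b)) = _
  rw [bCTM_tmul, KaehlerDifferential.map_D, rho_tmul_D]

lemma deltaL_chiTilde (z : C ⊗[B] Ω[B⁄A]) (hz : KaehlerDifferential.mapBaseChange A B C z = 0) :
    X.deltaL A (show L from chiTilde s hs z) = X.baseChangeToMiddle A z := by
  have h := decomp s hs (X.baseChangeToMiddle A z)
  rw [mapBaseChange_bCTM, hz, map_zero, add_zero] at h
  exact h

theorem isCharHom_iff (χ : EGA41.imperfection A B C →ₗ[C] L) :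
    X.IsCharHom A χ ↔ ∀ z : EGA41.imperfection A B C,
      χ z = (show L from chiTilde s hs (z : C ⊗[B] Ω[B⁄A])) := by
  constructor
  · intro h z
    have h1 := h z
    have h2 := congrArg (rho s hs) h1
    rw [rho_deltaL] at h2
    exact h2
  · intro h z
    rw [h z]
    exact deltaL_chiTilde s hs (z : C ⊗[B] Ω[B⁄A]) z.2

/-- the characteristic homomorphism attached to the section -/
noncomputable def chi : EGA41.imperfection A B C →ₗ[C] L :=
  (show C ⊗[B] Ω[B⁄A] →ₗ[C] L from chiTilde s hs).comp (EGA41.imperfection A B C).subtype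

theorem chi_isCharHom : X.IsCharHom A (chi s hs) :=
  (isCharHom_iff s hs _).2 (fun _ => rfl)

include s hs in
theorem existsUnique_isCharHom : ∃! χ : EGA41.imperfection A B C →ₗ[C] L, X.IsCharHom A χ := by
  refine ⟨chi s hs, chi_isCharHom s hs, fun χ hχ => ?_⟩
  apply LinearMap.ext
  intro z
  rw [(isCharHom_iff s hs χ).1 hχ z]
  rfl

end Main

section Trivial

variable {A X}

theorem exists_section_of_isTrivialOver (hX : X.IsTrivialOver A) :
    ∃ s : C →ₐ[A] X.CharCarrier A, ∀ c, X.proj (s c) = c := by
  obtain ⟨σ, hσ⟩ := hX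
  exact ⟨{ toFun := fun c => σ c
           map_one' := map_one σ
           map_mul' := map_mul σ
           map_zero' := map_zero σ
           map_add' := map_add σ
           commutes' := fun a => σ.commutes a }, hσ⟩

theorem isTrivialOver_of_section (s : C →ₐ[A] X.CharCarrier A) (hs : ∀ c, X.proj (s c) = c) :
    X.IsTrivialOver A :=
  ⟨{ toFun := fun c => s c
     map_one' := map_one s
     map_mul' := map_mul s
     map_zero' := map_zero s
     map_add' := map_add s
     commutes' := fun a => s.commutes a }, hs⟩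

theorem existsUnique_isCharHom_of_isTrivialOver (hX : X.IsTrivialOver A) :
    ∃! χ : EGA41.imperfection A B C →ₗ[C] L, X.IsCharHom A χ := by
  obtain ⟨s, hs⟩ := exists_section_of_isTrivialOver hX
  exact existsUnique_isCharHom s hs

end Trivial

section Ext

variable {A}

/-- two `C`-linear maps out of `C ⊗_B Ω_{B/A}` agreeing on the `1 ⊗ db` are equal -/
theorem ext_tensor_kaehler {M : Type*} [AddCommGroup M] [Module C M]
    {f g : C ⊗[B] Ω[B⁄A] →ₗ[C] M}
    (h : ∀ b : B, f ((1 : C) ⊗ₜ KaehlerDifferential.D A B b) =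
      g ((1 : C) ⊗ₜ KaehlerDifferential.D A B b)) : f = g := by
  have key : ∀ (ω : Ω[B⁄A]) (c : C), f (c ⊗ₜ ω) = g (c ⊗ₜ ω) := by
    intro ω
    have hω : ω ∈ Submodule.span B (Set.range (KaehlerDifferential.D A B)) := by
      rw [KaehlerDifferential.span_range_derivation]; trivial
    induction hω using Submodule.span_induction with
    | mem ω hm =>
      obtain ⟨b, rfl⟩ := hm
      intro c
      have : c ⊗ₜ[B] KaehlerDifferential.D A B b = c • ((1 : C) ⊗ₜ[B] KaehlerDifferential.D A B b) := by
        rw [TensorProduct.smul_tmul', smul_eq_mul, mul_one]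
      rw [this, map_smul, map_smul, h]
    | zero => intro c; simp
    | add ω ω' _ _ h1 h2 => intro c; rw [TensorProduct.tmul_add, map_add, map_add, h1, h2]
    | smul b ω _ h1 =>
      intro c
      rw [← TensorProduct.smul_tmul]
      exact h1 (b • c)
  apply LinearMap.ext
  intro z
  induction z using TensorProduct.induction_on with
  | zero => simp
  | tmul c ω => exact key ω c
  | add z z' h1 h2 => rw [map_add, map_add, h1, h2]

end Ext

section OfLinear

attribute [local instance] Exal.opModule Exal.isCentralScalar_opModule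

variable {A}
variable (φ : C ⊗[B] Ω[B⁄A] →ₗ[C] L)

/-- the derivation-like map `B → L` attached to `φ` -/
noncomputable def dFun (b : B) : L := φ ((1 : C) ⊗ₜ KaehlerDifferential.D A B b)

lemma dFun_add (b b' : B) : dFun φ (b + b') = dFun φ b + dFun φ b' := by
  rw [dFun, map_add, TensorProduct.tmul_add, map_add]; rfl

lemma dFun_zero : dFun φ 0 = 0 := by
  rw [dFun, map_zero, TensorProduct.tmul_zero, map_zero]

lemma dFun_one : dFun φ 1 = 0 := by
  rw [dFun, Derivation.map_one_eq_zero, TensorProduct.tmul_zero, map_zero]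

lemma dFun_mul (b b' : B) :
    dFun φ (b * b') = algebraMap B C b • dFun φ b' + algebraMap B C b' • dFun φ b := by
  have h : ∀ x y : B, (1 : C) ⊗ₜ[B] (x • KaehlerDifferential.D A B y) =
      algebraMap B C x • ((1 : C) ⊗ₜ[B] KaehlerDifferential.D A B y) := by
    intro x y
    rw [← TensorProduct.smul_tmul, TensorProduct.smul_tmul', Algebra.smul_def, mul_one,
      smul_eq_mul, mul_one]
  rw [dFun, Derivation.leibniz, TensorProduct.tmul_add, map_add, h, h, map_smul, map_smul]
  rfl

lemma dFun_algebraMap (a : A) : dFun φ (algebraMap A B a) = 0 := by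
  rw [dFun, Derivation.map_algebraMap, TensorProduct.tmul_zero, map_zero]

/-- the ring map `B → C ⊕ L`, `b ↦ (b, φ(1 ⊗ db))` -/
noncomputable def dHom : B →+* TrivSqZeroExt C L where
  toFun b := TrivSqZeroExt.inl (algebraMap B C b) + TrivSqZeroExt.inr (dFun φ b)
  map_one' := by
    rw [map_one, dFun_one, TrivSqZeroExt.inr_zero, add_zero, TrivSqZeroExt.inl_one]
  map_mul' b b' := by
    apply TrivSqZeroExt.ext
    · simp
    · simp only [TrivSqZeroExt.snd_add, TrivSqZeroExt.snd_inl, TrivSqZeroExt.snd_inr, zero_add,
        TrivSqZeroExt.snd_mul, TrivSqZeroExt.fst_add, TrivSqZeroExt.fst_inl, TrivSqZeroExt.fst_inr,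
        add_zero, dFun_mul, op_smul_eq_smul]
  map_zero' := by
    rw [map_zero, dFun_zero, TrivSqZeroExt.inl_zero, TrivSqZeroExt.inr_zero, add_zero]
  map_add' b b' := by
    rw [map_add, dFun_add, TrivSqZeroExt.inl_add, TrivSqZeroExt.inr_add]
    abel

lemma dHom_apply (b : B) : dHom φ b =
    TrivSqZeroExt.inl (algebraMap B C b) + TrivSqZeroExt.inr (dFun φ b) := rfl

/-- carrier of the extension attached to `φ` -/
@[nolint unusedArguments]
def OCarrier (_φ : C ⊗[B] Ω[B⁄A] →ₗ[C] L) : Type v := TrivSqZeroExt C L

instance : CommRing (OCarrier φ) := inferInstanceAs (CommRing (TrivSqZeroExt C L))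

noncomputable instance : Algebra B (OCarrier φ) :=
  (dHom φ : B →+* OCarrier φ).toAlgebra

lemma algebraMap_O (b : B) : algebraMap B (OCarrier φ) b = dHom φ b := rfl

/-- the extension of `C` by `L` attached to `φ` -/
noncomputable def ofLin : Ext B C L where
  E := OCarrier φ
  proj :=
    { toFun := fun x => TrivSqZeroExt.fst x
      map_one' := TrivSqZeroExt.fst_one
      map_mul' := TrivSqZeroExt.fst_mul
      map_zero' := TrivSqZeroExt.fst_zero
      map_add' := TrivSqZeroExt.fst_add
      commutes' := fun b => by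
        rw [algebraMap_O, dHom_apply]
        rw [TrivSqZeroExt.fst_add, TrivSqZeroExt.fst_inl, TrivSqZeroExt.fst_inr, add_zero] }
  incl := (TrivSqZeroExt.inrHom C L).toAddMonoidHom
  isExtension :=
    { proj_surjective := fun c => ⟨TrivSqZeroExt.inl c, rfl⟩
      incl_injective := TrivSqZeroExt.inr_injective
      exact := fun x => by
        constructor
        · intro hx
          exact ⟨TrivSqZeroExt.snd x, TrivSqZeroExt.ext hx.symm rfl⟩
        · rintro ⟨z, rfl⟩
          rfl
      mul_incl := fun x z => by
        refine TrivSqZeroExt.ext ?_ ?_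
        · change TrivSqZeroExt.fst x * 0 = 0
          exact mul_zero _
        · change TrivSqZeroExt.fst x • z + MulOpposite.op (0 : C) • TrivSqZeroExt.snd x =
            TrivSqZeroExt.fst x • z
          rw [MulOpposite.op_zero, zero_smul, add_zero] }

/-- the canonical `A`-section of `ofLin φ` -/
noncomputable def ofLinSection : C →ₐ[A] (ofLin φ).CharCarrier A where
  toFun c := (TrivSqZeroExt.inl c : TrivSqZeroExt C L)
  map_one' := TrivSqZeroExt.inl_one _
  map_mul' := fun a b => TrivSqZeroExt.inl_mul _ a b
  map_zero' := TrivSqZeroExt.inl_zero _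
  map_add' := fun a b => TrivSqZeroExt.inl_add _ a b
  commutes' := fun a => by
    change (TrivSqZeroExt.inl (algebraMap A C a) : TrivSqZeroExt C L) =
      dHom φ (algebraMap A B a)
    rw [dHom_apply, dFun_algebraMap, TrivSqZeroExt.inr_zero, add_zero,
      ← IsScalarTower.algebraMap_apply]

lemma ofLinSection_proj (c : C) : (ofLin φ).proj (ofLinSection φ c) = c := rfl

lemma ellX_ofLin (b : B) :
    ellX (ofLinSection φ) (ofLinSection_proj φ)
      (algebraMap B ((ofLin φ).CharCarrier A) b) = dFun φ b := by
  apply (ofLin φ).isExtension.incl_injective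
  rw [incl_ellX]
  change dHom φ b - (TrivSqZeroExt.inl (TrivSqZeroExt.fst (dHom φ b)) : TrivSqZeroExt C L) =
    TrivSqZeroExt.inr (dFun φ b)
  rw [dHom_apply, TrivSqZeroExt.fst_add, TrivSqZeroExt.fst_inl, TrivSqZeroExt.fst_inr, add_zero,
    add_sub_cancel_left]

theorem chiTilde_ofLin :
    (show C ⊗[B] Ω[B⁄A] →ₗ[C] L from chiTilde (ofLinSection φ) (ofLinSection_proj φ)) = φ := by
  apply ext_tensor_kaehler
  intro b
  change chiTilde (ofLinSection φ) (ofLinSection_proj φ) ((1 : C) ⊗ₜ KaehlerDifferential.D A B b) = _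
  rw [chiTilde_tmul_D, one_smul, ellX_ofLin]
  rfl

theorem ofLin_isTrivialOver : (ofLin φ).IsTrivialOver A :=
  isTrivialOver_of_section (ofLinSection φ) (ofLinSection_proj φ)

theorem ofLin_isCharHom (χ : EGA41.imperfection A B C →ₗ[C] L)
    (hχ : ∀ z : EGA41.imperfection A B C, χ z = φ (z : C ⊗[B] Ω[B⁄A])) :
    (ofLin φ).IsCharHom A χ := by
  rw [isCharHom_iff (ofLinSection φ) (ofLinSection_proj φ)]
  intro z
  rw [hχ z]
  exact (LinearMap.congr_fun (chiTilde_ofLin φ) (z : C ⊗[B] Ω[B⁄A])).symm

end OfLinear

end Groth.Agent.Lib.Helper5.ExalChar
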