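import Groth.Agent.Lib.Helper5.ExalTriv

set_option autoImplicit false
universe u v

namespace Groth.Agent.Lib.Helper5.ExalShear

open Exal Exal.Ext
open Groth.Agent.Lib.Helper5.ExalTriv

variable {B : Type u} {C L : Type v} [CommRing B] [CommRing C] [Algebra B C]
  [AddCommGroup L] [Module C L]

section Std

variable (Y : Ext B C L) (s : C →+* Y.E) (hs : ∀ c, Y.proj (s c) = c)

lemma std (e : Y.E) : e = s (Y.proj e) + Y.incl (ell Y s hs e) := by
  rw [incl_ell]; ring

include hs in
lemma proj_std (c : C) (m : L) : Y.proj (s c + Y.incl m) = c := by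
  rw [map_add, hs, proj_incl, add_zero]

lemma ell_std (c : C) (m : L) : ell Y s hs (s c + Y.incl m) = m := by
  rw [ell_add, ell_s, ell_incl, zero_add]

include hs in
lemma mul_std (c c' : C) (m m' : L) :
    (s c + Y.incl m) * (s c' + Y.incl m') = s (c * c') + Y.incl (c • m' + c' • m) := by
  have h1 : s c * Y.incl m' = Y.incl (c • m') := by rw [Y.isExtension.mul_incl, hs]
  have h2 : Y.incl m * s c' = Y.incl (c' • m) := by rw [mul_comm, Y.isExtension.mul_incl, hs]
  have h3 : Y.incl m * Y.incl m' = 0 := by
    rw [Y.isExtension.mul_incl, proj_incl, zero_smul, map_zero]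
  rw [add_mul, mul_add, mul_add, h1, h2, h3, map_mul, map_add]
  abel

end Std

section Shear

variable (X Y : Ext B C L) (sX : C →+* X.E) (hsX : ∀ c, X.proj (sX c) = c)
  (sY : C →+* Y.E) (hsY : ∀ c, Y.proj (sY c) = c)
  (d : C →+ L) (hd : ∀ c c' : C, d (c * c') = c • d c' + c' • d c)

/-- the comparison map -/
noncomputable def shearFun (e : X.E) : Y.E :=
  sY (X.proj e) + Y.incl (ell X sX hsX e - d (X.proj e))

include hsY in
lemma proj_shearFun (e : X.E) : Y.proj (shearFun X Y sX hsX sY d e) = X.proj e :=
  proj_std Y sY hsY _ _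

lemma ell_shearFun (e : X.E) :
    ell Y sY hsY (shearFun X Y sX hsX sY d e) = ell X sX hsX e - d (X.proj e) :=
  ell_std Y sY hsY _ _

include hd in
lemma d_one : d 1 = 0 := by
  have := hd 1 1
  rw [mul_one, one_smul] at this
  exact (add_eq_left (a := d 1)).1 this.symm

include hsY hd in
lemma shearFun_mul (e e' : X.E) :
    shearFun X Y sX hsX sY d (e * e') =
      shearFun X Y sX hsX sY d e * shearFun X Y sX hsX sY d e' := by
  unfold shearFun
  rw [mul_std Y sY hsY, map_mul, ell_mul, hd, smul_sub, smul_sub]
  congr 2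
  abel

lemma shearFun_add (e e' : X.E) :
    shearFun X Y sX hsX sY d (e + e') =
      shearFun X Y sX hsX sY d e + shearFun X Y sX hsX sY d e' := by
  unfold shearFun
  rw [map_add, map_add, ell_add, map_add, add_sub_add_comm, map_add]
  abel

include hd in
lemma shearFun_one : shearFun X Y sX hsX sY d 1 = 1 := by
  unfold shearFun
  rw [map_one, map_one, ell_one, d_one d hd, sub_zero, map_zero, add_zero]

lemma shearFun_zero : shearFun X Y sX hsX sY d 0 = 0 := by
  unfold shearFun
  rw [map_zero, map_zero, ell_zero, map_zero, sub_zero, map_zero, add_zero]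

lemma shearFun_incl (z : L) : shearFun X Y sX hsX sY d (X.incl z) = Y.incl z := by
  unfold shearFun
  rw [proj_incl, map_zero, map_zero, ell_incl, sub_zero, zero_add]

include hsY in
lemma shearFun_algebraMap
    (hB : ∀ b : B, ell X sX hsX (algebraMap B X.E b) =
      ell Y sY hsY (algebraMap B Y.E b) + d (algebraMap B C b)) (b : B) :
    shearFun X Y sX hsX sY d (algebraMap B X.E b) = algebraMap B Y.E b := by
  unfold shearFun
  rw [X.proj.commutes, hB, add_sub_cancel_right]
  conv_rhs => rw [std Y sY hsY (algebraMap B Y.E b), Y.proj.commutes]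

include hsY in
lemma shearFun_leftInv (e : X.E) :
    shearFun Y X sY hsY sX (-d) (shearFun X Y sX hsX sY d e) = e := by
  have h1 := proj_shearFun X Y sX hsX sY hsY d e
  have h2 := ell_shearFun X Y sX hsX sY hsY d e
  rw [shearFun, h1, h2, AddMonoidHom.neg_apply, sub_neg_eq_add, sub_add_cancel]
  exact (std X sX hsX e).symm

/-- the equivalence of extensions produced by a shear -/
noncomputable def shearEquiv
    (hB : ∀ b : B, ell X sX hsX (algebraMap B X.E b) =
      ell Y sY hsY (algebraMap B Y.E b) + d (algebraMap B C b)) : X.Equiv Y where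
  toAlgEquiv :=
    { toFun := shearFun X Y sX hsX sY d
      invFun := shearFun Y X sY hsY sX (-d)
      left_inv := shearFun_leftInv X Y sX hsX sY hsY d
      right_inv := fun e => by
        have := shearFun_leftInv Y X sY hsY sX hsX (-d) e
        rwa [neg_neg] at this
      map_mul' := shearFun_mul X Y sX hsX sY hsY d hd
      map_add' := shearFun_add X Y sX hsX sY d
      commutes' := shearFun_algebraMap X Y sX hsX sY hsY d hB }
  proj_apply := proj_shearFun X Y sX hsX sY hsY d
  apply_incl := shearFun_incl X Y sX hsX sY d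

end Shear

end Groth.Agent.Lib.Helper5.ExalShear
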