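import Groth.Agent.Lib.Helper5.ExalChar
import Groth.Agent.Lib.Helper5.ExalShear

set_option autoImplicit false
universe u v

namespace Groth.Agent.Lib.Helper5.ExalChar

open Exal Exal.Ext TensorProduct KaehlerDifferential
open Groth.Agent.Lib.Helper5

variable {A : Type u} {B C L : Type v} [CommRing A] [CommRing B] [CommRing C] [Algebra A B]
  [Algebra B C] [Algebra A C] [IsScalarTower A B C] [AddCommGroup L] [Module C L]

section Equiv

variable {X Y : Ext B C L}
variable (sX : C →ₐ[A] X.CharCarrier A) (hsX : ∀ c, X.proj (sX c) = c)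
variable (sY : C →ₐ[A] Y.CharCarrier A) (hsY : ∀ c, Y.proj (sY c) = c)

/-- the additive map `C → L` attached to a linear form on `Ω_{C/A}` -/
noncomputable def dOf (Δ : Ω[C⁄A] →ₗ[C] L) : C →+ L where
  toFun c := Δ (KaehlerDifferential.D A C c)
  map_zero' := by rw [map_zero, map_zero]
  map_add' c c' := by rw [map_add, map_add]

lemma dOf_mul (Δ : Ω[C⁄A] →ₗ[C] L) (c c' : C) :
    dOf Δ (c * c') = c • dOf Δ c' + c' • dOf Δ c := by
  change Δ (KaehlerDifferential.D A C (c * c')) = _
  rw [Derivation.leibniz, map_add, map_smul, map_smul]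
  rfl

theorem nonempty_equiv_of_chiTilde_eq_add (Δ : Ω[C⁄A] →ₗ[C] L)
    (h : ∀ z : C ⊗[B] Ω[B⁄A], (show L from chiTilde sX hsX z) =
      (show L from chiTilde sY hsY z) + Δ (KaehlerDifferential.mapBaseChange A B C z)) :
    Nonempty (X.Equiv Y) := by
  refine ⟨ExalShear.shearEquiv X Y (sR sX) hsX (sR sY) hsY (dOf Δ) (dOf_mul Δ) ?_⟩
  intro b
  have hb := h ((1 : C) ⊗ₜ KaehlerDifferential.D A B b)
  rw [chiTilde_tmul_D, chiTilde_tmul_D, KaehlerDifferential.mapBaseChange_tmul, one_smul,
    KaehlerDifferential.map_D] at hb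
  simp only [one_smul] at hb
  exact hb

end Equiv

end Groth.Agent.Lib.Helper5.ExalChar
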