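import Groth.Agent.Lib.Helper5.ExalChar

set_option autoImplicit false
universe u v

namespace Groth.Agent.Lib.Helper5.ExalInf

open Exal Exal.Ext TensorProduct KaehlerDifferential
open Groth.Agent.Lib.Helper5 Groth.Agent.Lib.Helper5.ExalChar

variable {A : Type u} {B : Type v} [CommRing A] [CommRing B] [Algebra A B] (K : Ideal B)

/-- `1 ⊗ dy` vanishes in `(B/K) ⊗_B Ω_{B/A}` for `y ∈ K²` -/
lemma one_tmul_D_eq_zero_of_mem_sq {y : B} (hy : y ∈ K ^ 2) :
    (1 : B ⧸ K) ⊗ₜ[B] KaehlerDifferential.D A B y = 0 := by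
  rw [pow_two] at hy
  induction hy using Submodule.mul_induction_on' with
  | mem_mul_mem a ha b hb =>
    have h0 : ∀ x ∈ K, ∀ ω : Ω[B⁄A], (1 : B ⧸ K) ⊗ₜ[B] (x • ω) = 0 := by
      intro x hx ω
      rw [← TensorProduct.smul_tmul, Algebra.smul_def, mul_one, Ideal.Quotient.algebraMap_eq,
        Ideal.Quotient.eq_zero_iff_mem.2 hx, TensorProduct.zero_tmul]
    rw [Derivation.leibniz, TensorProduct.tmul_add, h0 a ha, h0 b hb, add_zero]
  | add x _ y _ hx hy => rw [map_add, TensorProduct.tmul_add, hx, hy, add_zero]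

/-- `1 ⊗ dy` lies in the imperfection module for `y ∈ K` -/
lemma one_tmul_D_mem {y : B} (hy : y ∈ K) :
    (1 : B ⧸ K) ⊗ₜ[B] KaehlerDifferential.D A B y ∈ EGA41.imperfection A B (B ⧸ K) := by
  change KaehlerDifferential.mapBaseChange A B (B ⧸ K) _ = 0
  rw [KaehlerDifferential.mapBaseChange_tmul, KaehlerDifferential.map_D,
    Ideal.Quotient.algebraMap_eq, Ideal.Quotient.eq_zero_iff_mem.2 hy, map_zero, smul_zero]

/-- every element of the imperfection module of a quotient is `1 ⊗ dy` with `y ∈ K` -/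
lemma exists_eq_one_tmul_D (z : EGA41.imperfection A B (B ⧸ K)) :
    ∃ y ∈ K, (z : (B ⧸ K) ⊗[B] Ω[B⁄A]) = (1 : B ⧸ K) ⊗ₜ[B] KaehlerDifferential.D A B y := by
  have hsurj : Function.Surjective (algebraMap B (B ⧸ K)) := Ideal.Quotient.mk_surjective
  have hz : (z : (B ⧸ K) ⊗[B] Ω[B⁄A]) ∈
      (LinearMap.ker (KaehlerDifferential.mapBaseChange A B (B ⧸ K))).restrictScalars B := z.2
  rw [← KaehlerDifferential.range_kerCotangentToTensor A B (B ⧸ K) hsurj] at hz
  obtain ⟨w, hw⟩ := hz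
  obtain ⟨y, rfl⟩ := Ideal.toCotangent_surjective _ w
  refine ⟨y.1, ?_, ?_⟩
  · have := y.2
    rw [RingHom.mem_ker] at this
    exact Ideal.Quotient.eq_zero_iff_mem.1 this
  · rw [← hw, KaehlerDifferential.kerCotangentToTensor_toCotangent]

section Section

variable {K}
variable (s : (B ⧸ K) →ₐ[A] (infinitesimal K).CharCarrier A)
  (hs : ∀ c, (infinitesimal K).proj (s c) = c)

lemma ellX_algebraMap_of_mem {y : B} (hy : y ∈ K) :
    ellX s hs (algebraMap B ((infinitesimal K).CharCarrier A) y) = K.toCotangent ⟨y, hy⟩ := by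
  apply (infinitesimal K).isExtension.incl_injective
  rw [incl_ellX]
  have h0 : (infinitesimal K).proj (algebraMap B ((infinitesimal K).CharCarrier A) y) = 0 := by
    have := (infinitesimal K).proj.commutes y
    rw [Ideal.Quotient.algebraMap_eq, Ideal.Quotient.eq_zero_iff_mem.2 hy] at this
    exact this
  rw [h0, map_zero, sub_zero]
  exact (Ideal.toCotangent_to_quotient_square K ⟨y, hy⟩).symm

lemma chiTilde_one_tmul_D {y : B} (hy : y ∈ K) :
    (show K.Cotangent from chiTilde s hs ((1 : B ⧸ K) ⊗ₜ[B] KaehlerDifferential.D A B y)) =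
      K.toCotangent ⟨y, hy⟩ := by
  have := chiTilde_tmul_D s hs (1 : B ⧸ K) y
  rw [one_smul, ellX_algebraMap_of_mem s hs hy] at this
  exact this

include s hs in
theorem bijective_of_isCharHom
    (χ : EGA41.imperfection A B (B ⧸ K) →ₗ[B ⧸ K] K.Cotangent)
    (hχ : (infinitesimal K).IsCharHom A χ) : Function.Bijective χ := by
  rw [isCharHom_iff s hs] at hχ
  constructor
  · rw [injective_iff_map_eq_zero]
    intro z hz
    obtain ⟨y, hy, hzy⟩ := exists_eq_one_tmul_D K z
    have h1 := hχ z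
    rw [hz, hzy, chiTilde_one_tmul_D s hs hy] at h1
    have h2 : y ∈ K ^ 2 := (Ideal.toCotangent_eq_zero K ⟨y, hy⟩).1 h1.symm
    apply Subtype.ext
    rw [hzy, one_tmul_D_eq_zero_of_mem_sq K h2]
    rfl
  · intro l
    obtain ⟨⟨y, hy⟩, rfl⟩ := Ideal.toCotangent_surjective K l
    refine ⟨⟨_, one_tmul_D_mem K hy⟩, ?_⟩
    rw [hχ]
    exact chiTilde_one_tmul_D s hs hy

end Section

end Groth.Agent.Lib.Helper5.ExalInf
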