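import Groth.Agent.Lib.Helper5.ExalInf

set_option autoImplicit false
universe u v

namespace Groth.Agent.Lib.Helper5.ExalInfRel

open Exal Exal.Ext TensorProduct KaehlerDifferential
open Groth.Agent.Lib.Helper5 Groth.Agent.Lib.Helper5.ExalChar Groth.Agent.Lib.Helper5.ExalInf

variable (Λ : Type u) (A : Type v) {B : Type v} [CommRing Λ] [CommRing A] [CommRing B] [Algebra Λ A]
  [Algebra Λ B] [Algebra A B] [IsScalarTower Λ A B] (K : Ideal B)

/-- the map `C ⊗_A Ω_{A/Λ} → C ⊗_B Ω_{B/Λ}` -/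
noncomputable def img : (B ⧸ K) ⊗[A] Ω[A⁄Λ] →ₗ[B ⧸ K] (B ⧸ K) ⊗[B] Ω[B⁄Λ] :=
  ((KaehlerDifferential.mapBaseChange Λ A B).baseChange (B ⧸ K)).comp
    (TensorProduct.AlgebraTensorModule.cancelBaseChange A B (B ⧸ K) (B ⧸ K) Ω[A⁄Λ]).symm.toLinearMap

lemma img_apply (z : (B ⧸ K) ⊗[A] Ω[A⁄Λ]) :
    img Λ A K z = ((KaehlerDifferential.mapBaseChange Λ A B).baseChange (B ⧸ K))
      ((TensorProduct.AlgebraTensorModule.cancelBaseChange A B (B ⧸ K) (B ⧸ K) Ω[A⁄Λ]).symm z) := rfl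

lemma img_tmul (c : B ⧸ K) (ω : Ω[A⁄Λ]) :
    img Λ A K (c ⊗ₜ ω) = c ⊗ₜ[B] KaehlerDifferential.map Λ Λ A B ω := by
  rw [img_apply, TensorProduct.AlgebraTensorModule.cancelBaseChange_symm_tmul,
    LinearMap.baseChange_tmul, KaehlerDifferential.mapBaseChange_tmul, one_smul]

lemma img_tmul_D (c : B ⧸ K) (a : A) :
    img Λ A K (c ⊗ₜ KaehlerDifferential.D Λ A a) =
      c ⊗ₜ[B] KaehlerDifferential.D Λ B (algebraMap A B a) := by
  rw [img_tmul, KaehlerDifferential.map_D]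

lemma mapBaseChange_img (z : (B ⧸ K) ⊗[A] Ω[A⁄Λ]) :
    KaehlerDifferential.mapBaseChange Λ B (B ⧸ K) (img Λ A K z) =
      KaehlerDifferential.mapBaseChange Λ A (B ⧸ K) z := by
  have : (KaehlerDifferential.mapBaseChange Λ B (B ⧸ K)).comp (img Λ A K) =
      KaehlerDifferential.mapBaseChange Λ A (B ⧸ K) := by
    apply ext_tensor_kaehler
    intro a
    rw [LinearMap.comp_apply, img_tmul_D, KaehlerDifferential.mapBaseChange_tmul,
      KaehlerDifferential.mapBaseChange_tmul, KaehlerDifferential.map_D,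
      KaehlerDifferential.map_D, ← IsScalarTower.algebraMap_apply]
  exact LinearMap.congr_fun this z

/-- the map `C ⊗_B Ω_{B/Λ} → C ⊗_B Ω_{B/A}` -/
noncomputable def quo : (B ⧸ K) ⊗[B] Ω[B⁄Λ] →ₗ[B ⧸ K] (B ⧸ K) ⊗[B] Ω[B⁄A] :=
  (KaehlerDifferential.map Λ A B B).baseChange (B ⧸ K)

lemma quo_tmul_D (c : B ⧸ K) (b : B) :
    quo Λ A K (c ⊗ₜ KaehlerDifferential.D Λ B b) =
      c ⊗ₜ[B] KaehlerDifferential.D A B b := by
  rw [quo, LinearMap.baseChange_tmul, KaehlerDifferential.map_D Λ A B B]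
  rfl

lemma quo_img (z : (B ⧸ K) ⊗[A] Ω[A⁄Λ]) : quo Λ A K (img Λ A K z) = 0 := by
  have : (quo Λ A K).comp (img Λ A K) = 0 := by
    apply ext_tensor_kaehler
    intro a
    rw [LinearMap.comp_apply, img_tmul_D, quo_tmul_D, LinearMap.zero_apply,
      (KaehlerDifferential.D A B).map_algebraMap, TensorProduct.tmul_zero]
  exact LinearMap.congr_fun this z

lemma exists_img_eq_of_quo_eq_zero (w : (B ⧸ K) ⊗[B] Ω[B⁄Λ])
    (hw : quo Λ A K w = 0) : ∃ z, img Λ A K z = w := by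
  have hex : Function.Exact
      ((KaehlerDifferential.mapBaseChange Λ A B).lTensor (B ⧸ K))
      ((KaehlerDifferential.map Λ A B B).lTensor (B ⧸ K)) :=
    lTensor_exact (B ⧸ K) (KaehlerDifferential.exact_mapBaseChange_map Λ A B)
      (KaehlerDifferential.map_surjective Λ A B)
  have hw' : ((KaehlerDifferential.map Λ A B B).lTensor (B ⧸ K)) w = 0 := hw
  obtain ⟨u, hu⟩ := (hex w).1 hw'
  refine ⟨TensorProduct.AlgebraTensorModule.cancelBaseChange A B (B ⧸ K) (B ⧸ K) Ω[A⁄Λ] u, ?_⟩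
  rw [img_apply, LinearEquiv.symm_apply_apply]
  exact hu


section Transport

variable {Λ A K}
variable (s : (B ⧸ K) →ₐ[Λ] ((infinitesimal K).restrictBase A).CharCarrier Λ)
  (hs : ∀ c, ((infinitesimal K).restrictBase A).proj (s c) = c)

/-- the section regarded as one of the `B`-extension -/
noncomputable def sB : (B ⧸ K) →ₐ[Λ] (infinitesimal K).CharCarrier Λ where
  toFun c := s c
  map_one' := map_one s
  map_mul' := map_mul s
  map_zero' := map_zero s
  map_add' := map_add s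
  commutes' := fun r => by
    have := s.commutes r
    rw [IsScalarTower.algebraMap_apply Λ B ((infinitesimal K).CharCarrier Λ)]
    rw [IsScalarTower.algebraMap_apply Λ A (((infinitesimal K).restrictBase A).CharCarrier Λ)] at this
    rw [IsScalarTower.algebraMap_apply Λ A B]
    exact this

include hs in
lemma hsB : ∀ c, (infinitesimal K).proj (sB s c) = c := hs

lemma ellX_sB (e : (infinitesimal K).CharCarrier Λ) :
    (show K.Cotangent from ellX (X := infinitesimal K) (sB s) (hsB s hs) e) =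
      (show K.Cotangent from ellX (X := (infinitesimal K).restrictBase A) s hs e) := by
  apply (infinitesimal K).isExtension.incl_injective
  have h1 := incl_ellX (sB s) (hsB s hs) e
  have h2 := incl_ellX s hs e
  exact h1.trans h2.symm

lemma chiTilde_eq (z : (B ⧸ K) ⊗[A] Ω[A⁄Λ]) :
    (show K.Cotangent from chiTilde (X := (infinitesimal K).restrictBase A) s hs z) =
      (show K.Cotangent from chiTilde (X := infinitesimal K) (sB s) (hsB s hs) (img Λ A K z)) := by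
  have : (show (B ⧸ K) ⊗[A] Ω[A⁄Λ] →ₗ[B ⧸ K] K.Cotangent from
        chiTilde (X := (infinitesimal K).restrictBase A) s hs) =
      (show (B ⧸ K) ⊗[B] Ω[B⁄Λ] →ₗ[B ⧸ K] K.Cotangent from
        chiTilde (X := infinitesimal K) (sB s) (hsB s hs)).comp (img Λ A K) := by
    apply ext_tensor_kaehler
    intro a
    rw [LinearMap.comp_apply, img_tmul_D]
    have h1 := chiTilde_tmul_D s hs (1 : B ⧸ K) a
    have h2 := chiTilde_tmul_D (sB s) (hsB s hs) (1 : B ⧸ K) (algebraMap A B a)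
    rw [one_smul] at h1 h2
    refine h1.trans (Eq.trans ?_ h2.symm)
    exact (ellX_sB s hs _).symm
  exact LinearMap.congr_fun this z

include s hs in
theorem charHom_eq_zero_iff
    (χ : EGA41.imperfection Λ A (B ⧸ K) →ₗ[B ⧸ K] K.Cotangent)
    (hχ : ((infinitesimal K).restrictBase A).IsCharHom Λ χ)
    (z : EGA41.imperfection Λ A (B ⧸ K)) :
    χ z = 0 ↔ img Λ A K (z : (B ⧸ K) ⊗[A] Ω[A⁄Λ]) = 0 := by
  rw [isCharHom_iff s hs] at hχ
  have hmem : img Λ A K (z : (B ⧸ K) ⊗[A] Ω[A⁄Λ]) ∈ EGA41.imperfection Λ B (B ⧸ K) := by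
    change KaehlerDifferential.mapBaseChange Λ B (B ⧸ K) _ = 0
    rw [mapBaseChange_img]
    exact z.2
  have hbij := bijective_of_isCharHom (sB s) (hsB s hs) (chi (sB s) (hsB s hs))
    (chi_isCharHom (sB s) (hsB s hs))
  have hval : chi (X := infinitesimal K) (sB s) (hsB s hs) ⟨_, hmem⟩ = χ z := by
    rw [hχ z, chiTilde_eq s hs]
    rfl
  constructor
  · intro h0
    rw [h0] at hval
    have := (injective_iff_map_eq_zero _).1 hbij.1 _ hval
    exact congrArg Subtype.val this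
  · intro h0
    rw [hχ z, chiTilde_eq s hs, h0, map_zero]
    rfl

include s hs in
theorem mem_range_charHom_iff
    (χ : EGA41.imperfection Λ A (B ⧸ K) →ₗ[B ⧸ K] K.Cotangent)
    (hχ : ((infinitesimal K).restrictBase A).IsCharHom Λ χ) (x : B) (hx : x ∈ K) :
    K.toCotangent ⟨x, hx⟩ ∈ LinearMap.range χ ↔
      (1 : B ⧸ K) ⊗ₜ[B] KaehlerDifferential.D A B x = (0 : (B ⧸ K) ⊗[B] Ω[B⁄A]) := by
  rw [isCharHom_iff s hs] at hχ
  constructor
  · rintro ⟨z, hz⟩
    have hmem : img Λ A K (z : (B ⧸ K) ⊗[A] Ω[A⁄Λ]) ∈ EGA41.imperfection Λ B (B ⧸ K) := by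
      change KaehlerDifferential.mapBaseChange Λ B (B ⧸ K) _ = 0
      rw [mapBaseChange_img]
      exact z.2
    obtain ⟨y, hy, hzy⟩ := exists_eq_one_tmul_D K ⟨_, hmem⟩
    change img Λ A K (z : (B ⧸ K) ⊗[A] Ω[A⁄Λ]) = _ at hzy
    have h1 := hχ z
    rw [hz, chiTilde_eq s hs, hzy, chiTilde_one_tmul_D (sB s) (hsB s hs) hy] at h1
    have h2 : x - y ∈ K ^ 2 := (Ideal.toCotangent_eq K).1 h1
    have h3 : (1 : B ⧸ K) ⊗ₜ[B] KaehlerDifferential.D A B y = 0 := by
      rw [← quo_tmul_D Λ A K, ← hzy, quo_img]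
    have h4 := one_tmul_D_eq_zero_of_mem_sq (A := A) K h2
    rw [map_sub, TensorProduct.tmul_sub, h3, sub_zero] at h4
    exact h4
  · intro h0
    have hq : quo Λ A K ((1 : B ⧸ K) ⊗ₜ[B] KaehlerDifferential.D Λ B x) = 0 := by
      rw [quo_tmul_D, h0]
    obtain ⟨z, hz⟩ := exists_img_eq_of_quo_eq_zero Λ A K _ hq
    have hzmem : z ∈ EGA41.imperfection Λ A (B ⧸ K) := by
      change KaehlerDifferential.mapBaseChange Λ A (B ⧸ K) z = 0
      rw [← mapBaseChange_img, hz]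
      exact one_tmul_D_mem K hx
    refine ⟨⟨z, hzmem⟩, ?_⟩
    rw [hχ, chiTilde_eq s hs, hz]
    exact chiTilde_one_tmul_D (sB s) (hsB s hs) hx

end Transport

end Groth.Agent.Lib.Helper5.ExalInfRel
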