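import Groth.Agent.Lib.Helper5.ExalInfRel
import Mathlib.RingTheory.Smooth.Basic
import Mathlib.RingTheory.Kaehler.JacobiZariski

set_option autoImplicit false
universe u v

namespace Groth.Agent.Lib.Helper5.ExalInfRel

open Exal Exal.Ext TensorProduct KaehlerDifferential
open Groth.Agent.Lib.Helper5 Groth.Agent.Lib.Helper5.ExalChar Groth.Agent.Lib.Helper5.ExalInf

variable (Λ : Type u) (A : Type v) {B : Type v} [CommRing Λ] [CommRing A] [CommRing B] [Algebra Λ A]
  [Algebra Λ B] [Algebra A B] [IsScalarTower Λ A B] (K : Ideal B)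

theorem img_injective [Algebra.FormallySmooth A B] : Function.Injective (img Λ A K) := by
  have hinj : Function.Injective (KaehlerDifferential.mapBaseChange Λ A B) := by
    rw [injective_iff_map_eq_zero]
    intro x hx
    obtain ⟨y, rfl⟩ := (Algebra.H1Cotangent.exact_δ_mapBaseChange Λ A B x).1 hx
    rw [Subsingleton.elim y 0, map_zero]
  obtain ⟨σ, hσ⟩ := Module.projective_lifting_property (KaehlerDifferential.map Λ A B B)
    LinearMap.id (KaehlerDifferential.map_surjective Λ A B)
  obtain ⟨-, l, hl⟩ := ((KaehlerDifferential.exact_mapBaseChange_map Λ A B).split_tfae'.out 0 1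
    rfl rfl).1 ⟨hinj, σ, hσ⟩
  have h1 : (l.baseChange (B ⧸ K)).comp
      ((KaehlerDifferential.mapBaseChange Λ A B).baseChange (B ⧸ K)) = LinearMap.id := by
    rw [← LinearMap.baseChange_comp, hl, LinearMap.baseChange_id]
  have h2 : Function.Injective ((KaehlerDifferential.mapBaseChange Λ A B).baseChange (B ⧸ K)) :=
    Function.LeftInverse.injective (g := l.baseChange (B ⧸ K)) (fun x => LinearMap.congr_fun h1 x)
  exact h2.comp (LinearEquiv.injective _)

end Groth.Agent.Lib.Helper5.ExalInfRel
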