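import Groth.Agent.Lib.Helper5.ExalQuot
import Mathlib.RingTheory.Ideal.Quotient.Operations

set_option autoImplicit false
universe u

namespace Groth.Agent.Lib.Helper5.ExalPush

open Exal Exal.Ext

attribute [local instance] Exal.opModule Exal.isCentralScalar_opModule

variable {B : Type u} [CommRing B] (J : Ideal B)
  {M : Type u} [AddCommGroup M] [Module (B ⧸ J) M] [Module B M] [IsScalarTower B (B ⧸ J) M]

omit [AddCommGroup M] [Module (B ⧸ J) M] [Module B M] [IsScalarTower B (B ⧸ J) M] in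
lemma toCot_zero (h : (0 : B) ∈ J) : J.toCotangent ⟨0, h⟩ = 0 := by
  have : (⟨0, h⟩ : J) = 0 := rfl
  rw [this, map_zero]

lemma smul_eq_zero_of_mem (b : B) (hb : b ∈ J) (m : M) : b • m = 0 := by
  rw [← IsScalarTower.algebraMap_smul (B ⧸ J) b m, Ideal.Quotient.algebraMap_eq,
    Ideal.Quotient.eq_zero_iff_mem.2 hb, zero_smul]

/-- The ideal of relations. -/
def relIdeal (w : J.Cotangent →ₗ[B] M) : Ideal (TrivSqZeroExt B M) where
  carrier := {t | ∃ hb : t.fst ∈ J, w (J.toCotangent ⟨t.fst, hb⟩) = - t.snd}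
  add_mem' := by
    rintro a b ⟨ha, ha'⟩ ⟨hb, hb'⟩
    refine ⟨by simpa using J.add_mem ha hb, ?_⟩
    have : (⟨(a + b).fst, by simpa using J.add_mem ha hb⟩ : J) = ⟨a.fst, ha⟩ + ⟨b.fst, hb⟩ := rfl
    rw [this, map_add, map_add, ha', hb', TrivSqZeroExt.snd_add, neg_add]
  zero_mem' := ⟨by simp, by simp [toCot_zero]⟩
  smul_mem' := by
    rintro c t ⟨ht, ht'⟩
    have hmem : (c • t).fst ∈ J := by
      rw [smul_eq_mul, TrivSqZeroExt.fst_mul]
      exact J.mul_mem_left _ ht
    refine ⟨hmem, ?_⟩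
    have : (⟨(c • t).fst, hmem⟩ : J) = c.fst • ⟨t.fst, ht⟩ := by
      apply Subtype.ext
      simp [TrivSqZeroExt.fst_mul]
    rw [this, map_smul, map_smul, ht', smul_eq_mul, TrivSqZeroExt.snd_mul]
    have h0 : MulOpposite.op t.fst • c.snd = 0 := smul_eq_zero_of_mem J t.fst ht c.snd
    rw [h0, add_zero, smul_neg]

lemma mem_relIdeal (w : J.Cotangent →ₗ[B] M) (t : TrivSqZeroExt B M) :
    t ∈ relIdeal J w ↔ ∃ hb : t.fst ∈ J, w (J.toCotangent ⟨t.fst, hb⟩) = - t.snd := Iff.rfl

/-- carrier of the pushed-out extension -/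
def Carrier (w : J.Cotangent →ₗ[B] M) : Type u := TrivSqZeroExt B M ⧸ relIdeal J w

instance (w : J.Cotangent →ₗ[B] M) : CommRing (Carrier J w) :=
  inferInstanceAs (CommRing (TrivSqZeroExt B M ⧸ relIdeal J w))

/-- quotient map -/
def qmk (w : J.Cotangent →ₗ[B] M) : TrivSqZeroExt B M →+* Carrier J w :=
  Ideal.Quotient.mk (relIdeal J w)

lemma qmk_surjective (w : J.Cotangent →ₗ[B] M) : Function.Surjective (qmk J w) :=
  Ideal.Quotient.mk_surjective

lemma qmk_eq_zero_iff (w : J.Cotangent →ₗ[B] M) (t : TrivSqZeroExt B M) :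
    qmk J w t = 0 ↔ t ∈ relIdeal J w := Ideal.Quotient.eq_zero_iff_mem

noncomputable instance (w : J.Cotangent →ₗ[B] M) : Algebra B (Carrier J w) :=
  ((qmk J w).comp (TrivSqZeroExt.inlHom B M)).toAlgebra

lemma algebraMap_eq (w : J.Cotangent →ₗ[B] M) (b : B) :
    algebraMap B (Carrier J w) b = qmk J w (TrivSqZeroExt.inl b) := rfl

/-- projection ring hom -/
def projRingHom (w : J.Cotangent →ₗ[B] M) : Carrier J w →+* B ⧸ J :=
  Ideal.Quotient.lift (relIdeal J w)
    ((Ideal.Quotient.mk J).comp (TrivSqZeroExt.fstHom B B M).toRingHom) (by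
      rintro t ⟨ht, -⟩
      exact Ideal.Quotient.eq_zero_iff_mem.2 ht)

lemma projRingHom_qmk (w : J.Cotangent →ₗ[B] M) (t : TrivSqZeroExt B M) :
    projRingHom J w (qmk J w t) = Ideal.Quotient.mk J t.fst := rfl

lemma qmk_inl_of_mem (w : J.Cotangent →ₗ[B] M) (b : B) (hb : b ∈ J) :
    qmk J w (TrivSqZeroExt.inl b) = qmk J w (TrivSqZeroExt.inr (w (J.toCotangent ⟨b, hb⟩))) := by
  rw [← sub_eq_zero, ← map_sub, qmk_eq_zero_iff, mem_relIdeal]
  refine ⟨by simpa using hb, ?_⟩
  have : (⟨(TrivSqZeroExt.inl b - TrivSqZeroExt.inr (w (J.toCotangent ⟨b, hb⟩)) :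
      TrivSqZeroExt B M).fst, by simpa using hb⟩ : J) = ⟨b, hb⟩ := by
    apply Subtype.ext
    simp
  rw [this]
  simp

/-- the extension with prescribed conormal map -/
noncomputable def ext (w : J.Cotangent →ₗ[B] M) : Ext B (B ⧸ J) M where
  E := Carrier J w
  proj :=
    { projRingHom J w with
      commutes' := fun b => by
        show projRingHom J w (qmk J w (TrivSqZeroExt.inl b)) = _
        rw [projRingHom_qmk]
        rfl }
  incl := (qmk J w : TrivSqZeroExt B M →+ Carrier J w).comp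
    (TrivSqZeroExt.inrHom B M).toAddMonoidHom
  isExtension :=
    { proj_surjective := by
        intro c
        obtain ⟨b, rfl⟩ := Ideal.Quotient.mk_surjective c
        exact ⟨qmk J w (TrivSqZeroExt.inl b), rfl⟩
      incl_injective := by
        rw [injective_iff_map_eq_zero]
        intro m hm
        have hm' : qmk J w (TrivSqZeroExt.inr m) = 0 := hm
        rw [qmk_eq_zero_iff, mem_relIdeal] at hm'
        obtain ⟨h0, h1⟩ := hm'
        have h2 : (⟨(TrivSqZeroExt.inr m : TrivSqZeroExt B M).fst, h0⟩ : J) = 0 := by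
          apply Subtype.ext
          simp
        rw [h2, map_zero, map_zero, TrivSqZeroExt.snd_inr] at h1
        exact neg_eq_zero.1 h1.symm
      exact := by
        intro x
        obtain ⟨t, rfl⟩ := qmk_surjective J w x
        constructor
        · intro hx
          have hx' : Ideal.Quotient.mk J t.fst = 0 := hx
          rw [Ideal.Quotient.eq_zero_iff_mem] at hx'
          refine ⟨t.snd + w (J.toCotangent ⟨t.fst, hx'⟩), ?_⟩
          show qmk J w (TrivSqZeroExt.inr (t.snd + w (J.toCotangent ⟨t.fst, hx'⟩))) = qmk J w t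
          rw [TrivSqZeroExt.inr_add, map_add, ← qmk_inl_of_mem J w t.fst hx', ← map_add,
            add_comm, TrivSqZeroExt.inl_fst_add_inr_snd_eq]
        · rintro ⟨m, hm⟩
          rw [← hm]
          show Ideal.Quotient.mk J (TrivSqZeroExt.inr m : TrivSqZeroExt B M).fst = 0
          simp
      mul_incl := by
        intro x z
        obtain ⟨t, rfl⟩ := qmk_surjective J w x
        show qmk J w t * qmk J w (TrivSqZeroExt.inr z) =
          qmk J w (TrivSqZeroExt.inr (Ideal.Quotient.mk J t.fst • z))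
        rw [← map_mul]
        congr 1
        refine TrivSqZeroExt.ext ?_ ?_
        · simp
        · rw [TrivSqZeroExt.snd_mul]
          simp only [TrivSqZeroExt.snd_inr, TrivSqZeroExt.fst_inr, MulOpposite.op_zero, zero_smul,
            add_zero]
          rw [← Ideal.Quotient.algebraMap_eq, IsScalarTower.algebraMap_smul] }

lemma ext_idealToKer (w : J.Cotangent →ₗ[B] M) (z : J) :
    (ext J w).idealToKer J z = w (J.toCotangent z) := by
  apply (ext J w).isExtension.incl_injective
  rw [ExalQuot.incl_idealToKer]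
  exact qmk_inl_of_mem J w z.1 z.2

lemma ext_conormalMap (w : J.Cotangent →ₗ[B] M) : (ext J w).conormalMap J = w := by
  apply LinearMap.ext
  intro c
  obtain ⟨z, rfl⟩ := J.toCotangent_surjective c
  exact ext_idealToKer J w z

end Groth.Agent.Lib.Helper5.ExalPush
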