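import Groth.Prelude.Def_Exal
import Groth.Prelude.Def_Exal2
import Mathlib.Tactic.Ring
import Mathlib.Tactic.LinearCombination

set_option autoImplicit false
universe u

namespace Groth.Agent.Lib.Helper5.ExalQuot

open Exal Exal.Ext

variable {B : Type u} [CommRing B] (J : Ideal B)
  {M : Type u} [AddCommGroup M] [Module (B ⧸ J) M]

/-- standard form `b + i m` -/
def sig (X : Ext B (B ⧸ J) M) (p : B × M) : X.E := algebraMap B X.E p.1 + X.incl p.2

variable {J}

lemma proj_incl (X : Ext B (B ⧸ J) M) (m : M) : X.proj (X.incl m) = 0 :=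
  (X.isExtension.exact _).2 ⟨m, rfl⟩

lemma proj_sig (X : Ext B (B ⧸ J) M) (p : B × M) : X.proj (sig J X p) = Ideal.Quotient.mk J p.1 := by
  rw [sig, map_add, proj_incl, add_zero, AlgHom.commutes, Ideal.Quotient.algebraMap_eq]

lemma sig_surjective (X : Ext B (B ⧸ J) M) : Function.Surjective (sig J X) := by
  intro e
  obtain ⟨b, hb⟩ := Ideal.Quotient.mk_surjective (X.proj e)
  have h0 : X.proj (e - algebraMap B X.E b) = 0 := by
    rw [map_sub, AlgHom.commutes, Ideal.Quotient.algebraMap_eq, hb, sub_self]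
  obtain ⟨m, hm⟩ := (X.isExtension.exact _).1 h0
  exact ⟨(b, m), by rw [sig, hm]; ring⟩

lemma incl_mul_incl (X : Ext B (B ⧸ J) M) (m m' : M) : X.incl m * X.incl m' = 0 := by
  rw [X.isExtension.mul_incl, proj_incl, zero_smul, map_zero]

lemma sig_mul (X : Ext B (B ⧸ J) M) (p q : B × M) :
    sig J X p * sig J X q =
      sig J X (p.1 * q.1, Ideal.Quotient.mk J p.1 • q.2 + Ideal.Quotient.mk J q.1 • p.2) := by
  simp only [sig]
  have h1 : algebraMap B X.E p.1 * X.incl q.2 = X.incl (Ideal.Quotient.mk J p.1 • q.2) := by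
    rw [X.isExtension.mul_incl, AlgHom.commutes, Ideal.Quotient.algebraMap_eq]
  have h2 : algebraMap B X.E q.1 * X.incl p.2 = X.incl (Ideal.Quotient.mk J q.1 • p.2) := by
    rw [X.isExtension.mul_incl, AlgHom.commutes, Ideal.Quotient.algebraMap_eq]
  rw [map_mul, map_add, ← h1, ← h2]
  have h3 := incl_mul_incl X p.2 q.2
  linear_combination h3

lemma sig_add (X : Ext B (B ⧸ J) M) (p q : B × M) :
    sig J X p + sig J X q = sig J X (p + q) := by
  simp only [sig, Prod.fst_add, Prod.snd_add, map_add]
  ring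

lemma sig_one (X : Ext B (B ⧸ J) M) : sig J X (1, 0) = 1 := by
  simp [sig]

lemma sig_algebraMap (X : Ext B (B ⧸ J) M) (b : B) : sig J X (b, 0) = algebraMap B X.E b := by
  simp [sig]

lemma sig_incl (X : Ext B (B ⧸ J) M) (m : M) : sig J X (0, m) = X.incl m := by
  simp [sig]

variable [Module B M] [IsScalarTower B (B ⧸ J) M]

lemma incl_idealToKer (X : Ext B (B ⧸ J) M) (z : J) :
    X.incl (X.idealToKer J z) = algebraMap B X.E z :=
  X.incl_kerLift _ (X.proj_algebraMap_eq_zero J z)

lemma idealToKer_eq_of_conormalMap_eq (X Y : Ext B (B ⧸ J) M)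
    (h : X.conormalMap J = Y.conormalMap J) (z : J) : X.idealToKer J z = Y.idealToKer J z := by
  have := congrArg (fun f => f (Submodule.Quotient.mk z)) h
  exact this

lemma sig_eq_of_sig_eq (X Y : Ext B (B ⧸ J) M)
    (h : ∀ z : J, X.idealToKer J z = Y.idealToKer J z) (p q : B × M)
    (hpq : sig J X p = sig J X q) : sig J Y p = sig J Y q := by
  have hmem : p.1 - q.1 ∈ J := by
    have := congrArg X.proj hpq
    rw [proj_sig, proj_sig] at this
    rw [← Ideal.Quotient.eq_zero_iff_mem, map_sub, this, sub_self]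
  have h1 : algebraMap B X.E (p.1 - q.1) = X.incl (q.2 - p.2) := by
    simp only [sig] at hpq
    rw [map_sub, map_sub]
    linear_combination hpq
  have h2 : X.idealToKer J ⟨p.1 - q.1, hmem⟩ = q.2 - p.2 :=
    X.isExtension.incl_injective (by rw [incl_idealToKer]; exact h1)
  have h3 : algebraMap B Y.E (p.1 - q.1) = Y.incl (q.2 - p.2) := by
    rw [← h2, h, incl_idealToKer]
  simp only [sig]
  rw [map_sub, map_sub] at h3
  linear_combination h3

/-- transport map -/
noncomputable def tr (X Y : Ext B (B ⧸ J) M) (e : X.E) : Y.E :=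
  sig J Y (sig_surjective X e).choose

lemma tr_sig (X Y : Ext B (B ⧸ J) M)
    (h : ∀ z : J, X.idealToKer J z = Y.idealToKer J z) (p : B × M) :
    tr X Y (sig J X p) = sig J Y p :=
  sig_eq_of_sig_eq X Y h _ _ (sig_surjective X (sig J X p)).choose_spec

/-- the equivalence of extensions with equal ideal-to-kernel maps -/
noncomputable def equivOfEq (X Y : Ext B (B ⧸ J) M)
    (h : ∀ z : J, X.idealToKer J z = Y.idealToKer J z) : X.Equiv Y where
  toAlgEquiv :=
    { toFun := tr X Y
      invFun := tr Y X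
      left_inv := by
        intro e
        obtain ⟨p, rfl⟩ := sig_surjective X e
        rw [tr_sig X Y h, tr_sig Y X (fun z => (h z).symm)]
      right_inv := by
        intro e
        obtain ⟨p, rfl⟩ := sig_surjective Y e
        rw [tr_sig Y X (fun z => (h z).symm), tr_sig X Y h]
      map_mul' := by
        intro x y
        obtain ⟨p, rfl⟩ := sig_surjective X x
        obtain ⟨q, rfl⟩ := sig_surjective X y
        rw [sig_mul, tr_sig X Y h, tr_sig X Y h, tr_sig X Y h, sig_mul]
      map_add' := by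
        intro x y
        obtain ⟨p, rfl⟩ := sig_surjective X x
        obtain ⟨q, rfl⟩ := sig_surjective X y
        rw [sig_add, tr_sig X Y h, tr_sig X Y h, tr_sig X Y h, sig_add]
      commutes' := by
        intro b
        rw [← sig_algebraMap, ← sig_algebraMap]
        exact tr_sig X Y h _ }
  proj_apply := by
    intro x
    obtain ⟨p, rfl⟩ := sig_surjective X x
    show Y.proj (tr X Y _) = _
    rw [tr_sig X Y h, proj_sig, proj_sig]
  apply_incl := by
    intro m
    show tr X Y _ = _
    rw [← sig_incl, tr_sig X Y h, sig_incl]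

end Groth.Agent.Lib.Helper5.ExalQuot
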