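import Mathlib.Algebra.Algebra.Subalgebra.Directed
import Mathlib.Order.Zorn
import Mathlib.FieldTheory.IntermediateField.Adjoin.Basic
import Mathlib.FieldTheory.KummerPolynomial
import Mathlib.FieldTheory.Minpoly.Field
import Mathlib.Algebra.CharP.Lemmas
import Mathlib.FieldTheory.IntermediateField.Algebraic

set_option autoImplicit false
set_option linter.unusedSectionVars false

namespace Groth.Agent.Lib.Helper5.PSecLib

variable {F K W : Type*} [CommRing F] [CommRing K] [CommRing W] [Algebra F K] [Algebra F W]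
  (π : W →ₐ[F] K)

/-- partial sections of `π` defined on subalgebras -/
structure PSec where
  carrier : Subalgebra F K
  emb : carrier →ₐ[F] W
  sec : ∀ x : carrier, π (emb x) = x

variable {π}

instance : Preorder (PSec π) where
  le L₁ L₂ := ∃ h : L₁.carrier ≤ L₂.carrier, ∀ x, L₂.emb (Subalgebra.inclusion h x) = L₁.emb x
  le_refl L := ⟨le_rfl, fun _ => rfl⟩
  le_trans L₁ L₂ L₃ := by
    rintro ⟨h₁₂, h₁₂'⟩ ⟨h₂₃, h₂₃'⟩
    exact ⟨h₁₂.trans h₂₃, fun x => by rw [← h₁₂' x, ← h₂₃']; rfl⟩

lemma le_def {L₁ L₂ : PSec π} : L₁ ≤ L₂ ↔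
    ∃ h : L₁.carrier ≤ L₂.carrier, ∀ x, L₂.emb (Subalgebra.inclusion h x) = L₁.emb x := Iff.rfl

/-- upper bound of a nonempty chain -/
theorem exists_upper_bound (c : Set (PSec π)) (hc : IsChain (· ≤ ·) c) (hne : c.Nonempty) :
    ∃ ub : PSec π, ∀ a ∈ c, a ≤ ub := by
  have : Nonempty c := hne.to_subtype
  let t : c → Subalgebra F K := fun i => i.1.carrier
  have dir : Directed (· ≤ ·) t := by
    intro i j
    rcases hc.total i.2 j.2 with h | h
    · exact ⟨j, h.1, le_rfl⟩
    · exact ⟨i, le_rfl, h.1⟩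
  have compat : ∀ (i j : c) (h : t i ≤ t j),
      i.1.emb = (j.1.emb).comp (Subalgebra.inclusion h) := by
    intro i j h
    apply AlgHom.ext
    intro x
    rcases hc.total i.2 j.2 with hij | hji
    · exact (hij.2 x).symm
    · rw [AlgHom.comp_apply, ← hji.2 (Subalgebra.inclusion h x)]
      congr 1
  let g : (iSup t : Subalgebra F K) →ₐ[F] W :=
    Subalgebra.iSupLift t dir (fun i => i.1.emb) compat (iSup t) le_rfl
  have hg : ∀ (i : c) (x : t i), g (Subalgebra.inclusion (le_iSup t i) x) = i.1.emb x := by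
    intro i x
    exact Subalgebra.iSupLift_inclusion (K := t) x (le_iSup t i)
  refine ⟨⟨iSup t, g, ?_⟩, ?_⟩
  · rintro ⟨x, hx⟩
    have hx' : x ∈ ((iSup t : Subalgebra F K) : Set K) := hx
    rw [Subalgebra.coe_iSup_of_directed dir, Set.mem_iUnion] at hx'
    obtain ⟨i, hi⟩ := hx'
    have := hg i ⟨x, hi⟩
    have h2 : (⟨x, hx⟩ : (iSup t : Subalgebra F K)) =
        Subalgebra.inclusion (le_iSup t i) ⟨x, hi⟩ := rfl
    rw [h2, this, i.1.sec]
    rfl
  · intro a ha
    exact ⟨le_iSup t ⟨a, ha⟩, fun x => hg ⟨a, ha⟩ x⟩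

theorem exists_isMax (L₀ : PSec π) : ∃ m : PSec π, L₀ ≤ m ∧ IsMax m := by
  obtain ⟨m, hm, hmax⟩ := zorn_le_nonempty₀ (Set.univ : Set (PSec π))
    (fun c _ hc y hy => by
      obtain ⟨ub, hub⟩ := exists_upper_bound c hc ⟨y, hy⟩
      exact ⟨ub, trivial, hub⟩) L₀ trivial
  exact ⟨m, hm, fun b hb => hmax.2 trivial hb⟩


open Polynomial IntermediateField

section Step

variable {F K W : Type*} [Field F] [Field K] [CommRing W] [Algebra F K] [Algebra F W]
  (π : W →ₐ[F] K) (p : ℕ) (hp : p.Prime) [CharP K p]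
  (hπ : Function.Surjective π)
  (hKp : ∀ y : K, y ^ p ∈ Set.range (algebraMap F K))
  (H : ∀ (w : W) (a : F), algebraMap F K a = π w ^ p → algebraMap F W a = w ^ p)

include hp hπ hKp H in
/-- one step of extension of a partial section -/
theorem exists_extension (E : IntermediateField F K) (g : E →ₐ[F] W)
    (hg : ∀ x : E, π (g x) = x) (s : K) (hs : s ∉ E) :
    ∃ (E' : IntermediateField F K) (h : E ≤ E') (g' : E' →ₐ[F] W),
      (∀ x : E', π (g' x) = x) ∧ (∀ x : E, g' (IntermediateField.inclusion h x) = g x) ∧ s ∈ E' := by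
  haveI : Fact p.Prime := ⟨hp⟩
  obtain ⟨a₀, ha₀⟩ := hKp s
  obtain ⟨c, hc⟩ := hπ s
  have hcp : algebraMap F W a₀ = c ^ p := H c a₀ (by rw [ha₀, hc])
  set a : E := algebraMap F E a₀ with ha
  have haK : (a : K) = s ^ p := ha₀
  -- irreducibility
  have hirr : Irreducible (X ^ p - C a : E[X]) := by
    apply X_pow_sub_C_irreducible_of_prime hp
    intro b hb
    have h1 : ((b : K) - s) ^ p = 0 := by
      rw [sub_pow_char, ← haK, ← hb]
      simp
    have h2 : (b : K) = s := sub_eq_zero.mp (pow_eq_zero_iff hp.ne_zero |>.mp h1)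
    exact hs (h2 ▸ b.2)
  have hroot : aeval s (X ^ p - C a : E[X]) = 0 := by
    simp [haK]
  have hmonic : (X ^ p - C a : E[X]).Monic := monic_X_pow_sub_C a hp.ne_zero
  have hmin : (X ^ p - C a : E[X]) = minpoly E s :=
    minpoly.eq_of_irreducible_of_monic hirr hroot hmonic
  have hint : IsIntegral E s := ⟨_, hmonic, hroot⟩
  -- W as an algebra over E
  letI algEW : Algebra E W := (g : E →+* W).toAlgebra
  haveI : IsScalarTower F E W := IsScalarTower.of_algebraMap_eq (fun r => (g.commutes r).symm)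
  have hcroot : aeval c (minpoly E s) = 0 := by
    rw [← hmin]
    simp only [map_sub, map_pow, aeval_X, aeval_C]
    change c ^ p - g a = 0
    rw [ha, AlgHom.commutes, hcp, sub_self]
  let h₁ : AdjoinRoot (minpoly E s) →ₐ[E] W := AdjoinRoot.liftAlgHom _ (Algebra.ofId E W) c hcroot
  let h₂ : E⟮s⟯ →ₐ[E] W := h₁.comp (adjoinRootEquivAdjoin E hint).symm.toAlgHom
  let π' : W →ₐ[E] K := { (π : W →+* K) with commutes' := fun e => hg e }
  have hgen : h₂ (AdjoinSimple.gen E s) = c := by
    change h₁ ((adjoinRootEquivAdjoin E hint).symm (AdjoinSimple.gen E s)) = c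
    rw [adjoinRootEquivAdjoin_symm_apply_gen]
    exact AdjoinRoot.liftAlgHom_root _ _ _ _
  have hsec : ∀ x : E⟮s⟯, π (h₂ x) = x := by
    have : π'.comp h₂ = (E⟮s⟯).val := by
      apply adjoin_algHom_ext
      intro x hx
      rw [Set.mem_singleton_iff] at hx
      subst hx
      change π (h₂ (AdjoinSimple.gen E x)) = x
      rw [hgen, hc]
    intro x
    exact AlgHom.congr_fun this x
  refine ⟨(E⟮s⟯).restrictScalars F, ?_, h₂.restrictScalars F, hsec, ?_, ?_⟩
  · intro x hx
    rw [mem_restrictScalars]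
    exact (E⟮s⟯).algebraMap_mem ⟨x, hx⟩
  · intro x
    change h₂ (algebraMap E E⟮s⟯ x) = g x
    rw [AlgHom.commutes]
    rfl
  · rw [mem_restrictScalars]
    exact mem_adjoin_simple_self E s

end Step


section Main

variable {F K W : Type*} [Field F] [Field K] [CommRing W] [Algebra F K] [Algebra F W]
  (π : W →ₐ[F] K) (p : ℕ) (hp : p.Prime) [CharP K p]
  (hπ : Function.Surjective π)
  (hKp : ∀ y : K, y ^ p ∈ Set.range (algebraMap F K))
  (H : ∀ (w : W) (a : F), algebraMap F K a = π w ^ p → algebraMap F W a = w ^ p)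

include hp hπ hKp H in
/-- sections exist along an extension of exponent one, under the compatibility of `p`-th powers -/
theorem exists_section : ∃ g : K →ₐ[F] W, ∀ x, π (g x) = x := by
  have halg : Algebra.IsAlgebraic F K := by
    refine ⟨fun y => ?_⟩
    obtain ⟨a, ha⟩ := hKp y
    refine ⟨X ^ p - C a, X_pow_sub_C_ne_zero hp.pos a, ?_⟩
    simp [ha]
  let L₀ : PSec π :=
    { carrier := ⊥
      emb := (Algebra.ofId F W).comp (Algebra.botEquiv F K).toAlgHom
      sec := fun x => by
        obtain ⟨r, hr⟩ := Algebra.mem_bot.1 x.2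
        have hx : x = algebraMap F (⊥ : Subalgebra F K) r := Subtype.ext hr.symm
        rw [hx]
        simp }
  obtain ⟨m, -, hmax⟩ := exists_isMax L₀
  have htop : m.carrier = ⊤ := by
    by_contra hne
    obtain ⟨s, hs⟩ : ∃ s : K, s ∉ m.carrier := by
      by_contra hall
      push Not at hall
      exact hne (eq_top_iff.2 fun x _ => hall x)
    have hfield : IsField m.carrier := Subalgebra.isField_of_algebraic m.carrier
    set E : IntermediateField F K := m.carrier.toIntermediateField' hfield with hE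
    have hEm : E.toSubalgebra = m.carrier := toSubalgebra_toIntermediateField' _ _
    let gE : E →ₐ[F] W := m.emb.comp (Subalgebra.inclusion (le_of_eq hEm))
    have hgE : ∀ x : E, π (gE x) = x := fun x => m.sec _
    have hsE : s ∉ E := fun h => hs (hEm ▸ h)
    obtain ⟨E', h, g', hsec', hcompat, hsE'⟩ := exists_extension π p hp hπ hKp H E gE hgE s hsE
    let m' : PSec π := ⟨E'.toSubalgebra, g', hsec'⟩
    have hle : m ≤ m' := by
      refine ⟨fun x hx => h (hEm.symm ▸ hx : x ∈ E.toSubalgebra), fun x => ?_⟩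
      have := hcompat ⟨x.1, (hEm.symm ▸ x.2 : x.1 ∈ E.toSubalgebra)⟩
      exact this
    obtain ⟨hle', -⟩ := hmax hle
    exact hs (hle' hsE')
  refine ⟨m.emb.comp ((Subalgebra.equivOfEq _ _ htop).symm.toAlgHom.comp
    Subalgebra.topEquiv.symm.toAlgHom), fun x => ?_⟩
  exact m.sec _

end Main

end Groth.Agent.Lib.Helper5.PSecLib
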