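import Groth.Agent.Lib.Helper5.ExpOneSection

set_option autoImplicit false
set_option linter.unusedSectionVars false

namespace Groth.Agent.Lib.Helper5.PSecLib

open Polynomial IntermediateField

section Step

variable {F K W : Type*} [Field F] [Field K] [CommRing W] [Algebra F K] [Algebra F W]
  (π : W →ₐ[F] K) (p : ℕ) (hp : p.Prime) [CharP K p]
  (hπ : Function.Surjective π)
  (hKp : ∀ y : K, y ^ p ∈ Set.range (algebraMap F K))
  (H : ∀ (w : W) (a : F), algebraMap F K a = π w ^ p → algebraMap F W a = w ^ p)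

include hp hKp H in
/-- one step of extension of a partial section -/
theorem exists_extension' (E : IntermediateField F K) (g : E →ₐ[F] W)
    (hg : ∀ x : E, π (g x) = x) (s : K) (hs : s ∉ E) (c : W) (hc : π c = s) :
    ∃ (E' : IntermediateField F K) (h : E ≤ E') (g' : E' →ₐ[F] W),
      (∀ x : E', π (g' x) = x) ∧ (∀ x : E, g' (IntermediateField.inclusion h x) = g x) ∧
        ∃ hs' : s ∈ E', g' ⟨s, hs'⟩ = c := by
  haveI : Fact p.Prime := ⟨hp⟩
  obtain ⟨a₀, ha₀⟩ := hKp s
  have hcp : algebraMap F W a₀ = c ^ p := H c a₀ (by rw [ha₀, hc])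
  set a : E := algebraMap F E a₀ with ha
  have haK : (a : K) = s ^ p := ha₀
  -- irreducibility
  have hirr : Irreducible (X ^ p - C a : E[X]) := by
    apply X_pow_sub_C_irreducible_of_prime hp
    intro b hb
    have h1 : ((b : K) - s) ^ p = 0 := by
      rw [sub_pow_char, ← haK, ← hb]
      simp
    have h2 : (b : K) = s := sub_eq_zero.mp (pow_eq_zero_iff hp.ne_zero |>.mp h1)
    exact hs (h2 ▸ b.2)
  have hroot : aeval s (X ^ p - C a : E[X]) = 0 := by
    simp [haK]
  have hmonic : (X ^ p - C a : E[X]).Monic := monic_X_pow_sub_C a hp.ne_zero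
  have hmin : (X ^ p - C a : E[X]) = minpoly E s :=
    minpoly.eq_of_irreducible_of_monic hirr hroot hmonic
  have hint : IsIntegral E s := ⟨_, hmonic, hroot⟩
  -- W as an algebra over E
  letI algEW : Algebra E W := (g : E →+* W).toAlgebra
  haveI : IsScalarTower F E W := IsScalarTower.of_algebraMap_eq (fun r => (g.commutes r).symm)
  have hcroot : aeval c (minpoly E s) = 0 := by
    rw [← hmin]
    simp only [map_sub, map_pow, aeval_X, aeval_C]
    change c ^ p - g a = 0
    rw [ha, AlgHom.commutes, hcp, sub_self]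
  let h₁ : AdjoinRoot (minpoly E s) →ₐ[E] W := AdjoinRoot.liftAlgHom _ (Algebra.ofId E W) c hcroot
  let h₂ : E⟮s⟯ →ₐ[E] W := h₁.comp (adjoinRootEquivAdjoin E hint).symm.toAlgHom
  let π' : W →ₐ[E] K := { (π : W →+* K) with commutes' := fun e => hg e }
  have hgen : h₂ (AdjoinSimple.gen E s) = c := by
    change h₁ ((adjoinRootEquivAdjoin E hint).symm (AdjoinSimple.gen E s)) = c
    rw [adjoinRootEquivAdjoin_symm_apply_gen]
    exact AdjoinRoot.liftAlgHom_root _ _ _ _
  have hsec : ∀ x : E⟮s⟯, π (h₂ x) = x := by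
    have : π'.comp h₂ = (E⟮s⟯).val := by
      apply adjoin_algHom_ext
      intro x hx
      rw [Set.mem_singleton_iff] at hx
      subst hx
      change π (h₂ (AdjoinSimple.gen E x)) = x
      rw [hgen, hc]
    intro x
    exact AlgHom.congr_fun this x
  refine ⟨(E⟮s⟯).restrictScalars F, ?_, h₂.restrictScalars F, hsec, ?_, ?_⟩
  · intro x hx
    rw [mem_restrictScalars]
    exact (E⟮s⟯).algebraMap_mem ⟨x, hx⟩
  · intro x
    change h₂ (algebraMap E E⟮s⟯ x) = g x
    rw [AlgHom.commutes]
    rfl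
  · exact ⟨(mem_restrictScalars F).2 (mem_adjoin_simple_self E s), hgen⟩

end Step



section Main2

variable {F K W : Type*} [Field F] [Field K] [CommRing W] [Algebra F K] [Algebra F W]
  (π : W →ₐ[F] K) (p : ℕ) (hp : p.Prime) [CharP K p]
  (hπ : Function.Surjective π)
  (hKp : ∀ y : K, y ^ p ∈ Set.range (algebraMap F K))
  (H : ∀ (w : W) (a : F), algebraMap F K a = π w ^ p → algebraMap F W a = w ^ p)

include hp hπ hKp H in
/-- sections with a prescribed value at an element outside the base field -/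
theorem exists_section_apply (s : K) (hs : s ∉ Set.range (algebraMap F K)) (c : W) (hc : π c = s) :
    ∃ g : K →ₐ[F] W, (∀ x, π (g x) = x) ∧ g s = c := by
  have halg : Algebra.IsAlgebraic F K := by
    refine ⟨fun y => ?_⟩
    obtain ⟨a, ha⟩ := hKp y
    refine ⟨X ^ p - C a, X_pow_sub_C_ne_zero hp.pos a, ?_⟩
    simp [ha]
  -- the bottom partial section, on an intermediate field
  let g₀ : (⊥ : IntermediateField F K) →ₐ[F] W :=
    (Algebra.ofId F W).comp (IntermediateField.botEquiv F K).toAlgHom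
  have hg₀ : ∀ x : (⊥ : IntermediateField F K), π (g₀ x) = x := by
    intro x
    obtain ⟨r, hr⟩ := IntermediateField.mem_bot.1 x.2
    have hx : x = algebraMap F (⊥ : IntermediateField F K) r := Subtype.ext hr.symm
    rw [hx]
    simp [g₀]
  have hs' : s ∉ (⊥ : IntermediateField F K) := fun h => hs (IntermediateField.mem_bot.1 h)
  obtain ⟨E', -, g', hsec', -, hsE', hval⟩ :=
    exists_extension' π p hp hKp H ⊥ g₀ hg₀ s hs' c hc
  let L₀ : PSec π := ⟨E'.toSubalgebra, g', hsec'⟩
  obtain ⟨m, hm, hmax⟩ := exists_isMax L₀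
  have htop : m.carrier = ⊤ := by
    by_contra hne
    obtain ⟨t, ht⟩ : ∃ t : K, t ∉ m.carrier := by
      by_contra hall
      push Not at hall
      exact hne (eq_top_iff.2 fun x _ => hall x)
    have hfield : IsField m.carrier := Subalgebra.isField_of_algebraic m.carrier
    set E : IntermediateField F K := m.carrier.toIntermediateField' hfield with hE
    have hEm : E.toSubalgebra = m.carrier := toSubalgebra_toIntermediateField' _ _
    let gE : E →ₐ[F] W := m.emb.comp (Subalgebra.inclusion (le_of_eq hEm))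
    have hgE : ∀ x : E, π (gE x) = x := fun x => m.sec _
    have htE : t ∉ E := fun h => ht (hEm ▸ h)
    obtain ⟨E'', h, g'', hsec'', hcompat, htE''⟩ := exists_extension π p hp hπ hKp H E gE hgE t htE
    let m' : PSec π := ⟨E''.toSubalgebra, g'', hsec''⟩
    have hle : m ≤ m' := by
      refine ⟨fun x hx => h (hEm.symm ▸ hx : x ∈ E.toSubalgebra), fun x => ?_⟩
      have := hcompat ⟨x.1, (hEm.symm ▸ x.2 : x.1 ∈ E.toSubalgebra)⟩
      exact this
    obtain ⟨hle', -⟩ := hmax hle
    exact ht (hle' htE'')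
  refine ⟨m.emb.comp ((Subalgebra.equivOfEq _ _ htop).symm.toAlgHom.comp
    Subalgebra.topEquiv.symm.toAlgHom), fun x => m.sec _, ?_⟩
  obtain ⟨hle, hcomp⟩ := hm
  have := hcomp ⟨s, hsE'⟩
  change m.emb ⟨s, _⟩ = c
  rw [← hval, ← this]
  rfl

end Main2

end Groth.Agent.Lib.Helper5.PSecLib
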