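import Mathlib
import Groth.Agent.Lib.Helper5.FibRegC

/-!
# Helper5 — FibRegD

Global form of the core statement: `A` Noetherian, `I ≤ Q` in `A[X_1..X_N]` with `A[X]/I` flat over
`A`, `p = Q ∩ A`, and `fs ⊆ I` whose reductions modulo `p` generate the reduction of `I` over `κ(p)`
with `dim κ(p)[X]/Ī ≤ N - |fs|`: then `I` is generated by a regular sequence in `A[X]_Q`.
-/

set_option autoImplicit false
universe u

namespace Groth.Agent.Lib.Helper5.FibReg

open RingTheory.Sequence IsLocalRing

attribute [local instance] MvPolynomial.algebraMvPolynomial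

variable {A : Type u} [CommRing A] [IsNoetherianRing A] {N : ℕ}

set_option maxSynthPendingDepth 3 in
theorem exists_regular_localization (I Q : Ideal (MvPolynomial (Fin N) A)) [Q.IsPrime]
    (hIQ : I ≤ Q) (p : Ideal A) [p.IsPrime] (hp : Q.comap MvPolynomial.C = p)
    (fs : List (MvPolynomial (Fin N) A)) (hfs : Ideal.ofList fs ≤ I)
    (hgen : I.map (MvPolynomial.map (algebraMap A p.ResidueField)) ≤
      Ideal.ofList (fs.map (MvPolynomial.map (algebraMap A p.ResidueField))))
    (hlen : fs.length ≤ N)
    (hdim : ringKrullDim (MvPolynomial (Fin N) p.ResidueField ⧸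
      I.map (MvPolynomial.map (algebraMap A p.ResidueField))) ≤ ((N - fs.length : ℕ) : WithBot ℕ∞))
    (hflat : Module.Flat A (MvPolynomial (Fin N) A ⧸ I)) :
    ∃ (R : Type u) (_ : CommRing R) (_ : Algebra (MvPolynomial (Fin N) A) R)
      (_ : IsLocalization.AtPrime R Q) (rs : List R),
      IsWeaklyRegular R rs ∧ I.map (algebraMap (MvPolynomial (Fin N) A) R) = Ideal.ofList rs := by
  let pc : Submonoid (MvPolynomial (Fin N) A) :=
    p.primeCompl.map (MvPolynomial.C : A →+* MvPolynomial (Fin N) A)
  have hlocP : IsLocalization pc (MvPolynomial (Fin N) (Localization.AtPrime p)) :=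
    MvPolynomial.isLocalization p.primeCompl (Localization.AtPrime p)
  have disj : Disjoint (pc : Set (MvPolynomial (Fin N) A)) (Q : Set (MvPolynomial (Fin N) A)) := by
    rw [Set.disjoint_left]
    rintro _ ⟨a, ha, rfl⟩ hQ
    apply ha
    rw [← hp]
    exact hQ
  have hQ'prime : (Q.map (algebraMap (MvPolynomial (Fin N) A)
      (MvPolynomial (Fin N) (Localization.AtPrime p)))).IsPrime :=
    IsLocalization.isPrime_of_isPrime_disjoint pc _ _ ‹_› disj
  have hunder : (Q.map (algebraMap (MvPolynomial (Fin N) A)
      (MvPolynomial (Fin N) (Localization.AtPrime p)))).comap (algebraMap (MvPolynomial (Fin N) A)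
      (MvPolynomial (Fin N) (Localization.AtPrime p))) = Q :=
    IsLocalization.under_map_of_isPrime_disjoint pc _ ‹_› disj
  obtain ⟨Q', hQ'⟩ : ∃ Q' : Ideal (MvPolynomial (Fin N) (Localization.AtPrime p)),
      Q' = Q.map (algebraMap (MvPolynomial (Fin N) A)
        (MvPolynomial (Fin N) (Localization.AtPrime p))) := ⟨_, rfl⟩
  rw [← hQ'] at hQ'prime hunder
  have hlocR : IsLocalization.AtPrime (Localization.AtPrime Q') Q := by
    convert IsLocalization.isLocalization_isLocalization_atPrime_isLocalization pc
      (Localization.AtPrime Q') Q'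
    exact hunder.symm
  have hcomp : (rho (A := Localization.AtPrime p) N).comp (algebraMap (MvPolynomial (Fin N) A)
      (MvPolynomial (Fin N) (Localization.AtPrime p))) =
      MvPolynomial.map (algebraMap A p.ResidueField) := by
    apply MvPolynomial.ringHom_ext
    · intro a
      rw [RingHom.comp_apply, MvPolynomial.algebraMap_def, rho]
      simp only [MvPolynomial.map_C]
      rfl
    · intro i
      rw [RingHom.comp_apply, MvPolynomial.algebraMap_def, rho]
      simp only [MvPolynomial.map_X]
  have hcomp' : ∀ x, rho (A := Localization.AtPrime p) N (algebraMap (MvPolynomial (Fin N) A)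
      (MvPolynomial (Fin N) (Localization.AtPrime p)) x) =
      MvPolynomial.map (algebraMap A p.ResidueField) x := fun x => RingHom.congr_fun hcomp x
  obtain ⟨I', hI'⟩ : ∃ I' : Ideal (MvPolynomial (Fin N) (Localization.AtPrime p)),
      I' = I.map (algebraMap (MvPolynomial (Fin N) A)
        (MvPolynomial (Fin N) (Localization.AtPrime p))) := ⟨_, rfl⟩
  obtain ⟨fs', hfs'⟩ : ∃ fs' : List (MvPolynomial (Fin N) (Localization.AtPrime p)),
      fs' = fs.map (algebraMap (MvPolynomial (Fin N) A)
        (MvPolynomial (Fin N) (Localization.AtPrime p))) := ⟨_, rfl⟩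
  have hImap : I'.map (rho (A := Localization.AtPrime p) N) =
      I.map (MvPolynomial.map (algebraMap A p.ResidueField)) := by
    rw [hI', Ideal.map_map, hcomp]
  have hfsmap : fs'.map (rho (A := Localization.AtPrime p) N) =
      fs.map (MvPolynomial.map (algebraMap A p.ResidueField)) := by
    rw [hfs', List.map_map]
    apply List.map_congr_left
    intro x _
    exact hcomp' x
  have h1 : I' ≤ Q' := by rw [hI', hQ']; exact Ideal.map_mono hIQ
  have h2 : RingHom.ker (rho (A := Localization.AtPrime p) N) ≤ Q' := by
    rw [ker_rho, ← Localization.AtPrime.map_eq_maximalIdeal, Ideal.map_map]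
    have hc : (MvPolynomial.C : Localization.AtPrime p →+* MvPolynomial (Fin N) (Localization.AtPrime p)).comp
        (algebraMap A (Localization.AtPrime p)) =
        (algebraMap (MvPolynomial (Fin N) A) (MvPolynomial (Fin N) (Localization.AtPrime p))).comp
          (MvPolynomial.C : A →+* MvPolynomial (Fin N) A) := by
      ext a
      rw [RingHom.comp_apply, RingHom.comp_apply, MvPolynomial.algebraMap_def, MvPolynomial.map_C]
    rw [hc, ← Ideal.map_map, hQ']
    apply Ideal.map_mono
    rw [Ideal.map_le_iff_le_comap, hp]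
  have h3 : Ideal.ofList fs' ≤ I' := by
    rw [hfs', ← Ideal.map_ofList, hI']
    exact Ideal.map_mono hfs
  have h4 : I'.map (rho (A := Localization.AtPrime p) N) ≤
      Ideal.ofList (fs'.map (rho (A := Localization.AtPrime p) N)) := by
    rw [hImap, hfsmap]; exact hgen
  have h5 : fs'.length ≤ N := by rw [hfs', List.length_map]; exact hlen
  have h6 : ringKrullDim (MvPolynomial (Fin N) (ResidueField (Localization.AtPrime p)) ⧸
      I'.map (rho (A := Localization.AtPrime p) N)) ≤ ((N - fs'.length : ℕ) : WithBot ℕ∞) := by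
    rw [hImap, hfs', List.length_map]; exact hdim
  have hIR : I'.map (algebraMap (MvPolynomial (Fin N) (Localization.AtPrime p))
      (Localization.AtPrime Q')) =
      I.map (algebraMap (MvPolynomial (Fin N) A) (Localization.AtPrime Q')) := by
    rw [hI', Ideal.map_map, ← IsScalarTower.algebraMap_eq]
  have h7 : Module.Flat (Localization.AtPrime p) (Localization.AtPrime Q' ⧸
      (I'.map (algebraMap (MvPolynomial (Fin N) (Localization.AtPrime p))
        (Localization.AtPrime Q')) : Ideal (Localization.AtPrime Q'))) := by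
    rw [hIR]
    have e1 : Module.Flat (MvPolynomial (Fin N) A ⧸ I) (Localization.AtPrime Q' ⧸
        I.map (algebraMap (MvPolynomial (Fin N) A) (Localization.AtPrime Q'))) :=
      IsLocalization.flat _ (Algebra.algebraMapSubmonoid (MvPolynomial (Fin N) A ⧸ I) Q.primeCompl)
    have hst : IsScalarTower A (MvPolynomial (Fin N) A) (Localization.AtPrime Q') := inferInstance
    have hst' : IsScalarTower A (MvPolynomial (Fin N) A ⧸ I) (Localization.AtPrime Q' ⧸
        I.map (algebraMap (MvPolynomial (Fin N) A) (Localization.AtPrime Q'))) := by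
      refine IsScalarTower.of_algebraMap_eq fun a => ?_
      rw [← Ideal.Quotient.mk_algebraMap, ← Ideal.Quotient.mk_algebraMap,
        Ideal.Quotient.algebraMap_quotient_map_quotient,
        ← IsScalarTower.algebraMap_apply A (MvPolynomial (Fin N) A) (Localization.AtPrime Q')]
    have e2 : Module.Flat A (Localization.AtPrime Q' ⧸
        I.map (algebraMap (MvPolynomial (Fin N) A) (Localization.AtPrime Q'))) :=
      Module.Flat.trans A (MvPolynomial (Fin N) A ⧸ I) _
    exact (Module.flat_iff_of_isLocalization (Localization.AtPrime p) p.primeCompl _).2 e2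
  obtain ⟨hreg, hgenR⟩ := core I' Q' h1 h2 fs' h3 h4 h5 h6 h7
  exact ⟨Localization.AtPrime Q', inferInstance, inferInstance, hlocR, _, hreg, by rw [← hIR, hgenR]⟩

end Groth.Agent.Lib.Helper5.FibReg
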