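import Mathlib
import Groth.Agent.Lib.Helper5.RelGCIU

/-!
# Helper5 — RelGCIV

Quasi-finite syntomic algebras are locally presented by as many equations as variables.
-/

set_option autoImplicit false
universe u

namespace Groth.Agent.Lib.Helper5.RelGCI

open Synt TensorProduct

section QuasiFinite

variable {A B : Type u} [CommRing A] [CommRing B] [Algebra A B]

theorem ringKrullDim_eq_zero_of_isArtinianRing (T : Type u) [CommRing T] [IsArtinianRing T]
    [Nontrivial T] : ringKrullDim T = 0 := by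
  have h0 : Ring.KrullDimLE 0 T :=
    Ring.KrullDimLE.mk₀ fun I hI => IsArtinianRing.isMaximal_of_isPrime I
  exact ringKrullDimZero_iff_ringKrullDim_eq_zero.1 h0

theorem eq_of_isRelGCI_of_quasiFinite (n c : ℕ) (F : Fin c → MvPolynomial (Fin n) A)
    (hF : IsRelGCI A n c F) [Algebra.QuasiFinite A (RelGCIRing A n c F)]
    (q : Ideal (RelGCIRing A n c F)) [hq : q.IsPrime] : c = n := by
  obtain ⟨Q, hQp, -⟩ := Groth.Agent.Lib.Helper21.FlatLocal.exists_fiber_prime (q.under A) q rfl
  have hnt : Nontrivial ((q.under A).Fiber (RelGCIRing A n c F)) :=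
    (⟨Q, hQp⟩ : PrimeSpectrum _).nontrivial
  obtain ⟨hcn, hdim⟩ := hF ⟨q.under A, inferInstance⟩ hnt
  have hart : IsArtinianRing ((q.under A).Fiber (RelGCIRing A n c F)) := inferInstance
  have h1 : ringKrullDim ((q.under A).Fiber (RelGCIRing A n c F)) = 0 :=
    ringKrullDim_eq_zero_of_isArtinianRing ((q.under A).Fiber (RelGCIRing A n c F))
  rw [h1] at hdim
  have h2 : ((n - c : ℕ) : WithBot ℕ∞) = ((0 : ℕ) : WithBot ℕ∞) := by
    rw [← hdim]; rfl
  have h3 : n - c = 0 := by exact_mod_cast h2
  omega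

theorem exists_square_presentation_of_isSyntomic [Algebra.QuasiFinite A B]
    (h : IsSyntomic A B) (q : Ideal B) [hq : q.IsPrime] :
    ∃ g : B, g ∉ q ∧ ∃ (n : ℕ) (f : Fin n → MvPolynomial (Fin n) A),
      Nonempty (Localization.Away g ≃ₐ[A]
        (MvPolynomial (Fin n) A ⧸ Ideal.span (Set.range f))) := by
  obtain ⟨g, hg, n, c, F, hF, ⟨e⟩⟩ := exists_relGCI_nhd_of_isSyntomic h q
  have hqf : Algebra.QuasiFinite A (RelGCIRing A n c F) :=
    (Algebra.QuasiFinite.iff_of_algEquiv e).1 inferInstance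
  have hdisj : Disjoint (Submonoid.powers g : Set B) (q : Set B) := by
    rw [Set.disjoint_left]
    rintro _ ⟨m, rfl⟩ hm
    exact hg (hq.mem_of_pow_mem m hm)
  have hqTp : (q.map (algebraMap B (Localization.Away g))).IsPrime :=
    IsLocalization.isPrime_of_isPrime_disjoint (Submonoid.powers g) _ q hq hdisj
  have hq' : ((q.map (algebraMap B (Localization.Away g))).comap
      (e.symm : RelGCIRing A n c F →+* Localization.Away g)).IsPrime := Ideal.comap_isPrime _ _
  have hcn := eq_of_isRelGCI_of_quasiFinite n c F hF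
    ((q.map (algebraMap B (Localization.Away g))).comap
      (e.symm : RelGCIRing A n c F →+* Localization.Away g))
  subst hcn
  exact ⟨g, hg, c, F, ⟨e⟩⟩

end QuasiFinite

end Groth.Agent.Lib.Helper5.RelGCI
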