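import Mathlib
import Groth.Prelude.Def_RegImm
import Groth.Agent.Lib.Helper5.CIFieldI
import Groth.Agent.Lib.Helper5.CIFieldA
import Groth.Agent.Lib.Helper5.RelGCIV
import Groth.Agent.Lib.Helper25.StdSmoothDim

set_option autoImplicit false
universe u

namespace Groth.Agent.Lib.Helper5.FinSynt

open RingTheory.Sequence IsLocalRing MvPolynomial Groth.Agent.Lib.Helper5.CIField

section Field

variable {K S : Type u} [Field K] [CommRing S] [Algebra K S] {n : ℕ}
  (γ : MvPolynomial (Fin n) K →ₐ[K] S)

/-- in the local ring of affine space at a closed point of a zero-dimensional complete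
intersection, the defining ideal is generated by `n` elements of the global ideal. -/
theorem exists_local_generators (hγ : Function.Surjective γ) [IsArtinianRing S]
    (hS : Synt.IsLCIOver K S) (q : Ideal S) [hq : q.IsPrime]
    (q' : Ideal (MvPolynomial (Fin n) K)) [hq'p : q'.IsPrime] (hq' : q' = q.comap γ.toRingHom) :
    ∃ f : Fin n → MvPolynomial (Fin n) K, (∀ l, f l ∈ RingHom.ker γ.toRingHom) ∧
      (RingHom.ker γ.toRingHom).map (algebraMap _ (Localization.AtPrime q')) =
        (Ideal.span (Set.range f)).map (algebraMap _ (Localization.AtPrime q')) := by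
  have hqmax : q.IsMaximal := IsArtinianRing.isMaximal_of_isPrime q
  have hq'max : q'.IsMaximal := by
    rw [hq']
    exact Ideal.comap_isMaximal_of_surjective γ.toRingHom hγ
  obtain ⟨g, hg, hgci⟩ := hS.2 ⟨q, hq⟩
  have hCI : Synt.IsCIOver K (Localization.AtPrime q) :=
    (isCIOver_atPrime_iff_exists_away γ q q' hq' hγ).2 ⟨g, hg, hgci⟩
  obtain ⟨rs, hrs, hsp⟩ := (isCIOver_atPrime_iff_regular γ q q' hq' hγ).1 hCI
  -- dimension count
  have hb : ringKrullDim (Localization.AtPrime q') = (n : WithBot ℕ∞) := by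
    rw [IsLocalization.AtPrime.ringKrullDim_eq_height q',
      Groth.Agent.Lib.Helper25.StdSmoothDim.height_eq_of_isMaximal_mvPolynomial K n q']
    rfl
  have ha : ringKrullDim (Localization.AtPrime q' ⧸ Ideal.ofList rs) = ((0 : ℕ) : WithBot ℕ∞) := by
    have hsurj := locHom_surjective γ q q' hq' hγ
    have hker := ker_locHom γ q q' hq' hγ
    rw [← hsp] at hker
    let e : (Localization.AtPrime q' ⧸ Ideal.ofList rs) ≃+* Localization.AtPrime q :=
      (Ideal.quotEquivOfEq hker.symm).trans
        (RingHom.quotientKerEquivOfSurjective (f := (locHom γ q q' hq').toRingHom) hsurj)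
    rw [ringKrullDim_eq_of_ringEquiv e]
    exact Groth.Agent.Lib.Helper5.RelGCI.ringKrullDim_eq_zero_of_isArtinianRing _
  have hlen : rs.length = n := by
    have := length_of_isRegular rs hrs 0 n ha hb
    omega
  have hex : ∀ l : Fin n, ∃ a : MvPolynomial (Fin n) K, a ∈ RingHom.ker γ.toRingHom ∧
      ∃ t : q'.primeCompl, rs.get (Fin.cast hlen.symm l) *
        algebraMap _ (Localization.AtPrime q') (t : MvPolynomial (Fin n) K) =
          algebraMap _ (Localization.AtPrime q') a := by
    intro l
    have hmem : rs.get (Fin.cast hlen.symm l) ∈ (RingHom.ker γ.toRingHom).map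
        (algebraMap _ (Localization.AtPrime q')) := by
      rw [← hsp]
      exact Ideal.subset_span (List.get_mem _ _)
    rw [IsLocalization.mem_map_algebraMap_iff q'.primeCompl] at hmem
    obtain ⟨⟨a, t⟩, hat⟩ := hmem
    exact ⟨a.1, a.2, t, hat⟩
  choose f hfker t hft using hex
  refine ⟨f, hfker, ?_⟩
  rw [← hsp, Ideal.map_span, ← Set.range_comp]
  apply le_antisymm
  · unfold Ideal.ofList
    rw [Ideal.span_le]
    intro r hr
    obtain ⟨i, rfl⟩ := List.mem_iff_get.1 hr
    obtain ⟨l, rfl⟩ : ∃ l : Fin n, i = Fin.cast hlen.symm l := ⟨Fin.cast hlen i, by simp⟩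
    have hu : IsUnit (algebraMap _ (Localization.AtPrime q') ((t l : MvPolynomial (Fin n) K))) :=
      IsLocalization.map_units _ (t l)
    have h1 : rs.get (Fin.cast hlen.symm l) =
        algebraMap _ (Localization.AtPrime q') (f l) * ((hu.unit⁻¹ : (Localization.AtPrime q')ˣ) :
          Localization.AtPrime q') := by
      rw [← hft l, mul_assoc, IsUnit.mul_val_inv, mul_one]
    rw [SetLike.mem_coe, h1]
    exact Ideal.mul_mem_right _ _ (Ideal.subset_span ⟨l, rfl⟩)
  · rw [Ideal.span_le]
    rintro _ ⟨l, rfl⟩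
    rw [Function.comp_apply, ← hft l]
    exact Ideal.mul_mem_right _ _ (Ideal.subset_span (List.get_mem _ _))

end Field

end Groth.Agent.Lib.Helper5.FinSynt
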