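import Mathlib

set_option autoImplicit false
universe u

namespace Groth.Agent.Lib.Helper5.FinSynt

open IsLocalRing

/-- an ideal with Artinian quotient, locally generated by `n` of its elements at each of its
(finitely many, maximal) primes, is generated by `n` elements modulo its square. -/
theorem exists_global_generators {P : Type u} [CommRing P] (I : Ideal P) (hI : I.FG) (n : ℕ)
    [IsArtinianRing (P ⧸ I)]
    (hloc : ∀ (Q : Ideal P) [Q.IsPrime], I ≤ Q → ∃ f : Fin n → P, (∀ l, f l ∈ I) ∧
        I.map (algebraMap P (Localization.AtPrime Q)) =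
          (Ideal.span (Set.range f)).map (algebraMap P (Localization.AtPrime Q))) :
    ∃ f : Fin n → P, (∀ l, f l ∈ I) ∧ I ≤ Ideal.span (Set.range f) ⊔ I * I := by
  classical
  let ι := PrimeSpectrum (P ⧸ I)
  have : Fintype ι := Fintype.ofFinite ι
  let Q : ι → Ideal P := fun i => i.asIdeal.comap (Ideal.Quotient.mk I)
  have hQmax : ∀ i, (Q i).IsMaximal := fun i => by
    have : i.asIdeal.IsMaximal := IsArtinianRing.isMaximal_of_isPrime i.asIdeal
    exact Ideal.comap_isMaximal_of_surjective _ Ideal.Quotient.mk_surjective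
  have hQp : ∀ i, (Q i).IsPrime := fun i => (hQmax i).isPrime
  have hIQ : ∀ i, I ≤ Q i := fun i x hx => by
    change Ideal.Quotient.mk I x ∈ i.asIdeal
    rw [Ideal.Quotient.eq_zero_iff_mem.2 hx]
    exact Ideal.zero_mem _
  have hQinj : ∀ i j, Q i = Q j → i = j := fun i j h => by
    apply PrimeSpectrum.ext
    exact Ideal.comap_injective_of_surjective _ Ideal.Quotient.mk_surjective h
  have hcop : Pairwise (Function.onFun IsCoprime Q) := fun i j hij => by
    rw [Function.onFun, Ideal.isCoprime_iff_sup_eq]
    exact Ideal.IsMaximal.coprime_of_ne (hQmax i) (hQmax j) (fun h => hij (hQinj i j h))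
  have hall : ∀ (Pm : Ideal P) [Pm.IsPrime], I ≤ Pm → ∃ i, Q i = Pm := by
    intro Pm hPm hle
    have hker : RingHom.ker (Ideal.Quotient.mk I) ≤ Pm := by rwa [Ideal.mk_ker]
    have hp : (Pm.map (Ideal.Quotient.mk I)).IsPrime :=
      Ideal.map_isPrime_of_surjective Ideal.Quotient.mk_surjective hker
    refine ⟨⟨Pm.map (Ideal.Quotient.mk I), hp⟩, ?_⟩
    change (Pm.map (Ideal.Quotient.mk I)).comap (Ideal.Quotient.mk I) = Pm
    rw [Ideal.comap_map_of_surjective _ Ideal.Quotient.mk_surjective, ← RingHom.ker_eq_comap_bot,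
      sup_eq_left.2 hker]
  choose fl hflI hfl using fun i => hloc (Q i) (hIQ i)
  choose e he using fun i => Ideal.exists_forall_sub_mem_ideal hcop (Pi.single i (1 : P))
  let f : Fin n → P := fun l => ∑ i, e i * fl i l
  have hfI : ∀ l, f l ∈ I := fun l =>
    Ideal.sum_mem _ fun i _ => Ideal.mul_mem_left _ _ (hflI i l)
  refine ⟨f, hfI, ?_⟩
  have hlocal : ∀ i, I.map (algebraMap P (Localization.AtPrime (Q i))) ≤
      (Ideal.span (Set.range f)).map (algebraMap P (Localization.AtPrime (Q i))) := by
    intro i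
    have hfg : (I.map (algebraMap P (Localization.AtPrime (Q i)))).FG := hI.map _
    refine Submodule.le_of_le_smul_of_le_jacobson_bot (I := maximalIdeal (Localization.AtPrime (Q i)))
      hfg (IsLocalRing.jacobson_eq_maximalIdeal ⊥ bot_ne_top).ge ?_
    have hdiff : ∀ l, fl i l - f l ∈ Q i * I := by
      intro l
      have h1 : fl i l - f l = (1 - e i) * fl i l - ∑ j ∈ Finset.univ.erase i, e j * fl j l := by
        simp only [f]
        rw [← Finset.add_sum_erase _ _ (Finset.mem_univ i)]
        ring
      rw [h1]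
      refine Ideal.sub_mem _ (Ideal.mul_mem_mul ?_ (hflI i l)) (Ideal.sum_mem _ fun j hj => ?_)
      · have := he i i
        rw [Pi.single_eq_same] at this
        have h2 : 1 - e i = -(e i - 1) := by ring
        rw [h2]
        exact Ideal.neg_mem_iff _ |>.2 this
      · have hne : j ≠ i := (Finset.mem_erase.1 hj).1
        have := he j i
        rw [Pi.single_eq_of_ne hne.symm, sub_zero] at this
        exact Ideal.mul_mem_mul this (hflI j l)
    refine (hfl i).le.trans ?_
    rw [Ideal.map_span, Ideal.span_le]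
    rintro _ ⟨_, ⟨l, rfl⟩, rfl⟩
    have h3 : algebraMap P (Localization.AtPrime (Q i)) (fl i l) =
        algebraMap P _ (f l) + algebraMap P _ (fl i l - f l) := by
      rw [← map_add]; congr 1; ring
    rw [SetLike.mem_coe, h3]
    refine Submodule.add_mem_sup (Ideal.mem_map_of_mem _ (Ideal.subset_span ⟨l, rfl⟩)) ?_
    have h4 : algebraMap P (Localization.AtPrime (Q i)) (fl i l - f l) ∈
        (Q i * I).map (algebraMap P (Localization.AtPrime (Q i))) :=
      Ideal.mem_map_of_mem _ (hdiff l)
    rw [Ideal.map_mul, Localization.AtPrime.map_eq_maximalIdeal] at h4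
    exact h4
  apply Ideal.le_of_localization_maximal
  intro Pm hPm
  by_cases hle : I ≤ Pm
  · obtain ⟨i, rfl⟩ := hall Pm hle
    exact (hlocal i).trans (Ideal.map_mono le_sup_left)
  · have htop : I.map (algebraMap P (Localization.AtPrime Pm)) = ⊤ :=
      IsLocalization.AtPrime.map_eq_top_of_not_le _ hle
    rw [Ideal.map_sup, Ideal.map_mul, htop]
    simp

end Groth.Agent.Lib.Helper5.FinSynt
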