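import Mathlib

set_option autoImplicit false
universe u

namespace Groth.Agent.Lib.Helper5.FinSynt

open scoped Pointwise

/-- lifting generators modulo the square along a surjection whose kernel meets `I` in
`ker • I`, followed by Nakayama. -/
theorem exists_lift_generators {P P' : Type u} [CommRing P] [CommRing P'] (μ : P →+* P')
    (hμ : Function.Surjective μ) (I : Ideal P) (hI : I.FG)
    (hflat : I ⊓ RingHom.ker μ ≤ RingHom.ker μ * I) (n : ℕ) (f : Fin n → P')
    (hf : ∀ l, f l ∈ I.map μ)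
    (hgen : I.map μ ≤ Ideal.span (Set.range f) ⊔ I.map μ * I.map μ) :
    ∃ (F : Fin n → P) (h : P), (∀ l, F l ∈ I) ∧ h - 1 ∈ I ⊔ RingHom.ker μ ∧
      ∀ x ∈ I, h * x ∈ Ideal.span (Set.range F) := by
  choose F hFI hFf using fun l => (Ideal.mem_map_iff_of_surjective μ hμ).1 (hf l)
  have hJI : Ideal.span (Set.range F) ≤ I := by
    rw [Ideal.span_le]
    rintro _ ⟨l, rfl⟩
    exact hFI l
  have hmap : Ideal.span (Set.range f) ⊔ I.map μ * I.map μ =
      (Ideal.span (Set.range F) ⊔ I * I).map μ := by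
    rw [Ideal.map_sup, Ideal.map_mul, Ideal.map_span, ← Set.range_comp]
    congr 3
    funext l
    exact (hFf l).symm
  have key : I ≤ Ideal.span (Set.range F) ⊔ (I ⊔ RingHom.ker μ) • I := by
    intro x hx
    have h1 : μ x ∈ (Ideal.span (Set.range F) ⊔ I * I).map μ := by
      rw [← hmap]
      exact hgen (Ideal.mem_map_of_mem μ hx)
    obtain ⟨y, hy, hyx⟩ := (Ideal.mem_map_iff_of_surjective μ hμ).1 h1
    have hyI : y ∈ I := (sup_le hJI Ideal.mul_le_left) hy
    have h2 : x - y ∈ RingHom.ker μ * I := by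
      refine hflat ⟨I.sub_mem hx hyI, ?_⟩
      change x - y ∈ RingHom.ker μ
      rw [RingHom.mem_ker, map_sub, hyx, sub_self]
    have h3 : x = y + (x - y) := by ring
    rw [h3]
    refine Ideal.add_mem _ ?_ ?_
    · have hle : Ideal.span (Set.range F) ⊔ I * I ≤
          Ideal.span (Set.range F) ⊔ (I ⊔ RingHom.ker μ) • I :=
        sup_le_sup_left (Ideal.mul_mono_left le_sup_left) _
      exact hle hy
    · have hle : RingHom.ker μ * I ≤ Ideal.span (Set.range F) ⊔ (I ⊔ RingHom.ker μ) • I :=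
        le_trans (Ideal.mul_mono_left le_sup_right) le_sup_right
      exact hle h2
  obtain ⟨r, hr1, hr2⟩ := Submodule.exists_sub_one_mem_and_smul_le_of_fg_of_le_sup
    (I := I ⊔ RingHom.ker μ) (N := Ideal.span (Set.range F)) (N' := I) (P := I) hI le_rfl key
  refine ⟨F, r, hFI, hr1, fun x hx => ?_⟩
  have := hr2 (Submodule.smul_mem_pointwise_smul x r I hx)
  simpa [smul_eq_mul] using this

end Groth.Agent.Lib.Helper5.FinSynt
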