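import Mathlib
import Groth.Prelude.Def_RegImm
import Groth.Agent.Lib.Helper5.FinSyntA
import Groth.Agent.Lib.Helper5.FinSyntB
import Groth.Agent.Lib.Helper5.FinSyntC
import Groth.Agent.Lib.Helper5.RelGCIP
import Groth.Agent.Lib.Helper5.RelGCIO
import Groth.Agent.Lib.Helper5.RelGCIQ
import Groth.Agent.Lib.Helper5.RelGCII
import Groth.Agent.Lib.Helper5.RelGCID
import Groth.Agent.Lib.Helper25.SyntLocal

set_option autoImplicit false
universe u

namespace Groth.Agent.Lib.Helper5.FinSynt

open IsLocalRing MvPolynomial TensorProduct Groth.Agent.Lib.Helper5.SyntPres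
  Groth.Agent.Lib.Helper5.RelGCI

theorem isUnit_of_sub_one_mem_map_maximalIdeal {A B : Type u} [CommRing A] [IsLocalRing A]
    [CommRing B] [Algebra A B] [Module.Finite A B] (b : B)
    (hb : b - 1 ∈ (maximalIdeal A).map (algebraMap A B)) : IsUnit b := by
  by_contra hnu
  obtain ⟨M, hM, hbM⟩ := exists_max_ideal_of_mem_nonunits hnu
  have hmax : (M.comap (algebraMap A B)).IsMaximal :=
    Ideal.isMaximal_comap_of_isIntegral_of_isMaximal M
  have h1 : M.comap (algebraMap A B) = maximalIdeal A := IsLocalRing.eq_maximalIdeal hmax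
  have h2 : (maximalIdeal A).map (algebraMap A B) ≤ M := by
    rw [← h1]; exact Ideal.map_comap_le
  have h3 : (1 : B) ∈ M := by
    have := M.sub_mem hbM (h2 hb)
    simpa using this
  exact hM.ne_top ((Ideal.eq_top_iff_one _).2 h3)

theorem exists_square_presentation (A B : Type u) [CommRing A] [IsLocalRing A] [CommRing B]
    [Algebra A B] [Module.Finite A B] (h : Synt.IsSyntomic A B) :
    ∃ (n : ℕ) (F : Fin n → MvPolynomial (Fin n) A),
      Nonempty (B ≃ₐ[A] Synt.RelGCIRing A n n F) := by
  obtain ⟨hflat, hfp, hfib⟩ := h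
  have hft : Algebra.FiniteType A B := Algebra.FiniteType.of_finitePresentation
  obtain ⟨n, Ψ, hΨ⟩ := Algebra.FiniteType.iff_quotient_mvPolynomial''.1 hft
  have hIfg : (RingHom.ker Ψ.toRingHom).FG :=
    Algebra.FinitePresentation.ker_fG_of_surjective Ψ hΨ
  have hS : Synt.IsLCIOver (maximalIdeal A).ResidueField ((maximalIdeal A).Fiber B) :=
    hfib ⟨maximalIdeal A, inferInstance⟩
  obtain ⟨γ, hγ, hker⟩ : ∃ γ : MvPolynomial (Fin n) (maximalIdeal A).ResidueField →ₐ[
      (maximalIdeal A).ResidueField] (maximalIdeal A).Fiber B, Function.Surjective γ ∧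
      RingHom.ker γ.toRingHom =
        (RingHom.ker Ψ.toRingHom).map
          (MvPolynomial.map (algebraMap A (maximalIdeal A).ResidueField)) :=
    ⟨fibHom _ Ψ, fibHom_surjective _ Ψ hΨ, ker_fibHom _ Ψ hΨ⟩
  have hartS : IsArtinianRing ((maximalIdeal A).Fiber B) :=
    IsArtinianRing.of_finite (maximalIdeal A).ResidueField _
  have hart : IsArtinianRing (MvPolynomial (Fin n) (maximalIdeal A).ResidueField ⧸
      RingHom.ker γ.toRingHom) :=
    (RingHom.quotientKerEquivOfSurjective (f := γ.toRingHom) hγ).symm.isArtinianRing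
  have hloc : ∀ (Q : Ideal (MvPolynomial (Fin n) (maximalIdeal A).ResidueField)) [Q.IsPrime],
      RingHom.ker γ.toRingHom ≤ Q →
      ∃ f : Fin n → MvPolynomial (Fin n) (maximalIdeal A).ResidueField,
        (∀ l, f l ∈ RingHom.ker γ.toRingHom) ∧
        (RingHom.ker γ.toRingHom).map (algebraMap _ (Localization.AtPrime Q)) =
          (Ideal.span (Set.range f)).map (algebraMap _ (Localization.AtPrime Q)) := by
    intro Q hQ hle
    have hqp : (Q.map γ.toRingHom).IsPrime :=
      Ideal.map_isPrime_of_surjective (f := γ.toRingHom) hγ hle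
    have hqQ : Q = (Q.map γ.toRingHom).comap γ.toRingHom := by
      rw [Ideal.comap_map_of_surjective γ.toRingHom hγ, ← RingHom.ker_eq_comap_bot,
        sup_eq_left.2 hle]
    exact exists_local_generators γ hγ hS (Q.map γ.toRingHom) Q hqQ
  have hKfg : (RingHom.ker γ.toRingHom).FG := by
    rw [hker]; exact hIfg.map _
  obtain ⟨fbar, hfbar, hgen⟩ := exists_global_generators (RingHom.ker γ.toRingHom) hKfg n hloc
  rw [hker] at hfbar hgen
  have hflatq : Module.Flat A (MvPolynomial (Fin n) A ⧸ RingHom.ker Ψ.toRingHom) :=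
    Module.Flat.of_linearEquiv (Ideal.quotientKerAlgEquivOfSurjective hΨ).toLinearEquiv
  have hμ : Function.Surjective (MvPolynomial.map (σ := Fin n)
      (algebraMap A (maximalIdeal A).ResidueField)) :=
    MvPolynomial.map_surjective _ (Ideal.algebraMap_residueField_surjective _)
  have hkerμ : RingHom.ker (MvPolynomial.map (σ := Fin n)
      (algebraMap A (maximalIdeal A).ResidueField)) =
      (maximalIdeal A).map (algebraMap A (MvPolynomial (Fin n) A)) := by
    rw [MvPolynomial.ker_map, Ideal.ker_algebraMap_residueField]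
    rfl
  have hinf := inf_map_le_mul_of_flat_quotient (RingHom.ker Ψ.toRingHom) (maximalIdeal A)
  obtain ⟨F, h, hFI, hh1, hhI⟩ := exists_lift_generators _ hμ (RingHom.ker Ψ.toRingHom) hIfg
    (by rw [hkerμ]; exact hinf) n fbar hfbar hgen
  have hunit : IsUnit (Ψ h) := by
    apply isUnit_of_sub_one_mem_map_maximalIdeal (A := A)
    rw [hkerμ] at hh1
    obtain ⟨i, hi, ν, hν, hsum⟩ := Submodule.mem_sup.1 hh1
    have h1 : Ψ h - 1 = Ψ ν := by
      have h2 : Ψ (h - 1) = Ψ i + Ψ ν := by rw [← hsum, map_add]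
      have h3 : Ψ i = 0 := hi
      rw [map_sub, map_one, h3, zero_add] at h2
      exact h2
    rw [h1]
    have h4 : (maximalIdeal A).map (algebraMap A B) =
        ((maximalIdeal A).map (algebraMap A (MvPolynomial (Fin n) A))).map Ψ.toRingHom := by
      rw [Ideal.map_map]
      congr 1
      ext a
      simp
    rw [h4]
    exact Ideal.mem_map_of_mem _ hν
  have hJ : ∀ a ∈ Ideal.span (Set.range F), Ψ a = 0 := by
    intro a ha
    have hle : Ideal.span (Set.range F) ≤ RingHom.ker Ψ.toRingHom := by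
      rw [Ideal.span_le]
      rintro _ ⟨l, rfl⟩
      exact hFI l
    exact hle ha
  obtain ⟨e2⟩ := nonempty_away_equiv_of_surjective Ψ hΨ (Ideal.span (Set.range F)) hJ h 1
    (fun a ha => hhI a ha)
  rw [mul_one] at e2
  have hle : Submonoid.powers (Ψ h) ≤ IsUnit.submonoid B := by
    rintro _ ⟨k, rfl⟩
    exact hunit.pow k
  let e1 : B ≃ₐ[A] Localization.Away (Ψ h) :=
    (IsLocalization.atUnits B (Submonoid.powers (Ψ h)) hle).restrictScalars A
  exact ⟨n + 1, extF A n n F h, ⟨(e1.trans e2).trans (awayEquiv A n n F h)⟩⟩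

theorem isSyntomic_of_square_presentation (A B : Type u) [CommRing A] [CommRing B] [Algebra A B]
    [Module.Finite A B] (n : ℕ) (F : Fin n → MvPolynomial (Fin n) A)
    (e : B ≃ₐ[A] Synt.RelGCIRing A n n F) : Synt.IsSyntomic A B := by
  have hfin : Module.Finite A (Synt.RelGCIRing A n n F) := Module.Finite.equiv e.toLinearEquiv
  have hF : Synt.IsRelGCI A n n F := by
    intro p hnt
    refine ⟨le_rfl, ?_⟩
    have hart : IsArtinianRing (p.asIdeal.Fiber (Synt.RelGCIRing A n n F)) :=
      IsArtinianRing.of_finite p.asIdeal.ResidueField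
        (p.asIdeal.Fiber (Synt.RelGCIRing A n n F))
    rw [Nat.sub_self]
    exact ringKrullDim_eq_zero_of_isArtinianRing
      (p.asIdeal.Fiber (Synt.RelGCIRing A n n F))
  exact Groth.Agent.Lib.Helper25.SyntLocal.isSyntomic_of_algEquiv e.symm
    (isSyntomic_of_isRelGCI A n n F hF)

end Groth.Agent.Lib.Helper5.FinSynt
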