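import Groth.Agent.Lib.Helper29.FPDict
import Groth.Agent.Lib.Helper23.Fitting7
import Groth.Agent.Lib.Helper28.FinType
import Groth.Prelude.Def_Fitting

set_option autoImplicit false
universe u v w
open CategoryTheory CategoryTheory.Limits AlgebraicGeometry Opposite TopologicalSpace
open AlgebraicGeometry.Scheme.Modules

namespace Groth.Agent.Lib.Helper5.FittSheaf

open Groth.Agent.Lib.Helper28.QCohLoc Groth.Agent.Lib.Helper28.FinType
open Groth.Agent.Lib.Helper29.FPDict

theorem ideal_of_isBaseChange {R : Type u} [CommRing R] {M : Type v} [AddCommGroup M] [Module R M]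
    {R' : Type u} [CommRing R'] [Algebra R R'] {M' : Type v} [AddCommGroup M'] [Module R M']
    [Module R' M'] [IsScalarTower R R' M'] (f : M →ₗ[R] M') (hf : IsBaseChange R' f)
    [Module.Finite R M] (k : ℕ) :
    Fitt.ideal R' M' k = (Fitt.ideal R M k).map (algebraMap R R') := by
  rw [← Helper23.Fit.ideal_baseChange (R' := R') (M := M) k]
  exact (Helper23.Fit.ideal_congr hf.equiv k).symm

variable {X : Scheme.{u}} (M : X.Modules)

theorem fitt_basicOpen {U : X.Opens} (hU : IsAffineOpen U) (h : IsLocOn M U) (g : Γ(X, U))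
    [Module.Finite Γ(X, U) Γ(M, U)] (k : ℕ) :
    Fitt.ideal Γ(X, X.basicOpen g) Γ(M, X.basicOpen g) k =
      (Fitt.ideal Γ(X, U) Γ(M, U) k).map (algebraMap Γ(X, U) Γ(X, X.basicOpen g)) := by
  let _ := modBasicOpen M g
  have := isScalarTower_basicOpen M g
  have := isLocalizedModule_resLin h g
  have : IsLocalization (Submonoid.powers g) Γ(X, X.basicOpen g) := hU.isLocalization_basicOpen g
  exact ideal_of_isBaseChange (resLin M g)
    (IsLocalizedModule.isBaseChange (Submonoid.powers g) Γ(X, X.basicOpen g) (resLin M g)) k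

/-- the Fitting ideals of a quasi-coherent module of finite type form a quasi-coherent ideal sheaf -/
noncomputable def fittData [M.IsQuasicoherent]
    [SheafOfModules.IsFiniteType.{u} (R := X.ringCatSheaf) M] (k : ℕ) : X.IdealSheafData where
  ideal U := Fitt.ideal Γ(X, U.1) Γ(M, U.1) k
  map_ideal_basicOpen U f := by
    have := finite_of_isAffineOpen M U.2
    exact (fitt_basicOpen M U.2 (isLocOn_of_isQuasicoherent M U.2) f k).symm

theorem sheafIdeal_eq [M.IsQuasicoherent]
    [SheafOfModules.IsFiniteType.{u} (R := X.ringCatSheaf) M] (k : ℕ) :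
    Fitt.sheafIdeal M k = fittData M k :=
  Scheme.IdealSheafData.ofIdeals_ideal (fittData M k)

theorem sheafIdeal_ideal [M.IsQuasicoherent]
    [SheafOfModules.IsFiniteType.{u} (R := X.ringCatSheaf) M] (k : ℕ) (U : X.affineOpens) :
    (Fitt.sheafIdeal M k).ideal U = Fitt.ideal Γ(X, U.1) Γ(M, U.1) k := by
  rw [sheafIdeal_eq]
  rfl

end Groth.Agent.Lib.Helper5.FittSheaf
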