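import Groth.Agent.Lib.Helper5.FittSheaf
import Groth.Agent.Lib.Helper7.AffinePoints
import Groth.Agent.Lib.Helper23.Fitting8

set_option autoImplicit false
universe u v w
open CategoryTheory CategoryTheory.Limits AlgebraicGeometry Opposite TopologicalSpace
open AlgebraicGeometry.Scheme.Modules

namespace Groth.Agent.Lib.Helper5.FittSheaf

open Groth.Agent.Lib.Helper28.QCohLoc Groth.Agent.Lib.Helper28.FinType
open Groth.Agent.Lib.Helper29.FPDict

variable {X : Scheme.{u}} (M : X.Modules)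

theorem mem_zeroLocus_iff_le {U : X.Opens} (hU : IsAffineOpen U) (I : Ideal Γ(X, U)) (x : X)
    (hx : x ∈ U) :
    x ∈ X.zeroLocus (U := U) (I : Set Γ(X, U)) ↔ I ≤ (hU.primeIdealOf ⟨x, hx⟩).asIdeal := by
  rw [Scheme.mem_zeroLocus_iff]
  constructor
  · intro h f hf
    exact (Groth.Agent.Lib.Helper7.AffPts.mem_primeIdealOf_iff hU ⟨x, hx⟩ f).2 (h f hf)
  · intro h f hf
    exact (Groth.Agent.Lib.Helper7.AffPts.mem_primeIdealOf_iff hU ⟨x, hx⟩ f).1 (h hf)

theorem not_mem_support_iff [M.IsQuasicoherent]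
    [SheafOfModules.IsFiniteType.{u} (R := X.ringCatSheaf) M] (k : ℕ) {U : X.Opens}
    (hU : IsAffineOpen U) (x : X) (hx : x ∈ U) :
    x ∉ (Fitt.sheafIdeal M k).support ↔
      ¬ Fitt.ideal Γ(X, U) Γ(M, U) k ≤ (hU.primeIdealOf ⟨x, hx⟩).asIdeal := by
  rw [Scheme.IdealSheafData.mem_support_iff_of_mem (U := ⟨U, hU⟩) hx, sheafIdeal_ideal,
    mem_zeroLocus_iff_le hU]

theorem exists_not_mem_support [M.IsQuasicoherent]
    [SheafOfModules.IsFiniteType.{u} (R := X.ringCatSheaf) M] (s : X) :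
    ∃ r : ℕ, s ∉ (Fitt.sheafIdeal M r).support := by
  obtain ⟨U, hU, hsU, -⟩ := exists_isAffineOpen_mem_and_subset (x := s) (U := ⊤) trivial
  have := finite_of_isAffineOpen M hU
  obtain ⟨n, x, hx⟩ := Module.Finite.exists_fin (R := Γ(X, U)) (M := Γ(M, U))
  refine ⟨n, (not_mem_support_iff M n hU s hsU).2 ?_⟩
  rw [Helper23.Fit.ideal_eq_top_of_le x hx le_rfl]
  intro hle
  exact (hU.primeIdealOf ⟨s, hsU⟩).isPrime.ne_top (top_le_iff.mp hle)

end Groth.Agent.Lib.Helper5.FittSheaf
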