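import Groth.Agent.Lib.Helper5.FittSheafB
import Groth.Agent.Lib.Helper17.TensorSupp
import Groth.Agent.Lib.Helper29.IdealComap

set_option autoImplicit false
universe u v w
open CategoryTheory CategoryTheory.Limits AlgebraicGeometry Opposite TopologicalSpace
open AlgebraicGeometry.Scheme.Modules

namespace Groth.Agent.Lib.Helper5.FittSheaf

open Groth.Agent.Lib.Helper28.QCohLoc Groth.Agent.Lib.Helper28.FinType
open Groth.Agent.Lib.Helper29.FPDict Groth.Agent.Lib.Helper17.ModPullback

theorem sheafIdeal_comap {T S : Scheme.{u}} (f : T ⟶ S) (F : S.Modules) [F.IsQuasicoherent]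
    [SheafOfModules.IsFiniteType.{u} (R := S.ringCatSheaf) F] (i : ℕ) :
    (Fitt.sheafIdeal F i).comap f = Fitt.sheafIdeal ((Scheme.Modules.pullback f).obj F) i := by
  have := Groth.Agent.Lib.Helper17.TensorSupp.isFiniteType_pullback f F
  choose U V hU hV hxU hUV using exists_affine_pair f
  refine Scheme.IdealSheafData.ext_of_iSup_eq_top (fun x => ⟨U x, hU x⟩) ?_ fun x => ?_
  · exact eq_top_iff.2 fun x _ => Opens.mem_iSup.2 ⟨x, hxU x⟩
  · rw [Groth.Agent.Lib.Helper29.EffCart.ideal_comap_eq_map _ f ⟨V x, hV x⟩ ⟨U x, hU x⟩ (hUV x),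
      sheafIdeal_ideal, sheafIdeal_ideal]
    let _ := (f.appLE (V x) (U x) (hUV x)).hom.toAlgebra
    obtain ⟨e⟩ := nonempty_linearEquiv_pullback_sections f F (hU x) (hV x) (hUV x)
    have := finite_of_isAffineOpen F (hV x)
    rw [Helper23.Fit.ideal_congr e i, Helper23.Fit.ideal_baseChange]
    rfl

end Groth.Agent.Lib.Helper5.FittSheaf
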