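import Groth.Agent.Lib.Helper5.FittSheafB
import Groth.Agent.Lib.Helper23.Fitting9

set_option autoImplicit false
universe u v w
open CategoryTheory CategoryTheory.Limits AlgebraicGeometry Opposite TopologicalSpace

namespace Groth.Agent.Lib.Helper5.FittSheaf

/-- generators of a localized module, stated for an arbitrary model of the localization -/
theorem span_of_localizedMap_surjective {R : Type u} [CommRing R] {M : Type v} [AddCommGroup M]
    [Module R M] (S : Submonoid R) {k : ℕ} (m : Fin k → M)
    (hm : Function.Surjective (LocalizedModule.map S (Fintype.linearCombination R m)))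
    (R' : Type u) [CommRing R'] [Algebra R R'] [IsLocalization S R']
    (M' : Type v) [AddCommGroup M'] [Module R M'] [Module R' M'] [IsScalarTower R R' M']
    (φ : M →ₗ[R] M') [IsLocalizedModule S φ] :
    Submodule.span R' (Set.range fun j => φ (m j)) = ⊤ := by
  rw [eq_top_iff]
  intro y _
  obtain ⟨⟨m', s⟩, hs⟩ := IsLocalizedModule.surj S φ y
  obtain ⟨z, hz⟩ := hm (LocalizedModule.mk m' 1)
  induction z using LocalizedModule.induction_on with
  | h c t =>
    rw [LocalizedModule.map_mk, Fintype.linearCombination_apply, LocalizedModule.mk_eq] at hz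
    obtain ⟨u, hu⟩ := hz
    have h1 : φ ((u * t : S) • m') = ∑ j, (u : R) • c j • φ (m j) := by
      have := congrArg φ hu
      simp only [one_smul, map_smul, map_sum, Finset.smul_sum, Submonoid.smul_def] at this
      rw [this, mul_smul, Submonoid.smul_def, Submonoid.smul_def, map_smul, map_smul]
    have h2 : ((u * t * s : S) : R) • y = ∑ j, (u : R) • c j • φ (m j) := by
      rw [← h1]
      have hs' : (s : R) • y = φ m' := hs
      rw [Submonoid.coe_mul, mul_smul, hs', Submonoid.smul_def, map_smul]
    have hunit : IsUnit (algebraMap R R' ((u * t * s : S) : R)) := IsLocalization.map_units R' _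
    obtain ⟨v, hv⟩ := hunit
    have h3 : y = (↑v⁻¹ : R') • ∑ j, (u : R) • c j • φ (m j) := by
      rw [← h2, ← algebraMap_smul R' (((u * t * s : S) : R)) y, ← hv, smul_smul, Units.inv_mul,
        one_smul]
    rw [h3]
    refine Submodule.smul_mem _ _ (Submodule.sum_mem _ fun j _ => ?_)
    rw [← algebraMap_smul R' (u : R), ← algebraMap_smul R' (c j)]
    exact Submodule.smul_mem _ _ (Submodule.smul_mem _ _ (Submodule.subset_span ⟨j, rfl⟩))

theorem exists_span_away_of_not_le {R : Type u} [CommRing R] {M : Type v} [AddCommGroup M]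
    [Module R M] [Module.Finite R M] (k : ℕ) (p : Ideal R) [p.IsPrime]
    (h : ¬ Fitt.ideal R M k ≤ p) :
    ∃ f : R, f ∉ p ∧ ∃ m : Fin k → M, ∀ (R' : Type u) [CommRing R'] [Algebra R R']
      [IsLocalization.Away f R'] (M' : Type v) [AddCommGroup M'] [Module R M'] [Module R' M']
      [IsScalarTower R R' M'] (φ : M →ₗ[R] M') [IsLocalizedModule (Submonoid.powers f) φ],
      Submodule.span R' (Set.range fun j => φ (m j)) = ⊤ := by
  obtain ⟨f, hf, hg⟩ := (Helper23.Fit.not_le_iff_exists_span_away k p).1 h
  obtain ⟨m, hm⟩ := (Helper23.Fit.exists_span_iff_exists_surjective (Submonoid.powers f) k).1 hg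
  refine ⟨f, hf, m, fun R' _ _ _ M' _ _ _ _ φ _ => ?_⟩
  exact span_of_localizedMap_surjective (Submonoid.powers f) m hm R' M' φ

end Groth.Agent.Lib.Helper5.FittSheaf
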