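import Groth.Agent.Lib.Helper5.FittSheafE
import Groth.Agent.S0934

set_option autoImplicit false
universe u v w
open CategoryTheory CategoryTheory.Limits AlgebraicGeometry Opposite TopologicalSpace
open AlgebraicGeometry.Scheme.Modules

namespace Groth.Agent.Lib.Helper5.FittSheaf

open Groth.Agent.Lib.Helper28.QCohLoc Groth.Agent.Lib.Helper28.FinType
open Groth.Agent.Lib.Helper29.FPDict Groth.Agent.Lib.Helper29.FreeIso Groth.Agent.Lib.Helper28.TwistGen

section general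

variable {Y : Scheme.{u}} {r : ℕ} (G : Y.Modules)

/-- the sections of `G` which are the images of the standard generators -/
noncomputable def stdSec (φ : B Y r ⟶ G) : Fin r → Γ(G, ⊤) :=
  fun j => φ.app ⊤ ((biproduct.ι (fun _ : Fin r => Coh.structureModule Y) j).app ⊤
    (show Γ(Coh.structureModule Y, ⊤) from (1 : Γ(Y, ⊤))))

theorem hom_eq_ψ' (φ : B Y r ⟶ G) : φ = ψ G (stdSec G φ) := by
  apply biproduct.hom_ext'
  intro j
  unfold ψ
  rw [biproduct.ι_desc]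
  apply hom_ext_unit
  rw [ofSection_app_one, res_self]
  rfl

theorem epi_ψ (τ : Fin r → Γ(G, ⊤))
    (hgen : ∀ (W : Y.Opens) (t : Γ(G, W)) (pt : Y), pt ∈ W → ∃ (W₁ : Y.Opens) (hW₁ : W₁ ≤ W),
      pt ∈ W₁ ∧ ∃ c : Fin r → Γ(Y, W₁),
        res G hW₁ t = ∑ j : Fin r, c j • res G (le_top : W₁ ≤ ⊤) (τ j)) :
    Epi (ψ G τ) := by
  refine epi_of_locally_in_range _ ?_
  intro W t pt hpt
  obtain ⟨W₁, hW₁, hpt₁, c, hc⟩ := hgen W t pt hpt
  refine ⟨W₁, hW₁, hpt₁, ∑ j : Fin r,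
    (biproduct.ι (fun _ : Fin r => Coh.structureModule Y) j).app W₁
      (show Γ(Coh.structureModule Y, W₁) from c j), ?_⟩
  rw [app_sum, hc]
  refine Finset.sum_congr rfl fun j _ => ?_
  exact ψ_app_ι G τ W₁ j (c j)

/-- an epimorphism from a free module generates locally -/
theorem gen_of_epi (φ : B Y r ⟶ G) [Epi φ] (W : Y.Opens) (t : Γ(G, W)) (pt : Y) (hpt : pt ∈ W) :
    ∃ (W₁ : Y.Opens) (hW₁ : W₁ ≤ W), pt ∈ W₁ ∧ ∃ c : Fin r → Γ(Y, W₁),
      res G hW₁ t = ∑ j : Fin r, c j • res G (le_top : W₁ ≤ ⊤) (stdSec G φ j) := by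
  obtain ⟨V, hV, hptV, z, hz⟩ := Groth.Agent.S0934.exists_local_lift φ t pt hpt
  refine ⟨V, hV, hptV, fun j => (show Γ(Y, V) from
    (biproduct.π (fun _ : Fin r => Coh.structureModule Y) j).app V z), ?_⟩
  rw [← hz]
  conv_lhs => rw [hom_eq_ψ' G φ]
  exact ψ_app G (stdSec G φ) V z

end general

variable {X : Scheme.{u}}

/-- sections over `U` which generate locally define an epimorphism from a free module -/
theorem epi_ψ_restrict (F : X.Modules) {U : X.Opens} {r : ℕ} (τ : Fin r → Γ(F, U))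
    (h2 : ∀ (T : X.Opens) (hT : T ≤ U) (t : Γ(F, T)) (pt : X), pt ∈ T →
      ∃ (T₁ : X.Opens) (h1 : T₁ ≤ T), pt ∈ T₁ ∧
        ∃ c : Fin r → Γ(X, T₁), res F h1 t = ∑ j, c j • res F (h1.trans hT) (τ j)) :
    Epi (ψ (F.restrict U.ι) (restrictSections F U τ)) := by
  refine epi_ψ (F.restrict U.ι) (restrictSections F U τ) ?_
  intro W t' pt hpt
  have hpt' : U.ι pt ∈ U.ι ''ᵁ W := ⟨pt, hpt, rfl⟩
  obtain ⟨T₁, h1, hpt₁, c, hc⟩ := h2 _ (ι_image_le U W) (show Γ(F, U.ι ''ᵁ W) from t') _ hpt'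
  let W₁ : (U : Scheme.{u}).Opens := U.ι ⁻¹ᵁ T₁
  have hV_le : U.ι ''ᵁ W₁ ≤ T₁ := image_preimage_le U T₁
  have hW₁ : W₁ ≤ W := by
    intro z hz
    have : U.ι z ∈ U.ι ''ᵁ W := h1 hz
    obtain ⟨z', hz', hzz⟩ := this
    have : z' = z := U.ι.isOpenEmbedding.injective hzz
    rw [← this]; exact hz'
  refine ⟨W₁, hW₁, hpt₁, fun j => (show Γ(X, U.ι ''ᵁ W₁) from resO hV_le (c j)), ?_⟩
  rw [res_restrict_eq]
  have hc' := congrArg (res F hV_le) hc
  rw [res_res] at hc'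
  refine hc'.trans ?_
  have hsum : res F hV_le (∑ j, c j • res F (h1.trans (ι_image_le U W)) (τ j)) =
      ∑ j, resO hV_le (c j) • res F (ι_image_le U W₁) (τ j) := by
    have := map_sum (ConcreteCategory.hom (F.presheaf.map (homOfLE hV_le).op))
      (fun j => c j • res F (h1.trans (ι_image_le U W)) (τ j)) Finset.univ
    refine this.trans ?_
    refine Finset.sum_congr rfl fun j _ => ?_
    have h2 := res_smul F hV_le (c j) (res F (h1.trans (ι_image_le U W)) (τ j))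
    rw [res_res] at h2
    exact h2
  rw [hsum]
  refine Finset.sum_congr rfl fun j _ => ?_
  have e1 := restrict_smul_eq F U W₁ (show Γ(X, U.ι ''ᵁ W₁) from resO hV_le (c j))
    (res (F.restrict U.ι) (le_top : W₁ ≤ ⊤) (restrictSections F U τ j))
  refine Eq.trans ?_ e1.symm
  congr 1
  exact (res_restrictSections F U τ W₁ j).symm

/-- sections spanning the module of sections over an affine open generate locally -/
theorem gen_of_span (F : X.Modules) {U : X.Opens} (hU : IsAffineOpen U) (hloc : IsLocOn F U) {r : ℕ}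
    (τ : Fin r → Γ(F, U)) (hspan : Submodule.span Γ(X, U) (Set.range τ) = ⊤)
    (T : X.Opens) (hT : T ≤ U) (t : Γ(F, T)) (pt : X) (hpt : pt ∈ T) :
    ∃ (T₁ : X.Opens) (h1 : T₁ ≤ T), pt ∈ T₁ ∧
      ∃ c : Fin r → Γ(X, T₁), res F h1 t = ∑ j, c j • res F (h1.trans hT) (τ j) := by
  have hD : ∀ m : Γ(F, U), ∃ c : Fin r → Γ(X, U), (1 : Γ(X, U)) • m = ∑ j, c j • τ j := by
    intro m
    have hm : m ∈ Submodule.span Γ(X, U) (Set.range τ) := by rw [hspan]; trivial
    obtain ⟨c, hc⟩ := (Submodule.mem_span_range_iff_exists_fun _).1 hm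
    exact ⟨c, by rw [one_smul, hc]⟩
  have h1U : X.basicOpen (1 : Γ(X, U)) = U := Scheme.basicOpen_of_isUnit _ isUnit_one
  obtain ⟨g, hptg, hgT, hg⟩ := Groth.Agent.S8887.generated_of_smul F hU hloc τ 1 hD T
    (by rw [h1U]; exact hT) t pt hpt
  obtain ⟨c, hc⟩ := hg (X.basicOpen g) le_rfl hgT (hgT.trans hT)
  exact ⟨X.basicOpen g, hgT, hptg, c, hc⟩

theorem exists_epi_of_not_mem_support (M : X.Modules) [M.IsQuasicoherent]
    [SheafOfModules.IsFiniteType.{u} (R := X.ringCatSheaf) M] (r : ℕ) (s : X)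
    (h : s ∉ (Fitt.sheafIdeal M r).support) :
    ∃ U : X.Opens, s ∈ U ∧ ∃ π : FlatMod.freeMod (↑U) r ⟶ M.restrict U.ι, Epi π := by
  obtain ⟨U₀, hU₀, hsU₀, -⟩ := exists_isAffineOpen_mem_and_subset (x := s) (U := ⊤) trivial
  obtain ⟨f, hsf, σ, hσ⟩ := exists_gen_basicOpen M r hU₀ s hsU₀ h
  have hgen := gen_of_span M (hU₀.basicOpen f) (isLocOn_of_isQuasicoherent M (hU₀.basicOpen f))
    (fun j => res M (X.basicOpen_le f) (σ j)) hσ
  have hepi := epi_ψ_restrict M (fun j => res M (X.basicOpen_le f) (σ j)) hgen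
  refine ⟨X.basicOpen f, hsf, (biproduct.isoCoproduct _).inv ≫
    ψ (M.restrict (X.basicOpen f).ι)
      (restrictSections M (X.basicOpen f) (fun j => res M (X.basicOpen_le f) (σ j))), ?_⟩
  exact epi_comp _ _

theorem span_res_eq_top (M : X.Modules) {W : X.Opens} (hW : IsAffineOpen W) (hloc : IsLocOn M W)
    (g : Γ(X, W)) {n : ℕ} (m : Fin n → Γ(M, W))
    (hm : Submodule.span Γ(X, W) (Set.range m) = ⊤) :
    Submodule.span Γ(X, X.basicOpen g)
      (Set.range fun i => res M (X.basicOpen_le g) (m i)) = ⊤ := by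
  let _ := modBasicOpen M g
  have := isScalarTower_basicOpen M g
  have := isLocalizedModule_resLin hloc g
  have : IsLocalization.Away g Γ(X, X.basicOpen g) := hW.isLocalization_basicOpen g
  have hsurj : Function.Surjective (Fintype.linearCombination Γ(X, W) m) := by
    rw [← LinearMap.range_eq_top, Fintype.range_linearCombination, hm]
  exact span_of_localizedMap_surjective (Submonoid.powers g) m
    (LocalizedModule.map_surjective _ _ hsurj) Γ(X, X.basicOpen g) Γ(M, X.basicOpen g) (resLin M g)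

theorem not_mem_support_of_epi (M : X.Modules) [M.IsQuasicoherent]
    [SheafOfModules.IsFiniteType.{u} (R := X.ringCatSheaf) M] (r : ℕ) (s : X) (U : X.Opens)
    (hs : s ∈ U) (π : FlatMod.freeMod (↑U) r ⟶ M.restrict U.ι) [Epi π] :
    s ∉ (Fitt.sheafIdeal M r).support := by
  let φ : B (↑U) r ⟶ M.restrict U.ι := (biproduct.isoCoproduct _).hom ≫ π
  have : Epi φ := epi_comp _ _
  let s' : ↥U := ⟨s, hs⟩
  obtain ⟨W', hW', hsW', -⟩ :=
    exists_isAffineOpen_mem_and_subset (X := ↑U) (x := s') (U := ⊤) trivial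
  have hW : IsAffineOpen (U.ι ''ᵁ W') := hW'.image_of_isOpenImmersion U.ι
  have hsW : s ∈ U.ι ''ᵁ W' := ⟨s', hsW', rfl⟩
  have := finite_of_isAffineOpen M hW
  obtain ⟨n, m, hm⟩ := Module.Finite.exists_fin (R := Γ(X, U.ι ''ᵁ W')) (M := Γ(M, U.ι ''ᵁ W'))
  have hloc : ∀ i, ∃ (W₁ : (↑U : Scheme.{u}).Opens) (hW₁ : W₁ ≤ W'), s' ∈ W₁ ∧
      ∃ c : Fin r → Γ(↑U, W₁),
        res (M.restrict U.ι) hW₁ (show Γ(M.restrict U.ι, W') from m i) =
          ∑ j, c j • res (M.restrict U.ι) (le_top : W₁ ≤ ⊤) (stdSec (M.restrict U.ι) φ j) :=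
    fun i => gen_of_epi (M.restrict U.ι) φ W' _ s' hsW'
  choose W₁ hW₁ hsW₁ c hc using hloc
  have hsI : s ∈ ⨅ i, U.ι ''ᵁ (W₁ i) := by
    rw [← SetLike.mem_coe, Opens.coe_iInf]
    exact Set.mem_iInter.2 fun i => ⟨s', hsW₁ i, rfl⟩
  obtain ⟨g, hgle, hsg⟩ := hW.exists_basicOpen_le (V := ⨅ i, U.ι ''ᵁ (W₁ i)) ⟨s, hsI⟩ hsW
  have hg1 : ∀ i, X.basicOpen g ≤ U.ι ''ᵁ (W₁ i) := fun i => hgle.trans (iInf_le _ i)
  have hgtop : X.basicOpen g ≤ U.ι ''ᵁ ⊤ := (X.basicOpen_le g).trans (U.ι.image_mono le_top)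
  let σ : Fin r → Γ(M, X.basicOpen g) := fun j =>
    res M hgtop (show Γ(M, U.ι ''ᵁ ⊤) from stdSec (M.restrict U.ι) φ j)
  have hmem : ∀ i, res M (X.basicOpen_le g) (m i) ∈
      Submodule.span Γ(X, X.basicOpen g) (Set.range σ) := by
    intro i
    have h1 : res M (X.basicOpen_le g) (m i) =
        res M (hg1 i) (res M (U.ι.image_mono (hW₁ i)) (m i)) := by rw [res_res]
    have h2 : res M (U.ι.image_mono (hW₁ i)) (m i) =
        ∑ j, (show Γ(X, U.ι ''ᵁ (W₁ i)) from c i j) •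
          res M (U.ι.image_mono (le_top : W₁ i ≤ ⊤))
            (show Γ(M, U.ι ''ᵁ ⊤) from stdSec (M.restrict U.ι) φ j) := by
      refine (hc i).trans (Finset.sum_congr rfl fun j _ => ?_)
      exact restrict_smul_eq M U (W₁ i) (c i j) _
    rw [h1, h2, res_sum_smul]
    refine Submodule.sum_mem _ fun j _ => Submodule.smul_mem _ _ ?_
    rw [res_res]
    exact Submodule.subset_span ⟨j, rfl⟩
  have hspan : Submodule.span Γ(X, X.basicOpen g) (Set.range σ) = ⊤ := by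
    rw [eq_top_iff, ← span_res_eq_top M hW (isLocOn_of_isQuasicoherent M hW) g m hm]
    refine Submodule.span_le.2 ?_
    rintro _ ⟨i, rfl⟩
    exact hmem i
  rw [not_mem_support_iff M r (hW.basicOpen g) s hsg,
    Helper23.Fit.ideal_eq_top_of_le σ hspan le_rfl]
  intro hle
  exact ((hW.basicOpen g).primeIdealOf ⟨s, hsg⟩).isPrime.ne_top (top_le_iff.mp hle)

end Groth.Agent.Lib.Helper5.FittSheaf
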