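import Groth.Agent.Lib.Helper12.CohenSqB
import Groth.Agent.Lib.Helper12.CohenFinD
import Groth.Agent.Lib.Helper12.CohenStructB
import Groth.Agent.S2082
import Groth.Agent.S5769
import Groth.Agent.S10834
import Groth.Agent.Lib.Helper5.RegCompletion

set_option autoImplicit false
set_option linter.unusedSectionVars false
universe u

namespace Groth.Agent.Lib.Helper5.FlatCohen

open IsLocalRing MvPowerSeries Groth.Agent.Lib.Helper12

variable {Λ Λ' : Type u} [CommRing Λ] [CommRing Λ'] [IsLocalRing Λ] [IsLocalRing Λ']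
  [IsNoetherianRing Λ] [IsNoetherianRing Λ'] {r n t : ℕ}

theorem ringKrullDim_ps (g : Fin r → Λ) (hg : maximalIdeal Λ = Ideal.span (Set.range g))
    (hdim : (r : WithBot ℕ∞) ≤ ringKrullDim Λ) :
    ringKrullDim (MvPowerSeries (Fin n) Λ) = ((r + n : ℕ) : WithBot ℕ∞) := by
  apply le_antisymm (CohenFin.ringKrullDim_ps_le g hg)
  refine le_trans ?_ (CohenSq.add_le_ringKrullDim_mvPowerSeries Λ n)
  push_cast
  gcongr

theorem flat_and_regular (g : Fin r → Λ) (g' : Fin r → Λ')
    (hg : maximalIdeal Λ = Ideal.span (Set.range g)) (hdim : (r : WithBot ℕ∞) ≤ ringKrullDim Λ)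
    (hg' : maximalIdeal Λ' = Ideal.span (Set.range g'))
    (hdim' : (r : WithBot ℕ∞) ≤ ringKrullDim Λ')
    (τ : MvPowerSeries (Fin n) Λ →+* MvPowerSeries (Fin (n + t)) Λ')
    (hC : ∀ j, τ (C (g j)) = C (g' j))
    (hX : ∀ i, τ (X i) = X (Fin.castAdd t i)) :
    τ.Flat ∧ IsRegularRing (MvPowerSeries (Fin (n + t)) Λ' ⧸
      (maximalIdeal (MvPowerSeries (Fin n) Λ)).map τ) := by
  classical
  have hR : IsRegularLocalRing (MvPowerSeries (Fin n) Λ) :=
    CohenSq.isRegularLocalRing_ps g hg hdim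
  have hS : IsRegularLocalRing (MvPowerSeries (Fin (n + t)) Λ') :=
    CohenSq.isRegularLocalRing_ps g' hg' hdim'
  have hdR := ringKrullDim_ps (n := n) g hg hdim
  have hdS := ringKrullDim_ps (n := n + t) g' hg' hdim'
  set I : Ideal (MvPowerSeries (Fin (n + t)) Λ') :=
    (maximalIdeal (MvPowerSeries (Fin n) Λ)).map τ with hI
  have hXm : ∀ k : Fin (n + t), (X k : MvPowerSeries (Fin (n + t)) Λ') ∈
      maximalIdeal (MvPowerSeries (Fin (n + t)) Λ') :=
    fun k => Helper1.PSDecomp.X_mem_maximalIdeal k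
  have hCm : ∀ j, (C (g' j) : MvPowerSeries (Fin (n + t)) Λ') ∈
      maximalIdeal (MvPowerSeries (Fin (n + t)) Λ') := by
    intro j
    apply Helper1.PSDecomp.C_mem_maximalIdeal
    rw [hg']
    exact Ideal.subset_span ⟨j, rfl⟩
  have hIeq : I = Ideal.span (Set.range fun j => (C (g' j) : MvPowerSeries (Fin (n + t)) Λ')) ⊔
      Ideal.span (Set.range fun i : Fin n => (X (Fin.castAdd t i) :
        MvPowerSeries (Fin (n + t)) Λ')) := by
    rw [hI, CohenFin.maximalIdeal_ps_eq_sup, Ideal.map_sup, Ideal.map_map, hg, Ideal.map_span,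
      Ideal.map_span, ← Set.range_comp, ← Set.range_comp]
    congr 2
    · congr 1
      funext j
      exact hC j
    · congr 1
      funext i
      exact hX i
  have hIle : I ≤ maximalIdeal (MvPowerSeries (Fin (n + t)) Λ') := by
    rw [hIeq, sup_le_iff, Ideal.span_le, Ideal.span_le]
    constructor
    · rintro _ ⟨j, rfl⟩
      exact hCm j
    · rintro _ ⟨i, rfl⟩
      exact hXm _
  have hlocal : IsLocalHom τ := by
    refine CohenFin.isLocalHom_eval τ (τ.comp C) (fun i => X (Fin.castAdd t i)) (fun c => rfl) hX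
      ?_ (fun i => hXm _)
    rw [hg, Ideal.map_span, Ideal.span_le]
    rintro _ ⟨_, ⟨j, rfl⟩, rfl⟩
    rw [RingHom.comp_apply, hC]
    exact hCm j
  let _ : Algebra (MvPowerSeries (Fin n) Λ) (MvPowerSeries (Fin (n + t)) Λ') := τ.toAlgebra
  have halg : algebraMap (MvPowerSeries (Fin n) Λ) (MvPowerSeries (Fin (n + t)) Λ') = τ :=
    RingHom.algebraMap_toAlgebra τ
  have _ : IsLocalHom (algebraMap (MvPowerSeries (Fin n) Λ) (MvPowerSeries (Fin (n + t)) Λ')) := by
    rw [halg]
    exact hlocal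
  have hne : I ≠ ⊤ := fun h => (Ideal.IsPrime.ne_top inferInstance) (top_le_iff.1 (h ▸ hIle))
  have _ : Nontrivial (MvPowerSeries (Fin (n + t)) Λ' ⧸ I) := Ideal.Quotient.nontrivial_iff.2 hne
  have _ : IsLocalRing (MvPowerSeries (Fin (n + t)) Λ' ⧸ I) :=
    IsLocalRing.of_surjective' _ Ideal.Quotient.mk_surjective
  have hmF : maximalIdeal (MvPowerSeries (Fin (n + t)) Λ' ⧸ I) =
      Ideal.span (Set.range fun j : Fin t => Ideal.Quotient.mk I
        (X (Fin.natAdd n j) : MvPowerSeries (Fin (n + t)) Λ')) := by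
    rw [← CohenStruct.map_maximalIdeal_of_surjective (Ideal.Quotient.mk I)
      Ideal.Quotient.mk_surjective, CohenFin.maximalIdeal_ps_eq_sup, hg', Ideal.map_sup,
      Ideal.map_map, Ideal.map_span, Ideal.map_span, ← Set.range_comp, ← Set.range_comp]
    apply le_antisymm
    · rw [sup_le_iff, Ideal.span_le, Ideal.span_le]
      constructor
      · rintro _ ⟨j, rfl⟩
        have : (Ideal.Quotient.mk I) (C (g' j)) = 0 := by
          rw [Ideal.Quotient.eq_zero_iff_mem, hIeq]
          exact Ideal.mem_sup_left (Ideal.subset_span ⟨j, rfl⟩)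
        change (Ideal.Quotient.mk I) (C (g' j)) ∈ _
        rw [this]
        exact Ideal.zero_mem _
      · rintro _ ⟨k, rfl⟩
        change (Ideal.Quotient.mk I) (X k) ∈ _
        refine Fin.addCases (fun i => ?_) (fun j => ?_) k
        · have : (Ideal.Quotient.mk I) (X (Fin.castAdd t i)) = 0 := by
            rw [Ideal.Quotient.eq_zero_iff_mem, hIeq]
            exact Ideal.mem_sup_right (Ideal.subset_span ⟨i, rfl⟩)
          rw [this]
          exact Ideal.zero_mem _
        · exact Ideal.subset_span ⟨j, rfl⟩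
    · refine le_trans ?_ le_sup_right
      rw [Ideal.span_le]
      rintro _ ⟨j, rfl⟩
      exact Ideal.subset_span ⟨Fin.natAdd n j, rfl⟩
  have hspan : (maximalIdeal (MvPowerSeries (Fin (n + t)) Λ' ⧸ I)).spanFinrank ≤ t := by
    rw [hmF]
    have hfin : (Set.range fun j : Fin t => Ideal.Quotient.mk I
        (X (Fin.natAdd n j) : MvPowerSeries (Fin (n + t)) Λ')).Finite := Set.finite_range _
    refine (Submodule.spanFinrank_span_le_ncard_of_finite hfin).trans ?_
    have := Set.ncard_image_le (f := fun j : Fin t => Ideal.Quotient.mk I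
        (X (Fin.natAdd n j) : MvPowerSeries (Fin (n + t)) Λ')) (Set.finite_univ)
    rw [Set.image_univ, Set.ncard_univ, Nat.card_eq_fintype_card, Fintype.card_fin] at this
    exact this
  obtain ⟨d, -, hd, -, -⟩ := CohenFin.exists_sop (MvPowerSeries (Fin (n + t)) Λ' ⧸ I)
  have h5769 := Groth.Agent.S5769.result (MvPowerSeries (Fin n) Λ) (MvPowerSeries (Fin (n + t)) Λ')
  rw [halg, ← hI, hdR, hdS, hd] at h5769
  have htd : t ≤ d := by
    have : ((r + (n + t) : ℕ) : WithBot ℕ∞) ≤ ((r + n + d : ℕ) : WithBot ℕ∞) := by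
      push_cast at h5769 ⊢
      exact h5769
    have := Nat.cast_le.1 (WithBot.coe_le_coe.1 this)
    omega
  have hdt : d ≤ t := by
    have h1 := ringKrullDim_le_spanFinrank_maximalIdeal (MvPowerSeries (Fin (n + t)) Λ' ⧸ I)
    rw [hd] at h1
    have h2 : ((maximalIdeal (MvPowerSeries (Fin (n + t)) Λ' ⧸ I)).spanFinrank : WithBot ℕ∞) ≤
        (t : WithBot ℕ∞) := by exact_mod_cast hspan
    have := Nat.cast_le.1 (WithBot.coe_le_coe.1 (h1.trans h2))
    exact this
  have hdeq : d = t := le_antisymm hdt htd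
  have hFreg : IsRegularLocalRing (MvPowerSeries (Fin (n + t)) Λ' ⧸ I) := by
    apply IsRegularLocalRing.of_spanFinrank_maximalIdeal_le
    rw [hd, hdeq]
    exact_mod_cast hspan
  refine ⟨?_, Groth.Agent.Lib.Helper5.RegCompletion.isRegularRing_of_isRegularLocalRing _⟩
  have hCM : LocCoh.IsCohenMacaulayLocalRing (MvPowerSeries (Fin (n + t)) Λ') :=
    { supportDim_eq_depth := Groth.Agent.S10834.isCM_of_isRegularLocalRing _ }
  change Module.Flat (MvPowerSeries (Fin n) Λ) (MvPowerSeries (Fin (n + t)) Λ')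
  apply Groth.Agent.S2082.result
  rw [halg, ← hI, hdR, hdS, hd, hdeq]
  push_cast
  ring

end Groth.Agent.Lib.Helper5.FlatCohen
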