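import Groth.Agent.Lib.Helper5.FlatCohenC

set_option autoImplicit false
set_option linter.unusedSectionVars false
universe u

namespace Groth.Agent.Lib.Helper5.FlatCohen

open IsLocalRing MvPowerSeries Groth.Agent.Lib.Helper12

section Main

variable {A B : Type u} [CommRing A] [CommRing B] [IsLocalRing A] [IsLocalRing B]
  [IsNoetherianRing A] [IsNoetherianRing B]
  [IsAdicComplete (maximalIdeal A) A] [IsAdicComplete (maximalIdeal B) B]
  [Algebra A B] [IsLocalHom (algebraMap A B)]
  {Λ Λ' : Type u} [CommRing Λ] [CommRing Λ'] [IsLocalRing Λ] [IsLocalRing Λ']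
  [IsNoetherianRing Λ] [IsNoetherianRing Λ'] [IsAdicComplete (maximalIdeal Λ') Λ']

theorem exists_presentation_gens (hW : EGA41.IsCohenRingEGA Λ) {r : ℕ} (g : Fin r → Λ) (g' : Fin r → Λ')
    (hg : maximalIdeal Λ = Ideal.span (Set.range g)) (hdim : (r : WithBot ℕ∞) ≤ ringKrullDim Λ)
    (hg' : maximalIdeal Λ' = Ideal.span (Set.range g'))
    (hdim' : (r : WithBot ℕ∞) ≤ ringKrullDim Λ')
    (hgg' : ∀ (m : ℕ) (w : Λ →+* MvPowerSeries (Fin m) Λ') (j : Fin r), w (g j) = C (g' j))
    (vA : Λ →+* A) (hvA : Function.Surjective ((residue A).comp vA)) (hvAl : IsLocalHom vA)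
    (vB : Λ' →+* B) (hvB : Function.Surjective ((residue B).comp vB))
    {t : ℕ} (b : Fin t → B) (hb' : Ideal.span (Set.range b) = maximalIdeal B) :
    ∃ (n : ℕ) (ρ : MvPowerSeries (Fin n) Λ →+* A) (σ : MvPowerSeries (Fin (n + t)) Λ' →+* B)
      (τ : MvPowerSeries (Fin n) Λ →+* MvPowerSeries (Fin (n + t)) Λ'),
      Function.Surjective ρ ∧ Function.Surjective σ ∧ σ.comp τ = (algebraMap A B).comp ρ ∧
        τ.Flat ∧ (∀ j, τ (C (g j)) = C (g' j)) ∧ (∀ i, τ (X i) = X (Fin.castAdd t i)) := by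
  classical
  obtain ⟨n, a, ha⟩ := Submodule.fg_iff_exists_fin_generating_family.mp
    (IsNoetherian.noetherian (maximalIdeal A))
  have ha' : Ideal.span (Set.range a) = maximalIdeal A := ha
  have ham : ∀ i, a i ∈ maximalIdeal A := fun i => ha' ▸ Ideal.subset_span ⟨i, rfl⟩
  have hbm : ∀ j, b j ∈ maximalIdeal B := fun j => hb' ▸ Ideal.subset_span ⟨j, rfl⟩
  obtain ⟨ρ, hρ, hρC, hρX⟩ := CohenFin.exists_eval_surjective A vA hvA a ha'
  let c : Fin (n + t) → B := Fin.append (fun i => algebraMap A B (a i)) b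
  have hcm : ∀ k, c k ∈ maximalIdeal B := by
    intro k
    refine Fin.addCases (fun i => ?_) (fun j => ?_) k
    · change Fin.append (fun i => algebraMap A B (a i)) b (Fin.castAdd t i) ∈ _
      rw [Fin.append_left]
      exact map_nonunit (algebraMap A B) _ (ham i)
    · change Fin.append (fun i => algebraMap A B (a i)) b (Fin.natAdd n j) ∈ _
      rw [Fin.append_right]
      exact hbm j
  have hc : Ideal.span (Set.range c) = maximalIdeal B := by
    apply le_antisymm
    · rw [Ideal.span_le]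
      rintro _ ⟨k, rfl⟩
      exact hcm k
    · rw [← hb', Ideal.span_le]
      rintro _ ⟨j, rfl⟩
      refine Ideal.subset_span ⟨Fin.natAdd n j, ?_⟩
      change Fin.append (fun i => algebraMap A B (a i)) b (Fin.natAdd n j) = _
      rw [Fin.append_right]
  obtain ⟨σ, hσ, hσC, hσX⟩ := CohenFin.exists_eval_surjective B vB hvB c hc
  -- completeness of the big power series ring
  have hcomplS : IsAdicComplete (maximalIdeal (MvPowerSeries (Fin (n + t)) Λ'))
      (MvPowerSeries (Fin (n + t)) Λ') :=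
    { toIsHausdorff := inferInstance
      toIsPrecomplete := Helper1.PSDecomp.isPrecomplete }
  -- lifting the coefficient ring
  have hker : RingHom.ker σ ≠ ⊤ := RingHom.ker_ne_top σ
  let eq : (MvPowerSeries (Fin (n + t)) Λ' ⧸ RingHom.ker σ) ≃+* B :=
    RingHom.quotientKerEquivOfSurjective hσ
  have heq : ∀ x, eq (Ideal.Quotient.mk _ x) = σ x := fun x => rfl
  have _ : Nontrivial (MvPowerSeries (Fin (n + t)) Λ' ⧸ RingHom.ker σ) :=
    Ideal.Quotient.nontrivial_iff.2 hker
  have _ : IsLocalRing (MvPowerSeries (Fin (n + t)) Λ' ⧸ RingHom.ker σ) :=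
    IsLocalRing.of_surjective' _ Ideal.Quotient.mk_surjective
  let u : Λ →+* MvPowerSeries (Fin (n + t)) Λ' ⧸ RingHom.ker σ :=
    (eq.symm : B →+* _).comp ((algebraMap A B).comp vA)
  have hu : ∀ x, eq (u x) = algebraMap A B (vA x) := fun x => eq.apply_symm_apply _
  have _ : IsLocalHom u := by
    refine ⟨fun x hx => ?_⟩
    have h1 : IsUnit (eq (u x)) := hx.map eq
    rw [hu] at h1
    have h2 : IsUnit (vA x) := isUnit_of_map_unit (algebraMap A B) _ h1
    exact isUnit_of_map_unit vA _ h2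
  obtain ⟨w, hwl, hw⟩ := Groth.Agent.S2456.result hW (RingHom.ker σ) hker u
  have hσw : ∀ x, σ (w x) = algebraMap A B (vA x) := by
    intro x
    rw [← heq, ← hu]
    congr 1
    exact congrArg (fun f : Λ →+* _ => f x) hw
  obtain ⟨τ, hτC, hτX⟩ := CohenFin.exists_eval (MvPowerSeries (Fin (n + t)) Λ') w
    (fun i : Fin n => (X (Fin.castAdd t i) : MvPowerSeries (Fin (n + t)) Λ'))
    (fun i => Helper1.PSDecomp.X_mem_maximalIdeal _)
  have hcomm : σ.comp τ = (algebraMap A B).comp ρ := by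
    apply ringHom_ext_ps (maximalIdeal B)
    · intro i
      rw [RingHom.comp_apply, hτX, hσX]
      exact hcm _
    · intro x
      rw [RingHom.comp_apply, RingHom.comp_apply, hτC, hσw, hρC]
    · intro i
      rw [RingHom.comp_apply, RingHom.comp_apply, hτX, hσX, hρX]
      change Fin.append (fun i => algebraMap A B (a i)) b (Fin.castAdd t i) = _
      rw [Fin.append_left]
  obtain ⟨hflat, hreg⟩ := flat_and_regular (t := t) g g' hg hdim hg' hdim' τ
    (fun j => by rw [hτC, hgg']) hτX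
  exact ⟨n, ρ, σ, τ, hρ, hσ, hcomm, hflat, fun j => by rw [hτC, hgg'], hτX⟩

end Main

end Groth.Agent.Lib.Helper5.FlatCohen
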