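import Groth.Agent.Lib.Helper5.FlatCohenG
import Groth.Agent.Lib.Helper5.FlatCohenD
import Groth.Agent.Lib.Helper5.CohenEqui

set_option autoImplicit false
set_option linter.unusedSectionVars false
universe u

namespace Groth.Agent.Lib.Helper5.FlatCohen

open IsLocalRing MvPowerSeries Groth.Agent.Lib.Helper12

section Core

variable {R S A B : Type u} [CommRing R] [CommRing S] [CommRing A] [CommRing B]
  [Algebra R S] [Module.Flat R S] [Algebra A B]
  [IsLocalRing R] [IsLocalRing A]
  [IsLocalRing S] [IsNoetherianRing S] [IsAdicComplete (maximalIdeal S) S]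
  [IsLocalHom (algebraMap R S)]
  [IsRegularLocalRing B]

/-- the flat lift constructed from a flat presentation whose closed fibre has the right number of
generators -/
theorem exists_lift_of_presentation (ρ : R →+* A) (σ : S →+* B) (hρ : Function.Surjective ρ)
    (hσ : Function.Surjective σ) (hστ : ∀ r, σ (algebraMap R S r) = algebraMap A B (ρ r))
    (hkill : ∀ a ∈ maximalIdeal A, algebraMap A B a = 0)
    {d : ℕ} (hd : ringKrullDim B = d) (z : Fin d → S) (hzm : ∀ j, z j ∈ maximalIdeal S)
    (hz : maximalIdeal S ≤ (maximalIdeal R).map (algebraMap R S) ⊔ Ideal.span (Set.range z)) :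
    ∃ (C : Type u) (_ : CommRing C) (_ : IsLocalRing C) (_ : Algebra A C),
      IsNoetherianRing C ∧ IsAdicComplete (maximalIdeal C) C ∧ IsLocalHom (algebraMap A C) ∧
        Module.Flat A C ∧ ∃ π : C →ₐ[A] B, Function.Surjective π ∧
          RingHom.ker π = (maximalIdeal A).map (algebraMap A C) := by
  classical
  have hflat' : Module.Flat (R ⧸ RingHom.ker ρ) (S ⧸ (RingHom.ker ρ).map (algebraMap R S)) :=
    Groth.Agent.Lib.Helper2.QuotFlat.flat_quotient_of_flat_tensor (RingHom.ker ρ)
  let e : (R ⧸ RingHom.ker ρ) ≃+* A := RingHom.quotientKerEquivOfSurjective hρ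
  have he : ∀ r, e (Ideal.Quotient.mk (RingHom.ker ρ) r) = ρ r := fun r => rfl
  have hes : ∀ r, e.symm (ρ r) = Ideal.Quotient.mk (RingHom.ker ρ) r := by
    intro r
    rw [RingEquiv.symm_apply_eq, he]
  let algC : Algebra A (S ⧸ (RingHom.ker ρ).map (algebraMap R S)) :=
    ((algebraMap (R ⧸ RingHom.ker ρ) (S ⧸ (RingHom.ker ρ).map (algebraMap R S))).comp
      (e.symm : A →+* R ⧸ RingHom.ker ρ)).toAlgebra
  have halgC : ∀ r, algebraMap A (S ⧸ (RingHom.ker ρ).map (algebraMap R S)) (ρ r) =
      Ideal.Quotient.mk _ (algebraMap R S r) := by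
    intro r
    change algebraMap (R ⧸ RingHom.ker ρ) (S ⧸ (RingHom.ker ρ).map (algebraMap R S))
      (e.symm (ρ r)) = _
    rw [hes]
    rfl
  have hISσ : ∀ x ∈ (RingHom.ker ρ).map (algebraMap R S), σ x = 0 := by
    have : (RingHom.ker ρ).map (algebraMap R S) ≤ RingHom.ker σ := by
      rw [Ideal.map_le_iff_le_comap]
      intro r hr
      rw [Ideal.mem_comap, RingHom.mem_ker, hστ, (RingHom.mem_ker).1 hr, map_zero]
    intro x hx
    exact this hx
  have hISne : (RingHom.ker ρ).map (algebraMap R S) ≠ ⊤ := by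
    intro htop
    have : (1 : S) ∈ (RingHom.ker ρ).map (algebraMap R S) := htop ▸ Submodule.mem_top
    have h1 := hISσ 1 this
    rw [map_one] at h1
    exact one_ne_zero h1
  have hnt : Nontrivial (S ⧸ (RingHom.ker ρ).map (algebraMap R S)) :=
    Ideal.Quotient.nontrivial_iff.2 hISne
  have hloc : IsLocalRing (S ⧸ (RingHom.ker ρ).map (algebraMap R S)) :=
    IsLocalRing.of_surjective' _ Ideal.Quotient.mk_surjective
  have hcompl : IsAdicComplete (maximalIdeal (S ⧸ (RingHom.ker ρ).map (algebraMap R S)))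
      (S ⧸ (RingHom.ker ρ).map (algebraMap R S)) :=
    isAdicComplete_quotient ((RingHom.ker ρ).map (algebraMap R S))
  have hmC : (maximalIdeal S).map (Ideal.Quotient.mk ((RingHom.ker ρ).map (algebraMap R S))) =
      maximalIdeal (S ⧸ (RingHom.ker ρ).map (algebraMap R S)) :=
    CohenStruct.map_maximalIdeal_of_surjective _ Ideal.Quotient.mk_surjective
  have hmA : (maximalIdeal R).map ρ = maximalIdeal A :=
    CohenStruct.map_maximalIdeal_of_surjective ρ hρ
  -- flatness
  have hflatC : Module.Flat A (S ⧸ (RingHom.ker ρ).map (algebraMap R S)) := by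
    rw [← RingHom.flat_algebraMap_iff]
    have h1 : (algebraMap (R ⧸ RingHom.ker ρ)
        (S ⧸ (RingHom.ker ρ).map (algebraMap R S))).Flat := RingHom.flat_algebraMap_iff.2 hflat'
    exact RingHom.Flat.comp (RingHom.Flat.of_bijective e.symm.bijective) h1
  -- locality of the structure map
  have hlocalC : IsLocalHom (algebraMap A (S ⧸ (RingHom.ker ρ).map (algebraMap R S))) := by
    refine ⟨fun a ha => ?_⟩
    obtain ⟨r, rfl⟩ := hρ a
    rw [halgC] at ha
    have h1 : IsUnit (algebraMap R S r) := by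
      by_contra hnu
      have h2 : algebraMap R S r ∈ maximalIdeal S := hnu
      have h3 : Ideal.Quotient.mk ((RingHom.ker ρ).map (algebraMap R S)) (algebraMap R S r) ∈
          maximalIdeal (S ⧸ (RingHom.ker ρ).map (algebraMap R S)) := by
        rw [← hmC]
        exact Ideal.mem_map_of_mem _ h2
      exact h3 ha
    exact (isUnit_of_map_unit (algebraMap R S) r h1).map ρ
  -- the projection
  let π₀ : (S ⧸ (RingHom.ker ρ).map (algebraMap R S)) →+* B :=
    Ideal.Quotient.lift ((RingHom.ker ρ).map (algebraMap R S)) σ hISσ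
  have hπ₀ : ∀ x, π₀ (Ideal.Quotient.mk _ x) = σ x := fun x => rfl
  let π : (S ⧸ (RingHom.ker ρ).map (algebraMap R S)) →ₐ[A] B :=
    { π₀ with
      commutes' := fun a => by
        obtain ⟨r, rfl⟩ := hρ a
        change π₀ (algebraMap A _ (ρ r)) = _
        rw [halgC, hπ₀, hστ] }
  have hπ : Function.Surjective π := by
    intro b
    obtain ⟨x, rfl⟩ := hσ b
    exact ⟨Ideal.Quotient.mk _ x, rfl⟩
  refine ⟨S ⧸ (RingHom.ker ρ).map (algebraMap R S), inferInstance, hloc, algC, inferInstance,
    hcompl, hlocalC, hflatC, π, hπ, ?_⟩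
  -- the kernel
  set M : Ideal (S ⧸ (RingHom.ker ρ).map (algebraMap R S)) :=
    (maximalIdeal A).map (algebraMap A (S ⧸ (RingHom.ker ρ).map (algebraMap R S))) with hM
  have hMle : M ≤ RingHom.ker π := by
    rw [hM, Ideal.map_le_iff_le_comap]
    intro a ha
    rw [Ideal.mem_comap, RingHom.mem_ker, AlgHom.commutes]
    exact hkill a ha
  apply le_antisymm _ hMle
  have hkne : RingHom.ker π ≠ ⊤ := RingHom.ker_ne_top _
  have hMne : M ≠ ⊤ := fun h => hkne (top_le_iff.1 (h ▸ hMle))
  have hnt1 : Nontrivial ((S ⧸ (RingHom.ker ρ).map (algebraMap R S)) ⧸ M) :=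
    Ideal.Quotient.nontrivial_iff.2 hMne
  have hloc1 : IsLocalRing ((S ⧸ (RingHom.ker ρ).map (algebraMap R S)) ⧸ M) :=
    IsLocalRing.of_surjective' _ Ideal.Quotient.mk_surjective
  -- images of the maximal ideal of `R` land in `M`
  have hRM : ∀ r ∈ maximalIdeal R, Ideal.Quotient.mk ((RingHom.ker ρ).map (algebraMap R S))
      (algebraMap R S r) ∈ M := by
    intro r hr
    rw [← halgC]
    apply Ideal.mem_map_of_mem
    rw [← hmA]
    exact Ideal.mem_map_of_mem ρ hr
  -- generators of the maximal ideal of the quotient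
  have hmF : maximalIdeal ((S ⧸ (RingHom.ker ρ).map (algebraMap R S)) ⧸ M) ≤
      Ideal.span (Set.range fun j : Fin d => Ideal.Quotient.mk M
        (Ideal.Quotient.mk ((RingHom.ker ρ).map (algebraMap R S)) (z j))) := by
    rw [← CohenStruct.map_maximalIdeal_of_surjective (Ideal.Quotient.mk M)
      Ideal.Quotient.mk_surjective, ← hmC, Ideal.map_map]
    refine (Ideal.map_mono hz).trans ?_
    rw [Ideal.map_sup, sup_le_iff, Ideal.map_map, Ideal.map_span, ← Set.range_comp]
    refine ⟨?_, le_of_eq rfl⟩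
    rw [Ideal.map_le_iff_le_comap]
    intro r hr
    rw [Ideal.mem_comap]
    have h1 : ((Ideal.Quotient.mk M).comp (Ideal.Quotient.mk
        ((RingHom.ker ρ).map (algebraMap R S)))).comp (algebraMap R S) r = 0 := by
      change Ideal.Quotient.mk M (Ideal.Quotient.mk _ (algebraMap R S r)) = 0
      rw [Ideal.Quotient.eq_zero_iff_mem]
      exact hRM r hr
    rw [h1]
    exact Ideal.zero_mem _
  have hspan : (maximalIdeal ((S ⧸ (RingHom.ker ρ).map (algebraMap R S)) ⧸ M)).spanFinrank ≤ d := by
    have heq : maximalIdeal ((S ⧸ (RingHom.ker ρ).map (algebraMap R S)) ⧸ M) =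
        Ideal.span (Set.range fun j : Fin d => Ideal.Quotient.mk M
          (Ideal.Quotient.mk ((RingHom.ker ρ).map (algebraMap R S)) (z j))) := by
      apply le_antisymm hmF
      rw [Ideal.span_le]
      rintro _ ⟨j, rfl⟩
      have h1 : Ideal.Quotient.mk ((RingHom.ker ρ).map (algebraMap R S)) (z j) ∈
          maximalIdeal (S ⧸ (RingHom.ker ρ).map (algebraMap R S)) := by
        rw [← hmC]
        exact Ideal.mem_map_of_mem _ (hzm j)
      rw [← CohenStruct.map_maximalIdeal_of_surjective (Ideal.Quotient.mk M)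
        Ideal.Quotient.mk_surjective]
      exact Ideal.mem_map_of_mem _ h1
    rw [heq]
    have hfin : (Set.range fun j : Fin d => Ideal.Quotient.mk M
        (Ideal.Quotient.mk ((RingHom.ker ρ).map (algebraMap R S)) (z j))).Finite :=
      Set.finite_range _
    refine (Submodule.spanFinrank_span_le_ncard_of_finite hfin).trans ?_
    have := Set.ncard_image_le (f := fun j : Fin d => Ideal.Quotient.mk M
        (Ideal.Quotient.mk ((RingHom.ker ρ).map (algebraMap R S)) (z j))) (Set.finite_univ)
    rw [Set.image_univ, Set.ncard_univ, Nat.card_eq_fintype_card, Fintype.card_fin] at this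
    exact this
  let πbar : ((S ⧸ (RingHom.ker ρ).map (algebraMap R S)) ⧸ M) →+* B :=
    Ideal.Quotient.lift M (π : _ →+* B) (fun c hc => (RingHom.mem_ker).1 (hMle hc))
  have hπbar : ∀ c, πbar (Ideal.Quotient.mk M c) = π c := fun c => rfl
  have hπbars : Function.Surjective πbar := by
    intro b
    obtain ⟨c, rfl⟩ := hπ b
    exact ⟨Ideal.Quotient.mk M c, rfl⟩
  have hdimle : ringKrullDim ((S ⧸ (RingHom.ker ρ).map (algebraMap R S)) ⧸ M) ≤ (d : WithBot ℕ∞) := by
    refine (ringKrullDim_le_spanFinrank_maximalIdeal _).trans ?_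
    exact_mod_cast hspan
  have hdimge : (d : WithBot ℕ∞) ≤ ringKrullDim ((S ⧸ (RingHom.ker ρ).map (algebraMap R S)) ⧸ M) := by
    rw [← hd]
    exact ringKrullDim_le_of_surjective πbar hπbars
  have hreg : IsRegularLocalRing ((S ⧸ (RingHom.ker ρ).map (algebraMap R S)) ⧸ M) := by
    apply IsRegularLocalRing.of_spanFinrank_maximalIdeal_le
    refine le_trans ?_ hdimge
    exact_mod_cast hspan
  have hdom : IsDomain ((S ⧸ (RingHom.ker ρ).map (algebraMap R S)) ⧸ M) :=
    Groth.Agent.Lib.helper19.isDomain_of_isRegularLocalRing _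
  have hinj : Function.Injective πbar :=
    CohenFin.injective_of_finite_of_dim_le πbar (RingHom.Finite.of_surjective _ hπbars) d hdimle hd
  intro c hc
  rw [RingHom.mem_ker] at hc
  have h1 : πbar (Ideal.Quotient.mk M c) = 0 := hc
  rw [← map_zero πbar] at h1
  exact Ideal.Quotient.eq_zero_iff_mem.1 (hinj h1)

end Core

end Groth.Agent.Lib.Helper5.FlatCohen
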