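import Groth.Agent.Lib.Helper5.FlatCohenH

set_option autoImplicit false
set_option linter.unusedSectionVars false
universe u

namespace Groth.Agent.Lib.Helper5.FlatCohen

open IsLocalRing MvPowerSeries Groth.Agent.Lib.Helper12

variable {A B : Type u} [CommRing A] [CommRing B] [IsLocalRing A]
  [IsNoetherianRing A] [IsAdicComplete (maximalIdeal A) A]
  [IsRegularLocalRing B] [IsAdicComplete (maximalIdeal B) B]
  [Algebra A B] [IsLocalHom (algebraMap A B)]

/-- a complete regular local ring killed by the maximal ideal of `A` is the closed fibre of a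
flat complete Noetherian local `A`-algebra -/
theorem exists_flat_lift (hkill : ∀ a ∈ maximalIdeal A, algebraMap A B a = 0) :
    ∃ (C : Type u) (_ : CommRing C) (_ : IsLocalRing C) (_ : Algebra A C),
      IsNoetherianRing C ∧ IsAdicComplete (maximalIdeal C) C ∧ IsLocalHom (algebraMap A C) ∧
        Module.Flat A C ∧ ∃ π : C →ₐ[A] B, Function.Surjective π ∧
          RingHom.ker π = (maximalIdeal A).map (algebraMap A C) := by
  classical
  obtain ⟨d, b, hb, hd⟩ := CohenEqui.exists_gens B
  obtain ⟨Λ, Λ', _, _, _, _, _, _, r, g, g', n, ρ, σ, τ, hg, hg', hρ, hσ, hcomm, hflat, hτC, hτX⟩ :=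
    exists_presentation_full_gens A B b hb
  let _ : Algebra (MvPowerSeries (Fin n) Λ) (MvPowerSeries (Fin (n + d)) Λ') := τ.toAlgebra
  have halg : algebraMap (MvPowerSeries (Fin n) Λ) (MvPowerSeries (Fin (n + d)) Λ') = τ :=
    RingHom.algebraMap_toAlgebra τ
  have _ : Module.Flat (MvPowerSeries (Fin n) Λ) (MvPowerSeries (Fin (n + d)) Λ') := hflat
  have hcomplS : IsAdicComplete (maximalIdeal (MvPowerSeries (Fin (n + d)) Λ'))
      (MvPowerSeries (Fin (n + d)) Λ') :=
    { toIsHausdorff := inferInstance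
      toIsPrecomplete := Helper1.PSDecomp.isPrecomplete }
  have hXm : ∀ k : Fin (n + d), (X k : MvPowerSeries (Fin (n + d)) Λ') ∈
      maximalIdeal (MvPowerSeries (Fin (n + d)) Λ') :=
    fun k => Helper1.PSDecomp.X_mem_maximalIdeal k
  have hCm : ∀ j, (C (g' j) : MvPowerSeries (Fin (n + d)) Λ') ∈
      maximalIdeal (MvPowerSeries (Fin (n + d)) Λ') := by
    intro j
    apply Helper1.PSDecomp.C_mem_maximalIdeal
    rw [hg']
    exact Ideal.subset_span ⟨j, rfl⟩
  have hlocal : IsLocalHom τ := by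
    refine CohenFin.isLocalHom_eval τ (τ.comp C) (fun i => X (Fin.castAdd d i)) (fun c => rfl) hτX
      ?_ (fun i => hXm _)
    rw [hg, Ideal.map_span, Ideal.span_le]
    rintro _ ⟨_, ⟨j, rfl⟩, rfl⟩
    rw [RingHom.comp_apply, hτC]
    exact hCm j
  have _ : IsLocalHom (algebraMap (MvPowerSeries (Fin n) Λ) (MvPowerSeries (Fin (n + d)) Λ')) := by
    rw [halg]
    exact hlocal
  have hCR : ∀ j, (C (g j) : MvPowerSeries (Fin n) Λ) ∈ maximalIdeal (MvPowerSeries (Fin n) Λ) := by
    intro j
    apply Helper1.PSDecomp.C_mem_maximalIdeal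
    rw [hg]
    exact Ideal.subset_span ⟨j, rfl⟩
  have hXR : ∀ i : Fin n, (X i : MvPowerSeries (Fin n) Λ) ∈
      maximalIdeal (MvPowerSeries (Fin n) Λ) := fun i => Helper1.PSDecomp.X_mem_maximalIdeal i
  refine exists_lift_of_presentation ρ σ hρ hσ (fun r => ?_) hkill hd
    (fun j : Fin d => (X (Fin.natAdd n j) : MvPowerSeries (Fin (n + d)) Λ')) (fun j => hXm _) ?_
  · rw [halg]
    exact congrArg (fun f : MvPowerSeries (Fin n) Λ →+* B => f r) hcomm
  · rw [CohenFin.maximalIdeal_ps_eq_sup, hg', Ideal.map_span, ← Set.range_comp, sup_le_iff,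
      Ideal.span_le, Ideal.span_le, halg]
    constructor
    · rintro _ ⟨j, rfl⟩
      apply Ideal.mem_sup_left
      change (C (g' j) : MvPowerSeries (Fin (n + d)) Λ') ∈ _
      rw [← hτC]
      exact Ideal.mem_map_of_mem τ (hCR j)
    · rintro _ ⟨k, rfl⟩
      refine Fin.addCases (fun i => ?_) (fun j => ?_) k
      · apply Ideal.mem_sup_left
        rw [← hτX]
        exact Ideal.mem_map_of_mem τ (hXR i)
      · apply Ideal.mem_sup_right
        exact Ideal.subset_span ⟨j, rfl⟩

end Groth.Agent.Lib.Helper5.FlatCohen
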