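import Groth.Agent.Lib.Helper5.FlatCohenG2
import Groth.Agent.Lib.Helper5.FlatCohenH
import Groth.Agent.Lib.Helper5.FlatCohenA

set_option autoImplicit false
set_option linter.unusedSectionVars false
universe u

namespace Groth.Agent.Lib.Helper5.FlatCohen

open IsLocalRing MvPowerSeries Groth.Agent.Lib.Helper12

section Core

variable {R S A B : Type u} [CommRing R] [CommRing S] [CommRing A] [CommRing B]
  [Algebra R S] [Module.Flat R S] [Algebra A B]
  [IsLocalRing R] [IsLocalRing A]
  [IsLocalRing S] [IsNoetherianRing S] [IsAdicComplete (maximalIdeal S) S]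
  [IsLocalHom (algebraMap R S)] [Nontrivial B]

/-- the flat factorization constructed from a flat presentation with regular closed fibre -/
theorem exists_factor_of_presentation (ρ : R →+* A) (σ : S →+* B) (hρ : Function.Surjective ρ)
    (hσ : Function.Surjective σ) (hστ : ∀ r, σ (algebraMap R S r) = algebraMap A B (ρ r))
    (hF : IsRegularRing (S ⧸ (maximalIdeal R).map (algebraMap R S))) :
    ∃ (C : Type u) (_ : CommRing C) (_ : IsLocalRing C) (_ : Algebra A C),
      IsNoetherianRing C ∧ IsAdicComplete (maximalIdeal C) C ∧ IsLocalHom (algebraMap A C) ∧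
        Module.Flat A C ∧
        (∀ _ : IsLocalRing (C ⧸ (maximalIdeal A).map (algebraMap A C)),
          IsRegularLocalRing (C ⧸ (maximalIdeal A).map (algebraMap A C))) ∧
        ∃ π : C →ₐ[A] B, Function.Surjective π := by
  classical
  have hflat' : Module.Flat (R ⧸ RingHom.ker ρ) (S ⧸ (RingHom.ker ρ).map (algebraMap R S)) :=
    Groth.Agent.Lib.Helper2.QuotFlat.flat_quotient_of_flat_tensor (RingHom.ker ρ)
  let e : (R ⧸ RingHom.ker ρ) ≃+* A := RingHom.quotientKerEquivOfSurjective hρ
  have he : ∀ r, e (Ideal.Quotient.mk (RingHom.ker ρ) r) = ρ r := fun r => rfl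
  have hes : ∀ r, e.symm (ρ r) = Ideal.Quotient.mk (RingHom.ker ρ) r := by
    intro r
    rw [RingEquiv.symm_apply_eq, he]
  let algC : Algebra A (S ⧸ (RingHom.ker ρ).map (algebraMap R S)) :=
    ((algebraMap (R ⧸ RingHom.ker ρ) (S ⧸ (RingHom.ker ρ).map (algebraMap R S))).comp
      (e.symm : A →+* R ⧸ RingHom.ker ρ)).toAlgebra
  have halgC : ∀ r, algebraMap A (S ⧸ (RingHom.ker ρ).map (algebraMap R S)) (ρ r) =
      Ideal.Quotient.mk _ (algebraMap R S r) := by
    intro r
    change algebraMap (R ⧸ RingHom.ker ρ) (S ⧸ (RingHom.ker ρ).map (algebraMap R S))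
      (e.symm (ρ r)) = _
    rw [hes]
    rfl
  have hISσ : ∀ x ∈ (RingHom.ker ρ).map (algebraMap R S), σ x = 0 := by
    have : (RingHom.ker ρ).map (algebraMap R S) ≤ RingHom.ker σ := by
      rw [Ideal.map_le_iff_le_comap]
      intro r hr
      rw [Ideal.mem_comap, RingHom.mem_ker, hστ, (RingHom.mem_ker).1 hr, map_zero]
    intro x hx
    exact this hx
  have hISne : (RingHom.ker ρ).map (algebraMap R S) ≠ ⊤ := by
    intro htop
    have : (1 : S) ∈ (RingHom.ker ρ).map (algebraMap R S) := htop ▸ Submodule.mem_top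
    have h1 := hISσ 1 this
    rw [map_one] at h1
    exact one_ne_zero h1
  have hnt : Nontrivial (S ⧸ (RingHom.ker ρ).map (algebraMap R S)) :=
    Ideal.Quotient.nontrivial_iff.2 hISne
  have hloc : IsLocalRing (S ⧸ (RingHom.ker ρ).map (algebraMap R S)) :=
    IsLocalRing.of_surjective' _ Ideal.Quotient.mk_surjective
  have hcompl : IsAdicComplete (maximalIdeal (S ⧸ (RingHom.ker ρ).map (algebraMap R S)))
      (S ⧸ (RingHom.ker ρ).map (algebraMap R S)) :=
    isAdicComplete_quotient ((RingHom.ker ρ).map (algebraMap R S))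
  have hmC : (maximalIdeal S).map (Ideal.Quotient.mk ((RingHom.ker ρ).map (algebraMap R S))) =
      maximalIdeal (S ⧸ (RingHom.ker ρ).map (algebraMap R S)) :=
    CohenStruct.map_maximalIdeal_of_surjective _ Ideal.Quotient.mk_surjective
  have hmA : (maximalIdeal R).map ρ = maximalIdeal A :=
    CohenStruct.map_maximalIdeal_of_surjective ρ hρ
  have hflatC : Module.Flat A (S ⧸ (RingHom.ker ρ).map (algebraMap R S)) := by
    rw [← RingHom.flat_algebraMap_iff]
    have h1 : (algebraMap (R ⧸ RingHom.ker ρ)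
        (S ⧸ (RingHom.ker ρ).map (algebraMap R S))).Flat := RingHom.flat_algebraMap_iff.2 hflat'
    exact RingHom.Flat.comp (RingHom.Flat.of_bijective e.symm.bijective) h1
  have hlocalC : IsLocalHom (algebraMap A (S ⧸ (RingHom.ker ρ).map (algebraMap R S))) := by
    refine ⟨fun a ha => ?_⟩
    obtain ⟨r, rfl⟩ := hρ a
    rw [halgC] at ha
    have h1 : IsUnit (algebraMap R S r) := by
      by_contra hnu
      have h2 : algebraMap R S r ∈ maximalIdeal S := hnu
      have h3 : Ideal.Quotient.mk ((RingHom.ker ρ).map (algebraMap R S)) (algebraMap R S r) ∈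
          maximalIdeal (S ⧸ (RingHom.ker ρ).map (algebraMap R S)) := by
        rw [← hmC]
        exact Ideal.mem_map_of_mem _ h2
      exact h3 ha
    exact (isUnit_of_map_unit (algebraMap R S) r h1).map ρ
  let π₀ : (S ⧸ (RingHom.ker ρ).map (algebraMap R S)) →+* B :=
    Ideal.Quotient.lift ((RingHom.ker ρ).map (algebraMap R S)) σ hISσ
  have hπ₀ : ∀ x, π₀ (Ideal.Quotient.mk _ x) = σ x := fun x => rfl
  let π : (S ⧸ (RingHom.ker ρ).map (algebraMap R S)) →ₐ[A] B :=
    { π₀ with
      commutes' := fun a => by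
        obtain ⟨r, rfl⟩ := hρ a
        change π₀ (algebraMap A _ (ρ r)) = _
        rw [halgC, hπ₀, hστ] }
  have hπ : Function.Surjective π := by
    intro b
    obtain ⟨x, rfl⟩ := hσ b
    exact ⟨Ideal.Quotient.mk _ x, rfl⟩
  refine ⟨S ⧸ (RingHom.ker ρ).map (algebraMap R S), inferInstance, hloc, algC, inferInstance,
    hcompl, hlocalC, hflatC, ?_, π, hπ⟩
  intro hlocF
  -- the closed fibre
  have hkerle : RingHom.ker ρ ≤ maximalIdeal R := le_maximalIdeal (RingHom.ker_ne_top ρ)
  have hMeq : (maximalIdeal A).map (algebraMap A (S ⧸ (RingHom.ker ρ).map (algebraMap R S))) =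
      ((maximalIdeal R).map (algebraMap R S)).map
        (Ideal.Quotient.mk ((RingHom.ker ρ).map (algebraMap R S))) := by
    rw [← hmA, Ideal.map_map, Ideal.map_map]
    congr 1
    ext r
    exact halgC r
  have hsup : (RingHom.ker ρ).map (algebraMap R S) ⊔ (maximalIdeal R).map (algebraMap R S) =
      (maximalIdeal R).map (algebraMap R S) :=
    sup_eq_right.2 (Ideal.map_mono hkerle)
  let ε : ((S ⧸ (RingHom.ker ρ).map (algebraMap R S)) ⧸
      (maximalIdeal A).map (algebraMap A (S ⧸ (RingHom.ker ρ).map (algebraMap R S)))) ≃+*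
      S ⧸ (maximalIdeal R).map (algebraMap R S) :=
    ((Ideal.quotEquivOfEq hMeq).trans
      (DoubleQuot.quotQuotEquivQuotSup ((RingHom.ker ρ).map (algebraMap R S))
        ((maximalIdeal R).map (algebraMap R S)))).trans (Ideal.quotEquivOfEq hsup)
  have hreg2 : IsRegularRing ((S ⧸ (RingHom.ker ρ).map (algebraMap R S)) ⧸
      (maximalIdeal A).map (algebraMap A (S ⧸ (RingHom.ker ρ).map (algebraMap R S)))) :=
    IsRegularRing.of_ringEquiv ε.symm
  exact IsRegularLocalRing.of_isRegularRing_of_isLocalRing _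

end Core

section Main

variable (A B : Type u) [CommRing A] [CommRing B] [IsLocalRing A] [IsLocalRing B]
  [IsNoetherianRing A] [IsNoetherianRing B]
  [IsAdicComplete (maximalIdeal A) A] [IsAdicComplete (maximalIdeal B) B]
  [Algebra A B] [IsLocalHom (algebraMap A B)]

/-- Cohen factorization of a local homomorphism of complete Noetherian local rings -/
theorem exists_cohen_factorization :
    ∃ (C : Type u) (_ : CommRing C) (_ : IsLocalRing C) (_ : Algebra A C),
      IsNoetherianRing C ∧ IsAdicComplete (maximalIdeal C) C ∧ IsLocalHom (algebraMap A C) ∧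
        Module.Flat A C ∧
        (∀ _ : IsLocalRing (C ⧸ (maximalIdeal A).map (algebraMap A C)),
          IsRegularLocalRing (C ⧸ (maximalIdeal A).map (algebraMap A C))) ∧
        ∃ π : C →ₐ[A] B, Function.Surjective π := by
  classical
  obtain ⟨t, b, hb⟩ := Submodule.fg_iff_exists_fin_generating_family.mp
    (IsNoetherian.noetherian (maximalIdeal B))
  have hb' : Ideal.span (Set.range b) = maximalIdeal B := hb
  obtain ⟨Λ, Λ', _, _, _, _, _, _, r, g, g', n, ρ, σ, τ, hg, hg', hρ, hσ, hcomm, hflat, hτC, hτX,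
    hdim, hdim', hNΛ⟩ := exists_presentation_full_gens' A B b hb'
  obtain ⟨-, hregF⟩ := flat_and_regular g g' hg hdim hg' hdim' τ hτC hτX
  let _ : Algebra (MvPowerSeries (Fin n) Λ) (MvPowerSeries (Fin (n + t)) Λ') := τ.toAlgebra
  have halg : algebraMap (MvPowerSeries (Fin n) Λ) (MvPowerSeries (Fin (n + t)) Λ') = τ :=
    RingHom.algebraMap_toAlgebra τ
  have _ : Module.Flat (MvPowerSeries (Fin n) Λ) (MvPowerSeries (Fin (n + t)) Λ') := hflat
  have hcomplS : IsAdicComplete (maximalIdeal (MvPowerSeries (Fin (n + t)) Λ'))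
      (MvPowerSeries (Fin (n + t)) Λ') :=
    { toIsHausdorff := inferInstance
      toIsPrecomplete := Helper1.PSDecomp.isPrecomplete }
  have hXm : ∀ k : Fin (n + t), (X k : MvPowerSeries (Fin (n + t)) Λ') ∈
      maximalIdeal (MvPowerSeries (Fin (n + t)) Λ') :=
    fun k => Helper1.PSDecomp.X_mem_maximalIdeal k
  have hCm : ∀ j, (C (g' j) : MvPowerSeries (Fin (n + t)) Λ') ∈
      maximalIdeal (MvPowerSeries (Fin (n + t)) Λ') := by
    intro j
    apply Helper1.PSDecomp.C_mem_maximalIdeal
    rw [hg']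
    exact Ideal.subset_span ⟨j, rfl⟩
  have hlocal : IsLocalHom τ := by
    refine CohenFin.isLocalHom_eval τ (τ.comp C) (fun i => X (Fin.castAdd t i)) (fun c => rfl) hτX
      ?_ (fun i => hXm _)
    rw [hg, Ideal.map_span, Ideal.span_le]
    rintro _ ⟨_, ⟨j, rfl⟩, rfl⟩
    rw [RingHom.comp_apply, hτC]
    exact hCm j
  have _ : IsLocalHom (algebraMap (MvPowerSeries (Fin n) Λ) (MvPowerSeries (Fin (n + t)) Λ')) := by
    rw [halg]
    exact hlocal
  refine exists_factor_of_presentation ρ σ hρ hσ (fun r => ?_) ?_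
  · rw [halg]
    exact congrArg (fun f : MvPowerSeries (Fin n) Λ →+* B => f r) hcomm
  · rw [halg]
    exact hregF

end Main

end Groth.Agent.Lib.Helper5.FlatCohen
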