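import Groth.Agent.Lib.Helper5.FlatLiftIso
import Groth.Agent.S3866

set_option autoImplicit false
set_option linter.unusedSectionVars false
universe u

namespace Groth.Agent.Lib.Helper5.FlatLiftQ

open EGA41 IsLocalRing

section Bij

variable {R D D' E : Type u} [CommRing R] (I : Ideal R)
    [CommRing D] [IsLocalRing D] [IsNoetherianRing D] [Algebra R D]
    [CommRing D'] [IsLocalRing D'] [Algebra R D'] [CommRing E] [Algebra R E]

theorem not_isUnit_of_comp (p : D →ₐ[R] E) (hp : Function.Surjective p)
    (hker : RingHom.ker p ≤ maximalIdeal D) {d : D} (hd : d ∈ maximalIdeal D) :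
    ¬ IsUnit (p d) := by
  intro hu
  obtain ⟨e', he'⟩ := hu.exists_right_inv
  obtain ⟨d', rfl⟩ := hp e'
  have h1 : d * d' - 1 ∈ RingHom.ker p := by
    rw [RingHom.mem_ker, map_sub, map_mul, he', map_one, sub_self]
  have h2 : d * d' - 1 ∈ maximalIdeal D := hker h1
  have h3 : d * d' ∈ maximalIdeal D := Ideal.mul_mem_right _ _ hd
  have h4 : (1 : D) ∈ maximalIdeal D := by
    have := Ideal.sub_mem _ h3 h2
    rwa [sub_sub_cancel] at this
  exact (Ideal.ne_top_iff_one _).1 (maximalIdeal.isMaximal D).ne_top h4

theorem bijective_of_comp [IsAdicComplete (maximalIdeal D) D]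
    [IsHausdorff (maximalIdeal D') D'] [Module.Flat R D']
    (p : D →ₐ[R] E) (p' : D' →ₐ[R] E) (v : D →ₐ[R] D') (hv : p'.comp v = p)
    (hp : Function.Surjective p) (hker : RingHom.ker p = I.map (algebraMap R D))
    (hker' : RingHom.ker p' = I.map (algebraMap R D'))
    (hI : I.map (algebraMap R D) ≤ maximalIdeal D) :
    Function.Bijective v := by
  have hvp : ∀ d, p' (v d) = p d := fun d => AlgHom.congr_fun hv d
  have hloc : (maximalIdeal D).map v.toRingHom ≤ maximalIdeal D' := by
    rw [Ideal.map_le_iff_le_comap]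
    intro d hd
    rw [Ideal.mem_comap, mem_maximalIdeal, mem_nonunits_iff]
    intro hu
    have h1 : IsUnit (p d) := by
      rw [← hvp]
      exact hu.map p'
    exact not_isUnit_of_comp p hp (hker ▸ hI) hd h1
  have hImap : I.map (algebraMap R D') = (I.map (algebraMap R D)).map v.toRingHom := by
    rw [Ideal.map_map]
    congr 1
    ext r
    exact (v.commutes r).symm
  have hsurj : Function.Surjective v := by
    have _ : IsHausdorff ((maximalIdeal D).map v.toRingHom) D' := by
      refine IsHausdorff.of_map (R := D') (S := D') (J := maximalIdeal D') ?_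
      rw [Algebra.algebraMap_self, Ideal.map_id]
      exact hloc
    refine surjective_of_mk_map_comp_surjective (I := maximalIdeal D) v.toRingHom ?_
    intro y
    obtain ⟨y', rfl⟩ := Ideal.Quotient.mk_surjective y
    obtain ⟨d, hd⟩ := hp (p' y')
    refine ⟨d, ?_⟩
    rw [RingHom.comp_apply, Ideal.Quotient.eq]
    have h1 : v d - y' ∈ RingHom.ker p' := by
      rw [RingHom.mem_ker, map_sub, hvp, hd, sub_self]
    rw [hker', hImap] at h1
    exact Ideal.map_mono hI h1
  refine ⟨?_, hsurj⟩
  rw [injective_iff_map_eq_zero]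
  set JB := I.map (algebraMap R D) with hJB
  set N : Ideal D := RingHom.ker v with hNdef
  have hNJ : N ≤ JB := by
    intro x hx
    have hx0 : v x = 0 := hx
    rw [← hker, RingHom.mem_ker, ← hvp, hx0, map_zero]
  have hN : N ≤ JB • N := by
    intro x hx
    have h1 : x ∈ LinearMap.ker v.toLinearMap ⊓ (I • ⊤ : Submodule R D) := by
      refine ⟨hx, ?_⟩
      rw [Ideal.smul_top_eq_map]
      exact hNJ hx
    have h2 := FlatLiftIso.ker_inf_smul_top_le v.toLinearMap hsurj I h1
    refine Submodule.smul_induction_on h2 ?_ ?_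
    · intro a ha n hn
      have hn' : n ∈ N := hn
      have h3 : a • n = algebraMap R D a * n := Algebra.smul_def a n
      have h4 := Ideal.mul_mem_mul (Ideal.mem_map_of_mem (algebraMap R D) ha) hn'
      rw [← h3] at h4
      exact h4
    · intro y z hy hz
      exact add_mem hy hz
  have hN0 : N = ⊥ := Submodule.eq_bot_of_le_smul_of_le_jacobson_bot JB N
    (IsNoetherian.noetherian N) hN (hI.trans (IsLocalRing.maximalIdeal_le_jacobson _))
  intro x hx
  have : x ∈ N := hx
  rw [hN0] at this
  exact (Submodule.mem_bot _).1 this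

end Bij

end Groth.Agent.Lib.Helper5.FlatLiftQ
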