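import Groth.Agent.Lib.Helper5.FlatLiftQA

set_option autoImplicit false
set_option linter.unusedSectionVars false
universe u

namespace Groth.Agent.Lib.Helper5.FlatLiftQ

open EGA41 IsLocalRing

variable {R D D' E : Type u} [CommRing R] (I 𝔯 : Ideal R)
    [CommRing D] [IsLocalRing D] [IsNoetherianRing D] [Algebra R D]
    [CommRing D'] [IsLocalRing D'] [IsNoetherianRing D'] [Algebra R D'] [CommRing E] [Algebra R E]

/-- two complete Noetherian local algebras with the same reduction modulo `I`, the first formally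
smooth and the second flat, are isomorphic compatibly with the reductions -/
theorem exists_algEquiv_of_comp [IsAdicComplete (maximalIdeal D) D]
    [IsAdicComplete (maximalIdeal D') D'] [Module.Flat R D']
    (hfs : IsFormallySmoothAdic R 𝔯 D (maximalIdeal D))
    (h𝔯 : ∃ k : ℕ, (𝔯 ^ k).map (algebraMap R D') ≤ maximalIdeal D')
    (p : D →ₐ[R] E) (p' : D' →ₐ[R] E)
    (hp : Function.Surjective p) (hp' : Function.Surjective p')
    (hker : RingHom.ker p = I.map (algebraMap R D))
    (hker' : RingHom.ker p' = I.map (algebraMap R D'))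
    (hI : I.map (algebraMap R D) ≤ maximalIdeal D)
    (hI' : I.map (algebraMap R D') ≤ maximalIdeal D') :
    ∃ e : D ≃ₐ[R] D', p'.comp (e : D →ₐ[R] D') = p := by
  set K : Ideal D' := RingHom.ker p' with hK
  let q : (D' ⧸ K) ≃ₐ[R] E := Ideal.quotientKerAlgEquivOfSurjective hp'
  have hq : ∀ y, q (Ideal.Quotient.mk K y) = p' y := fun y => rfl
  let u : D →ₐ[R] D' ⧸ K := (q.symm : E →ₐ[R] D' ⧸ K).comp p
  have hu_apply : ∀ d, q (u d) = p d := fun d => q.apply_symm_apply (p d)
  have hH : IsHausdorff ((maximalIdeal D').map (Ideal.Quotient.mk K)) (D' ⧸ K) := by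
    have h1 : IsHausdorff (maximalIdeal D') (D' ⧸ K) :=
      IsHausdorff.of_le_jacobson (maximalIdeal D') (D' ⧸ K) (maximalIdeal_le_jacobson ⊥)
    exact (IsHausdorff.map_algebraMap_iff (I := maximalIdeal D') (S := D' ⧸ K)
      (M := D' ⧸ K)).2 h1
  have hu : ∃ k : ℕ, (maximalIdeal D ^ k).map u.toRingHom ≤
      (maximalIdeal D').map (Ideal.Quotient.mk K) := by
    refine ⟨1, ?_⟩
    rw [pow_one, Ideal.map_le_iff_le_comap]
    intro d hd
    rw [Ideal.mem_comap]
    obtain ⟨y, hy⟩ := Ideal.Quotient.mk_surjective (u d)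
    change u d ∈ _
    rw [← hy]
    apply Ideal.mem_map_of_mem
    rw [mem_maximalIdeal, mem_nonunits_iff]
    intro hyu
    have h1 : IsUnit (p d) := by
      rw [← hu_apply, ← hy, hq]
      exact hyu.map p'
    exact not_isUnit_of_comp p hp (hker ▸ hI) hd h1
  obtain ⟨v, -, hv⟩ := AdicLift.exists_lift_adicComplete 𝔯 (maximalIdeal D) (maximalIdeal D')
    hfs h𝔯 K ⟨1, by rw [pow_one, hker']; exact hI'⟩ u hu
  have hvp : p'.comp v = p := by
    ext d
    have h1 : Ideal.Quotient.mk K (v d) = u d := AlgHom.congr_fun hv d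
    rw [AlgHom.comp_apply, ← hq, h1, hu_apply]
  have hbij := bijective_of_comp I p p' v hvp hp hker hker' hI
  refine ⟨AlgEquiv.ofBijective v hbij, ?_⟩
  ext d
  exact AlgHom.congr_fun hvp d

end Groth.Agent.Lib.Helper5.FlatLiftQ
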