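import Groth.Agent.Lib.Helper5.FlatSmoothA

set_option autoImplicit false
set_option linter.unusedSectionVars false
universe u

namespace Groth.Agent.Lib.Helper5.FlatSmooth

open IsLocalRing

variable {A B : Type u} [CommRing A] [IsLocalRing A] [CommRing B] [IsLocalRing B]
  [IsNoetherianRing B] [Algebra A B] [Module.Flat A B]

theorem exists_continuous_lift (n : ℕ) : ∀ (i : ℕ) (P Q : Type u) [AddCommGroup P] [Module A P]
    [AddCommGroup Q] [Module A Q], (∀ a ∈ maximalIdeal A ^ n, ∀ y : P, a • y = 0) →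
    (∀ a ∈ maximalIdeal A ^ n, ∀ y : Q, a • y = 0) → ∀ f : P →ₗ[A] Q, Function.Surjective f →
    (∀ a ∈ maximalIdeal A ^ i, ∀ x ∈ LinearMap.ker f, a • x = 0) → ∀ v : B →ₗ[A] Q,
    (∃ j : ℕ, ∀ x ∈ maximalIdeal B ^ j, v x = 0) →
    ∃ w : B →ₗ[A] P, (∃ j : ℕ, ∀ x ∈ maximalIdeal B ^ j, w x = 0) ∧ f ∘ₗ w = v := by
  intro i
  induction i with
  | zero =>
    intro P Q _ _ _ _ hP hQ f hf hK v hv
    have hinj : Function.Injective f := by
      rw [← LinearMap.ker_eq_bot, eq_bot_iff]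
      intro x hx
      have := hK 1 (by rw [pow_zero, Ideal.one_eq_top]; trivial) x hx
      rw [one_smul] at this
      rw [this]
      exact Submodule.zero_mem _
    let e : P ≃ₗ[A] Q := LinearEquiv.ofBijective f ⟨hinj, hf⟩
    obtain ⟨j, hj⟩ := hv
    refine ⟨e.symm.toLinearMap ∘ₗ v, ⟨j, fun x hx => ?_⟩, ?_⟩
    · rw [LinearMap.comp_apply, hj x hx, map_zero]
    · ext b
      exact e.apply_symm_apply (v b)
  | succ i ih =>
    intro P Q _ _ _ _ hP hQ f hf hK v hv
    set m := maximalIdeal A with hm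
    let K₁ : Submodule A P := m • LinearMap.ker f
    have hK₁le : K₁ ≤ LinearMap.ker f := by
      rw [Submodule.smul_le]
      intro a _ x hx
      exact Submodule.smul_mem _ a hx
    let f₁ : (P ⧸ K₁) →ₗ[A] Q := K₁.liftQ f hK₁le
    have hf₁mk : ∀ y : P, f₁ (K₁.mkQ y) = f y := fun y => rfl
    have hf₁ : Function.Surjective f₁ := by
      intro z
      obtain ⟨y, rfl⟩ := hf z
      exact ⟨K₁.mkQ y, rfl⟩
    have hP₁ : ∀ a ∈ m ^ n, ∀ y : P ⧸ K₁, a • y = 0 := by
      intro a ha y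
      obtain ⟨y', rfl⟩ := K₁.mkQ_surjective y
      rw [← map_smul, hP a ha, map_zero]
    have hker₁ : ∀ a ∈ m, ∀ x ∈ LinearMap.ker f₁, a • x = 0 := by
      intro a ha x hx
      obtain ⟨y, rfl⟩ := K₁.mkQ_surjective x
      rw [LinearMap.mem_ker, hf₁mk] at hx
      rw [← map_smul, Submodule.mkQ_apply, Submodule.Quotient.mk_eq_zero]
      exact Submodule.smul_mem_smul ha hx
    obtain ⟨w₀, hw₀⟩ := FlatLiftNilp.exists_lift_of_flat m n hP₁ hQ f₁ hf₁ v
    obtain ⟨j, hj⟩ := hv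
    have hvj : ∀ x ∈ maximalIdeal B ^ j, f₁ (w₀ x) = 0 := by
      intro x hx
      have := congrArg (fun g : B →ₗ[A] Q => g x) hw₀
      change f₁ (w₀ x) = v x at this
      rw [this, hj x hx]
    obtain ⟨w₁, hw₁, j', hj'⟩ := exists_continuous_modify f₁ hker₁ w₀ j hvj
    have hπsurj : Function.Surjective K₁.mkQ := K₁.mkQ_surjective
    have hkerπ : ∀ b ∈ m ^ i, ∀ x ∈ LinearMap.ker K₁.mkQ, b • x = 0 := by
      intro b hb x hx
      rw [Submodule.ker_mkQ] at hx
      refine Submodule.smul_induction_on hx ?_ ?_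
      · intro a ha y hy
        rw [smul_smul]
        apply hK (b * a) _ y hy
        rw [pow_succ]
        exact Ideal.mul_mem_mul hb ha
      · intro x₁ x₂ h₁ h₂
        rw [smul_add, h₁, h₂, add_zero]
    obtain ⟨w, hwc, hw⟩ := ih P (P ⧸ K₁) hP hP₁ K₁.mkQ hπsurj hkerπ w₁ ⟨j', hj'⟩
    refine ⟨w, hwc, ?_⟩
    ext b
    have h1 : K₁.mkQ (w b) = w₁ b := congrArg (fun g : B →ₗ[A] P ⧸ K₁ => g b) hw
    have h2 : f₁ (w₁ b) = f₁ (w₀ b) := congrArg (fun g : B →ₗ[A] Q => g b) hw₁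
    have h3 : f₁ (w₀ b) = v b := congrArg (fun g : B →ₗ[A] Q => g b) hw₀
    rw [LinearMap.comp_apply, ← hf₁mk, h1, h2, h3]

/-- a flat Noetherian local algebra over a local ring is formally projective for the adic
topologies of the maximal ideals -/
theorem formallyProjective_of_flat :
    FormallyProj.FormallyProjective (maximalIdeal A) (maximalIdeal B) := by
  intro n P Q _ _ _ _ hP hQ f hf v hv
  exact exists_continuous_lift n n P Q hP hQ f hf (fun a ha x _ => hP a ha x) v hv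

end Groth.Agent.Lib.Helper5.FlatSmooth
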