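import Groth.Agent.Lib.Helper5.FlatLiftQB
import Groth.Agent.Lib.Helper5.FlatSmoothB
import Groth.Agent.Lib.Helper5.FormallyProj
import Groth.Agent.Lib.Helper12.CohenStructB
import Mathlib.RingTheory.TensorProduct.Quotient

set_option autoImplicit false
set_option linter.unusedSectionVars false
universe u

namespace Groth.Agent.Lib.Helper5.FlatLiftQ

open EGA41 IsLocalRing TensorProduct Groth.Agent.Lib.Helper12

section Red

variable {A : Type u} [CommRing A] [IsLocalRing A] (J : Ideal A) [IsLocalRing (A ⧸ J)]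
  {B₀ : Type u} [CommRing B₀] [IsLocalRing B₀] [Algebra (A ⧸ J) B₀]
  {B : Type u} [CommRing B] [IsLocalRing B] [Algebra A B]

theorem includeRight_surjective :
    Function.Surjective (Algebra.TensorProduct.includeRight : B →ₐ[A] (A ⧸ J) ⊗[A] B) :=
  Algebra.TensorProduct.includeRight_surjective B Ideal.Quotient.mk_surjective

theorem ker_includeRight :
    RingHom.ker (Algebra.TensorProduct.includeRight : B →ₐ[A] (A ⧸ J) ⊗[A] B) =
      J.map (algebraMap A B) := by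
  ext b
  rw [RingHom.mem_ker, ← Ideal.Quotient.eq_zero_iff_mem]
  have h1 : (Algebra.TensorProduct.includeRight : B →ₐ[A] (A ⧸ J) ⊗[A] B) b =
      Algebra.TensorProduct.quotIdealMapEquivQuotTensor B J
        (Ideal.Quotient.mk (J.map (algebraMap A B)) b) := rfl
  rw [h1, EmbeddingLike.map_eq_zero_iff]

theorem redLift_of_quotient_equiv
    (hfs : IsFormallySmoothAdic (A ⧸ J) (maximalIdeal (A ⧸ J)) B₀ (maximalIdeal B₀))
    (u : (A ⧸ J) ⊗[A] B ≃ₐ[A ⧸ J] B₀) (hJ : J ≤ maximalIdeal A) :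
    FormallyProj.RedLift (maximalIdeal A) (maximalIdeal B) := by
  intro T₀ _ _ hkill J₀ hnil uT huT
  let φ : (A ⧸ J) →+* T₀ := Ideal.Quotient.lift J (algebraMap A T₀) (fun a ha => hkill a (hJ ha))
  let _ : Algebra (A ⧸ J) T₀ := φ.toAlgebra
  have _ : IsScalarTower A (A ⧸ J) T₀ := IsScalarTower.of_algebraMap_eq (fun a => rfl)
  let uF : (A ⧸ J) ⊗[A] B →ₐ[A ⧸ J] T₀ ⧸ J₀ :=
    Algebra.TensorProduct.lift (Algebra.ofId (A ⧸ J) (T₀ ⧸ J₀)) uT (fun _ _ => Commute.all _ _)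
  have huF1 : ∀ b : B, uF ((1 : A ⧸ J) ⊗ₜ[A] b) = uT b := by
    intro b
    simp [uF]
  let p : B →+* B₀ := (u : (A ⧸ J) ⊗[A] B →+* B₀).comp
    (Algebra.TensorProduct.includeRight : B →ₐ[A] (A ⧸ J) ⊗[A] B).toRingHom
  have hp_apply : ∀ b, p b = u ((1 : A ⧸ J) ⊗ₜ[A] b) := fun b => rfl
  have hp : Function.Surjective p := u.surjective.comp (includeRight_surjective J)
  have hmB₀ : (maximalIdeal B).map p = maximalIdeal B₀ :=
    CohenStruct.map_maximalIdeal_of_surjective p hp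
  have hmA₀ : (maximalIdeal A).map (Ideal.Quotient.mk J) = maximalIdeal (A ⧸ J) :=
    CohenStruct.map_maximalIdeal_of_surjective _ Ideal.Quotient.mk_surjective
  let w : B₀ →ₐ[A ⧸ J] T₀ ⧸ J₀ := uF.comp (u.symm : B₀ →ₐ[A ⧸ J] (A ⧸ J) ⊗[A] B)
  have hw : ∀ b, w (p b) = uT b := by
    intro b
    change uF (u.symm (u ((1 : A ⧸ J) ⊗ₜ[A] b))) = _
    rw [u.symm_apply_apply, huF1]
  obtain ⟨m, hm⟩ := huT
  have hwc : ∃ k : ℕ, ∀ x ∈ maximalIdeal B₀ ^ k, w x = 0 := by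
    refine ⟨m, fun x hx => ?_⟩
    rw [← hmB₀, ← Ideal.map_pow] at hx
    obtain ⟨b, hb, rfl⟩ := (Ideal.mem_map_iff_of_surjective p hp).1 hx
    rw [hw, hm b hb]
  have hT₀ : ∃ k : ℕ, (maximalIdeal (A ⧸ J) ^ k).map (algebraMap (A ⧸ J) T₀) = ⊥ := by
    refine ⟨1, ?_⟩
    rw [pow_one, ← hmA₀, Ideal.map_map, eq_bot_iff, Ideal.map_le_iff_le_comap]
    intro a ha
    rw [Ideal.mem_comap, Ideal.mem_bot]
    exact hkill a ha
  obtain ⟨w', hw'⟩ := hfs T₀ J₀ hnil hT₀ w hwc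
  let v : B →ₐ[A] T₀ :=
    { (w' : B₀ →+* T₀).comp p with
      commutes' := fun a => by
        change w' (u ((1 : A ⧸ J) ⊗ₜ[A] algebraMap A B a)) = _
        have h1 : ((1 : A ⧸ J) ⊗ₜ[A] algebraMap A B a : (A ⧸ J) ⊗[A] B) =
            algebraMap (A ⧸ J) ((A ⧸ J) ⊗[A] B) (Ideal.Quotient.mk J a) := by
          rw [Algebra.TensorProduct.algebraMap_apply, Algebra.algebraMap_self, RingHom.id_apply,
            Algebra.algebraMap_eq_smul_one, TensorProduct.tmul_smul, TensorProduct.smul_tmul',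
            Algebra.smul_def, mul_one]
          rfl
        rw [h1, AlgEquiv.commutes, AlgHom.commutes]
        rfl }
  refine ⟨v, AlgHom.ext fun b => ?_⟩
  change Ideal.Quotient.mk J₀ (w' (p b)) = uT b
  have := AlgHom.congr_fun hw' (p b)
  change Ideal.Quotient.mk J₀ (w' (p b)) = w (p b) at this
  rw [this, hw]

end Red

end Groth.Agent.Lib.Helper5.FlatLiftQ
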