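import Groth.Agent.Lib.Helper5.FlatLiftQC

set_option autoImplicit false
set_option linter.unusedSectionVars false
universe u

namespace Groth.Agent.Lib.Helper5.FlatLiftQ

open EGA41 IsLocalRing TensorProduct Groth.Agent.Lib.Helper12

theorem map_le_maximalIdeal {A B : Type*} [CommRing A] [IsLocalRing A] [CommRing B] [IsLocalRing B]
    [Algebra A B] [IsLocalHom (algebraMap A B)] (J : Ideal A) (hJ : J ≤ maximalIdeal A) :
    J.map (algebraMap A B) ≤ maximalIdeal B :=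
  (Ideal.map_mono hJ).trans (((local_hom_TFAE (algebraMap A B)).out 0 2).1 ‹_›)

theorem unique_lift {A : Type u} [CommRing A] [IsLocalRing A] [IsNoetherianRing A]
    (J : Ideal A) (hJ : J ≤ maximalIdeal A) [IsLocalRing (A ⧸ J)]
    (B₀ : Type u) [CommRing B₀] [IsLocalRing B₀] [IsNoetherianRing B₀]
    [IsAdicComplete (maximalIdeal B₀) B₀]
    [Algebra (A ⧸ J) B₀] [IsLocalHom (algebraMap (A ⧸ J) B₀)]
    (hfs : EGA41.IsFormallySmoothAdic (A ⧸ J) (maximalIdeal (A ⧸ J)) B₀ (maximalIdeal B₀))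
    (B B' : Type u) [CommRing B] [IsLocalRing B] [IsNoetherianRing B] [Algebra A B]
    [IsLocalHom (algebraMap A B)]
    [CommRing B'] [IsLocalRing B'] [IsNoetherianRing B'] [Algebra A B']
    [IsLocalHom (algebraMap A B')]
    (hc : IsAdicComplete (maximalIdeal B) B) (hf : Module.Flat A B)
    (hc' : IsAdicComplete (maximalIdeal B') B') (hf' : Module.Flat A B')
    (u : (A ⧸ J) ⊗[A] B ≃ₐ[A ⧸ J] B₀) (u' : (A ⧸ J) ⊗[A] B' ≃ₐ[A ⧸ J] B₀) :
    ∃ v : B ≃ₐ[A] B', (u' : (A ⧸ J) ⊗[A] B' →ₐ[A ⧸ J] B₀).comp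
        (Algebra.TensorProduct.map (AlgHom.id (A ⧸ J) (A ⧸ J)) (v : B →ₐ[A] B')) =
      (u : (A ⧸ J) ⊗[A] B →ₐ[A ⧸ J] B₀) := by
  let _ : Algebra A B₀ := Algebra.compHom B₀ (Ideal.Quotient.mk J)
  have _ : IsScalarTower A (A ⧸ J) B₀ := IsScalarTower.of_algebraMap_eq (fun a => rfl)
  have hfsB : IsFormallySmoothAdic A (maximalIdeal A) B (maximalIdeal B) :=
    FormallyProj.isFormallySmoothAdic_of_redLift FlatSmooth.formallyProjective_of_flat
      (redLift_of_quotient_equiv J hfs u hJ)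
  let p : B →ₐ[A] B₀ := ((u.restrictScalars A : (A ⧸ J) ⊗[A] B ≃ₐ[A] B₀) :
    (A ⧸ J) ⊗[A] B →ₐ[A] B₀).comp Algebra.TensorProduct.includeRight
  let p' : B' →ₐ[A] B₀ := ((u'.restrictScalars A : (A ⧸ J) ⊗[A] B' ≃ₐ[A] B₀) :
    (A ⧸ J) ⊗[A] B' →ₐ[A] B₀).comp Algebra.TensorProduct.includeRight
  have hp_apply : ∀ b, p b = u ((1 : A ⧸ J) ⊗ₜ[A] b) := fun b => rfl
  have hp'_apply : ∀ b, p' b = u' ((1 : A ⧸ J) ⊗ₜ[A] b) := fun b => rfl
  have hp : Function.Surjective p := u.surjective.comp (includeRight_surjective J)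
  have hp' : Function.Surjective p' := u'.surjective.comp (includeRight_surjective J)
  have hker : RingHom.ker p = J.map (algebraMap A B) := by
    rw [← ker_includeRight J]
    ext b
    rw [RingHom.mem_ker, RingHom.mem_ker, hp_apply]
    exact EmbeddingLike.map_eq_zero_iff
  have hker' : RingHom.ker p' = J.map (algebraMap A B') := by
    rw [← ker_includeRight J]
    ext b
    rw [RingHom.mem_ker, RingHom.mem_ker, hp'_apply]
    exact EmbeddingLike.map_eq_zero_iff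
  obtain ⟨e, he⟩ := exists_algEquiv_of_comp J (maximalIdeal A) hfsB
    ⟨1, by rw [pow_one]; exact map_le_maximalIdeal _ le_rfl⟩ p p' hp hp' hker hker'
    (map_le_maximalIdeal J hJ) (map_le_maximalIdeal J hJ)
  refine ⟨e, ?_⟩
  have he' : ∀ b, u' ((1 : A ⧸ J) ⊗ₜ[A] e b) = u ((1 : A ⧸ J) ⊗ₜ[A] b) := fun b =>
    AlgHom.congr_fun he b
  apply Algebra.TensorProduct.ext
  · ext
  · ext b
    simp only [AlgHom.coe_comp, AlgHom.coe_restrictScalars', Function.comp_apply,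
      Algebra.TensorProduct.includeRight_apply, Algebra.TensorProduct.map_tmul, AlgHom.coe_id,
      id_eq, AlgEquiv.coe_algHom, AlgHom.coe_coe]
    exact he' b

end Groth.Agent.Lib.Helper5.FlatLiftQ
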