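import Groth.Agent.Lib.Helper5.FlatLiftQD
import Groth.Agent.Lib.Helper5.AdicRegE
import Groth.Agent.S4537

set_option autoImplicit false
set_option linter.unusedSectionVars false
universe u

namespace Groth.Agent.Lib.Helper5.FlatLiftQ

open EGA41 IsLocalRing TensorProduct Groth.Agent.Lib.Helper12

theorem closedFibre_regular {R D : Type u} [CommRing R] [IsLocalRing R] [CommRing D]
    [IsLocalRing D] [IsNoetherianRing D] [Algebra R D]
    [IsLocalRing (D ⧸ (maximalIdeal R).map (algebraMap R D))]
    (hfs : IsFormallySmoothAdic R (maximalIdeal R) D (maximalIdeal D)) :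
    IsRegularLocalRing (D ⧸ (maximalIdeal R).map (algebraMap R D)) := by
  have h1 := FormallyProj.quotient_of_isFormallySmoothAdic (maximalIdeal R) (maximalIdeal D) hfs
  rw [CohenStruct.map_maximalIdeal_of_surjective _ Ideal.Quotient.mk_surjective] at h1
  have h2 := (Groth.Agent.S4537.result _).2 h1
  let _ : Field (R ⧸ maximalIdeal R) := Ideal.Quotient.field _
  exact AdicReg.isRegularLocalRing_of_adicSmooth h2

end Groth.Agent.Lib.Helper5.FlatLiftQ
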