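import Mathlib

/-!
# Flatness of a module from flatness of its quotient by a regular element of the radical
-/

set_option autoImplicit false
universe u
open TensorProduct Pointwise

namespace Groth.Agent.Lib.Helper5.FlatReg

variable {R B : Type u} [CommRing R] [CommRing B] [Algebra R B]

theorem finite_tensor (M N : Type u) [AddCommGroup M] [Module B M] [Module R M]
    [IsScalarTower R B M] [Module.Finite B M] [AddCommGroup N] [Module R N] [Module.Finite R N] :
    Module.Finite B (M ⊗[R] N) :=
  Module.Finite.equiv (TensorProduct.AlgebraTensorModule.cancelBaseChange R B B M N)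

theorem flat_of_flat_quotSMulTop [IsNoetherianRing B] (M : Type u) [AddCommGroup M] [Module B M]
    [Module R M] [IsScalarTower R B M] [Module.Finite B M] (a : B)
    (ha : a ∈ (⊥ : Ideal B).jacobson) (hreg : IsSMulRegular M a)
    (hflat : Module.Flat R (QuotSMulTop a M)) : Module.Flat R M := by
  rw [Module.Flat.iff_lTensor_injective]
  intro I hI
  have : Module.Finite R I := Module.Finite.iff_fg.mpr hI
  have : Module.Finite B (M ⊗[R] I) := finite_tensor M I
  let φ : M ⊗[R] I →ₗ[B] M ⊗[R] R := TensorProduct.AlgebraTensorModule.lTensor B M I.subtype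
  have hφ : ∀ t, φ t = I.subtype.lTensor M t := fun t => rfl
  let T : Submodule B (M ⊗[R] I) := LinearMap.ker φ
  have hTfg : T.FG := IsNoetherian.noetherian T
  have hreg' : IsSMulRegular (M ⊗[R] R) a :=
    ((TensorProduct.AlgebraTensorModule.rid R B M).isSMulRegular_congr a).2 hreg
  have hT : T = ⊥ := by
    apply Submodule.eq_bot_of_le_smul_of_le_jacobson_bot (Ideal.span {a}) T hTfg
    · intro t ht
      let π : M →ₗ[R] QuotSMulTop a M := (Submodule.mkQ _).restrictScalars R
      have h1 : π.rTensor I t = 0 := by
        apply (Module.Flat.iff_lTensor_injective.mp hflat hI)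
        rw [map_zero, ← LinearMap.comp_apply, LinearMap.lTensor_comp_rTensor,
          ← LinearMap.rTensor_comp_lTensor, LinearMap.comp_apply]
        rw [show I.subtype.lTensor M t = 0 from ht, map_zero]
      let μ : M →ₗ[R] M := (LinearMap.lsmul B M a).restrictScalars R
      have hex : Function.Exact μ π := by
        intro m
        constructor
        · intro hm
          have hm' : m ∈ (a • ⊤ : Submodule B M) := (Submodule.Quotient.mk_eq_zero _).1 hm
          obtain ⟨m', -, rfl⟩ := (Submodule.mem_smul_pointwise_iff_exists _ _ _).1 hm'
          exact ⟨m', rfl⟩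
        · rintro ⟨m', rfl⟩
          exact (Submodule.Quotient.mk_eq_zero _).2
            ((Submodule.mem_smul_pointwise_iff_exists _ _ _).2 ⟨m', trivial, rfl⟩)
      have hex' := rTensor_exact I hex (Submodule.mkQ_surjective _)
      obtain ⟨t', ht'⟩ := (hex' t).1 h1
      have h2' : ∀ s : M ⊗[R] I, a • s = μ.rTensor I s := by
        intro s
        induction s using TensorProduct.induction_on with
        | zero => simp
        | tmul m x => rfl
        | add x y hx hy => rw [smul_add, map_add, hx, hy]
      have h2 : a • t' = t := by
        rw [← ht', h2']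
      have h3 : t' ∈ T := by
        change φ t' = 0
        apply hreg'
        change a • φ t' = a • 0
        rw [smul_zero, ← map_smul, h2]
        exact ht
      rw [← h2]
      exact Submodule.smul_mem_smul (Ideal.mem_span_singleton_self a) h3
    · rw [Ideal.span_le]
      simpa using ha
  rw [injective_iff_map_eq_zero]
  intro t ht
  have : t ∈ T := ht
  rw [hT] at this
  exact this

open RingTheory.Sequence in
theorem flat_of_isWeaklyRegular [IsNoetherianRing B] (rs : List B) :
    ∀ (M : Type u) [AddCommGroup M] [Module B M] [Module R M] [IsScalarTower R B M]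
      [Module.Finite B M],
      (∀ r ∈ rs, r ∈ (⊥ : Ideal B).jacobson) → IsWeaklyRegular M rs →
      Module.Flat R (M ⧸ (Ideal.ofList rs • ⊤ : Submodule B M)) → Module.Flat R M := by
  induction rs with
  | nil =>
    intro M _ _ _ _ _ _ _ hflat
    have e : (M ⧸ (Ideal.ofList ([] : List B) • ⊤ : Submodule B M)) ≃ₗ[B] M :=
      Submodule.quotEquivOfEqBot _ (by rw [Ideal.ofList_nil, Submodule.bot_smul])
    exact Module.Flat.of_linearEquiv (e.restrictScalars R).symm
  | cons a l ih =>
    intro M _ _ _ _ _ hmem hreg hflat
    rw [isWeaklyRegular_cons_iff] at hreg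
    have hQ : Module.Flat R (QuotSMulTop a M) := by
      apply ih (QuotSMulTop a M) (fun r hr => hmem r (List.mem_cons_of_mem _ hr)) hreg.2
      exact Module.Flat.of_linearEquiv
        ((Submodule.quotOfListConsSMulTopEquivQuotSMulTopInner M a l).restrictScalars R).symm
    exact flat_of_flat_quotSMulTop M a (hmem a List.mem_cons_self) hreg.1 hQ

end Groth.Agent.Lib.Helper5.FlatReg
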