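import Groth.Agent.Lib.Helper5.FormallyProj
import Groth.Agent.Lib.Helper5.FlatLiftNilp
import Mathlib

set_option autoImplicit false
set_option linter.unusedSectionVars false
universe u

namespace Groth.Agent.Lib.Helper5.FlatSmooth

open IsLocalRing

section Key

variable {A B : Type u} [CommRing A] [IsLocalRing A] [CommRing B] [IsLocalRing B]
  [IsNoetherianRing B] [Algebra A B]
  {P Q : Type u} [AddCommGroup P] [Module A P] [AddCommGroup Q] [Module A Q]

/-- a lift whose composite is continuous can be made continuous when the kernel is killed by the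
maximal ideal -/
theorem exists_continuous_modify (f : P →ₗ[A] Q)
    (hK : ∀ a ∈ maximalIdeal A, ∀ x ∈ LinearMap.ker f, a • x = 0)
    (w₀ : B →ₗ[A] P) (j : ℕ) (hv : ∀ x ∈ maximalIdeal B ^ j, f (w₀ x) = 0) :
    ∃ w : B →ₗ[A] P, f ∘ₗ w = f ∘ₗ w₀ ∧ ∃ j' : ℕ, ∀ x ∈ maximalIdeal B ^ j', w x = 0 := by
  classical
  set m := maximalIdeal A with hm
  set mB : Ideal B := m.map (algebraMap A B) with hmB
  -- Artin–Rees
  obtain ⟨c, hc⟩ := Ideal.exists_pow_inf_eq_pow_smul (maximalIdeal B) (M := B) (mB : Submodule B B)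
  have hAR : ∀ x ∈ maximalIdeal B ^ (c + j), x ∈ mB → x ∈ maximalIdeal B ^ j * mB := by
    intro x hx hxm
    have h1 : x ∈ (maximalIdeal B ^ (c + j) • ⊤ ⊓ mB : Submodule B B) := by
      refine ⟨?_, hxm⟩
      rw [smul_eq_mul, Ideal.mul_top]
      exact hx
    rw [hc (c + j) (Nat.le_add_right c j), Nat.add_sub_cancel_left] at h1
    have h2 : (maximalIdeal B ^ j • (maximalIdeal B ^ c • ⊤ ⊓ mB : Submodule B B)) ≤
        maximalIdeal B ^ j * mB := by
      rw [← smul_eq_mul]
      exact Submodule.smul_mono le_rfl inf_le_right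
    exact h2 h1
  -- `w₀` kills `n^j * mB`
  have hkill : ∀ x ∈ maximalIdeal B ^ j * mB, w₀ x = 0 := by
    intro x hx
    refine Submodule.mul_induction_on hx ?_ ?_
    · intro y hy z hz
      have hz' : z ∈ (m • ⊤ : Submodule A B) := by
        rw [Ideal.smul_top_eq_map]
        exact hz
      refine Submodule.smul_induction_on hz' ?_ ?_
      · intro a ha b _
        have h1 : y * a • b = a • (y * b) := by
          rw [Algebra.smul_def, Algebra.smul_def]
          ring
        rw [h1, map_smul]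
        apply hK a ha
        rw [LinearMap.mem_ker]
        exact hv _ (Ideal.mul_mem_right b _ hy)
      · intro z₁ z₂ h₁ h₂
        rw [mul_add, map_add, h₁, h₂, add_zero]
    · intro x₁ x₂ h₁ h₂
      rw [map_add, h₁, h₂, add_zero]
  -- the residue field and the reduction of `B`
  let k := A ⧸ m
  let _ : Field k := Ideal.Quotient.field m
  let B₀ := B ⧸ (m • ⊤ : Submodule A B)
  let q : B →ₗ[A] B₀ := (m • ⊤ : Submodule A B).mkQ
  let N : Submodule A B := (maximalIdeal B ^ (c + j)).restrictScalars A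
  have hNj : ∀ x ∈ N, x ∈ maximalIdeal B ^ j := fun x hx =>
    Ideal.pow_le_pow_right (Nat.le_add_left j c) hx
  let g₀ : N →ₗ[A] P := w₀ ∘ₗ N.subtype
  let φ : N →ₗ[A] B₀ := q ∘ₗ N.subtype
  have hker : LinearMap.ker φ ≤ LinearMap.ker g₀ := by
    intro x hx
    rw [LinearMap.mem_ker] at hx ⊢
    have h1 : (x : B) ∈ (m • ⊤ : Submodule A B) := by
      have : q (x : B) = 0 := hx
      rwa [Submodule.mkQ_apply, Submodule.Quotient.mk_eq_zero] at this
    rw [Ideal.smul_top_eq_map] at h1
    exact hkill _ (hAR _ x.2 h1)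
  let g₁ : (N ⧸ LinearMap.ker φ) →ₗ[A] P := (LinearMap.ker φ).liftQ g₀ hker
  let ι : LinearMap.range φ →ₗ[A] P := g₁ ∘ₗ (φ.quotKerEquivRange).symm.toLinearMap
  have hι : ∀ x : N, ι ⟨φ x, LinearMap.mem_range_self φ x⟩ = w₀ x := by
    intro x
    change g₁ (φ.quotKerEquivRange.symm ⟨φ x, _⟩) = _
    rw [LinearMap.quotKerEquivRange_symm_apply_image]
    rfl
  have hιK : ∀ y, ι y ∈ LinearMap.ker f := by
    intro y
    obtain ⟨x, hx⟩ := y.2
    have : y = ⟨φ x, LinearMap.mem_range_self φ x⟩ := Subtype.ext hx.symm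
    rw [this, hι, LinearMap.mem_ker]
    exact hv _ (hNj _ x.2)
  -- the subspace
  have hsm : ∀ (a : A) (y : B₀), (Ideal.Quotient.mk m a : k) • y = a • y := fun a y => rfl
  let X' : Submodule k B₀ :=
    { carrier := LinearMap.range φ
      add_mem' := fun ha hb => Submodule.add_mem _ ha hb
      zero_mem' := Submodule.zero_mem _
      smul_mem' := by
        intro c' y hy
        obtain ⟨a, rfl⟩ := Ideal.Quotient.mk_surjective c'
        rw [hsm]
        exact Submodule.smul_mem _ a hy }
  obtain ⟨r, hr⟩ := LinearMap.exists_leftInverse_of_injective X'.subtype X'.ker_subtype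
  have hr' : ∀ y : X', r (y : B₀) = y := fun y => congrArg (fun g : X' →ₗ[k] X' => g y) hr
  let ρ' : B₀ →ₗ[A] LinearMap.range φ :=
    { toFun := fun y => ⟨(r y : B₀), (r y).2⟩
      map_add' := fun y z => by
        apply Subtype.ext
        change ((r (y + z) : X') : B₀) = (r y : B₀) + (r z : B₀)
        rw [map_add]
        rfl
      map_smul' := fun a y => by
        apply Subtype.ext
        change ((r (a • y) : X') : B₀) = a • (r y : B₀)
        rw [← hsm, map_smul, ← hsm]
        rfl }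
  have hρ' : ∀ x : N, ρ' (φ x) = ⟨φ x, LinearMap.mem_range_self φ x⟩ := by
    intro x
    apply Subtype.ext
    change ((r (φ x) : X') : B₀) = φ x
    have := hr' ⟨φ x, LinearMap.mem_range_self φ x⟩
    exact congrArg Subtype.val this
  let h : B →ₗ[A] P := ι ∘ₗ ρ' ∘ₗ q
  refine ⟨w₀ - h, ?_, c + j, ?_⟩
  · ext b
    rw [LinearMap.comp_apply, LinearMap.comp_apply, LinearMap.sub_apply, map_sub]
    have : f (h b) = 0 := hιK _
    rw [this, sub_zero]
  · intro x hx
    rw [LinearMap.sub_apply, sub_eq_zero]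
    have h1 : h x = ι (ρ' (φ ⟨x, hx⟩)) := rfl
    rw [h1, hρ', hι]

end Key

end Groth.Agent.Lib.Helper5.FlatSmooth
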