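import Groth.Agent.Lib.Helper5.FlatSmoothB
import Groth.Agent.Lib.Helper5.PowSerAdic
import Groth.Agent.S4537

set_option autoImplicit false
set_option linter.unusedSectionVars false
universe u

namespace Groth.Agent.Lib.Helper5.FlatSmooth

open IsLocalRing TensorProduct

variable {A B : Type u} [CommRing A] [IsLocalRing A] [CommRing B] [IsLocalRing B]
  [IsNoetherianRing B] [Algebra A B] [IsLocalHom (algebraMap A B)]

theorem redLift_of_fiber
    (hF : CAlgX.IsAdicFormallySmooth (maximalIdeal A).ResidueField ((maximalIdeal A).Fiber B)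
      ((maximalIdeal B).map (Algebra.TensorProduct.includeRight :
        B →ₐ[A] (maximalIdeal A).Fiber B).toRingHom)) :
    FormallyProj.RedLift (maximalIdeal A) (maximalIdeal B) := by
  intro T₀ _ _ hkill J₀ hnil u hu
  have hsurj : Function.Surjective (algebraMap A (maximalIdeal A).ResidueField) :=
    Ideal.algebraMap_residueField_surjective _
  have hkerκ : RingHom.ker (algebraMap A (maximalIdeal A).ResidueField) = maximalIdeal A :=
    Ideal.ker_algebraMap_residueField _
  let φ : (maximalIdeal A).ResidueField →+* T₀ :=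
    RingHom.liftOfSurjective (algebraMap A (maximalIdeal A).ResidueField) hsurj
      ⟨algebraMap A T₀, by
        rw [hkerκ]
        intro a ha
        exact hkill a ha⟩
  have hφ : ∀ a, φ (algebraMap A (maximalIdeal A).ResidueField a) = algebraMap A T₀ a :=
    fun a => RingHom.liftOfRightInverse_comp_apply _ _ _ _ a
  let _ : Algebra (maximalIdeal A).ResidueField T₀ := φ.toAlgebra
  have _ : IsScalarTower A (maximalIdeal A).ResidueField T₀ :=
    IsScalarTower.of_algebraMap_eq (fun a => (hφ a).symm)
  have hF' := (Groth.Agent.S4537.result _).1 hF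
  let uF : (maximalIdeal A).Fiber B →ₐ[(maximalIdeal A).ResidueField] T₀ ⧸ J₀ :=
    Algebra.TensorProduct.lift (Algebra.ofId (maximalIdeal A).ResidueField (T₀ ⧸ J₀)) u
      (fun _ _ => Commute.all _ _)
  have huF1 : ∀ b : B, uF ((1 : (maximalIdeal A).ResidueField) ⊗ₜ[A] b) = u b := by
    intro b
    simp [uF]
  obtain ⟨k, hk⟩ := hu
  have huF : ∀ x ∈ ((maximalIdeal B).map (Algebra.TensorProduct.includeRight :
        B →ₐ[A] (maximalIdeal A).Fiber B).toRingHom) ^ k, uF x = 0 := by
    have hle : (maximalIdeal B ^ k).map (Algebra.TensorProduct.includeRight :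
        B →ₐ[A] (maximalIdeal A).Fiber B).toRingHom ≤ RingHom.ker uF := by
      rw [Ideal.map_le_iff_le_comap]
      intro b hb
      rw [Ideal.mem_comap, RingHom.mem_ker]
      change uF ((1 : (maximalIdeal A).ResidueField) ⊗ₜ[A] b) = 0
      rw [huF1, hk b hb]
    intro x hx
    rw [← Ideal.map_pow] at hx
    exact hle hx
  obtain ⟨χ, hχ⟩ := hF' T₀ J₀ hnil ⟨1, by rw [pow_one, Ideal.map_bot]⟩ uF ⟨k, huF⟩
  refine ⟨(χ.restrictScalars A).comp Algebra.TensorProduct.includeRight, ?_⟩
  ext b
  have := AlgHom.congr_fun hχ ((1 : (maximalIdeal A).ResidueField) ⊗ₜ[A] b)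
  rw [huF1] at this
  exact this

/-- a flat local homomorphism of Noetherian local rings whose closed fibre is formally smooth over
the residue field is formally smooth for the adic topology -/
theorem adicSmooth_of_flat_of_fiber [Module.Flat A B]
    (hF : CAlgX.IsAdicFormallySmooth (maximalIdeal A).ResidueField ((maximalIdeal A).Fiber B)
      ((maximalIdeal B).map (Algebra.TensorProduct.includeRight :
        B →ₐ[A] (maximalIdeal A).Fiber B).toRingHom)) :
    CAlgX.IsAdicFormallySmooth A B (maximalIdeal B) := by
  have h1 := FormallyProj.isFormallySmoothAdic_of_redLift formallyProjective_of_flat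
    (redLift_of_fiber hF)
  refine PowSer.adicSmooth_of_isFormallySmoothAdic _ _ h1 ?_
  exact ((local_hom_TFAE (algebraMap A B)).out 0 2).1 ‹_›

end Groth.Agent.Lib.Helper5.FlatSmooth
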