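import Mathlib.RingTheory.LocalRing.ResidueField.Basic
import Mathlib.RingTheory.IntegralClosure.IsIntegralClosure.Basic
import Mathlib.FieldTheory.IsAlgClosed.AlgebraicClosure
import Mathlib.Algebra.CharP.Lemmas
import Mathlib.RingTheory.Nilpotent.Lemmas
import Mathlib.RingTheory.MvPolynomial.Basic
import Mathlib.RingTheory.FiniteType

set_option autoImplicit false
set_option linter.unusedSectionVars false
universe u

namespace Groth.Agent.Lib.Helper5.FrobQuotLocal

open IsLocalRing

section Abstract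

variable {A B : Type*} [CommRing A] [IsLocalRing A] [CommRing B] [Algebra A B] [Nontrivial B]

theorem isUnit_or_isNilpotent (hm : maximalIdeal A ^ 2 = ⊥) (p : ℕ) (hp : 0 < p)
    (hpow : ∀ b : B, ∃ a : A, b ^ p = algebraMap A B a) (b : B) : IsUnit b ∨ IsNilpotent b := by
  obtain ⟨a, ha⟩ := hpow b
  by_cases hu : IsUnit a
  · left
    have : IsUnit (b ^ p) := ha ▸ hu.map (algebraMap A B)
    exact (isUnit_pow_iff hp.ne').1 this
  · right
    have ham : a ∈ maximalIdeal A := (mem_maximalIdeal a).2 hu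
    have h2 : a ^ 2 = 0 := by
      have : a ^ 2 ∈ maximalIdeal A ^ 2 := Ideal.pow_mem_pow ham 2
      rwa [hm, Ideal.mem_bot] at this
    refine ⟨p * 2, ?_⟩
    rw [pow_mul, ha, ← map_pow, h2, map_zero]

theorem isLocalRing (hm : maximalIdeal A ^ 2 = ⊥) (p : ℕ) (hp : 0 < p)
    (hpow : ∀ b : B, ∃ a : A, b ^ p = algebraMap A B a) : IsLocalRing B := by
  refine IsLocalRing.of_nonunits_add ?_
  intro x y hx hy
  have hx' : IsNilpotent x := (isUnit_or_isNilpotent hm p hp hpow x).resolve_left hx
  have hy' : IsNilpotent y := (isUnit_or_isNilpotent hm p hp hpow y).resolve_left hy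
  have : IsNilpotent (x + y) := Commute.isNilpotent_add (Commute.all x y) hx' hy'
  exact this.not_isUnit

theorem isLocalHom (hm : maximalIdeal A ^ 2 = ⊥) : IsLocalHom (algebraMap A B) := by
  refine ⟨fun a ha => ?_⟩
  by_contra hu
  have ham : a ∈ maximalIdeal A := (mem_maximalIdeal a).2 hu
  have h2 : a ^ 2 = 0 := by
    have : a ^ 2 ∈ maximalIdeal A ^ 2 := Ideal.pow_mem_pow ham 2
    rwa [hm, Ideal.mem_bot] at this
  have : IsNilpotent (algebraMap A B a) := ⟨2, by rw [← map_pow, h2, map_zero]⟩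
  exact this.not_isUnit ha

theorem isIntegral (p : ℕ) (hp : 0 < p)
    (hpow : ∀ b : B, ∃ a : A, b ^ p = algebraMap A B a) : Algebra.IsIntegral A B := by
  refine ⟨fun b => ?_⟩
  obtain ⟨a, ha⟩ := hpow b
  exact IsIntegral.of_pow hp (ha ▸ isIntegral_algebraMap)

end Abstract

section Pow

variable {A B : Type*} [CommRing A] [CommRing B] [Algebra A B] [Nontrivial B]
  (p : ℕ) [Fact p.Prime] [CharP A p] {σ : Type*}

variable (A) in
include A p in
theorem charP_of_algebra : CharP B p := by
  have hp : (p : B) = 0 := by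
    have : (p : B) = algebraMap A B (p : A) := by rw [map_natCast]
    rw [this, CharP.cast_eq_zero, map_zero]
  exact (CharP.charP_iff_prime_eq_zero (Fact.out : p.Prime)).2 hp

theorem exists_pow_eq (f : σ → A) (x : σ → B) (hx : ∀ i, x i ^ p = algebraMap A B (f i))
    (htop : Algebra.adjoin A (Set.range x) = ⊤) (b : B) :
    ∃ a : A, b ^ p = algebraMap A B a := by
  have _ : CharP B p := charP_of_algebra A p
  have hb : b ∈ Algebra.adjoin A (Set.range x) := htop ▸ Algebra.mem_top
  induction hb using Algebra.adjoin_induction with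
  | mem y hy =>
    obtain ⟨i, rfl⟩ := hy
    exact ⟨f i, hx i⟩
  | algebraMap a => exact ⟨a ^ p, by rw [map_pow]⟩
  | add y z _ _ h1 h2 =>
    obtain ⟨a1, h1⟩ := h1
    obtain ⟨a2, h2⟩ := h2
    exact ⟨a1 + a2, by rw [add_pow_char, h1, h2, map_add]⟩
  | mul y z _ _ h1 h2 =>
    obtain ⟨a1, h1⟩ := h1
    obtain ⟨a2, h2⟩ := h2
    exact ⟨a1 * a2, by rw [mul_pow, h1, h2, map_mul]⟩

end Pow

section Concrete

variable {A : Type u} [CommRing A] [IsLocalRing A] (p : ℕ) [Fact p.Prime] {σ : Type*}
  (f : σ → A)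

/-- the relations `T_i ^ p - f_i` -/
noncomputable def rel : σ → MvPolynomial σ A := fun i =>
  MvPolynomial.X i ^ p - MvPolynomial.C (f i)

theorem span_rel_ne_top : Ideal.span (Set.range (rel p f)) ≠ ⊤ := by
  have hp : 0 < p := (Fact.out : p.Prime).pos
  let Ω := AlgebraicClosure (ResidueField A)
  have hroot : ∀ i, ∃ z : Ω, z ^ p = algebraMap (ResidueField A) Ω (residue A (f i)) :=
    fun i => IsAlgClosed.exists_pow_nat_eq _ hp
  choose z hz using hroot
  let φ : MvPolynomial σ A →+* Ω :=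
    MvPolynomial.eval₂Hom ((algebraMap (ResidueField A) Ω).comp (residue A)) z
  have hle : Ideal.span (Set.range (rel p f)) ≤ RingHom.ker φ := by
    rw [Ideal.span_le]
    rintro _ ⟨i, rfl⟩
    change φ (rel p f i) = 0
    simp only [rel, φ, map_sub, map_pow, MvPolynomial.coe_eval₂Hom, MvPolynomial.eval₂_X,
      MvPolynomial.eval₂_C, RingHom.comp_apply]
    rw [hz, sub_self]
  intro htop
  have h1 : (1 : MvPolynomial σ A) ∈ RingHom.ker φ := hle (htop ▸ Submodule.mem_top)
  rw [RingHom.mem_ker, map_one] at h1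
  exact one_ne_zero h1

instance nontrivial_quotient : Nontrivial (MvPolynomial σ A ⧸ Ideal.span (Set.range (rel p f))) :=
  Ideal.Quotient.nontrivial_iff.2 (span_rel_ne_top p f)

end Concrete

end Groth.Agent.Lib.Helper5.FrobQuotLocal
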