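import Mathlib

set_option autoImplicit false
universe u

open TensorProduct

namespace Groth.Agent.Lib.Helper5.FrobRed

variable (k K A : Type u) [Field k] [Field K] [Algebra k K] (p : ℕ) [hp : Fact p.Prime]
  [CharP k p] [CommRing A] [Algebra k A]

/-- if `A` stays reduced after adjoining `p`-th roots of the base field, then `p`-th powers of a
basis of `A` stay linearly independent. -/
theorem linearIndependent_pow [Nontrivial A] (hK : ∀ a : k, ∃ c : K, c ^ p = algebraMap k K a)
    [IsReduced (K ⊗[k] A)] {ι : Type u} (b : Module.Basis ι k A) :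
    LinearIndependent k (fun i => (b i) ^ p) := by
  classical
  have hchar : CharP (K ⊗[k] A) p :=
    charP_of_injective_algebraMap (algebraMap k (K ⊗[k] A)).injective p
  rw [linearIndependent_iff']
  intro s g hg i hi
  choose c hc using hK
  let z : K ⊗[k] A := ∑ j ∈ s, (c (g j)) ⊗ₜ[k] (b j)
  have hz : z ^ p = 0 := by
    change (∑ j ∈ s, (c (g j)) ⊗ₜ[k] (b j)) ^ p = 0
    rw [sum_pow_char]
    have h1 : ∀ j ∈ s, ((c (g j)) ⊗ₜ[k] (b j)) ^ p = (1 : K) ⊗ₜ[k] (g j • (b j) ^ p) := by
      intro j _
      rw [Algebra.TensorProduct.tmul_pow, hc, Algebra.algebraMap_eq_smul_one, TensorProduct.smul_tmul]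
    rw [Finset.sum_congr rfl h1, ← TensorProduct.tmul_sum, hg, TensorProduct.tmul_zero]
  have hz0 : z = 0 := IsReduced.eq_zero _ ⟨p, hz⟩
  let B := Algebra.TensorProduct.basis K b
  have hz1 : z = ∑ j ∈ s, (c (g j)) • B j := by
    apply Finset.sum_congr rfl
    intro j _
    rw [Algebra.TensorProduct.basis_apply, TensorProduct.smul_tmul', smul_eq_mul, mul_one]
  rw [hz0] at hz1
  have h2 := (linearIndependent_iff'.mp B.linearIndependent) s (fun j => c (g j)) hz1.symm i hi
  have h3 : algebraMap k K (g i) = 0 := by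
    rw [← hc, h2, zero_pow hp.out.ne_zero]
  exact (map_eq_zero _).mp h3

/-- if `A` stays reduced after adjoining `p`-th roots of the base field, it stays reduced after
every extension of the base field. -/
theorem isReduced_tensor_of_pthRoots (hK : ∀ a : k, ∃ c : K, c ^ p = algebraMap k K a)
    [IsReduced (K ⊗[k] A)] (L : Type u) [Field L] [Algebra k L] : IsReduced (L ⊗[k] A) := by
  classical
  rcases subsingleton_or_nontrivial A with hA | hA
  · have : Subsingleton (L ⊗[k] A) := by
      refine ⟨fun x y => ?_⟩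
      have h0 : ∀ w : L ⊗[k] A, w = 0 := by
        intro w
        induction w using TensorProduct.induction_on with
        | zero => rfl
        | tmul l a => rw [Subsingleton.elim a 0, TensorProduct.tmul_zero]
        | add x y hx hy => rw [hx, hy, add_zero]
      rw [h0 x, h0 y]
    exact ⟨fun x _ => Subsingleton.elim x 0⟩
  have hchar : CharP (L ⊗[k] A) p :=
    charP_of_injective_algebraMap (algebraMap k (L ⊗[k] A)).injective p
  let b := Module.Basis.ofVectorSpace k A
  have h1 := linearIndependent_pow k K A p hK b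
  have h2 : LinearIndependent L (fun i => (1 : L) ⊗ₜ[k] ((b i) ^ p)) :=
    Module.Flat.linearIndependent_one_tmul h1
  let B := Algebra.TensorProduct.basis L b
  rw [isReduced_iff_pow_one_lt p hp.out.one_lt]
  intro z hz
  have hz1 : z = ∑ i ∈ (B.repr z).support, (B.repr z i) • ((1 : L) ⊗ₜ[k] (b i)) := by
    conv_lhs => rw [← B.linearCombination_repr z, Finsupp.linearCombination_apply, Finsupp.sum]
    apply Finset.sum_congr rfl
    intro i _
    rw [Algebra.TensorProduct.basis_apply]
  have hz2 : z ^ p = ∑ i ∈ (B.repr z).support, (B.repr z i) ^ p • ((1 : L) ⊗ₜ[k] ((b i) ^ p)) := by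
    conv_lhs => rw [hz1]
    rw [sum_pow_char]
    apply Finset.sum_congr rfl
    intro i _
    rw [smul_pow, Algebra.TensorProduct.tmul_pow, one_pow]
  rw [hz] at hz2
  have h3 : ∀ i ∈ (B.repr z).support, (B.repr z i) ^ p = 0 :=
    (linearIndependent_iff'.mp h2) _ (fun i => (B.repr z i) ^ p) hz2.symm
  have h4 : B.repr z = 0 := by
    ext i
    by_cases hi : i ∈ (B.repr z).support
    · exact pow_eq_zero_iff (hp.out.ne_zero) |>.mp (h3 i hi)
    · exact Finsupp.notMem_support_iff.mp hi
  exact B.repr.map_eq_zero_iff.mp h4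

theorem isGeometricallyReduced_of_pthRoots (hK : ∀ a : k, ∃ c : K, c ^ p = algebraMap k K a)
    [IsReduced (K ⊗[k] A)] : Algebra.IsGeometricallyReduced k A := by
  rw [Algebra.isGeometricallyReduced_field_iff]
  exact isReduced_tensor_of_pthRoots k K A p hK (AlgebraicClosure k)

end Groth.Agent.Lib.Helper5.FrobRed
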