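import Groth.Agent.Lib.Helper5.RegLimitD
import Groth.Prelude.Def_Found
import Mathlib

set_option autoImplicit false
set_option linter.unusedSectionVars false
universe u

namespace Groth.Agent.Lib.Helper5.GeomRegAlg

open TensorProduct

variable (κ : Type u) [Field κ] (K : Type u) [Field K] [Algebra κ K] [Algebra.IsAlgebraic κ K]
  (F : Type u) [CommRing F] [Algebra κ F]

abbrev Idx : Type u := {E : IntermediateField κ K // FiniteDimensional κ E}

instance : Nonempty (Idx κ K) := ⟨⟨⊥, inferInstance⟩⟩

instance : IsDirectedOrder (Idx κ K) where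
  directed a b := by
    have := a.2
    have := b.2
    exact ⟨⟨a.1 ⊔ b.1, inferInstance⟩, le_sup_left (a := a.1), le_sup_right (b := b.1)⟩

abbrev G (i : Idx κ K) : Type u := i.1 ⊗[κ] F

noncomputable def tr (i j : Idx κ K) (h : i ≤ j) : G κ K F i →+* G κ K F j :=
  (Algebra.TensorProduct.map (IntermediateField.inclusion h) (AlgHom.id κ F)).toRingHom

noncomputable def toK (i : Idx κ K) : G κ K F i →+* K ⊗[κ] F :=
  (Algebra.TensorProduct.map i.1.val (AlgHom.id κ F)).toRingHom

instance : DirectedSystem (G κ K F) (fun i j h ↦ tr κ K F i j h) where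
  map_self i x := by
    induction x using TensorProduct.induction_on with
    | zero => simp
    | tmul a b => simp [tr]
    | add x y hx hy => rw [map_add, hx, hy]
  map_map k j i hij hjk x := by
    induction x using TensorProduct.induction_on with
    | zero => simp
    | tmul a b => simp [tr]
    | add x y hx hy => rw [map_add, map_add, map_add, hx, hy]

theorem toK_tr (i j : Idx κ K) (h : i ≤ j) (x : G κ K F i) :
    toK κ K F j (tr κ K F i j h x) = toK κ K F i x := by
  induction x using TensorProduct.induction_on with
  | zero => simp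
  | tmul a b => simp [tr, toK]
  | add x y hx hy => rw [map_add, map_add, map_add, hx, hy]

theorem toK_injective (i : Idx κ K) : Function.Injective (toK κ K F i) := by
  have : Function.Injective (LinearMap.rTensor F (i.1.val.toLinearMap)) :=
    Module.Flat.rTensor_preserves_injective_linearMap _ i.1.val.injective
  intro x y hxy
  apply this
  have h : ∀ z, toK κ K F i z = LinearMap.rTensor F (i.1.val.toLinearMap) z := by
    intro z
    induction z using TensorProduct.induction_on with
    | zero => simp
    | tmul a b => simp [toK]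
    | add x y hx hy => rw [map_add, map_add, hx, hy]
  rw [← h, ← h, hxy]

noncomputable def liftK : Ring.DirectLimit (G κ K F) (fun i j h ↦ tr κ K F i j h) →+* K ⊗[κ] F :=
  Ring.DirectLimit.lift _ _ _ (toK κ K F) (fun i j h x => toK_tr κ K F i j h x)

theorem liftK_bijective : Function.Bijective (liftK κ K F) := by
  constructor
  · exact Ring.DirectLimit.lift_injective (injective := toK_injective κ K F) ..
  · intro z
    induction z using TensorProduct.induction_on with
    | zero => exact ⟨0, map_zero _⟩
    | tmul a b =>
      have hfd : FiniteDimensional κ (IntermediateField.adjoin κ {a}) :=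
        IntermediateField.adjoin.finiteDimensional (Algebra.IsIntegral.isIntegral a)
      let i : Idx κ K := ⟨IntermediateField.adjoin κ {a}, hfd⟩
      refine ⟨Ring.DirectLimit.of _ _ i
        ((⟨a, IntermediateField.mem_adjoin_simple_self κ a⟩ : i.1) ⊗ₜ[κ] b), ?_⟩
      unfold liftK
      rw [Ring.DirectLimit.lift_of]
      simp [toK]
    | add x y hx hy =>
      obtain ⟨x', rfl⟩ := hx
      obtain ⟨y', rfl⟩ := hy
      exact ⟨x' + y', map_add _ _ _⟩

theorem isRegularRing_tensor (hGR : CAlg.IsGeometricallyRegular κ F)
    [IsNoetherianRing (K ⊗[κ] F)] : IsRegularRing (K ⊗[κ] F) := by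
  let e : Ring.DirectLimit (G κ K F) (fun i j h ↦ tr κ K F i j h) ≃+* K ⊗[κ] F :=
    RingEquiv.ofBijective (liftK κ K F) (liftK_bijective κ K F)
  have hN : IsNoetherianRing (Ring.DirectLimit (G κ K F) (fun i j h ↦ tr κ K F i j h)) :=
    isNoetherianRing_of_ringEquiv _ e.symm
  have hreg : ∀ i : Idx κ K, IsRegularRing (G κ K F i) := by
    intro i
    have := i.2
    exact hGR i.1 inferInstance
  have := Groth.Agent.Lib.Helper5.RegLimit.regular_directLimit (G κ K F)
    (fun i j h ↦ tr κ K F i j h) hreg
  exact IsRegularRing.of_ringEquiv e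

end Groth.Agent.Lib.Helper5.GeomRegAlg
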