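import Groth.Agent.Lib.helper19.RegularLocal
import Mathlib

set_option autoImplicit false
universe u

open IsLocalRing

namespace Groth.Agent.Lib.Helper5.GeomRegInj

/-- a nonzero ideal inside the square of the maximal ideal of a regular local ring never has a
regular quotient. -/
theorem not_isRegularLocalRing_quotient (R : Type u) [CommRing R] [IsRegularLocalRing R]
    (J : Ideal R) (hJ : J ≤ maximalIdeal R ^ 2) (hJ0 : J ≠ ⊥) [IsRegularLocalRing (R ⧸ J)] :
    False := by
  classical
  have hdom : IsDomain R := Groth.Agent.Lib.helper19.isDomain_of_isRegularLocalRing R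
  obtain ⟨F, hFJ, hF0⟩ : ∃ F ∈ J, F ≠ 0 := by
    by_contra h
    push Not at h
    exact hJ0 ((Submodule.eq_bot_iff _).mpr h)
  have hFnzd : F ∈ nonZeroDivisors R := mem_nonZeroDivisors_of_ne_zero hF0
  have hdim : ringKrullDim (R ⧸ J) + 1 ≤ ringKrullDim R :=
    ringKrullDim_succ_le_of_surjective (Ideal.Quotient.mk J) Ideal.Quotient.mk_surjective hFnzd
      (Ideal.Quotient.eq_zero_iff_mem.mpr hFJ)
  have h1 : ((maximalIdeal R).spanFinrank : WithBot ℕ∞) = ringKrullDim R :=
    IsRegularLocalRing.spanFinrank_maximalIdeal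
  have h2 : ((maximalIdeal (R ⧸ J)).spanFinrank : WithBot ℕ∞) = ringKrullDim (R ⧸ J) :=
    IsRegularLocalRing.spanFinrank_maximalIdeal
  have hle : (maximalIdeal R).spanFinrank ≤ (maximalIdeal (R ⧸ J)).spanFinrank := by
    obtain ⟨s, hs1, hs2⟩ := Submodule.FG.exists_span_finset_card_eq_spanFinrank
      (IsNoetherian.noetherian (maximalIdeal (R ⧸ J)))
    let σ : R ⧸ J → R := Function.surjInv (Ideal.Quotient.mk_surjective (I := J))
    have hσ : ∀ b, Ideal.Quotient.mk J (σ b) = b := Function.surjInv_eq _
    let t : Finset R := s.image σ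
    have hmq := Groth.Agent.Lib.helper19.maximalIdeal_quotient J
    have htm : Ideal.span (t : Set R) ≤ maximalIdeal R := by
      rw [Ideal.span_le]
      intro r hr
      obtain ⟨b, hb, rfl⟩ := Finset.mem_image.mp (Finset.mem_coe.mp hr)
      have hbm : b ∈ maximalIdeal (R ⧸ J) := by
        rw [← hs2]
        exact Submodule.subset_span hb
      by_contra hnot
      have hu : IsUnit (σ b) := by
        rwa [SetLike.mem_coe, mem_maximalIdeal, mem_nonunits_iff, not_not] at hnot
      have hu' := hu.map (Ideal.Quotient.mk J)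
      rw [hσ] at hu'
      exact hbm hu'
    have hmle : maximalIdeal R ≤ Ideal.span (t : Set R) := by
      apply Submodule.le_of_le_smul_of_le_jacobson_bot (IsNoetherian.noetherian _)
        (maximalIdeal_le_jacobson ⊥)
      intro a ha
      have hma : Ideal.Quotient.mk J a ∈ (Ideal.span (t : Set R)).map (Ideal.Quotient.mk J) := by
        rw [Ideal.map_span]
        have himg : (Ideal.Quotient.mk J) '' (t : Set R) = (s : Set (R ⧸ J)) := by
          ext b
          simp only [t, Finset.coe_image, Set.mem_image, Finset.mem_coe]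
          constructor
          · rintro ⟨r, ⟨b', hb', rfl⟩, rfl⟩
            rwa [hσ]
          · intro hb
            exact ⟨σ b, ⟨b, hb, rfl⟩, hσ b⟩
        rw [himg]
        have : Ideal.span (s : Set (R ⧸ J)) = maximalIdeal (R ⧸ J) := hs2
        rw [this, hmq]
        exact Ideal.mem_map_of_mem _ ha
      obtain ⟨a', ha', haa'⟩ :=
        (Ideal.mem_map_iff_of_surjective _ Ideal.Quotient.mk_surjective).mp hma
      have hd : a - a' ∈ J := by
        rw [← Ideal.Quotient.eq]
        exact haa'.symm
      have hsplit : a = a' + (a - a') := by ring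
      rw [hsplit]
      refine Submodule.add_mem_sup ha' ?_
      rw [smul_eq_mul, ← pow_two]
      exact hJ hd
    have heq : Ideal.span (t : Set R) = maximalIdeal R := le_antisymm htm hmle
    calc (maximalIdeal R).spanFinrank = (Ideal.span (t : Set R)).spanFinrank := by rw [heq]
      _ ≤ (t : Set R).ncard := Submodule.spanFinrank_span_le_ncard_of_finite t.finite_toSet
      _ = t.card := Set.ncard_coe_finset t
      _ ≤ s.card := Finset.card_image_le
      _ = _ := hs1
  rw [← h1, ← h2] at hdim
  have h3 : (maximalIdeal (R ⧸ J)).spanFinrank + 1 ≤ (maximalIdeal R).spanFinrank := by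
    exact_mod_cast hdim
  omega

end Groth.Agent.Lib.Helper5.GeomRegInj
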