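import Groth.Agent.Lib.Helper5.GeomRegInjA
import Groth.Agent.Lib.Helper5.GeomRegInjB
import Mathlib

set_option autoImplicit false
universe u

open IsLocalRing Polynomial

namespace Groth.Agent.Lib.Helper5.GeomRegInj

/-- if adjoining a `p`-th root of `x` to a regular ring of characteristic `p` gives a regular
ring, then at every prime of the extension there is a derivation not killing `x`. -/
theorem exists_derivation_polynomial (R₀ C : Type u) [Field R₀] [PerfectField R₀] [CommRing C]
    [Algebra R₀ C] [IsRegularRing C] (p : ℕ) (hp : p ≠ 0) (hp0 : (p : C) = 0) (x : C)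
    (F : C[X]) (hF : F = X ^ p - Polynomial.C x) (I : Ideal C[X]) (hI : I = Ideal.span {F})
    (hB : IsRegularRing (C[X] ⧸ I)) (Q : Ideal (C[X] ⧸ I)) [Q.IsPrime]
    (P : Ideal C[X]) [P.IsPrime] (hPQ : P = Q.comap (Ideal.Quotient.mk I)) :
    ∃ D : Derivation R₀ C[X] (ResidueField (Localization.AtPrime P)),
      D (Polynomial.C x) ≠ 0 := by
  let Rp := Localization.AtPrime P
  let J : Ideal Rp := I.map (algebraMap C[X] Rp)
  have hloc : IsLocalization (Algebra.algebraMapSubmonoid (C[X] ⧸ I) P.primeCompl) (Rp ⧸ J) :=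
    inferInstance
  have hM : Algebra.algebraMapSubmonoid (C[X] ⧸ I) P.primeCompl = Q.primeCompl := by
    ext y
    constructor
    · rintro ⟨r, hr, rfl⟩
      intro hy
      apply hr
      rw [hPQ]
      exact hy
    · intro hy
      obtain ⟨r, rfl⟩ := Ideal.Quotient.mk_surjective y
      refine ⟨r, ?_, rfl⟩
      intro hr
      apply hy
      rw [hPQ] at hr
      exact hr
  rw [hM] at hloc
  let e : (Rp ⧸ J) ≃ₐ[C[X] ⧸ I] Localization.AtPrime Q :=
    IsLocalization.algEquiv Q.primeCompl (Rp ⧸ J) (Localization.AtPrime Q)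
  have hQreg : IsRegularLocalRing (Localization.AtPrime Q) :=
    hB.isRegularLocalRing_localization Q
  have hSreg : IsRegularLocalRing (Rp ⧸ J) :=
    IsRegularLocalRing.of_ringEquiv (R := Localization.AtPrime Q) e.symm.toRingEquiv
  have hRreg : IsRegularRing C[X] := inferInstance
  have hRp : IsRegularLocalRing Rp := hRreg.isRegularLocalRing_localization P
  have hFmonic : F.Monic := by
    rw [hF]
    exact monic_X_pow_sub_C x hp
  have hFP : F ∈ P := by
    rw [hPQ, Ideal.mem_comap]
    have : Ideal.Quotient.mk I F = 0 :=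
      Ideal.Quotient.eq_zero_iff_mem.mpr (hI ▸ Ideal.subset_span rfl)
    rw [this]
    exact Q.zero_mem
  have hJ : J = Ideal.span {algebraMap C[X] Rp F} := by
    change I.map _ = _
    rw [hI, Ideal.map_span, Set.image_singleton]
  have hFne : algebraMap C[X] Rp F ≠ 0 := by
    intro h0
    obtain ⟨m, hm⟩ := (IsLocalization.map_eq_zero_iff P.primeCompl Rp F).mp h0
    have hm0 : (m : C[X]) = 0 := by
      have := hFmonic.mem_nonZeroDivisors
      exact (mem_nonZeroDivisors_iff.mp this).2 _ hm
    exact m.2 (hm0 ▸ P.zero_mem)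
  have hJ0 : J ≠ ⊥ := by
    intro h0
    apply hFne
    have : algebraMap C[X] Rp F ∈ J := by
      rw [hJ]
      exact Ideal.subset_span rfl
    rwa [h0, Ideal.mem_bot] at this
  have hF2 : algebraMap C[X] Rp F ∉ maximalIdeal Rp ^ 2 := by
    intro h2
    have hle : J ≤ maximalIdeal Rp ^ 2 := by
      rw [hJ, Ideal.span_singleton_le_iff_mem]
      exact h2
    exact not_isRegularLocalRing_quotient Rp J hle hJ0
  have hF1 : algebraMap C[X] Rp F ∈ maximalIdeal Rp :=
    (IsLocalization.AtPrime.to_map_mem_maximal_iff Rp P F).mpr hFP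
  obtain ⟨D₁, hD₁⟩ := exists_derivation_ne_zero R₀ Rp _ hF1 hF2
  have hst : IsScalarTower C[X] Rp (ResidueField Rp) :=
    IsScalarTower.of_algebraMap_eq (fun _ => rfl)
  let D : Derivation R₀ C[X] (ResidueField Rp) := D₁.compAlgebraMap C[X]
  refine ⟨D, ?_⟩
  intro h0
  apply hD₁
  have hDF : D₁ (algebraMap C[X] Rp F) = D F := rfl
  rw [hDF, hF, map_sub, h0, sub_zero, Derivation.leibniz_pow]
  have hpK : (p : C[X]) = 0 := by
    have : (p : C[X]) = Polynomial.C (p : C) := by simp
    rw [this, hp0, map_zero]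
  rw [← Nat.cast_smul_eq_nsmul C[X], hpK, zero_smul]

end Groth.Agent.Lib.Helper5.GeomRegInj
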