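import Groth.Agent.Lib.Helper5.GeomRegInjC
import Groth.Prelude.Def_Found
import Mathlib

set_option autoImplicit false
universe u

open IsLocalRing Polynomial TensorProduct

namespace Groth.Agent.Lib.Helper5.GeomRegInj

/-- for a geometrically regular algebra over a field of characteristic `p` and an element of the
field which is not a `p`-th power, at each prime of the algebra obtained by adjoining a `p`-th root
there is a derivation not killing that element. -/
theorem exists_derivation_of_geomRegular (R₀ k A : Type u) [Field R₀] [PerfectField R₀] [Field k]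
    [CommRing A] [Algebra k A] [Algebra R₀ A] (p : ℕ) [hp : Fact p.Prime] [CharP k p]
    (hA : CAlg.IsGeometricallyRegular k A) (x : k) (hx : ∀ b : k, b ^ p ≠ x)
    (I : Ideal A[X]) (hI : I = Ideal.span {(X ^ p - C (algebraMap k A x) : A[X])})
    (Q : Ideal (A[X] ⧸ I)) [Q.IsPrime]
    (P : Ideal A[X]) [P.IsPrime] (hPQ : P = Q.comap (Ideal.Quotient.mk I)) :
    ∃ D : Derivation R₀ A[X] (ResidueField (Localization.AtPrime P)),
      D (C (algebraMap k A x)) ≠ 0 := by
  have hAreg : IsRegularRing A := by
    have h1 : IsRegularRing (k ⊗[k] A) := hA k (Module.Finite.self k)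
    exact IsRegularRing.of_ringEquiv (Algebra.TensorProduct.lid k A).toRingEquiv
  let f : k[X] := X ^ p - C x
  have hirr : Irreducible f := X_pow_sub_C_irreducible_of_prime hp.out hx
  have hfact : Fact (Irreducible f) := ⟨hirr⟩
  have hfin : Module.Finite k (AdjoinRoot f) :=
    (monic_X_pow_sub_C x hp.out.ne_zero).finite_adjoinRoot
  have hk' : IsRegularRing (AdjoinRoot f ⊗[k] A) := hA (AdjoinRoot f) hfin
  let F : A[X] := X ^ p - C (algebraMap k A x)
  let q : (A ⊗[k] k)[X] := f.map (Algebra.TensorProduct.includeRight (R := k) (A := A) (B := k)).toRingHom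
  let e1 : AdjoinRoot f ⊗[k] A ≃ₐ[k] A ⊗[k] AdjoinRoot f := Algebra.TensorProduct.comm k _ _
  let e2 : A ⊗[k] AdjoinRoot f ≃ₐ[A] AdjoinRoot q := AdjoinRoot.tensorAlgEquiv f q rfl
  have hqF : q.map ((Algebra.TensorProduct.rid k k A).toRingEquiv : A ⊗[k] k →+* A) = F := by
    change (f.map _).map _ = F
    rw [Polynomial.map_map]
    have hcomp : ((Algebra.TensorProduct.rid k k A).toRingEquiv : A ⊗[k] k →+* A).comp
        (Algebra.TensorProduct.includeRight (R := k) (A := A) (B := k)).toRingHom =
        algebraMap k A := by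
      ext c
      simp [Algebra.algebraMap_eq_smul_one]
    rw [hcomp]
    simp [f, F]
  let e3 : AdjoinRoot q ≃+* AdjoinRoot F :=
    AdjoinRoot.mapRingEquiv (Algebra.TensorProduct.rid k k A).toRingEquiv q F
      (by rw [hqF])
  have hB0 : IsRegularRing (AdjoinRoot F) :=
    IsRegularRing.of_ringEquiv ((e1.toRingEquiv.trans e2.toRingEquiv).trans e3)
  have hB : IsRegularRing (A[X] ⧸ I) := by
    rw [hI]
    exact hB0
  have hp0 : (p : A) = 0 := by
    rw [← map_natCast (algebraMap k A), CharP.cast_eq_zero, map_zero]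
  exact exists_derivation_polynomial R₀ A p hp.out.ne_zero hp0 (algebraMap k A x) F rfl I hI hB Q P
    hPQ

end Groth.Agent.Lib.Helper5.GeomRegInj
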