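import Mathlib

set_option autoImplicit false
universe u

open KaehlerDifferential

namespace Groth.Agent.Lib.Helper5.GeomRegInj

/-- given finitely many elements of a field of characteristic `p` and one more whose differential is
not in the span of theirs, there is a finite extension in which the former become `p`-th powers
and the latter does not. -/
theorem exists_finite_extension (k : Type u) [Field k] (p : ℕ) [hp : Fact p.Prime] [CharP k p]
    (s : Finset k) (x₁ : k)
    (hx : KaehlerDifferential.D ℤ k x₁ ∉
      Submodule.span k ((KaehlerDifferential.D ℤ k) '' (s : Set k))) :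
    ∃ (k'' : Type u) (_ : Field k'') (_ : Algebra k k''), Module.Finite k k'' ∧
      (∀ y ∈ s, ∃ z : k'', z ^ p = algebraMap k k'' y) ∧
      ∀ z : k'', z ^ p ≠ algebraMap k k'' x₁ := by
  classical
  let Ωb := AlgebraicClosure k
  have hchar : CharP Ωb p := charP_of_injective_algebraMap (algebraMap k Ωb).injective p
  have hroot : ∀ y : k, ∃ z : Ωb, z ^ p = algebraMap k Ωb y :=
    fun y => IsAlgClosed.exists_pow_nat_eq _ hp.out.pos
  choose root hrootp using hroot
  let S : Set Ωb := root '' (s : Set k)
  have hSfin : S.Finite := (Finset.finite_toSet s).image root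
  let k'' : IntermediateField k Ωb := IntermediateField.adjoin k S
  have hfin : Module.Finite k k'' := by
    have : Finite S := hSfin.to_subtype
    exact IntermediateField.finiteDimensional_adjoin
      (fun z _ => (Algebra.IsIntegral.isIntegral (R := k) z))
  let V : Submodule k Ω[k⁄ℤ] := Submodule.span k ((KaehlerDifferential.D ℤ k) '' (s : Set k))
  have hpz : ∀ ω : Ω[k⁄ℤ], p • ω = 0 := by
    intro ω
    rw [← Nat.cast_smul_eq_nsmul k, CharP.cast_eq_zero, zero_smul]
  let T : IntermediateField k Ωb :=
    { carrier := {z | ∃ t : k, z ^ p = algebraMap k Ωb t ∧ KaehlerDifferential.D ℤ k t ∈ V}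
      mul_mem' := by
        rintro a b ⟨t, ht, htV⟩ ⟨u, hu, huV⟩
        refine ⟨t * u, by rw [mul_pow, ht, hu, map_mul], ?_⟩
        rw [Derivation.leibniz]
        exact V.add_mem (V.smul_mem _ huV) (V.smul_mem _ htV)
      one_mem' := ⟨1, by rw [one_pow, map_one], by rw [Derivation.map_one_eq_zero]; exact V.zero_mem⟩
      add_mem' := by
        rintro a b ⟨t, ht, htV⟩ ⟨u, hu, huV⟩
        refine ⟨t + u, by rw [add_pow_char, ht, hu, map_add], ?_⟩
        rw [map_add]
        exact V.add_mem htV huV
      zero_mem' := ⟨0, by rw [zero_pow hp.out.ne_zero, map_zero], by rw [map_zero]; exact V.zero_mem⟩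
      algebraMap_mem' := by
        intro a
        refine ⟨a ^ p, by rw [map_pow], ?_⟩
        rw [Derivation.leibniz_pow, hpz]
        exact V.zero_mem
      inv_mem' := by
        rintro a ⟨t, ht, htV⟩
        refine ⟨t⁻¹, by rw [inv_pow, ht, map_inv₀], ?_⟩
        rw [Derivation.leibniz_inv]
        exact V.smul_mem _ htV }
  have hle : k'' ≤ T := by
    apply IntermediateField.adjoin_le_iff.mpr
    rintro _ ⟨y, hy, rfl⟩
    exact ⟨y, hrootp y, Submodule.subset_span ⟨y, hy, rfl⟩⟩
  refine ⟨k'', inferInstance, inferInstance, hfin, ?_, ?_⟩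
  · intro y hy
    refine ⟨⟨root y, IntermediateField.subset_adjoin k S ⟨y, hy, rfl⟩⟩, ?_⟩
    apply Subtype.ext
    exact hrootp y
  · intro z hz
    obtain ⟨t, ht, htV⟩ := hle z.2
    have h1 : (z : Ωb) ^ p = algebraMap k Ωb x₁ := congrArg Subtype.val hz
    rw [h1] at ht
    have h2 : x₁ = t := (algebraMap k Ωb).injective ht
    rw [← h2] at htV
    exact hx htV

end Groth.Agent.Lib.Helper5.GeomRegInj
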