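import Groth.Agent.Lib.Helper5.GeomRegInjD
import Groth.Agent.Lib.Helper5.GeomRegInjE
import Groth.Agent.Lib.Helper5.GeomRegFG3
import Groth.Agent.Lib.Helper5.AdicRegE
import Mathlib

set_option autoImplicit false
universe u

open IsLocalRing Polynomial TensorProduct

namespace Groth.Agent.Lib.Helper5.GeomRegInj

theorem includeRight_isIntegral (k A k'' : Type u) [Field k] [Field k''] [Algebra k k'']
    [Module.Finite k k''] [CommRing A] [Algebra k A] :
    ((Algebra.TensorProduct.includeRight : A →ₐ[k] k'' ⊗[k] A).toRingHom).IsIntegral := by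
  intro z
  have hz : IsIntegral A (Algebra.TensorProduct.comm k k'' A z) := Algebra.IsIntegral.isIntegral _
  obtain ⟨g, hg, hgz⟩ := hz
  refine ⟨g, hg, ?_⟩
  have h1 := congrArg (Algebra.TensorProduct.comm k k'' A).symm hgz
  rw [map_zero] at h1
  rw [← h1]
  have h2 := Polynomial.hom_eval₂ g (algebraMap A (A ⊗[k] k''))
    ((Algebra.TensorProduct.comm k k'' A).symm : A ⊗[k] k'' →+* k'' ⊗[k] A)
    (Algebra.TensorProduct.comm k k'' A z)
  have h3 : ((Algebra.TensorProduct.comm k k'' A).symm : A ⊗[k] k'' →+* k'' ⊗[k] A).comp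
      (algebraMap A (A ⊗[k] k'')) =
      (Algebra.TensorProduct.includeRight : A →ₐ[k] k'' ⊗[k] A).toRingHom := by
    ext a
    simp
  rw [h3] at h2
  simpa using h2.symm

/-- for a geometrically regular local algebra, finitely many elements of the base field and one more
whose differential is independent of theirs, some derivation of the algebra with values in a field
kills the former and not the latter. -/
theorem exists_derivation_field (k A : Type u) [Field k] [CommRing A] [IsLocalRing A] [Algebra k A]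
    (p : ℕ) [hp : Fact p.Prime] [CharP k p] (hA : CAlg.IsGeometricallyRegular k A)
    (s : Finset k) (x₁ : k)
    (hx : KaehlerDifferential.D ℤ k x₁ ∉
      Submodule.span k ((KaehlerDifferential.D ℤ k) '' (s : Set k))) :
    ∃ (L : Type u) (_ : Field L) (ι : A →+* L) (D : A →+ L),
      (∀ a ∈ maximalIdeal A, ι a = 0) ∧ (∀ a b, D (a * b) = ι a * D b + ι b * D a) ∧
      D (algebraMap k A x₁) ≠ 0 ∧ ∀ y ∈ s, D (algebraMap k A y) = 0 := by
  obtain ⟨k'', hk''F, hk''A, hfin, hroots, hnot⟩ := exists_finite_extension k p s x₁ hx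
  have hchar'' : CharP k'' p := charP_of_injective_algebraMap (algebraMap k k'').injective p
  have hA'' : CAlg.IsGeometricallyRegular k'' (k'' ⊗[k] A) :=
    Groth.Agent.Lib.Helper5.GeomRegFG.geomRegular_baseChange k A k'' hA
  let _ : Algebra (Groth.Agent.Lib.Helper5.AdicReg.PF k) (k'' ⊗[k] A) :=
    ((algebraMap k (k'' ⊗[k] A)).comp
      (algebraMap (Groth.Agent.Lib.Helper5.AdicReg.PF k) k)).toAlgebra
  let c : k'' ⊗[k] A := algebraMap k'' (k'' ⊗[k] A) (algebraMap k k'' x₁)
  let F : (k'' ⊗[k] A)[X] := X ^ p - C c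
  let I : Ideal (k'' ⊗[k] A)[X] := Ideal.span {F}
  have hnt : Nontrivial (k'' ⊗[k] A) := inferInstance
  have hFmonic : F.Monic := monic_X_pow_sub_C c hp.out.ne_zero
  have hI : I ≠ ⊤ := by
    intro h
    have hu : IsUnit F := Ideal.span_singleton_eq_top.mp h
    have h1 : F = 1 := hFmonic.isUnit_iff.mp hu
    have h2 : F.natDegree = p := natDegree_X_pow_sub_C
    rw [h1, natDegree_one] at h2
    exact hp.out.ne_zero h2.symm
  have hntq : Nontrivial ((k'' ⊗[k] A)[X] ⧸ I) := Ideal.Quotient.nontrivial_iff.mpr hI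
  obtain ⟨Q, hQ⟩ : ∃ Q : Ideal ((k'' ⊗[k] A)[X] ⧸ I), Q.IsMaximal := Ideal.exists_maximal _
  have hQp : Q.IsPrime := Ideal.IsMaximal.isPrime (α := (k'' ⊗[k] A)[X] ⧸ I) hQ
  let P : Ideal (k'' ⊗[k] A)[X] := Q.comap (Ideal.Quotient.mk I)
  have hPp : P.IsPrime := Ideal.comap_isPrime _ _
  obtain ⟨D'', hD''⟩ := exists_derivation_of_geomRegular
    (Groth.Agent.Lib.Helper5.AdicReg.PF k) k'' (k'' ⊗[k] A) p hA''
    (algebraMap k k'' x₁) (fun b => hnot b) I rfl Q P rfl
  let L := ResidueField (Localization.AtPrime P)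
  let j : A →+* (k'' ⊗[k] A)[X] :=
    (C : (k'' ⊗[k] A) →+* (k'' ⊗[k] A)[X]).comp
      (Algebra.TensorProduct.includeRight : A →ₐ[k] k'' ⊗[k] A).toRingHom
  let ι : A →+* L := (algebraMap (k'' ⊗[k] A)[X] L).comp j
  have hpL : ∀ v : L, p • v = 0 := by
    intro v
    have hpK : (p : (k'' ⊗[k] A)[X]) = 0 := by
      rw [← Polynomial.C_eq_natCast, ← map_natCast (algebraMap k'' (k'' ⊗[k] A)),
        CharP.cast_eq_zero, map_zero, map_zero]
    rw [← Nat.cast_smul_eq_nsmul (k'' ⊗[k] A)[X], hpK]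
    exact zero_smul (k'' ⊗[k] A)[X] v
  have hjalg : ∀ t : k, j (algebraMap k A t) = C (algebraMap k'' (k'' ⊗[k] A) (algebraMap k k'' t)) := by
    intro t
    have h1 : (1 : k'') ⊗ₜ[k] (algebraMap k A t) =
        algebraMap k'' (k'' ⊗[k] A) (algebraMap k k'' t) := by
      rw [Algebra.TensorProduct.algebraMap_apply, Algebra.algebraMap_eq_smul_one,
        Algebra.algebraMap_eq_smul_one (A := k''), TensorProduct.tmul_smul,
        TensorProduct.smul_tmul', Algebra.algebraMap_eq_smul_one, smul_eq_mul, mul_one]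
    change C ((1 : k'') ⊗ₜ[k] (algebraMap k A t)) = _
    rw [h1]
  refine ⟨L, inferInstance, ι, (D'' : (k'' ⊗[k] A)[X] →+ L).comp j.toAddMonoidHom, ?_, ?_, ?_, ?_⟩
  · intro a ha
    let φ : A →+* (k'' ⊗[k] A)[X] ⧸ I := (Ideal.Quotient.mk I).comp j
    have hφ : φ.IsIntegral := by
      have h1 := includeRight_isIntegral k A k''
      have hfinq : Module.Finite (k'' ⊗[k] A) ((k'' ⊗[k] A)[X] ⧸ I) := hFmonic.finite_quotient
      have h2 : (algebraMap (k'' ⊗[k] A) ((k'' ⊗[k] A)[X] ⧸ I)).IsIntegral :=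
        algebraMap_isIntegral_iff.mpr inferInstance
      exact RingHom.IsIntegral.trans
        (Algebra.TensorProduct.includeRight : A →ₐ[k] k'' ⊗[k] A).toRingHom
        (algebraMap (k'' ⊗[k] A) ((k'' ⊗[k] A)[X] ⧸ I)) h1 h2
    have hmax : (Q.comap φ).IsMaximal :=
      @Ideal.isMaximal_comap_of_isIntegral_of_isMaximal' A ((k'' ⊗[k] A)[X] ⧸ I) _
        (Ideal.Quotient.commRing I) φ hφ Q hQ
    have heq : Q.comap φ = maximalIdeal A := IsLocalRing.eq_maximalIdeal hmax
    have hmem : a ∈ Q.comap φ := heq ▸ ha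
    have hjP : j a ∈ P := hmem
    change residue (Localization.AtPrime P) (algebraMap _ (Localization.AtPrime P) (j a)) = 0
    rw [residue_eq_zero_iff]
    exact (IsLocalization.AtPrime.to_map_mem_maximal_iff (Localization.AtPrime P) P (j a)).mpr hjP
  · intro a b
    change D'' (j (a * b)) = ι a * D'' (j b) + ι b * D'' (j a)
    rw [map_mul, Derivation.leibniz, Algebra.smul_def, Algebra.smul_def]
    rfl
  · change D'' (j (algebraMap k A x₁)) ≠ 0
    rw [hjalg]
    exact hD''
  · intro y hy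
    obtain ⟨z, hz⟩ := hroots y hy
    change D'' (j (algebraMap k A y)) = 0
    rw [hjalg, ← hz, map_pow, map_pow, Derivation.leibniz_pow, hpL]

end Groth.Agent.Lib.Helper5.GeomRegInj
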