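import Groth.Agent.Lib.Helper5.GeomRegInjF
import Mathlib

set_option autoImplicit false
universe u

open IsLocalRing TensorProduct KaehlerDifferential

namespace Groth.Agent.Lib.Helper5.GeomRegInj

variable {k A : Type u} [Field k] [CommRing A] [IsLocalRing A] [Algebra k A]

/-- the element `1 ⊗ (1 ⊗ ω)`. -/
noncomputable def eForm : Ω[k⁄ℤ] →+ (ResidueField A) ⊗[A] (A ⊗[k] Ω[k⁄ℤ]) where
  toFun ω := (1 : ResidueField A) ⊗ₜ[A] ((1 : A) ⊗ₜ[k] ω)
  map_zero' := by rw [TensorProduct.tmul_zero, TensorProduct.tmul_zero]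
  map_add' x y := by rw [TensorProduct.tmul_add, TensorProduct.tmul_add]

theorem eForm_apply (ω : Ω[k⁄ℤ]) :
    eForm (A := A) ω = (1 : ResidueField A) ⊗ₜ[A] ((1 : A) ⊗ₜ[k] ω) := rfl

theorem eForm_smul (b : k) (ω : Ω[k⁄ℤ]) :
    eForm (A := A) (b • ω) = (algebraMap k A b) • eForm (A := A) ω := by
  rw [eForm_apply, eForm_apply, TensorProduct.tmul_smul, ← algebraMap_smul A b ((1 : A) ⊗ₜ[k] ω),
    TensorProduct.tmul_smul]

theorem smul_eq_zero_of_mem {M : Type u} [AddCommGroup M] [Module A M] (a : A)
    (ha : a ∈ maximalIdeal A) (v : (ResidueField A) ⊗[A] M) : a • v = 0 := by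
  induction v using TensorProduct.induction_on with
  | zero => rw [smul_zero]
  | tmul c y =>
    rw [TensorProduct.smul_tmul', Algebra.smul_def]
    have : algebraMap A (ResidueField A) a = 0 := (residue_eq_zero_iff a).mpr ha
    rw [this, zero_mul, TensorProduct.zero_tmul]
  | add x y hx hy => rw [smul_add, hx, hy, add_zero]

theorem eForm_mem_span (S : Set k) (ω : Ω[k⁄ℤ])
    (hω : ω ∈ Submodule.span k ((KaehlerDifferential.D ℤ k) '' S)) :
    eForm (A := A) ω ∈
      Submodule.span A ((fun t : k => eForm (A := A) (KaehlerDifferential.D ℤ k t)) '' S) := by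
  induction hω using Submodule.span_induction with
  | mem x hx =>
    obtain ⟨t, ht, rfl⟩ := hx
    exact Submodule.subset_span ⟨t, ht, rfl⟩
  | zero => rw [map_zero]; exact Submodule.zero_mem _
  | add x y _ _ hx hy => rw [map_add]; exact Submodule.add_mem _ hx hy
  | smul b x _ hx => rw [eForm_smul]; exact Submodule.smul_mem _ _ hx

theorem mem_span_range (ξ : (ResidueField A) ⊗[A] (A ⊗[k] Ω[k⁄ℤ])) :
    ξ ∈ Submodule.span A
      ((fun t : k => eForm (A := A) (KaehlerDifferential.D ℤ k t)) '' Set.univ) := by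
  have key : ∀ y : A ⊗[k] Ω[k⁄ℤ], (1 : ResidueField A) ⊗ₜ[A] y ∈ Submodule.span A
      ((fun t : k => eForm (A := A) (KaehlerDifferential.D ℤ k t)) '' Set.univ) := by
    intro y
    induction y using TensorProduct.induction_on with
    | zero => rw [TensorProduct.tmul_zero]; exact Submodule.zero_mem _
    | tmul a' ω =>
      have h2 : (1 : ResidueField A) ⊗ₜ[A] (a' ⊗ₜ[k] ω) = a' • eForm (A := A) ω := by
        rw [eForm_apply, ← TensorProduct.tmul_smul, TensorProduct.smul_tmul', smul_eq_mul, mul_one]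
      rw [h2]
      apply Submodule.smul_mem
      apply eForm_mem_span
      rw [Set.image_univ, KaehlerDifferential.span_range_derivation]
      trivial
    | add x y hx hy => rw [TensorProduct.tmul_add]; exact Submodule.add_mem _ hx hy
  induction ξ using TensorProduct.induction_on with
  | zero => exact Submodule.zero_mem _
  | tmul c y =>
    obtain ⟨a, rfl⟩ := residue_surjective c
    have h1 : (residue A a) ⊗ₜ[A] y = a • ((1 : ResidueField A) ⊗ₜ[A] y) := by
      rw [TensorProduct.smul_tmul', Algebra.smul_def, mul_one]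
      rfl
    rw [h1]
    exact Submodule.smul_mem _ _ (key y)
  | add x y hx hy => exact Submodule.add_mem _ hx hy

end Groth.Agent.Lib.Helper5.GeomRegInj
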