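import Groth.Agent.Lib.Helper5.GeomRegInjH
import Mathlib

set_option autoImplicit false
universe u

open IsLocalRing Polynomial TensorProduct KaehlerDifferential

namespace Groth.Agent.Lib.Helper5.GeomRegInj

/-- variant of `exists_finite_extension` recording that the extension has exponent one. -/
theorem exists_finite_extension' (k : Type u) [Field k] (p : ℕ) [hp : Fact p.Prime] [CharP k p]
    (s : Finset k) (x₁ : k)
    (hx : KaehlerDifferential.D ℤ k x₁ ∉
      Submodule.span k ((KaehlerDifferential.D ℤ k) '' (s : Set k))) :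
    ∃ (k'' : Type u) (_ : Field k'') (_ : Algebra k k''), Module.Finite k k'' ∧
      (∀ y ∈ s, ∃ z : k'', z ^ p = algebraMap k k'' y) ∧
      (∀ z : k'', z ^ p ≠ algebraMap k k'' x₁) ∧
      ∀ z : k'', z ^ p ∈ Set.range (algebraMap k k'') := by
  classical
  let Ωb := AlgebraicClosure k
  have hchar : CharP Ωb p := charP_of_injective_algebraMap (algebraMap k Ωb).injective p
  have hroot : ∀ y : k, ∃ z : Ωb, z ^ p = algebraMap k Ωb y :=
    fun y => IsAlgClosed.exists_pow_nat_eq _ hp.out.pos
  choose root hrootp using hroot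
  let S : Set Ωb := root '' (s : Set k)
  have hSfin : S.Finite := (Finset.finite_toSet s).image root
  let k'' : IntermediateField k Ωb := IntermediateField.adjoin k S
  have hfin : Module.Finite k k'' := by
    have : Finite S := hSfin.to_subtype
    exact IntermediateField.finiteDimensional_adjoin
      (fun z _ => (Algebra.IsIntegral.isIntegral (R := k) z))
  let V : Submodule k Ω[k⁄ℤ] := Submodule.span k ((KaehlerDifferential.D ℤ k) '' (s : Set k))
  have hpz : ∀ ω : Ω[k⁄ℤ], p • ω = 0 := by
    intro ω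
    rw [← Nat.cast_smul_eq_nsmul k, CharP.cast_eq_zero, zero_smul]
  let T : IntermediateField k Ωb :=
    { carrier := {z | ∃ t : k, z ^ p = algebraMap k Ωb t ∧ KaehlerDifferential.D ℤ k t ∈ V}
      mul_mem' := by
        rintro a b ⟨t, ht, htV⟩ ⟨u, hu, huV⟩
        refine ⟨t * u, by rw [mul_pow, ht, hu, map_mul], ?_⟩
        rw [Derivation.leibniz]
        exact V.add_mem (V.smul_mem _ huV) (V.smul_mem _ htV)
      one_mem' := ⟨1, by rw [one_pow, map_one], by rw [Derivation.map_one_eq_zero]; exact V.zero_mem⟩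
      add_mem' := by
        rintro a b ⟨t, ht, htV⟩ ⟨u, hu, huV⟩
        refine ⟨t + u, by rw [add_pow_char, ht, hu, map_add], ?_⟩
        rw [map_add]
        exact V.add_mem htV huV
      zero_mem' := ⟨0, by rw [zero_pow hp.out.ne_zero, map_zero], by rw [map_zero]; exact V.zero_mem⟩
      algebraMap_mem' := by
        intro a
        refine ⟨a ^ p, by rw [map_pow], ?_⟩
        rw [Derivation.leibniz_pow, hpz]
        exact V.zero_mem
      inv_mem' := by
        rintro a ⟨t, ht, htV⟩
        refine ⟨t⁻¹, by rw [inv_pow, ht, map_inv₀], ?_⟩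
        rw [Derivation.leibniz_inv]
        exact V.smul_mem _ htV }
  have hle : k'' ≤ T := by
    apply IntermediateField.adjoin_le_iff.mpr
    rintro _ ⟨y, hy, rfl⟩
    exact ⟨y, hrootp y, Submodule.subset_span ⟨y, hy, rfl⟩⟩
  refine ⟨k'', inferInstance, inferInstance, hfin, ?_, ?_, ?_⟩
  · intro y hy
    refine ⟨⟨root y, IntermediateField.subset_adjoin k S ⟨y, hy, rfl⟩⟩, ?_⟩
    apply Subtype.ext
    exact hrootp y
  · intro z hz
    obtain ⟨t, ht, htV⟩ := hle z.2
    have h1 : (z : Ωb) ^ p = algebraMap k Ωb x₁ := congrArg Subtype.val hz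
    rw [h1] at ht
    have h2 : x₁ = t := (algebraMap k Ωb).injective ht
    rw [← h2] at htV
    exact hx htV
  · intro z
    obtain ⟨t, ht, -⟩ := hle z.2
    refine ⟨t, ?_⟩
    apply Subtype.ext
    exact ht.symm

/-- in the field obtained by adjoining a `p`-th root of an element of `k` to an extension of
exponent one, every `p`-th power again lies in `k`. -/
theorem pow_mem_range_adjoinRoot (k k'' : Type u) [Field k] [Field k''] [Algebra k k''] (p : ℕ)
    [hp : Fact p.Prime] [CharP k p] (hk'' : ∀ z : k'', z ^ p ∈ Set.range (algebraMap k k''))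
    (x₁ : k) (f : k''[X]) (hf : f = X ^ p - C (algebraMap k k'' x₁)) (z : AdjoinRoot f) :
    z ^ p ∈ Set.range (algebraMap k (AdjoinRoot f)) := by
  subst hf
  have hcharp : (p : AdjoinRoot (X ^ p - C (algebraMap k k'' x₁) : k''[X])) = 0 := by
    rw [← map_natCast (algebraMap k (AdjoinRoot (X ^ p - C (algebraMap k k'' x₁) : k''[X]))),
      CharP.cast_eq_zero, map_zero]
  have hadd : ∀ a b : AdjoinRoot (X ^ p - C (algebraMap k k'' x₁) : k''[X]), (a + b) ^ p = a ^ p + b ^ p := by
    intro a b
    obtain ⟨r, hr⟩ := exists_add_pow_prime_eq hp.out a b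
    rw [hr, hcharp]
    ring
  let S : Subring (AdjoinRoot (X ^ p - C (algebraMap k k'' x₁) : k''[X])) :=
    { carrier := {z | z ^ p ∈ Set.range
        (algebraMap k (AdjoinRoot (X ^ p - C (algebraMap k k'' x₁) : k''[X])))}
      mul_mem' := by
        rintro a b ⟨t, ht⟩ ⟨u, hu⟩
        exact ⟨t * u, by rw [map_mul, ht, hu, mul_pow]⟩
      one_mem' := ⟨1, by rw [map_one, one_pow]⟩
      add_mem' := by
        rintro a b ⟨t, ht⟩ ⟨u, hu⟩
        exact ⟨t + u, by rw [map_add, ht, hu, hadd]⟩
      zero_mem' := ⟨0, by rw [map_zero, zero_pow hp.out.ne_zero]⟩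
      neg_mem' := by
        rintro a ⟨t, ht⟩
        refine ⟨(-1) ^ p * t, ?_⟩
        rw [map_mul, ht, map_pow, map_neg, map_one, ← mul_pow, neg_one_mul] }
  have hof : ∀ c : k'', AdjoinRoot.of (X ^ p - C (algebraMap k k'' x₁) : k''[X]) c ∈ S := by
    intro c
    obtain ⟨t, ht⟩ := hk'' c
    refine ⟨t, ?_⟩
    rw [← map_pow, ← ht]
    rfl
  have hroot : AdjoinRoot.root (X ^ p - C (algebraMap k k'' x₁) : k''[X]) ∈ S := by
    refine ⟨x₁, ?_⟩
    have h0 := AdjoinRoot.eval₂_root (X ^ p - C (algebraMap k k'' x₁) : k''[X])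
    rw [Polynomial.eval₂_sub, Polynomial.eval₂_pow, Polynomial.eval₂_X, Polynomial.eval₂_C,
      sub_eq_zero] at h0
    rw [h0]
    rfl
  have hall : ∀ g : k''[X], AdjoinRoot.mk (X ^ p - C (algebraMap k k'' x₁) : k''[X]) g ∈ S := by
    intro g
    induction g using Polynomial.induction_on with
    | C a => exact hof a
    | add g₁ g₂ h₁ h₂ => rw [map_add]; exact S.add_mem h₁ h₂
    | monomial n a h =>
      rw [pow_succ, ← mul_assoc, map_mul]
      exact S.mul_mem h hroot
  obtain ⟨g, rfl⟩ := AdjoinRoot.mk_surjective z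
  exact hall g

end Groth.Agent.Lib.Helper5.GeomRegInj
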