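import Groth.Agent.Lib.Helper5.GeomRegInjI
import Mathlib

set_option autoImplicit false
universe u

open IsLocalRing Polynomial TensorProduct KaehlerDifferential

namespace Groth.Agent.Lib.Helper5.GeomRegInj

/-- variant of `exists_derivation_of_geomRegular` asking only for the two regularity statements
which its proof uses. -/
theorem exists_derivation_of_regular (R₀ k A : Type u) [Field R₀] [PerfectField R₀] [Field k]
    [CommRing A] [Algebra k A] [Algebra R₀ A] (p : ℕ) [hp : Fact p.Prime] [CharP k p]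
    (hAreg : IsRegularRing A) (x : k)
    (hk' : IsRegularRing (AdjoinRoot (X ^ p - C x : k[X]) ⊗[k] A))
    (I : Ideal A[X]) (hI : I = Ideal.span {(X ^ p - C (algebraMap k A x) : A[X])})
    (Q : Ideal (A[X] ⧸ I)) [Q.IsPrime]
    (P : Ideal A[X]) [P.IsPrime] (hPQ : P = Q.comap (Ideal.Quotient.mk I)) :
    ∃ D : Derivation R₀ A[X] (ResidueField (Localization.AtPrime P)),
      D (C (algebraMap k A x)) ≠ 0 := by
  let f : k[X] := X ^ p - C x
  let F : A[X] := X ^ p - C (algebraMap k A x)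
  let q : (A ⊗[k] k)[X] := f.map (Algebra.TensorProduct.includeRight (R := k) (A := A) (B := k)).toRingHom
  let e1 : AdjoinRoot f ⊗[k] A ≃ₐ[k] A ⊗[k] AdjoinRoot f := Algebra.TensorProduct.comm k _ _
  let e2 : A ⊗[k] AdjoinRoot f ≃ₐ[A] AdjoinRoot q := AdjoinRoot.tensorAlgEquiv f q rfl
  have hqF : q.map ((Algebra.TensorProduct.rid k k A).toRingEquiv : A ⊗[k] k →+* A) = F := by
    change (f.map _).map _ = F
    rw [Polynomial.map_map]
    have hcomp : ((Algebra.TensorProduct.rid k k A).toRingEquiv : A ⊗[k] k →+* A).comp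
        (Algebra.TensorProduct.includeRight (R := k) (A := A) (B := k)).toRingHom =
        algebraMap k A := by
      ext c
      simp [Algebra.algebraMap_eq_smul_one]
    rw [hcomp]
    simp [f, F]
  let e3 : AdjoinRoot q ≃+* AdjoinRoot F :=
    AdjoinRoot.mapRingEquiv (Algebra.TensorProduct.rid k k A).toRingEquiv q F
      (by rw [hqF])
  have hB0 : IsRegularRing (AdjoinRoot F) :=
    IsRegularRing.of_ringEquiv ((e1.toRingEquiv.trans e2.toRingEquiv).trans e3)
  have hB : IsRegularRing (A[X] ⧸ I) := by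
    rw [hI]
    exact hB0
  have hp0 : (p : A) = 0 := by
    rw [← map_natCast (algebraMap k A), CharP.cast_eq_zero, map_zero]
  exact exists_derivation_polynomial R₀ A p hp.out.ne_zero hp0 (algebraMap k A x) F rfl I hI hB Q P
    hPQ

/-- variant of `exists_derivation_field` asking only for regularity after finite extensions of
exponent one. -/
theorem exists_derivation_field' (k A : Type u) [Field k] [CommRing A] [IsLocalRing A] [Algebra k A]
    (p : ℕ) [hp : Fact p.Prime] [CharP k p]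
    (hA : ∀ (k' : Type u) [Field k'] [Algebra k k'], Module.Finite k k' →
      (∀ x : k', x ^ p ∈ Set.range (algebraMap k k')) → IsRegularRing (k' ⊗[k] A))
    (s : Finset k) (x₁ : k)
    (hx : KaehlerDifferential.D ℤ k x₁ ∉
      Submodule.span k ((KaehlerDifferential.D ℤ k) '' (s : Set k))) :
    ∃ (L : Type u) (_ : Field L) (ι : A →+* L) (D : A →+ L),
      (∀ a ∈ maximalIdeal A, ι a = 0) ∧ (∀ a b, D (a * b) = ι a * D b + ι b * D a) ∧
      D (algebraMap k A x₁) ≠ 0 ∧ ∀ y ∈ s, D (algebraMap k A y) = 0 := by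
  obtain ⟨k'', hk''F, hk''A, hfin, hroots, hnot, hexp⟩ := exists_finite_extension' k p s x₁ hx
  have hchar'' : CharP k'' p := charP_of_injective_algebraMap (algebraMap k k'').injective p
  have hA''reg : IsRegularRing (k'' ⊗[k] A) := hA k'' hfin hexp
  let f : k''[X] := X ^ p - C (algebraMap k k'' x₁)
  have hirr : Irreducible f := X_pow_sub_C_irreducible_of_prime hp.out (fun b => hnot b)
  have hfact : Fact (Irreducible f) := ⟨hirr⟩
  have hfin1 : Module.Finite k'' (AdjoinRoot f) :=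
    (monic_X_pow_sub_C (algebraMap k k'' x₁) hp.out.ne_zero).finite_adjoinRoot
  have hfin2 : Module.Finite k (AdjoinRoot f) := Module.Finite.trans k'' (AdjoinRoot f)
  have hreg3 : IsRegularRing (AdjoinRoot f ⊗[k] A) :=
    hA (AdjoinRoot f) hfin2 (fun z => pow_mem_range_adjoinRoot k k'' p hexp x₁ f rfl z)
  have hk' : IsRegularRing (AdjoinRoot f ⊗[k''] (k'' ⊗[k] A)) :=
    IsRegularRing.of_ringEquiv
      (Algebra.TensorProduct.cancelBaseChange k k'' k'' (AdjoinRoot f) A).symm.toRingEquiv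
  let _ : Algebra (Groth.Agent.Lib.Helper5.AdicReg.PF k) (k'' ⊗[k] A) :=
    ((algebraMap k (k'' ⊗[k] A)).comp
      (algebraMap (Groth.Agent.Lib.Helper5.AdicReg.PF k) k)).toAlgebra
  let c : k'' ⊗[k] A := algebraMap k'' (k'' ⊗[k] A) (algebraMap k k'' x₁)
  let F : (k'' ⊗[k] A)[X] := X ^ p - C c
  let I : Ideal (k'' ⊗[k] A)[X] := Ideal.span {F}
  have hnt : Nontrivial (k'' ⊗[k] A) := inferInstance
  have hFmonic : F.Monic := monic_X_pow_sub_C c hp.out.ne_zero
  have hI : I ≠ ⊤ := by
    intro h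
    have hu : IsUnit F := Ideal.span_singleton_eq_top.mp h
    have h1 : F = 1 := hFmonic.isUnit_iff.mp hu
    have h2 : F.natDegree = p := natDegree_X_pow_sub_C
    rw [h1, natDegree_one] at h2
    exact hp.out.ne_zero h2.symm
  have hntq : Nontrivial ((k'' ⊗[k] A)[X] ⧸ I) := Ideal.Quotient.nontrivial_iff.mpr hI
  obtain ⟨Q, hQ⟩ : ∃ Q : Ideal ((k'' ⊗[k] A)[X] ⧸ I), Q.IsMaximal := Ideal.exists_maximal _
  have hQp : Q.IsPrime := Ideal.IsMaximal.isPrime (α := (k'' ⊗[k] A)[X] ⧸ I) hQ
  let P : Ideal (k'' ⊗[k] A)[X] := Q.comap (Ideal.Quotient.mk I)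
  have hPp : P.IsPrime := Ideal.comap_isPrime _ _
  obtain ⟨D'', hD''⟩ := exists_derivation_of_regular
    (Groth.Agent.Lib.Helper5.AdicReg.PF k) k'' (k'' ⊗[k] A) p hA''reg
    (algebraMap k k'' x₁) hk' I rfl Q P rfl
  let L := ResidueField (Localization.AtPrime P)
  let j : A →+* (k'' ⊗[k] A)[X] :=
    (C : (k'' ⊗[k] A) →+* (k'' ⊗[k] A)[X]).comp
      (Algebra.TensorProduct.includeRight : A →ₐ[k] k'' ⊗[k] A).toRingHom
  let ι : A →+* L := (algebraMap (k'' ⊗[k] A)[X] L).comp j
  have hpL : ∀ v : L, p • v = 0 := by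
    intro v
    have hpK : (p : (k'' ⊗[k] A)[X]) = 0 := by
      rw [← Polynomial.C_eq_natCast, ← map_natCast (algebraMap k'' (k'' ⊗[k] A)),
        CharP.cast_eq_zero, map_zero, map_zero]
    rw [← Nat.cast_smul_eq_nsmul (k'' ⊗[k] A)[X], hpK]
    exact zero_smul (k'' ⊗[k] A)[X] v
  have hjalg : ∀ t : k, j (algebraMap k A t) = C (algebraMap k'' (k'' ⊗[k] A) (algebraMap k k'' t)) := by
    intro t
    have h1 : (1 : k'') ⊗ₜ[k] (algebraMap k A t) =
        algebraMap k'' (k'' ⊗[k] A) (algebraMap k k'' t) := by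
      rw [Algebra.TensorProduct.algebraMap_apply, Algebra.algebraMap_eq_smul_one,
        Algebra.algebraMap_eq_smul_one (A := k''), TensorProduct.tmul_smul,
        TensorProduct.smul_tmul', Algebra.algebraMap_eq_smul_one, smul_eq_mul, mul_one]
    change C ((1 : k'') ⊗ₜ[k] (algebraMap k A t)) = _
    rw [h1]
  refine ⟨L, inferInstance, ι, (D'' : (k'' ⊗[k] A)[X] →+ L).comp j.toAddMonoidHom, ?_, ?_, ?_, ?_⟩
  · intro a ha
    let φ : A →+* (k'' ⊗[k] A)[X] ⧸ I := (Ideal.Quotient.mk I).comp j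
    have hφ : φ.IsIntegral := by
      have h1 := includeRight_isIntegral k A k''
      have hfinq : Module.Finite (k'' ⊗[k] A) ((k'' ⊗[k] A)[X] ⧸ I) := hFmonic.finite_quotient
      have h2 : (algebraMap (k'' ⊗[k] A) ((k'' ⊗[k] A)[X] ⧸ I)).IsIntegral :=
        algebraMap_isIntegral_iff.mpr inferInstance
      exact RingHom.IsIntegral.trans
        (Algebra.TensorProduct.includeRight : A →ₐ[k] k'' ⊗[k] A).toRingHom
        (algebraMap (k'' ⊗[k] A) ((k'' ⊗[k] A)[X] ⧸ I)) h1 h2
    have hmax : (Q.comap φ).IsMaximal :=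
      @Ideal.isMaximal_comap_of_isIntegral_of_isMaximal' A ((k'' ⊗[k] A)[X] ⧸ I) _
        (Ideal.Quotient.commRing I) φ hφ Q hQ
    have heq : Q.comap φ = maximalIdeal A := IsLocalRing.eq_maximalIdeal hmax
    have hmem : a ∈ Q.comap φ := heq ▸ ha
    have hjP : j a ∈ P := hmem
    change residue (Localization.AtPrime P) (algebraMap _ (Localization.AtPrime P) (j a)) = 0
    rw [residue_eq_zero_iff]
    exact (IsLocalization.AtPrime.to_map_mem_maximal_iff (Localization.AtPrime P) P (j a)).mpr hjP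
  · intro a b
    change D'' (j (a * b)) = ι a * D'' (j b) + ι b * D'' (j a)
    rw [map_mul, Derivation.leibniz, Algebra.smul_def, Algebra.smul_def]
    rfl
  · change D'' (j (algebraMap k A x₁)) ≠ 0
    rw [hjalg]
    exact hD''
  · intro y hy
    obtain ⟨z, hz⟩ := hroots y hy
    change D'' (j (algebraMap k A y)) = 0
    rw [hjalg, ← hz, map_pow, map_pow, Derivation.leibniz_pow, hpL]

end Groth.Agent.Lib.Helper5.GeomRegInj
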