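import Groth.Prelude.Def_GLin

set_option autoImplicit false
universe u v w

open LaurentPolynomial Polynomial

namespace Groth.Agent.Lib.Helper5.GitMu

section Abstract

variable {k : Type u} [Field k] {ι : Type w}

def IsMuFam (c : ι → k[T;T⁻¹]) (m : ℤ) : Prop :=
  ∃ q : ι → k[X], (∀ i, toLaurent (q i) = T m * c i) ∧ ∃ i, (q i).eval 0 ≠ 0

def HasLimFam (c : ι → k[T;T⁻¹]) : Prop :=
  ∃ q : ι → k[X], ∀ i, toLaurent (q i) = c i

def LimZeroFam (c : ι → k[T;T⁻¹]) : Prop :=
  ∃ q : ι → k[X], (∀ i, toLaurent (q i) = c i) ∧ ∀ i, (q i).eval 0 = 0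

theorem shift_eq {c : k[T;T⁻¹]} {m m' : ℤ} (hm : m ≤ m') {q q' : k[X]}
    (h : toLaurent q = T m * c) (h' : toLaurent q' = T m' * c) :
    q' = X ^ (m' - m).toNat * q := by
  apply toLaurent_injective
  rw [map_mul, toLaurent_X_pow, h, h', ← mul_assoc, ← T_add, Int.toNat_of_nonneg (by omega)]
  congr 2
  omega

theorem isMuFam_le {c : ι → k[T;T⁻¹]} {m m' : ℤ} (h : IsMuFam c m) (h' : IsMuFam c m') :
    m' ≤ m := by
  by_contra hlt
  push Not at hlt
  obtain ⟨q, hq, -⟩ := h
  obtain ⟨q', hq', i, hi⟩ := h'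
  apply hi
  rw [shift_eq hlt.le (hq i) (hq' i), eval_mul, eval_pow, eval_X, zero_pow, zero_mul]
  omega

theorem isMuFam_unique {c : ι → k[T;T⁻¹]} {m m' : ℤ} (h : IsMuFam c m) (h' : IsMuFam c m') :
    m = m' :=
  le_antisymm (isMuFam_le h' h) (isMuFam_le h h')

theorem exists_common_shift [Finite ι] (c : ι → k[T;T⁻¹]) :
    ∃ (N : ℕ) (g : ι → k[X]), ∀ i, toLaurent (g i) = c i * T N := by
  classical
  cases nonempty_fintype ι
  choose n f hf using fun i => exists_T_pow (c i)
  refine ⟨∑ i, n i, fun i => f i * X ^ (∑ j, n j - n i), fun i => ?_⟩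
  have hle : n i ≤ ∑ j, n j := Finset.single_le_sum (fun _ _ => Nat.zero_le _) (Finset.mem_univ i)
  rw [map_mul, toLaurent_X_pow, hf, mul_T_assoc]
  congr 2
  push_cast [Nat.cast_sub hle]
  ring

theorem exists_isMuFam [Finite ι] (c : ι → k[T;T⁻¹]) (hc : ∃ i, c i ≠ 0) : ∃ m, IsMuFam c m := by
  classical
  obtain ⟨N, g, hg⟩ := exists_common_shift c
  obtain ⟨i0, hi0⟩ := hc
  have hg0 : g i0 ≠ 0 := by
    intro h0
    apply hi0
    have := hg i0
    rw [h0, map_zero] at this
    have hu := (isUnit_T (R := k) (N : ℤ)).mul_left_eq_zero (a := c i0)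
    exact hu.mp this.symm
  let P : ℕ → Prop := fun d => ∀ i, X ^ d ∣ g i
  have hP0 : P 0 := fun i => by simp
  have hbound : ∀ d, P d → d ≤ (g i0).natDegree := by
    intro d hd
    have := natDegree_le_of_dvd (hd i0) hg0
    rwa [natDegree_X_pow] at this
  let d := Nat.findGreatest P (g i0).natDegree
  have hPd : P d := Nat.findGreatest_spec (P := P) (Nat.zero_le _) hP0
  have hPd1 : ¬ P (d + 1) := by
    intro h
    have h1 := Nat.le_findGreatest (hbound _ h) h
    omega
  choose q hq using hPd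
  refine ⟨(N : ℤ) - d, q, fun i => ?_, ?_⟩
  · have h1 : toLaurent (g i) = T (d : ℤ) * toLaurent (q i) := by
      rw [hq i, map_mul, toLaurent_X_pow]
    have h2 : toLaurent (q i) = T (-(d : ℤ)) * toLaurent (g i) := by
      rw [h1, ← mul_assoc, ← T_add, neg_add_cancel, T_zero, one_mul]
    rw [h2, hg i, T_mul, mul_T_assoc, T_mul]
    congr 2
  · by_contra hall
    push Not at hall
    apply hPd1
    intro i
    have : X ∣ q i := by
      rw [X_dvd_iff, coeff_zero_eq_eval_zero]
      exact hall i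
    rw [hq i, pow_succ]
    exact mul_dvd_mul_left _ this

theorem hasLimFam_iff {c : ι → k[T;T⁻¹]} {μ : ℤ} (h : IsMuFam c μ) : HasLimFam c ↔ μ ≤ 0 := by
  constructor
  · rintro ⟨q, hq⟩
    have : IsMuFam c μ → μ ≤ 0 := by
      rintro ⟨q', hq', i, hi⟩
      by_contra hlt
      push Not at hlt
      apply hi
      have h0 : toLaurent (q i) = T 0 * c i := by rw [T_zero, one_mul, hq i]
      rw [shift_eq hlt.le h0 (hq' i), eval_mul, eval_pow, eval_X, zero_pow, zero_mul]
      omega
    exact this h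
  · intro hle
    obtain ⟨q', hq', -⟩ := h
    refine ⟨fun i => X ^ (-μ).toNat * q' i, fun i => ?_⟩
    rw [map_mul, toLaurent_X_pow, hq', ← mul_assoc, ← T_add, Int.toNat_of_nonneg (by omega),
      neg_add_cancel, T_zero, one_mul]

theorem limZeroFam_iff {c : ι → k[T;T⁻¹]} {μ : ℤ} (h : IsMuFam c μ) : LimZeroFam c ↔ μ < 0 := by
  constructor
  · rintro ⟨q, hq, hq0⟩
    have hle : μ ≤ 0 := (hasLimFam_iff h).mp ⟨q, hq⟩
    rcases hle.lt_or_eq with hlt | heq
    · exact hlt
    · exfalso
      obtain ⟨q', hq', i, hi⟩ := h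
      apply hi
      have : q' i = q i := by
        apply toLaurent_injective
        rw [hq', hq, heq, T_zero, one_mul]
      rw [this, hq0]
  · intro hlt
    obtain ⟨q', hq', -⟩ := h
    refine ⟨fun i => X ^ (-μ).toNat * q' i, fun i => ?_, fun i => ?_⟩
    · rw [map_mul, toLaurent_X_pow, hq', ← mul_assoc, ← T_add, Int.toNat_of_nonneg (by omega),
        neg_add_cancel, T_zero, one_mul]
    · rw [eval_mul, eval_pow, eval_X, zero_pow, zero_mul]
      omega

theorem isMuFam_zero_iff {c : ι → k[T;T⁻¹]} {μ : ℤ} (h : IsMuFam c μ) :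
    (HasLimFam c ∧ ¬ LimZeroFam c) ↔ μ = 0 := by
  rw [hasLimFam_iff h, limZeroFam_iff h]
  omega

end Abstract

section Concrete

open TensorProduct

variable {k : Type u} [Field k] {A : Type v} [CommRing A] [Bialgebra k A]

theorem counit_orbitHom {R : Type w} [CommRing R] [Algebra k R] [HopfRep.Comod k A R]
    [GLin.IsCoactAlg k A R] (x : R →ₐ[k] k) (f : R) :
    Coalgebra.counit (R := k) (GLin.orbitHom k A x f) = x f := by
  have key : ∀ z : R ⊗[k] A,
      Coalgebra.counit (R := k) ((Algebra.TensorProduct.lid k A)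
        ((Algebra.TensorProduct.map x (AlgHom.id k A)) z)) =
      x ((TensorProduct.rid k R) ((Coalgebra.counit (R := k) (A := A)).lTensor R z)) := by
    intro z
    induction z using TensorProduct.induction_on with
    | zero => simp
    | tmul r a => simp [mul_comm]
    | add z z' hz hz' => simp only [map_add, hz, hz']
  have h1 := LinearMap.congr_fun (HopfRep.Comod.counit_comp (k := k) (A := A) (V := R)) f
  simp only [LinearMap.comp_apply, LinearMap.flip_apply, TensorProduct.mk_apply] at h1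
  change Coalgebra.counit (R := k) ((Algebra.TensorProduct.lid k A)
    ((Algebra.TensorProduct.map x (AlgHom.id k A)) (HopfRep.Comod.coact (k := k) (A := A) f))) = _
  rw [key, h1]
  simp

variable {ι : Type w} [HopfRep.Comod k A (MvPolynomial ι k)]
  [GLin.IsCoactAlg k A (MvPolynomial ι k)]

noncomputable def cfam (lam : A →ₐc[k] k[T;T⁻¹]) (v : ι → k) : ι → k[T;T⁻¹] :=
  fun i => GLin.lamOrbit k A lam (GLin.vecPt k ι v) (MvPolynomial.X i)

theorem counit_cfam (lam : A →ₐc[k] k[T;T⁻¹]) (v : ι → k) (i : ι) :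
    Coalgebra.counit (R := k) (cfam lam v i) = v i := by
  have h := CoalgHomClass.counit_comp_apply (R := k) lam
    (GLin.orbitHom k A (GLin.vecPt k ι v) (MvPolynomial.X i))
  have h2 := counit_orbitHom (A := A) (GLin.vecPt k ι v) (MvPolynomial.X i)
  rw [h2] at h
  have h3 : (GLin.vecPt k ι v) (MvPolynomial.X i) = v i := by simp
  rw [h3] at h
  exact h

theorem exists_cfam_ne_zero (lam : A →ₐc[k] k[T;T⁻¹]) {v : ι → k} (hv : v ≠ 0) :
    ∃ i, cfam lam v i ≠ 0 := by
  by_contra hall
  push Not at hall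
  apply hv
  funext i
  rw [← counit_cfam lam v i, hall i, map_zero]
  rfl

theorem lamOrbit_eq_aeval (lam : A →ₐc[k] k[T;T⁻¹]) (v : ι → k) :
    GLin.lamOrbit k A lam (GLin.vecPt k ι v) = MvPolynomial.aeval (cfam lam v) := by
  apply MvPolynomial.algHom_ext
  intro i
  simp [cfam]

theorem isMu_iff (lam : A →ₐc[k] k[T;T⁻¹]) (v : ι → k) (m : ℤ) :
    GLin.IsMu k A lam v m ↔ IsMuFam (cfam lam v) m := by
  constructor
  · rintro ⟨h, hh, hne⟩
    refine ⟨fun i => h (MvPolynomial.X i), fun i => ?_, ?_⟩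
    · have := DFunLike.congr_fun hh (MvPolynomial.X i)
      simpa [GLin.shiftedOrbit, cfam] using this
    · by_contra hall
      push Not at hall
      apply hne
      apply MvPolynomial.algHom_ext
      intro i
      simpa [Polynomial.coe_aeval_eq_eval] using hall i
  · rintro ⟨q, hq, i, hi⟩
    refine ⟨MvPolynomial.aeval q, ?_, ?_⟩
    · apply MvPolynomial.algHom_ext
      intro j
      simpa [GLin.shiftedOrbit, cfam] using hq j
    · intro heq
      apply hi
      have := DFunLike.congr_fun heq (MvPolynomial.X i)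
      simpa [Polynomial.coe_aeval_eq_eval] using this

theorem hasLimit_iff (lam : A →ₐc[k] k[T;T⁻¹]) (v : ι → k) :
    GLin.HasLimit k A lam (GLin.vecPt k ι v) ↔ HasLimFam (cfam lam v) := by
  constructor
  · rintro ⟨h, hh⟩
    refine ⟨fun i => h (MvPolynomial.X i), fun i => ?_⟩
    have := DFunLike.congr_fun hh (MvPolynomial.X i)
    simpa [cfam] using this
  · rintro ⟨q, hq⟩
    refine ⟨MvPolynomial.aeval q, ?_⟩
    rw [lamOrbit_eq_aeval]
    apply MvPolynomial.algHom_ext
    intro j
    simpa using hq j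

theorem isLimit_zero_iff (lam : A →ₐc[k] k[T;T⁻¹]) (v : ι → k) :
    GLin.IsLimit k A lam (GLin.vecPt k ι v) (GLin.vecPt k ι (fun _ => (0 : k))) ↔
      LimZeroFam (cfam lam v) := by
  constructor
  · rintro ⟨h, hh, h0⟩
    refine ⟨fun i => h (MvPolynomial.X i), fun i => ?_, fun i => ?_⟩
    · have := DFunLike.congr_fun hh (MvPolynomial.X i)
      simpa [cfam] using this
    · have := DFunLike.congr_fun h0 (MvPolynomial.X i)
      simpa [Polynomial.coe_aeval_eq_eval] using this
  · rintro ⟨q, hq, hq0⟩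
    refine ⟨MvPolynomial.aeval q, ?_, ?_⟩
    · rw [lamOrbit_eq_aeval]
      apply MvPolynomial.algHom_ext
      intro j
      simpa using hq j
    · apply MvPolynomial.algHom_ext
      intro j
      simpa [Polynomial.coe_aeval_eq_eval] using hq0 j

end Concrete

end Groth.Agent.Lib.Helper5.GitMu
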