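import Groth.Agent.Lib.Helper5.GorFactorA
import Mathlib.RingTheory.KrullDimension.NonZeroDivisors

set_option autoImplicit false
set_option linter.unusedSectionVars false
universe u

namespace Groth.Agent.Lib.Helper5.GorFactor

open IsLocalRing Groth.Agent.Lib.Helper12

section Step

variable {A C : Type u} [CommRing A] [IsLocalRing A] [CommRing C] [Algebra A C] (y : C)

/-- the closed fibre of the quotient by `y` is the quotient of the closed fibre by the class of
`y` -/
noncomputable def fibreQuotEquiv :
    ((C ⧸ (maximalIdeal A).map (algebraMap A C)) ⧸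
      Ideal.span {Ideal.Quotient.mk ((maximalIdeal A).map (algebraMap A C)) y}) ≃+*
    ((C ⧸ Ideal.span {y}) ⧸ (maximalIdeal A).map (algebraMap A (C ⧸ Ideal.span {y}))) :=
  ((Ideal.quotEquivOfEq (by rw [Ideal.map_span, Set.image_singleton])).trans
    (DoubleQuot.quotQuotEquivComm ((maximalIdeal A).map (algebraMap A C)) (Ideal.span {y}))).trans
    (Ideal.quotEquivOfEq (by rw [Ideal.map_map]; rfl))

end Step

section Main

variable (A B : Type u) [CommRing A] [IsLocalRing A] [IsArtinianRing A]
  [CommRing B] [IsLocalRing B] [IsArtinianRing B] [Algebra A B]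

theorem exists_factor : ∀ (d : ℕ) (C : Type u) [CommRing C] [IsLocalRing C] [IsNoetherianRing C]
    [Algebra A C] [IsLocalHom (algebraMap A C)] [Module.Flat A C] (π : C →ₐ[A] B),
    Function.Surjective π →
    LocCoh.IsGorensteinLocalRing (C ⧸ (maximalIdeal A).map (algebraMap A C)) →
    ringKrullDim (C ⧸ (maximalIdeal A).map (algebraMap A C)) ≤ d →
    ∃ (R' : Type u) (_ : CommRing R') (_ : Algebra A R'), IsArtinianRing R' ∧ IsLocalRing R' ∧
      Module.Flat A R' ∧ IsLocalHom (algebraMap A R') ∧
      LocCoh.IsGorensteinLocalRing (R' ⧸ (maximalIdeal A).map (algebraMap A R')) ∧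
      ∃ g : R' →ₐ[A] B, Function.Surjective g := by
  intro d
  induction d with
  | zero =>
    intro C _ _ _ _ _ _ π hπ hG hdim
    exact ⟨C, inferInstance, inferInstance, isArtinianRing_of_fibre (by exact_mod_cast hdim),
      inferInstance, inferInstance, inferInstance, hG, π, hπ⟩
  | succ d ih =>
    intro C _ _ _ _ _ _ π hπ hG hdim
    by_cases h0 : ringKrullDim (C ⧸ (maximalIdeal A).map (algebraMap A C)) ≤ 0
    · exact ⟨C, inferInstance, inferInstance, isArtinianRing_of_fibre h0,
        inferInstance, inferInstance, inferInstance, hG, π, hπ⟩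
    set I := (maximalIdeal A).map (algebraMap A C) with hI
    obtain ⟨r, hrm, hrreg⟩ := exists_regular_of_dim_pos (C ⧸ I) h0
    obtain ⟨x, rfl⟩ := Ideal.Quotient.mk_surjective r
    have hx : x ∈ maximalIdeal C := by
      rw [mem_maximalIdeal, mem_nonunits_iff]
      intro hu
      exact hrm (hu.map (Ideal.Quotient.mk I))
    have hmB : (maximalIdeal C).map (π : C →+* B) = maximalIdeal B :=
      CohenStruct.map_maximalIdeal_of_surjective _ hπ
    have hπx : π x ∈ maximalIdeal B := by
      rw [← hmB]
      exact Ideal.mem_map_of_mem _ hx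
    obtain ⟨N, hN⟩ := (isArtinianRing_iff_isNilpotent_maximalIdeal B).1 inferInstance
    have hπxN : (π x) ^ N = 0 := by
      have := Ideal.pow_mem_pow hπx N
      rw [hN] at this
      exact this
    set y : C := x ^ (N + 1) with hy
    have hym : y ∈ maximalIdeal C := Ideal.pow_mem_of_mem _ hx _ (Nat.succ_pos N)
    have hπy : π y = 0 := by
      rw [hy, map_pow, pow_succ, hπxN, zero_mul]
    have hyreg : IsSMulRegular (C ⧸ I) (Ideal.Quotient.mk I y) := by
      rw [hy, map_pow]
      exact IsSMulRegular.pow _ hrreg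
    have hyF : Ideal.Quotient.mk I y ∈ maximalIdeal (C ⧸ I) := by
      rw [hy, map_pow]
      exact Ideal.pow_mem_of_mem _ hrm _ (Nat.succ_pos N)
    have hnzd : Ideal.Quotient.mk I y ∈ nonZeroDivisors (C ⧸ I) := by
      rw [mem_nonZeroDivisors_iff_right]
      intro z hz
      apply hyreg
      change Ideal.Quotient.mk I y • z = Ideal.Quotient.mk I y • 0
      rw [smul_eq_mul, smul_zero, mul_comm]
      exact hz
    -- the quotient
    have hspan : Ideal.span {y} ≤ maximalIdeal C := by
      rw [Ideal.span_le, Set.singleton_subset_iff]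
      exact hym
    have _ : IsLocalRing (C ⧸ Ideal.span {y}) := isLocalRing_quotient _ hspan
    have hmC₁ : (maximalIdeal C).map (Ideal.Quotient.mk (Ideal.span {y})) =
        maximalIdeal (C ⧸ Ideal.span {y}) :=
      CohenStruct.map_maximalIdeal_of_surjective _ Ideal.Quotient.mk_surjective
    have _ : IsLocalHom (algebraMap A (C ⧸ Ideal.span {y})) := by
      refine ((local_hom_TFAE _).out 0 2).2 ?_
      rw [Ideal.map_le_iff_le_comap]
      intro a ha
      rw [Ideal.mem_comap, ← hmC₁]
      change Ideal.Quotient.mk (Ideal.span {y}) (algebraMap A C a) ∈ _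
      exact Ideal.mem_map_of_mem _ (map_le_maximalIdeal (Ideal.mem_map_of_mem _ ha))
    have _ : Module.Flat A (C ⧸ Ideal.span {y}) := (Groth.Agent.S0395.result y hnzd).1
    have hG' : LocCoh.IsGorensteinLocalRing ((C ⧸ I) ⧸ Ideal.span {Ideal.Quotient.mk I y}) :=
      (Groth.Agent.S0343.result (C ⧸ I) (Ideal.Quotient.mk I y) hyF hyreg).1 hG
    have hG₁ : LocCoh.IsGorensteinLocalRing ((C ⧸ Ideal.span {y}) ⧸
        (maximalIdeal A).map (algebraMap A (C ⧸ Ideal.span {y}))) :=
      GorIso.isGorensteinLocalRing_of_ringEquiv (fibreQuotEquiv (A := A) y)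
    have hdim₁ : ringKrullDim ((C ⧸ Ideal.span {y}) ⧸
        (maximalIdeal A).map (algebraMap A (C ⧸ Ideal.span {y}))) ≤ d := by
      rw [← ringKrullDim_eq_of_ringEquiv (fibreQuotEquiv (A := A) y)]
      have h1 := ringKrullDim_quotient_succ_le_of_nonZeroDivisor hnzd
      have h2 := h1.trans hdim
      push_cast at h2
      exact ENat.WithBot.add_le_add_one_right_iff.1 h2
    let π₁ : (C ⧸ Ideal.span {y}) →ₐ[A] B := Ideal.Quotient.liftₐ (Ideal.span {y}) π (by
      intro c hc
      obtain ⟨c', rfl⟩ := Ideal.mem_span_singleton'.1 hc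
      rw [map_mul, hπy, mul_zero])
    have hπ₁ : Function.Surjective π₁ := by
      intro b
      obtain ⟨c, rfl⟩ := hπ b
      exact ⟨Ideal.Quotient.mk _ c, rfl⟩
    exact ih (C ⧸ Ideal.span {y}) π₁ hπ₁ hG₁ hdim₁

end Main

end Groth.Agent.Lib.Helper5.GorFactor
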