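import Mathlib
import Groth.Agent.S0343
import Groth.Agent.Lib.Helper5.GorIso

/-!
# A Gorenstein local ring modulo a regular sequence is Gorenstein
-/

set_option autoImplicit false
universe u

open RingTheory.Sequence IsLocalRing Pointwise

namespace Groth.Agent.Lib.Helper5.GorRegSeq

/-- `R/(a)` as a module over itself versus `QuotSMulTop a R`. -/
noncomputable def quotEquiv {R : Type u} [CommRing R] (a : R) :
    QuotSMulTop a R ≃ₗ[R ⧸ Ideal.span {a}] (R ⧸ Ideal.span {a}) := by
  have heq : (a • ⊤ : Submodule R R) = Ideal.span {a} := by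
    rw [← Submodule.ideal_span_singleton_smul, smul_eq_mul, Ideal.mul_top]
  let e0 : QuotSMulTop a R ≃ₗ[R] (R ⧸ Ideal.span {a}) := Submodule.quotEquivOfEq _ _ heq
  exact
    { toFun := e0
      invFun := e0.symm
      left_inv := e0.left_inv
      right_inv := e0.right_inv
      map_add' := e0.map_add
      map_smul' := by
        intro c x
        obtain ⟨c, rfl⟩ := Ideal.Quotient.mk_surjective c
        exact e0.map_smul c x }

theorem gorenstein_quotient : ∀ (n : ℕ) (R : Type u) [CommRing R] [IsLocalRing R]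
    [IsNoetherianRing R] (l : List R), l.length = n → (∀ x ∈ l, x ∈ maximalIdeal R) →
    IsWeaklyRegular R l → LocCoh.IsGorensteinLocalRing R →
    LocCoh.IsGorensteinLocalRing (R ⧸ Ideal.ofList l) := by
  intro n
  induction n with
  | zero =>
    intro R _ _ _ l hlen _ _ hG
    have hl : l = [] := List.length_eq_zero_iff.mp hlen
    subst hl
    have e : R ≃+* (R ⧸ Ideal.ofList ([] : List R)) :=
      (RingEquiv.quotientBot R).symm.trans (Ideal.quotEquivOfEq Ideal.ofList_nil.symm)
    exact Groth.Agent.Lib.Helper5.GorIso.isGorensteinLocalRing_of_ringEquiv e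
  | succ n ih =>
    intro R _ _ _ l hlen hmem hreg hG
    obtain ⟨a, l, rfl⟩ : ∃ a l', l = a :: l' := by
      cases l with
      | nil => simp at hlen
      | cons a l' => exact ⟨a, l', rfl⟩
    obtain ⟨h1, h2⟩ := (isWeaklyRegular_cons_iff' R a l).mp hreg
    have ha : a ∈ maximalIdeal R := hmem a List.mem_cons_self
    have hG' : LocCoh.IsGorensteinLocalRing (R ⧸ Ideal.span {a}) :=
      (Groth.Agent.S0343.result R a ha h1).1 hG
    have hloc : IsLocalRing (R ⧸ Ideal.span {a}) := hG'.toIsLocalRing
    have hlh : IsLocalHom (Ideal.Quotient.mk (Ideal.span {a})) :=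
      IsLocalHom.of_surjective _ Ideal.Quotient.mk_surjective
    set l' := l.map (Ideal.Quotient.mk (Ideal.span {a})) with hl'
    have hreg' : IsWeaklyRegular (R ⧸ Ideal.span {a}) l' :=
      ((quotEquiv a).isWeaklyRegular_congr l').mp h2
    have hmem' : ∀ x ∈ l', x ∈ maximalIdeal (R ⧸ Ideal.span {a}) := by
      intro x hx
      rw [hl', List.mem_map] at hx
      obtain ⟨y, hy, rfl⟩ := hx
      have hy' := hmem y (List.mem_cons_of_mem _ hy)
      rw [mem_maximalIdeal, mem_nonunits_iff] at hy' ⊢
      intro hu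
      exact hy' (isUnit_of_map_unit (Ideal.Quotient.mk (Ideal.span {a})) y hu)
    have hlen' : l'.length = n := by
      rw [hl', List.length_map]
      simpa using hlen
    have h3 := ih (R ⧸ Ideal.span {a}) l' hlen' hmem' hreg' hG'
    have e : ((R ⧸ Ideal.span {a}) ⧸ Ideal.ofList l') ≃+* (R ⧸ Ideal.ofList (a :: l)) := by
      have h4 : Ideal.ofList l' = (Ideal.ofList l).map (Ideal.Quotient.mk (Ideal.span {a})) := by
        rw [hl', Ideal.map_ofList]
      exact (Ideal.quotEquivOfEq h4).trans
        ((DoubleQuot.quotQuotEquivQuotSup (Ideal.span {a}) (Ideal.ofList l)).trans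
          (Ideal.quotEquivOfEq (Ideal.ofList_cons a l).symm))
    exact Groth.Agent.Lib.Helper5.GorIso.isGorensteinLocalRing_of_ringEquiv e

end Groth.Agent.Lib.Helper5.GorRegSeq
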