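import Mathlib
import Groth.Agent.Lib.Helper5.KosBCB
import Groth.Agent.Lib.Helper5.KosRegA
import Groth.Agent.Lib.Helper5.GorRegSeq

/-!
# The quotient of a Gorenstein ring by a Koszul-regular ideal is Gorenstein
-/

set_option autoImplicit false
universe u

open RingTheory.Sequence IsLocalRing

namespace Groth.Agent.Lib.Helper5.GorLCI

variable {R : Type u} [CommRing R]

/-- local form: at a prime `n ⊇ I` of a Noetherian ring with `R_n` Gorenstein, a Koszul-regular
ideal `I` has `R_n / I R_n` Gorenstein. -/
theorem gorenstein_localization_quotient [IsNoetherianRing R] (I : Ideal R)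
    (hI : LCI.IsKoszulRegularIdeal I) (n : Ideal R) [hn : n.IsPrime] (hIn : I ≤ n)
    (hG : LocCoh.IsGorensteinLocalRing (Localization.AtPrime n)) :
    LocCoh.IsGorensteinLocalRing
      (Localization.AtPrime n ⧸ I.map (algebraMap R (Localization.AtPrime n))) := by
  obtain ⟨g, hg, l, hl, hIl⟩ := hI ⟨n, hn⟩ hIn
  have hgu : IsUnit (algebraMap R (Localization.AtPrime n) g) :=
    IsLocalization.map_units (M := n.primeCompl) (Localization.AtPrime n) ⟨g, hg⟩
  let ψ : (Localization.Away g) →+* (Localization.AtPrime n) := IsLocalization.Away.lift g hgu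
  let _ : Algebra (Localization.Away g) (Localization.AtPrime n) := ψ.toAlgebra
  have hst : IsScalarTower R (Localization.Away g) (Localization.AtPrime n) := IsScalarTower.of_algebraMap_eq (fun x => by
    change _ = ψ (algebraMap R (Localization.Away g) x)
    exact (IsLocalization.Away.lift_eq g hgu x).symm)
  have hle : Submonoid.powers g ≤ n.primeCompl := by
    rw [Submonoid.powers_le]
    exact hg
  have hloc : IsLocalization (n.primeCompl.map (algebraMap R (Localization.Away g))) (Localization.AtPrime n) :=
    IsLocalization.isLocalization_of_submonoid_le (Localization.Away g) (Localization.AtPrime n) (Submonoid.powers g) n.primeCompl hle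
  have hflat : Module.Flat (Localization.Away g) (Localization.AtPrime n) := IsLocalization.flat (Localization.AtPrime n) (n.primeCompl.map (algebraMap R (Localization.Away g)))
  have hψflat : ψ.Flat := hflat
  have hl' : LCI.IsKoszulRegularSeq (Localization.AtPrime n) (l.map ψ) :=
    Groth.Agent.Lib.Helper5.KosBC.isKoszulRegularSeq_map ψ hψflat l hl
  have hgen : I.map (algebraMap R (Localization.AtPrime n)) = Ideal.ofList (l.map ψ) := by
    rw [← Ideal.map_ofList, IsScalarTower.algebraMap_eq R (Localization.Away g) (Localization.AtPrime n), ← Ideal.map_map]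
    rw [hIl]
    rfl
  have hmem : ∀ x ∈ l.map ψ, x ∈ maximalIdeal (Localization.AtPrime n) := by
    intro x hx
    have h1 : x ∈ Ideal.ofList (l.map ψ) := Ideal.subset_span hx
    rw [← hgen] at h1
    have h2 : I.map (algebraMap R (Localization.AtPrime n)) ≤ maximalIdeal (Localization.AtPrime n) := by
      rw [← Localization.AtPrime.map_eq_maximalIdeal]
      exact Ideal.map_mono hIn
    exact h2 h1
  have hN : IsNoetherianRing (Localization.AtPrime n) := IsLocalization.isNoetherianRing n.primeCompl (Localization.AtPrime n) inferInstance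
  have hreg : IsRegular (Localization.AtPrime n) (l.map ψ) :=
    Groth.Agent.Lib.Helper5.KosReg.isRegular_of_koszulRegular _ hmem hl'
  have h3 := Groth.Agent.Lib.Helper5.GorRegSeq.gorenstein_quotient _ (Localization.AtPrime n) (l.map ψ) rfl hmem
    hreg.toIsWeaklyRegular hG
  rw [hgen]
  exact h3

end Groth.Agent.Lib.Helper5.GorLCI

namespace Groth.Agent.Lib.Helper5.GorLCI

variable {R : Type u} [CommRing R]

/-- the localization of `R ⧸ I` at the image of a prime `n ⊇ I` -/
theorem nonempty_localization_quotient_equiv (I : Ideal R) (n : Ideal R) [hn : n.IsPrime]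
    (hIn : I ≤ n) (q : Ideal (R ⧸ I)) [hq : q.IsPrime] (hqn : q = n.map (Ideal.Quotient.mk I)) :
    Nonempty (Localization.AtPrime q ≃+*
      (Localization.AtPrime n ⧸ I.map (algebraMap R (Localization.AtPrime n)))) := by
  subst hqn
  have hsub : Algebra.algebraMapSubmonoid (R ⧸ I) n.primeCompl =
      (n.map (Ideal.Quotient.mk I)).primeCompl := by
    ext x
    constructor
    · rintro ⟨y, hy, rfl⟩
      intro hmem
      exact hy ((Ideal.mem_quotient_iff_mem hIn).1 hmem)
    · intro hx
      obtain ⟨y, rfl⟩ := Ideal.Quotient.mk_surjective x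
      refine ⟨y, ?_, rfl⟩
      intro hy
      exact hx ((Ideal.mem_quotient_iff_mem hIn).2 hy)
  have hloc : IsLocalization (Algebra.algebraMapSubmonoid (R ⧸ I) n.primeCompl)
      (Localization.AtPrime n ⧸ I.map (algebraMap R (Localization.AtPrime n))) := inferInstance
  rw [hsub] at hloc
  exact ⟨(IsLocalization.algEquiv (n.map (Ideal.Quotient.mk I)).primeCompl
    (Localization.AtPrime (n.map (Ideal.Quotient.mk I))) _).toRingEquiv⟩

/-- **Quotient of a Gorenstein ring by a Koszul-regular ideal is Gorenstein.** -/
theorem isGorensteinRing_quotient (hR : LocCoh.IsGorensteinRing R) (I : Ideal R)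
    (hI : LCI.IsKoszulRegularIdeal I) : LocCoh.IsGorensteinRing (R ⧸ I) := by
  have hN : IsNoetherianRing R := hR.toIsNoetherian
  refine { isGorensteinLocalRing_localization := ?_ }
  intro q hq
  set n := q.comap (Ideal.Quotient.mk I) with hn
  have hnp : n.IsPrime := Ideal.comap_isPrime _ _
  have hIn : I ≤ n := by
    intro x hx
    rw [hn, Ideal.mem_comap, Ideal.Quotient.eq_zero_iff_mem.mpr hx]
    exact q.zero_mem
  have hqn : q = n.map (Ideal.Quotient.mk I) :=
    (Ideal.map_comap_of_surjective _ Ideal.Quotient.mk_surjective q).symm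
  obtain ⟨e⟩ := nonempty_localization_quotient_equiv I n hIn q hqn
  have hG := gorenstein_localization_quotient I hI n hIn
    (hR.isGorensteinLocalRing_localization n)
  exact Groth.Agent.Lib.Helper5.GorIso.isGorensteinLocalRing_of_ringEquiv e.symm

end Groth.Agent.Lib.Helper5.GorLCI
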