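import Mathlib
import Groth.Agent.Lib.Helper5.GorLCIA
import Groth.Agent.Lib.Helper5.GorFibreD
import Groth.Agent.Lib.Helper5.GorFibreE

/-!
# Polynomial rings over Gorenstein rings; local complete intersections over Gorenstein rings
-/

set_option autoImplicit false
universe u

open TensorProduct

namespace Groth.Agent.Lib.Helper5.GorLCI

/-- a polynomial ring over a Gorenstein ring is Gorenstein -/
theorem isGorensteinRing_mvPolynomial (A : Type u) [CommRing A] (hA : LocCoh.IsGorensteinRing A)
    (n : ℕ) : LocCoh.IsGorensteinRing (MvPolynomial (Fin n) A) := by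
  have hN : IsNoetherianRing A := hA.toIsNoetherian
  refine { isGorensteinLocalRing_localization := ?_ }
  intro 𝔫 h𝔫
  set p := 𝔫.under A with hp
  have hpp : p.IsPrime := Ideal.IsPrime.under A 𝔫
  have hlo : 𝔫.LiesOver p := ⟨rfl⟩
  have hreg : IsRegularRing (MvPolynomial (Fin n) p.ResidueField) := inferInstance
  have hfib : LocCoh.IsGorensteinRing (p.Fiber (MvPolynomial (Fin n) A)) :=
    Groth.Agent.Lib.Helper5.GorFibre.isGorensteinRing_of_ringEquiv
      (MvPolynomial.algebraTensorAlgEquiv (σ := Fin n) A p.ResidueField).symm.toRingEquiv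
      (Groth.Agent.Lib.Helper5.GorFibre.isGorensteinRing_of_isRegularRing _)
  exact (Groth.Agent.Lib.Helper5.GorFibre.gorenstein_localization_iff A (MvPolynomial (Fin n) A)
    p 𝔫 hfib).mp (hA.isGorensteinLocalRing_localization p)

/-- **A local complete intersection algebra over a Gorenstein ring is Gorenstein.** -/
theorem isGorensteinRing_of_isLCI (A B : Type u) [CommRing A] [CommRing B] [Algebra A B]
    (hA : LocCoh.IsGorensteinRing A) (h : LCI.IsLCI A B) : LocCoh.IsGorensteinRing B := by
  obtain ⟨-, n, f, hf, hI⟩ := h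
  have hP := isGorensteinRing_mvPolynomial A hA n
  have hQ := isGorensteinRing_quotient hP (RingHom.ker f.toRingHom) hI
  exact Groth.Agent.Lib.Helper5.GorFibre.isGorensteinRing_of_ringEquiv
    (RingHom.quotientKerEquivOfSurjective (f := f.toRingHom) hf) hQ

end Groth.Agent.Lib.Helper5.GorLCI
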