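import Mathlib
import Groth.Prelude.Def_CAlg
import Groth.Agent.Lib.Helper5.GorIso

/-!
# Gorenstein rings of sections versus Gorenstein stalks
-/

set_option autoImplicit false
universe u

open AlgebraicGeometry CategoryTheory

namespace Groth.Agent.Lib.Helper5.GorSch

variable {X : Scheme.{u}}

/-- sections over an affine open with Gorenstein stalks form a Gorenstein ring -/
theorem isGorensteinRing_sections {U : X.Opens} (hU : IsAffineOpen U) [IsNoetherianRing Γ(X, U)]
    (h : ∀ x ∈ U, LocCoh.IsGorensteinLocalRing (X.presheaf.stalk x)) :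
    LocCoh.IsGorensteinRing Γ(X, U) := by
  refine { isGorensteinLocalRing_localization := ?_ }
  intro p hp
  let y : PrimeSpectrum Γ(X, U) := ⟨p, hp⟩
  have hy : hU.fromSpec y ∈ U := by
    have : hU.fromSpec y ∈ Set.range hU.fromSpec := ⟨y, rfl⟩
    rw [hU.range_fromSpec] at this
    exact this
  let _ := TopCat.Presheaf.algebra_section_stalk X.presheaf ⟨hU.fromSpec y, hy⟩
  have hloc : IsLocalization.AtPrime (X.presheaf.stalk (hU.fromSpec y)) p :=
    hU.isLocalization_stalk' y hy
  have hG := h _ hy
  exact Groth.Agent.Lib.Helper5.GorIso.isGorensteinLocalRing_of_ringEquiv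
    (IsLocalization.algEquiv p.primeCompl (X.presheaf.stalk (hU.fromSpec y))
      (Localization.AtPrime p)).toRingEquiv

/-- stalks at points of an affine open with Gorenstein ring of sections are Gorenstein -/
theorem isGorensteinLocalRing_stalk {U : X.Opens} (hU : IsAffineOpen U)
    (h : LocCoh.IsGorensteinRing Γ(X, U)) (x : X) (hx : x ∈ U) :
    LocCoh.IsGorensteinLocalRing (X.presheaf.stalk x) := by
  let _ := TopCat.Presheaf.algebra_section_stalk X.presheaf ⟨x, hx⟩
  have hloc : IsLocalization.AtPrime (X.presheaf.stalk x) (hU.primeIdealOf ⟨x, hx⟩).asIdeal :=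
    hU.isLocalization_stalk ⟨x, hx⟩
  have hG := h.isGorensteinLocalRing_localization (hU.primeIdealOf ⟨x, hx⟩).asIdeal
  exact Groth.Agent.Lib.Helper5.GorIso.isGorensteinLocalRing_of_ringEquiv
    (IsLocalization.algEquiv (hU.primeIdealOf ⟨x, hx⟩).asIdeal.primeCompl
      (Localization.AtPrime (hU.primeIdealOf ⟨x, hx⟩).asIdeal) (X.presheaf.stalk x)).toRingEquiv

end Groth.Agent.Lib.Helper5.GorSch
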