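import Mathlib
import Groth.Agent.Lib.Helper5.SmQuotB

set_option autoImplicit false
set_option linter.style.haveILetI false
universe u

namespace Groth.Agent.Lib.Helper5.Hyp

open TensorProduct Module KaehlerDifferential IsLocalRing

variable {R T : Type u} [CommRing R] [CommRing T] [Algebra R T]

/-- the kernel of the quotient map, as used by the Jacobian criterion -/
theorem ker_eq (f : T) : RingHom.ker (algebraMap T (T ⧸ Ideal.span ({f} : Set T))) =
    Ideal.span {f} := Ideal.mk_ker

theorem cotangent_top_eq_span (f : T)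
    (hf : f ∈ RingHom.ker (algebraMap T (T ⧸ Ideal.span ({f} : Set T)))) :
    (⊤ : Submodule T (RingHom.ker (algebraMap T (T ⧸ Ideal.span ({f} : Set T)))).Cotangent) =
      Submodule.span T {Ideal.toCotangent _ ⟨f, hf⟩} := by
  rw [eq_comm, eq_top_iff]
  rintro y -
  obtain ⟨⟨x, hx⟩, rfl⟩ := Ideal.toCotangent_surjective _ y
  have hx' : x ∈ Ideal.span ({f} : Set T) := by rwa [ker_eq] at hx
  obtain ⟨t, rfl⟩ := Ideal.mem_span_singleton'.mp hx'
  have : (⟨t * f, hx⟩ : RingHom.ker (algebraMap T (T ⧸ Ideal.span ({f} : Set T)))) =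
      t • ⟨f, hf⟩ := by
    ext; simp
  rw [this, map_smul]
  exact Submodule.smul_mem _ _ (Submodule.mem_span_singleton_self _)

end Groth.Agent.Lib.Helper5.Hyp

namespace Groth.Agent.Lib.Helper5.Hyp

open TensorProduct Module KaehlerDifferential IsLocalRing

variable {R T : Type u} [CommRing R] [CommRing T] [Algebra R T]

theorem eq_zero_of_formallySmooth_of_tmul_eq_zero [IsLocalRing T] [Algebra.FormallySmooth R T]
    (f : T) (hfm : f ∈ maximalIdeal T)
    (hsm : Algebra.FormallySmooth R (T ⧸ Ideal.span ({f} : Set T)))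
    (h0 : (1 : ResidueField T) ⊗ₜ[T] D R T f = 0) : f = 0 := by
  set C := T ⧸ Ideal.span ({f} : Set T) with hC
  have hsurj : Function.Surjective (algebraMap T C) := Ideal.Quotient.mk_surjective
  set I := RingHom.ker (algebraMap T C) with hI
  obtain ⟨l, hl⟩ := (Algebra.FormallySmooth.iff_split_injection (R := R) hsurj).mp hsm
  have hfI : f ∈ I := by
    rw [hI, ker_eq]; exact Ideal.mem_span_singleton_self f
  have hres : Function.Surjective (algebraMap T (ResidueField T)) := IsLocalRing.residue_surjective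
  have hker : RingHom.ker (algebraMap T (ResidueField T)) = maximalIdeal T :=
    IsLocalRing.ker_residue
  have hD : D R T f ∈ maximalIdeal T • (⊤ : Submodule T Ω[T⁄R]) := by
    have := (Groth.Agent.Lib.Helper5.SmQuot.one_tmul_eq_zero_iff hres (D R T f)).mp h0
    rwa [hker] at this
  -- the class of `f` lies in `m • ⊤`
  have h1 : I.toCotangent ⟨f, hfI⟩ = l ((1 : C) ⊗ₜ[T] D R T f) := by
    have := LinearMap.congr_fun hl (I.toCotangent ⟨f, hfI⟩)
    rw [LinearMap.comp_apply, kerCotangentToTensor_toCotangent, LinearMap.id_apply] at this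
    exact this.symm
  have h2 : (1 : C) ⊗ₜ[T] D R T f ∈ maximalIdeal T • (⊤ : Submodule T (C ⊗[T] Ω[T⁄R])) := by
    have h3 : (TensorProduct.mk T C Ω[T⁄R] 1) (D R T f) ∈
        Submodule.map (TensorProduct.mk T C Ω[T⁄R] 1)
          (maximalIdeal T • (⊤ : Submodule T Ω[T⁄R])) := Submodule.mem_map_of_mem hD
    rw [Submodule.map_smul''] at h3
    exact Submodule.smul_mono le_rfl le_top h3
  have h4 : I.toCotangent ⟨f, hfI⟩ ∈ maximalIdeal T • (⊤ : Submodule T I.Cotangent) := by
    rw [h1]
    have h5 : l ((1 : C) ⊗ₜ[T] D R T f) ∈ Submodule.map l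
        (maximalIdeal T • (⊤ : Submodule T (C ⊗[T] Ω[T⁄R]))) := Submodule.mem_map_of_mem h2
    rw [Submodule.map_smul''] at h5
    exact Submodule.smul_mono le_rfl le_top h5
  have htop : (⊤ : Submodule T I.Cotangent) = ⊥ := by
    refine Submodule.eq_bot_of_le_smul_of_le_jacobson_bot (maximalIdeal T) ⊤ ?_ ?_
      (IsLocalRing.maximalIdeal_le_jacobson ⊥)
    · rw [cotangent_top_eq_span f hfI]
      exact Submodule.fg_span_singleton _
    · conv_lhs => rw [cotangent_top_eq_span f hfI]
      rw [Submodule.span_singleton_le_iff_mem]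
      exact h4
  have h6 : I.toCotangent ⟨f, hfI⟩ = 0 := by
    have : I.toCotangent ⟨f, hfI⟩ ∈ (⊤ : Submodule T I.Cotangent) := Submodule.mem_top
    rw [htop] at this
    exact (Submodule.mem_bot T).mp this
  rw [Ideal.toCotangent_eq_zero] at h6
  have h7 : f ∈ Ideal.span ({f} : Set T) ^ 2 := by
    have : I = Ideal.span ({f} : Set T) := ker_eq f
    rw [← this]; exact h6
  rw [Ideal.span_singleton_pow, Ideal.mem_span_singleton'] at h7
  obtain ⟨t, ht⟩ := h7
  have hu : IsUnit (1 - t * f) := by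
    apply IsLocalRing.isUnit_one_sub_self_of_mem_nonunits
    exact (maximalIdeal T).mul_mem_left t hfm
  have h8 : f * (1 - t * f) = 0 := by
    rw [mul_sub, mul_one]
    have : f * (t * f) = t * f ^ 2 := by ring
    rw [this, ht, sub_self]
  exact (hu.mul_left_eq_zero).mp h8

end Groth.Agent.Lib.Helper5.Hyp

namespace Groth.Agent.Lib.Helper5.Hyp

open TensorProduct Module KaehlerDifferential IsLocalRing

variable {R T : Type u} [CommRing R] [CommRing T] [Algebra R T]

theorem exists_functional [IsLocalRing T] [Algebra.FormallySmooth R T] [Module.Finite T Ω[T⁄R]]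
    (f : T) (h : (1 : ResidueField T) ⊗ₜ[T] D R T f ≠ 0) :
    ∃ φ : Ω[T⁄R] →ₗ[T] T, φ (D R T f) = 1 := by
  have hproj : Module.Projective T Ω[T⁄R] := inferInstance
  have hfree : Module.Free T Ω[T⁄R] := Module.free_of_flat_of_isLocalRing
  let b := Module.Free.chooseBasis T Ω[T⁄R]
  have hfin : Finite (Module.Free.ChooseBasisIndex T Ω[T⁄R]) := inferInstance
  have hres : Function.Surjective (algebraMap T (ResidueField T)) := IsLocalRing.residue_surjective
  have hker : RingHom.ker (algebraMap T (ResidueField T)) = maximalIdeal T :=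
    IsLocalRing.ker_residue
  by_contra hno
  apply h
  rw [Groth.Agent.Lib.Helper5.SmQuot.one_tmul_eq_zero_iff hres, hker]
  have hcoef : ∀ i, b.repr (D R T f) i ∈ maximalIdeal T := by
    intro i
    by_contra hi
    have hu : IsUnit (b.repr (D R T f) i) := by
      by_contra hnu
      exact hi ((IsLocalRing.mem_maximalIdeal _).mpr hnu)
    apply hno
    obtain ⟨u, hu'⟩ := hu
    refine ⟨(↑u⁻¹ : T) • b.coord i, ?_⟩
    rw [LinearMap.smul_apply, Module.Basis.coord_apply, ← hu', smul_eq_mul, Units.inv_mul]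
  have hsum := b.linearCombination_repr (D R T f)
  rw [← hsum, Finsupp.linearCombination_apply]
  refine Submodule.sum_mem _ fun i _ => ?_
  exact Submodule.smul_mem_smul (hcoef i) Submodule.mem_top

theorem formallySmooth_quotient_of_tmul_ne_zero [IsLocalRing T] [Algebra.FormallySmooth R T]
    [Module.Finite T Ω[T⁄R]] (f : T) (h : (1 : ResidueField T) ⊗ₜ[T] D R T f ≠ 0) :
    Algebra.FormallySmooth R (T ⧸ Ideal.span ({f} : Set T)) := by
  obtain ⟨φ, hφ⟩ := exists_functional (R := R) f h
  set C := T ⧸ Ideal.span ({f} : Set T) with hC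
  have hsurj : Function.Surjective (algebraMap T C) := Ideal.Quotient.mk_surjective
  set I := RingHom.ker (algebraMap T C) with hI
  have hfI : f ∈ I := by
    rw [hI, ker_eq]; exact Ideal.mem_span_singleton_self f
  rw [Algebra.FormallySmooth.iff_split_injection (R := R) hsurj]
  -- `ψ : C → I/I²`, `c ↦ c • [f]`
  let ψ₀ : T →ₗ[T] I.Cotangent := LinearMap.toSpanSingleton T _ (I.toCotangent ⟨f, hfI⟩)
  have hψ₀ : Ideal.span ({f} : Set T) ≤ LinearMap.ker ψ₀ := by
    rw [Ideal.span_le]
    rintro y (rfl : y = f)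
    change ψ₀ y = 0
    rw [LinearMap.toSpanSingleton_apply, ← map_smul, Ideal.toCotangent_eq_zero]
    change y * y ∈ I ^ 2
    rw [pow_two]
    exact Ideal.mul_mem_mul hfI hfI
  let ψ : C →ₗ[T] I.Cotangent := Submodule.liftQ _ ψ₀ hψ₀
  let l : C ⊗[T] Ω[T⁄R] →ₗ[T] I.Cotangent :=
    ψ ∘ₗ (TensorProduct.rid T C).toLinearMap ∘ₗ LinearMap.lTensor C φ
  refine ⟨l, ?_⟩
  apply LinearMap.ext
  intro y
  obtain ⟨⟨x, hx⟩, rfl⟩ := Ideal.toCotangent_surjective _ y
  have hx' : x ∈ Ideal.span ({f} : Set T) := by rwa [ker_eq] at hx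
  obtain ⟨t, rfl⟩ := Ideal.mem_span_singleton'.mp hx'
  rw [LinearMap.comp_apply, kerCotangentToTensor_toCotangent, LinearMap.id_apply]
  change ψ ((TensorProduct.rid T C) (LinearMap.lTensor C φ ((1 : C) ⊗ₜ[T] D R T (t * f)))) = _
  rw [LinearMap.lTensor_tmul, TensorProduct.rid_tmul]
  have h0 : φ (D R T (t * f)) = t + f * φ (D R T t) := by
    rw [Derivation.leibniz, map_add, map_smul, map_smul, hφ, smul_eq_mul, mul_one, smul_eq_mul]
  have h1 : φ (D R T (t * f)) • (1 : C) = Ideal.Quotient.mk _ t := by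
    rw [h0, Algebra.smul_def, mul_one]
    change Ideal.Quotient.mk _ _ = _
    rw [map_add, map_mul]
    have : Ideal.Quotient.mk (Ideal.span ({f} : Set T)) f = 0 :=
      Ideal.Quotient.eq_zero_iff_mem.mpr (Ideal.mem_span_singleton_self f)
    rw [this, zero_mul, add_zero]
  rw [h1]
  change ψ₀ t = _
  rw [LinearMap.toSpanSingleton_apply, ← map_smul]
  congr 1

end Groth.Agent.Lib.Helper5.Hyp
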