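import Mathlib
import Groth.Agent.Lib.Helper5.HypA
import Groth.Agent.Lib.Helper5.SmQuotH
import Groth.Agent.Lib.Helper5.KSynC

set_option autoImplicit false
set_option linter.style.haveILetI false
universe u

namespace Groth.Agent.Lib.Helper5.Hyp

open TensorProduct Module KaehlerDifferential IsLocalRing

variable {R T : Type u} [CommRing R] [CommRing T] [Algebra R T]

theorem formallySmooth_quotient_iff [IsLocalRing T] [Algebra.FormallySmooth R T]
    [Module.Finite T Ω[T⁄R]] (f : T) (hfm : f ∈ maximalIdeal T) :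
    Algebra.FormallySmooth R (T ⧸ Ideal.span ({f} : Set T)) ↔
      f = 0 ∨ (1 : ResidueField T) ⊗ₜ[T] D R T f ≠ 0 := by
  constructor
  · intro hsm
    by_cases h0 : (1 : ResidueField T) ⊗ₜ[T] D R T f = 0
    · exact Or.inl (eq_zero_of_formallySmooth_of_tmul_eq_zero (R := R) f hfm hsm h0)
    · exact Or.inr h0
  · rintro (rfl | h)
    · have hbot : Ideal.span ({(0 : T)} : Set T) = ⊥ := by simp
      let e : (T ⧸ Ideal.span ({(0 : T)} : Set T)) ≃ₐ[R] T :=
        (Ideal.quotientEquivAlgOfEq R hbot).trans (AlgEquiv.quotientBot R T)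
      exact Algebra.FormallySmooth.of_equiv e.symm
    · exact formallySmooth_quotient_of_tmul_ne_zero (R := R) f h

/-- transfer of the differential condition to the local ring -/
theorem tmul_D_eq_zero_iff {A : Type u} [CommRing A] [Algebra R A] (q : Ideal A) [q.IsPrime]
    (F : A) :
    (1 : q.ResidueField) ⊗ₜ[A] D R A F = 0 ↔
      (1 : q.ResidueField) ⊗ₜ[Localization.AtPrime q]
        D R (Localization.AtPrime q) (algebraMap A (Localization.AtPrime q) F) = 0 := by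
  let Tq := Localization.AtPrime q
  let κ := q.ResidueField
  have : Algebra.FormallyEtale A Tq := Algebra.FormallyEtale.of_isLocalization q.primeCompl
  let e2 : Tq ⊗[A] Ω[A⁄R] ≃ₗ[Tq] Ω[Tq⁄R] :=
    KaehlerDifferential.tensorKaehlerEquivOfFormallyEtale R A Tq
  let e1 : κ ⊗[Tq] (Tq ⊗[A] Ω[A⁄R]) ≃ₗ[κ] κ ⊗[A] Ω[A⁄R] :=
    AlgebraTensorModule.cancelBaseChange A Tq κ κ Ω[A⁄R]
  let e3 : κ ⊗[Tq] (Tq ⊗[A] Ω[A⁄R]) ≃ₗ[Tq] κ ⊗[Tq] Ω[Tq⁄R] :=
    TensorProduct.congr (LinearEquiv.refl Tq κ) e2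
  have h2 : e2 ((1 : Tq) ⊗ₜ[A] D R A F) = D R Tq (algebraMap A Tq F) := by
    rw [← LinearEquiv.eq_symm_apply,
      KaehlerDifferential.tensorKaehlerEquivOfFormallyEtale_symm_D_algebraMap]
  have h3 : e3 ((1 : κ) ⊗ₜ[Tq] ((1 : Tq) ⊗ₜ[A] D R A F)) =
      (1 : κ) ⊗ₜ[Tq] D R Tq (algebraMap A Tq F) := by
    rw [TensorProduct.congr_tmul, h2, LinearEquiv.refl_apply]
  have h1 : e1 ((1 : κ) ⊗ₜ[Tq] ((1 : Tq) ⊗ₜ[A] D R A F)) = (1 : κ) ⊗ₜ[A] D R A F := by
    rw [AlgebraTensorModule.cancelBaseChange_tmul, one_smul]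
  rw [← h1, ← h3, LinearEquiv.map_eq_zero_iff, LinearEquiv.map_eq_zero_iff]

end Groth.Agent.Lib.Helper5.Hyp
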