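import Groth.Agent.Lib.Helper5.PBasisInter
import Mathlib.RingTheory.Flat.Basic

set_option autoImplicit false
set_option linter.unusedSectionVars false
universe u

namespace Groth.Agent.Lib.Helper5.Imperf218

open EGA41 PBasis LinIndepInter
open scoped TensorProduct

section Key

variable (p : ℕ) [hpF : Fact p.Prime] {k₀ K : Type u} [Field k₀] [Field K] [Algebra k₀ K]
  [CharP K p]

/-- a finite `p`-independent family stays `p`-independent over some member of a filtered family of
subfields with the right intersection -/
theorem exists_isPIndependent_of_iInf_eq {ι : Type u} [Preorder ι] [IsDirected ι (· ≤ ·)]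
    [Nonempty ι] (k : ι → IntermediateField k₀ K) (hk : Antitone k)
    (heq : (⨅ i, k i ⊔ IntermediateField.adjoin k₀ (Set.range fun y : K => y ^ p)) =
      IntermediateField.adjoin k₀ (Set.range fun y : K => y ^ p))
    {T : Type u} [Finite T] (x : T → K) (hxfree : IsPIndependent p k₀ x) :
    ∃ i, IsPIndependent p (k i) x := by
  classical
  haveI : Finite (Red T p) := finite_red p _
  letI : Fintype (Red T p) := Fintype.ofFinite _
  let F : ι → Subfield K := fun i =>
    (k i ⊔ IntermediateField.adjoin k₀ (Set.range fun y : K => y ^ p)).toSubfield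
  have hFanti : Antitone F := by
    intro i j hij y hy
    exact (sup_le_sup_right (hk hij) _ :
      k j ⊔ IntermediateField.adjoin k₀ (Set.range fun y : K => y ^ p) ≤ k i ⊔ _) hy
  have h0 : LIOn ((IntermediateField.adjoin k₀ (Set.range fun y : K => y ^ p)).toSubfield : Set K)
      (fun e : Red T p => mon x e.1) Finset.univ :=
    LIOn_univ_of_linearIndependent _ hxfree _
      (fun y hy => ⟨⟨y, (mem_pPower_iff_mem_adjoin p).2 hy⟩, rfl⟩)
  obtain ⟨i, hi⟩ := exists_LIOn F hFanti
    (IntermediateField.adjoin k₀ (Set.range fun y : K => y ^ p)).toSubfield (fun y hy => by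
      have hmem : y ∈ ⨅ i, k i ⊔ IntermediateField.adjoin k₀ (Set.range fun y : K => y ^ p) := by
        rw [← SetLike.mem_coe, IntermediateField.coe_iInf]
        exact Set.mem_iInter.2 hy
      rw [heq] at hmem
      exact hmem) _ Finset.univ h0
  exact ⟨i, linearIndependent_of_LIOn_univ _ _ (fun r => (mem_pPower_iff_mem_sup p (k i)).1 r.2)
      Subtype.val_injective hi⟩

end Key

end Groth.Agent.Lib.Helper5.Imperf218
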