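import Groth.Agent.Lib.Helper5.Imperf218
import Groth.Agent.Lib.Helper5.ImperfTower

set_option autoImplicit false
set_option linter.unusedSectionVars false
universe u

namespace Groth.Agent.Lib.Helper5.Imperf218

open EGA41 PBasis
open scoped TensorProduct

section Span

variable {k₀ K L : Type u} [Field k₀] [Field K] [Field L] [Algebra k₀ K] [Algebra K L]

/-- the elements `1 ⊗ dy` span `L ⊗ Ω_{K/k₀}` -/
lemma span_one_tmul_D :
    Submodule.span L (Set.range fun y : K => (1 : L) ⊗ₜ[K] KaehlerDifferential.D k₀ K y) = ⊤ := by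
  set W := Submodule.span L (Set.range fun y : K => (1 : L) ⊗ₜ[K] KaehlerDifferential.D k₀ K y)
  have h : W.mkQ = 0 := by
    apply ImperfTower.ext_tensor_kaehler
    intro b
    rw [LinearMap.zero_apply, Submodule.mkQ_apply, Submodule.Quotient.mk_eq_zero]
    exact Submodule.subset_span ⟨b, rfl⟩
  rw [← Submodule.ker_mkQ W, h, LinearMap.ker_zero]

lemma exists_finsupp_eq (w : L ⊗[K] Ω[K⁄k₀]) :
    ∃ c : K →₀ L, (c.sum fun y l => l • ((1 : L) ⊗ₜ[K] KaehlerDifferential.D k₀ K y)) = w := by
  apply Finsupp.mem_span_range_iff_exists_finsupp.1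
  rw [span_one_tmul_D]; trivial

/-- a finitely generated submodule of `L ⊗ Ω_{K/k₀}` lies in the span of finitely many `1 ⊗ dy` -/
lemma exists_finset_le_span (V : Submodule L (L ⊗[K] Ω[K⁄k₀])) (hV : V.FG) :
    ∃ Y : Finset K, V ≤ Submodule.span L
      ((fun y : K => (1 : L) ⊗ₜ[K] KaehlerDifferential.D k₀ K y) '' (Y : Set K)) := by
  classical
  obtain ⟨W, hW⟩ := hV
  choose c hc using exists_finsupp_eq (k₀ := k₀) (K := K) (L := L)
  refine ⟨W.biUnion (fun w => (c w).support), ?_⟩
  rw [← hW, Submodule.span_le]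
  intro w hw
  rw [SetLike.mem_coe, ← hc w, Finsupp.sum]
  refine Submodule.sum_mem _ (fun y hy => Submodule.smul_mem _ _ (Submodule.subset_span ?_))
  refine ⟨y, ?_, rfl⟩
  rw [Finset.coe_biUnion]
  exact Set.mem_iUnion₂.2 ⟨w, hw, hy⟩

/-- a finitely generated submodule of `L ⊗ Ω_{K/k₀}` lies in the span of the `1 ⊗ dx` for a finite
family with independent differentials -/
theorem exists_family_le_span (V : Submodule L (L ⊗[K] Ω[K⁄k₀])) (hV : V.FG) :
    ∃ (T : Type u) (_ : Finite T) (x : T → K),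
      LinearIndependent K (fun t => KaehlerDifferential.D k₀ K (x t)) ∧
      V ≤ Submodule.span L
        (Set.range fun t => (1 : L) ⊗ₜ[K] KaehlerDifferential.D k₀ K (x t)) := by
  obtain ⟨Y, hY⟩ := exists_finset_le_span V hV
  obtain ⟨B, hBY, -, hspan, hli⟩ := exists_linearIndepOn_extension (K := K)
    (v := fun y : K => KaehlerDifferential.D k₀ K y) (s := ∅) (t := (Y : Set K))
    (linearIndepOn_empty _ _) (Set.empty_subset _)
  have hfin : Finite B := (Y.finite_toSet.subset hBY).to_subtype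
  refine ⟨B, hfin, Subtype.val, hli, hY.trans ?_⟩
  rw [Submodule.span_le]
  rintro _ ⟨y, hy, rfl⟩
  have h1 : KaehlerDifferential.D k₀ K y ∈
      Submodule.span K ((fun y : K => KaehlerDifferential.D k₀ K y) '' B) := hspan ⟨y, hy, rfl⟩
  have h2 : (TensorProduct.mk K L (Ω[K⁄k₀]) 1) (KaehlerDifferential.D k₀ K y) ∈
      (Submodule.span K ((fun y : K => KaehlerDifferential.D k₀ K y) '' B)).map
        (TensorProduct.mk K L (Ω[K⁄k₀]) 1) := Submodule.mem_map_of_mem h1
  rw [Submodule.map_span] at h2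
  have h3 : (TensorProduct.mk K L (Ω[K⁄k₀]) 1) ''
      ((fun y : K => KaehlerDifferential.D k₀ K y) '' B) ⊆
      Set.range fun t : B => (1 : L) ⊗ₜ[K] KaehlerDifferential.D k₀ K (t : K) := by
    rintro _ ⟨_, ⟨b, hb, rfl⟩, rfl⟩
    exact ⟨⟨b, hb⟩, rfl⟩
  exact Submodule.span_le_restrictScalars K L _ (Submodule.span_mono h3 h2)

end Span

section Inj

variable {k₀ K L : Type u} [Field k₀] [Field K] [Field L] [Algebra k₀ K] [Algebra K L]

/-- on the span of the `1 ⊗ dx`, for a family whose differentials over `k` are independent, the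
passage from `k₀` to `k` is injective -/
theorem eq_zero_of_map_eq_zero (k : IntermediateField k₀ K) {T : Type*} (x : T → K)
    (hli : LinearIndependent K (fun t => KaehlerDifferential.D k K (x t)))
    (ω : L ⊗[K] Ω[K⁄k₀])
    (hω : ω ∈ Submodule.span L
      (Set.range fun t => (1 : L) ⊗ₜ[K] KaehlerDifferential.D k₀ K (x t)))
    (h0 : ((KaehlerDifferential.map k₀ k K K).restrictScalars K).baseChange L ω = 0) :
    ω = 0 := by
  obtain ⟨c, rfl⟩ := Finsupp.mem_span_range_iff_exists_finsupp.1 hω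
  have hLI : LinearIndependent L (fun t => (1 : L) ⊗ₜ[K] KaehlerDifferential.D k K (x t)) :=
    Module.Flat.linearIndependent_one_tmul hli
  have h1 : Finsupp.linearCombination L
      (fun t => (1 : L) ⊗ₜ[K] KaehlerDifferential.D k K (x t)) c = 0 := by
    rw [Finsupp.linearCombination_apply, ← h0, map_finsuppSum]
    refine Finsupp.sum_congr (fun t _ => ?_)
    rw [map_smul, LinearMap.baseChange_tmul]
    congr 2
    change _ = KaehlerDifferential.map k₀ k K K (KaehlerDifferential.D k₀ K (x t))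
    rw [KaehlerDifferential.map_D]
    rfl
  have hc0 : c = 0 := (linearIndependent_iff.1 hLI) c h1
  rw [hc0, Finsupp.sum_zero_index]

end Inj

end Groth.Agent.Lib.Helper5.Imperf218
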