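import Groth.Agent.Lib.Helper5.PBasisField

set_option autoImplicit false
set_option linter.unusedSectionVars false
universe u

namespace Groth.Agent.Lib.Helper5.PBasis

open EGA41

section FieldCase2

variable (p : ℕ) [hpF : Fact p.Prime] {k K : Type u} [Field k] [Field K] [Algebra k K] [CharP K p]
  {ι : Type u} (x : ι → K)

/-- dual derivations force linear independence of the differentials -/
theorem linearIndependent_D_of_dual
    (hD : ∀ i, ∃ D : Derivation k K K, D (x i) = 1 ∧ ∀ j, j ≠ i → D (x j) = 0) :
    LinearIndependent K (fun i => KaehlerDifferential.D k K (x i)) := by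
  classical
  choose D hD1 hD0 using hD
  rw [linearIndependent_iff']
  intro s g hg i hi
  have := congrArg (D i).liftKaehlerDifferential hg
  rw [map_sum, map_zero] at this
  simp only [map_smul, Derivation.liftKaehlerDifferential_comp_D] at this
  rw [Finset.sum_eq_single i] at this
  · rwa [hD1, smul_eq_mul, mul_one] at this
  · intro j _ hj
    rw [hD0 i j hj, smul_zero]
  · intro h; exact absurd hi h

theorem isPIndependent_iff_forall_notMem_adjoin :
    IsPIndependent p k x ↔
      ∀ a : ι, x a ∉ IntermediateField.adjoin k
        ((Set.range fun y : K => y ^ p) ∪ x '' {b | b ≠ a}) := by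
  constructor
  · intro hx a hmem
    apply notMem_adjoin_of_isPIndependent p x hx a
    set T := Algebra.adjoin (pPowerSubalgebra p k K) (Set.range fun j : {j : ι // j ≠ a} => x j)
      with hT
    have hS : ∀ y : K, y ^ p ∈ T.restrictScalars k := fun y =>
      Subalgebra.algebraMap_mem T (⟨y ^ p, Algebra.subset_adjoin ⟨y, rfl⟩⟩ : pPowerSubalgebra p k K)
    let E : IntermediateField k K := (T.restrictScalars k).toIntermediateField
      (fun _ hu => inv_mem_of_pow_mem p _ hS hu)
    have hle : IntermediateField.adjoin k
        ((Set.range fun y : K => y ^ p) ∪ x '' {b | b ≠ a}) ≤ E := by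
      rw [IntermediateField.adjoin_le_iff]
      rintro z (⟨y, rfl⟩ | ⟨b, hb, rfl⟩)
      · exact hS y
      · exact Algebra.subset_adjoin ⟨⟨b, hb⟩, rfl⟩
    exact hle hmem
  · intro h
    apply isPIndependent_of_linearIndependent_D p x
    apply linearIndependent_D_of_dual x
    intro a
    set E := IntermediateField.adjoin k ((Set.range fun y : K => y ^ p) ∪ x '' {b | b ≠ a})
      with hE
    have hS : ∀ y : K, y ^ p ∈ E.toSubalgebra := fun y =>
      IntermediateField.subset_adjoin k _ (Or.inl ⟨y, rfl⟩)
    obtain ⟨D, hD1, hD0⟩ := exists_derivation_separating p E.toSubalgebra hS (x a) (h a)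
    exact ⟨D, hD1, fun j hj => hD0 _ (IntermediateField.subset_adjoin k _ (Or.inr ⟨j, hj, rfl⟩))⟩

end FieldCase2

end Groth.Agent.Lib.Helper5.PBasis
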