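import Groth.Agent.Lib.Helper5.Imperf218C
import Groth.Agent.Lib.Helper5.PBasisField2
import Groth.Agent.Lib.Helper5.PBasisKaehler

set_option autoImplicit false
set_option linter.unusedSectionVars false
universe u

namespace Groth.Agent.Lib.Helper5.Imperf218

open EGA41 PBasis
open scoped TensorProduct

section Sub

variable (p : ℕ) [hpF : Fact p.Prime] {k₀ K : Type u} [Field k₀] [Field K] [Algebra k₀ K]
  [CharP K p]

/-- the kernel of a derivation, as a subalgebra -/
def kerSub (D : Derivation k₀ K K) : Subalgebra k₀ K where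
  carrier := {y | D y = 0}
  mul_mem' := by
    intro a b ha hb
    have ha' : D a = 0 := ha
    have hb' : D b = 0 := hb
    change D (a * b) = 0
    rw [Derivation.leibniz, ha', hb', smul_zero, smul_zero, add_zero]
  one_mem' := D.map_one_eq_zero
  add_mem' := by
    intro a b ha hb
    have ha' : D a = 0 := ha
    have hb' : D b = 0 := hb
    change D (a + b) = 0
    rw [map_add, ha', hb', add_zero]
  zero_mem' := map_zero D
  algebraMap_mem' := fun r => D.map_algebraMap r

lemma mem_kerSub (D : Derivation k₀ K K) (y : K) : y ∈ kerSub D ↔ D y = 0 := Iff.rfl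

lemma pow_mem_kerSub (D : Derivation k₀ K K) (y : K) : y ^ p ∈ kerSub D := by
  rw [mem_kerSub, Derivation.leibniz_pow, ← Nat.cast_smul_eq_nsmul K, CharP.cast_eq_zero K p,
    zero_smul]

/-- a derivation vanishes on the field generated by the `p`-th powers and a set it kills -/
lemma derivation_eq_zero_of_mem_adjoin (D : Derivation k₀ K K) (Z : Set K)
    (hZ : ∀ z ∈ Z, D z = 0) {c : K}
    (hc : c ∈ IntermediateField.adjoin k₀ ((Set.range fun y : K => y ^ p) ∪ Z)) : D c = 0 := by
  let E : IntermediateField k₀ K := (kerSub D).toIntermediateField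
    (fun _ hu => inv_mem_of_pow_mem p _ (pow_mem_kerSub p D) hu)
  have hle : IntermediateField.adjoin k₀ ((Set.range fun y : K => y ^ p) ∪ Z) ≤ E := by
    rw [IntermediateField.adjoin_le_iff]
    rintro _ (⟨y, rfl⟩ | hz)
    · exact pow_mem_kerSub p D y
    · exact hZ _ hz
  exact hle hc

variable {T : Type u} [Finite T] (x : T → K)

theorem exists_subfield_finite_linearIndependent
    (hli : LinearIndependent K (fun t => KaehlerDifferential.D k₀ K (x t))) :
    ∃ k : IntermediateField k₀ K, (∀ y : K, y ^ p ∈ k) ∧ Module.Finite k K ∧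
      LinearIndependent K (fun t => KaehlerDifferential.D k K (x t)) := by
  classical
  set v : K → Ω[K⁄k₀] := fun y => KaehlerDifferential.D k₀ K y with hv
  have hxinj : Function.Injective x := by
    intro a b hab
    apply hli.injective
    change KaehlerDifferential.D k₀ K (x a) = KaehlerDifferential.D k₀ K (x b)
    rw [hab]
  have hs : LinearIndepOn K v (Set.range x) := (linearIndepOn_range_iff hxinj v).2 hli
  obtain ⟨b, -, hxb, hspan, hlib⟩ := exists_linearIndepOn_extension hs (Set.subset_univ _)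
  set Z : Set K := b \ Set.range x with hZdef
  set k := IntermediateField.adjoin k₀ ((Set.range fun y : K => y ^ p) ∪ Z) with hk
  have hpowk : ∀ y : K, y ^ p ∈ k := fun y =>
    IntermediateField.subset_adjoin k₀ _ (Or.inl ⟨y, rfl⟩)
  have hZk : ∀ z ∈ Z, z ∈ k := fun z hz => IntermediateField.subset_adjoin k₀ _ (Or.inr hz)
  -- dual derivations
  have hdual : ∀ t₀ : T, ∃ D : Derivation k K K, D (x t₀) = 1 ∧ ∀ t, t ≠ t₀ → D (x t) = 0 := by
    intro t₀
    obtain ⟨φ, hφ⟩ := exists_dual (K := K) (v := fun b' : b => v b') hlib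
      ⟨x t₀, hxb ⟨t₀, rfl⟩⟩
    let D₀ : Derivation k₀ K K := φ.compDer (KaehlerDifferential.D k₀ K)
    have hD₀ : ∀ b' : b, D₀ b' = if b' = ⟨x t₀, hxb ⟨t₀, rfl⟩⟩ then 1 else 0 := fun b' => hφ b'
    have hD₀Z : ∀ z ∈ Z, D₀ z = 0 := by
      intro z hz
      have := hD₀ ⟨z, hz.1⟩
      rw [if_neg] at this
      · exact this
      · intro heq
        apply hz.2
        exact ⟨t₀, (congrArg Subtype.val heq).symm⟩
    have hD₀k : ∀ c : k, D₀ (algebraMap k K c) = 0 := fun c =>
      derivation_eq_zero_of_mem_adjoin p D₀ Z hD₀Z c.2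
    refine ⟨toAlgDer (toIntDer D₀) hD₀k, ?_, ?_⟩
    · change D₀ (x t₀) = 1
      have := hD₀ ⟨x t₀, hxb ⟨t₀, rfl⟩⟩
      rw [if_pos rfl] at this
      exact this
    · intro t ht
      change D₀ (x t) = 0
      have := hD₀ ⟨x t, hxb ⟨t, rfl⟩⟩
      rw [if_neg] at this
      · exact this
      · intro heq
        exact ht (hxinj (congrArg Subtype.val heq))
  have hli_k := linearIndependent_D_of_dual x hdual
  refine ⟨k, hpowk, ?_, hli_k⟩
  -- finiteness
  have hspanK : Submodule.span K (Set.range fun t => KaehlerDifferential.D k K (x t)) = ⊤ := by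
    rw [eq_top_iff, ← KaehlerDifferential.span_range_derivation k K, Submodule.span_le]
    rintro _ ⟨y, rfl⟩
    have h1 : v y ∈ Submodule.span K (v '' b) := hspan ⟨y, Set.mem_univ y, rfl⟩
    have h2 : KaehlerDifferential.map k₀ k K K (v y) ∈
        (Submodule.span K (v '' b)).map (KaehlerDifferential.map k₀ k K K) :=
      Submodule.mem_map_of_mem h1
    rw [Submodule.map_span] at h2
    have h3 : KaehlerDifferential.map k₀ k K K (v y) = KaehlerDifferential.D k K y := by
      rw [hv, KaehlerDifferential.map_D]; rfl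
    rw [h3] at h2
    refine (Submodule.span_le.2 ?_) h2
    rintro _ ⟨_, ⟨b', hb', rfl⟩, rfl⟩
    have h4 : KaehlerDifferential.map k₀ k K K (v b') = KaehlerDifferential.D k K b' := by
      rw [hv, KaehlerDifferential.map_D]; rfl
    rw [h4]
    by_cases hbx : b' ∈ Set.range x
    · obtain ⟨t, rfl⟩ := hbx
      exact Submodule.subset_span ⟨t, rfl⟩
    · have hbk : b' ∈ k := hZk b' ⟨hb', hbx⟩
      have : KaehlerDifferential.D k K b' = 0 :=
        (KaehlerDifferential.D k K).map_algebraMap (⟨b', hbk⟩ : k)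
      rw [SetLike.mem_coe, this]
      exact Submodule.zero_mem _
  have hgen : IsPGenerating p k x := isPGenerating_of_span_D_field p x hspanK
  have hpow : ∀ b : K, b ^ p ∈ Set.range (algebraMap k K) := fun b => ⟨⟨b ^ p, hpowk b⟩, rfl⟩
  have hsp := span_base p hpow x hgen
  haveI : Finite (Red T p) := finite_red p T
  refine Module.finite_def.2 ?_
  rw [← hsp]
  exact Submodule.fg_span (Set.finite_range _)

end Sub

section Main

variable (p : ℕ) [hpF : Fact p.Prime] {k₀ K L : Type u} [Field k₀] [Field K] [Field L]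
  [Algebra k₀ K] [Algebra K L] [Algebra k₀ L] [IsScalarTower k₀ K L] [CharP K p]

theorem exists_admissible_finite [hfin : Module.Finite L (imperfection k₀ K L)] :
    ∃ k : IntermediateField k₀ K, (∀ y : K, y ^ p ∈ k) ∧ Module.Finite k K ∧
      ∀ ω ∈ imperfection k₀ K L,
        ((KaehlerDifferential.map k₀ k K K).restrictScalars K).baseChange L ω = 0 → ω = 0 := by
  have hV : (imperfection k₀ K L).FG := Module.Finite.iff_fg.1 hfin
  obtain ⟨T, _, x, hli, hle⟩ := exists_family_le_span (imperfection k₀ K L) hV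
  obtain ⟨k, h1, h2, h3⟩ := exists_subfield_finite_linearIndependent p x hli
  exact ⟨k, h1, h2, fun ω hω h0 => eq_zero_of_map_eq_zero k x h3 ω (hle hω) h0⟩

end Main

end Groth.Agent.Lib.Helper5.Imperf218
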