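import Groth.Agent.Lib.Helper5.PBasisTower2
import Mathlib.Algebra.CharP.Frobenius
import Mathlib.Algebra.CharP.Algebra
import Mathlib.RingTheory.Nilpotent.Defs

set_option autoImplicit false
set_option linter.unusedSectionVars false
universe u

namespace Groth.Agent.Lib.Helper5.ImperfPBasis

open EGA41 PBasis

section Pow

variable {ι M : Type*} [CommMonoid M]

lemma mon_pow (x : ι → M) (e : ι →₀ ℕ) (n : ℕ) : mon (fun i => x i ^ n) e = mon x e ^ n := by
  unfold mon Finsupp.prod
  rw [← Finset.prod_pow]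
  refine Finset.prod_congr rfl (fun i _ => ?_)
  change (x i ^ n) ^ e i = (x i ^ e i) ^ n
  rw [← pow_mul, ← pow_mul, mul_comm]

end Pow

section Setup

variable (p : ℕ) [Fact p.Prime] {R A B : Type u} [CommRing R] [CommRing A] [CommRing B]
  [IsReduced B] [Algebra R A] [Algebra A B] [Algebra R B] [IsScalarTower R A B] [CharP B p]
  [CharP A p]
  (hinj : Function.Injective (algebraMap A B))
  (hpow : ∀ b : B, b ^ p ∈ Set.range (algebraMap A B))
  (hR : Set.range (algebraMap R B) = Set.range fun b : B => b ^ p)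

lemma frob_injective {b c : B} (h : b ^ p = c ^ p) : b = c := by
  have h1 : (b - c) ^ p = 0 := by rw [sub_pow_char, h, sub_self]
  have : IsNilpotent (b - c) := ⟨p, h1⟩
  exact sub_eq_zero.1 this.eq_zero

include hR in
lemma hpowR (b : B) : b ^ p ∈ Set.range (algebraMap R B) := by
  rw [hR]; exact ⟨b, rfl⟩

include hinj hR in
lemma hpowRA (a : A) : a ^ p ∈ Set.range (algebraMap R A) :=
  hpow_mid p hinj (hpowR p hR) a

include hinj hR in
/-- an element of `A` lies in `R[A^p]` exactly when its image is a `p`-th power -/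
lemma mem_mid_iff (a : A) :
    a ∈ pPowerSubalgebra p R A ↔ ∃ b : B, b ^ p = algebraMap A B a := by
  constructor
  · intro ha
    obtain ⟨ρ, hρ⟩ := exists_algebraMap_eq_of_mem p (hpowRA p hinj hR) a ha
    have h1 : algebraMap R B ρ ∈ Set.range fun b : B => b ^ p := by
      rw [← hR]; exact ⟨ρ, rfl⟩
    obtain ⟨b, hb⟩ := h1
    refine ⟨b, ?_⟩
    rw [← hρ, ← IsScalarTower.algebraMap_apply]
    exact hb
  · rintro ⟨b, hb⟩
    obtain ⟨ρ, hρ⟩ := hpowR p hR b
    have : algebraMap R A ρ = a := by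
      apply hinj
      rw [← IsScalarTower.algebraMap_apply, hρ, hb]
    rw [← this]
    exact Subalgebra.algebraMap_mem _ ρ

variable (A) in
/-- the subring of `p`-th powers -/
abbrev K₀ : Subring A := (frobenius A p).range

lemma mem_K₀ {r : A} : r ∈ K₀ p A ↔ ∃ a : A, a ^ p = r := by
  rw [RingHom.mem_range]
  rfl

lemma K₀_le_mid {r : A} (hr : r ∈ K₀ p A) : r ∈ pPowerSubalgebra p R A := by
  obtain ⟨a, rfl⟩ := (mem_K₀ p).1 hr
  exact Algebra.subset_adjoin ⟨a, rfl⟩

/-- the inclusion `A^p → R[A^p]` -/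
def incl : K₀ p A →+* pPowerSubalgebra p R A where
  toFun r := ⟨r.1, K₀_le_mid p r.2⟩
  map_one' := rfl
  map_mul' _ _ := rfl
  map_zero' := rfl
  map_add' _ _ := rfl

end Setup

end Groth.Agent.Lib.Helper5.ImperfPBasis
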