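import Groth.Agent.Lib.Helper5.PBasisKaehler

set_option autoImplicit false
set_option linter.unusedSectionVars false
universe u

namespace Groth.Agent.Lib.Helper5.PBasis

section

variable (p : ℕ) {K₀ A ι : Type*} [CommRing K₀] [CommRing A] [Algebra K₀ A]
  (z : ι → A) (c : ι → K₀) (hc : ∀ i, algebraMap K₀ A (c i) = z i ^ p)
  (hli : LinearIndependent K₀ (fun e : Red ι p => mon z e.1))
  (hsp : Submodule.span K₀ (Set.range fun e : Red ι p => mon z e.1) = ⊤)

include hc hli hsp in
/-- absolute differentials of a ring with a monomial basis over a ring of `p`-th powers -/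
theorem exists_basis_kaehler_int (hp : 0 < p) (hpA : (p : A) = 0)
    (hK : ∀ r : K₀, KaehlerDifferential.D ℤ A (algebraMap K₀ A r) = 0) :
    ∃ b : Module.Basis ι A (Ω[A⁄ℤ]), ∀ i, b i = KaehlerDifferential.D ℤ A (z i) := by
  have hd₀ : ∀ r r' : K₀, (0 : K₀ →+ (ι →₀ A)) (r * r') =
      algebraMap K₀ A r • (0 : K₀ →+ (ι →₀ A)) r' +
        algebraMap K₀ A r' • (0 : K₀ →+ (ι →₀ A)) r := by
    intro r r'
    simp
  obtain ⟨D₁, h1, h2⟩ := exists_derivation_extending p z c hc hli hsp
    (0 : K₀ →+ (ι →₀ A)) hd₀ hp hpA (fun _ => rfl)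
    (fun i => Finsupp.single i (1 : A))
  set φ : Ω[A⁄ℤ] →ₗ[A] (ι →₀ A) := D₁.liftKaehlerDifferential with hφ
  set ψ : (ι →₀ A) →ₗ[A] Ω[A⁄ℤ] :=
    Finsupp.linearCombination A (fun i => KaehlerDifferential.D ℤ A (z i)) with hψ
  have hφD : ∀ b, φ (KaehlerDifferential.D ℤ A b) = D₁ b := by
    intro b
    rw [hφ, Derivation.liftKaehlerDifferential_comp_D]
  have h12 : φ.comp ψ = LinearMap.id := by
    apply Finsupp.lhom_ext'
    intro i
    apply LinearMap.ext_ring
    rw [LinearMap.comp_apply, LinearMap.comp_apply, Finsupp.lsingle_apply, hψ,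
      Finsupp.linearCombination_single, one_smul, hφD, h2]
    rfl
  have h21 : ψ.comp φ = LinearMap.id := by
    apply Derivation.liftKaehlerDifferential_unique
    apply Derivation.ext
    intro b
    change ψ (φ (KaehlerDifferential.D ℤ A b)) = KaehlerDifferential.D ℤ A b
    rw [hφD]
    have : ψ.compDer D₁ = KaehlerDifferential.D ℤ A := by
      apply derivation_ext_of_span p z hsp
      · intro r
        rw [hK r]
        change ψ (D₁ (algebraMap K₀ A r)) = 0
        rw [h1]
        simp
      · intro i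
        change ψ (D₁ (z i)) = _
        rw [h2, hψ, Finsupp.linearCombination_single, one_smul]
    have := congrArg (fun D => D b) this
    exact this
  let e : Ω[A⁄ℤ] ≃ₗ[A] (ι →₀ A) := LinearEquiv.ofLinearMap φ ψ h12 h21
  refine ⟨Module.Basis.ofRepr e, fun i => ?_⟩
  change e.symm (Finsupp.single i 1) = _
  change ψ (Finsupp.single i 1) = _
  rw [hψ, Finsupp.linearCombination_single, one_smul]

end

end Groth.Agent.Lib.Helper5.PBasis
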