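import Groth.Agent.Lib.Helper5.ImperfPBasisA
import Groth.Agent.Lib.Helper5.PBasisKaehlerInt

set_option autoImplicit false
set_option linter.unusedSectionVars false
universe u

namespace Groth.Agent.Lib.Helper5.ImperfPBasis

open EGA41 PBasis
open scoped Pointwise

section

variable (p : ℕ) [Fact p.Prime] {R A B : Type u} [CommRing R] [CommRing A] [CommRing B]
  [IsReduced B] [Algebra R A] [Algebra A B] [Algebra R B] [IsScalarTower R A B] [CharP B p]
  [CharP A p]

noncomputable instance algK₀Mid : Algebra (K₀ p A) (pPowerSubalgebra p R A) :=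
  (incl p).toAlgebra

instance towerK₀Mid : IsScalarTower (K₀ p A) (pPowerSubalgebra p R A) A :=
  IsScalarTower.of_algebraMap_eq (fun _ => rfl)

lemma K₀_smul_mid (r : K₀ p A) (s : pPowerSubalgebra p R A) : ((r • s : pPowerSubalgebra p R A) : A) =
    r.1 * s.1 := by
  rw [Algebra.smul_def]
  rfl

lemma K₀_smul_top (r : K₀ p A) (b : B) : r • b = algebraMap A B r.1 * b := by
  rw [← Algebra.smul_def]
  rfl

variable (R) in
/-- the map `R[A^p] → B` as a linear map over the `p`-th powers -/
noncomputable def midToTop : pPowerSubalgebra p R A →ₗ[K₀ p A] B where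
  toFun s := algebraMap A B s.1
  map_add' s s' := by
    change algebraMap A B (s.1 + s'.1) = _
    rw [map_add]
  map_smul' r s := by
    rw [K₀_smul_mid, map_mul, RingHom.id_apply, K₀_smul_top]

variable (hinj : Function.Injective (algebraMap A B))
  (hpow : ∀ b : B, b ^ p ∈ Set.range (algebraMap A B))
  (hR : Set.range (algebraMap R B) = Set.range fun b : B => b ^ p)
  {Λ M : Type u} (x : Λ → B) (hx : IsPBasis p A x) (x' : Λ → A)
  (hx' : ∀ i, algebraMap A B (x' i) = x i ^ p)
  (y : M → A) (hy : IsPBasis p R y)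

include hx' in
lemma map_mon_x' (e : Λ →₀ ℕ) : algebraMap A B (mon x' e) = mon x e ^ p := by
  have := map_mon x' (algebraMap A B : A →* B) e
  rw [MonoidHom.coe_coe] at this
  rw [this]
  simp only [hx']
  exact mon_pow x e p

include hinj hR hx' in
lemma mon_x'_mem (e : Λ →₀ ℕ) : mon x' e ∈ pPowerSubalgebra p R A :=
  (mem_mid_iff p hinj hR _).2 ⟨mon x e, (map_mon_x' p x x' hx' e).symm⟩

/-- the monomials in the `x'`, in `R[A^p]` -/
noncomputable def x'' (e : Red Λ p) : pPowerSubalgebra p R A :=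
  ⟨mon x' e.1, mon_x'_mem p hinj hR x x' hx' e.1⟩

include hx in
theorem li_x'' : LinearIndependent (K₀ p A) (x'' p hinj hR x x' hx') := by
  have hv : LinearIndependent A (fun e : Red Λ p => mon x e.1) := li_base p x hinj hx.1
  have h1 := hv.map_of_surjective_injective
    (fun a : A => (⟨a ^ p, (mem_K₀ p).2 ⟨a, rfl⟩⟩ : K₀ p A))
    ((frobenius B p : B →+* B) : B →+ B)
    (by
      rintro ⟨r, hr⟩
      obtain ⟨a, rfl⟩ := (mem_K₀ p).1 hr
      exact ⟨a, rfl⟩)
    (by
      intro m hm
      have h2 : m ^ p = 0 := hm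
      have : IsNilpotent m := ⟨p, h2⟩
      exact this.eq_zero)
    (by
      intro a m
      change (a • m) ^ p = _
      rw [K₀_smul_top, Algebra.smul_def, mul_pow, map_pow]
      rfl)
  apply LinearIndependent.of_comp (midToTop p R (A := A) (B := B))
  convert h1 using 1
  funext e
  exact map_mon_x' p x x' hx' e.1

include hx hpow in
theorem span_x'' : Submodule.span (K₀ p A) (Set.range (x'' p hinj hR x x' hx')) = ⊤ := by
  rw [eq_top_iff]
  rintro s -
  obtain ⟨b, hb⟩ := (mem_mid_iff p hinj hR s.1).1 s.2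
  have hb' : b ∈ Submodule.span A (Set.range fun e : Red Λ p => mon x e.1) := by
    rw [span_base p hpow x hx.2]; trivial
  obtain ⟨c, hc⟩ := Finsupp.mem_span_range_iff_exists_finsupp.1 hb'
  have hs : s.1 = ∑ e ∈ c.support, (c e) ^ p * mon x' e.1 := by
    apply hinj
    rw [← hb, ← hc, Finsupp.sum, sum_pow_char (R := B) p, map_sum]
    refine Finset.sum_congr rfl (fun e _ => ?_)
    rw [Algebra.smul_def, mul_pow, map_mul, map_pow, map_mon_x' p x x' hx']
  have hs' : s = ∑ e ∈ c.support,
      (⟨(c e) ^ p, (mem_K₀ p).2 ⟨c e, rfl⟩⟩ : K₀ p A) • x'' p hinj hR x x' hx' e := by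
    apply Subtype.ext
    rw [hs, AddSubmonoidClass.coe_finset_sum]
    refine Finset.sum_congr rfl (fun e _ => ?_)
    rw [K₀_smul_mid]
    rfl
  rw [hs']
  exact Submodule.sum_mem _ (fun e _ => Submodule.smul_mem _ _ (Submodule.subset_span ⟨e, rfl⟩))

lemma x''_smul (q : Red Λ p × Red M p) :
    x'' p hinj hR x x' hx' q.1 • mon y q.2.1 = mon (Sum.elim x' y) (redSum p q).1 := by
  rw [mon_redSum]
  rfl

include hx hy hinj hR hx' in
theorem li_combined :
    LinearIndependent (K₀ p A) (fun g : Red (Λ ⊕ M) p => mon (Sum.elim x' y) g.1) := by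
  have h1 : LinearIndependent (pPowerSubalgebra p R A) (fun f : Red M p => mon y f.1) := hy.1
  have h2 := linearIndependent_smul (li_x'' p hinj hR x hx x' hx') h1
  refine (linearIndependent_equiv' (redSum p) ?_).1 h2
  funext q
  exact (x''_smul p hinj hR x x' hx' y q).symm

include hx hy hpow hinj hR hx' in
theorem span_combined :
    Submodule.span (K₀ p A) (Set.range fun g : Red (Λ ⊕ M) p => mon (Sum.elim x' y) g.1) = ⊤ := by
  have h1 : Submodule.span (pPowerSubalgebra p R A) (Set.range fun f : Red M p => mon y f.1) = ⊤ :=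
    hy.2
  have h3 := Submodule.span_smul_of_span_eq_top (R := K₀ p A)
    (span_x'' p hinj hpow hR x hx x' hx') (Set.range fun f : Red M p => mon y f.1)
  rw [h1, Submodule.restrictScalars_top] at h3
  rw [eq_top_iff, ← h3]
  apply Submodule.span_mono
  rintro _ ⟨_, ⟨e, rfl⟩, _, ⟨f, rfl⟩, rfl⟩
  exact ⟨redSum p (e, f), (x''_smul p hinj hR x x' hx' y (e, f)).symm⟩

include hx hy hpow hinj hR hx' in
theorem exists_basis_mid :
    ∃ b : Module.Basis (Λ ⊕ M) A (Ω[A⁄ℤ]),
      ∀ i, b i = KaehlerDifferential.D ℤ A (Sum.elim x' y i) := by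
  have hp : 0 < p := (Fact.out : p.Prime).pos
  have hpA : (p : A) = 0 := CharP.cast_eq_zero A p
  refine exists_basis_kaehler_int p (Sum.elim x' y)
    (fun i => (⟨Sum.elim x' y i ^ p, (mem_K₀ p).2 ⟨_, rfl⟩⟩ : K₀ p A)) (fun _ => rfl)
    (li_combined p hinj hR x hx x' hx' y hy) (span_combined p hinj hpow hR x hx x' hx' y hy)
    hp hpA ?_
  rintro ⟨r, hr⟩
  obtain ⟨a, rfl⟩ := (mem_K₀ p).1 hr
  change KaehlerDifferential.D ℤ A (a ^ p) = 0
  rw [Derivation.leibniz_pow, ← Nat.cast_smul_eq_nsmul A, hpA, zero_smul]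

end

end Groth.Agent.Lib.Helper5.ImperfPBasis
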