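import Groth.Agent.Lib.Helper5.ImperfPBasisB
import Mathlib.LinearAlgebra.TensorProduct.Basis

set_option autoImplicit false
set_option linter.unusedSectionVars false
universe u

namespace Groth.Agent.Lib.Helper5.ImperfPBasis

open EGA41 PBasis
open scoped TensorProduct

section

variable (p : ℕ) [Fact p.Prime] {R A B : Type u} [CommRing R] [CommRing A] [CommRing B]
  [IsReduced B] [Algebra R A] [Algebra A B] [Algebra R B] [IsScalarTower R A B] [CharP B p]
  (hinj : Function.Injective (algebraMap A B))
  (hpow : ∀ b : B, b ^ p ∈ Set.range (algebraMap A B))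
  (hR : Set.range (algebraMap R B) = Set.range fun b : B => b ^ p)
  {Λ M : Type u} (x : Λ → B) (hx : IsPBasis p A x) (x' : Λ → A)
  (hx' : ∀ i, algebraMap A B (x' i) = x i ^ p)
  (y : M → A) (hy : IsPBasis p R y)

include hinj hR hx hy in
theorem exists_basis_top :
    ∃ b : Module.Basis (M ⊕ Λ) B (Ω[B⁄R]),
      ∀ i, b i = KaehlerDifferential.D R B (Sum.elim (fun m => algebraMap A B (y m)) x i) := by
  have hp : 0 < p := (Fact.out : p.Prime).pos
  have hpB : (p : B) = 0 := CharP.cast_eq_zero B p
  have hpowR' : ∀ b : B, b ^ p ∈ Set.range (algebraMap R B) := by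
    intro b; rw [hR]; exact ⟨b, rfl⟩
  have hgen := isPGenerating_tower p hinj hpowR' y x hy.2 hx.2
  have hind := (isPIndependent_tower_iff p hinj hpowR' y x hy).1 hx.1
  exact exists_basis_kaehler p _ hp hpB ⟨hind, hgen⟩

include hinj hpow hR hx hx' hy in
theorem exists_basis_imperfection :
    ∃ b : Module.Basis Λ B (imperfection ℤ A B),
      ∀ i, (b i : B ⊗[A] Ω[A⁄ℤ]) = (1 : B) ⊗ₜ[A] KaehlerDifferential.D ℤ A (x' i) := by
  haveI : CharP A p := RingHom.charP (algebraMap A B) hinj p
  have hpB : (p : B) = 0 := CharP.cast_eq_zero B p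
  obtain ⟨bA, hbA⟩ := exists_basis_mid p hinj hpow hR x hx x' hx' y hy
  obtain ⟨bB, hbB⟩ := exists_basis_top p hinj hR x hx y hy
  let bT := bA.baseChange B
  have hbT : ∀ i, bT i = (1 : B) ⊗ₜ[A] KaehlerDifferential.D ℤ A (Sum.elim x' y i) := by
    intro i
    rw [Module.Basis.baseChange_apply, hbA]
  let φ := KaehlerDifferential.mapBaseChange ℤ A B
  let ψ := KaehlerDifferential.map ℤ R B B
  have h_inl : ∀ l, φ (bT (Sum.inl l)) = 0 := by
    intro l
    rw [hbT]
    change KaehlerDifferential.mapBaseChange ℤ A B (1 ⊗ₜ KaehlerDifferential.D ℤ A (x' l)) = 0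
    rw [KaehlerDifferential.mapBaseChange_tmul, one_smul, KaehlerDifferential.map_D, hx',
      Derivation.leibniz_pow, ← Nat.cast_smul_eq_nsmul B, hpB, zero_smul]
  have h_inr : ∀ m, ψ (φ (bT (Sum.inr m))) = bB (Sum.inl m) := by
    intro m
    rw [hbT, hbB]
    change KaehlerDifferential.map ℤ R B B
      (KaehlerDifferential.mapBaseChange ℤ A B (1 ⊗ₜ KaehlerDifferential.D ℤ A (y m))) = _
    rw [KaehlerDifferential.mapBaseChange_tmul, one_smul, KaehlerDifferential.map_D,
      KaehlerDifferential.map_D]
    rfl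
  have hli : LinearIndependent B (fun l => bT (Sum.inl l)) :=
    bT.linearIndependent.comp _ Sum.inl_injective
  have hliB : LinearIndependent B (fun m => bB (Sum.inl m)) :=
    bB.linearIndependent.comp _ Sum.inl_injective
  have hker : LinearMap.ker φ = Submodule.span B (Set.range fun l => bT (Sum.inl l)) := by
    apply le_antisymm
    · intro z hz
      have hz' : z ∈ Submodule.span B (Set.range bT) := by rw [bT.span_eq]; trivial
      have hrange : Set.range bT = (Set.range fun l => bT (Sum.inl l)) ∪
          (Set.range fun m => bT (Sum.inr m)) := by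
        rw [← Set.Sum.elim_range]
        congr 1
        funext i
        cases i <;> rfl
      rw [hrange, Submodule.span_union, Submodule.mem_sup] at hz'
      obtain ⟨z₁, hz₁, z₂, hz₂, rfl⟩ := hz'
      have hφ₁ : φ z₁ = 0 := by
        have hle : Submodule.span B (Set.range fun l => bT (Sum.inl l)) ≤ LinearMap.ker φ := by
          rw [Submodule.span_le]
          rintro _ ⟨l, rfl⟩
          exact h_inl l
        exact hle hz₁
      have hφ₂ : φ z₂ = 0 := by
        have := LinearMap.mem_ker.1 hz
        rw [map_add, hφ₁, zero_add] at this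
        exact this
      obtain ⟨c, hc⟩ := Finsupp.mem_span_range_iff_exists_finsupp.1 hz₂
      have h0 : Finsupp.linearCombination B (fun m => bB (Sum.inl m)) c = 0 := by
        rw [Finsupp.linearCombination_apply]
        have h1 : ψ (φ z₂) = 0 := by rw [hφ₂, map_zero]
        rw [← hc, map_finsuppSum, map_finsuppSum] at h1
        rw [← h1]
        refine Finsupp.sum_congr (fun m _ => ?_)
        rw [map_smul, map_smul, h_inr]
      have hc0 : c = 0 := (linearIndependent_iff.1 hliB) c h0
      rw [hc0, Finsupp.sum_zero_index] at hc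
      rw [← hc, add_zero]
      exact hz₁
    · rw [Submodule.span_le]
      rintro _ ⟨l, rfl⟩
      exact h_inl l
  let b0 := Module.Basis.span hli
  let e : Submodule.span B (Set.range fun l => bT (Sum.inl l)) ≃ₗ[B] imperfection ℤ A B :=
    LinearEquiv.ofEq _ _ hker.symm
  refine ⟨b0.map e, fun i => ?_⟩
  rw [Module.Basis.map_apply]
  change ((b0 i : Submodule.span B (Set.range fun l => bT (Sum.inl l))) : B ⊗[A] Ω[A⁄ℤ]) = _
  rw [Module.Basis.coe_span_apply, hbT]
  rfl

end

end Groth.Agent.Lib.Helper5.ImperfPBasis
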