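import Groth.Agent.Lib.Helper5.SepSmooth
import Groth.Agent.Lib.Helper5.ImperfExt
import Groth.Agent.Lib.Helper5.PBasisKaehler

set_option autoImplicit false
set_option linter.unusedSectionVars false
universe v w

namespace Groth.Agent.Lib.Helper5.ImperfSep

open TensorProduct EGA41 Groth.Agent.Lib.Helper5.ImperfTower

variable {k : Type v} {k₀ K L : Type w}
  [Field k₀] [Field k] [Field K] [Field L] [Algebra k₀ k] [Algebra k₀ K] [Algebra k₀ L] [Algebra k K]
  [Algebra k L] [Algebra K L] [IsScalarTower k₀ k K] [IsScalarTower k₀ k L] [IsScalarTower k₀ K L]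
  [IsScalarTower k K L]

lemma map_injective_of_le_pPower (p : ℕ) (hpK : (p : K) = 0)
    (h : ∀ x : k, algebraMap k K x ∈ pPowerSubalgebra p k₀ K) :
    Function.Injective (KaehlerDifferential.map k₀ k K K) := by
  have hzero : KaehlerDifferential.mapBaseChange k₀ k K = 0 := by
    apply ext_tensor_kaehler
    intro x
    rw [KaehlerDifferential.mapBaseChange_tmul, KaehlerDifferential.map_D, one_smul,
      LinearMap.zero_apply]
    exact PBasis.derivation_eq_zero_of_mem_pPower p hpK (KaehlerDifferential.D k₀ K) (h x)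
  rw [injective_iff_map_eq_zero]
  intro ω hω
  obtain ⟨t, rfl⟩ := (KaehlerDifferential.exact_mapBaseChange_map k₀ k K ω).1 hω
  rw [hzero, LinearMap.zero_apply]

theorem eq_zero_of_first (hsep : Algebra.IsGeometricallyReduced k L)
    (z : L ⊗[K] Ω[K⁄k₀]) (hz : z ∈ EGA41.imperfection k₀ K L)
    (hz0 : (KaehlerDifferential.map k₀ k K K).baseChange L z = 0) : z = 0 := by
  obtain ⟨t, rfl⟩ := exists_low_eq k₀ k K L z hz0
  have h1 : KaehlerDifferential.mapBaseChange k₀ k L t = 0 := by
    rw [← mapBaseChange_low k₀ k K L t]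
    exact hz
  have h2 := SepSmooth.mapBaseChange_injective_of_geomReduced (k := k) (K := L) k₀
  rw [← map_zero (KaehlerDifferential.mapBaseChange k₀ k L)] at h1
  rw [h2 h1, map_zero]

theorem eq_zero_of_injective
    (hinj : Function.Injective (KaehlerDifferential.mapBaseChange k₀ K L))
    (z : L ⊗[K] Ω[K⁄k₀]) (hz : z ∈ EGA41.imperfection k₀ K L) : z = 0 := by
  have h1 : KaehlerDifferential.mapBaseChange k₀ K L z = 0 := hz
  rw [← map_zero (KaehlerDifferential.mapBaseChange k₀ K L)] at h1
  exact hinj h1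

end Groth.Agent.Lib.Helper5.ImperfSep
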