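import Groth.Agent.Lib.Helper12.CohenStructA
import Groth.Agent.Lib.Helper8.Ex1
import Groth.Agent.Lib.Helper5.RegTwo
import Groth.Agent.Lib.Helper5.CIFieldG
import Groth.Agent.Lib.Helper1.PSDecomp

/-!
# Independence of presentation for complete intersections: the complete case
-/

set_option autoImplicit false
universe u

namespace Groth.Agent.Lib.Helper5.IndPres

open IsLocalRing Groth.Agent.Lib.Helper5 Groth.Agent.Lib.Helper5.FormallyProjU
open Groth.Agent.Lib.Helper12 RingTheory.Sequence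

theorem exists_coeff (R : Type u) [CommRing R] [IsLocalRing R]
    [IsAdicComplete (maximalIdeal R) R] :
    ∃ (Λ : Type u) (_ : CommRing Λ) (_ : IsLocalRing Λ) (_ : IsRegularRing Λ) (𝔞 : Ideal ℤ)
      (𝔟 : Ideal Λ) (v : Λ →+* R),
      IsFSA ℤ 𝔞 Λ 𝔟 ∧ 𝔞.map (algebraMap ℤ Λ) ≤ maximalIdeal Λ ∧ 𝔟 ≤ maximalIdeal Λ ∧
        IsLocalHom v ∧ Function.Surjective ((Ideal.Quotient.mk (maximalIdeal R)).comp v) := by
  obtain ⟨p, hp⟩ := CharP.exists (ResidueField R)
  rcases CharP.char_is_prime_or_zero (ResidueField R) p with hpp | rfl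
  · have : Fact p.Prime := ⟨hpp⟩
    obtain ⟨Λ, i1, hdom, hdvr, hcomp, hm, ⟨e⟩⟩ := CohenExist.exists_cohenRing p (ResidueField R)
    have hΛ : CAlg.IsCohenRing Λ := ⟨hdom, hdvr, hcomp, p, hpp, hm⟩
    obtain ⟨q, hq, hmax, hfs⟩ := CohenRingSmoothU.isFSA_int_of_isCohenRing Λ hΛ
    let u : Λ →+* R ⧸ maximalIdeal R := (e : ResidueField Λ →+* ResidueField R).comp (residue Λ)
    have hqp : ((q : ℕ) : ResidueField R) = 0 := by
      have h1 : residue Λ ((q : ℕ) : Λ) = 0 := by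
        rw [residue_eq_zero_iff, hmax]
        exact Ideal.mem_span_singleton_self _
      have h2 : u ((q : ℕ) : Λ) = 0 := by
        change e (residue Λ _) = 0
        rw [h1, map_zero]
      rw [map_natCast] at h2
      exact h2
    have hA : (Ideal.span {(q : ℤ)}).map (algebraMap ℤ R) ≤ maximalIdeal R := by
      rw [Ideal.map_span, Set.image_singleton, Ideal.span_le, Set.singleton_subset_iff]
      change algebraMap ℤ R (q : ℤ) ∈ maximalIdeal R
      rw [← residue_eq_zero_iff, eq_intCast, Int.cast_natCast, map_natCast]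
      exact hqp
    have hB : ∀ x ∈ maximalIdeal Λ, u x = 0 := by
      intro x hx
      change e (residue Λ x) = 0
      rw [(residue_eq_zero_iff x).mpr hx, map_zero]
    obtain ⟨v, hv⟩ := CohenStruct.exists_lift_to_complete (Ideal.span {(q : ℤ)}) (maximalIdeal Λ)
      hfs u hA hB
    refine ⟨Λ, i1, inferInstance, inferInstance, Ideal.span {(q : ℤ)}, maximalIdeal Λ, v, hfs,
      ?_, le_rfl, ?_, ?_⟩
    · rw [Ideal.map_span, Set.image_singleton, hmax]
      simp
    · refine ⟨fun x hx => ?_⟩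
      have h1 : IsUnit (u x) := by
        rw [← hv, RingHom.comp_apply]
        exact hx.map (Ideal.Quotient.mk (maximalIdeal R))
      by_contra hnx
      have h2 : residue Λ x = 0 := (residue_eq_zero_iff x).mpr hnx
      have h3 : u x = 0 := by
        change e (residue Λ x) = 0
        rw [h2, map_zero]
      rw [h3] at h1
      exact not_isUnit_zero h1
    · rw [hv]
      exact e.surjective.comp residue_surjective
  · have : CharZero (ResidueField R) := CharP.charP_to_charZero _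
    have hfs := CohenRingSmoothU.isFSA_int_of_field (ResidueField R)
      (Field.toIsField (ResidueField R))
    have hA : (⊥ : Ideal ℤ).map (algebraMap ℤ R) ≤ maximalIdeal R := by
      rw [Ideal.map_bot]
      exact bot_le
    have hB : ∀ x ∈ (⊥ : Ideal (ResidueField R)), (RingHom.id (R ⧸ maximalIdeal R)) x = 0 := by
      intro x hx
      rw [Ideal.mem_bot] at hx
      exact hx
    obtain ⟨v, hv⟩ := CohenStruct.exists_lift_to_complete (R := R) ⊥ ⊥ hfs (RingHom.id _) hA hB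
    refine ⟨ResidueField R, inferInstance, inferInstance, inferInstance, ⊥, ⊥, v, hfs, ?_, bot_le,
      ?_, ?_⟩
    · rw [Ideal.map_bot]
      exact bot_le
    · refine ⟨fun x hx => ?_⟩
      rw [isUnit_iff_ne_zero]
      rintro rfl
      rw [map_zero] at hx
      exact not_isUnit_zero hx
    · rw [hv]
      exact Function.surjective_id

theorem sub_truncTotal_mem {Λ : Type u} [CommRing Λ] [IsLocalRing Λ] {N : ℕ} (n : ℕ)
    (p : MvPowerSeries (Fin N) Λ) :
    p - ((MvPowerSeries.truncTotal n p : MvPolynomial (Fin N) Λ) : MvPowerSeries (Fin N) Λ) ∈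
      maximalIdeal (MvPowerSeries (Fin N) Λ) ^ n := by
  rw [← Groth.Agent.Lib.Helper1.PSDecomp.W_eq_pow, Groth.Agent.Lib.Helper1.PSDecomp.mem_W]
  intro d
  by_cases hd : d.degree < n
  · rw [map_sub, MvPolynomial.coeff_coe, MvPowerSeries.coeff_truncTotal _ hd, sub_self]
    exact Ideal.zero_mem _
  · have : n - d.degree = 0 := by omega
    rw [this, pow_zero, Ideal.one_eq_top]
    exact Submodule.mem_top

theorem ps_hom_ext {Λ A : Type u} [CommRing Λ] [IsLocalRing Λ] [CommRing A] [IsLocalRing A]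
    [IsHausdorff (maximalIdeal A) A] {N : ℕ} (φ ψ : MvPowerSeries (Fin N) Λ →+* A)
    [IsLocalHom φ] [IsLocalHom ψ]
    (hC : ∀ c, φ (MvPowerSeries.C c) = ψ (MvPowerSeries.C c))
    (hX : ∀ i, φ (MvPowerSeries.X i) = ψ (MvPowerSeries.X i)) : φ = ψ := by
  have hpoly : φ.comp (MvPolynomial.coeToMvPowerSeries.ringHom) =
      ψ.comp (MvPolynomial.coeToMvPowerSeries.ringHom) := by
    apply MvPolynomial.ringHom_ext
    · intro c
      simpa using hC c
    · intro i
      simpa using hX i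
  have hmem : ∀ (χ : MvPowerSeries (Fin N) Λ →+* A) [IsLocalHom χ] (n : ℕ)
      (q : MvPowerSeries (Fin N) Λ), q ∈ maximalIdeal (MvPowerSeries (Fin N) Λ) ^ n →
      χ q ∈ maximalIdeal A ^ n := by
    intro χ _ n q hq
    have h1 : (maximalIdeal (MvPowerSeries (Fin N) Λ)).map χ ≤ maximalIdeal A :=
      ((local_hom_TFAE χ).out 0 2).mp ‹IsLocalHom χ›
    have h2 := Ideal.mem_map_of_mem χ hq
    rw [Ideal.map_pow] at h2
    exact Ideal.pow_right_mono h1 n h2
  ext p
  rw [← sub_eq_zero]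
  apply IsHausdorff.haus (I := maximalIdeal A) ‹_›
  intro n
  rw [SModEq.zero, smul_eq_mul, Ideal.mul_top]
  have hq := sub_truncTotal_mem n p
  have h1 := hmem φ n _ hq
  have h2 := hmem ψ n _ hq
  rw [map_sub] at h1 h2
  have h3 : φ ((MvPowerSeries.truncTotal n p : MvPolynomial (Fin N) Λ) : MvPowerSeries (Fin N) Λ)
      = ψ ((MvPowerSeries.truncTotal n p : MvPolynomial (Fin N) Λ) : MvPowerSeries (Fin N) Λ) :=
    congrArg (fun f : MvPolynomial (Fin N) Λ →+* A => f (MvPowerSeries.truncTotal n p)) hpoly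
  rw [h3] at h1
  have := Ideal.sub_mem _ h1 h2
  rwa [sub_sub_sub_cancel_right] at this

theorem exists_lift_along {Λ R A : Type u} [CommRing Λ] [IsLocalRing Λ] [CommRing R]
    [IsLocalRing R] [IsNoetherianRing R] [IsAdicComplete (maximalIdeal R) R] [CommRing A]
    [IsLocalRing A] (𝔞 : Ideal ℤ) (𝔟 : Ideal Λ) (hfs : IsFSA ℤ 𝔞 Λ 𝔟)
    (h𝔞 : 𝔞.map (algebraMap ℤ Λ) ≤ maximalIdeal Λ) (h𝔟 : 𝔟 ≤ maximalIdeal Λ)
    (π : R →+* A) (hπ : Function.Surjective π) (v : Λ →+* A) [IsLocalHom v]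
    (hvs : Function.Surjective ((Ideal.Quotient.mk (maximalIdeal A)).comp v)) :
    ∃ w : Λ →+* R, π.comp w = v ∧
      Function.Surjective ((Ideal.Quotient.mk (maximalIdeal R)).comp w) := by
  have hπl : IsLocalHom π := IsLocalHom.of_surjective π hπ
  have hJ : RingHom.ker π ≠ ⊤ := RingHom.ker_ne_top π
  let e : (R ⧸ RingHom.ker π) ≃+* A := RingHom.quotientKerEquivOfSurjective hπ
  have hloc : IsLocalRing (R ⧸ RingHom.ker π) := e.symm.isLocalRing
  let u : Λ →+* R ⧸ RingHom.ker π := (e.symm : A →+* R ⧸ RingHom.ker π).comp v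
  have hul : IsLocalHom u := by
    refine ⟨fun x hx => ?_⟩
    have h1 : IsUnit (e (u x)) := hx.map e
    have h2 : e (u x) = v x := e.apply_symm_apply (v x)
    rw [h2] at h1
    exact isUnit_of_map_unit v x h1
  obtain ⟨w, -, hw⟩ := CohenRingLift.exists_local_lift 𝔞 𝔟 hfs h𝔞 h𝔟 (RingHom.ker π) hJ u
  have hπw : π.comp w = v := by
    ext c
    have h1 : Ideal.Quotient.mk (RingHom.ker π) (w c) = u c :=
      congrArg (fun f : Λ →+* R ⧸ RingHom.ker π => f c) hw
    have h2 : e (Ideal.Quotient.mk (RingHom.ker π) (w c)) = π (w c) :=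
      RingHom.quotientKerEquivOfSurjective_apply_mk hπ (w c)
    rw [h1] at h2
    rw [RingHom.comp_apply, ← h2]
    exact e.apply_symm_apply (v c)
  refine ⟨w, hπw, ?_⟩
  intro z
  obtain ⟨r, rfl⟩ := Ideal.Quotient.mk_surjective z
  obtain ⟨c, hc⟩ := hvs (Ideal.Quotient.mk _ (π r))
  refine ⟨c, ?_⟩
  rw [RingHom.comp_apply, Ideal.Quotient.mk_eq_mk_iff_sub_mem] at hc ⊢
  have h3 : π (w c - r) = v c - π r := by
    rw [map_sub, ← hπw]
    rfl
  rw [← h3] at hc
  by_contra hne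
  have hunit : IsUnit (w c - r) := by
    by_contra hnu
    exact hne ((mem_maximalIdeal _).mpr hnu)
  exact ((mem_maximalIdeal _).mp hc) (hunit.map π)

theorem exists_gens_pair {R₁ R₂ A : Type u} [CommRing R₁] [CommRing R₂] [CommRing A]
    [IsLocalRing R₁] [IsLocalRing R₂] [IsLocalRing A] [IsNoetherianRing R₁] [IsNoetherianRing R₂]
    (π₁ : R₁ →+* A) (hπ₁ : Function.Surjective π₁) (π₂ : R₂ →+* A)
    (hπ₂ : Function.Surjective π₂) :
    ∃ (N : ℕ) (c₁ : Fin N → R₁) (c₂ : Fin N → R₂),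
      Ideal.span (Set.range c₁) = maximalIdeal R₁ ∧ Ideal.span (Set.range c₂) = maximalIdeal R₂ ∧
        ∀ i, π₁ (c₁ i) = π₂ (c₂ i) := by
  have hl₁ : IsLocalHom π₁ := IsLocalHom.of_surjective π₁ hπ₁
  have hl₂ : IsLocalHom π₂ := IsLocalHom.of_surjective π₂ hπ₂
  obtain ⟨n, a, ha⟩ := Submodule.fg_iff_exists_fin_generating_family.mp
    (IsNoetherian.noetherian (maximalIdeal R₁))
  obtain ⟨m, b, hb⟩ := Submodule.fg_iff_exists_fin_generating_family.mp
    (IsNoetherian.noetherian (maximalIdeal R₂))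
  change Ideal.span (Set.range a) = maximalIdeal R₁ at ha
  change Ideal.span (Set.range b) = maximalIdeal R₂ at hb
  choose a' ha' using fun i => hπ₂ (π₁ (a i))
  choose b' hb' using fun j => hπ₁ (π₂ (b j))
  have ham : ∀ i, a i ∈ maximalIdeal R₁ := fun i => ha ▸ Ideal.subset_span ⟨i, rfl⟩
  have hbm : ∀ j, b j ∈ maximalIdeal R₂ := fun j => hb ▸ Ideal.subset_span ⟨j, rfl⟩
  have hmem : ∀ {R S : Type u} [CommRing R] [CommRing S] [IsLocalRing R] [IsLocalRing S]
      (π : R →+* S) [IsLocalHom π] (x : R), π x ∈ maximalIdeal S → x ∈ maximalIdeal R := by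
    intro R S _ _ _ _ π _ x hx
    by_contra hne
    have hunit : IsUnit x := by
      by_contra hnu
      exact hne ((mem_maximalIdeal _).mpr hnu)
    exact ((mem_maximalIdeal _).mp hx) (hunit.map π)
  have hmap : ∀ {R S : Type u} [CommRing R] [CommRing S] [IsLocalRing R] [IsLocalRing S]
      (π : R →+* S) [IsLocalHom π] (x : R), x ∈ maximalIdeal R → π x ∈ maximalIdeal S := by
    intro R S _ _ _ _ π _ x hx
    rw [mem_maximalIdeal, mem_nonunits_iff] at hx ⊢
    exact fun h => hx (isUnit_of_map_unit π x h)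
  have ha'm : ∀ i, a' i ∈ maximalIdeal R₂ := fun i =>
    hmem π₂ _ (by rw [ha' i]; exact hmap π₁ _ (ham i))
  have hb'm : ∀ j, b' j ∈ maximalIdeal R₁ := fun j =>
    hmem π₁ _ (by rw [hb' j]; exact hmap π₂ _ (hbm j))
  refine ⟨n + m, Fin.append a b', Fin.append a' b, ?_, ?_, ?_⟩
  · apply le_antisymm
    · rw [Ideal.span_le]
      rintro _ ⟨i, rfl⟩
      induction i using Fin.addCases with
      | left i => rw [Fin.append_left]; exact ham i
      | right j => rw [Fin.append_right]; exact hb'm j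
    · rw [← ha, Ideal.span_le]
      rintro _ ⟨i, rfl⟩
      exact Ideal.subset_span ⟨Fin.castAdd m i, Fin.append_left _ _ i⟩
  · apply le_antisymm
    · rw [Ideal.span_le]
      rintro _ ⟨i, rfl⟩
      induction i using Fin.addCases with
      | left i => rw [Fin.append_left]; exact ha'm i
      | right j => rw [Fin.append_right]; exact hbm j
    · rw [← hb, Ideal.span_le]
      rintro _ ⟨j, rfl⟩
      exact Ideal.subset_span ⟨Fin.natAdd n j, Fin.append_right _ _ j⟩
  · intro i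
    induction i using Fin.addCases with
    | left i => rw [Fin.append_left, Fin.append_left, ha' i]
    | right j => rw [Fin.append_right, Fin.append_right, hb' j]

theorem exists_regular_ker_complete {A R₁ R₂ : Type u} [CommRing A] [CommRing R₁] [CommRing R₂]
    [IsLocalRing A] [IsAdicComplete (maximalIdeal A) A]
    [IsRegularLocalRing R₁] [IsRegularLocalRing R₂]
    [IsAdicComplete (maximalIdeal R₁) R₁] [IsAdicComplete (maximalIdeal R₂) R₂]
    (π₁ : R₁ →+* A) (hπ₁ : Function.Surjective π₁) (π₂ : R₂ →+* A) (hπ₂ : Function.Surjective π₂)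
    (rs : List R₁) (hrs : IsRegular R₁ rs) (hker : RingHom.ker π₁ = Ideal.ofList rs) :
    ∃ ys : List R₂, IsRegular R₂ ys ∧ RingHom.ker π₂ = Ideal.ofList ys := by
  obtain ⟨Λ, i1, i2, i3, 𝔞, 𝔟, v, hfs, h𝔞, h𝔟, hvl, hvs⟩ := exists_coeff A
  obtain ⟨w₁, hw₁, hw₁s⟩ := exists_lift_along 𝔞 𝔟 hfs h𝔞 h𝔟 π₁ hπ₁ v hvs
  obtain ⟨w₂, hw₂, hw₂s⟩ := exists_lift_along 𝔞 𝔟 hfs h𝔞 h𝔟 π₂ hπ₂ v hvs
  obtain ⟨N, c₁, c₂, hc₁, hc₂, hc⟩ := exists_gens_pair π₁ hπ₁ π₂ hπ₂
  obtain ⟨Φ₁, hΦ₁, hΦ₁C, hΦ₁X⟩ := CohenStruct.exists_surjective_of_lift R₁ w₁ hw₁s c₁ hc₁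
  obtain ⟨Φ₂, hΦ₂, hΦ₂C, hΦ₂X⟩ := CohenStruct.exists_surjective_of_lift R₂ w₂ hw₂s c₂ hc₂
  have hl₁ : IsLocalHom (π₁.comp Φ₁) := IsLocalHom.of_surjective _ (hπ₁.comp hΦ₁)
  have hl₂ : IsLocalHom (π₂.comp Φ₂) := IsLocalHom.of_surjective _ (hπ₂.comp hΦ₂)
  have heq : π₁.comp Φ₁ = π₂.comp Φ₂ := by
    apply ps_hom_ext
    · intro c
      rw [RingHom.comp_apply, RingHom.comp_apply, hΦ₁C, hΦ₂C, ← RingHom.comp_apply,
        ← RingHom.comp_apply, hw₁, hw₂]
    · intro i
      rw [RingHom.comp_apply, RingHom.comp_apply, hΦ₁X, hΦ₂X, hc i]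
  have hP : IsRegularLocalRing (MvPowerSeries (Fin N) Λ) :=
    Groth.Agent.Lib.Helper8.Bidual.isRegularLocalRing_mvPowerSeries Λ N
  obtain ⟨z, hz, hkz⟩ := Groth.Agent.Lib.Helper5.RegSchImm.exists_regular_of_surjective Φ₁ hΦ₁
  obtain ⟨gs, hgs⟩ : ∃ gs : List (MvPowerSeries (Fin N) Λ), gs.map Φ₁ = rs := by
    refine ⟨rs.map (Function.surjInv hΦ₁), ?_⟩
    rw [List.map_map]
    conv_rhs => rw [← List.map_id rs]
    apply List.map_congr_left
    intro x _
    exact Function.surjInv_eq hΦ₁ x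
  have hreg : IsRegular (MvPowerSeries (Fin N) Λ) (z ++ gs) :=
    Groth.Agent.Lib.Helper5.CIField.isRegular_append_of_map _ hΦ₁ z gs hkz hz.1
      (by rw [hgs]; exact hrs)
  have hker' : RingHom.ker (π₂.comp Φ₂) = Ideal.ofList (z ++ gs) := by
    rw [← heq, ← RingHom.comap_ker, hker, ← hgs, ← Ideal.map_ofList,
      Ideal.comap_map_of_surjective' Φ₁ hΦ₁, hkz, Ideal.ofList_append, sup_comm]
  exact Groth.Agent.Lib.Helper5.RegTwo.exists_regular_ker_of_comp Φ₂ hΦ₂ π₂ (z ++ gs) hreg hker'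

end Groth.Agent.Lib.Helper5.IndPres
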