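import Groth.Agent.Lib.helper19.CompletionNoetherian
import Groth.Agent.Lib.Helper5.CIBCA
import Groth.Agent.Lib.Helper5.CIBCB
import Groth.Agent.Lib.Helper5.RegCompletionC

/-!
# Completion of a surjection onto a complete local ring, and regular ideals under completion
-/

set_option autoImplicit false
universe u

namespace Groth.Agent.Lib.Helper5.IndPres

open IsLocalRing RingTheory.Sequence

theorem factorPow_evalₐ {R : Type u} [CommRing R] (I : Ideal R) {m n : ℕ} (hle : m ≤ n)
    (x : AdicCompletion I R) :
    Ideal.Quotient.factorPow I hle (AdicCompletion.evalₐ I n x) = AdicCompletion.evalₐ I m x := by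
  induction x using AdicCompletion.induction_on with
  | _ a =>
    rw [AdicCompletion.evalₐ_mk, AdicCompletion.evalₐ_mk]
    change Ideal.Quotient.factor _ (Ideal.Quotient.mk _ _) = _
    rw [Ideal.Quotient.factor_mk, Ideal.Quotient.mk_eq_mk_iff_sub_mem]
    have h := a.2 hle
    rw [SModEq.sub_mem, smul_eq_mul, Ideal.mul_top] at h
    rw [← neg_sub]
    exact Ideal.neg_mem_iff _ |>.mpr h

theorem exists_sub_mem {R : Type u} [CommRing R] (I : Ideal R) (hfg : I.FG) (n : ℕ)
    (x : AdicCompletion I R) :
    ∃ r : R, x - algebraMap R (AdicCompletion I R) r ∈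
      (I ^ n).map (algebraMap R (AdicCompletion I R)) := by
  obtain ⟨r, hr⟩ := Ideal.Quotient.mk_surjective (AdicCompletion.evalₐ I n x)
  refine ⟨r, ?_⟩
  rw [← Submodule.restrictScalars_mem R, ← Ideal.smul_top_eq_map,
    AdicCompletion.pow_smul_top_eq_ker_eval hfg, LinearMap.mem_ker, map_sub, sub_eq_zero]
  have h : (I ^ n • ⊤ : Ideal R) ≤ I ^ n := by rw [smul_eq_mul, Ideal.mul_top]
  have h' : I ^ n ≤ (I ^ n • ⊤ : Ideal R) := by rw [smul_eq_mul, Ideal.mul_top]
  rw [← AdicCompletion.factor_evalₐ_eq_eval I x h', ← hr, AdicCompletion.algebraMap_apply,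
    Algebra.algebraMap_self_apply]
  rfl

theorem exists_completion_hom {R A : Type u} [CommRing R] [CommRing A] [IsLocalRing R]
    [IsNoetherianRing R] [IsLocalRing A]
    [IsAdicComplete (maximalIdeal A) A] (f : R →+* A)
    (h1 : (maximalIdeal R).map f = maximalIdeal A)
    (h2 : Function.Surjective ((Ideal.Quotient.mk (maximalIdeal A)).comp f))
    (h3 : ∀ (n : ℕ) (r : R), f r ∈ maximalIdeal A ^ n →
      r ∈ RingHom.ker f ⊔ maximalIdeal R ^ n) :
    ∃ g : AdicCompletion (maximalIdeal R) R →+* A,
      g.comp (algebraMap R (AdicCompletion (maximalIdeal R) R)) = f ∧ Function.Surjective g ∧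
        RingHom.ker g =
          (RingHom.ker f).map (algebraMap R (AdicCompletion (maximalIdeal R) R)) := by
  have hN : IsNoetherianRing (AdicCompletion (maximalIdeal R) R) :=
    Groth.Agent.Lib.helper19.isNoetherianRing_adicCompletion R _
  have hfg : (maximalIdeal R).FG := IsNoetherian.noetherian _
  have hle : ∀ n, maximalIdeal R ^ n ≤ (maximalIdeal A ^ n).comap f := fun n => by
    rw [← Ideal.map_le_iff_le_comap, Ideal.map_pow, h1]
  let F : ∀ n, AdicCompletion (maximalIdeal R) R →+* A ⧸ maximalIdeal A ^ n := fun n =>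
    (Ideal.quotientMap (maximalIdeal A ^ n) f (hle n)).comp
      (AdicCompletion.evalₐ (maximalIdeal R) n : _ →+* _)
  have hFmk : ∀ n r, F n (algebraMap R _ r) = Ideal.Quotient.mk _ (f r) := by
    intro n r
    change Ideal.quotientMap (maximalIdeal A ^ n) f (hle n)
      (AdicCompletion.evalₐ (maximalIdeal R) n (algebraMap R _ r)) = _
    rw [AdicCompletion.algebraMap_apply, Algebra.algebraMap_self_apply,
      AdicCompletion.evalₐ_of, Ideal.quotientMap_mk]
  have hF : ∀ {k n : ℕ} (hkn : k ≤ n),
      (Ideal.Quotient.factorPow (maximalIdeal A) hkn).comp (F n) = F k := by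
    intro k n hkn
    ext x
    change Ideal.Quotient.factorPow (maximalIdeal A) hkn
      (Ideal.quotientMap (maximalIdeal A ^ n) f (hle n)
        (AdicCompletion.evalₐ (maximalIdeal R) n x)) =
      Ideal.quotientMap (maximalIdeal A ^ k) f (hle k)
        (AdicCompletion.evalₐ (maximalIdeal R) k x)
    rw [← factorPow_evalₐ (maximalIdeal R) hkn x]
    obtain ⟨r, hr⟩ := Ideal.Quotient.mk_surjective (AdicCompletion.evalₐ (maximalIdeal R) n x)
    rw [← hr, Ideal.quotientMap_mk]
    change Ideal.Quotient.factor _ (Ideal.Quotient.mk _ _) =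
      Ideal.quotientMap _ f _ (Ideal.Quotient.factor _ (Ideal.Quotient.mk _ _))
    rw [Ideal.Quotient.factor_mk, Ideal.Quotient.factor_mk, Ideal.quotientMap_mk]
  obtain ⟨g, hg⟩ : ∃ g : AdicCompletion (maximalIdeal R) R →+* A,
      ∀ n x, Ideal.Quotient.mk (maximalIdeal A ^ n) (g x) = F n x :=
    ⟨IsAdicComplete.liftRingHom (maximalIdeal A) F hF,
      IsAdicComplete.mk_liftRingHom (maximalIdeal A) F hF⟩
  have hgι : ∀ r, g (algebraMap R _ r) = f r := by
    intro r
    rw [← sub_eq_zero]
    apply IsHausdorff.haus (I := maximalIdeal A) inferInstance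
    intro n
    rw [SModEq.zero, smul_eq_mul, Ideal.mul_top, ← Ideal.Quotient.mk_eq_mk_iff_sub_mem, hg,
      hFmk]
  have hcomp : g.comp (algebraMap R (AdicCompletion (maximalIdeal R) R)) = f :=
    RingHom.ext hgι
  have hmapg : (maximalIdeal (AdicCompletion (maximalIdeal R) R)).map g = maximalIdeal A := by
    rw [AdicCompletion.maximalIdeal_eq_map, Ideal.map_map, hcomp, h1]
  have hpowg : ∀ n y, y ∈ (maximalIdeal R ^ n).map
      (algebraMap R (AdicCompletion (maximalIdeal R) R)) → g y ∈ maximalIdeal A ^ n := by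
    intro n y hy
    have := Ideal.mem_map_of_mem g hy
    rwa [Ideal.map_map, hcomp, Ideal.map_pow, h1] at this
  refine ⟨g, hcomp, ?_, ?_⟩
  · have haus : IsHausdorff ((maximalIdeal (AdicCompletion (maximalIdeal R) R)).map g) A := by
      rw [hmapg]
      infer_instance
    apply surjective_of_mk_map_comp_surjective g
      (I := maximalIdeal (AdicCompletion (maximalIdeal R) R))
    intro z
    obtain ⟨a, rfl⟩ := Ideal.Quotient.mk_surjective z
    obtain ⟨r, hr⟩ := h2 (Ideal.Quotient.mk _ a)
    refine ⟨algebraMap R _ r, ?_⟩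
    rw [RingHom.comp_apply, hgι, Ideal.Quotient.mk_eq_mk_iff_sub_mem, hmapg]
    rw [RingHom.comp_apply, Ideal.Quotient.mk_eq_mk_iff_sub_mem] at hr
    exact hr
  · apply le_antisymm
    · intro x hx
      rw [RingHom.mem_ker] at hx
      obtain ⟨J, hJ⟩ : ∃ J, J = (RingHom.ker f).map
        (algebraMap R (AdicCompletion (maximalIdeal R) R)) := ⟨_, rfl⟩
      rw [← hJ, ← Ideal.Quotient.eq_zero_iff_mem]
      apply IsHausdorff.haus (I := maximalIdeal (AdicCompletion (maximalIdeal R) R))
        (M := AdicCompletion (maximalIdeal R) R ⧸ J) inferInstance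
      intro n
      rw [SModEq.zero]
      obtain ⟨r, hr⟩ := exists_sub_mem (maximalIdeal R) hfg n x
      have h4 : f r ∈ maximalIdeal A ^ n := by
        have h5 := hpowg n _ hr
        rw [map_sub, hx, zero_sub, hgι] at h5
        exact (Ideal.neg_mem_iff _).mp h5
      obtain ⟨i, hi, t, ht, hit⟩ := Submodule.mem_sup.mp (h3 n r h4)
      have h6 : Ideal.Quotient.mk J x = Ideal.Quotient.mk J (x - algebraMap R _ r +
          algebraMap R _ t) := by
        rw [Ideal.Quotient.mk_eq_mk_iff_sub_mem, hJ]
        have : x - (x - algebraMap R (AdicCompletion (maximalIdeal R) R) r +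
            algebraMap R _ t) = algebraMap R _ i := by
          rw [← hit, map_add]
          ring
        rw [this]
        exact Ideal.mem_map_of_mem _ hi
      rw [h6]
      have h7 : x - algebraMap R (AdicCompletion (maximalIdeal R) R) r + algebraMap R _ t ∈
          maximalIdeal (AdicCompletion (maximalIdeal R) R) ^ n := by
        rw [AdicCompletion.maximalIdeal_eq_map, ← Ideal.map_pow]
        exact Ideal.add_mem _ hr (Ideal.mem_map_of_mem _ ht)
      have h8 : Ideal.Quotient.mk J (x - algebraMap R (AdicCompletion (maximalIdeal R) R) r +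
          algebraMap R _ t) = (x - algebraMap R (AdicCompletion (maximalIdeal R) R) r +
          algebraMap R _ t) • (1 : AdicCompletion (maximalIdeal R) R ⧸ J) := by
        rw [Algebra.smul_def, mul_one]
        rfl
      rw [h8]
      exact Submodule.smul_mem_smul h7 Submodule.mem_top
    · rw [Ideal.map_le_iff_le_comap]
      intro r hr
      rw [Ideal.mem_comap, RingHom.mem_ker, hgι]
      exact hr

theorem map_maximalIdeal_of_surjective {R A : Type u} [CommRing R] [CommRing A] [IsLocalRing R]
    [IsLocalRing A] (f : R →+* A) (hf : Function.Surjective f) :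
    (maximalIdeal R).map f = maximalIdeal A := by
  have hl : IsLocalHom f := IsLocalHom.of_surjective f hf
  apply le_antisymm
  · exact ((local_hom_TFAE f).out 0 2).mp hl
  · intro a ha
    obtain ⟨r, rfl⟩ := hf a
    apply Ideal.mem_map_of_mem
    rw [mem_maximalIdeal, mem_nonunits_iff] at ha ⊢
    exact fun h => ha (h.map f)

theorem exists_completion_hom_of_surjective {R A : Type u} [CommRing R] [CommRing A]
    [IsLocalRing R] [IsNoetherianRing R] [IsLocalRing A]
    [IsAdicComplete (maximalIdeal A) A] (f : R →+* A) (hf : Function.Surjective f) :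
    ∃ g : AdicCompletion (maximalIdeal R) R →+* A,
      g.comp (algebraMap R (AdicCompletion (maximalIdeal R) R)) = f ∧ Function.Surjective g ∧
        RingHom.ker g =
          (RingHom.ker f).map (algebraMap R (AdicCompletion (maximalIdeal R) R)) := by
  have h1 := map_maximalIdeal_of_surjective f hf
  apply exists_completion_hom f h1
  · exact Ideal.Quotient.mk_surjective.comp hf
  · intro n r hr
    rw [← h1, ← Ideal.map_pow] at hr
    obtain ⟨t, ht, htr⟩ := (Ideal.mem_map_iff_of_surjective f hf).mp hr
    rw [Submodule.mem_sup]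
    refine ⟨r - t, ?_, t, ht, by ring⟩
    rw [RingHom.mem_ker, map_sub, htr, sub_self]

theorem regular_iff_completion {R : Type u} [CommRing R] [IsLocalRing R] [IsNoetherianRing R]
    (I : Ideal R) (hI : I ≤ maximalIdeal R) :
    (∃ rs : List R, IsRegular R rs ∧ Ideal.ofList rs = I) ↔
      ∃ ys : List (AdicCompletion (maximalIdeal R) R),
        IsRegular (AdicCompletion (maximalIdeal R) R) ys ∧
          Ideal.ofList ys = I.map (algebraMap R (AdicCompletion (maximalIdeal R) R)) := by
  have hN : IsNoetherianRing (AdicCompletion (maximalIdeal R) R) :=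
    Groth.Agent.Lib.helper19.isNoetherianRing_adicCompletion R _
  have hI' : I.map (algebraMap R (AdicCompletion (maximalIdeal R) R)) ≤
      maximalIdeal (AdicCompletion (maximalIdeal R) R) := by
    rw [AdicCompletion.maximalIdeal_eq_map]
    exact Ideal.map_mono hI
  rw [Groth.Agent.Lib.Helper5.CIBC.exists_regular_iff_kr I hI,
    Groth.Agent.Lib.Helper5.CIBC.exists_regular_iff_kr _ hI']
  have hfl : (algebraMap R (AdicCompletion (maximalIdeal R) R)).Flat :=
    (inferInstance : Module.Flat R (AdicCompletion (maximalIdeal R) R))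
  constructor
  · intro h
    exact Groth.Agent.Lib.Helper5.Lci.isKoszulRegularIdeal_map_of_flat' _ hfl _ h
  · intro h
    have hff : Module.FaithfullyFlat R (AdicCompletion (maximalIdeal R) R) :=
      Module.FaithfullyFlat.of_flat_of_isLocalHom
    exact Groth.Agent.Lib.Helper5.KosDesc.isKoszulRegularIdeal_of_faithfullyFlat
      (B := AdicCompletion (maximalIdeal R) R) I h

end Groth.Agent.Lib.Helper5.IndPres
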