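import Groth.Prelude.Def_Pi1
import Groth.Agent.Lib.Helper5.IndPresA
import Groth.Agent.Lib.Helper5.IndPresB

/-!
# Independence of presentation: complete intersections and kernels of surjections from
regular local rings
-/

set_option autoImplicit false
universe u

namespace Groth.Agent.Lib.Helper5.IndPres

open IsLocalRing RingTheory.Sequence

theorem isRegularLocalRing_completion (R : Type u) [CommRing R] [IsRegularLocalRing R] :
    IsRegularLocalRing (AdicCompletion (maximalIdeal R) R) :=
  (Groth.Agent.Lib.Helper5.RegCompletion.adicCompletion_dim_and_regular R (maximalIdeal R)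
    (maximalIdeal.isMaximal R).ne_top).2.mp inferInstance

/-- two surjections from regular local rings onto a complete local ring: if one kernel is
generated by a regular sequence so is the other. -/
theorem exists_regular_ker_of_other {A R₁ R₂ : Type u} [CommRing A] [CommRing R₁] [CommRing R₂]
    [IsLocalRing A] [IsAdicComplete (maximalIdeal A) A]
    [IsRegularLocalRing R₁] [IsRegularLocalRing R₂]
    (π₁ : R₁ →+* A) (hπ₁ : Function.Surjective π₁) (π₂ : R₂ →+* A) (hπ₂ : Function.Surjective π₂)
    (rs : List R₁) (hrs : IsRegular R₁ rs) (hker : RingHom.ker π₁ = Ideal.ofList rs) :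
    ∃ ys : List R₂, IsRegular R₂ ys ∧ Ideal.ofList ys = RingHom.ker π₂ := by
  have hk₁ : RingHom.ker π₁ ≤ maximalIdeal R₁ := le_maximalIdeal (RingHom.ker_ne_top π₁)
  have hk₂ : RingHom.ker π₂ ≤ maximalIdeal R₂ := le_maximalIdeal (RingHom.ker_ne_top π₂)
  obtain ⟨g₁, -, hg₁s, hg₁k⟩ := exists_completion_hom_of_surjective π₁ hπ₁
  obtain ⟨g₂, -, hg₂s, hg₂k⟩ := exists_completion_hom_of_surjective π₂ hπ₂
  have hreg₁ := isRegularLocalRing_completion R₁
  have hreg₂ := isRegularLocalRing_completion R₂
  obtain ⟨ys, hys, hysk⟩ := (regular_iff_completion _ hk₁).mp ⟨rs, hrs, hker.symm⟩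
  obtain ⟨zs, hzs, hzsk⟩ := exists_regular_ker_complete g₁ hg₁s g₂ hg₂s ys hys
    (by rw [hg₁k, hysk])
  exact (regular_iff_completion _ hk₂).mpr ⟨zs, hzs, by rw [← hzsk, hg₂k]⟩

/-- S2169 -/
theorem ker_regular_of_isCompleteIntersection {A R : Type u} [CommRing A] [CommRing R]
    [IsNoetherianRing A] [IsLocalRing A] [IsAdicComplete (maximalIdeal A) A]
    [IsRegularLocalRing R] (f : R →+* A) (hf : Function.Surjective f)
    (hA : Pi1.IsCompleteIntersection A) :
    ∃ rs : List R, Ideal.ofList rs = RingHom.ker f ∧ IsRegular R rs := by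
  obtain ⟨B, i1, i2, rs, hmem, hreg, ⟨e⟩⟩ := hA
  let e0 : A ≃+* AdicCompletion (maximalIdeal A) A :=
    (AdicCompletion.ofAlgEquiv (maximalIdeal A)).toRingEquiv
  let πB : B →+* A := ((e0.trans e).symm.toRingHom).comp
    (Ideal.Quotient.mk (Ideal.span {r | r ∈ rs}))
  have hπB : Function.Surjective πB :=
    (e0.trans e).symm.surjective.comp Ideal.Quotient.mk_surjective
  have hker : RingHom.ker πB = Ideal.ofList rs := by
    ext x
    rw [RingHom.mem_ker]
    change (e0.trans e).symm (Ideal.Quotient.mk _ x) = 0 ↔ _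
    rw [map_eq_zero_iff _ (e0.trans e).symm.injective, Ideal.Quotient.eq_zero_iff_mem]
  obtain ⟨ys, hys, hysk⟩ := exists_regular_ker_of_other πB hπB f hf rs hreg hker
  exact ⟨ys, hysk, hys⟩

end Groth.Agent.Lib.Helper5.IndPres
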