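import Mathlib

set_option autoImplicit false
universe u

namespace Groth.Agent.Lib.Helper5.IrredNZD

theorem exists_annihilator_notMem {A : Type u} [CommRing A] [IsNoetherianRing A]
    (hdom : ∀ (m : Ideal A) [m.IsMaximal], IsDomain (Localization.AtPrime m))
    (s : A) (m : Ideal A) [hm : m.IsMaximal]
    (hI : LinearMap.ker (LinearMap.mulRight A s) ≤ m) :
    ∃ v ∈ (LinearMap.ker (LinearMap.mulRight A s)).annihilator, v ∉ m := by
  classical
  let I : Ideal A := LinearMap.ker (LinearMap.mulRight A s)
  have hdm := hdom m
  have hs : algebraMap A (Localization.AtPrime m) s ≠ 0 := by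
    intro h0
    obtain ⟨u, hu⟩ := (IsLocalization.map_eq_zero_iff m.primeCompl (Localization.AtPrime m) s).1 h0
    have : (u : A) ∈ I := by
      change (u : A) * s = 0
      exact hu
    exact u.2 (hI this)
  have hx : ∀ x ∈ I, ∃ v : m.primeCompl, (v : A) * x = 0 := by
    intro x hx
    have h1 : algebraMap A (Localization.AtPrime m) x * algebraMap A (Localization.AtPrime m) s
        = 0 := by
      rw [← map_mul]
      have : x * s = 0 := hx
      rw [this, map_zero]
    have h2 : algebraMap A (Localization.AtPrime m) x = 0 :=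
      (mul_eq_zero.1 h1).resolve_right hs
    exact (IsLocalization.map_eq_zero_iff m.primeCompl (Localization.AtPrime m) x).1 h2
  obtain ⟨t, ht⟩ : I.FG := IsNoetherian.noetherian I
  have hxt : ∀ x : A, ∃ v : m.primeCompl, x ∈ I → (v : A) * x = 0 := by
    intro x
    by_cases hxI : x ∈ I
    · obtain ⟨v, hv⟩ := hx x hxI
      exact ⟨v, fun _ => hv⟩
    · exact ⟨1, fun h => absurd h hxI⟩
  choose v hv using hxt
  refine ⟨∏ x ∈ t, (v x : A), ?_, ?_⟩
  · rw [Submodule.mem_annihilator]
    intro n hn
    have hn' : n ∈ Ideal.span (t : Set A) := by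
      rw [ht]
      exact hn
    refine Submodule.span_induction ?_ ?_ ?_ ?_ hn'
    · intro x hxt
      have hxI : x ∈ I := by
        rw [← ht]
        exact Submodule.subset_span hxt
      rw [smul_eq_mul, ← Finset.mul_prod_erase t _ hxt, mul_comm (v x : A), mul_assoc, hv x hxI,
        mul_zero]
    · rw [smul_zero]
    · intro x y _ _ hx hy
      rw [smul_add, hx, hy, add_zero]
    · intro a x _ hx
      rw [smul_comm, hx, smul_zero]
  · exact Submonoid.prod_mem m.primeCompl fun x _ => (v x).2

theorem mem_nonZeroDivisors_of_irreducible {A : Type u} [CommRing A] [IsNoetherianRing A]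
    (hdom : ∀ (m : Ideal A) [m.IsMaximal], IsDomain (Localization.AtPrime m))
    (s : A) (hs : Irreducible s) : s ∈ nonZeroDivisors A := by
  let I : Ideal A := LinearMap.ker (LinearMap.mulRight A s)
  have hsum : I ⊔ I.annihilator = ⊤ := by
    by_contra hne
    obtain ⟨m, hm, hle⟩ := Ideal.exists_le_maximal _ hne
    obtain ⟨v, hv, hvm⟩ := exists_annihilator_notMem hdom s m (le_sup_left.trans hle)
    exact hvm (hle (Submodule.mem_sup_right hv))
  obtain ⟨a, ha, b, hb, hab⟩ := Submodule.mem_sup.1 (hsum ▸ (Submodule.mem_top : (1 : A) ∈ ⊤))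
  have has : a * s = 0 := ha
  have hba : b * a = 0 := (Submodule.mem_annihilator.1 hb) a ha
  have ha2 : a * a = a := by
    have : a * (a + b) = a := by rw [hab, mul_one]
    rw [mul_add, mul_comm a b, hba, add_zero] at this
    exact this
  have hb1 : b = 1 - a := by rw [← hab]; ring
  have hb2 : b * b = b := by
    rw [hb1]
    ring_nf
    rw [pow_two, ha2]
    ring
  have hfac : s = (s + a) * b := by
    rw [hb1]
    have : (s + a) * (1 - a) = s - a * s + a - a * a := by ring
    rw [this, has, ha2]
    ring
  have hbunit : IsUnit b := by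
    rcases hs.isUnit_or_isUnit hfac with h | h
    · have hfac2 : s = ((s + a) * b) * b := by
        rw [mul_assoc, hb2]
        exact hfac
      rcases hs.isUnit_or_isUnit hfac2 with h' | h'
      · exact isUnit_of_mul_isUnit_right h'
      · exact h'
    · exact h
  have hb_one : b = 1 := by
    have : b * b = b * 1 := by rw [hb2, mul_one]
    exact hbunit.mul_left_cancel this
  have ha0 : a = 0 := by
    rw [hb_one] at hba
    simpa using hba
  rw [mem_nonZeroDivisors_iff_right]
  intro x hx
  have hxI : x ∈ I := hx
  have := (Submodule.mem_annihilator.1 hb) x hxI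
  rw [hb_one, one_smul] at this
  exact this

end Groth.Agent.Lib.Helper5.IrredNZD
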