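import Mathlib

set_option autoImplicit false
set_option linter.unusedSectionVars false
universe u

open TensorProduct KaehlerDifferential MvPolynomial Algebra

namespace Groth.Agent.Lib.Helper5.JZNat

variable {R S T T' : Type u} [CommRing R] [CommRing S] [CommRing T] [CommRing T'] [Algebra R S]
  [Algebra S T] [Algebra S T'] [Algebra T T'] [IsScalarTower S T T'] [Algebra R T] [Algebra R T']
  [IsScalarTower R S T] [IsScalarTower R S T']

variable (S T T') in
/-- the renaming map between the canonical families of generators. -/
noncomputable def renameHom : (Generators.self S T).Hom (Generators.self S T') where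
  val i := X (algebraMap T T' i)
  aeval_val i := by
    rw [aeval_X]
    rfl

variable (R S T T') in
/-- the change of coefficients on the target of the connecting map. -/
noncomputable def phi : T ⊗[S] Ω[S⁄R] →ₗ[T] T' ⊗[S] Ω[S⁄R] :=
  TensorProduct.AlgebraTensorModule.map (Algebra.linearMap T T') LinearMap.id

theorem phi_tmul (t : T) (ω : Ω[S⁄R]) :
    phi R S T T' (t ⊗ₜ[S] ω) = algebraMap T T' t ⊗ₜ[S] ω := rfl

theorem δAux_rename (x : (Generators.self S T).Ring) :
    Generators.H1Cotangent.δAux R (Generators.self S T') ((renameHom S T T').toAlgHom x) =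
      phi R S T T' (Generators.H1Cotangent.δAux R (Generators.self S T) x) := by
  induction x using MvPolynomial.induction_on with
  | C s =>
    rw [Generators.Hom.toAlgHom_C]
    change Generators.H1Cotangent.δAux R (Generators.self S T') (C s) = _
    rw [Generators.H1Cotangent.δAux_C, Generators.H1Cotangent.δAux_C, phi_tmul, map_one]
  | add p q hp hq => rw [map_add, map_add, map_add, map_add, hp, hq]
  | mul_X p n hp =>
    have hX' : Generators.H1Cotangent.δAux R (Generators.self S T')
        ((renameHom S T T').val n) = 0 := Generators.H1Cotangent.δAux_X _ _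
    have h1 : algebraMap (Generators.self S T').Ring T' ((renameHom S T T').val n) =
        algebraMap T T' n := by
      change aeval (Generators.self S T').val (X (algebraMap T T' n)) = _
      rw [aeval_X]
      rfl
    have h2 : algebraMap (Generators.self S T).Ring T (X n) = n := by
      change aeval (Generators.self S T).val (X n) = _
      rw [aeval_X]
      rfl
    rw [map_mul, Generators.Hom.toAlgHom_X, Generators.H1Cotangent.δAux_mul,
      Generators.H1Cotangent.δAux_mul, hp, hX', Generators.H1Cotangent.δAux_X, smul_zero,
      smul_zero, zero_add, zero_add,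
      ← @IsScalarTower.algebraMap_smul (Generators.self S T').Ring T',
      ← @IsScalarTower.algebraMap_smul (Generators.self S T).Ring T, map_smul, h1, h2,
      ← @IsScalarTower.algebraMap_smul T T']

/-- naturality of the connecting map of the Jacobi–Zariski sequence in the top algebra. -/
theorem δ_map (x : Algebra.H1Cotangent S T) :
    Algebra.H1Cotangent.δ R S T' (Algebra.H1Cotangent.map S S T T' x) =
      phi R S T T' (Algebra.H1Cotangent.δ R S T x) := by
  have hmap : Algebra.H1Cotangent.map S S T T' =
      Extension.H1Cotangent.map (renameHom S T T').toExtensionHom :=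
    Extension.H1Cotangent.map_eq _ _
  rw [hmap]
  obtain ⟨x, hx⟩ := x
  obtain ⟨⟨y, hy⟩, rfl⟩ := Extension.Cotangent.mk_surjective x
  unfold Algebra.H1Cotangent.δ
  change Generators.H1Cotangent.δ _ _ ⟨_, _⟩ =
    phi _ _ _ _ (Generators.H1Cotangent.δ _ _ ⟨_, _⟩)
  simp only [LinearMap.domRestrict_apply, Extension.Cotangent.map_mk,
    Generators.H1Cotangent.δ_eq_δAux]
  exact δAux_rename (R := R) (S := S) (T := T) (T' := T') y

end Groth.Agent.Lib.Helper5.JZNat
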