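import Mathlib
import Groth.Prelude.Def_CAlgX
import Groth.Agent.Lib.Helper29.H1Alg

set_option autoImplicit false
universe u

namespace Groth.Agent.Lib.Helper5.Jac

open TensorProduct Module

section LinAlg

variable {S : Type u} [CommRing S] {K : Type u} [Field K] [Algebra S K]
  {C F Q : Type u} [AddCommGroup C] [Module S C] [AddCommGroup F] [Module S F]
  [AddCommGroup Q] [Module S Q] [Module.Free S F] [Module.Finite S F]
  (φ : C →ₗ[S] F) (ψ : F →ₗ[S] Q)

include ψ in
theorem finrank_eq_add (hex : Function.Exact φ ψ) (hψ : Function.Surjective ψ) :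
    finrank S F = finrank K (K ⊗[S] Q) + finrank K (LinearMap.range (φ.baseChange K)) := by
  have hex' : Function.Exact (φ.baseChange K) (ψ.baseChange K) := by
    have := lTensor_exact K hex hψ
    intro y
    have h2 := this y
    simpa [LinearMap.baseChange_eq_ltensor] using h2
  have hsurj : Function.Surjective (ψ.baseChange K) := by
    have := LinearMap.lTensor_surjective K hψ
    intro y
    obtain ⟨z, hz⟩ := this y
    exact ⟨z, by simpa [LinearMap.baseChange_eq_ltensor] using hz⟩
  have : Nontrivial S := (algebraMap S K).domain_nontrivial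
  have h1 := LinearMap.finrank_range_add_finrank_ker (ψ.baseChange K)
  rw [LinearMap.range_eq_top.mpr hsurj, finrank_top,
    Module.finrank_baseChange (R := K) (S := S) (M' := F)] at h1
  rw [← h1, LinearMap.exact_iff.mp hex']

theorem injective_baseChange_of_finrank_le (hex : Function.Exact φ ψ) (hψ : Function.Surjective ψ)
    {c : ℕ} (x : Fin c → C) (hx : Submodule.span S (Set.range x) = ⊤)
    (h : finrank K (K ⊗[S] Q) + c ≤ finrank S F) : Function.Injective (φ.baseChange K) := by
  classical
  have hfin : Module.Finite S C := ⟨⟨Finset.univ.image x, by simpa using hx⟩⟩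
  have h1 := finrank_eq_add (K := K) φ ψ hex hψ
  have h2 := LinearMap.finrank_range_add_finrank_ker (φ.baseChange K)
  have h3 : finrank K (K ⊗[S] C) ≤ c := by
    have hspan : Submodule.span K (Set.range fun i => (1 : K) ⊗ₜ[S] x i) = ⊤ := by
      have : (Set.range fun i => (1 : K) ⊗ₜ[S] x i) = TensorProduct.mk S K C 1 '' Set.range x := by
        rw [← Set.range_comp]; rfl
      rw [this, ← Submodule.baseChange_span, hx, Submodule.baseChange_top]
    have := finrank_range_le_card (R := K) (fun i => (1 : K) ⊗ₜ[S] x i)
    rw [Set.finrank, hspan, finrank_top, Fintype.card_fin] at this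
    exact this
  have h4 : finrank K (LinearMap.ker (φ.baseChange K)) = 0 := by omega
  rw [← LinearMap.ker_eq_bot]
  exact Submodule.finrank_eq_zero.mp h4

theorem finrank_add_of_injective (hex : Function.Exact φ ψ) (hψ : Function.Surjective ψ)
    {c : ℕ} (b : Basis (Fin c) S C) (h : Function.Injective (φ.baseChange K)) :
    finrank K (K ⊗[S] Q) + c = finrank S F := by
  have : Nontrivial S := (algebraMap S K).domain_nontrivial
  have : Module.Free S C := Module.Free.of_basis b
  have : Module.Finite S C := Module.Finite.of_basis b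
  have h1 := finrank_eq_add (K := K) φ ψ hex hψ
  have h2 : finrank K (LinearMap.range (φ.baseChange K)) = c := by
    rw [LinearMap.finrank_range_of_inj h, Module.finrank_baseChange (R := K) (S := S) (M' := C),
      Module.finrank_eq_card_basis b, Fintype.card_fin]
  omega

end LinAlg

section Ext

open Algebra.Extension KaehlerDifferential IsLocalRing

variable {R S : Type u} [CommRing R] [CommRing S] [Algebra R S] (P : Algebra.Extension.{u} R S)

theorem linearIndependent_cotangent_mk {c : ℕ} (g : Fin c → P.Ring) (hreg : CAlgX.IsH1Regular g)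
    (hker : Ideal.span (Set.range g) = P.ker) :
    LinearIndependent S (fun i => Cotangent.mk (P := P)
      ⟨g i, hker.le (Ideal.subset_span ⟨i, rfl⟩)⟩) := by
  rw [Fintype.linearIndependent_iff]
  intro s hs i
  choose p hp using fun i => P.algebraMap_surjective (s i)
  have hmem : ∀ i, g i ∈ P.ker := fun i => hker.le (Ideal.subset_span ⟨i, rfl⟩)
  have h1 : ∑ i, s i • Cotangent.mk (P := P) ⟨g i, hmem i⟩ =
      Cotangent.mk (P := P) (∑ i, p i • (⟨g i, hmem i⟩ : P.ker)) := by
    rw [map_sum]
    refine Finset.sum_congr rfl fun i _ => ?_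
    rw [map_smul, ← hp i, algebraMap_smul]
  rw [h1, Cotangent.mk_eq_zero_iff] at hs
  have h2 : ((∑ i, p i • (⟨g i, hmem i⟩ : P.ker) : P.ker) : P.Ring) = ∑ i, p i * g i := by
    rw [Submodule.coe_sum]
    rfl
  rw [h2, pow_two, ← hker] at hs
  have h3 := Groth.Agent.Lib.Helper29.H1Alg.coeff_mem_of_sum_mem_sq g hreg p hs i
  rw [hker] at h3
  rw [← hp i]
  exact (RingHom.mem_ker).mp h3

theorem formallySmooth_iff_finrank [IsLocalRing S] [Algebra.FormallySmooth R P.Ring]
    [Module.Free P.Ring Ω[P.Ring⁄R]] [Module.Finite P.Ring Ω[P.Ring⁄R]]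
    {c : ℕ} (g : Fin c → P.Ring) (hreg : CAlgX.IsH1Regular g)
    (hker : Ideal.span (Set.range g) = P.ker) :
    Algebra.FormallySmooth R S ↔
      finrank (ResidueField S) (ResidueField S ⊗[S] Ω[S⁄R]) + c ≤ finrank P.Ring Ω[P.Ring⁄R] := by
  have hfg : P.ker.FG := by
    classical
    rw [← hker]
    exact ⟨Finset.univ.image g, by simp⟩
  have hmem : ∀ i, g i ∈ P.ker := fun i => hker.le (Ideal.subset_span ⟨i, rfl⟩)
  have hspan := Cotangent.span_eq_top_of_span_eq_ker (P := P) g hker
  have : Nontrivial P.Ring := (algebraMap P.Ring S).domain_nontrivial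
  have hrank : finrank S P.CotangentSpace = finrank P.Ring Ω[P.Ring⁄R] :=
    Module.finrank_baseChange (R := S) (S := P.Ring) (M' := Ω[P.Ring⁄R])
  rw [Algebra.FormallySmooth.iff_injective_lTensor_residueField P hfg, ← hrank]
  have hfun : (P.cotangentComplex.lTensor (ResidueField S) : _ → _) =
      P.cotangentComplex.baseChange (ResidueField S) :=
    (LinearMap.baseChange_eq_ltensor _).symm
  rw [hfun]
  constructor
  · intro h
    let b : Basis (Fin c) S P.Cotangent :=
      Basis.mk (linearIndependent_cotangent_mk P g hreg hker) hspan.ge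
    exact (finrank_add_of_injective (K := ResidueField S) P.cotangentComplex P.toKaehler
      P.exact_cotangentComplex_toKaehler P.toKaehler_surjective b h).le
  · intro h
    exact injective_baseChange_of_finrank_le (K := ResidueField S) P.cotangentComplex P.toKaehler
      P.exact_cotangentComplex_toKaehler P.toKaehler_surjective _ hspan h

end Ext

end Groth.Agent.Lib.Helper5.Jac
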