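import Mathlib
import Groth.Prelude.Def_CAlgX
import Groth.Agent.Lib.Helper5.JacA
import Groth.Agent.Lib.Helper5.SmQuotH
import Groth.Agent.Lib.Helper5.KSynC

set_option autoImplicit false
universe u

namespace Groth.Agent.Lib.Helper5.Jac

open TensorProduct Module KaehlerDifferential IsLocalRing

theorem formallySmooth_iff_finrank' {R P S : Type u} [CommRing R] [CommRing P] [CommRing S]
    [Algebra R P] [Algebra P S] [Algebra R S] [IsScalarTower R P S] [IsLocalRing S]
    [Algebra.FormallySmooth R P] [Module.Free P Ω[P⁄R]] [Module.Finite P Ω[P⁄R]]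
    (h₁ : Function.Surjective (algebraMap P S)) {c : ℕ} (g : Fin c → P)
    (hreg : CAlgX.IsH1Regular g)
    (hker : Ideal.span (Set.range g) = RingHom.ker (algebraMap P S)) :
    Algebra.FormallySmooth R S ↔
      finrank (ResidueField S) (ResidueField S ⊗[S] Ω[S⁄R]) + c ≤ finrank P Ω[P⁄R] := by
  let P' : Algebra.Extension.{u} R S :=
    { Ring := P, σ := _, algebraMap_σ := Function.surjInv_eq h₁ }
  exact formallySmooth_iff_finrank P' g hreg hker

theorem isSmoothAt_iff_finrank {A P B : Type u} [CommRing A] [CommRing P] [CommRing B]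
    [Algebra A P] [Algebra P B] [Algebra A B] [IsScalarTower A P B]
    [Algebra.FormallySmooth A P] [Module.Finite P Ω[P⁄A]]
    (hsurj : Function.Surjective (algebraMap P B))
    {c : ℕ} (g : Fin c → P) (hker : RingHom.ker (algebraMap P B) = Ideal.span (Set.range g))
    (q : Ideal B) [q.IsPrime] (q' : Ideal P) [q'.IsPrime] (hq : q' = q.comap (algebraMap P B))
    (hreg : CAlgX.IsH1Regular (fun i => algebraMap P (Localization.AtPrime q') (g i))) :
    Algebra.IsSmoothAt A q ↔
      finrank q.ResidueField (q.ResidueField ⊗[B] Ω[B⁄A]) + c ≤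
        Module.rankAtStalk Ω[P⁄A] ⟨q', inferInstance⟩ := by
  have hf : Function.Surjective (Localization.localRingHom q' q (algebraMap P B) hq) :=
    Groth.Agent.Lib.Helper5.KSyn.localRingHom_surjective (algebraMap P B) hsurj q' q hq
  let _ : Algebra (Localization.AtPrime q') (Localization.AtPrime q) :=
    (Localization.localRingHom q' q (algebraMap P B) hq).toAlgebra
  have : IsScalarTower A (Localization.AtPrime q') (Localization.AtPrime q) :=
    IsScalarTower.of_algebraMap_eq fun r => by
      rw [RingHom.algebraMap_toAlgebra,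
        IsScalarTower.algebraMap_apply A P (Localization.AtPrime q'),
        Localization.localRingHom_to_map,
        IsScalarTower.algebraMap_apply A B (Localization.AtPrime q),
        IsScalarTower.algebraMap_apply A P B]
  have : Algebra.FormallyEtale P (Localization.AtPrime q') := .of_isLocalization q'.primeCompl
  have : Algebra.FormallySmooth A (Localization.AtPrime q') := .comp _ P _
  let e' : Localization.AtPrime q' ⊗[P] Ω[P⁄A] ≃ₗ[Localization.AtPrime q']
      Ω[Localization.AtPrime q'⁄A] :=
    KaehlerDifferential.tensorKaehlerEquivOfFormallyEtale A P (Localization.AtPrime q')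
  have : Module.Finite (Localization.AtPrime q') Ω[Localization.AtPrime q'⁄A] :=
    Module.Finite.equiv e'
  have : Module.Free (Localization.AtPrime q') Ω[Localization.AtPrime q'⁄A] :=
    Module.free_of_flat_of_isLocalRing
  have hkerExt : Ideal.span (Set.range (fun i => algebraMap P (Localization.AtPrime q') (g i))) =
      RingHom.ker (algebraMap (Localization.AtPrime q') (Localization.AtPrime q)) := by
    rw [RingHom.algebraMap_toAlgebra,
      Groth.Agent.Lib.Helper5.SmQuot.ker_localRingHom_eq_map _ hsurj q' q hq, hker, Ideal.map_span,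
      ← Set.range_comp]
    rfl
  have key := formallySmooth_iff_finrank' (R := A) (P := Localization.AtPrime q')
    (S := Localization.AtPrime q) hf _ hreg hkerExt
  have hN : finrank (Localization.AtPrime q') Ω[Localization.AtPrime q'⁄A] =
      Module.rankAtStalk Ω[P⁄A] ⟨q', inferInstance⟩ := by
    rw [Module.rankAtStalk_eq_finrank_tensorProduct]
    exact e'.finrank_eq.symm
  have : Algebra.FormallyEtale B (Localization.AtPrime q) := .of_isLocalization q.primeCompl
  let e₁ : Localization.AtPrime q ⊗[B] Ω[B⁄A] ≃ₗ[Localization.AtPrime q]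
      Ω[Localization.AtPrime q⁄A] :=
    KaehlerDifferential.tensorKaehlerEquivOfFormallyEtale A B (Localization.AtPrime q)
  let e₂ : q.ResidueField ⊗[Localization.AtPrime q] Ω[Localization.AtPrime q⁄A] ≃ₗ[q.ResidueField]
      q.ResidueField ⊗[B] Ω[B⁄A] :=
    (TensorProduct.AlgebraTensorModule.congr (LinearEquiv.refl q.ResidueField q.ResidueField)
      e₁.symm) ≪≫ₗ
    TensorProduct.AlgebraTensorModule.cancelBaseChange B (Localization.AtPrime q)
      q.ResidueField q.ResidueField Ω[B⁄A]
  rw [← hN, ← e₂.finrank_eq]
  exact key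

end Groth.Agent.Lib.Helper5.Jac
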