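import Mathlib
import Groth.Agent.Lib.Helper23.Fitting3

set_option autoImplicit false
universe u

namespace Groth.Agent.Lib.Helper5.Jac

open TensorProduct Module

section ExtPow

variable {R : Type u} [CommRing R] {M : Type u} [AddCommGroup M] [Module R M]

theorem span_one_tmul_eq_top (K : Type u) [CommRing K] [Algebra R K] :
    Submodule.span K (Set.range (TensorProduct.mk R K M 1)) = ⊤ := by
  rw [← Set.image_univ, ← Submodule.baseChange_span, Submodule.span_univ, Submodule.baseChange_top]

theorem ιMulti_eq_zero_of_lt [Nontrivial R] {d n : ℕ} (h : d < n) (w : Fin n → (Fin d → R)) :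
    ExteriorAlgebra.ιMulti R n w = 0 := by
  have h0 : Module.finrank R (⋀[R]^n (Fin d → R)) = 0 := by
    rw [exteriorPower.finrank_eq, Module.finrank_fin_fun, Nat.choose_eq_zero_of_lt h]
  have hs : Subsingleton (⋀[R]^n (Fin d → R)) := (Module.finrank_eq_zero_iff_of_free R _).mp h0
  have h1 := Subsingleton.elim (exteriorPower.ιMulti R n w) 0
  have h2 := congrArg Subtype.val h1
  simpa using h2

theorem pow_smul_eq_zero [Nontrivial R] {d n : ℕ} (h : d < n) (m : Fin d → M) (s : R)
    (hs : ∀ x : M, s • x ∈ Submodule.span R (Set.range m)) (y : ExteriorAlgebra R M)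
    (hy : y ∈ ⋀[R]^n M) : s ^ n • y = 0 := by
  rw [← exteriorPower.ιMulti_span_fixedDegree] at hy
  induction hy using Submodule.span_induction with
  | mem y hy =>
    obtain ⟨v, rfl⟩ := hy
    have h1 : s ^ n • ExteriorAlgebra.ιMulti R n v =
        ExteriorAlgebra.ιMulti R n (fun i => s • v i) := by
      rw [AlternatingMap.map_smul_univ]
      simp
    rw [h1]
    have hw : ∀ i, ∃ w : Fin d → R, Fintype.linearCombination R m w = s • v i := fun i => by
      have := hs (v i)
      rw [← Fintype.range_linearCombination] at this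
      exact this
    choose w hw using hw
    have h2 : (fun i => s • v i) = (Fintype.linearCombination R m) ∘ w := by
      funext i
      exact (hw i).symm
    rw [h2, ← ExteriorAlgebra.map_apply_ιMulti, ιMulti_eq_zero_of_lt h, map_zero]
  | zero => simp
  | add a b _ _ ha hb => rw [smul_add, ha, hb, add_zero]
  | smul r a _ ha => rw [smul_comm, ha, smul_zero]

theorem exists_smul_mem_span [Module.Finite R M] (p : Ideal R) [p.IsPrime] :
    ∃ (d : ℕ) (m : Fin d → M) (s : R), d = finrank p.ResidueField (p.ResidueField ⊗[R] M) ∧
      s ∉ p ∧ ∀ x : M, s • x ∈ Submodule.span R (Set.range m) := by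
  obtain ⟨f, hfS, hfspan, -⟩ := Submodule.exists_fun_fin_finrank_span_eq p.ResidueField
    (Set.range (TensorProduct.mk R p.ResidueField M 1))
  have hd : finrank p.ResidueField (Submodule.span p.ResidueField
      (Set.range (TensorProduct.mk R p.ResidueField M 1))) =
      finrank p.ResidueField (p.ResidueField ⊗[R] M) := by
    rw [span_one_tmul_eq_top, finrank_top]
  have hftop : Submodule.span p.ResidueField (Set.range f) = ⊤ := by
    rw [hfspan]
    exact span_one_tmul_eq_top p.ResidueField
  choose m hm using hfS
  refine ⟨_, m, ?_⟩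
  have hsub : Subsingleton (p.ResidueField ⊗[R] (M ⧸ Submodule.span R (Set.range m))) := by
    have hsurj : Function.Surjective
        ((Submodule.span R (Set.range m)).mkQ.baseChange p.ResidueField) := by
      have := LinearMap.lTensor_surjective p.ResidueField
        (Submodule.mkQ_surjective (Submodule.span R (Set.range m)))
      intro y
      obtain ⟨z, hz⟩ := this y
      exact ⟨z, by simpa [LinearMap.baseChange_eq_ltensor] using hz⟩
    have hker : LinearMap.ker ((Submodule.span R (Set.range m)).mkQ.baseChange p.ResidueField) =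
        ⊤ := by
      rw [eq_top_iff, ← hftop, Submodule.span_le]
      rintro _ ⟨i, rfl⟩
      have hmi : (Submodule.span R (Set.range m)).mkQ (m i) = 0 := by
        rw [Submodule.mkQ_apply, Submodule.Quotient.mk_eq_zero]
        exact Submodule.subset_span ⟨i, rfl⟩
      rw [SetLike.mem_coe, LinearMap.mem_ker, ← hm i, TensorProduct.mk_apply,
        LinearMap.baseChange_tmul, hmi, TensorProduct.tmul_zero]
    refine ⟨fun a b => ?_⟩
    obtain ⟨a', rfl⟩ := hsurj a
    obtain ⟨b', rfl⟩ := hsurj b
    have ha : a' ∈ LinearMap.ker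
        ((Submodule.span R (Set.range m)).mkQ.baseChange p.ResidueField) := by
      rw [hker]; trivial
    have hb : b' ∈ LinearMap.ker
        ((Submodule.span R (Set.range m)).mkQ.baseChange p.ResidueField) := by
      rw [hker]; trivial
    rw [LinearMap.mem_ker.mp ha, LinearMap.mem_ker.mp hb]
  have hsupp : (⟨p, inferInstance⟩ : PrimeSpectrum R) ∉
      Module.support R (M ⧸ Submodule.span R (Set.range m)) := by
    rw [Module.mem_support_iff_nontrivial_residueField_tensorProduct]
    exact not_nontrivial _
  rw [Module.mem_support_iff_of_finite] at hsupp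
  obtain ⟨s, hs, hsp⟩ := SetLike.not_le_iff_exists.mp hsupp
  refine ⟨s, hd, hsp, fun x => ?_⟩
  have := (Module.mem_annihilator.mp hs) (Submodule.Quotient.mk x)
  rw [← Submodule.Quotient.mk_smul, Submodule.Quotient.mk_eq_zero] at this
  exact this

noncomputable def detForm {K : Type u} [Field K] [Algebra R K] (n : ℕ)
    (L : M →ₗ[R] (Fin n → K)) : M [⋀^Fin n]→ₗ[R] K :=
  { ((Matrix.detRowAlternating (R := K) (n := Fin n)).toMultilinearMap.restrictScalars
      R).compLinearMap (fun _ => L) with
    map_eq_zero_of_eq' := fun v i j h hij => by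
      change Matrix.detRowAlternating (fun k => L (v k)) = 0
      exact AlternatingMap.map_eq_zero_of_eq _ _ (by rw [h]) hij }

theorem detForm_apply {K : Type u} [Field K] [Algebra R K] (n : ℕ)
    (L : M →ₗ[R] (Fin n → K)) (v : Fin n → M) :
    detForm n L v = Matrix.det (fun k => L (v k)) := rfl

theorem finrank_lt_of_annihilator_not_le [Module.Finite R M] (n : ℕ) (p : Ideal R) [p.IsPrime]
    (h : ¬ (⋀[R]^n M).annihilator ≤ p) :
    finrank p.ResidueField (p.ResidueField ⊗[R] M) < n := by
  by_contra hlt
  rw [not_lt] at hlt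
  obtain ⟨s, hs, hsp⟩ := SetLike.not_le_iff_exists.mp h
  let b := Module.finBasis p.ResidueField (p.ResidueField ⊗[R] M)
  let ℓ : p.ResidueField ⊗[R] M →ₗ[p.ResidueField] (Fin n → p.ResidueField) :=
    (LinearMap.funLeft p.ResidueField p.ResidueField (Fin.castLE hlt)) ∘ₗ b.equivFun.toLinearMap
  have hℓ : Function.Surjective ℓ :=
    (LinearMap.funLeft_surjective_of_injective (R := p.ResidueField) (M := p.ResidueField) _
      (Fin.castLE_injective hlt)).comp
      b.equivFun.surjective
  let L : M →ₗ[R] (Fin n → p.ResidueField) :=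
    (ℓ.restrictScalars R) ∘ₗ (TensorProduct.mk R p.ResidueField M 1)
  let Φ := exteriorPower.alternatingMapLinearEquiv (detForm n L)
  have hs0 : algebraMap R p.ResidueField s ≠ 0 := by
    intro h0
    apply hsp
    rw [← Ideal.ker_algebraMap_residueField p]
    exact (RingHom.mem_ker).mpr h0
  have hdet : ∀ v : Fin n → M, Matrix.det (fun k => L (v k)) = 0 := by
    intro v
    have h1 : s • exteriorPower.ιMulti R n v = 0 := by
      apply Subtype.ext
      exact (Submodule.mem_annihilator.mp hs) _ (exteriorPower.ιMulti R n v).2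
    have h2 : s • Φ (exteriorPower.ιMulti R n v) = 0 := by
      rw [← map_smul, h1, map_zero]
    rw [exteriorPower.alternatingMapLinearEquiv_apply_ιMulti, detForm_apply, Algebra.smul_def]
      at h2
    exact (mul_eq_zero.mp h2).resolve_left hs0
  have hspan : Submodule.span p.ResidueField (Set.range L) = ⊤ := by
    have : Set.range L = ℓ '' Set.range (TensorProduct.mk R p.ResidueField M 1) := by
      rw [← Set.range_comp]
      rfl
    rw [this, Submodule.span_image, span_one_tmul_eq_top, Submodule.map_top,
      LinearMap.range_eq_top.mpr hℓ]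
  have hall := Helper23.Fit.multilinear_span (R := p.ResidueField)
    (Matrix.detRowAlternating (R := p.ResidueField) (n := Fin n)).toMultilinearMap
    (Set.range L) ⊥ (by
      intro v hv
      choose w hw using hv
      rw [Submodule.mem_bot]
      have : v = fun k => L (w k) := by funext k; exact (hw k).symm
      rw [this]
      exact hdet w)
  have h1 := hall (fun i => Pi.single i 1) (fun i => by rw [hspan]; trivial)
  rw [Submodule.mem_bot] at h1
  have h2 : Matrix.det (1 : Matrix (Fin n) (Fin n) p.ResidueField) = 0 := by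
    rw [← h1]
    change _ = Matrix.det _
    congr 1
    ext i j
    simp [Matrix.one_apply, Pi.single_apply, eq_comm]
  rw [Matrix.det_one] at h2
  exact one_ne_zero h2

theorem annihilator_exteriorPower_le_iff [Module.Finite R M] (n : ℕ) (p : Ideal R) [p.IsPrime] :
    (⋀[R]^n M).annihilator ≤ p ↔ n ≤ finrank p.ResidueField (p.ResidueField ⊗[R] M) := by
  constructor
  · intro h
    by_contra hlt
    rw [not_le] at hlt
    have : Nontrivial R := ⟨⟨0, 1, fun h01 => by
      apply Ideal.IsPrime.ne_top (I := p) inferInstance
      rw [Ideal.eq_top_iff_one, ← h01]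
      exact zero_mem _⟩⟩
    obtain ⟨d, m, s, hd, hsp, hsm⟩ := exists_smul_mem_span (M := M) p
    have hmem : s ^ n ∈ (⋀[R]^n M).annihilator := by
      rw [Submodule.mem_annihilator]
      intro y hy
      exact pow_smul_eq_zero (hd ▸ hlt) m s hsm y hy
    exact hsp (Ideal.IsPrime.mem_of_pow_mem inferInstance n (h hmem))
  · intro h
    by_contra hle
    exact absurd (finrank_lt_of_annihilator_not_le n p hle) (not_lt.mpr h)

end ExtPow

end Groth.Agent.Lib.Helper5.Jac
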