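import Mathlib
import Groth.Agent.Lib.Helper29.OmegaLoc2
import Groth.Agent.Lib.Helper5.FittSheafB
import Groth.Agent.Lib.Helper23.Fitting8

set_option autoImplicit false
universe u

namespace Groth.Agent.Lib.Helper5.Jac

open AlgebraicGeometry CategoryTheory TensorProduct Module

theorem exists_smooth_iff_mem_smoothLocus {Y X : Scheme.{u}} (f : Y ⟶ X)
    [LocallyOfFinitePresentation f] (y : Y) :
    (∃ V : Y.Opens, y ∈ V ∧ Smooth (V.ι ≫ f)) ↔ y ∈ f.smoothLocus := by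
  constructor
  · rintro ⟨V, hyV, hsm⟩
    have h1 : (V.ι ≫ f).smoothLocus = ⊤ := Scheme.Hom.smoothLocus_eq_top _
    rw [← Scheme.Hom.preimage_smoothLocus_eq] at h1
    have h2 : (⟨y, hyV⟩ : V) ∈ V.ι ⁻¹ᵁ f.smoothLocus := by rw [h1]; trivial
    exact h2
  · intro hy
    refine ⟨f.smoothLocus, hy, ?_⟩
    rw [← Scheme.Hom.smoothLocus_eq_top_iff, ← Scheme.Hom.preimage_smoothLocus_eq]
    rw [eq_top_iff]
    intro x _
    exact x.2

theorem mem_smoothLocus_iff_fitt {Y X : Scheme.{u}} (f : Y ⟶ X)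
    [LocallyOfFinitePresentation f] [QuasiSeparated f] (m : ℕ)
    {D : Y.Opens} (hD : IsAffineOpen D) {V : X.Opens} (hV : IsAffineOpen V) (e : D ≤ f ⁻¹ᵁ V)
    (y : Y) (hy : y ∈ D)
    (H : let := (f.appLE V D e).hom.toAlgebra
      Algebra.IsSmoothAt Γ(X, V) (hD.primeIdealOf ⟨y, hy⟩).asIdeal ↔
        finrank (hD.primeIdealOf ⟨y, hy⟩).asIdeal.ResidueField
          ((hD.primeIdealOf ⟨y, hy⟩).asIdeal.ResidueField ⊗[Γ(Y, D)] Ω[Γ(Y, D)⁄Γ(X, V)]) ≤ m) :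
    y ∈ f.smoothLocus ↔ y ∉ (Fitt.sheafIdeal (Omega.sheaf f) m).support := by
  let := (f.appLE V D e).hom.toAlgebra
  rw [Scheme.Hom.mem_smoothLocus, formallySmooth_stalkMap_iff V hV D hD e hy,
    Groth.Agent.Lib.Helper5.FittSheaf.not_mem_support_iff (Omega.sheaf f) m hD y hy]
  obtain ⟨Φ, hΦ⟩ := Groth.Agent.Lib.Helper29.OmegaLoc.exists_sections_equiv f hD hV e
  let L : Γ(Omega.sheaf f, D) ≃ₗ[Γ(Y, D)] Ω[Γ(Y, D)⁄Γ(X, V)] := { Φ with map_smul' := hΦ }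
  have : Algebra.FiniteType Γ(X, V) Γ(Y, D) :=
    LocallyOfFiniteType.finiteType_appLE f hV hD e
  rw [Helper23.Fit.ideal_congr L m, Helper23.Fit.not_le_iff_finrank_le]
  exact H

end Groth.Agent.Lib.Helper5.Jac
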