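import Mathlib
import Groth.Agent.Lib.Helper5.JacB
import Groth.Agent.Lib.Helper5.RegImmA
import Groth.Agent.Lib.Helper5.KosH1C
import Groth.Agent.Lib.Helper29.H1Alg

set_option autoImplicit false
universe u

namespace Groth.Agent.Lib.Helper5.Jac

open AlgebraicGeometry CategoryTheory TensorProduct Module

theorem appLE_congr {U X : Scheme.{u}} (g g' : U ⟶ X) (h : g = g') (V : X.Opens) (D : U.Opens)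
    (e : D ≤ g ⁻¹ᵁ V) (e' : D ≤ g' ⁻¹ᵁ V) : g.appLE V D e = g'.appLE V D e' := by
  subst h
  rfl

theorem isSmoothAt_iff_of_chart {Y X P : Scheme.{u}} (f : Y ⟶ X) (U : Y.Opens)
    (i : (U : Scheme.{u}) ⟶ P) (π : P ⟶ X) (hcomm : i ≫ π = U.ι ≫ f)
    {V : X.Opens} (hV : IsAffineOpen V) {W : P.Opens} (hW : IsAffineOpen W) (eW : W ≤ π ⁻¹ᵁ V)
    [IsClosedImmersion (i ∣_ W)]
    (rs : List Γ(P, W)) (hrs : LCI.IsKoszulRegularSeq Γ(P, W) rs)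
    (hker : RingHom.ker (i.app W).hom = Ideal.ofList rs)
    (N : ℕ) (hsm : (π.appLE V W eW).hom.FormallySmooth) (hfin : (π.appLE V W eW).hom.FiniteType)
    (hrank : let := (π.appLE V W eW).hom.toAlgebra
      ∀ p : PrimeSpectrum Γ(P, W), Module.rankAtStalk Ω[Γ(P, W)⁄Γ(X, V)] p = N)
    (z : U) (hz : i z ∈ W) :
    ∃ (hD : IsAffineOpen (U.ι ''ᵁ (i ⁻¹ᵁ W))) (e : U.ι ''ᵁ (i ⁻¹ᵁ W) ≤ f ⁻¹ᵁ V)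
      (hy : (z : Y) ∈ U.ι ''ᵁ (i ⁻¹ᵁ W)),
      let := (f.appLE V (U.ι ''ᵁ (i ⁻¹ᵁ W)) e).hom.toAlgebra
      Algebra.IsSmoothAt Γ(X, V) (hD.primeIdealOf ⟨z, hy⟩).asIdeal ↔
        finrank (hD.primeIdealOf ⟨z, hy⟩).asIdeal.ResidueField
          ((hD.primeIdealOf ⟨z, hy⟩).asIdeal.ResidueField ⊗[Γ(Y, U.ι ''ᵁ (i ⁻¹ᵁ W))]
            Ω[Γ(Y, U.ι ''ᵁ (i ⁻¹ᵁ W))⁄Γ(X, V)]) + rs.length ≤ N := by
  have hD' : IsAffineOpen (i ⁻¹ᵁ W) :=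
    Groth.Agent.Lib.Helper5.RegImmA.isAffineOpen_preimage_of_restrict i hW
  have hD : IsAffineOpen (U.ι ''ᵁ (i ⁻¹ᵁ W)) := hD'.image_of_isOpenImmersion U.ι
  have e : U.ι ''ᵁ (i ⁻¹ᵁ W) ≤ f ⁻¹ᵁ V := by
    rintro _ ⟨u, hu, rfl⟩
    have h1 : f (U.ι u) = π (i u) := by
      rw [← Scheme.Hom.comp_apply, ← Scheme.Hom.comp_apply, hcomm]
    change f (U.ι u) ∈ V
    rw [h1]
    exact eW hu
  have hy : (z : Y) ∈ U.ι ''ᵁ (i ⁻¹ᵁ W) := ⟨z, hz, rfl⟩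
  refine ⟨hD, e, hy, ?_⟩
  let a1 : Algebra Γ(X, V) Γ(P, W) := (π.appLE V W eW).hom.toAlgebra
  let a2 : Algebra Γ(X, V) Γ(Y, U.ι ''ᵁ (i ⁻¹ᵁ W)) :=
    (f.appLE V (U.ι ''ᵁ (i ⁻¹ᵁ W)) e).hom.toAlgebra
  let ρ : Γ(P, W) →+* Γ(Y, U.ι ''ᵁ (i ⁻¹ᵁ W)) := (i.app W).hom
  let a3 : Algebra Γ(P, W) Γ(Y, U.ι ''ᵁ (i ⁻¹ᵁ W)) := ρ.toAlgebra
  have e1 : i ⁻¹ᵁ W ≤ (i ≫ π) ⁻¹ᵁ V := fun u hu => eW hu
  have e2 : i ⁻¹ᵁ W ≤ (U.ι ≫ f) ⁻¹ᵁ V := fun u hu => e ⟨u, hu, rfl⟩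
  have e3 : i ⁻¹ᵁ W ≤ U.ι ⁻¹ᵁ (U.ι ''ᵁ (i ⁻¹ᵁ W)) := fun u hu => ⟨u, hu, rfl⟩
  have hc1 : π.appLE V W eW ≫ i.app W = (i ≫ π).appLE V (i ⁻¹ᵁ W) e1 := by
    rw [← Scheme.Hom.appLE_eq_app, Scheme.Hom.appLE_comp_appLE]
  have hc2 : (U.ι ≫ f).appLE V (i ⁻¹ᵁ W) e2 =
      f.appLE V (U.ι ''ᵁ (i ⁻¹ᵁ W)) e ≫ U.ι.appLE (U.ι ''ᵁ (i ⁻¹ᵁ W)) (i ⁻¹ᵁ W) e3 :=
    (Scheme.Hom.appLE_comp_appLE U.ι f V _ _ e e3).symm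
  have hc3 : U.ι.appLE (U.ι ''ᵁ (i ⁻¹ᵁ W)) (i ⁻¹ᵁ W) e3 = 𝟙 _ := by
    rw [Scheme.Opens.ι_appLE]
    exact Y.presheaf.map_id _
  have hc : π.appLE V W eW ≫ i.app W = f.appLE V (U.ι ''ᵁ (i ⁻¹ᵁ W)) e := by
    rw [hc1, appLE_congr _ _ hcomm V _ e1 e2, hc2, hc3]
    exact Category.comp_id _
  have : IsScalarTower Γ(X, V) Γ(P, W) Γ(Y, U.ι ''ᵁ (i ⁻¹ᵁ W)) :=
    IsScalarTower.of_algebraMap_eq fun a => by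
      change (f.appLE V (U.ι ''ᵁ (i ⁻¹ᵁ W)) e).hom a = (i.app W).hom ((π.appLE V W eW).hom a)
      rw [← hc]
      rfl
  have : Algebra.FormallySmooth Γ(X, V) Γ(P, W) := hsm
  have : Algebra.FiniteType Γ(X, V) Γ(P, W) := hfin
  have hsurj : Function.Surjective (algebraMap Γ(P, W) Γ(Y, U.ι ''ᵁ (i ⁻¹ᵁ W))) :=
    Groth.Agent.Lib.Helper5.RegImmA.app_surjective_of_restrict i hW
  have hker' : RingHom.ker (algebraMap Γ(P, W) Γ(Y, U.ι ''ᵁ (i ⁻¹ᵁ W))) =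
      Ideal.span (Set.range rs.get) := by
    change RingHom.ker (i.app W).hom = _
    rw [hker, Groth.Agent.Lib.Helper29.H1Alg.range_get_eq]
  have hh1 : CAlgX.IsH1Regular rs.get :=
    (Groth.Agent.Lib.Helper5.KosH1.isH1Regular_iff_isZero rs).mpr (hrs (-1) (by decide))
  have key := isSmoothAt_iff_finrank (A := Γ(X, V)) (P := Γ(P, W))
    (B := Γ(Y, U.ι ''ᵁ (i ⁻¹ᵁ W))) hsurj rs.get hker' (hD.primeIdealOf ⟨z, hy⟩).asIdeal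
    ((hD.primeIdealOf ⟨z, hy⟩).asIdeal.comap (algebraMap Γ(P, W) Γ(Y, U.ι ''ᵁ (i ⁻¹ᵁ W)))) rfl
    (Groth.Agent.Lib.Helper29.H1Alg.isH1Regular_map_of_flat _ hh1)
  rw [hrank] at key
  exact key

end Groth.Agent.Lib.Helper5.Jac
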