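import Mathlib
import Groth.Agent.Lib.Helper5.NLHtpy

/-!
# Helper5 — JacExtA: the Jacobian determinant acts on the naive cotangent complex of a finite
presentation through a map factoring over the degree-zero term.
-/

set_option autoImplicit false
set_option linter.style.haveILetI false
set_option linter.unusedSectionVars false

universe u

namespace Groth.Agent.Lib.Helper5.JacExt

open Algebra MvPolynomial CategoryTheory HomologicalComplex TensorProduct

theorem sum_dite_castLE {M : Type*} [AddCommMonoid M] {n m : ℕ} (hmn : m ≤ n) (G : Fin m → M) :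
    (∑ k : Fin n, if h : k.val < m then G ⟨k.val, h⟩ else 0) = ∑ i : Fin m, G i := by
  classical
  rw [← Finset.sum_subset (Finset.subset_univ (Finset.univ.map (Fin.castLEEmb hmn)))]
  · rw [Finset.sum_map]
    refine Finset.sum_congr rfl fun i _ => ?_
    have hi : ((Fin.castLEEmb hmn) i).val < m := i.2
    rw [dif_pos hi]
    rfl
  · intro k _ hk
    rw [dif_neg]
    intro h
    apply hk
    rw [Finset.mem_map]
    exact ⟨⟨k.val, h⟩, Finset.mem_univ _, Fin.ext rfl⟩

variable {R S : Type u} [CommRing R] [CommRing S] [Algebra R S] {n m : ℕ}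
  (Pr : Algebra.Presentation R S (Fin n) (Fin m)) (hmn : m ≤ n)

/-- the class of a relation in the conormal module. -/
noncomputable def rel (j : Fin m) : Pr.toExtension.Cotangent :=
  Extension.Cotangent.mk ⟨Pr.relation j, Pr.relation_mem_ker j⟩

theorem span_rel : Submodule.span S (Set.range (rel Pr)) = ⊤ := by
  rw [_root_.eq_top_iff]
  rintro x -
  obtain ⟨⟨y, hy⟩, rfl⟩ := Extension.Cotangent.mk_surjective x
  have key : ∀ (y : Pr.toExtension.Ring) (hy : y ∈ Pr.toExtension.ker),
      (Extension.Cotangent.mk ⟨y, hy⟩ : Pr.toExtension.Cotangent) ∈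
        Submodule.span S (Set.range (rel Pr)) := by
    intro y hy
    have hy' : y ∈ Ideal.span (Set.range Pr.relation) := by
      rw [Pr.span_range_relation_eq_ker]; exact hy
    have hker : ∀ z : Pr.toExtension.Ring, z ∈ Ideal.span (Set.range Pr.relation) →
        z ∈ Pr.toExtension.ker := by
      intro z hz
      rw [Pr.span_range_relation_eq_ker] at hz; exact hz
    induction hy' using Submodule.span_induction with
    | mem z hz =>
      obtain ⟨j, rfl⟩ := hz
      exact Submodule.subset_span ⟨j, rfl⟩
    | zero =>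
      have e : (Extension.Cotangent.mk (⟨0, hy⟩ : Pr.toExtension.ker) :
          Pr.toExtension.Cotangent) = 0 := map_zero Extension.Cotangent.mk
      exact e ▸ Submodule.zero_mem _
    | add a b ha hb iha ihb =>
      have e : (Extension.Cotangent.mk (⟨a + b, hy⟩ : Pr.toExtension.ker) :
          Pr.toExtension.Cotangent) =
          Extension.Cotangent.mk ⟨a, hker a ha⟩ + Extension.Cotangent.mk ⟨b, hker b hb⟩ :=
        map_add Extension.Cotangent.mk (⟨a, hker a ha⟩ : Pr.toExtension.ker) ⟨b, hker b hb⟩
      exact e ▸ Submodule.add_mem _ (iha (hker a ha)) (ihb (hker b hb))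
    | smul c a ha iha =>
      let c' : Pr.toExtension.Ring := c
      have hy2 : c' • a ∈ Pr.toExtension.ker := hy
      have e : (Extension.Cotangent.mk (⟨c' • a, hy2⟩ : Pr.toExtension.ker) :
          Pr.toExtension.Cotangent) = c' • Extension.Cotangent.mk ⟨a, hker a ha⟩ :=
        map_smul Extension.Cotangent.mk c' (⟨a, hker a ha⟩ : Pr.toExtension.ker)
      change (Extension.Cotangent.mk (⟨c' • a, hy2⟩ : Pr.toExtension.ker) :
          Pr.toExtension.Cotangent) ∈ _
      rw [e, ← algebraMap_smul S c']
      exact Submodule.smul_mem _ _ (iha (hker a ha))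
  exact key y hy

/-- the Jacobian matrix (first `m` variables), over `S`. -/
noncomputable def jac : Matrix (Fin m) (Fin m) S :=
  Matrix.of fun i j => aeval Pr.val (pderiv (Fin.castLE hmn i) (Pr.relation j))

theorem det_jac : (jac Pr hmn).det = aeval Pr.val
    (Matrix.det (Matrix.of fun i j : Fin m => pderiv (Fin.castLE hmn i) (Pr.relation j))) := by
  rw [AlgHom.map_det]
  rfl

/-- the adjugate contraction `L → M`. -/
noncomputable def chi : Pr.toExtension.CotangentSpace →ₗ[S] Pr.toExtension.Cotangent :=
  Pr.cotangentSpaceBasis.constr S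
    (fun k => if h : k.val < m then ∑ j, (jac Pr hmn).adjugate j ⟨k.val, h⟩ • rel Pr j else 0)

theorem cotangentComplex_rel (j : Fin m) :
    Pr.toExtension.cotangentComplex (rel Pr j) =
      ∑ k, aeval Pr.val (pderiv k (Pr.relation j)) • Pr.cotangentSpaceBasis k := by
  rw [rel, Extension.cotangentComplex_mk]
  conv_lhs => rw [← Pr.cotangentSpaceBasis.sum_repr
    ((1 : S) ⊗ₜ[Pr.toExtension.Ring] KaehlerDifferential.D R Pr.toExtension.Ring (Pr.relation j))]
  refine Finset.sum_congr rfl fun k _ => ?_
  rw [Generators.cotangentSpaceBasis_repr_one_tmul]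

theorem chi_rel (l : Fin m) :
    chi Pr hmn (Pr.toExtension.cotangentComplex (rel Pr l)) = (jac Pr hmn).det • rel Pr l := by
  classical
  rw [cotangentComplex_rel, map_sum]
  simp only [map_smul, chi, Module.Basis.constr_basis]
  have h1 : ∀ k : Fin n, aeval Pr.val (pderiv k (Pr.relation l)) •
      (if h : k.val < m then ∑ j, (jac Pr hmn).adjugate j ⟨k.val, h⟩ • rel Pr j else 0) =
      if h : k.val < m then aeval Pr.val (pderiv (Fin.castLE hmn ⟨k.val, h⟩) (Pr.relation l)) •
        ∑ j, (jac Pr hmn).adjugate j ⟨k.val, h⟩ • rel Pr j else 0 := by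
    intro k
    split_ifs with h
    · rfl
    · rw [smul_zero]
  rw [Finset.sum_congr rfl fun k _ => h1 k,
    sum_dite_castLE hmn (fun i : Fin m => aeval Pr.val (pderiv (Fin.castLE hmn i) (Pr.relation l)) •
        ∑ j, (jac Pr hmn).adjugate j i • rel Pr j)]
  simp only [Finset.smul_sum, smul_smul]
  rw [Finset.sum_comm]
  have h2 : ∀ j : Fin m, ∑ i : Fin m, (aeval Pr.val (pderiv (Fin.castLE hmn i) (Pr.relation l)) *
      (jac Pr hmn).adjugate j i) • rel Pr j =
      (((jac Pr hmn).adjugate * jac Pr hmn) j l) • rel Pr j := by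
    intro j
    rw [← Finset.sum_smul, Matrix.mul_apply]
    congr 1
    refine Finset.sum_congr rfl fun i _ => ?_
    rw [mul_comm]
    rfl
  rw [Finset.sum_congr rfl fun j _ => h2 j, Matrix.adjugate_mul]
  simp only [Matrix.smul_apply, Matrix.one_apply, smul_eq_mul, mul_ite, mul_one, mul_zero,
    ite_smul, zero_smul, Finset.sum_ite_eq', Finset.mem_univ, if_true]

theorem chi_comp_d :
    (chi Pr hmn) ∘ₗ Pr.toExtension.cotangentComplex = (jac Pr hmn).det • LinearMap.id := by
  refine LinearMap.ext_on (span_rel Pr) ?_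
  rintro _ ⟨l, rfl⟩
  rw [LinearMap.comp_apply, chi_rel, LinearMap.smul_apply, LinearMap.id_apply]

theorem d_comp_chi (hnm : n = m) :
    Pr.toExtension.cotangentComplex ∘ₗ (chi Pr hmn) = (jac Pr hmn).det • LinearMap.id := by
  classical
  subst hnm
  refine Pr.cotangentSpaceBasis.ext fun k => ?_
  rw [LinearMap.comp_apply, LinearMap.smul_apply, LinearMap.id_apply, chi,
    Module.Basis.constr_basis, dif_pos k.2, map_sum]
  simp only [map_smul, cotangentComplex_rel, Finset.smul_sum, smul_smul]
  rw [Finset.sum_comm]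
  have h2 : ∀ i : Fin n, ∑ j : Fin n, ((jac Pr hmn).adjugate j ⟨k.val, k.2⟩ *
      aeval Pr.val (pderiv i (Pr.relation j))) • Pr.cotangentSpaceBasis i =
      ((jac Pr hmn * (jac Pr hmn).adjugate) i k) • Pr.cotangentSpaceBasis i := by
    intro i
    rw [← Finset.sum_smul, Matrix.mul_apply]
    congr 1
    refine Finset.sum_congr rfl fun j _ => ?_
    rw [mul_comm]
    rfl
  rw [Finset.sum_congr rfl fun i _ => h2 i, Matrix.mul_adjugate]
  simp only [Matrix.smul_apply, Matrix.one_apply, smul_eq_mul, mul_ite, mul_one, mul_zero,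
    ite_smul, zero_smul, Finset.sum_ite_eq', Finset.mem_univ, if_true]

end Groth.Agent.Lib.Helper5.JacExt
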