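import Mathlib
import Groth.Agent.Lib.Helper5.NLHtpy

/-!
# Helper5 — JacExtB: a contraction `χ : L → M` of a two-term complex `[M → L]` with `d ≫ χ = g`
makes `g • 𝟙` factor (in the derived category) through the degree-zero term.
-/

set_option autoImplicit false
set_option linter.style.haveILetI false
set_option linter.unusedSectionVars false

universe u

attribute [local instance] HasDerivedCategory.standard

namespace Groth.Agent.Lib.Helper5.JacExt

open CategoryTheory CategoryTheory.Limits HomologicalComplex DerivedCategory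
  Groth.Agent.Lib.Helper5.NLHtpy

variable {S : Type u} [CommRing S] {M L : ModuleCat.{u} S} (d : M ⟶ L) (χ : L ⟶ M) (g : S)

/-- the projection to the degree-zero term, twisted by `g - χ ≫ d`. -/
noncomputable def toSingle (hχ : d ≫ χ = g • 𝟙 M) :
    double d hr ⟶ (single (ModuleCat.{u} S) (ComplexShape.up ℤ) 0).obj L :=
  mkHomFromDouble hr hne 0
    ((g • 𝟙 L - χ ≫ d) ≫ (singleObjXSelf (ComplexShape.up ℤ) 0 L).inv)
    (by
      rw [zero_comp, ← Category.assoc, Preadditive.comp_sub, ← Category.assoc, hχ]
      simp)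
    (fun k _ => by simp)

/-- the inclusion of the degree-zero term. -/
noncomputable def ofSingle :
    (single (ModuleCat.{u} S) (ComplexShape.up ℤ) 0).obj L ⟶ double d hr :=
  mkHomFromSingle (doubleXIso₁ d hr hne).inv (fun k _ => by
    rw [double_d_eq_zero₀ d hr 0 k (by decide), comp_zero])

/-- the homotopy. -/
noncomputable def smulHomotopy (hχ : d ≫ χ = g • 𝟙 M) :
    Homotopy (g • 𝟙 (double d hr)) (toSingle d χ g hχ ≫ ofSingle d) :=
  doubleHomotopy d d _ _ χ
    (by
      rw [HomologicalComplex.comp_f, toSingle, mkHomFromDouble_f₀]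
      simp only [zero_comp, comp_zero, add_zero]
      rw [← Category.assoc d χ, hχ]
      simp)
    (by
      rw [HomologicalComplex.comp_f, toSingle, mkHomFromDouble_f₁, ofSingle, mkHomFromSingle_f]
      simp only [Category.assoc, Iso.inv_hom_id_assoc, Preadditive.sub_comp,
        Preadditive.comp_sub]
      simp)

theorem smul_id_eq (hχ : d ≫ χ = g • 𝟙 M) :
    g • 𝟙 (Q.obj (double d hr)) = Q.map (toSingle d χ g hχ) ≫ Q.map (ofSingle d) := by
  rw [← Q.map_comp, ← Q_map_eq_of_homotopy _ (smulHomotopy d χ g hχ), Functor.map_smul,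
    Q.map_id]

theorem toSingle_eq_zero (hχ : d ≫ χ = g • 𝟙 M) (hχ' : χ ≫ d = g • 𝟙 L) :
    toSingle d χ g hχ = 0 := by
  refine from_double_hom_ext ?_ ?_
  · rw [toSingle, mkHomFromDouble_f₀]; simp
  · rw [toSingle, mkHomFromDouble_f₁, hχ']; simp

/-- maps from a projective module in degree zero to a shifted module vanish. -/
theorem eq_zero_of_projective [Projective L] (N : ModuleCat.{u} S)
    (ψ : Q.obj ((single (ModuleCat.{u} S) (ComplexShape.up ℤ) 0).obj L) ⟶
      ((DerivedCategory.singleFunctor (ModuleCat.{u} S) 0).obj N)⟦(1 : ℤ)⟧) : ψ = 0 := by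
  have h := Abelian.Ext.eq_zero_of_projective (n := 0)
    (Abelian.Ext.homAddEquiv.symm ψ : Abelian.Ext L N (0 + 1))
  have h2 := congrArg Abelian.Ext.homAddEquiv h
  rw [AddEquiv.apply_symm_apply, map_zero] at h2
  exact h2

end Groth.Agent.Lib.Helper5.JacExt
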