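import Mathlib
import Groth.Agent.Lib.Helper5.JacExtA
import Groth.Agent.Lib.Helper5.JacExtB

/-!
# Helper5 — JacExtC: the Jacobian determinant kills `Ext¹(NL, N)`.
-/

set_option autoImplicit false
set_option linter.style.haveILetI false
set_option linter.unusedSectionVars false

universe u

attribute [local instance] HasDerivedCategory.standard

namespace Groth.Agent.Lib.Helper5.JacExt

open Algebra MvPolynomial CategoryTheory CategoryTheory.Limits HomologicalComplex DerivedCategory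
  Groth.Agent.Lib.Helper5.NLHtpy

variable {R S : Type u} [CommRing R] [CommRing S] [Algebra R S] {n m : ℕ}
  (Pr : Algebra.Presentation R S (Fin n) (Fin m)) (hmn : m ≤ n)

theorem hχ : ModuleCat.ofHom Pr.toExtension.cotangentComplex ≫ ModuleCat.ofHom (chi Pr hmn) =
    (jac Pr hmn).det • 𝟙 (ModuleCat.of S Pr.toExtension.Cotangent) := by
  rw [← ModuleCat.ofHom_comp, chi_comp_d]
  rfl

theorem hχ' (hnm : n = m) :
    ModuleCat.ofHom (chi Pr hmn) ≫ ModuleCat.ofHom Pr.toExtension.cotangentComplex =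
    (jac Pr hmn).det • 𝟙 (ModuleCat.of S Pr.toExtension.CotangentSpace) := by
  rw [← ModuleCat.ofHom_comp, d_comp_chi Pr hmn hnm]
  rfl

theorem det_smul_ext (N : Type u) [AddCommGroup N] [Module S N]
    (φ : LCI.NL R S ⟶ (Dual.inD S N)⟦(1 : ℤ)⟧) : (jac Pr hmn).det • φ = 0 := by
  obtain ⟨e⟩ := nonempty_toD_iso_NL R S Pr.toGenerators
  have hproj : Projective (ModuleCat.of S Pr.toExtension.CotangentSpace) :=
    (IsProjective.iff_projective (R := S) (P := Pr.toExtension.CotangentSpace)).mp inferInstance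
  have h1 : (jac Pr hmn).det • (e.hom ≫ φ) = 0 := by
    have h2 := smul_id_eq (ModuleCat.ofHom Pr.toExtension.cotangentComplex)
      (ModuleCat.ofHom (chi Pr hmn)) (jac Pr hmn).det (hχ Pr hmn)
    have h3 : (jac Pr hmn).det • (e.hom ≫ φ) =
        ((jac Pr hmn).det • 𝟙 _) ≫ (e.hom ≫ φ) := by
      rw [Linear.smul_comp, Category.id_comp]
    rw [h3]
    change ((jac Pr hmn).det • 𝟙 (Q.obj (double (ModuleCat.ofHom
      Pr.toExtension.cotangentComplex) hr))) ≫ (e.hom ≫ φ) = 0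
    rw [h2, Category.assoc,
      eq_zero_of_projective (ModuleCat.of S N) (Q.map (ofSingle _) ≫ e.hom ≫ φ), comp_zero]
  have h4 : φ = e.inv ≫ (e.hom ≫ φ) := by rw [Iso.inv_hom_id_assoc]
  rw [h4, ← Linear.comp_smul, h1, comp_zero]

theorem det_smul_id (hnm : n = m) : (jac Pr hmn).det • 𝟙 (LCI.NL R S) = 0 := by
  obtain ⟨e⟩ := nonempty_toD_iso_NL R S Pr.toGenerators
  have h2 := smul_id_eq (ModuleCat.ofHom Pr.toExtension.cotangentComplex)
    (ModuleCat.ofHom (chi Pr hmn)) (jac Pr hmn).det (hχ Pr hmn)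
  rw [toSingle_eq_zero _ _ _ (hχ Pr hmn) (hχ' Pr hmn hnm), Q.map_zero, zero_comp] at h2
  have h4 : 𝟙 (LCI.NL R S) = e.inv ≫ 𝟙 _ ≫ e.hom := by simp
  have h5 : (jac Pr hmn).det • 𝟙 (DRing.toD (NLCx.cx Pr.toExtension)) = 0 := h2
  rw [h4, ← Linear.comp_smul, ← Linear.smul_comp, h5, zero_comp, comp_zero]

end Groth.Agent.Lib.Helper5.JacExt
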