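import Mathlib

set_option autoImplicit false
universe u

namespace Groth.Agent.Lib.Helper5.Jac

open TensorProduct Module KaehlerDifferential

theorem rankAtStalk_of_away {A P₁ P' : Type u} [CommRing A] [CommRing P₁] [CommRing P']
    [Algebra A P₁] [Algebra P₁ P'] [Algebra A P'] [IsScalarTower A P₁ P'] (h : P₁)
    [IsLocalization.Away h P'] (N : ℕ) [Algebra.IsStandardSmoothOfRelativeDimension N A P₁]
    (p : PrimeSpectrum P') : Module.rankAtStalk Ω[P'⁄A] p = N := by
  have : Nontrivial P' := p.nontrivial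
  have : Nontrivial P₁ := (algebraMap P₁ P').domain_nontrivial
  have : Algebra.FormallyEtale P₁ P' := .of_isLocalization (Submonoid.powers h)
  have : Algebra.IsStandardSmooth A P₁ :=
    Algebra.IsStandardSmoothOfRelativeDimension.isStandardSmooth N
  let e : P' ⊗[P₁] Ω[P₁⁄A] ≃ₗ[P'] Ω[P'⁄A] :=
    KaehlerDifferential.tensorKaehlerEquivOfFormallyEtale A P₁ P'
  have : Module.Free P' Ω[P'⁄A] := Module.Free.of_equiv e
  rw [Module.rankAtStalk_eq_finrank_of_free, Pi.natCast_apply] 
  rw [← e.finrank_eq, Module.finrank_baseChange]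
  exact Module.finrank_eq_of_rank_eq
    (Algebra.IsStandardSmoothOfRelativeDimension.rank_kaehlerDifferential N)

end Groth.Agent.Lib.Helper5.Jac
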