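import Mathlib
import Groth.Agent.Lib.Helper5.JacC
import Groth.Agent.Lib.Helper18.Chev.LocalStructAlg

set_option autoImplicit false
universe u

namespace Groth.Agent.Lib.Helper5.Jac

open TensorProduct Module KaehlerDifferential

/-- choose `p` elements whose differentials span the fibre of `Ω` at `q` -/
theorem exists_fun_span_D {A B : Type u} [CommRing A] [CommRing B] [Algebra A B]
    [Algebra.FiniteType A B] (q : Ideal B) [q.IsPrime] (p : ℕ)
    (h : finrank q.ResidueField (q.ResidueField ⊗[B] Ω[B⁄A]) ≤ p) :
    ∃ b : Fin p → B, Submodule.span q.ResidueField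
      (Set.range fun i => (1 : q.ResidueField) ⊗ₜ[B] (D A B (b i))) = ⊤ := by
  have hS : Submodule.span q.ResidueField
      (Set.range fun b : B => (1 : q.ResidueField) ⊗ₜ[B] (D A B b)) = ⊤ := by
    have h1 : (Set.range fun b : B => (1 : q.ResidueField) ⊗ₜ[B] (D A B b)) =
        TensorProduct.mk B q.ResidueField Ω[B⁄A] 1 '' Set.range (D A B) := by
      rw [← Set.range_comp]
      rfl
    rw [h1, ← Submodule.baseChange_span, KaehlerDifferential.span_range_derivation,
      Submodule.baseChange_top]
  obtain ⟨f, hfS, hfspan, -⟩ := Submodule.exists_fun_fin_finrank_span_eq q.ResidueField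
    (Set.range fun b : B => (1 : q.ResidueField) ⊗ₜ[B] (D A B b))
  have hftop : Submodule.span q.ResidueField (Set.range f) = ⊤ := by
    rw [hfspan]
    exact hS
  have hd : finrank q.ResidueField (Submodule.span q.ResidueField
      (Set.range fun b : B => (1 : q.ResidueField) ⊗ₜ[B] (D A B b))) ≤ p := by
    rw [hS, finrank_top]
    exact h
  choose b₀ hb₀ using hfS
  refine ⟨fun i => if hi : (i : ℕ) < _ then b₀ ⟨i, hi⟩ else 0, ?_⟩
  rw [eq_top_iff, ← hftop, Submodule.span_le]
  rintro _ ⟨j, rfl⟩
  refine Submodule.subset_span ⟨Fin.castLE hd j, ?_⟩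
  have hj : ((Fin.castLE hd j : Fin p) : ℕ) < _ := j.2
  simp only [Fin.val_castLE, j.2, dif_pos]
  exact hb₀ j

theorem isUnramifiedAt_of_span_D {A B : Type u} [CommRing A] [CommRing B] [Algebra A B]
    [Algebra.FiniteType A B] (q : Ideal B) [q.IsPrime] {p : ℕ} (b : Fin p → B)
    (hb : Submodule.span q.ResidueField
      (Set.range fun i => (1 : q.ResidueField) ⊗ₜ[B] (D A B (b i))) = ⊤) :
    let : Algebra (MvPolynomial (Fin p) A) B := (MvPolynomial.aeval b).toRingHom.toAlgebra
    Algebra.IsUnramifiedAt (MvPolynomial (Fin p) A) q := by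
  let : Algebra (MvPolynomial (Fin p) A) B := (MvPolynomial.aeval b).toRingHom.toAlgebra
  have : IsScalarTower A (MvPolynomial (Fin p) A) B :=
    IsScalarTower.of_algebraMap_eq fun a => by
      change _ = MvPolynomial.aeval b (algebraMap A (MvPolynomial (Fin p) A) a)
      rw [MvPolynomial.algebraMap_eq, MvPolynomial.aeval_C]
  have : Algebra.FiniteType (MvPolynomial (Fin p) A) B :=
    Algebra.FiniteType.of_restrictScalars_finiteType A (MvPolynomial (Fin p) A) B
  have hX : ∀ i, algebraMap (MvPolynomial (Fin p) A) B (MvPolynomial.X i) = b i := fun i => by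
    change MvPolynomial.aeval b (MvPolynomial.X i) = b i
    rw [MvPolynomial.aeval_X]
  have hsub : Subsingleton (q.ResidueField ⊗[B] Ω[B⁄MvPolynomial (Fin p) A]) := by
    let ψ := (KaehlerDifferential.map A (MvPolynomial (Fin p) A) B B).baseChange q.ResidueField
    have hsurj : Function.Surjective ψ := by
      have := LinearMap.lTensor_surjective q.ResidueField
        (KaehlerDifferential.map_surjective A (MvPolynomial (Fin p) A) B)
      intro y
      obtain ⟨z, hz⟩ := this y
      exact ⟨z, by simpa [ψ, LinearMap.baseChange_eq_ltensor] using hz⟩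
    have hker : LinearMap.ker ψ = ⊤ := by
      rw [eq_top_iff, ← hb, Submodule.span_le]
      rintro _ ⟨i, rfl⟩
      rw [SetLike.mem_coe, LinearMap.mem_ker, LinearMap.baseChange_tmul,
        KaehlerDifferential.map_D]
      change (1 : q.ResidueField) ⊗ₜ[B] (D (MvPolynomial (Fin p) A) B (b i)) = 0
      rw [← hX i, Derivation.map_algebraMap, TensorProduct.tmul_zero]
    refine ⟨fun x y => ?_⟩
    obtain ⟨x', rfl⟩ := hsurj x
    obtain ⟨y', rfl⟩ := hsurj y
    have hx : x' ∈ LinearMap.ker ψ := by rw [hker]; trivial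
    have hy : y' ∈ LinearMap.ker ψ := by rw [hker]; trivial
    rw [LinearMap.mem_ker.mp hx, LinearMap.mem_ker.mp hy]
  have hsupp : (⟨q, inferInstance⟩ : PrimeSpectrum B) ∉
      Module.support B Ω[B⁄MvPolynomial (Fin p) A] := by
    rw [Module.mem_support_iff_nontrivial_residueField_tensorProduct]
    exact not_nontrivial _
  have hmem : (⟨q, inferInstance⟩ : PrimeSpectrum B) ∈
      Algebra.unramifiedLocus (MvPolynomial (Fin p) A) B := by
    rw [Algebra.unramifiedLocus_eq_compl_support]
    exact hsupp
  exact hmem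

theorem exists_stdSmooth_surjection {A B : Type u} [CommRing A] [CommRing B] [Algebra A B]
    [Algebra.FiniteType A B] (q : Ideal B) [q.IsPrime] (p : ℕ)
    (h : finrank q.ResidueField (q.ResidueField ⊗[B] Ω[B⁄A]) ≤ p) :
    ∃ (s : B) (_ : s ∉ q) (Pr : Type u) (_ : CommRing Pr) (α : A →+* Pr)
      (φ : Pr →+* Localization.Away s), Function.Surjective φ ∧
      φ.comp α = algebraMap A (Localization.Away s) ∧
      α.IsStandardSmoothOfRelativeDimension p := by
  obtain ⟨b, hb⟩ := exists_fun_span_D q p h
  let : Algebra (MvPolynomial (Fin p) A) B := (MvPolynomial.aeval b).toRingHom.toAlgebra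
  have : IsScalarTower A (MvPolynomial (Fin p) A) B :=
    IsScalarTower.of_algebraMap_eq fun a => by
      change _ = MvPolynomial.aeval b (algebraMap A (MvPolynomial (Fin p) A) a)
      rw [MvPolynomial.algebraMap_eq, MvPolynomial.aeval_C]
  have : Algebra.FiniteType (MvPolynomial (Fin p) A) B :=
    Algebra.FiniteType.of_restrictScalars_finiteType A (MvPolynomial (Fin p) A) B
  have : Algebra.IsUnramifiedAt (MvPolynomial (Fin p) A) q := isUnramifiedAt_of_span_D q b hb
  obtain ⟨s, hs, P, φ, hφ⟩ :=
    Algebra.IsUnramifiedAt.exists_hasStandardEtaleSurjectionOn (R := MvPolynomial (Fin p) A) q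
  refine ⟨s, hs, P.Ring, inferInstance,
    (algebraMap (MvPolynomial (Fin p) A) P.Ring).comp (algebraMap A (MvPolynomial (Fin p) A)),
    φ.toRingHom, hφ, ?_, ?_⟩
  · ext a
    change φ (algebraMap (MvPolynomial (Fin p) A) P.Ring
      (algebraMap A (MvPolynomial (Fin p) A) a)) = _
    rw [φ.commutes, IsScalarTower.algebraMap_apply (MvPolynomial (Fin p) A) B (Localization.Away s),
      IsScalarTower.algebraMap_apply A B (Localization.Away s),
      ← IsScalarTower.algebraMap_apply A (MvPolynomial (Fin p) A) B]
  · have h0 : (algebraMap (MvPolynomial (Fin p) A) P.Ring).IsStandardSmoothOfRelativeDimension 0 := by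
      rw [RingHom.isStandardSmoothOfRelativeDimension_algebraMap]
      exact Algebra.Etale.iff_isStandardSmoothOfRelativeDimension_zero.mp inferInstance
    have hp : (algebraMap A (MvPolynomial (Fin p) A)).IsStandardSmoothOfRelativeDimension p := by
      rw [RingHom.isStandardSmoothOfRelativeDimension_algebraMap]
      infer_instance
    have := RingHom.IsStandardSmoothOfRelativeDimension.comp h0 hp
    rwa [zero_add] at this

end Groth.Agent.Lib.Helper5.Jac
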