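import Mathlib
import Groth.Agent.Lib.Helper5.RelGCIF
import Groth.Agent.Lib.Helper21.QRDescent
import Groth.Agent.Lib.Helper26.QRegCot
import Groth.Agent.S5802

/-!
# Helper5 — RelGCIG

The relations of a relative global complete intersection form a quasi-regular sequence in `R[x]`;
the conormal module is free on their classes; regularity in the local rings.
-/

set_option autoImplicit false
universe u

namespace Groth.Agent.Lib.Helper5.RelGCI

open RingTheory.Sequence Synt

variable (R : Type u) [CommRing R] (n c : ℕ) (F : Fin c → MvPolynomial (Fin n) R)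

theorem isQuasiRegular_of_isRelGCI (hF : IsRelGCI R n c F) : CAlgX.IsQuasiRegular F := by
  apply Groth.Agent.Lib.Helper21.QRDescent.qr_of_localization_maximal
  intro m hm
  by_cases h : Ideal.span (Set.range F) ≤ m
  · obtain ⟨hreg, -⟩ := regular_flat_of_isRelGCI' R n c F hF m h
    apply Groth.Agent.S5802.result
    rw [← List.map_ofFn]
    exact hreg
  · apply Groth.Agent.Lib.Helper21.QRDescent.qr_of_span_eq_top
    rw [Ideal.span_le] at h
    obtain ⟨_, ⟨i, rfl⟩, hi⟩ := Set.not_subset.1 h
    have hu : IsUnit (algebraMap (MvPolynomial (Fin n) R) (Localization.AtPrime m) (F i)) :=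
      IsLocalization.map_units (Localization.AtPrime m) (⟨F i, hi⟩ : m.primeCompl)
    exact Ideal.eq_top_of_isUnit_mem _ (Ideal.subset_span ⟨i, rfl⟩) hu

theorem cotangent_basis_of_isRelGCI (hF : IsRelGCI R n c F) :
    LinearIndependent (RelGCIRing R n c F)
        (fun i : Fin c => (Ideal.span (Set.range F)).toCotangent
          ⟨F i, Ideal.subset_span (Set.mem_range_self i)⟩) ∧
      Submodule.span (RelGCIRing R n c F) (Set.range
        (fun i : Fin c => (Ideal.span (Set.range F)).toCotangent
          ⟨F i, Ideal.subset_span (Set.mem_range_self i)⟩)) = ⊤ :=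
  Groth.Agent.Lib.Helper26.QRegCot.basis_of_qreg (Ideal.span (Set.range F))
    (fun i => ⟨F i, Ideal.subset_span (Set.mem_range_self i)⟩)
    (isQuasiRegular_of_isRelGCI R n c F hF) rfl

theorem isRegular_of_isRelGCI (hF : IsRelGCI R n c F)
    (Q : Ideal (MvPolynomial (Fin n) R)) [Q.IsPrime] (hQ : Ideal.span (Set.range F) ≤ Q) :
    IsRegular (Localization.AtPrime Q)
      ((List.ofFn F).map (algebraMap (MvPolynomial (Fin n) R) (Localization.AtPrime Q))) := by
  refine (IsLocalRing.isRegular_iff_isWeaklyRegular_of_subset_maximalIdeal ?_).2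
    (regular_flat_of_isRelGCI' R n c F hF Q hQ).1
  intro r hr
  obtain ⟨x, hx, rfl⟩ := List.mem_map.1 hr
  obtain ⟨i, rfl⟩ := (List.mem_ofFn' F x).1 hx
  exact (IsLocalization.AtPrime.to_map_mem_maximal_iff (Localization.AtPrime Q) Q _).2
    (hQ (Ideal.subset_span ⟨i, rfl⟩))

end Groth.Agent.Lib.Helper5.RelGCI
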