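import Mathlib
import Groth.Prelude.Def_RegImm
import Groth.Agent.Lib.Helper5.RelGCIG

/-!
# Helper5 — JacGCIA

Jacobian criterion for relative global complete intersections: linear algebra, localized
split injections and the conormal basis of the naive presentation.
-/

set_option autoImplicit false
universe u

namespace Groth.Agent.Lib.Helper5.JacGCI

open Module Synt Algebra MvPolynomial



/-- a matrix over a field with linearly independent rows has a nonvanishing maximal minor. -/
theorem exists_minor_ne_zero {K : Type u} [Field K] {c n : ℕ} (M : Matrix (Fin c) (Fin n) K)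
    (h : LinearIndependent K M.row) :
    ∃ I : Fin c ↪ Fin n, (M.submatrix id I).det ≠ 0 := by
  have hrank : M.rank = c := by
    rw [h.rank_matrix, Fintype.card_fin]
  have hspan : Submodule.span K (Set.range M.col) = ⊤ := by
    apply Submodule.eq_top_of_finrank_eq
    rw [← Matrix.rank_eq_finrank_span_cols, hrank, Module.finrank_fin_fun]
  obtain ⟨κ, a, ha, hsp, hli⟩ := exists_linearIndependent' K M.col
  rw [hspan] at hsp
  let b : Basis κ K (Fin c → K) := Basis.mk hli (by rw [hsp])
  have hfin : Finite κ := Module.Finite.finite_basis b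
  have : Fintype κ := Fintype.ofFinite κ
  have hcard : Fintype.card κ = c := by
    have := Module.finrank_eq_card_basis b
    rw [Module.finrank_fin_fun] at this
    exact this.symm
  let e : Fin c ≃ κ := (Fintype.equivFinOfCardEq hcard).symm
  refine ⟨⟨a ∘ e, ha.comp e.injective⟩, ?_⟩
  have hcols : LinearIndependent K (M.submatrix id (a ∘ e)).col := by
    have : (M.submatrix id (a ∘ e)).col = (M.col ∘ a) ∘ e := by
      ext i j
      rfl
    rw [this]
    exact hli.comp _ e.injective
  have hu := Matrix.linearIndependent_cols_iff_isUnit.1 hcols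
  have hdet := (Matrix.isUnit_iff_isUnit_det _).1 hu
  exact hdet.ne_zero




theorem exists_retraction_localized {S : Type u} [CommRing S] (q : Ideal S) [q.IsPrime]
    {M N Z : Type u} [AddCommGroup M] [AddCommGroup N] [AddCommGroup Z]
    [Module S M] [Module S N] [Module S Z] (φ : M →ₗ[S] N) (π : N →ₗ[S] Z)
    (hex : Function.Exact φ π) (hπ : Function.Surjective π)
    (hker : Subsingleton (LocalizedModule q.primeCompl (LinearMap.ker φ)))
    (hproj : Module.Projective (Localization.AtPrime q) (LocalizedModule q.primeCompl Z)) :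
    ∃ r : LocalizedModule q.primeCompl N →ₗ[Localization.AtPrime q]
        LocalizedModule q.primeCompl M,
      r ∘ₗ (LocalizedModule.map q.primeCompl φ) = LinearMap.id := by
  have hex0 : Function.Exact (LinearMap.ker φ).subtype φ := LinearMap.exact_subtype_ker_map φ
  have hex1 : Function.Exact (LocalizedModule.map q.primeCompl (LinearMap.ker φ).subtype)
      (LocalizedModule.map q.primeCompl φ) :=
    fun y => LocalizedModule.map_exact q.primeCompl _ _ hex0 y
  have hinj : Function.Injective (LocalizedModule.map q.primeCompl φ) := by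
    rw [← LinearMap.ker_eq_bot, LinearMap.ker_eq_bot']
    intro x hx
    obtain ⟨y, rfl⟩ := (hex1 x).1 hx
    rw [Subsingleton.elim y 0, map_zero]
  have hex2 : Function.Exact (LocalizedModule.map q.primeCompl φ)
      (LocalizedModule.map q.primeCompl π) :=
    fun y => LocalizedModule.map_exact q.primeCompl _ _ hex y
  have hsurj := LocalizedModule.map_surjective q.primeCompl π hπ
  obtain ⟨s, hs⟩ := Module.projective_lifting_property
    (LocalizedModule.map q.primeCompl π) LinearMap.id hsurj
  have htfae := hex2.split_tfae'
  have h01 := htfae.out 0 1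
  exact (h01.1 ⟨hinj, s, hs⟩).2




theorem repr_mem_of_mem_smul_top {A M ι : Type*} [CommRing A] [AddCommGroup M] [Module A M]
    (b : Basis ι A M) (I : Ideal A) (x : M) (hx : x ∈ I • (⊤ : Submodule A M)) (j : ι) :
    b.repr x j ∈ I := by
  refine Submodule.smul_induction_on (p := fun x => b.repr x j ∈ I) hx ?_ ?_
  · intro r hr m _
    rw [map_smul, Finsupp.smul_apply, smul_eq_mul]
    exact I.mul_mem_right _ hr
  · intro x y hx hy
    rw [map_add, Finsupp.add_apply]
    exact I.add_mem hx hy

theorem linearIndependent_rows_of_retraction {S : Type u} [CommRing S] (q : Ideal S) [q.IsPrime]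
    {M N : Type u} [AddCommGroup M] [AddCommGroup N] [Module S M] [Module S N] (φ : M →ₗ[S] N)
    {c n : ℕ} (bM : Basis (Fin c) S M) (bN : Basis (Fin n) S N)
    (Jac : Matrix (Fin c) (Fin n) S) (hJac : ∀ j, φ (bM j) = ∑ i, Jac j i • bN i)
    (r : LocalizedModule q.primeCompl N →ₗ[Localization.AtPrime q] LocalizedModule q.primeCompl M)
    (hr : r ∘ₗ (LocalizedModule.map q.primeCompl φ) = LinearMap.id) :
    LinearIndependent (IsLocalRing.ResidueField (Localization.AtPrime q))
      (Jac.map (fun s => IsLocalRing.residue (Localization.AtPrime q)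
        (algebraMap S (Localization.AtPrime q) s))).row := by
  let A := Localization.AtPrime q
  let bM' : Basis (Fin c) A (LocalizedModule q.primeCompl M) :=
    bM.ofIsLocalizedModule A q.primeCompl (LocalizedModule.mkLinearMap q.primeCompl M)
  let bN' : Basis (Fin n) A (LocalizedModule q.primeCompl N) :=
    bN.ofIsLocalizedModule A q.primeCompl (LocalizedModule.mkLinearMap q.primeCompl N)
  rw [Fintype.linearIndependent_iff]
  intro g hg j0
  have hlift : ∀ j, ∃ a : A, IsLocalRing.residue A a = g j := fun j =>
    IsLocalRing.residue_surjective (g j)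
  choose a ha using hlift
  let x : LocalizedModule q.primeCompl M := ∑ j, a j • bM' j
  have hφb : ∀ j, LocalizedModule.map q.primeCompl φ (bM' j) =
      ∑ i, algebraMap S A (Jac j i) • bN' i := by
    intro j
    rw [Basis.ofIsLocalizedModule_apply, LocalizedModule.mkLinearMap_apply,
      LocalizedModule.map_mk, hJac j, ← LocalizedModule.mkLinearMap_apply, map_sum]
    refine Finset.sum_congr rfl fun i _ => ?_
    rw [map_smul, Basis.ofIsLocalizedModule_apply, algebraMap_smul]
  have hφx : LocalizedModule.map q.primeCompl φ x =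
      ∑ i, (∑ j, a j * algebraMap S A (Jac j i)) • bN' i := by
    simp only [x, map_sum, map_smul, hφb, Finset.smul_sum]
    rw [Finset.sum_comm]
    refine Finset.sum_congr rfl fun i _ => ?_
    rw [Finset.sum_smul]
    refine Finset.sum_congr rfl fun j _ => ?_
    rw [mul_smul]
  have hcoef : ∀ i, (∑ j, a j * algebraMap S A (Jac j i)) ∈ IsLocalRing.maximalIdeal A := by
    intro i
    rw [← IsLocalRing.residue_eq_zero_iff, map_sum]
    have := congrFun hg i
    simp only [Finset.sum_apply, Pi.smul_apply, Matrix.row_apply, Matrix.map_apply,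
      smul_eq_mul, Pi.zero_apply] at this
    rw [← this]
    refine Finset.sum_congr rfl fun j _ => ?_
    rw [map_mul, ha]
  have hmem : LocalizedModule.map q.primeCompl φ x ∈
      IsLocalRing.maximalIdeal A • (⊤ : Submodule A (LocalizedModule q.primeCompl N)) := by
    rw [hφx]
    exact Submodule.sum_mem _ fun i _ => Submodule.smul_mem_smul (hcoef i) Submodule.mem_top
  have hx : x ∈ IsLocalRing.maximalIdeal A • (⊤ : Submodule A (LocalizedModule q.primeCompl M)) := by
    have h1 : x = r (LocalizedModule.map q.primeCompl φ x) := by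
      have := LinearMap.congr_fun hr x
      simpa using this.symm
    rw [h1]
    have h2 : (IsLocalRing.maximalIdeal A • (⊤ : Submodule A (LocalizedModule q.primeCompl N))).map r ≤
        IsLocalRing.maximalIdeal A • (⊤ : Submodule A (LocalizedModule q.primeCompl M)) := by
      rw [Submodule.map_smul'']
      exact Submodule.smul_mono le_rfl le_top
    exact h2 (Submodule.mem_map_of_mem hmem)
  have hrepr := repr_mem_of_mem_smul_top bM' _ x hx j0
  have hxrepr : bM'.repr x j0 = a j0 := by
    simp only [x, map_sum, map_smul, Basis.repr_self, Finsupp.coe_finsetSum, Finsupp.coe_smul,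
      Finset.sum_apply, Pi.smul_apply, smul_eq_mul]
    rw [Finset.sum_eq_single j0]
    · simp
    · intro j _ hj
      simp [hj]
    · intro h; exact absurd (Finset.mem_univ _) h
  rw [hxrepr] at hrepr
  rw [← ha j0]
  exact (IsLocalRing.residue_eq_zero_iff _).2 hrepr




variable (R : Type u) [CommRing R] (n c : ℕ) (F : Fin c → MvPolynomial (Fin n) R)

theorem coeff_mem_of_sum_mem_sq (hF : IsRelGCI R n c F) (p : Fin c → MvPolynomial (Fin n) R)
    (h : ∑ j, p j * F j ∈ Ideal.span (Set.range F) ^ 2) (j : Fin c) :
    p j ∈ Ideal.span (Set.range F) := by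
  have hqr := Groth.Agent.Lib.Helper5.RelGCI.isQuasiRegular_of_isRelGCI R n c F hF
  let Q : MvPolynomial (Fin c) (MvPolynomial (Fin n) R) := ∑ j, C (p j) * X j
  have hQh : Q.IsHomogeneous 1 := by
    apply MvPolynomial.IsHomogeneous.sum
    intro j _
    have := (MvPolynomial.isHomogeneous_C (Fin c) (p j)).mul (MvPolynomial.isHomogeneous_X _ j)
    simpa using this
  have hQe : MvPolynomial.eval F Q ∈ Ideal.span (Set.range F) ^ (1 + 1) := by
    have : MvPolynomial.eval F Q = ∑ j, p j * F j := by
      simp [Q]
    rw [this]
    exact h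
  have hcoef := hqr 1 Q hQh hQe (Finsupp.single j 1)
  have hcj : Q.coeff (Finsupp.single j 1) = p j := by
    simp only [Q, MvPolynomial.coeff_sum, MvPolynomial.coeff_C_mul, MvPolynomial.coeff_X]
    rw [Finset.sum_eq_single j]
    · simp
    · intro b _ hb
      have : ¬ (Finsupp.single b 1 = Finsupp.single j 1) := by
        intro h
        apply hb
        exact (Finsupp.single_left_injective one_ne_zero) h
      simp [this]
    · intro h; exact absurd (Finset.mem_univ _) h
  rw [hcj] at hcoef
  exact hcoef

/-- the naive presentation of `R[x]/(F)`. -/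
noncomputable abbrev pres : Algebra.Presentation R (RelGCIRing R n c F) (Fin n) (Fin c) :=
  Algebra.Presentation.naive (v := F)

theorem ker_pres : (pres R n c F).toExtension.ker = Ideal.span (Set.range F) :=
  Algebra.Generators.ker_naive (Function.surjInv Ideal.Quotient.mk_surjective)
    (Function.surjInv_eq _)

theorem mem_ker_pres (j : Fin c) : F j ∈ (pres R n c F).toExtension.ker :=
  (pres R n c F).relation_mem_ker j

theorem linearIndependent_cotangent_mk_of {R S : Type u} [CommRing R] [CommRing S] [Algebra R S]
    (P : Algebra.Extension.{u} R S) {c : ℕ} (f : Fin c → P.ker)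
    (hQ : ∀ p : Fin c → P.Ring, ∑ j, p j * (f j : P.Ring) ∈ P.ker ^ 2 → ∀ j, p j ∈ P.ker) :
    LinearIndependent S (fun j => Extension.Cotangent.mk (f j)) := by
  rw [Fintype.linearIndependent_iff]
  intro g hg j
  have hlift : ∀ j, ∃ p : P.Ring, algebraMap P.Ring S p = g j := fun j =>
    P.algebraMap_surjective (g j)
  choose p hp using hlift
  have h1 : ∑ j, g j • Extension.Cotangent.mk (f j) =
      Extension.Cotangent.mk (∑ j, p j • f j) := by
    rw [map_sum]
    refine Finset.sum_congr rfl fun j _ => ?_
    rw [map_smul, ← hp j, algebraMap_smul]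
  rw [h1, Extension.Cotangent.mk_eq_zero_iff] at hg
  have h2 : (∑ j, p j • f j).1 = ∑ j, p j * (f j : P.Ring) := Submodule.coe_sum _ _ _
  rw [h2] at hg
  have := hQ p hg j
  rw [← hp j]
  exact (RingHom.mem_ker).1 this

theorem linearIndependent_cotangent_mk (hF : IsRelGCI R n c F) :
    LinearIndependent (RelGCIRing R n c F)
      (fun j => Extension.Cotangent.mk (P := (pres R n c F).toExtension)
        ⟨F j, mem_ker_pres R n c F j⟩) := by
  apply linearIndependent_cotangent_mk_of (pres R n c F).toExtension
    (fun j => ⟨F j, mem_ker_pres R n c F j⟩)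
  intro p hp j
  have hk := ker_pres R n c F
  have hk2 : (pres R n c F).toExtension.ker ^ 2 = Ideal.span (Set.range F) ^ 2 :=
    congrArg (· ^ 2) hk
  rw [hk2] at hp
  rw [hk]
  exact coeff_mem_of_sum_mem_sq R n c F hF p hp j

theorem span_cotangent_mk :
    Submodule.span (RelGCIRing R n c F) (Set.range
      (fun j => Extension.Cotangent.mk (P := (pres R n c F).toExtension)
        ⟨F j, mem_ker_pres R n c F j⟩)) = ⊤ :=
  Extension.Cotangent.span_eq_top_of_span_eq_ker (P := (pres R n c F).toExtension) F
    (ker_pres R n c F).symm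

theorem cotangentComplex_mk_eq (j : Fin c) :
    (pres R n c F).toExtension.cotangentComplex
        (Extension.Cotangent.mk ⟨F j, mem_ker_pres R n c F j⟩) =
      ∑ i, (Ideal.Quotient.mk (Ideal.span (Set.range F)) (pderiv i (F j))) •
        (pres R n c F).cotangentSpaceBasis i := by
  rw [Extension.cotangentComplex_mk]
  conv_lhs => rw [← ((pres R n c F).cotangentSpaceBasis).sum_repr
    ((1 : RelGCIRing R n c F) ⊗ₜ[(pres R n c F).toExtension.Ring]
      (KaehlerDifferential.D R (pres R n c F).toExtension.Ring) (F j))]
  refine Finset.sum_congr rfl fun i _ => ?_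
  congr 1
  refine (Generators.cotangentSpaceBasis_repr_one_tmul (pres R n c F).toGenerators (F j) i).trans ?_
  exact ((pres R n c F).toGenerators.algebraMap_apply _).symm


end Groth.Agent.Lib.Helper5.JacGCI
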