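import Mathlib
import Groth.Prelude.Def_RegImm
import Groth.Agent.Lib.Helper5.JacGCIA

/-!
# Helper5 — JacGCIB

Jacobian criterion for smoothness of a relative global complete intersection at a prime.
-/

set_option autoImplicit false
universe u

namespace Groth.Agent.Lib.Helper5.JacGCI

open Module Synt Algebra MvPolynomial

variable (R : Type u) [CommRing R] (n c : ℕ) (F : Fin c → MvPolynomial (Fin n) R)

theorem exists_minor_of_isSmoothAt (hF : IsRelGCI R n c F)
    (q : Ideal (RelGCIRing R n c F)) [hq : q.IsPrime] (h : Algebra.IsSmoothAt R q) :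
    ∃ I : Fin c ↪ Fin n,
      Ideal.Quotient.mk (Ideal.span (Set.range F))
        (Matrix.det (Matrix.of fun j i => MvPolynomial.pderiv (I i) (F j))) ∉ q := by
  have hft : Algebra.FiniteType R (RelGCIRing R n c F) :=
    Algebra.FiniteType.of_surjective (Ideal.Quotient.mkₐ R _) (Ideal.Quotient.mkₐ_surjective R _)
  have hmem : (⟨q, hq⟩ : PrimeSpectrum (RelGCIRing R n c F)) ∈
      Algebra.smoothLocus R (RelGCIRing R n c F) := h
  rw [Algebra.smoothLocus_eq_compl_support_inter] at hmem
  obtain ⟨h1, h2⟩ := hmem
  have h1' : (⟨q, hq⟩ : PrimeSpectrum (RelGCIRing R n c F)) ∉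
      Module.support (RelGCIRing R n c F) (pres R n c F).toExtension.H1Cotangent := by
    rw [LinearEquiv.support_eq (pres R n c F).toGenerators.equivH1Cotangent]
    exact h1
  rw [Module.notMem_support_iff] at h1'
  have hker : Subsingleton (LocalizedModule q.primeCompl
      (LinearMap.ker (pres R n c F).toExtension.cotangentComplex)) := h1'
  have hfree : Module.Free (Localization.AtPrime q)
      (LocalizedModule q.primeCompl Ω[RelGCIRing R n c F⁄R]) := Module.mem_freeLocus.1 h2
  have hproj : Module.Projective (Localization.AtPrime q)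
      (LocalizedModule q.primeCompl Ω[RelGCIRing R n c F⁄R]) := Module.Projective.of_free
  obtain ⟨r, hr⟩ := exists_retraction_localized q
    (pres R n c F).toExtension.cotangentComplex (pres R n c F).toExtension.toKaehler
    (pres R n c F).toExtension.exact_cotangentComplex_toKaehler
    (pres R n c F).toExtension.toKaehler_surjective hker hproj
  let bM : Basis (Fin c) (RelGCIRing R n c F) (pres R n c F).toExtension.Cotangent :=
    Basis.mk (linearIndependent_cotangent_mk R n c F hF) (span_cotangent_mk R n c F).ge
  let Jac : Matrix (Fin c) (Fin n) (RelGCIRing R n c F) :=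
    Matrix.of fun j i => Ideal.Quotient.mk (Ideal.span (Set.range F)) (pderiv i (F j))
  have hJac : ∀ j, (pres R n c F).toExtension.cotangentComplex (bM j) =
      ∑ i, Jac j i • (pres R n c F).cotangentSpaceBasis i := by
    intro j
    rw [Basis.mk_apply]
    exact cotangentComplex_mk_eq R n c F j
  have hli := linearIndependent_rows_of_retraction q
    (pres R n c F).toExtension.cotangentComplex bM (pres R n c F).cotangentSpaceBasis Jac hJac r hr
  obtain ⟨I, hI⟩ := exists_minor_ne_zero _ hli
  refine ⟨I, fun hmemq => hI ?_⟩
  let ψ : RelGCIRing R n c F →+* IsLocalRing.ResidueField (Localization.AtPrime q) :=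
    (IsLocalRing.residue (Localization.AtPrime q)).comp
      (algebraMap (RelGCIRing R n c F) (Localization.AtPrime q))
  have hsub : ((Jac.map (fun s => IsLocalRing.residue (Localization.AtPrime q)
        (algebraMap (RelGCIRing R n c F) (Localization.AtPrime q) s))).submatrix id I) =
      (Matrix.of fun j i => Ideal.Quotient.mk (Ideal.span (Set.range F))
        (MvPolynomial.pderiv (I i) (F j))).map ψ := by
    ext j i
    rfl
  rw [hsub, ← RingHom.mapMatrix_apply, ← RingHom.map_det]
  have hdet : (Matrix.of fun j i => Ideal.Quotient.mk (Ideal.span (Set.range F))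
        (MvPolynomial.pderiv (I i) (F j))).det =
      Ideal.Quotient.mk (Ideal.span (Set.range F))
        (Matrix.det (Matrix.of fun j i => MvPolynomial.pderiv (I i) (F j))) := by
    rw [RingHom.map_det]
    rfl
  rw [hdet]
  change IsLocalRing.residue _ (algebraMap _ _ _) = 0
  rw [IsLocalRing.residue_eq_zero_iff]
  exact (IsLocalization.AtPrime.to_map_mem_maximal_iff (Localization.AtPrime q) q _).2 hmemq

theorem isSmoothAt_of_minor (I : Fin c ↪ Fin n)
    (q : Ideal (RelGCIRing R n c F)) [hq : q.IsPrime]
    (hg : Ideal.Quotient.mk (Ideal.span (Set.range F))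
        (Matrix.det (Matrix.of fun j i => MvPolynomial.pderiv (I i) (F j))) ∉ q) :
    Algebra.IsSmoothAt R q := by
  obtain ⟨g, hgdef⟩ : ∃ g : RelGCIRing R n c F, g = Ideal.Quotient.mk (Ideal.span (Set.range F))
        (Matrix.det (Matrix.of fun j i => MvPolynomial.pderiv (I i) (F j))) := ⟨_, rfl⟩
  rw [← hgdef] at hg
  let P₀ : PreSubmersivePresentation R (RelGCIRing R n c F) (Fin n) (Fin c) :=
    PreSubmersivePresentation.naive (v := F) I I.injective
  have hjac : P₀.jacobian = g := by
    rw [PreSubmersivePresentation.jacobian_eq_jacobiMatrix_det, hgdef]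
    have hM : P₀.jacobiMatrix = (Matrix.of fun j i => MvPolynomial.pderiv (I i) (F j)).transpose := by
      ext i j
      rw [PreSubmersivePresentation.jacobiMatrix_naive]
      rfl
    rw [hM, Matrix.det_transpose]
    rfl
  let Q : SubmersivePresentation (RelGCIRing R n c F) (Localization.Away g) Unit Unit :=
    SubmersivePresentation.localizationAway (Localization.Away g) g
  let PQ : PreSubmersivePresentation R (Localization.Away g) (Unit ⊕ Fin n) (Unit ⊕ Fin c) :=
    Q.toPreSubmersivePresentation.comp P₀
  have hunit : IsUnit PQ.jacobian := by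
    rw [PreSubmersivePresentation.comp_jacobian_eq_jacobian_smul_jacobian, Algebra.smul_def,
      IsUnit.mul_iff, hjac]
    exact ⟨IsLocalization.map_units _ (⟨g, 1, by simp⟩ : Submonoid.powers g), Q.jacobian_isUnit⟩
  let PS : SubmersivePresentation R (Localization.Away g) (Unit ⊕ Fin n) (Unit ⊕ Fin c) :=
    { toPreSubmersivePresentation := PQ, jacobian_isUnit := hunit }
  have hstd : Algebra.IsStandardSmooth R (Localization.Away g) := PS.isStandardSmooth
  have hsm : Algebra.Smooth R (Localization.Away g) := inferInstance
  have hfp : Algebra.FinitePresentation R (RelGCIRing R n c F) :=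
    (Algebra.Presentation.naive (v := F)).finitePresentation_of_isFinite
  have hsub : ↑(PrimeSpectrum.basicOpen g) ⊆ Algebra.smoothLocus R (RelGCIRing R n c F) :=
    Algebra.basicOpen_subset_smoothLocus_iff.2 inferInstance
  exact hsub (show (⟨q, hq⟩ : PrimeSpectrum _) ∈ PrimeSpectrum.basicOpen g from hg)

end Groth.Agent.Lib.Helper5.JacGCI
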