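import Mathlib
import Groth.Agent.Lib.Helper5.JacG
import Groth.Agent.Lib.Helper7.AffinePoints

set_option autoImplicit false
universe u

namespace Groth.Agent.Lib.Helper5.Jac

open AlgebraicGeometry CategoryTheory TensorProduct Module

theorem exists_closedImmersion_of_finrank {X Y : Scheme.{u}} (f : X ⟶ Y) [LocallyOfFiniteType f]
    (p : ℕ) {D : X.Opens} (hD : IsAffineOpen D) {V : Y.Opens} (hV : IsAffineOpen V)
    (e : D ≤ f ⁻¹ᵁ V) (x : X) (hx : x ∈ D)
    (H : let := (f.appLE V D e).hom.toAlgebra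
      finrank (hD.primeIdealOf ⟨x, hx⟩).asIdeal.ResidueField
        ((hD.primeIdealOf ⟨x, hx⟩).asIdeal.ResidueField ⊗[Γ(X, D)] Ω[Γ(X, D)⁄Γ(Y, V)]) ≤ p) :
    ∃ (U : X.Opens) (U' : Scheme.{u}) (i : (U : Scheme.{u}) ⟶ U') (g : U' ⟶ Y),
      x ∈ U ∧ IsClosedImmersion i ∧ SmoothOfRelativeDimension p g ∧ i ≫ g = U.ι ≫ f := by
  let alg : Algebra Γ(Y, V) Γ(X, D) := (f.appLE V D e).hom.toAlgebra
  have : Algebra.FiniteType Γ(Y, V) Γ(X, D) := LocallyOfFiniteType.finiteType_appLE f hV hD e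
  obtain ⟨s, hs, Pr, _, α, φ, hφ, hcomp, hα⟩ :=
    exists_stdSmooth_surjection (hD.primeIdealOf ⟨x, hx⟩).asIdeal p H
  have hU : IsAffineOpen (X.basicOpen s) := hD.basicOpen s
  have hxU : x ∈ X.basicOpen s := by
    by_contra hn
    exact hs ((Groth.Agent.Lib.Helper7.AffPts.mem_primeIdealOf_iff hD ⟨x, hx⟩ s).2 hn)
  have e' : X.basicOpen s ≤ f ⁻¹ᵁ V := (X.basicOpen_le s).trans e
  have := hD.isLocalization_basicOpen s
  let ψ : Localization.Away s ≃ₐ[Γ(X, D)] Γ(X, X.basicOpen s) :=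
    IsLocalization.algEquiv (Submonoid.powers s) _ _
  let χ : Pr →+* Γ(X, X.basicOpen s) := ψ.toRingEquiv.toRingHom.comp φ
  have hχ : Function.Surjective χ := ψ.surjective.comp hφ
  have hχα : CommRingCat.ofHom α ≫ CommRingCat.ofHom χ = f.appLE V (X.basicOpen s) e' := by
    ext a
    change ψ (φ (α a)) = (f.appLE V (X.basicOpen s) e').hom a
    have h1 : φ (α a) = algebraMap Γ(Y, V) (Localization.Away s) a := by
      rw [← hcomp]
      rfl
    rw [h1, IsScalarTower.algebraMap_apply Γ(Y, V) Γ(X, D) (Localization.Away s), ψ.commutes,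
      ← Scheme.Hom.appLE_map f e (homOfLE (X.basicOpen_le s)).op]
    rfl
  refine ⟨X.basicOpen s, Spec (CommRingCat.of Pr),
    hU.isoSpec.hom ≫ Spec.map (CommRingCat.ofHom χ),
    Spec.map (CommRingCat.ofHom α) ≫ hV.fromSpec, hxU, ?_, ?_, ?_⟩
  · have : IsClosedImmersion (Spec.map (CommRingCat.ofHom χ)) :=
      IsClosedImmersion.spec_of_surjective _ hχ
    infer_instance
  · have : SmoothOfRelativeDimension p (Spec.map (CommRingCat.ofHom α)) := by
      rw [HasRingHomProperty.Spec_iff (P := @SmoothOfRelativeDimension p)]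
      exact RingHom.locally_of RingHom.isStandardSmoothOfRelativeDimension_respectsIso _ hα
    exact inferInstanceAs (SmoothOfRelativeDimension (p + 0) _)
  · rw [Category.assoc, ← Category.assoc (Spec.map _), ← Spec.map_comp, hχα,
      IsAffineOpen.SpecMap_appLE_fromSpec f hV hU e', ← Category.assoc,
      IsAffineOpen.isoSpec_hom_fromSpec]

end Groth.Agent.Lib.Helper5.Jac
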