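import Mathlib
import Groth.Agent.Lib.Helper5.JacD
import Groth.Agent.Lib.Helper5.JacE

set_option autoImplicit false
universe u

namespace Groth.Agent.Lib.Helper5.Jac

open AlgebraicGeometry CategoryTheory TensorProduct Module KaehlerDifferential

theorem exists_chart_ringHom {Y X P : Scheme.{u}} (f : Y ⟶ X) (U : Y.Opens)
    (i : (U : Scheme.{u}) ⟶ P) (π : P ⟶ X) (hcomm : i ≫ π = U.ι ≫ f)
    {V : X.Opens} {W : P.Opens} (hW : IsAffineOpen W) (eW : W ≤ π ⁻¹ᵁ V)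
    [IsClosedImmersion (i ∣_ W)] :
    ∃ (hD : IsAffineOpen (U.ι ''ᵁ (i ⁻¹ᵁ W))) (e : U.ι ''ᵁ (i ⁻¹ᵁ W) ≤ f ⁻¹ᵁ V)
      (ρ : Γ(P, W) →+* Γ(Y, U.ι ''ᵁ (i ⁻¹ᵁ W))), Function.Surjective ρ ∧
      ρ.comp (π.appLE V W eW).hom = (f.appLE V (U.ι ''ᵁ (i ⁻¹ᵁ W)) e).hom := by
  have hD' : IsAffineOpen (i ⁻¹ᵁ W) :=
    Groth.Agent.Lib.Helper5.RegImmA.isAffineOpen_preimage_of_restrict i hW
  have hD : IsAffineOpen (U.ι ''ᵁ (i ⁻¹ᵁ W)) := hD'.image_of_isOpenImmersion U.ι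
  have e : U.ι ''ᵁ (i ⁻¹ᵁ W) ≤ f ⁻¹ᵁ V := by
    rintro _ ⟨u, hu, rfl⟩
    have h1 : f (U.ι u) = π (i u) := by
      rw [← Scheme.Hom.comp_apply, ← Scheme.Hom.comp_apply, hcomm]
    change f (U.ι u) ∈ V
    rw [h1]
    exact eW hu
  have e1 : i ⁻¹ᵁ W ≤ (i ≫ π) ⁻¹ᵁ V := fun u hu => eW hu
  have e2 : i ⁻¹ᵁ W ≤ (U.ι ≫ f) ⁻¹ᵁ V := fun u hu => e ⟨u, hu, rfl⟩
  have e3 : i ⁻¹ᵁ W ≤ U.ι ⁻¹ᵁ (U.ι ''ᵁ (i ⁻¹ᵁ W)) := fun u hu => ⟨u, hu, rfl⟩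
  have hc1 : π.appLE V W eW ≫ i.app W = (i ≫ π).appLE V (i ⁻¹ᵁ W) e1 := by
    rw [← Scheme.Hom.appLE_eq_app, Scheme.Hom.appLE_comp_appLE]
  have hc2 : (U.ι ≫ f).appLE V (i ⁻¹ᵁ W) e2 =
      f.appLE V (U.ι ''ᵁ (i ⁻¹ᵁ W)) e ≫ U.ι.appLE (U.ι ''ᵁ (i ⁻¹ᵁ W)) (i ⁻¹ᵁ W) e3 :=
    (Scheme.Hom.appLE_comp_appLE U.ι f V _ _ e e3).symm
  have hc3 : U.ι.appLE (U.ι ''ᵁ (i ⁻¹ᵁ W)) (i ⁻¹ᵁ W) e3 = 𝟙 _ := by
    rw [Scheme.Opens.ι_appLE]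
    exact Y.presheaf.map_id _
  have hc : π.appLE V W eW ≫ i.app W = f.appLE V (U.ι ''ᵁ (i ⁻¹ᵁ W)) e := by
    rw [hc1, appLE_congr _ _ hcomm V _ e1 e2, hc2, hc3]
    exact Category.comp_id _
  refine ⟨hD, e, (i.app W).hom,
    Groth.Agent.Lib.Helper5.RegImmA.app_surjective_of_restrict i hW, ?_⟩
  rw [← hc]
  rfl

theorem finrank_le_of_surjective {A Pr B : Type u} [CommRing A] [CommRing Pr] [CommRing B]
    [Algebra A Pr] [Algebra Pr B] [Algebra A B] [IsScalarTower A Pr B]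
    (hsurj : Function.Surjective (algebraMap Pr B))
    [Module.Free Pr Ω[Pr⁄A]] [Module.Finite Pr Ω[Pr⁄A]] (q : Ideal B) [q.IsPrime] :
    finrank q.ResidueField (q.ResidueField ⊗[B] Ω[B⁄A]) ≤ finrank Pr Ω[Pr⁄A] := by
  have : Nontrivial B := ⟨⟨0, 1, fun h01 => by
    apply Ideal.IsPrime.ne_top (I := q) inferInstance
    rw [Ideal.eq_top_iff_one, ← h01]
    exact zero_mem _⟩⟩
  have : Nontrivial Pr := (algebraMap Pr B).domain_nontrivial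
  let ψ := (KaehlerDifferential.mapBaseChange A Pr B).baseChange q.ResidueField
  have hψ : Function.Surjective ψ := by
    have := LinearMap.lTensor_surjective q.ResidueField
      (KaehlerDifferential.mapBaseChange_surjective A Pr B hsurj)
    intro y
    obtain ⟨z, hz⟩ := this y
    exact ⟨z, by simpa [ψ, LinearMap.baseChange_eq_ltensor] using hz⟩
  have h1 := LinearMap.finrank_range_le ψ
  rw [LinearMap.range_eq_top.mpr hψ, finrank_top] at h1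
  refine h1.trans (le_of_eq ?_)
  rw [Module.finrank_baseChange, Module.finrank_baseChange]

theorem not_mem_support_iff_finrank {Y X : Scheme.{u}} (f : Y ⟶ X)
    [LocallyOfFiniteType f] [QuasiSeparated f] (m : ℕ)
    {D : Y.Opens} (hD : IsAffineOpen D) {V : X.Opens} (hV : IsAffineOpen V) (e : D ≤ f ⁻¹ᵁ V)
    (y : Y) (hy : y ∈ D) :
    y ∉ (Fitt.sheafIdeal (Omega.sheaf f) m).support ↔
      (let := (f.appLE V D e).hom.toAlgebra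
      finrank (hD.primeIdealOf ⟨y, hy⟩).asIdeal.ResidueField
        ((hD.primeIdealOf ⟨y, hy⟩).asIdeal.ResidueField ⊗[Γ(Y, D)] Ω[Γ(Y, D)⁄Γ(X, V)]) ≤ m) := by
  let := (f.appLE V D e).hom.toAlgebra
  rw [Groth.Agent.Lib.Helper5.FittSheaf.not_mem_support_iff (Omega.sheaf f) m hD y hy]
  obtain ⟨Φ, hΦ⟩ := Groth.Agent.Lib.Helper29.OmegaLoc.exists_sections_equiv f hD hV e
  let L : Γ(Omega.sheaf f, D) ≃ₗ[Γ(Y, D)] Ω[Γ(Y, D)⁄Γ(X, V)] := { Φ with map_smul' := hΦ }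
  have : Algebra.FiniteType Γ(X, V) Γ(Y, D) :=
    LocallyOfFiniteType.finiteType_appLE f hV hD e
  rw [Helper23.Fit.ideal_congr L m, Helper23.Fit.not_le_iff_finrank_le]

end Groth.Agent.Lib.Helper5.Jac
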