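import Groth.Agent.Lib.Helper5.JacLocC
import Groth.Agent.Lib.Helper5.ProjSpreadD
import Groth.Agent.Lib.Helper5.AdicRegE
import Groth.Agent.Lib.helper19.RegularLocal
import Mathlib

set_option autoImplicit false
set_option linter.unusedSectionVars false
universe u

open TensorProduct KaehlerDifferential IsLocalRing Algebra

namespace Groth.Agent.Lib.Helper5.JacLoc

variable {k B C : Type u} [Field k] [CommRing B] [IsLocalRing B] [IsNoetherianRing B]
  [Algebra k B] [Algebra.EssFiniteType k B] [CommRing C] [Algebra k C] [Algebra B C]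
  [IsScalarTower k B C]

theorem isDomain_of_formallySmooth [Algebra.FormallySmooth k B] : IsDomain B := by
  have h1 : CAlgX.IsAdicFormallySmooth k B (maximalIdeal B) :=
    Groth.Agent.Lib.Helper5.ProjSpread.adicSmooth_of_formallySmooth' _
  have h2 : IsRegularLocalRing B :=
    Groth.Agent.Lib.Helper5.AdicReg.isRegularLocalRing_of_adicSmooth h1
  exact Groth.Agent.Lib.helper19.isDomain_of_isRegularLocalRing B

/-- a local quotient of a formally smooth local algebra essentially of finite type over a field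
with projective differentials which is smooth at some prime is formally smooth. -/
theorem formallySmooth_of_projective_kaehler [Algebra.FormallySmooth k B]
    (hsurj : Function.Surjective (algebraMap B C)) [Nontrivial C] [Module.Projective C Ω[C⁄k]]
    (𝔭 : Ideal C) [𝔭.IsPrime] (hsm : Algebra.IsSmoothAt k 𝔭) : Algebra.FormallySmooth k C := by
  let J : Ideal B := RingHom.ker (algebraMap B C)
  have hJne : J ≠ ⊤ := RingHom.ker_ne_top _
  let S : Set (Ideal B) := {J' | J' ≤ J ∧ Algebra.FormallySmooth k (B ⧸ J')}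
  have hS : S.Nonempty := by
    refine ⟨⊥, bot_le, ?_⟩
    exact Algebra.FormallySmooth.of_equiv (AlgEquiv.quotientBot k B).symm
  obtain ⟨J', ⟨hJ'le, hJ'fs⟩, hmax⟩ :=
    set_has_maximal_iff_noetherian.mpr (inferInstance : IsNoetherian B B) S hS
  have hJ'ne : J' ≠ ⊤ := fun h => hJne (top_le_iff.mp (h ▸ hJ'le))
  have hnt : Nontrivial (B ⧸ J') := Ideal.Quotient.nontrivial_iff.mpr hJ'ne
  have hloc : IsLocalRing (B ⧸ J') :=
    IsLocalRing.of_surjective' (Ideal.Quotient.mk J') Ideal.Quotient.mk_surjective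
  have hft : Algebra.FiniteType B (B ⧸ J') :=
    Algebra.FiniteType.of_surjective (Algebra.ofId B (B ⧸ J')) Ideal.Quotient.mk_surjective
  have hess : Algebra.EssFiniteType k (B ⧸ J') := Algebra.EssFiniteType.comp k B (B ⧸ J')
  let φ' : B ⧸ J' →+* C := Ideal.Quotient.lift J' (algebraMap B C) (fun a ha => hJ'le ha)
  let _ : Algebra (B ⧸ J') C := φ'.toAlgebra
  have halg : ∀ b : B, algebraMap (B ⧸ J') C (Ideal.Quotient.mk J' b) = algebraMap B C b :=
    fun _ => rfl
  have hst : IsScalarTower k (B ⧸ J') C := IsScalarTower.of_algebraMap_eq fun c => by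
    rw [IsScalarTower.algebraMap_apply k B (B ⧸ J'), Ideal.Quotient.algebraMap_eq, halg,
      ← IsScalarTower.algebraMap_apply]
  have hsurj' : Function.Surjective (algebraMap (B ⧸ J') C) := by
    intro c
    obtain ⟨b, rfl⟩ := hsurj c
    exact ⟨Ideal.Quotient.mk J' b, halg b⟩
  have hall : ∀ g' ∈ RingHom.ker (algebraMap (B ⧸ J') C),
      KaehlerDifferential.D k (B ⧸ J') g' ∈
        maximalIdeal (B ⧸ J') • (⊤ : Submodule (B ⧸ J') Ω[(B ⧸ J')⁄k]) := by
    intro g' hg'
    by_contra hnot
    have hfs1 := formallySmooth_quotient_span_singleton (k := k) g' hnot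
    obtain ⟨g, rfl⟩ := Ideal.Quotient.mk_surjective g'
    have hgJ : g ∈ J := by
      rw [RingHom.mem_ker, halg] at hg'
      exact hg'
    have hmap : (Ideal.span {g}).map (Ideal.Quotient.mkₐ k J') =
        Ideal.span {Ideal.Quotient.mk J' g} := by
      rw [Ideal.map_span, Set.image_singleton]
      rfl
    have hfs2 : Algebra.FormallySmooth k
        ((B ⧸ J') ⧸ (Ideal.span {g}).map (Ideal.Quotient.mkₐ k J')) :=
      Algebra.FormallySmooth.of_equiv (Ideal.quotientEquivAlgOfEq k hmap.symm)
    have hfs3 : Algebra.FormallySmooth k (B ⧸ J' ⊔ Ideal.span {g}) :=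
      Algebra.FormallySmooth.of_equiv (DoubleQuot.quotQuotEquivQuotSupₐ k J' (Ideal.span {g}))
    have hmem : J' ⊔ Ideal.span {g} ∈ S := by
      refine ⟨sup_le hJ'le ?_, hfs3⟩
      rw [Ideal.span_le]
      rintro _ rfl
      exact hgJ
    apply hmax _ hmem
    refine lt_of_le_of_ne le_sup_left ?_
    intro heq
    have hgJ' : g ∈ J' := by
      rw [heq]
      exact Ideal.mem_sup_right (Ideal.subset_span rfl)
    apply hnot
    have h0 : Ideal.Quotient.mk J' g = 0 := Ideal.Quotient.eq_zero_iff_mem.mpr hgJ'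
    rw [h0, map_zero]
    exact Submodule.zero_mem _
  have hzero := kerCotangentToTensor_eq_zero (k := k) hsurj' hall
  have hdom : IsDomain (B ⧸ J') := isDomain_of_formallySmooth (k := k)
  have hker := ker_eq_bot_of_kerCotangentToTensor_eq_zero (k := k) hsurj' hzero 𝔭 hsm
  have hinj : Function.Injective (algebraMap (B ⧸ J') C) :=
    (RingHom.injective_iff_ker_eq_bot _).mpr hker
  exact Algebra.FormallySmooth.of_equiv
    (AlgEquiv.ofBijective (IsScalarTower.toAlgHom k (B ⧸ J') C) ⟨hinj, hsurj'⟩)

end Groth.Agent.Lib.Helper5.JacLoc
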