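import Mathlib
import Groth.Agent.Lib.Helper5.JacLocD
import Groth.Agent.Lib.Helper5.KSynC

set_option autoImplicit false
universe u

namespace Groth.Agent.Lib.Helper5.Jac

open TensorProduct Module

theorem coheight_eq_ringKrullDim_quotient {R : Type u} [CommRing R] (P : PrimeSpectrum R) :
    ((Order.coheight P : ℕ∞) : WithBot ℕ∞) = ringKrullDim (R ⧸ P.asIdeal) := by
  rw [Order.coheight_eq_krullDim_Ici, ringKrullDim_quotient]
  have : Set.Ici P = PrimeSpectrum.zeroLocus (R := R) P.asIdeal := by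
    ext x
    simp [PrimeSpectrum.mem_zeroLocus, PrimeSpectrum.asIdeal_le_asIdeal]
  rw [this]

theorem coheight_comap_eq {R S : Type u} [CommRing R] [CommRing S] (ψ : R →+* S)
    (hψ : Function.Surjective ψ) (Q : PrimeSpectrum S) :
    Order.coheight (PrimeSpectrum.comap ψ Q) = Order.coheight Q := by
  have h1 := coheight_eq_ringKrullDim_quotient (PrimeSpectrum.comap ψ Q)
  have h2 := coheight_eq_ringKrullDim_quotient Q
  have e : (R ⧸ (PrimeSpectrum.comap ψ Q).asIdeal) ≃+* (S ⧸ Q.asIdeal) :=
    RingEquiv.ofBijective (Ideal.quotientMap Q.asIdeal ψ le_rfl)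
      ⟨Ideal.quotientMap_injective, Ideal.quotientMap_surjective hψ⟩
  have h3 := ringKrullDim_eq_of_ringEquiv e
  rw [← h1, ← h2] at h3
  exact_mod_cast h3

theorem injective_localRingHom_of_height_le {R S : Type u} [CommRing R] [CommRing S]
    [IsNoetherianRing R] (ψ : R →+* S) (hψ : Function.Surjective ψ)
    (Q : Ideal S) [Q.IsPrime] (Q' : Ideal R) [Q'.IsPrime] (hQ : Q' = Q.comap ψ)
    [IsDomain (Localization.AtPrime Q')] (hht : Q'.height ≤ Q.height) :
    Function.Injective (Localization.localRingHom Q' Q ψ hQ) := by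
  rw [injective_iff_map_eq_zero]
  intro x hx
  by_contra hx0
  have hsurj : Function.Surjective (Localization.localRingHom Q' Q ψ hQ) :=
    Groth.Agent.Lib.Helper5.KSyn.localRingHom_surjective ψ hψ Q' Q hQ
  have hxnz : x ∈ nonZeroDivisors (Localization.AtPrime Q') := mem_nonZeroDivisors_of_ne_zero hx0
  have h1 := ringKrullDim_quotient_succ_le_of_nonZeroDivisor hxnz
  let g : Localization.AtPrime Q' ⧸ Ideal.span {x} →+* Localization.AtPrime Q :=
    Ideal.Quotient.lift (Ideal.span {x}) (Localization.localRingHom Q' Q ψ hQ) (by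
      intro a ha
      obtain ⟨b, rfl⟩ := Ideal.mem_span_singleton'.mp ha
      rw [map_mul, hx, mul_zero])
  have hg : Function.Surjective g := by
    intro y
    obtain ⟨a, rfl⟩ := hsurj y
    exact ⟨Ideal.Quotient.mk _ a, rfl⟩
  have h2 := ringKrullDim_le_of_surjective g hg
  rw [IsLocalization.AtPrime.ringKrullDim_eq_height Q (Localization.AtPrime Q)] at h2
  rw [IsLocalization.AtPrime.ringKrullDim_eq_height Q' (Localization.AtPrime Q')] at h1
  have hfin : Q'.height ≠ ⊤ := Ideal.height_ne_top_of_isPrime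
  have h3 : ((Q.height : ℕ∞) : WithBot ℕ∞) + 1 ≤ (Q'.height : WithBot ℕ∞) :=
    (add_le_add_left h2 1).trans h1
  have h4 : Q.height + 1 ≤ Q'.height := by exact_mod_cast h3
  have h5 : Q'.height + 1 ≤ Q'.height := (add_le_add_left hht 1).trans h4
  have h6 : Q'.height < Q'.height + 1 := ENat.lt_add_one_iff hfin |>.mpr le_rfl
  exact absurd h5 (not_le.mpr h6)

end Groth.Agent.Lib.Helper5.Jac
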