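import Mathlib
import Groth.Agent.Lib.Helper5.JacJ
import Groth.Agent.Lib.Helper5.JacG
import Groth.Agent.Lib.lead.SmoothRelDim
import Groth.Agent.Lib.lead.HomogDim
import Groth.Agent.Lib.Helper24.LocalDim.Scheme

set_option autoImplicit false
set_option linter.style.haveILetI false
universe u

namespace Groth.Agent.Lib.Helper5.Jac

open TensorProduct Module AlgebraicGeometry

theorem localDim_of_stdSmooth {k Pr : Type u} [Field k] [CommRing Pr] (α : k →+* Pr) (n : ℕ)
    (hα : α.IsStandardSmoothOfRelativeDimension n) (w : PrimeSpectrum Pr) :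
    FlatMor.localDim (PrimeSpectrum Pr) w = (n : WithBot ℕ∞) := by
  have h1 := Groth.Agent.Lib.lead.SmoothRelDim.fibreDimAt_of_isStandardSmoothOfRelativeDimension
    α n hα w
  have : Subsingleton (Spec (CommRingCat.of k)) :=
    (inferInstance : Subsingleton (PrimeSpectrum k))
  rw [Groth.Agent.Lib.lead.HomogDim.fibreDimAt_eq_localDim] at h1
  exact h1

theorem localDim_away {C : Type u} [CommRing C] (s : C)
    (Qs : PrimeSpectrum (Localization.Away s)) :
    FlatMor.localDim (PrimeSpectrum (Localization.Away s)) Qs =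
      FlatMor.localDim (PrimeSpectrum C)
        (PrimeSpectrum.comap (algebraMap C (Localization.Away s)) Qs) :=
  Groth.Agent.Lib.Helper24.LocalDim.localDim_eq_of_isOpenEmbedding _
    (PrimeSpectrum.localization_away_isOpenEmbedding (Localization.Away s) s) Qs

theorem isSmoothAt_of_finrank_le_localDim {k C : Type u} [Field k] [CommRing C] [Algebra k C]
    [Algebra.FiniteType k C] (Q : Ideal C) [Q.IsPrime]
    (h : ((finrank Q.ResidueField (Q.ResidueField ⊗[C] Ω[C⁄k]) : ℕ∞) : WithBot ℕ∞) ≤
      FlatMor.localDim (PrimeSpectrum C) ⟨Q, inferInstance⟩) :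
    Algebra.IsSmoothAt k Q := by
  obtain ⟨s, hs, Pr, _, α, φ, hφ, hcomp, hα⟩ :=
    exists_stdSmooth_surjection (A := k) Q _ le_rfl
  set r := finrank Q.ResidueField (Q.ResidueField ⊗[C] Ω[C⁄k]) with hr
  let Cs := Localization.Away s
  have hdisj : Disjoint (Submonoid.powers s : Set C) (Q : Set C) := by
    rwa [Ideal.disjoint_powers_iff_notMem_of_isPrime]
  have hQs : (Q.map (algebraMap C Cs)).IsPrime :=
    IsLocalization.isPrime_of_isPrime_disjoint (.powers s) _ _ ‹_› hdisj
  have hQsc : (Q.map (algebraMap C Cs)).comap (algebraMap C Cs) = Q :=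
    IsLocalization.comap_map_of_isPrime_disjoint (.powers s) _ ‹_› hdisj
  let Qs : PrimeSpectrum Cs := ⟨Q.map (algebraMap C Cs), hQs⟩
  have hcomapQs : PrimeSpectrum.comap (algebraMap C Cs) Qs = ⟨Q, inferInstance⟩ :=
    PrimeSpectrum.ext hQsc
  have key : Algebra.IsSmoothAt k Qs.asIdeal := by
    let : Algebra k Pr := α.toAlgebra
    have hαalg : Algebra.IsStandardSmoothOfRelativeDimension r k Pr := hα
    have : Algebra.IsStandardSmooth k Pr := hαalg.isStandardSmooth
    have : Algebra.FiniteType k Pr := inferInstance
    have : Algebra.FiniteType k Cs :=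
      Algebra.FiniteType.trans (inferInstance : Algebra.FiniteType k C)
        (IsLocalization.finiteType_of_monoid_fg (Submonoid.powers s) Cs)
    let Q' : PrimeSpectrum Pr := PrimeSpectrum.comap φ Qs
    have e1 := localDim_of_stdSmooth α r hα Q'
    have e2 := localDim_away s Qs
    rw [hcomapQs] at e2
    have e3 := Groth.Agent.Lib.Helper24.LocalDim.localDim_eq k Pr Q'
    have e4 := Groth.Agent.Lib.Helper24.LocalDim.localDim_eq k Cs Qs
    have e5 : Order.coheight Q' = Order.coheight Qs := coheight_comap_eq φ hφ Qs
    have h6 : (Order.height Q' + Order.coheight Q' : ℕ∞) = r := by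
      have := e3.symm.trans e1
      exact_mod_cast this
    have h7 : (r : ℕ∞) ≤ Order.height Qs + Order.coheight Qs := by
      have := h.trans_eq (e2.symm.trans e4)
      exact_mod_cast this
    have hco : Order.coheight Q' ≠ ⊤ := by
      intro htop
      rw [htop, add_top] at h6
      exact ENat.top_ne_coe _ h6
    have h8 : Order.height Q' ≤ Order.height Qs := by
      rw [← h6, e5] at h7
      exact (ENat.add_le_add_iff_right (e5 ▸ hco)).mp h7
    have : Q'.asIdeal.IsPrime := Q'.isPrime
    have : Qs.asIdeal.IsPrime := Qs.isPrime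
    have h9 : Q'.asIdeal.height ≤ Qs.asIdeal.height := by
      rw [PrimeSpectrum.height_eq_orderHeight, PrimeSpectrum.height_eq_orderHeight]
      exact h8
    have : Algebra.FormallySmooth Pr (Localization.AtPrime Q'.asIdeal) :=
      Algebra.FormallySmooth.of_isLocalization Q'.asIdeal.primeCompl
    have : Algebra.FormallySmooth k (Localization.AtPrime Q'.asIdeal) :=
      Algebra.FormallySmooth.comp k Pr _
    have : Algebra.EssFiniteType Pr (Localization.AtPrime Q'.asIdeal) :=
      Algebra.EssFiniteType.of_isLocalization _ Q'.asIdeal.primeCompl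
    have : Algebra.EssFiniteType k (Localization.AtPrime Q'.asIdeal) :=
      Algebra.EssFiniteType.comp k Pr _
    have : IsNoetherianRing Pr := Algebra.FiniteType.isNoetherianRing k Pr
    have : IsNoetherianRing (Localization.AtPrime Q'.asIdeal) :=
      IsLocalization.isNoetherianRing Q'.asIdeal.primeCompl _ inferInstance
    have : IsDomain (Localization.AtPrime Q'.asIdeal) :=
      Groth.Agent.Lib.Helper5.JacLoc.isDomain_of_formallySmooth (k := k)
    have hinj := injective_localRingHom_of_height_le φ hφ Qs.asIdeal Q'.asIdeal rfl h9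
    have hsurj := Groth.Agent.Lib.Helper5.KSyn.localRingHom_surjective φ hφ Q'.asIdeal
      Qs.asIdeal rfl
    let e : Localization.AtPrime Q'.asIdeal ≃ₐ[k] Localization.AtPrime Qs.asIdeal :=
      AlgEquiv.ofBijective
        ⟨Localization.localRingHom Q'.asIdeal Qs.asIdeal φ rfl, fun a => by
          have h1 : algebraMap k (Localization.AtPrime Q'.asIdeal) a =
              algebraMap Pr (Localization.AtPrime Q'.asIdeal) (α a) := rfl
          have h2 : algebraMap k (Localization.AtPrime Qs.asIdeal) a =
              algebraMap Cs (Localization.AtPrime Qs.asIdeal) (algebraMap k Cs a) :=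
            IsScalarTower.algebraMap_apply k Cs _ a
          change Localization.localRingHom Q'.asIdeal Qs.asIdeal φ rfl _ = _
          rw [h1, h2, Localization.localRingHom_to_map, ← hcomp]
          rfl⟩ ⟨hinj, hsurj⟩
    exact Algebra.FormallySmooth.of_equiv e
  have hloc := Algebra.smoothLocus_comap_of_isLocalization (R := k) (A := C) (Af := Cs) s
  have h2 : Qs ∈ Algebra.smoothLocus k Cs := key
  rw [← hloc, Set.mem_preimage, hcomapQs] at h2
  exact h2

end Groth.Agent.Lib.Helper5.Jac
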