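import Mathlib
import Groth.Agent.Lib.Helper5.JacK

set_option autoImplicit false
set_option linter.style.haveILetI false
universe u

namespace Groth.Agent.Lib.Helper5.Jac

open TensorProduct Module AlgebraicGeometry

/-- fibre dimension of a base-changed module at a prime equals that at the contracted prime -/
theorem finrank_residueField_of_isBaseChange {R R' M M' : Type u} [CommRing R] [CommRing R']
    [Algebra R R'] [AddCommGroup M] [Module R M] [AddCommGroup M'] [Module R M'] [Module R' M']
    [IsScalarTower R R' M'] (g : M →ₗ[R] M') (hg : IsBaseChange R' g)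
    (p' : Ideal R') [p'.IsPrime] (p : Ideal R) [p.IsPrime]
    (hp : p = p'.comap (algebraMap R R')) :
    finrank p'.ResidueField (p'.ResidueField ⊗[R'] M') =
      finrank p.ResidueField (p.ResidueField ⊗[R] M) := by
  let : Algebra p.ResidueField p'.ResidueField :=
    (Ideal.ResidueField.map p p' (algebraMap R R') hp).toAlgebra
  have : IsScalarTower R p.ResidueField p'.ResidueField :=
    IsScalarTower.of_algebraMap_eq fun r => by
      change _ = Ideal.ResidueField.map p p' (algebraMap R R') hp (algebraMap R p.ResidueField r)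
      rw [Ideal.ResidueField.map_algebraMap]
      exact IsScalarTower.algebraMap_apply R R' p'.ResidueField r
  let e1 : p'.ResidueField ⊗[R'] M' ≃ₗ[p'.ResidueField] p'.ResidueField ⊗[R'] (R' ⊗[R] M) :=
    LinearEquiv.baseChange R' p'.ResidueField _ _ hg.equiv.symm
  let e2 : p'.ResidueField ⊗[R'] (R' ⊗[R] M) ≃ₗ[p'.ResidueField] p'.ResidueField ⊗[R] M :=
    AlgebraTensorModule.cancelBaseChange R R' p'.ResidueField p'.ResidueField M
  let e3 : p'.ResidueField ⊗[p.ResidueField] (p.ResidueField ⊗[R] M) ≃ₗ[p'.ResidueField]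
      p'.ResidueField ⊗[R] M :=
    AlgebraTensorModule.cancelBaseChange R p.ResidueField p'.ResidueField p'.ResidueField M
  rw [(e1.trans (e2.trans e3.symm)).finrank_eq, Module.finrank_baseChange]

theorem finrank_kaehler_away {k C : Type u} [CommRing k] [CommRing C] [Algebra k C] (s : C)
    (Qs : Ideal (Localization.Away s)) [Qs.IsPrime] (Q : Ideal C) [Q.IsPrime]
    (hQ : Q = Qs.comap (algebraMap C (Localization.Away s))) :
    finrank Qs.ResidueField (Qs.ResidueField ⊗[Localization.Away s] Ω[Localization.Away s⁄k]) =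
      finrank Q.ResidueField (Q.ResidueField ⊗[C] Ω[C⁄k]) := by
  have : Algebra.FormallyEtale C (Localization.Away s) :=
    Algebra.FormallyEtale.of_isLocalization (Submonoid.powers s)
  exact finrank_residueField_of_isBaseChange _
    (KaehlerDifferential.isBaseChange_of_formallyEtale k C (Localization.Away s)) Qs Q hQ

theorem finrank_eq_localDim_of_isSmoothAt {k C : Type u} [Field k] [CommRing C] [Algebra k C]
    [Algebra.FiniteType k C] (Q : Ideal C) [Q.IsPrime] (hsm : Algebra.IsSmoothAt k Q) :
    ((finrank Q.ResidueField (Q.ResidueField ⊗[C] Ω[C⁄k]) : ℕ∞) : WithBot ℕ∞) =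
      FlatMor.localDim (PrimeSpectrum C) ⟨Q, inferInstance⟩ := by
  have : IsNoetherianRing k := inferInstance
  have : Algebra.FinitePresentation k C := Algebra.FinitePresentation.of_finiteType.mp inferInstance
  obtain ⟨s, hs, hstd⟩ := Algebra.IsSmoothAt.exists_notMem_isStandardSmooth k Q
  let Cs := Localization.Away s
  have hdisj : Disjoint (Submonoid.powers s : Set C) (Q : Set C) := by
    rwa [Ideal.disjoint_powers_iff_notMem_of_isPrime]
  have hQs : (Q.map (algebraMap C Cs)).IsPrime :=
    IsLocalization.isPrime_of_isPrime_disjoint (.powers s) _ _ ‹_› hdisj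
  have hQsc : (Q.map (algebraMap C Cs)).comap (algebraMap C Cs) = Q :=
    IsLocalization.under_map_of_isPrime_disjoint (.powers s) _ ‹_› hdisj
  let Qs : PrimeSpectrum Cs := ⟨Q.map (algebraMap C Cs), hQs⟩
  have hcomapQs : PrimeSpectrum.comap (algebraMap C Cs) Qs = ⟨Q, inferInstance⟩ :=
    PrimeSpectrum.ext hQsc
  have : Qs.asIdeal.IsPrime := hQs
  have h1 := finrank_kaehler_away (k := k) s Qs.asIdeal Q hQsc.symm
  obtain ⟨ι, σ, _, _, ⟨P⟩⟩ := hstd.out
  set n := P.dimension with hn
  have hrel : Algebra.IsStandardSmoothOfRelativeDimension n k Cs :=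
    P.isStandardSmoothOfRelativeDimension rfl
  have e1 := localDim_of_stdSmooth (algebraMap k Cs) n
    (by
      show @Algebra.IsStandardSmoothOfRelativeDimension n k Cs _ _ (algebraMap k Cs).toAlgebra
      convert hrel
      exact Algebra.algebra_ext _ _ fun _ => rfl) Qs
  have e2 := localDim_away s Qs
  rw [hcomapQs] at e2
  rw [← e2, e1, ← h1]
  -- the fibre rank is n
  have : Nontrivial Cs := Qs.nontrivial
  have hfree : Module.Free Cs Ω[Cs⁄k] := inferInstance
  have hrank := Algebra.IsStandardSmoothOfRelativeDimension.rank_kaehlerDifferential (R := k)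
    (S := Cs) n
  have hfin : Module.Finite Cs Ω[Cs⁄k] := inferInstance
  have hfr : finrank Cs Ω[Cs⁄k] = n := by
    have := Module.finrank_eq_rank (R := Cs) (M := Ω[Cs⁄k])
    rw [hrank] at this
    exact_mod_cast this
  rw [Module.finrank_baseChange, hfr]
  rfl

end Groth.Agent.Lib.Helper5.Jac
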