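import Mathlib

set_option autoImplicit false
set_option linter.unusedSectionVars false
universe u

open TensorProduct KaehlerDifferential IsLocalRing Algebra

namespace Groth.Agent.Lib.Helper5.JacLoc

variable {k B : Type u} [Field k] [CommRing B] [IsLocalRing B] [Algebra k B]

/-- a functional taking the value one on an element of a finite projective module over a local
ring lying outside the maximal ideal times the module. -/
theorem exists_functional {M : Type u} [AddCommGroup M] [Module B M] [Module.Finite B M]
    [Module.Projective B M] (x : M) (hx : x ∉ maximalIdeal B • (⊤ : Submodule B M)) :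
    ∃ l : M →ₗ[B] B, l x = 1 := by
  classical
  have hfree : Module.Free B M := Module.free_of_flat_of_isLocalRing
  let b := Module.Free.chooseBasis B M
  have hex : ∃ i, b.repr x i ∉ maximalIdeal B := by
    by_contra hall
    push Not at hall
    apply hx
    rw [← b.sum_repr x]
    exact Submodule.sum_mem _ fun i _ => Submodule.smul_mem_smul (hall i) Submodule.mem_top
  obtain ⟨i, hi⟩ := hex
  have hu : IsUnit (b.repr x i) := by
    rwa [← IsLocalRing.notMem_maximalIdeal]
  refine ⟨(↑hu.unit⁻¹ : B) • b.coord i, ?_⟩
  rw [LinearMap.smul_apply, Module.Basis.coord_apply, smul_eq_mul, IsUnit.val_inv_mul]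

/-- quotient of a formally smooth local algebra by an element with nonvanishing differential. -/
theorem formallySmooth_quotient_span_singleton [Algebra.FormallySmooth k B]
    [Module.Finite B Ω[B⁄k]] (g : B)
    (hg : KaehlerDifferential.D k B g ∉ maximalIdeal B • (⊤ : Submodule B Ω[B⁄k])) :
    Algebra.FormallySmooth k (B ⧸ Ideal.span {g}) := by
  obtain ⟨lam, hlam⟩ := exists_functional (KaehlerDifferential.D k B g) hg
  let P' : Algebra.Extension k (B ⧸ Ideal.span {g}) :=
    ⟨B, _, Function.surjInv_eq Ideal.Quotient.mk_surjective⟩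
  have hP' : Algebra.FormallySmooth k P'.Ring := ‹Algebra.FormallySmooth k B›
  rw [Algebra.Extension.formallySmooth_iff_split_injection P']
  have hker : P'.ker = Ideal.span {g} := Ideal.mk_ker
  have hgmem : g ∈ P'.ker := by
    rw [hker]
    exact Ideal.subset_span rfl
  let l₀ : Ω[B⁄k] →ₗ[B] P'.Cotangent :=
    (LinearMap.toSpanSingleton B P'.Cotangent
      (Algebra.Extension.Cotangent.mk (P := P') ⟨g, hgmem⟩)).comp lam
  have hl₀ : ∀ ω, l₀ ω = lam ω • Algebra.Extension.Cotangent.mk (P := P') ⟨g, hgmem⟩ :=
    fun _ => rfl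
  refine ⟨l₀.liftBaseChange (B ⧸ Ideal.span {g}), ?_⟩
  apply LinearMap.ext
  intro x
  obtain ⟨⟨y, hy⟩, rfl⟩ := Algebra.Extension.Cotangent.mk_surjective x
  have hy' : y ∈ Ideal.span {g} := (le_of_eq hker) hy
  obtain ⟨c, rfl⟩ := Ideal.mem_span_singleton'.mp hy'
  rw [LinearMap.comp_apply, Algebra.Extension.cotangentComplex_mk, LinearMap.liftBaseChange_tmul,
    one_smul, hl₀, LinearMap.id_apply]
  change lam (KaehlerDifferential.D k B (c * g)) • _ = _
  rw [Derivation.leibniz, map_add, map_smul, map_smul, hlam, smul_eq_mul, mul_one, smul_eq_mul,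
    add_smul, ← map_smul, ← map_smul]
  have h1 : (g * lam (KaehlerDifferential.D k B c)) • (⟨g, hgmem⟩ : P'.ker) ∈
      LinearMap.ker (Algebra.Extension.Cotangent.mk (P := P')) := by
    rw [Algebra.Extension.Cotangent.ker_mk]
    rw [mul_comm, mul_smul]
    apply Submodule.smul_mem
    exact Submodule.smul_mem_smul hgmem Submodule.mem_top
  rw [LinearMap.mem_ker] at h1
  rw [h1, add_zero]
  congr 1

end Groth.Agent.Lib.Helper5.JacLoc
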