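import Groth.Agent.Lib.Helper5.JacLocA
import Mathlib

set_option autoImplicit false
set_option linter.unusedSectionVars false
universe u

open TensorProduct KaehlerDifferential IsLocalRing Algebra

namespace Groth.Agent.Lib.Helper5.JacLoc

variable {k B C : Type u} [Field k] [CommRing B] [IsLocalRing B] [IsNoetherianRing B]
  [Algebra k B] [CommRing C] [Algebra k C] [Algebra B C] [IsScalarTower k B C]

/-- if the differentials are projective and all differentials of elements of the kernel vanish
at the closed point, the conormal map vanishes. -/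
theorem kerCotangentToTensor_eq_zero (hsurj : Function.Surjective (algebraMap B C))
    [Module.Projective C Ω[C⁄k]]
    (h : ∀ g ∈ RingHom.ker (algebraMap B C),
      KaehlerDifferential.D k B g ∈ maximalIdeal B • (⊤ : Submodule B Ω[B⁄k])) :
    kerCotangentToTensor k B C = 0 := by
  have hπsurj := KaehlerDifferential.mapBaseChange_surjective k B C hsurj
  obtain ⟨s, hs⟩ := Module.projective_lifting_property
    (KaehlerDifferential.mapBaseChange k B C) LinearMap.id hπsurj
  have hs' : ∀ z, KaehlerDifferential.mapBaseChange k B C (s z) = z :=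
    fun z => LinearMap.congr_fun hs z
  have hex := KaehlerDifferential.exact_kerCotangentToTensor_mapBaseChange k B C hsurj
  let ρ : C ⊗[B] Ω[B⁄k] →ₗ[B] C ⊗[B] Ω[B⁄k] :=
    LinearMap.id - (s.comp (KaehlerDifferential.mapBaseChange k B C)).restrictScalars B
  have hρ : ∀ y, ρ y = y - s (KaehlerDifferential.mapBaseChange k B C y) := fun _ => rfl
  let N : Submodule B (C ⊗[B] Ω[B⁄k]) := LinearMap.range (kerCotangentToTensor k B C)
  have hb : ∀ y, ρ y ∈ N := by
    intro y
    change ρ y ∈ LinearMap.range (kerCotangentToTensor k B C)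
    have h0 : KaehlerDifferential.mapBaseChange k B C (ρ y) = 0 := by
      rw [hρ, map_sub, hs', sub_self]
    exact (hex (ρ y)).mp h0
  have hc : ∀ y ∈ N, ρ y = y := by
    intro y hy
    have h0 : KaehlerDifferential.mapBaseChange k B C y = 0 := (hex y).mpr hy
    rw [hρ, h0, map_zero, sub_zero]
  have hd : N ≤ maximalIdeal B • (⊤ : Submodule B (C ⊗[B] Ω[B⁄k])) := by
    rintro _ ⟨x, rfl⟩
    obtain ⟨g, rfl⟩ := Ideal.toCotangent_surjective _ x
    rw [KaehlerDifferential.kerCotangentToTensor_toCotangent]
    have h1 := h g g.2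
    have h2 : (TensorProduct.mk B C Ω[B⁄k] 1) (KaehlerDifferential.D k B (g : B)) ∈
        Submodule.map (TensorProduct.mk B C Ω[B⁄k] 1)
          (maximalIdeal B • (⊤ : Submodule B Ω[B⁄k])) := Submodule.mem_map_of_mem h1
    rw [Submodule.map_smul''] at h2
    exact Submodule.smul_mono le_rfl le_top h2
  have he : N ≤ maximalIdeal B • N := by
    intro y hy
    have h1 : ρ y ∈ Submodule.map ρ (maximalIdeal B • (⊤ : Submodule B (C ⊗[B] Ω[B⁄k]))) :=
      Submodule.mem_map_of_mem (hd hy)
    rw [Submodule.map_smul'', hc y hy] at h1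
    refine Submodule.smul_mono le_rfl ?_ h1
    rintro _ ⟨z, -, rfl⟩
    exact hb z
  have hfg : N.FG := by
    have hfin : Module.Finite B (RingHom.ker (algebraMap B C)).Cotangent :=
      Module.Finite.of_surjective (RingHom.ker (algebraMap B C)).toCotangent
        (Ideal.toCotangent_surjective _)
    have := Module.Finite.range (kerCotangentToTensor k B C)
    exact Module.Finite.iff_fg.mp this
  have hN : N = ⊥ := Submodule.eq_bot_of_le_smul_of_le_jacobson_bot (maximalIdeal B) N hfg he
    (by rw [IsLocalRing.jacobson_eq_maximalIdeal ⊥ bot_ne_top])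
  exact LinearMap.range_eq_bot.mp hN

end Groth.Agent.Lib.Helper5.JacLoc
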