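import Groth.Agent.Lib.Helper5.JacLocB
import Mathlib

set_option autoImplicit false
set_option linter.unusedSectionVars false
universe u

open TensorProduct KaehlerDifferential IsLocalRing Algebra

namespace Groth.Agent.Lib.Helper5.JacLoc

variable {k B C : Type u} [Field k] [CommRing B] [Algebra k B] [CommRing C] [Algebra k C]
  [Algebra B C] [IsScalarTower k B C]

section LocKer

variable (𝔭 : Ideal C) [𝔭.IsPrime]

/-- elements of the kernel of the localized map come from the kernel. -/
theorem exists_of_localRingHom_eq_zero (hsurj : Function.Surjective (algebraMap B C))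
    (x : Localization.AtPrime (𝔭.comap (algebraMap B C)))
    (hx : Localization.localRingHom (𝔭.comap (algebraMap B C)) 𝔭 (algebraMap B C) rfl x = 0) :
    ∃ j ∈ RingHom.ker (algebraMap B C), ∃ u : Localization.AtPrime (𝔭.comap (algebraMap B C)),
      x = algebraMap B _ j * u := by
  obtain ⟨b, s, rfl⟩ := IsLocalization.exists_mk'_eq (𝔭.comap (algebraMap B C)).primeCompl x
  rw [Localization.localRingHom_mk', IsLocalization.mk'_eq_zero_iff] at hx
  obtain ⟨t, ht⟩ := hx
  obtain ⟨t', ht'⟩ := hsurj t
  have ht'mem : t' ∈ (𝔭.comap (algebraMap B C)).primeCompl := by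
    change t' ∉ 𝔭.comap (algebraMap B C)
    rw [Ideal.mem_comap, ht']
    exact t.2
  refine ⟨t' * b, ?_, IsLocalization.mk' _ 1 (⟨t', ht'mem⟩ * s), ?_⟩
  · rw [RingHom.mem_ker, map_mul, ht']
    exact ht
  · rw [IsLocalization.mul_mk'_eq_mk'_of_mul, mul_one, IsLocalization.mk'_eq_iff_eq]
    congr 1
    push_cast
    ring

end LocKer

section Zero

variable [IsDomain B] [IsNoetherianRing B] [Algebra.FormallySmooth k B]

/-- if the conormal map of a surjection from a formally smooth noetherian domain vanishes and the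
target is smooth at some prime, the surjection is injective. -/
theorem ker_eq_bot_of_kerCotangentToTensor_eq_zero
    (hsurj : Function.Surjective (algebraMap B C)) (h0 : kerCotangentToTensor k B C = 0)
    (𝔭 : Ideal C) [𝔭.IsPrime] (hsm : Algebra.IsSmoothAt k 𝔭) :
    RingHom.ker (algebraMap B C) = ⊥ := by
  let 𝔓 : Ideal B := 𝔭.comap (algebraMap B C)
  let Bl := Localization.AtPrime 𝔓
  let Cl := Localization.AtPrime 𝔭
  let φl : Bl →+* Cl := Localization.localRingHom 𝔓 𝔭 (algebraMap B C) rfl
  have hφl : ∀ b : B, φl (algebraMap B Bl b) = algebraMap C Cl (algebraMap B C b) :=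
    fun b => Localization.localRingHom_to_map _ _ _ _ b
  have hφsurj : Function.Surjective φl :=
    RingHom.surjective_localRingHom_of_surjective _ hsurj 𝔭
  let _ : Algebra Bl Cl := φl.toAlgebra
  have halg : ∀ x : Bl, algebraMap Bl Cl x = φl x := fun _ => rfl
  have hst : IsScalarTower k Bl Cl := IsScalarTower.of_algebraMap_eq fun c => by
    rw [halg, IsScalarTower.algebraMap_apply k B Bl, hφl, ← IsScalarTower.algebraMap_apply,
      ← IsScalarTower.algebraMap_apply]
  have hfe : Algebra.FormallyEtale B Bl := .of_isLocalization 𝔓.primeCompl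
  have hfsl : Algebra.FormallySmooth k Bl := .comp k B Bl
  have hsub : Subsingleton (Algebra.H1Cotangent k Cl) :=
    Algebra.FormallySmooth.subsingleton_h1Cotangent
  have hinj : Function.Injective (kerCotangentToTensor k Bl Cl) :=
    (Algebra.FormallySmooth.kerCotangentToTensor_injective_iff hφsurj).mpr hsub
  -- the comparison map on differentials
  let Θ : C ⊗[B] Ω[B⁄k] →+ Cl ⊗[Bl] Ω[Bl⁄k] :=
    TensorProduct.liftAddHom
      { toFun := fun c =>
          { toFun := fun ω => algebraMap C Cl c ⊗ₜ[Bl] KaehlerDifferential.map k k B Bl ω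
            map_zero' := by rw [map_zero, TensorProduct.tmul_zero]
            map_add' := fun a b => by rw [map_add, TensorProduct.tmul_add] }
        map_zero' := by
          ext ω
          change algebraMap C Cl 0 ⊗ₜ[Bl] _ = 0
          rw [map_zero, TensorProduct.zero_tmul]
        map_add' := fun a b => by
          ext ω
          change algebraMap C Cl (a + b) ⊗ₜ[Bl] _ = algebraMap C Cl a ⊗ₜ[Bl] _ +
            algebraMap C Cl b ⊗ₜ[Bl] _
          rw [map_add, TensorProduct.add_tmul] }
      (fun b c ω => by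
        change algebraMap C Cl (b • c) ⊗ₜ[Bl] KaehlerDifferential.map k k B Bl ω =
          algebraMap C Cl c ⊗ₜ[Bl] KaehlerDifferential.map k k B Bl (b • ω)
        have e1 : algebraMap C Cl (b • c) = algebraMap B Bl b • algebraMap C Cl c := by
          rw [Algebra.smul_def b c, map_mul, Algebra.smul_def (algebraMap B Bl b), halg, hφl]
        have e2 : KaehlerDifferential.map k k B Bl (b • ω) =
            algebraMap B Bl b • KaehlerDifferential.map k k B Bl ω := by
          rw [LinearMap.map_smul, algebraMap_smul]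
        rw [e1, e2, TensorProduct.tmul_smul, TensorProduct.smul_tmul'])
  have hΘ : ∀ (c : C) (ω : Ω[B⁄k]), Θ (c ⊗ₜ[B] ω) =
      algebraMap C Cl c ⊗ₜ[Bl] KaehlerDifferential.map k k B Bl ω := fun _ _ => rfl
  have hzero : ∀ j ∈ RingHom.ker (algebraMap B C),
      (1 : Cl) ⊗ₜ[Bl] KaehlerDifferential.D k Bl (algebraMap B Bl j) = 0 := by
    intro j hj
    have h1 : kerCotangentToTensor k B C ((RingHom.ker (algebraMap B C)).toCotangent ⟨j, hj⟩) =
        0 := by rw [h0, LinearMap.zero_apply]
    rw [KaehlerDifferential.kerCotangentToTensor_toCotangent] at h1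
    have h2 := congrArg Θ h1
    rw [hΘ, map_one, KaehlerDifferential.map_D, map_zero] at h2
    exact h2
  have hJl : RingHom.ker (algebraMap Bl Cl) ≤ RingHom.ker (algebraMap Bl Cl) ^ 2 := by
    intro x hx
    have hx' : φl x = 0 := hx
    obtain ⟨j, hj, u, rfl⟩ := exists_of_localRingHom_eq_zero 𝔭 hsurj x hx'
    have h3 : kerCotangentToTensor k Bl Cl
        ((RingHom.ker (algebraMap Bl Cl)).toCotangent ⟨algebraMap B Bl j * u, hx⟩) = 0 := by
      rw [KaehlerDifferential.kerCotangentToTensor_toCotangent]
      change (1 : Cl) ⊗ₜ[Bl] KaehlerDifferential.D k Bl (algebraMap B Bl j * u) = 0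
      rw [Derivation.leibniz, TensorProduct.tmul_add, TensorProduct.tmul_smul,
        TensorProduct.tmul_smul, hzero j hj, smul_zero, add_zero, TensorProduct.smul_tmul',
        Algebra.smul_def, halg, hφl, (RingHom.mem_ker).mp hj, map_zero, zero_mul,
        TensorProduct.zero_tmul]
    have h4 := (injective_iff_map_eq_zero _).mp hinj _ h3
    rw [Ideal.toCotangent_eq_zero] at h4
    exact h4
  have hne : RingHom.ker (algebraMap Bl Cl) ≠ ⊤ := RingHom.ker_ne_top _
  have hbot : RingHom.ker (algebraMap Bl Cl) = ⊥ := by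
    apply Submodule.eq_bot_of_le_smul_of_le_jacobson_bot (RingHom.ker (algebraMap Bl Cl))
      (RingHom.ker (algebraMap Bl Cl)) (IsNoetherian.noetherian _)
    · rw [smul_eq_mul, ← pow_two]
      exact hJl
    · rw [IsLocalRing.jacobson_eq_maximalIdeal ⊥ bot_ne_top]
      exact IsLocalRing.le_maximalIdeal hne
  rw [eq_bot_iff]
  intro j hj
  have h5 : algebraMap B Bl j ∈ RingHom.ker (algebraMap Bl Cl) := by
    rw [RingHom.mem_ker, halg, hφl, (RingHom.mem_ker).mp hj, map_zero]
  rw [hbot, Ideal.mem_bot] at h5
  have hinjB : Function.Injective (algebraMap B Bl) :=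
    IsLocalization.injective Bl (M := 𝔓.primeCompl)
      (le_nonZeroDivisors_of_noZeroDivisors (fun h => h (Ideal.zero_mem _)))
  rw [Ideal.mem_bot]
  exact hinjB (by rw [h5, map_zero])

end Zero

end Groth.Agent.Lib.Helper5.JacLoc
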