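import Groth.Agent.Lib.Helper5.JacLocD
import Mathlib

set_option autoImplicit false
set_option linter.unusedSectionVars false
universe u

open TensorProduct KaehlerDifferential IsLocalRing Algebra

namespace Groth.Agent.Lib.Helper5.JacLoc

variable (k A : Type u) [Field k] [CommRing A] [Algebra k A] [Algebra.FiniteType k A]

/-- smoothness at a prime from projective differentials and smoothness at the generic points. -/
theorem isSmoothAt_of_projective_kaehler [Module.Projective A Ω[A⁄k]]
    (hgen : ∀ (p : Ideal A) [p.IsPrime], p ∈ minimalPrimes A → Algebra.IsSmoothAt k p)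
    (Q : Ideal A) [Q.IsPrime] : Algebra.IsSmoothAt k Q := by
  obtain ⟨n, f₀, hf₀⟩ := Algebra.FiniteType.iff_quotient_mvPolynomial''.mp
    (inferInstance : Algebra.FiniteType k A)
  let N : Ideal (MvPolynomial (Fin n) k) := Q.comap (f₀ : MvPolynomial (Fin n) k →+* A)
  have hN : N.IsPrime := Ideal.comap_isPrime _ _
  let φr : Localization.AtPrime N →+* Localization.AtPrime Q :=
    Localization.localRingHom N Q (f₀ : MvPolynomial (Fin n) k →+* A) rfl
  have hφsurj : Function.Surjective φr :=
    RingHom.surjective_localRingHom_of_surjective _ hf₀ Q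
  let _ : Algebra (Localization.AtPrime N) (Localization.AtPrime Q) := φr.toAlgebra
  have hst : IsScalarTower k (Localization.AtPrime N) (Localization.AtPrime Q) :=
    IsScalarTower.of_algebraMap_eq fun c => by
      change _ = φr (algebraMap k (Localization.AtPrime N) c)
      rw [IsScalarTower.algebraMap_apply k (MvPolynomial (Fin n) k) (Localization.AtPrime N),
        Localization.localRingHom_to_map]
      change _ = algebraMap A _ (f₀ (algebraMap k _ c))
      rw [f₀.commutes, ← IsScalarTower.algebraMap_apply]
  have h1 : Algebra.FormallyEtale (MvPolynomial (Fin n) k) (Localization.AtPrime N) :=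
    .of_isLocalization N.primeCompl
  have h2 : Algebra.FormallySmooth k (Localization.AtPrime N) :=
    .comp _ (MvPolynomial (Fin n) k) _
  have h6a : Algebra.EssFiniteType k (Localization.AtPrime N) :=
    Algebra.EssFiniteType.comp k (MvPolynomial (Fin n) k) (Localization.AtPrime N)
  -- projectivity of the differentials of the local ring
  have hfeA : Algebra.FormallyEtale A (Localization.AtPrime Q) := .of_isLocalization Q.primeCompl
  have hproj : Module.Projective (Localization.AtPrime Q) Ω[Localization.AtPrime Q⁄k] :=
    Module.Projective.of_equiv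
      (KaehlerDifferential.tensorKaehlerEquivOfFormallyEtale k A (Localization.AtPrime Q))
  -- a generic point
  obtain ⟨p, hpmin, hpQ⟩ := Ideal.exists_minimalPrimes_le (bot_le : (⊥ : Ideal A) ≤ Q)
  have hpprime : p.IsPrime := hpmin.1.1
  have hdisj : Disjoint (Q.primeCompl : Set A) (p : Set A) := by
    rw [Set.disjoint_left]
    intro x hx hxp
    exact hx (hpQ hxp)
  let 𝔭 : Ideal (Localization.AtPrime Q) := p.map (algebraMap A (Localization.AtPrime Q))
  have h𝔭 : 𝔭.IsPrime :=
    IsLocalization.isPrime_of_isPrime_disjoint Q.primeCompl _ p hpprime hdisj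
  have hcomap : 𝔭.comap (algebraMap A (Localization.AtPrime Q)) = p :=
    IsLocalization.comap_map_of_isPrime_disjoint Q.primeCompl _ hpprime hdisj
  have hmin' : 𝔭.comap (algebraMap A (Localization.AtPrime Q)) ∈ minimalPrimes A := by
    rw [hcomap]
    exact hpmin
  have hsm0 := hgen (𝔭.comap (algebraMap A (Localization.AtPrime Q))) hmin'
  have hloc : IsLocalization.AtPrime (Localization.AtPrime 𝔭)
      (𝔭.comap (algebraMap A (Localization.AtPrime Q))) :=
    IsLocalization.isLocalization_isLocalization_atPrime_isLocalization Q.primeCompl _ 𝔭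
  have hsm : Algebra.IsSmoothAt k 𝔭 :=
    Algebra.FormallySmooth.of_equiv
      ((IsLocalization.algEquiv (𝔭.comap (algebraMap A (Localization.AtPrime Q))).primeCompl
        (Localization.AtPrime (𝔭.comap (algebraMap A (Localization.AtPrime Q))))
        (Localization.AtPrime 𝔭)).restrictScalars k)
  exact formallySmooth_of_projective_kaehler (k := k) (B := Localization.AtPrime N) hφsurj 𝔭 hsm

/-- a finite type algebra over a field with projective differentials which is smooth at its
generic points is smooth. -/
theorem smooth_of_projective_kaehler [Module.Projective A Ω[A⁄k]]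
    (hgen : ∀ (p : Ideal A) [p.IsPrime], p ∈ minimalPrimes A → Algebra.IsSmoothAt k p) :
    Algebra.Smooth k A := by
  have hfp : Algebra.FinitePresentation k A :=
    Algebra.FinitePresentation.of_finiteType.mp inferInstance
  refine ⟨Algebra.smoothLocus_eq_univ_iff.mp (Set.eq_univ_iff_forall.mpr fun q => ?_), hfp⟩
  exact isSmoothAt_of_projective_kaehler k A hgen q.asIdeal

end Groth.Agent.Lib.Helper5.JacLoc
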