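import Groth.Agent.Lib.Helper5.JacLocE
import Groth.Agent.Lib.Helper5.SepSmooth
import Groth.Agent.Lib.Helper5.SepCartier2
import Mathlib

set_option autoImplicit false
set_option linter.unusedSectionVars false
universe u

namespace Groth.Agent.Lib.Helper5.JacLoc

/-- a formally smooth field extension is geometrically reduced. -/
theorem geomReduced_of_formallySmooth_field {k K : Type u} [Field k] [Field K] [Algebra k K]
    [Algebra.FormallySmooth k K] : Algebra.IsGeometricallyReduced k K :=
  Groth.Agent.Lib.Helper5.SepCartier.geomReduced_of_mapBaseChange_injective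
    (Groth.Agent.Lib.Helper5.SepSmooth.mapBaseChange_injective_of_formallySmooth ℤ)

end Groth.Agent.Lib.Helper5.JacLoc
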