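import Mathlib

set_option autoImplicit false
set_option linter.style.haveILetI false
universe u

namespace Groth.Agent.Lib.Helper5.Jac

open TensorProduct Module Algebra IsLocalRing

local notation "𝓀[" R "]" => IsLocalRing.ResidueField R

-- removed option
/-- pointwise version of Mathlib's `IsSmoothAt.of_formallySmooth_fiber`: flat at `q` and the fibre
smooth at the corresponding point. -/
theorem isSmoothAt_of_fiber {R S : Type u} [CommRing R] [CommRing S] [Algebra R S]
    [Algebra.FinitePresentation R S] (p : Ideal R) [p.IsPrime] (Q : Ideal (p.Fiber S))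
    [Q.IsPrime]
    (hflat : Module.Flat R (Localization.AtPrime (Q.comap Algebra.TensorProduct.includeRight)))
    (hsm : Algebra.IsSmoothAt p.ResidueField Q) :
    Algebra.IsSmoothAt R (Q.comap Algebra.TensorProduct.includeRight) := by
  set q : Ideal S := Q.comap Algebra.TensorProduct.includeRight with hq
  have : q.LiesOver p := inferInstanceAs ((Q.comap Algebra.TensorProduct.includeRight).LiesOver p)
  let Rp := Localization.AtPrime p
  let Sp := Localization (algebraMapSubmonoid S p.primeCompl)
  let Sq := Localization.AtPrime q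
  let := Localization.AtPrime.algebraOfLiesOver p q
  let f : Sp →ₐ[S] Sq := IsLocalization.liftAlgHom (M := algebraMapSubmonoid S p.primeCompl)
        (f := Algebra.ofId _ _) (by
      rintro ⟨_, x, hx, rfl⟩
      simpa using! IsLocalization.map_units (M := q.primeCompl) Sq ⟨algebraMap _ _ x,
        by simp_all [q.over_def p]⟩)
  algebraize [f.toRingHom]
  have : IsScalarTower R Sp Sq := .to₁₃₄ _ S _ _
  have : IsScalarTower Rp Sp Sq := .of_algebraMap_eq' <| by
    apply IsLocalization.ringHom_ext p.primeCompl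
    simp only [RingHom.comp_assoc, ← IsScalarTower.algebraMap_eq]
  have : IsLocalization (algebraMapSubmonoid Sp q.primeCompl) Sq :=
    .isLocalization_of_submonoid_le _ _ (algebraMapSubmonoid S p.primeCompl) _
    (by rintro _ ⟨x, hx, rfl⟩; simp_all [q.over_def p])
  have : Algebra.FinitePresentation Rp Sp := by
    have : Algebra.IsPushout R Rp S Sp :=
      .symm <| Algebra.isPushout_of_isLocalization p.primeCompl _ _ _
    exact .equiv (Algebra.IsPushout.equiv R Rp S Sp)
  have : Module.Flat Rp Sq := (Module.flat_iff_of_isLocalization Rp p.primeCompl Sq).mpr hflat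
  have : FormallySmooth 𝓀[Rp] (𝓀[Rp] ⊗[Rp] Sq) := by
    have e1 : Localization.AtPrime Q ≃ₐ[Rp] Sq ⧸ p.map (algebraMap R Sq) :=
      Ideal.Fiber.localizationAlgEquivQuotient p Q
    have hI : p.map (algebraMap R Sq) = (maximalIdeal Rp).map (algebraMap Rp Sq) := by
      rw [← Localization.AtPrime.map_eq_maximalIdeal, Ideal.map_map,
        ← IsScalarTower.algebraMap_eq]
    have e2 : (Sq ⧸ p.map (algebraMap R Sq)) ≃ₐ[Rp] Sq ⧸ (maximalIdeal Rp).map (algebraMap Rp Sq) :=
      Ideal.quotientEquivAlgOfEq Rp hI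
    have e3 : (Sq ⧸ (maximalIdeal Rp).map (algebraMap Rp Sq)) ≃ₐ[Rp ⧸ maximalIdeal Rp]
        (Rp ⧸ maximalIdeal Rp) ⊗[Rp] Sq :=
      Algebra.TensorProduct.quotIdealMapEquivQuotTensor Sq (maximalIdeal Rp)
    have e3' : (Sq ⧸ (maximalIdeal Rp).map (algebraMap Rp Sq)) ≃ₐ[Rp] 𝓀[Rp] ⊗[Rp] Sq :=
      e3.restrictScalars Rp
    let e : Localization.AtPrime Q ≃ₐ[𝓀[Rp]] 𝓀[Rp] ⊗[Rp] Sq :=
      AlgEquiv.extendScalarsOfSurjective (R := Rp) IsLocalRing.residue_surjective
        ((e1.trans e2).trans e3')
    have : FormallySmooth 𝓀[Rp] (Localization.AtPrime Q) := hsm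
    exact Algebra.FormallySmooth.of_equiv (A := Localization.AtPrime Q) e
  have := FormallySmooth.of_formallySmooth_residueField_tensor
    (R := Rp) (S := Sq) (P := Sp) (algebraMapSubmonoid _ q.primeCompl)
  exact .comp R Rp Sq

end Groth.Agent.Lib.Helper5.Jac
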