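import Mathlib
import Groth.Agent.Lib.Helper5.JacL
import Groth.Agent.Lib.Helper5.JacM

set_option autoImplicit false
set_option linter.style.haveILetI false
universe u

namespace Groth.Agent.Lib.Helper5.Jac

open TensorProduct Module AlgebraicGeometry

attribute [local instance] Algebra.TensorProduct.rightAlgebra in
theorem finrank_kaehler_fiber {R S : Type u} [CommRing R] [CommRing S] [Algebra R S]
    (p : Ideal R) [p.IsPrime] (Q : Ideal (p.Fiber S)) [Q.IsPrime] :
    finrank Q.ResidueField (Q.ResidueField ⊗[p.Fiber S] Ω[p.Fiber S⁄p.ResidueField]) =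
      finrank (Q.comap Algebra.TensorProduct.includeRight).ResidueField
        ((Q.comap Algebra.TensorProduct.includeRight).ResidueField ⊗[S] Ω[S⁄R]) := by
  let e : (p.Fiber S) ⊗[S] Ω[S⁄R] ≃ₗ[p.Fiber S] Ω[p.Fiber S⁄p.ResidueField] :=
    KaehlerDifferential.tensorKaehlerEquiv R p.ResidueField S (p.Fiber S)
  have hbc : IsBaseChange (p.Fiber S) (e.toLinearMap.restrictScalars S ∘ₗ
      TensorProduct.mk S (p.Fiber S) Ω[S⁄R] 1) :=
    (TensorProduct.isBaseChange S Ω[S⁄R] (p.Fiber S)).comp (IsBaseChange.ofEquiv e)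
  exact finrank_residueField_of_isBaseChange _ hbc Q
    (Q.comap Algebra.TensorProduct.includeRight) rfl

theorem isSmoothAt_of_finrank_le_localDim_fiber {R S : Type u} [CommRing R] [CommRing S]
    [Algebra R S] [Algebra.FinitePresentation R S] (p : Ideal R) [p.IsPrime]
    (Q : Ideal (p.Fiber S)) [Q.IsPrime]
    (hflat : Module.Flat R (Localization.AtPrime (Q.comap Algebra.TensorProduct.includeRight)))
    (h : ((finrank (Q.comap Algebra.TensorProduct.includeRight).ResidueField
        ((Q.comap Algebra.TensorProduct.includeRight).ResidueField ⊗[S] Ω[S⁄R]) : ℕ∞) :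
          WithBot ℕ∞) ≤ FlatMor.localDim (PrimeSpectrum (p.Fiber S)) ⟨Q, inferInstance⟩) :
    Algebra.IsSmoothAt R (Q.comap Algebra.TensorProduct.includeRight) := by
  apply isSmoothAt_of_fiber p Q hflat
  have : Algebra.FiniteType p.ResidueField (p.Fiber S) := inferInstance
  apply isSmoothAt_of_finrank_le_localDim
  rwa [finrank_kaehler_fiber]

end Groth.Agent.Lib.Helper5.Jac
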