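import Mathlib

set_option autoImplicit false
set_option linter.style.haveILetI false
universe u

namespace Groth.Agent.Lib.Helper5.Jac

open TensorProduct Module Algebra IsLocalRing

local notation "𝓀[" R "]" => IsLocalRing.ResidueField R

/-- smooth at `q` implies the fibre is smooth at the corresponding point. -/
theorem isSmoothAt_fiber_of_isSmoothAt {R S : Type u} [CommRing R] [CommRing S] [Algebra R S]
    (p : Ideal R) [p.IsPrime] (Q : Ideal (p.Fiber S)) [Q.IsPrime]
    (hsm : Algebra.IsSmoothAt R (Q.comap Algebra.TensorProduct.includeRight)) :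
    Algebra.IsSmoothAt p.ResidueField Q := by
  set q : Ideal S := Q.comap Algebra.TensorProduct.includeRight with hq
  have : q.LiesOver p := inferInstanceAs ((Q.comap Algebra.TensorProduct.includeRight).LiesOver p)
  let Rp := Localization.AtPrime p
  let Sq := Localization.AtPrime q
  let := Localization.AtPrime.algebraOfLiesOver p q
  have : FormallySmooth R Sq := hsm
  have : IsScalarTower R Rp Sq := inferInstance
  have : FormallySmooth Rp Sq := Algebra.FormallySmooth.localization_base p.primeCompl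
  have hfs : FormallySmooth 𝓀[Rp] (𝓀[Rp] ⊗[Rp] Sq) := inferInstance
  have e1 : Localization.AtPrime Q ≃ₐ[Rp] Sq ⧸ p.map (algebraMap R Sq) :=
    Ideal.Fiber.localizationAlgEquivQuotient p Q
  have hI : p.map (algebraMap R Sq) = (maximalIdeal Rp).map (algebraMap Rp Sq) := by
    rw [← Localization.AtPrime.map_eq_maximalIdeal, Ideal.map_map,
      ← IsScalarTower.algebraMap_eq]
  have e2 : (Sq ⧸ p.map (algebraMap R Sq)) ≃ₐ[Rp] Sq ⧸ (maximalIdeal Rp).map (algebraMap Rp Sq) :=
    Ideal.quotientEquivAlgOfEq Rp hI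
  have e3 : (Sq ⧸ (maximalIdeal Rp).map (algebraMap Rp Sq)) ≃ₐ[Rp ⧸ maximalIdeal Rp]
      (Rp ⧸ maximalIdeal Rp) ⊗[Rp] Sq :=
    Algebra.TensorProduct.quotIdealMapEquivQuotTensor Sq (maximalIdeal Rp)
  have e3' : (Sq ⧸ (maximalIdeal Rp).map (algebraMap Rp Sq)) ≃ₐ[Rp] 𝓀[Rp] ⊗[Rp] Sq :=
    e3.restrictScalars Rp
  let e : Localization.AtPrime Q ≃ₐ[𝓀[Rp]] 𝓀[Rp] ⊗[Rp] Sq :=
    AlgEquiv.extendScalarsOfSurjective (R := Rp) IsLocalRing.residue_surjective
      ((e1.trans e2).trans e3')
  exact Algebra.FormallySmooth.of_equiv (A := 𝓀[Rp] ⊗[Rp] Sq) e.symm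

end Groth.Agent.Lib.Helper5.Jac
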