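import Mathlib
import Groth.Agent.Lib.Helper5.JacN
import Groth.Agent.Lib.Helper5.JacO
import Groth.Agent.Lib.lead.FibreRingDim
import Groth.Agent.Lib.Helper18.Chev.SchemeBound

set_option autoImplicit false
set_option linter.style.haveILetI false
universe u

namespace Groth.Agent.Lib.Helper5.Jac

open TensorProduct Module AlgebraicGeometry CategoryTheory

private theorem transport_fiber {R S : Type u} [CommRing R] [CommRing S] [Algebra R S]
    (p' p : Ideal R) (hp : p' = p) [p'.IsPrime] [p.IsPrime] (Q : Ideal (p.Fiber S)) [Q.IsPrime] :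
    ∃ Q' : PrimeSpectrum (p'.Fiber S),
      Q'.asIdeal.comap (Algebra.TensorProduct.includeRight.toRingHom) =
        Q.comap Algebra.TensorProduct.includeRight ∧
      FlatMor.localDim (PrimeSpectrum (p'.Fiber S)) Q' =
        FlatMor.localDim (PrimeSpectrum (p.Fiber S)) ⟨Q, inferInstance⟩ := by
  subst hp
  exact ⟨⟨Q, inferInstance⟩, rfl, rfl⟩

theorem localDim_fiber_eq_fibreDimAt {R S : Type u} [CommRing R] [CommRing S] [Algebra R S]
    (p : Ideal R) [p.IsPrime] (Q : Ideal (p.Fiber S)) [Q.IsPrime] :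
    FlatMor.localDim (PrimeSpectrum (p.Fiber S)) ⟨Q, inferInstance⟩ =
      FlatMor.fibreDimAt (Spec.map (CommRingCat.ofHom (algebraMap R S)))
        (⟨Q.comap Algebra.TensorProduct.includeRight, inferInstance⟩ : PrimeSpectrum S) := by
  set q : PrimeSpectrum S := ⟨Q.comap Algebra.TensorProduct.includeRight, inferInstance⟩ with hq
  have : q.asIdeal.LiesOver p :=
    inferInstanceAs ((Q.comap Algebra.TensorProduct.includeRight).LiesOver p)
  have hp : q.asIdeal.under R = p := (Ideal.over_def q.asIdeal p).symm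
  obtain ⟨Q', hQ'1, hQ'2⟩ := transport_fiber (q.asIdeal.under R) p hp Q
  rw [← hQ'2]
  exact Groth.Agent.Lib.lead.FibreRingDim.localDim_fiberRing_eq R S q Q' hQ'1

theorem isSmoothAt_iff_finrank_le_fibreDimAt_aux {R S : Type u} [CommRing R] [CommRing S]
    [Algebra R S] [Algebra.FinitePresentation R S] (p : Ideal R) [p.IsPrime]
    (Q : Ideal (p.Fiber S)) [Q.IsPrime]
    (hflat : Module.Flat R (Localization.AtPrime (Q.comap Algebra.TensorProduct.includeRight)))
    (d : ℕ)
    (hd : FlatMor.fibreDimAt (Spec.map (CommRingCat.ofHom (algebraMap R S)))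
        (⟨Q.comap Algebra.TensorProduct.includeRight, inferInstance⟩ : PrimeSpectrum S) =
          (d : WithBot ℕ∞)) :
    Algebra.IsSmoothAt R (Q.comap Algebra.TensorProduct.includeRight) ↔
      finrank (Q.comap Algebra.TensorProduct.includeRight).ResidueField
        ((Q.comap Algebra.TensorProduct.includeRight).ResidueField ⊗[S] Ω[S⁄R]) ≤ d := by
  have hloc := localDim_fiber_eq_fibreDimAt p Q
  rw [hd] at hloc
  constructor
  · intro hsm
    have h1 := isSmoothAt_fiber_of_isSmoothAt p Q hsm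
    have : Algebra.FiniteType p.ResidueField (p.Fiber S) := inferInstance
    have h2 := finrank_eq_localDim_of_isSmoothAt Q h1
    rw [finrank_kaehler_fiber, hloc] at h2
    have h3 : finrank (Q.comap Algebra.TensorProduct.includeRight).ResidueField
        ((Q.comap Algebra.TensorProduct.includeRight).ResidueField ⊗[S] Ω[S⁄R]) = d := by
      exact_mod_cast h2
    exact h3.le
  · intro h
    apply isSmoothAt_of_finrank_le_localDim_fiber p Q hflat
    rw [hloc]
    exact_mod_cast h

theorem isSmoothAt_iff_finrank_le_fibreDimAt {R S : Type u} [CommRing R] [CommRing S]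
    [Algebra R S] [Algebra.FinitePresentation R S] (q : Ideal S) [q.IsPrime]
    (hflat : Module.Flat R (Localization.AtPrime q)) (d : ℕ)
    (hd : FlatMor.fibreDimAt (Spec.map (CommRingCat.ofHom (algebraMap R S)))
        (⟨q, inferInstance⟩ : PrimeSpectrum S) = (d : WithBot ℕ∞)) :
    Algebra.IsSmoothAt R q ↔ finrank q.ResidueField (q.ResidueField ⊗[S] Ω[S⁄R]) ≤ d := by
  obtain ⟨p, hp, Q, hQ⟩ : ∃ (p : Ideal R) (_ : p.IsPrime) (Q : PrimeSpectrum (p.Fiber S)),
      Q.asIdeal.comap Algebra.TensorProduct.includeRight = q := by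
    refine ⟨q.under R, inferInstance,
      PrimeSpectrum.primesOverOrderIsoFiber R S (q.under R) ⟨q, ⟨inferInstance, ⟨rfl⟩⟩⟩, ?_⟩
    have h1 := (PrimeSpectrum.primesOverOrderIsoFiber R S (q.under R)).symm_apply_apply
      ⟨q, ⟨inferInstance, ⟨rfl⟩⟩⟩
    have h2 := PrimeSpectrum.coe_primesOverOrderIsoFiber_symm_apply (R := R) (S := S)
      (p := q.under R)
      (PrimeSpectrum.primesOverOrderIsoFiber R S (q.under R) ⟨q, ⟨inferInstance, ⟨rfl⟩⟩⟩)
    rw [h1] at h2
    exact h2.symm
  subst hQ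
  have := Q.isPrime
  exact isSmoothAt_iff_finrank_le_fibreDimAt_aux p Q.asIdeal hflat d hd

theorem isSmoothAt_iff_finrank_le_of_chart {X S : Scheme.{u}} (f : X ⟶ S)
    [LocallyOfFinitePresentation f]
    {D : X.Opens} (hD : IsAffineOpen D) {V : S.Opens} (hV : IsAffineOpen V) (e : D ≤ f ⁻¹ᵁ V)
    (x : X) (hx : x ∈ D) (hflat : (f.stalkMap x).hom.Flat) (d : ℕ)
    (hd : FlatMor.fibreDimAt f x = (d : WithBot ℕ∞)) :
    (let := (f.appLE V D e).hom.toAlgebra
     Algebra.IsSmoothAt Γ(S, V) (hD.primeIdealOf ⟨x, hx⟩).asIdeal ↔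
      finrank (hD.primeIdealOf ⟨x, hx⟩).asIdeal.ResidueField
          ((hD.primeIdealOf ⟨x, hx⟩).asIdeal.ResidueField ⊗[Γ(X, D)] Ω[Γ(X, D)⁄Γ(S, V)]) ≤ d) := by
  let := (f.appLE V D e).hom.toAlgebra
  have hfp : Algebra.FinitePresentation Γ(S, V) Γ(X, D) :=
    f.finitePresentation_appLE hV hD e
  let p := (hV.primeIdealOf ⟨f x, e hx⟩).asIdeal
  let q := (hD.primeIdealOf ⟨x, hx⟩).asIdeal
  have : q.LiesOver p :=
    ⟨congr($(IsAffineOpen.comap_primeIdealOf_appLE V hV D hD e hx).1).symm⟩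
  let := Localization.AtPrime.algebraOfLiesOver p q
  have h1 : Module.Flat (Localization.AtPrime p) (Localization.AtPrime q) := by
    rw [← RingHom.flat_algebraMap_iff]
    exact (RingHom.Flat.respectsIso.arrow_mk_iso_iff
      (IsAffineOpen.arrowStalkMapIso f V hV D hD e hx)).mp hflat
  have h2 : Module.Flat Γ(S, V) (Localization.AtPrime q) :=
    (Module.flat_iff_of_isLocalization (Localization.AtPrime p) p.primeCompl _).mp h1
  apply isSmoothAt_iff_finrank_le_fibreDimAt q h2 d
  rw [← hd]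
  have comm := IsAffineOpen.SpecMap_appLE_fromSpec f hV hD e
  have hft : (f.appLE V D e).hom.FiniteType :=
    HasRingHomProperty.appLE (P := @LocallyOfFiniteType) f inferInstance ⟨V, hV⟩ ⟨D, hD⟩ e
  have : LocallyOfFiniteType (Spec.map (f.appLE V D e)) := by
    rw [HasRingHomProperty.Spec_iff (P := @LocallyOfFiniteType)]
    exact hft
  have h3 := Groth.Agent.Lib.Helper18.Chev.fibreDimAt_eq_of_openImmersion_square _ hV.fromSpec
    hD.fromSpec f comm (hD.primeIdealOf ⟨x, hx⟩)
  rw [hD.fromSpec_primeIdealOf ⟨x, hx⟩] at h3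
  exact h3.symm

end Groth.Agent.Lib.Helper5.Jac
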