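import Mathlib
import Groth.Agent.Lib.Helper29.FreeIso3
import Groth.Agent.Lib.Helper7.AffinePoints
import Groth.Agent.Lib.Helper5.JacC

set_option autoImplicit false
set_option linter.style.haveILetI false
universe u

namespace Groth.Agent.Lib.Helper5.Jac

open TensorProduct Module AlgebraicGeometry CategoryTheory
open Groth.Agent.Lib.Helper28.QCohLoc Groth.Agent.Lib.Helper29.QCohStalk
  Groth.Agent.Lib.Helper29.FreeIso

theorem finrank_le_of_local_span {R : Type u} [CommRing R] {M : Type u} [AddCommGroup M]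
    [Module R M] (q : Ideal R) [q.IsPrime] {n : ℕ} (v : Fin n → M)
    (h : ∀ t : M, ∃ s : R, s ∉ q ∧ s • t ∈ Submodule.span R (Set.range v)) :
    finrank q.ResidueField (q.ResidueField ⊗[R] M) ≤ n := by
  let K := q.ResidueField
  let w : Fin n → K ⊗[R] M := fun j => (1 : K) ⊗ₜ[R] v j
  have hspan : Submodule.span K (Set.range w) = ⊤ := by
    rw [eq_top_iff, ← span_one_tmul_eq_top (R := R) (M := M) K, Submodule.span_le]
    rintro _ ⟨t, rfl⟩
    obtain ⟨s, hs, hst⟩ := h t
    have hs0 : algebraMap R K s ≠ 0 := by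
      rwa [Ne, Ideal.algebraMap_residueField_eq_zero]
    have h1 : (algebraMap R K s) • ((1 : K) ⊗ₜ[R] t) ∈ Submodule.span K (Set.range w) := by
      have h2 : (algebraMap R K s) • ((1 : K) ⊗ₜ[R] t) = (1 : K) ⊗ₜ[R] (s • t) := by
        rw [TensorProduct.tmul_smul, ← algebraMap_smul K s ((1 : K) ⊗ₜ[R] t)]
      rw [h2]
      have h3 : ∀ y ∈ Submodule.span R (Set.range v),
          (1 : K) ⊗ₜ[R] y ∈ Submodule.span K (Set.range w) := by
        intro y hy
        induction hy using Submodule.span_induction with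
        | mem y hy =>
          obtain ⟨j, rfl⟩ := hy
          exact Submodule.subset_span ⟨j, rfl⟩
        | zero => rw [TensorProduct.tmul_zero]; exact Submodule.zero_mem _
        | add y z _ _ hy hz => rw [TensorProduct.tmul_add]; exact Submodule.add_mem _ hy hz
        | smul a y _ hy =>
          rw [TensorProduct.tmul_smul, ← algebraMap_smul K a ((1 : K) ⊗ₜ[R] y)]
          exact Submodule.smul_mem _ _ hy
      exact h3 _ hst
    have h4 := Submodule.smul_mem _ (algebraMap R K s)⁻¹ h1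
    rwa [smul_smul, inv_mul_cancel₀ hs0, one_smul] at h4
  have h5 := finrank_range_le_card (R := K) w
  rw [Set.finrank, hspan, finrank_top, Fintype.card_fin] at h5
  exact h5

variable {X : Scheme.{u}}

theorem exists_smul_mem_span_of_isBasisOn (F : X.Modules) [F.IsQuasicoherent] {U : X.Opens}
    {n : ℕ} (τ : Fin n → Γ(F, U)) (hτ : IsBasisOn F U τ)
    {D : X.Opens} (hD : IsAffineOpen D) (hDU : D ≤ U) (x : X) (hx : x ∈ D) (t : Γ(F, D)) :
    ∃ s : Γ(X, D), s ∉ (hD.primeIdealOf ⟨x, hx⟩).asIdeal ∧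
      s • t ∈ Submodule.span Γ(X, D) (Set.range fun j => res F hDU (τ j)) := by
  classical
  have hloc := isLocOn_of_isQuasicoherent F hD
  have hτD := hτ.mono hDU
  have hspan := hτD.span_germ x hx
  have ht : gm F D x hx t ∈ Submodule.span (X.presheaf.stalk x)
      (Set.range fun j => gm F D x hx (res F hDU (τ j))) := by rw [hspan]; trivial
  obtain ⟨a, ha⟩ := (Submodule.mem_span_range_iff_exists_fun _).1 ht
  choose s g hg hsg using fun j => stalk_affine_surj hD x hx (a j)
  let G : Γ(X, D) := ∏ j, g j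
  let G' : Fin n → Γ(X, D) := fun j => ∏ i ∈ Finset.univ.erase j, g i
  have hGG' : ∀ j, g j * G' j = G := fun j => Finset.mul_prod_erase Finset.univ g (Finset.mem_univ j)
  have hgerm : gm F D x hx (G • t - ∑ j, (s j * G' j) • res F hDU (τ j)) = 0 := by
    have hsub : gm F D x hx (G • t - ∑ j, (s j * G' j) • res F hDU (τ j)) =
        gm F D x hx (G • t) - gm F D x hx (∑ j, (s j * G' j) • res F hDU (τ j)) :=
      map_sub (ConcreteCategory.hom (F.presheaf.germ D x hx)) _ _
    rw [hsub, gm_smul, gm_sum_smul, sub_eq_zero, ← ha, Finset.smul_sum]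
    refine Finset.sum_congr rfl fun j _ => ?_
    rw [smul_smul, map_mul, ← hsg j, ← hGG' j, map_mul]
    congr 1
    ring
  obtain ⟨s₀, hs₀, hs₀z⟩ := exists_smul_eq_zero_of_gm_eq_zero F hD hloc x hx _ hgerm
  refine ⟨s₀ * G, ?_, ?_⟩
  · rw [Groth.Agent.Lib.Helper7.AffPts.mem_primeIdealOf_iff hD ⟨x, hx⟩, not_not,
      Scheme.mem_basicOpen X _ x hx, map_mul]
    refine hs₀.mul ?_
    rw [map_prod]
    exact (Finset.prod_induction _ IsUnit (fun _ _ ha hb => ha.mul hb) isUnit_one
      (fun j _ => hg j))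
  · rw [smul_sub, sub_eq_zero] at hs₀z
    rw [mul_smul, hs₀z]
    refine Submodule.smul_mem _ _ (Submodule.sum_mem _ fun j _ => ?_)
    exact Submodule.smul_mem _ _ (Submodule.subset_span ⟨j, rfl⟩)

end Groth.Agent.Lib.Helper5.Jac
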