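import Mathlib
import Groth.Agent.Lib.Helper5.JacP
import Groth.Agent.Lib.Helper5.JacQ
import Groth.Agent.Lib.Helper5.JacD
import Groth.Agent.Lib.helper19.RestrUniv4

set_option autoImplicit false
set_option linter.style.haveILetI false
universe u

namespace Groth.Agent.Lib.Helper5.Jac

open TensorProduct Module AlgebraicGeometry CategoryTheory
open Groth.Agent.Lib.Helper28.QCohLoc Groth.Agent.Lib.Helper29.QCohStalk
  Groth.Agent.Lib.Helper29.FreeIso

variable {X Y : Scheme.{u}}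

theorem smooth_smoothLocus_ι_comp (f : X ⟶ Y) [LocallyOfFinitePresentation f] :
    Smooth (f.smoothLocus.ι ≫ f) := by
  rw [← Scheme.Hom.smoothLocus_eq_top_iff, ← Scheme.Hom.preimage_smoothLocus_eq, eq_top_iff]
  intro y _
  exact y.2

theorem exists_isStandardSmooth_of_mem_smoothLocus (f : X ⟶ Y) [LocallyOfFinitePresentation f]
    (x : X) (hx : x ∈ f.smoothLocus) :
    ∃ (V : Y.Opens) (_ : IsAffineOpen V) (U : X.Opens) (_ : IsAffineOpen U) (_ : x ∈ U)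
      (e : U ≤ f ⁻¹ᵁ V), (f.appLE V U e).hom.IsStandardSmooth := by
  let W := f.smoothLocus
  have : Smooth (W.ι ≫ f) := smooth_smoothLocus_ι_comp f
  obtain ⟨V, hV, U', hU', hxU', e', hstd⟩ := Smooth.exists_isStandardSmooth (W.ι ≫ f) ⟨x, hx⟩
  have e : W.ι ''ᵁ U' ≤ f ⁻¹ᵁ V := by
    rintro _ ⟨y, hy, rfl⟩
    exact e' hy
  refine ⟨V, hV, W.ι ''ᵁ U', hU'.image_of_isOpenImmersion W.ι, ⟨⟨x, hx⟩, hxU', rfl⟩, e, ?_⟩
  have h1 := Scheme.Hom.appLE_comp_appLE W.ι f V (W.ι ''ᵁ U') U' e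
    (by intro y hy; exact ⟨y, hy, rfl⟩)
  rw [Scheme.Opens.ι_appLE] at h1
  have h2 : (homOfLE (le_refl (W.ι ''ᵁ U'))) = 𝟙 _ := Subsingleton.elim _ _
  have h3 : f.appLE V (W.ι ''ᵁ U') e = (W.ι ≫ f).appLE V U' e' := by
    rw [← h1]
    have : X.presheaf.map (homOfLE (le_refl (W.ι ''ᵁ U'))).op = 𝟙 _ := by
      rw [h2]; exact X.presheaf.map_id _
    erw [this, Category.comp_id]
  rw [h3]
  exact hstd

theorem flat_stalkMap_of_mem_smoothLocus (f : X ⟶ Y) [LocallyOfFinitePresentation f]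
    (x : X) (hx : x ∈ f.smoothLocus) : (f.stalkMap x).hom.Flat := by
  let W := f.smoothLocus
  have : Smooth (W.ι ≫ f) := smooth_smoothLocus_ι_comp f
  let x' : W := ⟨x, hx⟩
  have : IsIso (W.ι.stalkMap x') := inferInstance
  have h1 := Flat.stalkMap (W.ι ≫ f) x'
  rw [Scheme.Hom.stalkMap_comp] at h1
  exact (RingHom.Flat.respectsIso.cancel_right_isIso (f.stalkMap (W.ι x')) (W.ι.stalkMap x')).mp h1

theorem mem_smoothLocus_iff_flat_and_free (f : X ⟶ Y) [LocallyOfFinitePresentation f]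
    (Ω' : X.Modules) (d : OmegaSh.Der f Ω') (hd : OmegaSh.IsUniversal d) (x : X) :
    x ∈ f.smoothLocus ↔
      (f.stalkMap x).hom.Flat ∧
        ∃ (U : X.Opens) (n : ℕ), x ∈ U ∧ Nonempty (Ω'.restrict U.ι ≅ FlatMod.freeMod (↑U) n) ∧
          FlatMor.fibreDimAt f x = (n : WithBot ℕ∞) := by
  constructor
  · intro hx
    refine ⟨flat_stalkMap_of_mem_smoothLocus f x hx, ?_⟩
    obtain ⟨V, hV, U, hU, hxU, e, hstd⟩ := exists_isStandardSmooth_of_mem_smoothLocus f x hx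
    obtain ⟨n, hn, hfree⟩ :=
      Groth.Agent.Lib.Helper19.RestrUniv4.exists_free_of_isStandardSmooth f Ω' d hd hU hV e hstd
    exact ⟨U, n, hxU, hfree,
      Groth.Agent.Lib.Helper19.RestrUniv4.fibreDimAt_eq_of_isStandardSmoothOfRelativeDimension
        f hU hV e n hn x hxU⟩
  · rintro ⟨hflat, U, n, hxU, ⟨φ⟩, hfd⟩
    obtain ⟨τ, hτ⟩ := exists_isBasisOn_of_iso Ω' U n φ
    obtain ⟨_, ⟨V, hV, rfl⟩, hxV, -⟩ :=
      Y.isBasis_affineOpens.exists_subset_of_mem_open (Set.mem_univ (f x)) isOpen_univ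
    obtain ⟨_, ⟨D, hD, rfl⟩, hxD, hDsub⟩ :=
      X.isBasis_affineOpens.exists_subset_of_mem_open
        (show x ∈ ((U ⊓ f ⁻¹ᵁ V : X.Opens) : Set X) from ⟨hxU, hxV⟩) (U ⊓ f ⁻¹ᵁ V).2
    have hDU : D ≤ U := fun y hy => (hDsub hy).1
    have e : D ≤ f ⁻¹ᵁ V := fun y hy => (hDsub hy).2
    have : Ω'.IsQuasicoherent := Groth.Agent.Lib.Helper19.RestrUniv.isQuasicoherent f d hd
    let := (f.appLE V D e).hom.toAlgebra
    obtain ⟨Φ, hΦ, -⟩ := Groth.Agent.Lib.Helper19.RestrUniv.exists_sections_equiv f d hd hD hV e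
    let L : Γ(Ω', D) ≃ₗ[Γ(X, D)] Ω[Γ(X, D)⁄Γ(Y, V)] := { Φ with map_smul' := hΦ }
    have hfr : finrank (hD.primeIdealOf ⟨x, hxD⟩).asIdeal.ResidueField
        ((hD.primeIdealOf ⟨x, hxD⟩).asIdeal.ResidueField ⊗[Γ(X, D)] Ω[Γ(X, D)⁄Γ(Y, V)]) ≤ n := by
      apply finrank_le_of_local_span _ (fun j => L (res Ω' hDU (τ j)))
      intro t'
      obtain ⟨s, hs, hst⟩ := exists_smul_mem_span_of_isBasisOn Ω' τ hτ hD hDU x hxD (L.symm t')
      refine ⟨s, hs, ?_⟩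
      have h1 : s • t' = L (s • L.symm t') := by rw [map_smul, L.apply_symm_apply]
      rw [h1]
      have h2 := Submodule.mem_map_of_mem (f := L.toLinearMap) hst
      rw [Submodule.map_span, ← Set.range_comp] at h2
      exact h2
    have hsm := (isSmoothAt_iff_finrank_le_of_chart f hD hV e x hxD hflat n hfd).mpr hfr
    rw [Scheme.Hom.mem_smoothLocus, formallySmooth_stalkMap_iff V hV D hD e hxD]
    exact hsm

end Groth.Agent.Lib.Helper5.Jac
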