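import Mathlib
import Groth.Agent.Lib.Helper5.RegSchImm
import Groth.Agent.Lib.Helper7.RegularFree
import Groth.Agent.Lib.helper11.RegularSop
import Groth.Agent.S2599

set_option autoImplicit false
set_option linter.style.haveILetI false
universe u

namespace Groth.Agent.Lib.Helper5.Jac

open IsLocalRing

/-- a Noetherian local ring with a regular quotient by `k` elements of the right dimension is
regular -/
theorem isRegularLocalRing_of_quotient_of_dim {R : Type u} [CommRing R] [IsLocalRing R]
    [IsNoetherianRing R] (rs : List R) (hreg : IsRegularLocalRing (R ⧸ Ideal.ofList rs))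
    (hdim : ringKrullDim (R ⧸ Ideal.ofList rs) + rs.length ≤ ringKrullDim R) :
    IsRegularLocalRing R := by
  obtain ⟨l, hl, hl'⟩ := Groth.Agent.Lib.helper19.exists_list_ofList_eq
    (IsLocalRing.maximalIdeal (R ⧸ Ideal.ofList rs))
  have hm : IsLocalRing.maximalIdeal R =
      Ideal.ofList (l.map (Groth.Agent.Lib.helper19.quotLift (Ideal.ofList rs)) ++ rs) := by
    rw [Ideal.ofList_append, ← Groth.Agent.Lib.helper19.comap_mk_ofList, hl',
      Groth.Agent.Lib.helper19.comap_mk_maximalIdeal]
  apply IsRegularLocalRing.of_spanFinrank_maximalIdeal_le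
  refine le_trans ?_ hdim
  rw [← IsRegularLocalRing.spanFinrank_maximalIdeal (R := R ⧸ Ideal.ofList rs), ← hl]
  have h2 := Groth.Agent.Lib.Helper5.RegSchImm.spanFinrank_ofList_le
    (l.map (Groth.Agent.Lib.helper19.quotLift (Ideal.ofList rs)) ++ rs)
  rw [← hm, List.length_append, List.length_map] at h2
  exact_mod_cast h2

/-- flatness over a regular local ring from regularity of the closed fibre and the dimension
formula -/
theorem flat_of_regular_fibre (A B : Type u) [CommRing A] [CommRing B] [IsRegularLocalRing A]
    [IsNoetherianRing B] [IsLocalRing B] [Algebra A B] [IsLocalHom (algebraMap A B)]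
    (hreg : IsRegularLocalRing (B ⧸ (maximalIdeal A).map (algebraMap A B)))
    (hdim : ringKrullDim (B ⧸ (maximalIdeal A).map (algebraMap A B)) + ringKrullDim A ≤
      ringKrullDim B) :
    Module.Flat A B ∧ IsRegularLocalRing B := by
  obtain ⟨d, hd⟩ := Groth.Agent.Lib.Helper7.RegularFree.exists_dim (A := A)
  obtain ⟨rs, hlen, hof, hmem, hrs⟩ :=
    Groth.Agent.Lib.helper11.RegularSop.exists_regular_sop (A := A) d hd
  set xs : List B := rs.map (algebraMap A B) with hxs
  have hofxs : Ideal.ofList xs = (maximalIdeal A).map (algebraMap A B) := by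
    rw [hxs, ← Ideal.map_ofList, hof]
  have hregxs : IsRegularLocalRing (B ⧸ Ideal.ofList xs) := by rw [hofxs]; exact hreg
  have hB : IsRegularLocalRing B := by
    apply isRegularLocalRing_of_quotient_of_dim xs hregxs
    rw [hofxs, hxs, List.length_map, hlen, ← hd]
    exact hdim
  refine ⟨?_, hB⟩
  have hCM : LocCoh.IsCohenMacaulayModule B B :=
    Groth.Agent.Lib.Helper7.RegularFree.isCM_of_free (A := B) B
  apply Groth.Agent.S2599.result A B B hCM
  have hI : (EGA4.mB A B • (⊤ : Submodule B B)) = EGA4.mB A B := by
    rw [smul_eq_mul, Ideal.mul_top]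
  have h1 : Module.supportDim B (EGA4.FibMod A B B) =
      ringKrullDim (B ⧸ (maximalIdeal A).map (algebraMap A B)) := by
    show Module.supportDim B (B ⧸ (EGA4.mB A B • (⊤ : Submodule B B))) = _
    rw [hI]
    exact Module.supportDim_quotient_eq_ringKrullDim _
  rw [Module.supportDim_self_eq_ringKrullDim, h1]
  apply le_antisymm
  · have hle : Ideal.ofList xs ≤ Ring.jacobson B := by
      rw [IsLocalRing.ringJacobson_eq_maximalIdeal, hofxs]
      exact IsLocalRing.map_maximalIdeal_le (algebraMap A B)
    have h2 := ringKrullDim_le_ringKrullDim_quotient_add_spanFinrank (Ideal.ofList xs) hle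
    have h3 := Groth.Agent.Lib.Helper5.RegSchImm.spanFinrank_ofList_le xs
    rw [hxs, List.length_map, hlen] at h3
    rw [hofxs] at h2
    rw [hd, add_comm]
    refine h2.trans ?_
    gcongr
    rw [← hofxs]
    exact_mod_cast h3
  · rw [add_comm]
    exact hdim

end Groth.Agent.Lib.Helper5.Jac
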