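import Mathlib
import Groth.Agent.Lib.Helper5.JacR
import Groth.Agent.Lib.Helper5.JacS
import Groth.Agent.Lib.Helper5.AdicRegE
import Groth.Agent.Lib.Helper5.ProjSpreadD

set_option autoImplicit false
set_option linter.style.haveILetI false
universe u

namespace Groth.Agent.Lib.Helper5.Jac

open TensorProduct Module AlgebraicGeometry CategoryTheory IsLocalRing

local notation "𝓀[" R "]" => IsLocalRing.ResidueField R

/-- chart-level flatness over a regular base from the Jacobian bound on the fibre and the
dimension formula. -/
theorem flat_of_regular_base_aux {R S : Type u} [CommRing R] [CommRing S] [Algebra R S]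
    [Algebra.FinitePresentation R S] [IsNoetherianRing S] (p : Ideal R) [p.IsPrime]
    (Q : Ideal (p.Fiber S)) [Q.IsPrime] (n : ℕ)
    (hfin : finrank (Q.comap Algebra.TensorProduct.includeRight).ResidueField
        ((Q.comap Algebra.TensorProduct.includeRight).ResidueField ⊗[S] Ω[S⁄R]) ≤ n)
    (hd : FlatMor.fibreDimAt (Spec.map (CommRingCat.ofHom (algebraMap R S)))
        (⟨Q.comap Algebra.TensorProduct.includeRight, inferInstance⟩ : PrimeSpectrum S) =
          (n : WithBot ℕ∞))
    (hregR : IsRegularLocalRing (Localization.AtPrime p))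
    (hdim : let := (Localization.AtPrime.algebraOfLiesOver p
        (Q.comap Algebra.TensorProduct.includeRight));
      ringKrullDim (Localization.AtPrime (Q.comap Algebra.TensorProduct.includeRight) ⧸
          (maximalIdeal (Localization.AtPrime p)).map
            (algebraMap (Localization.AtPrime p)
              (Localization.AtPrime (Q.comap Algebra.TensorProduct.includeRight)))) +
        ringKrullDim (Localization.AtPrime p) ≤
      ringKrullDim (Localization.AtPrime (Q.comap Algebra.TensorProduct.includeRight))) :
    let := (Localization.AtPrime.algebraOfLiesOver p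
        (Q.comap Algebra.TensorProduct.includeRight));
    Module.Flat (Localization.AtPrime p)
      (Localization.AtPrime (Q.comap Algebra.TensorProduct.includeRight)) := by
  have hloc := localDim_fiber_eq_fibreDimAt p Q
  rw [hd] at hloc
  have : Algebra.FiniteType p.ResidueField (p.Fiber S) := inferInstance
  have hsmQ : Algebra.IsSmoothAt p.ResidueField Q := by
    apply isSmoothAt_of_finrank_le_localDim
    rw [finrank_kaehler_fiber, hloc]
    exact_mod_cast hfin
  have : IsNoetherianRing (p.Fiber S) := Algebra.FiniteType.isNoetherianRing p.ResidueField _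
  have : IsNoetherianRing (Localization.AtPrime Q) :=
    IsLocalization.isNoetherianRing Q.primeCompl _ inferInstance
  have : Algebra.FormallySmooth p.ResidueField (Localization.AtPrime Q) := hsmQ
  have hCQ : IsRegularLocalRing (Localization.AtPrime Q) :=
    Groth.Agent.Lib.Helper5.AdicReg.isRegularLocalRing_of_adicSmooth (k := p.ResidueField)
      (Groth.Agent.Lib.Helper5.ProjSpread.adicSmooth_of_formallySmooth' _)
  set q : Ideal S := Q.comap Algebra.TensorProduct.includeRight with hq
  have : q.LiesOver p := inferInstanceAs ((Q.comap Algebra.TensorProduct.includeRight).LiesOver p)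
  let Rp := Localization.AtPrime p
  let Sq := Localization.AtPrime q
  let := Localization.AtPrime.algebraOfLiesOver p q
  have e1 : Localization.AtPrime Q ≃ₐ[Rp] Sq ⧸ p.map (algebraMap R Sq) :=
    Ideal.Fiber.localizationAlgEquivQuotient p Q
  have hI : p.map (algebraMap R Sq) = (maximalIdeal Rp).map (algebraMap Rp Sq) := by
    rw [← Localization.AtPrime.map_eq_maximalIdeal, Ideal.map_map,
      ← IsScalarTower.algebraMap_eq]
  have e2 : (Sq ⧸ p.map (algebraMap R Sq)) ≃ₐ[Rp] Sq ⧸ (maximalIdeal Rp).map (algebraMap Rp Sq) :=
    Ideal.quotientEquivAlgOfEq Rp hI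
  have hreg' : IsRegularLocalRing (Sq ⧸ (maximalIdeal Rp).map (algebraMap Rp Sq)) :=
    IsRegularLocalRing.of_ringEquiv (R := Localization.AtPrime Q) (e1.trans e2).toRingEquiv
  have : IsNoetherianRing Sq := IsLocalization.isNoetherianRing q.primeCompl _ inferInstance
  exact (flat_of_regular_fibre Rp Sq hreg' hdim).1

theorem flat_of_regular_base {R S : Type u} [CommRing R] [CommRing S] [Algebra R S]
    [Algebra.FinitePresentation R S] [IsNoetherianRing S] (p : Ideal R) [p.IsPrime]
    (q : Ideal S) [q.IsPrime] [q.LiesOver p] (n : ℕ)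
    (hfin : finrank q.ResidueField (q.ResidueField ⊗[S] Ω[S⁄R]) ≤ n)
    (hd : FlatMor.fibreDimAt (Spec.map (CommRingCat.ofHom (algebraMap R S)))
        (⟨q, inferInstance⟩ : PrimeSpectrum S) = (n : WithBot ℕ∞))
    (hregR : IsRegularLocalRing (Localization.AtPrime p))
    (hdim : let := Localization.AtPrime.algebraOfLiesOver p q;
      ringKrullDim (Localization.AtPrime q ⧸
          (maximalIdeal (Localization.AtPrime p)).map
            (algebraMap (Localization.AtPrime p) (Localization.AtPrime q))) +
        ringKrullDim (Localization.AtPrime p) ≤ ringKrullDim (Localization.AtPrime q)) :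
    let := Localization.AtPrime.algebraOfLiesOver p q;
    Module.Flat (Localization.AtPrime p) (Localization.AtPrime q) := by
  obtain ⟨Q, hQ⟩ : ∃ (Q : PrimeSpectrum (p.Fiber S)),
      Q.asIdeal.comap Algebra.TensorProduct.includeRight = q := by
    refine ⟨PrimeSpectrum.primesOverOrderIsoFiber R S p ⟨q, ⟨inferInstance, inferInstance⟩⟩, ?_⟩
    have h1 := (PrimeSpectrum.primesOverOrderIsoFiber R S p).symm_apply_apply
      ⟨q, ⟨inferInstance, inferInstance⟩⟩
    have h2 := PrimeSpectrum.coe_primesOverOrderIsoFiber_symm_apply (R := R) (S := S) (p := p)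
      (PrimeSpectrum.primesOverOrderIsoFiber R S p ⟨q, ⟨inferInstance, inferInstance⟩⟩)
    rw [h1] at h2
    exact h2.symm
  subst hQ
  have := Q.isPrime
  exact flat_of_regular_base_aux p Q.asIdeal n hfin hd hregR hdim

end Groth.Agent.Lib.Helper5.Jac
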