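import Mathlib
import Groth.Agent.Lib.Helper5.JacT
import Groth.Agent.Lib.lead.FibreStalkAlg

set_option autoImplicit false
set_option linter.style.haveILetI false
universe u

namespace Groth.Agent.Lib.Helper5.Jac

open TensorProduct Module AlgebraicGeometry CategoryTheory IsLocalRing
open Groth.Agent.Lib.Helper28.QCohLoc Groth.Agent.Lib.Helper29.QCohStalk
  Groth.Agent.Lib.Helper29.FreeIso

variable {X Y : Scheme.{u}}

theorem finrank_le_of_free_nhd (f : X ⟶ Y) [LocallyOfFinitePresentation f]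
    (Ω' : X.Modules) (d : OmegaSh.Der f Ω') (hd : OmegaSh.IsUniversal d) {U : X.Opens} {n : ℕ}
    (φ : Ω'.restrict U.ι ≅ FlatMod.freeMod (↑U) n)
    {D : X.Opens} (hD : IsAffineOpen D) {V : Y.Opens} (hV : IsAffineOpen V) (e : D ≤ f ⁻¹ᵁ V)
    (hDU : D ≤ U) (x : X) (hxD : x ∈ D) :
    (let := (f.appLE V D e).hom.toAlgebra
     finrank (hD.primeIdealOf ⟨x, hxD⟩).asIdeal.ResidueField
        ((hD.primeIdealOf ⟨x, hxD⟩).asIdeal.ResidueField ⊗[Γ(X, D)] Ω[Γ(X, D)⁄Γ(Y, V)]) ≤ n) := by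
  obtain ⟨τ, hτ⟩ := exists_isBasisOn_of_iso Ω' U n φ
  have : Ω'.IsQuasicoherent := Groth.Agent.Lib.Helper19.RestrUniv.isQuasicoherent f d hd
  let := (f.appLE V D e).hom.toAlgebra
  obtain ⟨Φ, hΦ, -⟩ := Groth.Agent.Lib.Helper19.RestrUniv.exists_sections_equiv f d hd hD hV e
  let L : Γ(Ω', D) ≃ₗ[Γ(X, D)] Ω[Γ(X, D)⁄Γ(Y, V)] := { Φ with map_smul' := hΦ }
  apply finrank_le_of_local_span _ (fun j => L (res Ω' hDU (τ j)))
  intro t'
  obtain ⟨s, hs, hst⟩ := exists_smul_mem_span_of_isBasisOn Ω' τ hτ hD hDU x hxD (L.symm t')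
  refine ⟨s, hs, ?_⟩
  have h1 : s • t' = L (s • L.symm t') := by rw [map_smul, L.apply_symm_apply]
  rw [h1]
  have h2 := Submodule.mem_map_of_mem (f := L.toLinearMap) hst
  rw [Submodule.map_span, ← Set.range_comp] at h2
  exact h2

theorem fibreDimAt_spec_appLE (f : X ⟶ Y) [LocallyOfFiniteType f]
    {D : X.Opens} (hD : IsAffineOpen D) {V : Y.Opens} (hV : IsAffineOpen V) (e : D ≤ f ⁻¹ᵁ V)
    (x : X) (hxD : x ∈ D) :
    FlatMor.fibreDimAt (Spec.map (f.appLE V D e)) (hD.primeIdealOf ⟨x, hxD⟩) =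
      FlatMor.fibreDimAt f x := by
  have comm := IsAffineOpen.SpecMap_appLE_fromSpec f hV hD e
  have hft : (f.appLE V D e).hom.FiniteType :=
    HasRingHomProperty.appLE (P := @LocallyOfFiniteType) f inferInstance ⟨V, hV⟩ ⟨D, hD⟩ e
  have : LocallyOfFiniteType (Spec.map (f.appLE V D e)) := by
    rw [HasRingHomProperty.Spec_iff (P := @LocallyOfFiniteType)]
    exact hft
  have h3 := Groth.Agent.Lib.Helper18.Chev.fibreDimAt_eq_of_openImmersion_square _ hV.fromSpec
    hD.fromSpec f comm (hD.primeIdealOf ⟨x, hxD⟩)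
  rw [hD.fromSpec_primeIdealOf ⟨x, hxD⟩] at h3
  exact h3.symm

theorem flat_stalkMap_of_regular_base (f : X ⟶ Y) [IsLocallyNoetherian Y]
    [LocallyOfFinitePresentation f]
    (Ω' : X.Modules) (d : OmegaSh.Der f Ω') (hd : OmegaSh.IsUniversal d) (x : X)
    (hregx : IsRegularLocalRing (Y.presheaf.stalk (f x)))
    (hdim : ringKrullDim (X.presheaf.stalk x) =
      ringKrullDim ((f.fiber (f x)).presheaf.stalk (f.asFiber x)) +
        ringKrullDim (Y.presheaf.stalk (f x)))
    (U : X.Opens) (n : ℕ) (hxU : x ∈ U) (φ : Ω'.restrict U.ι ≅ FlatMod.freeMod (↑U) n)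
    (hfd : FlatMor.fibreDimAt f x = (n : WithBot ℕ∞)) :
    (f.stalkMap x).hom.Flat := by
  obtain ⟨_, ⟨V, hV, rfl⟩, hxV, -⟩ :=
    Y.isBasis_affineOpens.exists_subset_of_mem_open (Set.mem_univ (f x)) isOpen_univ
  obtain ⟨_, ⟨D, hD, rfl⟩, hxD, hDsub⟩ :=
    X.isBasis_affineOpens.exists_subset_of_mem_open
      (show x ∈ ((U ⊓ f ⁻¹ᵁ V : X.Opens) : Set X) from ⟨hxU, hxV⟩) (U ⊓ f ⁻¹ᵁ V).2
  have hDU : D ≤ U := fun y hy => (hDsub hy).1
  have e : D ≤ f ⁻¹ᵁ V := fun y hy => (hDsub hy).2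
  replace hV : IsAffineOpen V := hV
  replace hD : IsAffineOpen D := hD
  have hfr := finrank_le_of_free_nhd f Ω' d hd φ hD hV e hDU x hxD
  let := (f.appLE V D e).hom.toAlgebra
  have hfp : Algebra.FinitePresentation Γ(Y, V) Γ(X, D) :=
    f.finitePresentation_appLE hV hD e
  have : IsNoetherianRing Γ(Y, V) := IsLocallyNoetherian.component_noetherian ⟨V, hV⟩
  have : IsNoetherianRing Γ(X, D) := Algebra.FiniteType.isNoetherianRing Γ(Y, V) Γ(X, D)
  have hd' : FlatMor.fibreDimAt (Spec.map (CommRingCat.ofHom (algebraMap Γ(Y, V) Γ(X, D))))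
      (⟨(hD.primeIdealOf ⟨x, hxD⟩).asIdeal, inferInstance⟩ : PrimeSpectrum Γ(X, D)) =
        (n : WithBot ℕ∞) := by
    rw [← hfd]
    exact fibreDimAt_spec_appLE f hD hV e x hxD
  let p := (hV.primeIdealOf ⟨f x, e hxD⟩).asIdeal
  let q := (hD.primeIdealOf ⟨x, hxD⟩).asIdeal
  have : q.LiesOver p :=
    ⟨congr($(IsAffineOpen.comap_primeIdealOf_appLE V hV D hD e hxD).1).symm⟩
  let := Localization.AtPrime.algebraOfLiesOver p q
  let iso := IsAffineOpen.arrowStalkMapIso f V hV D hD e hxD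
  let eA : Y.presheaf.stalk (f x) ≃+* Localization.AtPrime p :=
    (Arrow.leftFunc.mapIso iso).commRingCatIsoToRingEquiv
  let eB : X.presheaf.stalk x ≃+* Localization.AtPrime q :=
    (Arrow.rightFunc.mapIso iso).commRingCatIsoToRingEquiv
  have hw : (eB : X.presheaf.stalk x →+* Localization.AtPrime q).comp (f.stalkMap x).hom =
      (algebraMap (Localization.AtPrime p) (Localization.AtPrime q)).comp
        (eA : Y.presheaf.stalk (f x) →+* Localization.AtPrime p) := by
    have := iso.hom.w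
    exact congrArg CommRingCat.Hom.hom this.symm
  have hregR : IsRegularLocalRing (Localization.AtPrime p) :=
    IsRegularLocalRing.of_ringEquiv eA
  obtain ⟨eF, -⟩ := Groth.Agent.Lib.lead.FibreStalkAlg.exists_ringEquiv f x
  have hJ : (maximalIdeal (Localization.AtPrime p)).map
      (algebraMap (Localization.AtPrime p) (Localization.AtPrime q)) =
      ((maximalIdeal (Y.presheaf.stalk (f x))).map (f.stalkMap x).hom).map
        (eB : X.presheaf.stalk x →+* Localization.AtPrime q) := by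
    have hm : (maximalIdeal (Y.presheaf.stalk (f x))).map
        (eA : Y.presheaf.stalk (f x) →+* Localization.AtPrime p) =
        maximalIdeal (Localization.AtPrime p) := IsLocalRing.map_ringEquiv_maximalIdeal eA
    rw [Ideal.map_map, hw, ← Ideal.map_map, hm]
  let eQ := Ideal.quotientEquiv _ _ eB hJ
  have hdim' : ringKrullDim (Localization.AtPrime q ⧸
          (maximalIdeal (Localization.AtPrime p)).map
            (algebraMap (Localization.AtPrime p) (Localization.AtPrime q))) +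
        ringKrullDim (Localization.AtPrime p) ≤ ringKrullDim (Localization.AtPrime q) := by
    rw [← ringKrullDim_eq_of_ringEquiv eQ, ringKrullDim_eq_of_ringEquiv eF,
      ← ringKrullDim_eq_of_ringEquiv eA, ← ringKrullDim_eq_of_ringEquiv eB, hdim]
  have hflat := flat_of_regular_base p q n hfr hd' hregR hdim'
  rw [← RingHom.flat_algebraMap_iff] at hflat
  exact (RingHom.Flat.respectsIso.arrow_mk_iso_iff iso).mpr hflat

end Groth.Agent.Lib.Helper5.Jac
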