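import Mathlib
import Groth.Agent.Lib.Helper5.JacL

set_option autoImplicit false
set_option linter.style.haveILetI false
universe u

namespace Groth.Agent.Lib.Helper5.Jac

open TensorProduct Module IsLocalRing

theorem formallySmooth_of_injective_mapBaseChange (R S T : Type u) [CommRing R] [CommRing S]
    [CommRing T] [Algebra R S] [Algebra R T] [Algebra S T] [IsScalarTower R S T]
    [Algebra.FormallySmooth R T] [Module.Projective T Ω[T⁄S]]
    (hinj : Function.Injective (KaehlerDifferential.mapBaseChange R S T)) :
    Algebra.FormallySmooth S T := by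
  refine ⟨inferInstance, ?_⟩
  suffices h : ∀ x : Algebra.H1Cotangent S T, x = 0 from
    ⟨fun x y => (h x).trans (h y).symm⟩
  intro x
  have h1 : Algebra.H1Cotangent.δ R S T x = 0 := by
    apply hinj
    rw [map_zero]
    exact (Algebra.H1Cotangent.exact_δ_mapBaseChange R S T).apply_apply_eq_zero x
  obtain ⟨y, rfl⟩ := (Algebra.H1Cotangent.exact_map_δ R S T _).mp h1
  rw [Subsingleton.elim y 0, map_zero]

theorem finrank_kaehler_atPrime {A B : Type u} [CommRing A] [CommRing B] [Algebra A B]
    (q : Ideal B) [q.IsPrime]
    [Module.Free (Localization.AtPrime q) Ω[Localization.AtPrime q⁄A]] :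
    finrank (Localization.AtPrime q) Ω[Localization.AtPrime q⁄A] =
      finrank q.ResidueField (q.ResidueField ⊗[B] Ω[B⁄A]) := by
  have : Algebra.FormallyEtale B (Localization.AtPrime q) :=
    Algebra.FormallyEtale.of_isLocalization q.primeCompl
  have hbc := KaehlerDifferential.isBaseChange_of_formallyEtale A B (Localization.AtPrime q)
  have h1 := finrank_residueField_of_isBaseChange _ hbc (maximalIdeal (Localization.AtPrime q)) q
    (Localization.AtPrime.comap_maximalIdeal (I := q)).symm
  rw [← h1, Module.finrank_baseChange]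

theorem isSmoothAt_of_tower {A B C : Type u} [CommRing A] [CommRing B] [CommRing C]
    [Algebra A B] [Algebra A C] [Algebra B C] [IsScalarTower A B C]
    [Algebra.FiniteType A B] [Algebra.FiniteType A C]
    [Algebra.FormallyUnramified B C]
    (r : Ideal C) [r.IsPrime] (q : Ideal B) [q.IsPrime] [r.LiesOver q]
    (hq : Algebra.IsSmoothAt A q) (hr : Algebra.IsSmoothAt A r)
    (hrank : finrank q.ResidueField (q.ResidueField ⊗[B] Ω[B⁄A]) =
      finrank r.ResidueField (r.ResidueField ⊗[C] Ω[C⁄A])) :
    Algebra.IsSmoothAt B r := by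
  let Bq := Localization.AtPrime q
  let Cr := Localization.AtPrime r
  let := Localization.AtPrime.algebraOfLiesOver q r
  have : IsScalarTower B Bq Cr := inferInstance
  have : IsScalarTower A Bq Cr := IsScalarTower.of_algebraMap_eq fun a => by
    rw [IsScalarTower.algebraMap_apply A C Cr, IsScalarTower.algebraMap_apply A B C,
      IsScalarTower.algebraMap_apply A B Bq, ← IsScalarTower.algebraMap_apply B C Cr,
      ← IsScalarTower.algebraMap_apply B Bq Cr]
  have : Algebra.FormallySmooth A Bq := hq
  have : Algebra.FormallySmooth A Cr := hr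
  have : Algebra.FormallyUnramified C Cr := Algebra.FormallyUnramified.of_isLocalization r.primeCompl
  have : Algebra.FormallyUnramified B Cr := Algebra.FormallyUnramified.comp B C Cr
  have : Algebra.FormallyUnramified Bq Cr :=
    Algebra.FormallyUnramified.localization_base q.primeCompl
  have : Subsingleton Ω[Cr⁄Bq] := inferInstance
  have hsurj : Function.Surjective (KaehlerDifferential.mapBaseChange A Bq Cr) := by
    intro y
    exact (KaehlerDifferential.exact_mapBaseChange_map A Bq Cr y).mp (Subsingleton.elim _ _)
  have : Algebra.EssFiniteType B Bq := Algebra.EssFiniteType.of_isLocalization _ q.primeCompl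
  have : Algebra.EssFiniteType A Bq := Algebra.EssFiniteType.comp A B Bq
  have : Algebra.EssFiniteType C Cr := Algebra.EssFiniteType.of_isLocalization _ r.primeCompl
  have : Algebra.EssFiniteType A Cr := Algebra.EssFiniteType.comp A C Cr
  have : Module.Free Bq Ω[Bq⁄A] := Module.free_of_flat_of_isLocalRing
  have : Module.Free Cr Ω[Cr⁄A] := Module.free_of_flat_of_isLocalRing
  have hfr : finrank Cr (Cr ⊗[Bq] Ω[Bq⁄A]) = finrank Cr Ω[Cr⁄A] := by
    rw [Module.finrank_baseChange, finrank_kaehler_atPrime q, finrank_kaehler_atPrime r, hrank]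
  let i : (Cr ⊗[Bq] Ω[Bq⁄A]) ≃ₗ[Cr] Ω[Cr⁄A] := LinearEquiv.ofFinrankEq _ _ hfr
  have hinj : Function.Injective (KaehlerDifferential.mapBaseChange A Bq Cr) :=
    OrzechProperty.injective_of_surjective_of_injective i.toLinearMap _ i.injective hsurj
  have : Module.Projective Cr Ω[Cr⁄Bq] := Module.Projective.of_free
  have : Algebra.FormallySmooth Bq Cr := formallySmooth_of_injective_mapBaseChange A Bq Cr hinj
  have : Algebra.FormallySmooth B Bq := Algebra.FormallySmooth.of_isLocalization q.primeCompl
  exact Algebra.FormallySmooth.comp B Bq Cr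

end Groth.Agent.Lib.Helper5.Jac
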