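import Mathlib
import Groth.Agent.Lib.Helper5.JacU
import Groth.Agent.Lib.Helper5.JacV
import Groth.Agent.Lib.Helper9.LfpLift

set_option autoImplicit false
set_option linter.style.haveILetI false
universe u

namespace Groth.Agent.Lib.Helper5.Jac

open TensorProduct Module AlgebraicGeometry CategoryTheory IsLocalRing

theorem finrank_eq_fibreDimAt_of_isSmoothAt {R S : Type u} [CommRing R] [CommRing S]
    [Algebra R S] [Algebra.FinitePresentation R S] (q : Ideal S) [q.IsPrime]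
    (hsm : Algebra.IsSmoothAt R q) :
    ((finrank q.ResidueField (q.ResidueField ⊗[S] Ω[S⁄R]) : ℕ∞) : WithBot ℕ∞) =
      FlatMor.fibreDimAt (Spec.map (CommRingCat.ofHom (algebraMap R S)))
        (⟨q, inferInstance⟩ : PrimeSpectrum S) := by
  obtain ⟨p, hp, Q, hQ⟩ : ∃ (p : Ideal R) (_ : p.IsPrime) (Q : PrimeSpectrum (p.Fiber S)),
      Q.asIdeal.comap Algebra.TensorProduct.includeRight = q := by
    refine ⟨q.under R, inferInstance,
      PrimeSpectrum.primesOverOrderIsoFiber R S (q.under R) ⟨q, ⟨inferInstance, ⟨rfl⟩⟩⟩, ?_⟩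
    have h1 := (PrimeSpectrum.primesOverOrderIsoFiber R S (q.under R)).symm_apply_apply
      ⟨q, ⟨inferInstance, ⟨rfl⟩⟩⟩
    have h2 := PrimeSpectrum.coe_primesOverOrderIsoFiber_symm_apply (R := R) (S := S)
      (p := q.under R)
      (PrimeSpectrum.primesOverOrderIsoFiber R S (q.under R) ⟨q, ⟨inferInstance, ⟨rfl⟩⟩⟩)
    rw [h1] at h2
    exact h2.symm
  subst hQ
  have := Q.isPrime
  have h1 := isSmoothAt_fiber_of_isSmoothAt p Q.asIdeal hsm
  have : Algebra.FiniteType p.ResidueField (p.Fiber S) := inferInstance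
  have h2 := finrank_eq_localDim_of_isSmoothAt Q.asIdeal h1
  rw [finrank_kaehler_fiber, localDim_fiber_eq_fibreDimAt] at h2
  exact h2

variable {X Y S : Scheme.{u}}

theorem finrank_eq_fibreDimAt_of_mem_smoothLocus (f : X ⟶ S) [LocallyOfFinitePresentation f]
    {D : X.Opens} (hD : IsAffineOpen D) {V : S.Opens} (hV : IsAffineOpen V) (e : D ≤ f ⁻¹ᵁ V)
    (x : X) (hxD : x ∈ D) (hx : x ∈ f.smoothLocus) :
    (let := (f.appLE V D e).hom.toAlgebra
     ((finrank (hD.primeIdealOf ⟨x, hxD⟩).asIdeal.ResidueField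
        ((hD.primeIdealOf ⟨x, hxD⟩).asIdeal.ResidueField ⊗[Γ(X, D)] Ω[Γ(X, D)⁄Γ(S, V)]) : ℕ∞) :
          WithBot ℕ∞) = FlatMor.fibreDimAt f x) := by
  let := (f.appLE V D e).hom.toAlgebra
  have hfp : Algebra.FinitePresentation Γ(S, V) Γ(X, D) :=
    f.finitePresentation_appLE hV hD e
  rw [Scheme.Hom.mem_smoothLocus, formallySmooth_stalkMap_iff V hV D hD e hxD] at hx
  have h1 := finrank_eq_fibreDimAt_of_isSmoothAt (R := Γ(S, V))
    (hD.primeIdealOf ⟨x, hxD⟩).asIdeal hx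
  exact h1.trans (fibreDimAt_spec_appLE f hD hV e x hxD)

theorem isOpenImmersion_iff_mono_and_fibreDimAt_eq (f : Y ⟶ S) (h : X ⟶ S)
    [Smooth f] [Smooth h] (g : X ⟶ Y) (w : g ≫ f = h) :
    IsOpenImmersion g ↔
      Mono g ∧ ∀ x : X, FlatMor.fibreDimAt f (g x) = FlatMor.fibreDimAt h x := by
  subst w
  constructor
  · intro hg
    refine ⟨inferInstance, fun x => ?_⟩
    exact Groth.Agent.Lib.Helper18.Chev.fibreDimAt_eq_of_openImmersion_square (g ≫ f) (𝟙 S) g f
      (by simp) x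
  · rintro ⟨hmono, hdim⟩
    have : LocallyOfFinitePresentation g :=
      Groth.Agent.Lib.Helper9.LfpLift.locallyOfFinitePresentation_of_comp g f
    have : FormallyUnramified g := inferInstance
    suffices hsm : Smooth g from IsOpenImmersion.of_flat_of_mono g
    rw [← Scheme.Hom.smoothLocus_eq_top_iff, eq_top_iff]
    intro x _
    obtain ⟨_, ⟨W, hW, rfl⟩, hxW, -⟩ :=
      S.isBasis_affineOpens.exists_subset_of_mem_open (Set.mem_univ (f (g x))) isOpen_univ
    obtain ⟨_, ⟨V, hV, rfl⟩, hxV, e₁⟩ :=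
      Y.isBasis_affineOpens.exists_subset_of_mem_open hxW (W.2.preimage f.continuous)
    obtain ⟨_, ⟨U, hU, rfl⟩, hxU, e₂⟩ :=
      X.isBasis_affineOpens.exists_subset_of_mem_open hxV (V.2.preimage g.continuous)
    replace hW : IsAffineOpen W := hW
    replace hV : IsAffineOpen V := hV
    replace hU : IsAffineOpen U := hU
    replace e₁ : V ≤ f ⁻¹ᵁ W := e₁
    replace e₂ : U ≤ g ⁻¹ᵁ V := e₂
    have e₃ : U ≤ (g ≫ f) ⁻¹ᵁ W := fun y hy => e₁ (e₂ hy)
    let algAB := (f.appLE W V e₁).hom.toAlgebra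
    let algBC := (g.appLE V U e₂).hom.toAlgebra
    let algAC := ((g ≫ f).appLE W U e₃).hom.toAlgebra
    have : IsScalarTower Γ(S, W) Γ(Y, V) Γ(X, U) := IsScalarTower.of_algebraMap_eq' (by
      have := Scheme.Hom.appLE_comp_appLE g f W V U e₁ e₂
      exact congrArg CommRingCat.Hom.hom this.symm)
    have : Algebra.FiniteType Γ(S, W) Γ(Y, V) := LocallyOfFiniteType.finiteType_appLE f hW hV e₁
    have : Algebra.FiniteType Γ(S, W) Γ(X, U) :=
      LocallyOfFiniteType.finiteType_appLE (g ≫ f) hW hU e₃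
    have : Algebra.FormallyUnramified Γ(Y, V) Γ(X, U) :=
      HasRingHomProperty.appLE (P := @FormallyUnramified) g inferInstance ⟨V, hV⟩ ⟨U, hU⟩ e₂
    let q := (hV.primeIdealOf ⟨g x, hxV⟩).asIdeal
    let r := (hU.primeIdealOf ⟨x, hxU⟩).asIdeal
    have : r.LiesOver q :=
      ⟨congr($(IsAffineOpen.comap_primeIdealOf_appLE V hV U hU e₂ hxU).1).symm⟩
    have hy : g x ∈ f.smoothLocus := by rw [Scheme.Hom.smoothLocus_eq_top]; trivial
    have hx' : x ∈ (g ≫ f).smoothLocus := by rw [Scheme.Hom.smoothLocus_eq_top]; trivial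
    have hq : Algebra.IsSmoothAt Γ(S, W) q := by
      rw [Scheme.Hom.mem_smoothLocus, formallySmooth_stalkMap_iff W hW V hV e₁ hxV] at hy
      exact hy
    have hr : Algebra.IsSmoothAt Γ(S, W) r := by
      rw [Scheme.Hom.mem_smoothLocus, formallySmooth_stalkMap_iff W hW U hU e₃ hxU] at hx'
      exact hx'
    have h1 := finrank_eq_fibreDimAt_of_mem_smoothLocus f hV hW e₁ (g x) hxV hy
    have h2 := finrank_eq_fibreDimAt_of_mem_smoothLocus (g ≫ f) hU hW e₃ x hxU hx'
    have hrank : finrank q.ResidueField (q.ResidueField ⊗[Γ(Y, V)] Ω[Γ(Y, V)⁄Γ(S, W)]) =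
        finrank r.ResidueField (r.ResidueField ⊗[Γ(X, U)] Ω[Γ(X, U)⁄Γ(S, W)]) := by
      have h3 := h1.trans ((hdim x).trans h2.symm)
      exact_mod_cast h3
    have hsmr := isSmoothAt_of_tower r q hq hr hrank
    rw [Scheme.Hom.mem_smoothLocus, formallySmooth_stalkMap_iff V hV U hU e₂ hxU]
    exact hsmr

end Groth.Agent.Lib.Helper5.Jac
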