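import Mathlib
import Groth.Agent.Lib.Helper5.JacL
import Groth.Agent.Lib.Helper5.JacC
import Groth.Agent.S1460

set_option autoImplicit false
set_option linter.style.haveILetI false
universe u

namespace Groth.Agent.Lib.Helper5.Jac

open TensorProduct Module AlgebraicGeometry CategoryTheory Topology

/-- the locus where the fibre rank of a finite module is at most `n` is open -/
theorem isOpen_setOf_finrank_le {R : Type u} [CommRing R] (M : Type u) [AddCommGroup M]
    [Module R M] [Module.Finite R M] (n : ℕ) :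
    IsOpen {q : PrimeSpectrum R |
      finrank q.asIdeal.ResidueField (q.asIdeal.ResidueField ⊗[R] M) ≤ n} := by
  have : {q : PrimeSpectrum R |
      finrank q.asIdeal.ResidueField (q.asIdeal.ResidueField ⊗[R] M) ≤ n} =
      (PrimeSpectrum.zeroLocus ((⋀[R]^(n + 1) M).annihilator : Set R))ᶜ := by
    ext q
    simp only [Set.mem_ofPred_eq, Set.mem_compl_iff, PrimeSpectrum.mem_zeroLocus,
      SetLike.coe_subset_coe]
    rw [annihilator_exteriorPower_le_iff (n + 1) q.asIdeal]
    omega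
  rw [this]
  exact (PrimeSpectrum.isClosed_zeroLocus _).isOpen_compl

theorem isConstructible_setOf_finrank_kaehler_le (A B : Type u) [CommRing A] [CommRing B]
    [Algebra A B] [Algebra.FinitePresentation A B] (n : ℕ) :
    IsConstructible {q : PrimeSpectrum B |
      finrank q.asIdeal.ResidueField (q.asIdeal.ResidueField ⊗[B] Ω[B⁄A]) ≤ n} := by
  obtain ⟨R₀, B₀, φ₀, ψ, ψ', hpo, hR₀, hφ₀⟩ := Groth.Agent.S1460.ring_case A B
  let : Algebra R₀ B₀ := φ₀.hom.toAlgebra
  let : Algebra R₀ A := ψ.hom.toAlgebra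
  let : Algebra B₀ B := ψ'.hom.toAlgebra
  let : Algebra R₀ B := ((algebraMap A B).comp ψ.hom).toAlgebra
  have : IsScalarTower R₀ A B := IsScalarTower.of_algebraMap_eq fun r => rfl
  have : IsScalarTower R₀ B₀ B := IsScalarTower.of_algebraMap_eq fun r => by
    have := congrArg (fun g => g.hom r) hpo.w
    exact this.symm
  have hpush : Algebra.IsPushout R₀ A B₀ B := by
    rw [← CommRingCat.isPushout_iff_isPushout]
    exact hpo.flip
  have : IsNoetherianRing R₀ := Algebra.FiniteType.isNoetherianRing ℤ R₀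
  have : Algebra.FiniteType R₀ B₀ := RingHom.finiteType_algebraMap.mp hφ₀
  have : IsNoetherianRing B₀ := Algebra.FiniteType.isNoetherianRing R₀ B₀
  let e : B ⊗[B₀] Ω[B₀⁄R₀] ≃ₗ[B] Ω[B⁄A] := KaehlerDifferential.tensorKaehlerEquiv R₀ A B₀ B
  have hbc : IsBaseChange B (e.toLinearMap.restrictScalars B₀ ∘ₗ
      TensorProduct.mk B₀ B Ω[B₀⁄R₀] 1) :=
    (TensorProduct.isBaseChange B₀ Ω[B₀⁄R₀] B).comp (IsBaseChange.ofEquiv e)
  have hset : {q : PrimeSpectrum B |
      finrank q.asIdeal.ResidueField (q.asIdeal.ResidueField ⊗[B] Ω[B⁄A]) ≤ n} =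
      PrimeSpectrum.comap (algebraMap B₀ B) ⁻¹' {q₀ : PrimeSpectrum B₀ |
        finrank q₀.asIdeal.ResidueField (q₀.asIdeal.ResidueField ⊗[B₀] Ω[B₀⁄R₀]) ≤ n} := by
    ext q
    simp only [Set.mem_ofPred_eq, Set.mem_preimage]
    rw [finrank_residueField_of_isBaseChange _ hbc q.asIdeal
      (PrimeSpectrum.comap (algebraMap B₀ B) q).asIdeal rfl]
  rw [hset]
  have hopen := isOpen_setOf_finrank_le (R := B₀) Ω[B₀⁄R₀] n
  have hcons : IsConstructible {q₀ : PrimeSpectrum B₀ |
        finrank q₀.asIdeal.ResidueField (q₀.asIdeal.ResidueField ⊗[B₀] Ω[B₀⁄R₀]) ≤ n} :=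
    (TopologicalSpace.NoetherianSpace.isCompact _).isConstructible hopen
  exact (Spec.map (CommRingCat.ofHom (algebraMap B₀ B))).isConstructible_preimage hcons

end Groth.Agent.Lib.Helper5.Jac
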