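import Mathlib
import Groth.Agent.Lib.Helper5.JacX

set_option autoImplicit false
set_option linter.style.haveILetI false
universe u

namespace Groth.Agent.Lib.Helper5.Jac

open TensorProduct Module AlgebraicGeometry CategoryTheory Topology Limits

/-- smooth locus of a morphism of affine schemes, ring-theoretically -/
theorem spec_mem_smoothLocus_iff {R T : Type u} [CommRing R] [CommRing T] [Algebra R T]
    [LocallyOfFinitePresentation (Spec.map (CommRingCat.ofHom (algebraMap R T)))]
    (Q : ↥(Spec (CommRingCat.of T))) :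
    Q ∈ (Spec.map (CommRingCat.ofHom (algebraMap R T))).smoothLocus ↔
      Algebra.IsSmoothAt R (Q : PrimeSpectrum T).asIdeal := by
  refine Scheme.Hom.mem_smoothLocus.trans ?_
  let Q' : PrimeSpectrum T := Q
  let p : Ideal R := Q'.asIdeal.under R
  have : Q'.asIdeal.LiesOver p := ⟨rfl⟩
  let := Localization.AtPrime.algebraOfLiesOver p Q'.asIdeal
  trans Algebra.FormallySmooth (Localization.AtPrime p) (Localization.AtPrime Q'.asIdeal)
  · rw [← RingHom.formallySmooth_algebraMap]
    exact RingHom.FormallySmooth.respectsIso.arrow_mk_iso_iff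
      (Scheme.arrowStalkMapSpecIso (CommRingCat.ofHom (algebraMap R T)) Q')
  · exact Algebra.FormallySmooth.iff_restrictScalars.symm

/-- post-composition with an isomorphism does not change the smooth locus -/
theorem smoothLocus_comp_iso {X Y Z : Scheme.{u}} (h : X ⟶ Y) (i : Y ⟶ Z) [IsIso i]
    [LocallyOfFinitePresentation h] [LocallyOfFinitePresentation (h ≫ i)] :
    (h ≫ i).smoothLocus = h.smoothLocus := by
  ext x
  refine Iff.trans ?_
    (RingHom.FormallySmooth.respectsIso.cancel_left_isIso (i.stalkMap (h x)) (h.stalkMap x))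
  rw [← CommRingCat.hom_comp, ← Scheme.Hom.stalkMap_comp]
  rfl

end Groth.Agent.Lib.Helper5.Jac

namespace Groth.Agent.Lib.Helper5.Jac

open TensorProduct Module AlgebraicGeometry CategoryTheory Topology Limits

theorem smoothLocus_congr {X Y : Scheme.{u}} {a b : X ⟶ Y} (hab : a = b)
    [LocallyOfFinitePresentation a] [LocallyOfFinitePresentation b] :
    a.smoothLocus = b.smoothLocus := by
  subst hab
  rfl

/-- the smooth locus is transported along an isomorphism of arrows -/
theorem mem_smoothLocus_iff_of_arrowIso {X Y X' Y' : Scheme.{u}} (a : X ⟶ Y) (b : X' ⟶ Y')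
    [LocallyOfFinitePresentation a] [LocallyOfFinitePresentation b]
    (ε : Arrow.mk a ≅ Arrow.mk b) (z : X) :
    z ∈ a.smoothLocus ↔ (ε.hom.left : X ⟶ X') z ∈ b.smoothLocus := by
  let l : X ⟶ X' := ε.hom.left
  let r : Y ⟶ Y' := ε.hom.right
  have hl : IsIso l := inferInstanceAs (IsIso ε.hom.left)
  have hr : IsIso r := inferInstanceAs (IsIso ε.hom.right)
  have hw : l ≫ b = a ≫ r := ε.hom.w
  have h1 : (a ≫ r).smoothLocus = a.smoothLocus := smoothLocus_comp_iso a r
  have h2 : l ⁻¹ᵁ b.smoothLocus = (l ≫ b).smoothLocus := Scheme.Hom.preimage_smoothLocus_eq l b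
  have h3 : (l ≫ b).smoothLocus = (a ≫ r).smoothLocus := smoothLocus_congr hw
  rw [← h1, ← h3, ← h2]
  rfl

/-- the smooth locus of the scheme-theoretic fibre of `Spec S ⟶ Spec R`, ring-theoretically -/
theorem spec_fiber_mem_smoothLocus_iff (R S : Type u) [CommRing R] [CommRing S] [Algebra R S]
    [Algebra.FinitePresentation R S] (p : PrimeSpectrum R)
    [LocallyOfFinitePresentation
      ((Spec.map (CommRingCat.ofHom (algebraMap R S))).fiberToSpecResidueField p)]
    (z : ↥((Spec.map (CommRingCat.ofHom (algebraMap R S))).fiber p)) :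
    z ∈ ((Spec.map (CommRingCat.ofHom (algebraMap R S))).fiberToSpecResidueField p).smoothLocus ↔
      Algebra.IsSmoothAt p.asIdeal.ResidueField
        (((Spec.fiberToSpecResidueFieldIso R S p).hom.left z :
          PrimeSpectrum (p.asIdeal.Fiber S))).asIdeal := by
  have hfp : LocallyOfFinitePresentation (Spec.map (CommRingCat.ofHom
      (algebraMap p.asIdeal.ResidueField (p.asIdeal.Fiber S)))) := by
    rw [HasRingHomProperty.Spec_iff (P := @LocallyOfFinitePresentation)]
    exact RingHom.finitePresentation_algebraMap.mpr inferInstance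
  rw [mem_smoothLocus_iff_of_arrowIso _ _ (Spec.fiberToSpecResidueFieldIso R S p) z]
  exact spec_mem_smoothLocus_iff _

end Groth.Agent.Lib.Helper5.Jac

namespace Groth.Agent.Lib.Helper5.Jac

open TensorProduct Module AlgebraicGeometry CategoryTheory Topology Limits

/-- the smooth locus of a fibre of `f`, computed on an affine chart -/
theorem fiber_mem_smoothLocus_iff_chart {X S : Scheme.{u}} (f : X ⟶ S)
    {D : X.Opens} (hD : IsAffineOpen D) {V : S.Opens} (hV : IsAffineOpen V) (e : D ≤ f ⁻¹ᵁ V)
    (p : ↥(Spec Γ(S, V))) (z : ↥((Spec.map (f.appLE V D e)).fiber p))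
    (s : S) (hs : hV.fromSpec p = s) (z' : ↥(f.fiber s))
    [LocallyOfFinitePresentation (f.fiberToSpecResidueField s)]
    [LocallyOfFinitePresentation ((Spec.map (f.appLE V D e)).fiberToSpecResidueField p)]
    (hz : f.fiberι s z' = hD.fromSpec ((Spec.map (f.appLE V D e)).fiberι p z)) :
    z' ∈ (f.fiberToSpecResidueField s).smoothLocus ↔
      z ∈ ((Spec.map (f.appLE V D e)).fiberToSpecResidueField p).smoothLocus := by
  subst hs
  have e₁ : Spec.map (f.appLE V D e) ≫ hV.fromSpec = hD.fromSpec ≫ f :=
    hV.SpecMap_appLE_fromSpec f hD e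
  have e₂ : (Spec Γ(S, V)).fromSpecResidueField p ≫ hV.fromSpec =
      Spec.map (hV.fromSpec.residueFieldMap p) ≫ S.fromSpecResidueField (hV.fromSpec p) :=
    (Scheme.Hom.SpecMap_residueFieldMap_fromSpecResidueField hV.fromSpec p).symm
  let J : (Spec.map (f.appLE V D e)).fiber p ⟶ f.fiber (hV.fromSpec p) :=
    pullback.map (Spec.map (f.appLE V D e)) ((Spec Γ(S, V)).fromSpecResidueField p) f
      (S.fromSpecResidueField (hV.fromSpec p)) hD.fromSpec
      (Spec.map (hV.fromSpec.residueFieldMap p)) hV.fromSpec e₁ e₂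
  have hi1 : IsOpenImmersion hV.fromSpec := inferInstance
  have hi2 : IsIso (hV.fromSpec.residueFieldMap p) := inferInstance
  have hi3 : IsIso (Spec.map (hV.fromSpec.residueFieldMap p)) := inferInstance
  have hi4 : IsOpenImmersion hD.fromSpec := inferInstance
  have hJo : IsOpenImmersion J := Scheme.pullback_map_isOpenImmersion _ _ _ _ _ _ _ e₁ e₂
  have hJ1 : J ≫ f.fiberι (hV.fromSpec p) =
      (Spec.map (f.appLE V D e)).fiberι p ≫ hD.fromSpec := pullback.lift_fst _ _ _
  have hJ2 : J ≫ f.fiberToSpecResidueField (hV.fromSpec p) =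
      (Spec.map (f.appLE V D e)).fiberToSpecResidueField p ≫
        Spec.map (hV.fromSpec.residueFieldMap p) := pullback.lift_snd _ _ _
  have hzJ : z' = J z := by
    apply (f.fiberι (hV.fromSpec p)).isEmbedding.injective
    rw [hz, ← Scheme.Hom.comp_apply, ← Scheme.Hom.comp_apply, hJ1]
  rw [hzJ]
  have h2 : J ⁻¹ᵁ (f.fiberToSpecResidueField (hV.fromSpec p)).smoothLocus =
      (J ≫ f.fiberToSpecResidueField (hV.fromSpec p)).smoothLocus :=
    Scheme.Hom.preimage_smoothLocus_eq J _
  have h3 : (J ≫ f.fiberToSpecResidueField (hV.fromSpec p)).smoothLocus =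
      ((Spec.map (f.appLE V D e)).fiberToSpecResidueField p ≫
        Spec.map (hV.fromSpec.residueFieldMap p)).smoothLocus := smoothLocus_congr hJ2
  have h4 := smoothLocus_comp_iso ((Spec.map (f.appLE V D e)).fiberToSpecResidueField p)
    (Spec.map (hV.fromSpec.residueFieldMap p))
  rw [← h4, ← h3, ← h2]
  rfl

end Groth.Agent.Lib.Helper5.Jac
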