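import Mathlib
import Groth.Agent.Lib.Helper5.JacY
import Groth.Agent.Lib.Helper5.JacP
import Groth.Agent.Lib.Helper5.JacU

set_option autoImplicit false
set_option linter.style.haveILetI false
universe u

namespace Groth.Agent.Lib.Helper5.Jac

open TensorProduct Module AlgebraicGeometry CategoryTheory Topology Limits

/-- smoothness of the fibre at a point, in terms of the rank of differentials and the fibre
dimension -/
theorem isSmoothAt_fiber_iff_finrank_le {R S : Type u} [CommRing R] [CommRing S] [Algebra R S]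
    [Algebra.FinitePresentation R S] (p : Ideal R) [p.IsPrime]
    (Q : Ideal (p.Fiber S)) [Q.IsPrime] (d : ℕ)
    (hd : FlatMor.fibreDimAt (Spec.map (CommRingCat.ofHom (algebraMap R S)))
        (⟨Q.comap Algebra.TensorProduct.includeRight, inferInstance⟩ : PrimeSpectrum S) =
          (d : WithBot ℕ∞)) :
    Algebra.IsSmoothAt p.ResidueField Q ↔
      finrank (Q.comap Algebra.TensorProduct.includeRight).ResidueField
        ((Q.comap Algebra.TensorProduct.includeRight).ResidueField ⊗[S] Ω[S⁄R]) ≤ d := by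
  have hloc := localDim_fiber_eq_fibreDimAt p Q
  rw [hd] at hloc
  have : Algebra.FiniteType p.ResidueField (p.Fiber S) := inferInstance
  constructor
  · intro h1
    have h2 := finrank_eq_localDim_of_isSmoothAt Q h1
    rw [finrank_kaehler_fiber, hloc] at h2
    have h3 : finrank (Q.comap Algebra.TensorProduct.includeRight).ResidueField
        ((Q.comap Algebra.TensorProduct.includeRight).ResidueField ⊗[S] Ω[S⁄R]) = d := by
      exact_mod_cast h2
    exact h3.le
  · intro h
    apply isSmoothAt_of_finrank_le_localDim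
    rw [finrank_kaehler_fiber, hloc]
    exact_mod_cast h

end Groth.Agent.Lib.Helper5.Jac

namespace Groth.Agent.Lib.Helper5.Jac

open TensorProduct Module AlgebraicGeometry CategoryTheory Topology Limits

/-- the fibre through `x` is smooth at `x` iff the rank of the differentials at `x` is at most the
local fibre dimension, on an affine chart -/
theorem fiber_smooth_iff_finrank_le_of_chart {X S : Scheme.{u}} (f : X ⟶ S)
    [LocallyOfFinitePresentation f]
    [∀ s : S, LocallyOfFinitePresentation (f.fiberToSpecResidueField s)]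
    {D : X.Opens} (hD : IsAffineOpen D) {V : S.Opens} (hV : IsAffineOpen V) (e : D ≤ f ⁻¹ᵁ V)
    (x : X) (hx : x ∈ D) (d : ℕ) (hd : FlatMor.fibreDimAt f x = (d : WithBot ℕ∞)) :
    f.asFiber x ∈ (f.fiberToSpecResidueField (f x)).smoothLocus ↔
      (let := (f.appLE V D e).hom.toAlgebra
       finrank (hD.primeIdealOf ⟨x, hx⟩).asIdeal.ResidueField
          ((hD.primeIdealOf ⟨x, hx⟩).asIdeal.ResidueField ⊗[Γ(X, D)] Ω[Γ(X, D)⁄Γ(S, V)]) ≤ d) := by
  let := (f.appLE V D e).hom.toAlgebra
  have hfp : Algebra.FinitePresentation Γ(S, V) Γ(X, D) :=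
    f.finitePresentation_appLE hV hD e
  have hφ : Spec.map (CommRingCat.ofHom (algebraMap Γ(S, V) Γ(X, D))) =
      Spec.map (f.appLE V D e) := rfl
  have hlfp : LocallyOfFinitePresentation (Spec.map (f.appLE V D e)) := by
    rw [HasRingHomProperty.Spec_iff (P := @LocallyOfFinitePresentation)]
    exact RingHom.finitePresentation_algebraMap.mpr hfp
  let q : ↥(Spec Γ(X, D)) := hD.primeIdealOf ⟨x, hx⟩
  have hq : hD.fromSpec q = x := hD.fromSpec_primeIdealOf ⟨x, hx⟩
  let p : ↥(Spec Γ(S, V)) := (Spec.map (f.appLE V D e)) q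
  let z : ↥((Spec.map (f.appLE V D e)).fiber p) := (Spec.map (f.appLE V D e)).asFiber q
  have e₁ : Spec.map (f.appLE V D e) ≫ hV.fromSpec = hD.fromSpec ≫ f :=
    hV.SpecMap_appLE_fromSpec f hD e
  have hs : hV.fromSpec p = f x := by
    rw [← Scheme.Hom.comp_apply, e₁, Scheme.Hom.comp_apply, hq]
  have hlfp' : LocallyOfFinitePresentation
      ((Spec.map (f.appLE V D e)).fiberToSpecResidueField p) :=
    MorphismProperty.pullback_snd _ _ inferInstance
  have hz : f.fiberι (f x) (f.asFiber x) =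
      hD.fromSpec ((Spec.map (f.appLE V D e)).fiberι p z) := by
    rw [Scheme.Hom.fiberι_asFiber, Scheme.Hom.fiberι_asFiber, hq]
  rw [fiber_mem_smoothLocus_iff_chart f hD hV e p z (f x) hs (f.asFiber x) hz]
  have h1 := spec_fiber_mem_smoothLocus_iff Γ(S, V) Γ(X, D) p z
  refine h1.trans ?_
  set Q : PrimeSpectrum ((p : PrimeSpectrum Γ(S, V)).asIdeal.Fiber Γ(X, D)) :=
    (Spec.fiberToSpecResidueFieldIso Γ(S, V) Γ(X, D) p).hom.left z with hQdef
  have hQ : Q.asIdeal.comap Algebra.TensorProduct.includeRight =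
      (q : PrimeSpectrum Γ(X, D)).asIdeal := by
    have h2 := Groth.Agent.Lib.lead.FibreRingDim.fiberIso_hom_comp Γ(S, V) Γ(X, D) p
    have h3 : ((Spec.fiberToSpecResidueFieldIso Γ(S, V) Γ(X, D) p).hom.left ≫
      Spec.map (CommRingCat.ofHom (Algebra.TensorProduct.includeRight.toRingHom :
        Γ(X, D) →+* (p : PrimeSpectrum Γ(S, V)).asIdeal.Fiber Γ(X, D)))) z =
      (Spec.map (CommRingCat.ofHom (algebraMap Γ(S, V) Γ(X, D)))).fiberι p z := by rw [h2]
    rw [Scheme.Hom.comp_apply] at h3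
    have h4 : (Spec.map (CommRingCat.ofHom (algebraMap Γ(S, V) Γ(X, D)))).fiberι p z = q :=
      Scheme.Hom.fiberι_asFiber _ q
    rw [h4] at h3
    exact congrArg PrimeSpectrum.asIdeal h3
  have hd' : FlatMor.fibreDimAt (Spec.map (CommRingCat.ofHom (algebraMap Γ(S, V) Γ(X, D))))
      (⟨Q.asIdeal.comap Algebra.TensorProduct.includeRight, inferInstance⟩ :
        PrimeSpectrum Γ(X, D)) = (d : WithBot ℕ∞) := by
    rw [← hd, ← fibreDimAt_spec_appLE f hD hV e x hx]
    congr 1
    exact PrimeSpectrum.ext hQ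
  have h5 := isSmoothAt_fiber_iff_finrank_le (p : PrimeSpectrum Γ(S, V)).asIdeal Q.asIdeal d hd'
  refine h5.trans ?_
  have key : ∀ (q1 q2 : Ideal Γ(X, D)) [q1.IsPrime] [q2.IsPrime], q1 = q2 →
      finrank q1.ResidueField (q1.ResidueField ⊗[Γ(X, D)] Ω[Γ(X, D)⁄Γ(S, V)]) =
        finrank q2.ResidueField (q2.ResidueField ⊗[Γ(X, D)] Ω[Γ(X, D)⁄Γ(S, V)]) := by
    intro q1 q2 _ _ h12
    subst h12
    rfl
  rw [key _ _ hQ]

end Groth.Agent.Lib.Helper5.Jac
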