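import Mathlib

set_option autoImplicit false
universe u

namespace Groth.Agent.Lib.Helper5.JacZar

open TensorProduct KaehlerDifferential

section setup

variable {R₀ B P A : Type u} [CommRing R₀] [CommRing B] [CommRing P] [CommRing A]
  [Algebra R₀ B] [Algebra R₀ P] [Algebra B P] [IsScalarTower R₀ B P]
  [Algebra R₀ A] [Algebra P A] [IsScalarTower R₀ P A]

/-- the extension `P → A` attached to a surjection. -/
@[reducible] noncomputable def ext (hsurj : Function.Surjective (algebraMap P A)) : Algebra.Extension.{u} R₀ A where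
  Ring := P
  σ := Function.surjInv hsurj
  algebraMap_σ := Function.surjInv_eq hsurj

variable (R₀) in
/-- extension of a derivation of `B` to a linear functional on the differentials of a
localization `P` of `B`. -/
noncomputable def locFunctional (q : Ideal B) [q.IsPrime] [IsLocalization.AtPrime P q]
    (D : Derivation R₀ B B) : Ω[P⁄R₀] →ₗ[P] P :=
  have : Algebra.FormallyEtale B P := Algebra.FormallyEtale.of_isLocalization (Rₘ := P) q.primeCompl
  (LinearMap.liftBaseChange P ((Algebra.linearMap B P) ∘ₗ D.liftKaehlerDifferential)) ∘ₗ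
    (tensorKaehlerEquivOfFormallyEtale R₀ B P).symm.toLinearMap

theorem locFunctional_D (q : Ideal B) [q.IsPrime] [IsLocalization.AtPrime P q]
    (D : Derivation R₀ B B) (b : B) :
    locFunctional R₀ q D (KaehlerDifferential.D R₀ P (algebraMap B P b)) = algebraMap B P (D b) := by
  have : Algebra.FormallyEtale B P := Algebra.FormallyEtale.of_isLocalization (Rₘ := P) q.primeCompl
  simp only [locFunctional, LinearMap.coe_comp, LinearEquiv.coe_coe, Function.comp_apply]
  rw [tensorKaehlerEquivOfFormallyEtale_symm_D_algebraMap]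
  simp


theorem smooth_of_jac [Algebra.FormallySmooth R₀ P] (q : Ideal B) [q.IsPrime]
    [IsLocalization.AtPrime P q]
    (J : Ideal B) (hsurj : Function.Surjective (algebraMap P A))
    (hker : RingHom.ker (algebraMap P A) = J.map (algebraMap B P))
    (m : ℕ) (f : Fin m → B) (D : Fin m → Derivation R₀ B B)
    (h2 : J.map (algebraMap B P) = Ideal.span (Set.range fun i => algebraMap B P (f i)))
    (h3 : Matrix.det (Matrix.of fun i j => D j (f i)) ∉ q) :
    Algebra.FormallySmooth R₀ A := by
  let E := ext (R₀ := R₀) hsurj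
  have hE : Algebra.FormallySmooth R₀ E.Ring := ‹_›
  rw [Algebra.Extension.formallySmooth_iff_split_injection E]
  let M : Matrix (Fin m) (Fin m) B := Matrix.of fun i j => D j (f i)
  let M' : Matrix (Fin m) (Fin m) P := M.map (algebraMap B P)
  have hdet : IsUnit M'.det := by
    have : M'.det = algebraMap B P M.det := (RingHom.map_det _ _).symm
    rw [this]
    exact IsLocalization.map_units P (⟨M.det, h3⟩ : q.primeCompl)
  have hMN : M' * M'⁻¹ = 1 := Matrix.mul_nonsing_inv _ hdet
  let φ : Fin m → (Ω[P⁄R₀] →ₗ[P] P) := fun j => locFunctional R₀ q (D j)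
  let c : Fin m → (Ω[P⁄R₀] →ₗ[P] P) := fun i => ∑ j, (M'⁻¹ j i) • φ j
  have hc : ∀ i i', c i (KaehlerDifferential.D R₀ P (algebraMap B P (f i'))) =
      if i' = i then 1 else 0 := by
    intro i i'
    simp only [c, φ, LinearMap.sum_apply, LinearMap.smul_apply, locFunctional_D, smul_eq_mul]
    have := congrFun (congrFun hMN i') i
    rw [Matrix.mul_apply, Matrix.one_apply] at this
    rw [← this]
    apply Finset.sum_congr rfl
    intro j _
    simp [M', M, mul_comm]
  have hmem : ∀ i, algebraMap B P (f i) ∈ E.ker := by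
    intro i
    change _ ∈ RingHom.ker (algebraMap P A)
    rw [hker, h2]
    exact Ideal.subset_span ⟨i, rfl⟩
  let g : Fin m → E.Cotangent := fun i =>
    Algebra.Extension.Cotangent.mk ⟨algebraMap B P (f i), hmem i⟩
  let l₀ : Ω[P⁄R₀] →ₗ[P] E.Cotangent := ∑ i, (c i).smulRight (g i)
  refine ⟨LinearMap.liftBaseChange A l₀, ?_⟩
  have hspan : Submodule.span A (Set.range g) = ⊤ :=
    Algebra.Extension.Cotangent.span_eq_top_of_span_eq_ker (P := E)
      (fun i => algebraMap B P (f i)) (h2.symm.trans hker.symm)
  apply LinearMap.ext_on_range hspan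
  intro i'
  simp only [LinearMap.comp_apply, LinearMap.id_apply]
  rw [Algebra.Extension.cotangentComplex_mk]
  rw [LinearMap.liftBaseChange_one_tmul]
  simp only [l₀, LinearMap.sum_apply, LinearMap.smulRight_apply]
  rw [Finset.sum_eq_single i']
  · rw [hc]; simp
  · intro i _ hne
    rw [hc, if_neg (Ne.symm hne), zero_smul]
  · intro h; exact absurd (Finset.mem_univ _) h

end setup

end Groth.Agent.Lib.Helper5.JacZar
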