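import Groth.Agent.Lib.Helper5.JacZarA
import Mathlib

set_option autoImplicit false
universe u

namespace Groth.Agent.Lib.Helper5.JacZar

open TensorProduct KaehlerDifferential

section setup

variable {R₀ B P A : Type u} [CommRing R₀] [CommRing B] [CommRing P] [CommRing A]
  [Algebra R₀ B] [Algebra R₀ P] [Algebra B P] [IsScalarTower R₀ B P]
  [Algebra R₀ A] [Algebra P A] [IsScalarTower R₀ P A]

/-- first half: a basis of the conormal module coming from elements of `J`, with dual functionals. -/
theorem exists_basis_of_smooth [Algebra.FormallySmooth R₀ P] [IsNoetherianRing P] [IsLocalRing A]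
    (q : Ideal B) [q.IsPrime] [IsLocalization.AtPrime P q]
    (J : Ideal B) (hsurj : Function.Surjective (algebraMap P A))
    (hker : RingHom.ker (algebraMap P A) = J.map (algebraMap B P))
    (hsm : Algebra.FormallySmooth R₀ A) :
    ∃ (m : ℕ) (f : Fin m → B) (μ : Fin m → (Ω[P⁄R₀] →ₗ[P] P)),
      (∀ i, f i ∈ J) ∧
      J.map (algebraMap B P) = Ideal.span (Set.range fun i => algebraMap B P (f i)) ∧
      ∀ i i', algebraMap P A (μ i (KaehlerDifferential.D R₀ P (algebraMap B P (f i')))) =
        if i' = i then 1 else 0 := by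
  let E := ext (R₀ := R₀) hsurj
  have hE : Algebra.FormallySmooth R₀ E.Ring := ‹_›
  obtain ⟨l, hl⟩ := (Algebra.Extension.formallySmooth_iff_split_injection E).1 hsm
  have hfin : Module.Finite A E.Cotangent :=
    Algebra.Extension.Cotangent.finite (IsNoetherian.noetherian _)
  have hprojΩ : Module.Projective P Ω[P⁄R₀] := inferInstance
  have hprojT : Module.Projective A (A ⊗[P] Ω[P⁄R₀]) := inferInstance
  have hproj : Module.Projective A E.Cotangent :=
    Module.Projective.of_split E.cotangentComplex l hl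
  have hfree : Module.Free A E.Cotangent := Module.free_of_flat_of_isLocalRing
  let m := Module.finrank A E.Cotangent
  let b : Module.Basis (Fin m) A E.Cotangent := Module.finBasis A E.Cotangent
  have hlift : ∀ i, ∃ (fi : B) (si : q.primeCompl) (hmem : algebraMap B P fi ∈ E.ker), fi ∈ J ∧
      Algebra.Extension.Cotangent.mk ⟨algebraMap B P fi, hmem⟩ =
        algebraMap P A (algebraMap B P si) • b i := by
    intro i
    obtain ⟨x, hx⟩ := Algebra.Extension.Cotangent.mk_surjective (b i)
    have hxJ : (x : P) ∈ J.map (algebraMap B P) := by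
      rw [← hker]; exact x.2
    rw [IsLocalization.mem_map_algebraMap_iff q.primeCompl] at hxJ
    obtain ⟨⟨a, s⟩, has⟩ := hxJ
    have hmem : algebraMap B P a ∈ E.ker := by
      change _ ∈ RingHom.ker (algebraMap P A)
      rw [hker]
      exact Ideal.mem_map_of_mem _ a.2
    refine ⟨a, s, hmem, a.2, ?_⟩
    rw [algebraMap_smul, ← hx, ← map_smul]
    congr 1
    ext
    simp only [SetLike.val_smul, smul_eq_mul]
    rw [← has, mul_comm]
  choose f s hmem hfJ hfb using hlift
  have hw : ∀ i, IsUnit (algebraMap P A (algebraMap B P (s i))) := fun i =>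
    (IsLocalization.map_units P (s i)).map _
  let b' : Module.Basis (Fin m) A E.Cotangent := b.isUnitSMul hw
  have hb' : ∀ i, b' i = Algebra.Extension.Cotangent.mk ⟨algebraMap B P (f i), hmem i⟩ := by
    intro i
    rw [hfb i]
    exact Module.Basis.isUnitSMul_apply hw i
  have hspan : J.map (algebraMap B P) =
      Ideal.span (Set.range fun i => algebraMap B P (f i)) := by
    rw [← hker]
    apply le_antisymm
    · have hloc : IsLocalRing P := IsLocalization.AtPrime.isLocalRing P q
      refine Submodule.le_of_le_smul_of_le_jacobson_bot (I := RingHom.ker (algebraMap P A))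
        (IsNoetherian.noetherian _) ?_ ?_
      · rw [IsLocalRing.jacobson_eq_maximalIdeal ⊥ bot_ne_top]
        exact IsLocalRing.le_maximalIdeal (RingHom.ker_ne_top _)
      · intro x hx
        obtain ⟨p, hp⟩ : ∃ p : Fin m → P, ∀ i, algebraMap P A (p i) =
            b'.repr (Algebra.Extension.Cotangent.mk ⟨x, hx⟩) i :=
          ⟨fun i => (hsurj _).choose, fun i => (hsurj _).choose_spec⟩
        have h1 : Algebra.Extension.Cotangent.mk (⟨x, hx⟩ : E.ker) =
            Algebra.Extension.Cotangent.mk
              (∑ i, p i • (⟨algebraMap B P (f i), hmem i⟩ : E.ker)) := by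
          rw [map_sum]
          conv_lhs => rw [← b'.sum_repr (Algebra.Extension.Cotangent.mk ⟨x, hx⟩)]
          apply Finset.sum_congr rfl
          intro i _
          rw [map_smul, ← hb', ← hp, algebraMap_smul]
        rw [Algebra.Extension.Cotangent.mk_eq_mk_iff_sub_mem] at h1
        have h2 : x = ((∑ i, p i • (⟨algebraMap B P (f i), hmem i⟩ : E.ker) : E.ker) : P) +
            (x - ((∑ i, p i • (⟨algebraMap B P (f i), hmem i⟩ : E.ker) : E.ker) : P)) := by ring
        rw [h2]
        apply Submodule.add_mem_sup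
        · rw [AddSubmonoidClass.coe_finset_sum]
          apply Submodule.sum_mem
          intro i _
          simp only [SetLike.val_smul, smul_eq_mul]
          exact Ideal.mul_mem_left _ _ (Ideal.subset_span ⟨i, rfl⟩)
        · rw [smul_eq_mul, ← pow_two]
          exact h1
    · rw [Ideal.span_le]
      rintro _ ⟨i, rfl⟩
      exact hmem i
  have hμ : ∀ i, ∃ μ : Ω[P⁄R₀] →ₗ[P] P, ∀ ω, algebraMap P A (μ ω) =
      b'.coord i (l (1 ⊗ₜ ω)) := by
    intro i
    let lam : Ω[P⁄R₀] →ₗ[P] A :=
      ((b'.coord i ∘ₗ l).restrictScalars P) ∘ₗ (TensorProduct.mk P A Ω[P⁄R₀] 1)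
    obtain ⟨μ, hμ⟩ := Module.projective_lifting_property (Algebra.linearMap P A) lam hsurj
    exact ⟨μ, fun ω => LinearMap.congr_fun hμ ω⟩
  choose μ hμ using hμ
  refine ⟨m, f, μ, hfJ, hspan, fun i i' => ?_⟩
  rw [hμ]
  have h3 := LinearMap.congr_fun hl (b' i')
  rw [LinearMap.comp_apply, LinearMap.id_apply] at h3
  conv_lhs at h3 => rw [hb' i', Algebra.Extension.cotangentComplex_mk]
  rw [h3, Module.Basis.coord_apply, Module.Basis.repr_self, Finsupp.single_apply]

/-- second half: clearing denominators to get derivations of `B`. -/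
theorem exists_derivations [Module.Projective B Ω[B⁄R₀]] (q : Ideal B) [q.IsPrime]
    [IsLocalization.AtPrime P q] (m : ℕ) (f : Fin m → B) (μ : Fin m → (Ω[P⁄R₀] →ₗ[P] P)) :
    ∃ (t : q.primeCompl) (D : Fin m → Derivation R₀ B B), ∀ i i',
      algebraMap B P (D i (f i')) =
        algebraMap B P t * μ i (KaehlerDifferential.D R₀ P (algebraMap B P (f i'))) := by
  classical
  obtain ⟨s, hs⟩ := Module.projective_def'.1 (inferInstance : Module.Projective B Ω[B⁄R₀])
  let ψ : Fin m → (Ω[B⁄R₀] →ₗ[B] P) := fun i =>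
    (((μ i).compDer (KaehlerDifferential.D R₀ P)).compAlgebraMap B).liftKaehlerDifferential
  have hψ : ∀ i b, ψ i (KaehlerDifferential.D R₀ B b) =
      μ i (KaehlerDifferential.D R₀ P (algebraMap B P b)) := by
    intro i b
    simp [ψ]
  let S₀ : Finset Ω[B⁄R₀] :=
    Finset.univ.biUnion (fun i' : Fin m => (s (KaehlerDifferential.D R₀ B (f i'))).support)
  obtain ⟨t, ht⟩ := IsLocalization.exist_integer_multiples q.primeCompl
    ((Finset.univ : Finset (Fin m)) ×ˢ S₀) (fun ix : Fin m × Ω[B⁄R₀] => ψ ix.1 ix.2)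
  have hc : ∀ i x, ∃ c : B, x ∈ S₀ → algebraMap B P c = (t : B) • ψ i x := by
    intro i x
    by_cases hx : x ∈ S₀
    · obtain ⟨c, hc⟩ := ht (i, x) (by simp [hx])
      exact ⟨c, fun _ => hc⟩
    · exact ⟨0, fun h => absurd h hx⟩
  choose c hc using hc
  let ν : Fin m → ((Ω[B⁄R₀] →₀ B) →ₗ[B] B) := fun i => Finsupp.linearCombination B (c i)
  let D : Fin m → Derivation R₀ B B := fun i =>
    ((ν i) ∘ₗ s).compDer (KaehlerDifferential.D R₀ B)
  refine ⟨t, D, fun i i' => ?_⟩
  have h1 : D i (f i') = (s (KaehlerDifferential.D R₀ B (f i'))).sum (fun x a => a • c i x) := by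
    simp [D, ν, Finsupp.linearCombination_apply]
  have h2 : KaehlerDifferential.D R₀ B (f i') =
      (s (KaehlerDifferential.D R₀ B (f i'))).sum (fun x a => a • x) := by
    have := LinearMap.congr_fun hs (KaehlerDifferential.D R₀ B (f i'))
    simpa [Finsupp.linearCombination_apply] using this.symm
  rw [h1, Finsupp.sum, map_sum, ← hψ]
  conv_rhs => rw [h2, Finsupp.sum, map_sum, Finset.mul_sum]
  apply Finset.sum_congr rfl
  intro x hx
  have hxS : x ∈ S₀ := Finset.mem_biUnion.2 ⟨i', Finset.mem_univ _, hx⟩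
  rw [smul_eq_mul, map_mul, hc i x hxS, map_smul, Algebra.smul_def, Algebra.smul_def]
  ring

theorem jac_of_smooth [Algebra.FormallySmooth R₀ B] [IsNoetherianRing B] [IsLocalRing A]
    (q : Ideal B) [q.IsPrime] [IsLocalization.AtPrime P q]
    (J : Ideal B) (hsurj : Function.Surjective (algebraMap P A))
    (hker : RingHom.ker (algebraMap P A) = J.map (algebraMap B P))
    (hsm : Algebra.FormallySmooth R₀ A) :
    ∃ (m : ℕ) (f : Fin m → B) (D : Fin m → Derivation R₀ B B),
      (∀ i, f i ∈ J) ∧
      J.map (algebraMap B P) = Ideal.span (Set.range fun i => algebraMap B P (f i)) ∧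
      Matrix.det (Matrix.of fun i j => D j (f i)) ∉ q := by
  have hBP : Algebra.FormallyEtale B P :=
    Algebra.FormallyEtale.of_isLocalization (Rₘ := P) q.primeCompl
  have hP : Algebra.FormallySmooth R₀ P := Algebra.FormallySmooth.comp R₀ B P
  have hN : IsNoetherianRing P := IsLocalization.isNoetherianRing q.primeCompl P inferInstance
  obtain ⟨m, f, μ, hfJ, hspan, hμ⟩ := exists_basis_of_smooth q J hsurj hker hsm
  have hprojB : Module.Projective B Ω[B⁄R₀] := inferInstance
  obtain ⟨t, D, hD⟩ := exists_derivations (R₀ := R₀) (P := P) q m f μ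
  refine ⟨m, f, D, hfJ, hspan, ?_⟩
  intro hdet
  let φ : B →+* A := (algebraMap P A).comp (algebraMap B P)
  let M : Matrix (Fin m) (Fin m) B := Matrix.of fun i j => D j (f i)
  have hM : M.map φ = (φ t) • (1 : Matrix (Fin m) (Fin m) A) := by
    ext i j
    simp only [Matrix.map_apply, M, Matrix.of_apply, Matrix.smul_apply, Matrix.one_apply, φ,
      RingHom.comp_apply]
    rw [hD j i, map_mul, hμ j i]
    simp
  have hdetA : φ M.det = (φ t) ^ m := by
    rw [RingHom.map_det, RingHom.mapMatrix_apply, hM, Matrix.det_smul, Matrix.det_one, mul_one,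
      Fintype.card_fin]
  have hunit : IsUnit (φ M.det) := by
    rw [hdetA]
    exact ((IsLocalization.map_units P t).map (algebraMap P A)).pow m
  have hloc : IsLocalRing P := IsLocalization.AtPrime.isLocalRing P q
  have hlh : IsLocalHom (algebraMap P A) := IsLocalHom.of_surjective _ hsurj
  have hunitP : IsUnit (algebraMap B P M.det) := (isUnit_map_iff (algebraMap P A) _).1 hunit
  exact (IsLocalization.AtPrime.isUnit_to_map_iff P q M.det).1 hunitP hdet

end setup

end Groth.Agent.Lib.Helper5.JacZar
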