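import Groth.Agent.Lib.Helper5.JacZarB
import Mathlib

set_option autoImplicit false
universe u

namespace Groth.Agent.Lib.Helper5.JacZar

open TensorProduct KaehlerDifferential

/-- Jacobian criterion for localizations of quotients of a formally smooth Noetherian algebra. -/
theorem jacobian_criterion {R₀ B : Type u} [CommRing R₀] [CommRing B] [Algebra R₀ B]
    [Algebra.FormallySmooth R₀ B] [IsNoetherianRing B] (J q : Ideal B) [q.IsPrime] (hJq : J ≤ q)
    [(q.map (Ideal.Quotient.mk J)).IsPrime] :
    Algebra.FormallySmooth R₀ (Localization.AtPrime (q.map (Ideal.Quotient.mk J))) ↔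
      ∃ (m : ℕ) (f : Fin m → B) (D : Fin m → Derivation R₀ B B),
        (∀ i, f i ∈ J) ∧
        J.map (algebraMap B (Localization.AtPrime q)) =
          Ideal.span (Set.range fun i => algebraMap B (Localization.AtPrime q) (f i)) ∧
        Matrix.det (Matrix.of fun i j => D j (f i)) ∉ q := by
  have hcomap : q = (q.map (Ideal.Quotient.mk J)).comap (Ideal.Quotient.mk J) := by
    rw [Ideal.comap_map_of_surjective _ Ideal.Quotient.mk_surjective, ← RingHom.ker_eq_comap_bot,
      Ideal.mk_ker, sup_eq_left.2 hJq]
  let g : Localization.AtPrime q →+* Localization.AtPrime (q.map (Ideal.Quotient.mk J)) :=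
    Localization.localRingHom q (q.map (Ideal.Quotient.mk J)) (Ideal.Quotient.mk J) hcomap
  let _ : Algebra (Localization.AtPrime q) (Localization.AtPrime (q.map (Ideal.Quotient.mk J))) :=
    g.toAlgebra
  have htower : IsScalarTower R₀ (Localization.AtPrime q)
      (Localization.AtPrime (q.map (Ideal.Quotient.mk J))) := by
    apply IsScalarTower.of_algebraMap_eq
    intro x
    rw [RingHom.algebraMap_toAlgebra, IsScalarTower.algebraMap_apply R₀ B (Localization.AtPrime q),
      Localization.localRingHom_to_map,
      IsScalarTower.algebraMap_apply R₀ (B ⧸ J) (Localization.AtPrime _)]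
    rfl
  have hsurj : Function.Surjective (algebraMap (Localization.AtPrime q)
      (Localization.AtPrime (q.map (Ideal.Quotient.mk J)))) := by
    intro a
    obtain ⟨c, s, rfl⟩ := IsLocalization.exists_mk'_eq (q.map (Ideal.Quotient.mk J)).primeCompl a
    obtain ⟨b, rfl⟩ := Ideal.Quotient.mk_surjective c
    obtain ⟨s', hs'⟩ := Ideal.Quotient.mk_surjective s.1
    have hs'q : s' ∈ q.primeCompl := by
      intro h
      apply s.2
      rw [← hs']
      exact Ideal.mem_map_of_mem _ h
    refine ⟨IsLocalization.mk' _ b ⟨s', hs'q⟩, ?_⟩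
    rw [RingHom.algebraMap_toAlgebra, Localization.localRingHom_mk']
    congr 1
    ext
    exact hs'
  have hker : RingHom.ker (algebraMap (Localization.AtPrime q)
      (Localization.AtPrime (q.map (Ideal.Quotient.mk J)))) =
      J.map (algebraMap B (Localization.AtPrime q)) := by
    have hT : Submonoid.map (Ideal.Quotient.mk J) q.primeCompl =
        (q.map (Ideal.Quotient.mk J)).primeCompl := by
      ext x
      constructor
      · rintro ⟨y, hy, rfl⟩
        intro hmem
        exact hy ((Ideal.mem_quotient_iff_mem hJq).1 hmem)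
      · intro hx
        obtain ⟨y, rfl⟩ := Ideal.Quotient.mk_surjective x
        refine ⟨y, ?_, rfl⟩
        intro hy
        exact hx ((Ideal.mem_quotient_iff_mem hJq).2 hy)
    have h1 := IsLocalization.ker_map (S := Localization.AtPrime q)
      (Localization.AtPrime (q.map (Ideal.Quotient.mk J))) (Ideal.Quotient.mk J) hT
    rw [Ideal.mk_ker] at h1
    exact h1
  constructor
  · exact jac_of_smooth q J hsurj hker
  · rintro ⟨m, f, D, _, h2, h3⟩
    have hBP : Algebra.FormallyEtale B (Localization.AtPrime q) :=
      Algebra.FormallyEtale.of_isLocalization (Rₘ := Localization.AtPrime q) q.primeCompl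
    have hP : Algebra.FormallySmooth R₀ (Localization.AtPrime q) :=
      Algebra.FormallySmooth.comp R₀ B (Localization.AtPrime q)
    exact smooth_of_jac q J hsurj hker m f D h2 h3

end Groth.Agent.Lib.Helper5.JacZar
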