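import Mathlib
import Groth.Agent.Lib.Helper5.LciD

set_option autoImplicit false
universe u

namespace Groth.Agent.Lib.Helper5.KSyn

open Groth.Agent.Lib.Helper5.KosDesc Groth.Agent.Lib.Helper5.KosPerm Groth.Agent.Lib.Helper5.Lci

variable {T Tb : Type u} [CommRing T] [CommRing Tb]

/-- cancellation at one prime: explicit Koszul-regular generators of the image ideal near the prime. -/
theorem exists_kr_gens_map_of_cancel (π : T →+* Tb) (hπ : Function.Surjective π)
    (J : Ideal T) (hJ : LCI.IsKoszulRegularIdeal J) (t : List T) (ht : ∀ x ∈ t, x ∈ J)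
    (hker : RingHom.ker π = Ideal.ofList t) (htKR : LCI.IsKoszulRegularSeq T t)
    (q : Ideal T) [q.IsPrime] (hJq : J ≤ q)
    (hind : ∀ c : Fin t.length → T, ∑ k, c k * t.get k ∈ q * J → ∀ k, c k ∈ q) :
    ∃ G : T, G ∉ q ∧ ∃ σ : List T, (∀ x ∈ σ, x ∈ J) ∧
      LCI.IsKoszulRegularSeq (Localization.Away (π G))
        ((σ.map π).map (algebraMap Tb (Localization.Away (π G)))) ∧
      (J.map π).map (algebraMap Tb (Localization.Away (π G))) =
        Ideal.ofList ((σ.map π).map (algebraMap Tb (Localization.Away (π G)))) := by
  obtain ⟨g, hg, a, haJ, haKR, haspan⟩ := exists_global_gens J hJ q hJq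
  have haKRq := kr_atPrime_of_kr_away a g haKR q hg
  have haspanq : J.map (algebraMap T (Localization.AtPrime q)) =
      Ideal.ofList (a.map (algebraMap T (Localization.AtPrime q))) :=
    map_eq_ofList_of_isUnit J a g haspan _ (IsLocalization.map_units _ (⟨g, hg⟩ : q.primeCompl))
  obtain ⟨ρ, hρa, hlen, hρspan⟩ := exists_exchange_list'
    (J.map (algebraMap T (Localization.AtPrime q))) t.length
    (fun k => algebraMap T (Localization.AtPrime q) (t.get k))
    (a.map (algebraMap T (Localization.AtPrime q))) haspanq.symm
    (fun k => Ideal.mem_map_of_mem _ (ht _ (List.get_mem t k)))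
    (indep_atPrime J q t.length t.get hind)
  obtain ⟨σ, hσρ, hσa⟩ := exists_preimage_list _ a ρ hρa
  have htmap : List.ofFn (fun k => algebraMap T (Localization.AtPrime q) (t.get k)) =
      t.map (algebraMap T (Localization.AtPrime q)) := by
    conv_rhs => rw [← List.ofFn_get t, List.map_ofFn]
    rfl
  have hdJ : ∀ x ∈ σ ++ t, x ∈ J := by
    intro x hx
    rcases List.mem_append.1 hx with h | h
    · exact haJ x (hσa x h)
    · exact ht x h
  have hdspanq : J.map (algebraMap T (Localization.AtPrime q)) =
      Ideal.ofList ((σ ++ t).map (algebraMap T (Localization.AtPrime q))) := by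
    rw [List.map_append, hσρ, ← htmap]
    exact hρspan.symm
  have hne : Ideal.ofList (a.map (algebraMap T (Localization.AtPrime q))) ≠ ⊤ := by
    rw [← haspanq]
    intro htop
    have h1 : J.map (algebraMap T (Localization.AtPrime q)) ≤
        IsLocalRing.maximalIdeal (Localization.AtPrime q) := by
      rw [← Localization.AtPrime.map_eq_maximalIdeal]
      exact Ideal.map_mono hJq
    rw [htop] at h1
    exact (IsLocalRing.maximalIdeal.isMaximal _).ne_top (top_le_iff.1 h1)
  have hdlen : (σ ++ t).length = a.length := by
    apply le_antisymm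
    · have : ρ.length = σ.length := by rw [← hσρ, List.length_map]
      rw [List.length_append, ← this]
      simpa using hlen
    · have := length_le_of_isKoszulRegularSeq _
        ((σ ++ t).map (algebraMap T (Localization.AtPrime q))) haKRq hne
        (hdspanq.symm.trans haspanq)
      simpa using this
  obtain ⟨h0, hh0, hgen⟩ := exists_mul_mem_of_atPrime J (fg_of_koszulRegularIdeal J hJ)
    (σ ++ t) q (le_of_eq hdspanq)
  have hG' : g * h0 ∉ q := fun h => (Ideal.IsPrime.mem_or_mem inferInstance h).elim hg hh0
  have hdKR : LCI.IsKoszulRegularSeq (Localization.Away (g * h0))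
      ((σ ++ t).map (algebraMap T (Localization.Away (g * h0)))) := by
    apply kr_away_of_forall_atPrime
    intro q' _ hq'
    have hg' : g ∉ q' := fun h => hq' (Ideal.mul_mem_right _ _ h)
    have hh' : h0 ∉ q' := fun h => hq' (Ideal.mul_mem_left _ _ h)
    have h1 := kr_atPrime_of_kr_away a g haKR q' hg'
    have h2 : J.map (algebraMap T (Localization.AtPrime q')) =
        Ideal.ofList (a.map (algebraMap T (Localization.AtPrime q'))) :=
      map_eq_ofList_of_isUnit J a g haspan _
        (IsLocalization.map_units _ (⟨g, hg'⟩ : q'.primeCompl))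
    have h3 : J.map (algebraMap T (Localization.AtPrime q')) =
        Ideal.ofList ((σ ++ t).map (algebraMap T (Localization.AtPrime q'))) :=
      map_eq_ofList_of_mul_mem J _ hdJ h0 hgen _
        (IsLocalization.map_units _ (⟨h0, hh'⟩ : q'.primeCompl))
    exact isKoszulRegularSeq_of_length_eq _ _ h1 (by
      rw [List.length_map, List.length_map, hdlen]) (h3.symm.trans h2)
  have hdspan : J.map (algebraMap T (Localization.Away (g * h0))) =
      Ideal.ofList ((σ ++ t).map (algebraMap T (Localization.Away (g * h0)))) :=
    map_eq_ofList_of_mul_mem J _ hdJ h0 hgen _ (isUnit_algebraMap_away_mul_right g h0)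
  have hkerG : (RingHom.ker π).map (algebraMap T (Localization.Away (g * h0))) =
      Ideal.ofList (t.map (algebraMap T (Localization.Away (g * h0)))) := by
    rw [hker, Ideal.map_ofList]
  have htKRG : LCI.IsKoszulRegularSeq (Localization.Away (g * h0))
      (t.map (algebraMap T (Localization.Away (g * h0)))) :=
    Groth.Agent.Lib.Helper5.KosBC.isKoszulRegularSeq_map _
      ((RingHom.flat_algebraMap_iff).2 (IsLocalization.flat _ (Submonoid.powers (g * h0)))) t htKR
  exact ⟨g * h0, hG', σ, fun x hx => haJ x (hσa x hx),
    (kr_transfer (g * h0) hπ t σ hkerG htKRG).1 hdKR,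
    span_transfer_down (g * h0) hπ J t σ hkerG hdspan⟩

end Groth.Agent.Lib.Helper5.KSyn
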