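import Mathlib
import Groth.Prelude.Def_RegImm
import Groth.Agent.Lib.Helper5.KSynB
import Groth.Agent.Lib.Helper5.KSynC
import Groth.Agent.Lib.Helper5.KosDescB
import Groth.Agent.Lib.Helper5.LciF
import Groth.Agent.Lib.Helper5.KosH1C
import Groth.Agent.Lib.Helper5.RegImmB

set_option autoImplicit false
universe u

namespace Groth.Agent.Lib.Helper5.KSyn

open RingTheory.Sequence IsLocalRing Pointwise TensorProduct
open Groth.Agent.Lib.Helper5.KL Groth.Agent.Lib.Helper5.Lci

section Descent

variable (R₁ D : Type u) [CommRing R₁] [CommRing D] [Algebra R₁ D] [Module.Flat R₁ D]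

theorem faithfullyFlat_localization (a : R₁)
    (hU : ∀ P : PrimeSpectrum R₁, a ∉ P.asIdeal →
      P ∈ Set.range (PrimeSpectrum.comap (algebraMap R₁ D))) :
    Module.FaithfullyFlat (Localization (Submonoid.powers a))
      (Localization (Algebra.algebraMapSubmonoid D (Submonoid.powers a))) := by
  apply Module.FaithfullyFlat.of_comap_surjective
  intro P₃
  obtain ⟨P, hPdef⟩ : ∃ P : PrimeSpectrum R₁,
      P = PrimeSpectrum.comap (algebraMap R₁ (Localization (Submonoid.powers a))) P₃ := ⟨_, rfl⟩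
  have haP : a ∉ P.asIdeal := by
    intro h
    have hu : IsUnit (algebraMap R₁ (Localization (Submonoid.powers a)) a) :=
      IsLocalization.map_units _ (⟨a, Submonoid.mem_powers a⟩ : Submonoid.powers a)
    rw [hPdef] at h
    exact P₃.2.ne_top (Ideal.eq_top_of_isUnit_mem _ h hu)
  obtain ⟨Q, hQ⟩ := hU P haP
  have hdisj : Disjoint (Algebra.algebraMapSubmonoid D (Submonoid.powers a) : Set D)
      (Q.asIdeal : Set D) := by
    rw [Set.disjoint_left]
    rintro _ ⟨x, ⟨n, rfl⟩, rfl⟩ hmem
    have h1 : a ^ n ∈ P.asIdeal := by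
      rw [← hQ]
      exact hmem
    exact haP (P.2.mem_of_pow_mem n h1)
  have hQmem : Q ∈ Set.range (PrimeSpectrum.comap (algebraMap D
      (Localization (Algebra.algebraMapSubmonoid D (Submonoid.powers a))))) := by
    rw [PrimeSpectrum.localization_comap_range
      (Localization (Algebra.algebraMapSubmonoid D (Submonoid.powers a)))
      (Algebra.algebraMapSubmonoid D (Submonoid.powers a))]
    exact hdisj
  obtain ⟨Q₃, hQ₃⟩ := hQmem
  refine ⟨Q₃, ?_⟩
  apply PrimeSpectrum.localization_comap_injective (Localization (Submonoid.powers a))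
    (Submonoid.powers a)
  rw [← hPdef, ← PrimeSpectrum.comap_comp_apply, ← IsScalarTower.algebraMap_eq,
    IsScalarTower.algebraMap_eq R₁ D
      (Localization (Algebra.algebraMapSubmonoid D (Submonoid.powers a))),
    PrimeSpectrum.comap_comp_apply, hQ₃, hQ]

theorem exists_away_kr_of_flat [Algebra.FinitePresentation R₁ D] (I : Ideal R₁)
    (hD : LCI.IsKoszulRegularIdeal (I.map (algebraMap R₁ D))) (Q : Ideal D) [Q.IsPrime] :
    ∃ a : R₁, a ∉ Q.comap (algebraMap R₁ D) ∧
      LCI.IsKoszulRegularIdeal (I.map (algebraMap R₁ (Localization.Away a))) := by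
  have hopen := PrimeSpectrum.isOpenMap_comap_of_hasGoingDown_of_finitePresentation
    (R := R₁) (S := D)
  have hUopen : IsOpen (Set.range (PrimeSpectrum.comap (algebraMap R₁ D))) := hopen.isOpen_range
  have hPU : (⟨Q.comap (algebraMap R₁ D), inferInstance⟩ : PrimeSpectrum R₁) ∈
      Set.range (PrimeSpectrum.comap (algebraMap R₁ D)) := ⟨⟨Q, inferInstance⟩, rfl⟩
  obtain ⟨_, ⟨_, ⟨a, rfl⟩, rfl⟩, hPa, haU⟩ :=
    PrimeSpectrum.isBasis_basic_opens.exists_subset_of_mem_open hPU hUopen
  refine ⟨a, hPa, ?_⟩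
  have hff := faithfullyFlat_localization R₁ D a (fun P' hP' => haU hP')
  apply Groth.Agent.Lib.Helper5.KosDesc.isKoszulRegularIdeal_of_faithfullyFlat
    (A := Localization (Submonoid.powers a))
    (B := Localization (Algebra.algebraMapSubmonoid D (Submonoid.powers a)))
  rw [Ideal.map_map, ← IsScalarTower.algebraMap_eq,
    IsScalarTower.algebraMap_eq R₁ D
      (Localization (Algebra.algebraMapSubmonoid D (Submonoid.powers a))), ← Ideal.map_map]
  exact isKoszulRegularIdeal_map_of_flat' (algebraMap D _)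
    ((RingHom.flat_algebraMap_iff).2 (IsLocalization.flat _
      (Algebra.algebraMapSubmonoid D (Submonoid.powers a)))) _ hD

end Descent

section Indep

open CategoryTheory CategoryTheory.Limits

theorem indep_of_h1_map {T₂ L : Type u} [CommRing T₂] [CommRing L] (Φ : T₂ →+* L) (t : List T₂)
    (h1 : IsZero ((Koszul.koszul L (t.map Φ)).homology (-1))) (m : Ideal L)
    (hm : Ideal.ofList (t.map Φ) ≤ m) (c : Fin t.length → T₂)
    (hc : Φ (∑ k, c k * t.get k) ∈ m * Ideal.ofList (t.map Φ)) (k : Fin t.length) :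
    Φ (c k) ∈ m := by
  have hlen : (t.map Φ).length = t.length := List.length_map _
  have key := indep_of_h1 (t.map Φ) h1 m hm (fun k => Φ (c (Fin.cast hlen k))) (by
    have h2 : ∑ k : Fin (t.map Φ).length, Φ (c (Fin.cast hlen k)) * (t.map Φ).get k =
        Φ (∑ k, c k * t.get k) := by
      rw [map_sum, ← Fin.sum_congr' _ hlen]
      apply Finset.sum_congr rfl
      intro k _
      rw [map_mul]
      congr 1
      simp [List.get_eq_getElem]
    rw [h2]
    exact hc) (Fin.cast hlen.symm k)
  simpa using key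

variable {T B₁ : Type u} [CommRing T] [CommRing B₁] (π : T →+* B₁)

theorem indep_away (hπ : Function.Surjective π) (q : Ideal T) [q.IsPrime]
    (hkq : RingHom.ker π ≤ q) (K : Ideal T) (G : List T)
    (hKG : K.map π = Ideal.ofList (G.map π)) (hGq : ∀ x ∈ G, x ∈ q)
    (hKR : LCI.IsKoszulRegularSeq B₁ (G.map π))
    (g₂ : T) (hg₂ : g₂ ∉ q)
    (c : Fin (G.map (algebraMap T (Localization.Away g₂))).length → Localization.Away g₂)
    (hc : ∑ k, c k * (G.map (algebraMap T (Localization.Away g₂))).get k ∈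
      q.map (algebraMap T (Localization.Away g₂)) * K.map (algebraMap T (Localization.Away g₂)))
    (k : Fin (G.map (algebraMap T (Localization.Away g₂))).length) :
    c k ∈ q.map (algebraMap T (Localization.Away g₂)) := by
  have hqb : (q.map π).IsPrime := Ideal.map_isPrime_of_surjective hπ hkq
  have hqcomap : (q.map π).comap π = q := by
    rw [Ideal.comap_map_of_surjective' _ hπ]
    exact sup_eq_left.mpr hkq
  have htΦ : (G.map (algebraMap T (Localization.Away g₂))).map (phi π g₂) =
      (G.map π).map (algebraMap B₁ (Localization.Away (π g₂))) := map_phi π g₂ G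
  have hKR₂ : LCI.IsKoszulRegularSeq (Localization.Away (π g₂))
      ((G.map π).map (algebraMap B₁ (Localization.Away (π g₂)))) :=
    Groth.Agent.Lib.Helper5.KosBC.isKoszulRegularSeq_map _
      ((RingHom.flat_algebraMap_iff).2 (IsLocalization.flat _ (Submonoid.powers (π g₂)))) _ hKR
  have h1' : IsZero ((Koszul.koszul (Localization.Away (π g₂))
      ((G.map (algebraMap T (Localization.Away g₂))).map (phi π g₂))).homology (-1)) := by
    rw [htΦ]
    exact hKR₂ (-1) (by norm_num)
  have hm : Ideal.ofList ((G.map (algebraMap T (Localization.Away g₂))).map (phi π g₂)) ≤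
      (q.map π).map (algebraMap B₁ (Localization.Away (π g₂))) := by
    rw [htΦ, ← Ideal.map_ofList, ← Ideal.map_ofList]
    exact Ideal.map_mono (Ideal.map_mono (Ideal.span_le.mpr hGq))
  have hΦq : (q.map (algebraMap T (Localization.Away g₂))).map (phi π g₂) =
      (q.map π).map (algebraMap B₁ (Localization.Away (π g₂))) := by
    rw [Ideal.map_map, phi_comp, ← Ideal.map_map]
  have hΦK : (K.map (algebraMap T (Localization.Away g₂))).map (phi π g₂) =
      Ideal.ofList ((G.map (algebraMap T (Localization.Away g₂))).map (phi π g₂)) := by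
    rw [Ideal.map_map, phi_comp, ← Ideal.map_map, hKG, Ideal.map_ofList, htΦ]
  have hc' : phi π g₂ (∑ k, c k * (G.map (algebraMap T (Localization.Away g₂))).get k) ∈
      (q.map π).map (algebraMap B₁ (Localization.Away (π g₂))) *
        Ideal.ofList ((G.map (algebraMap T (Localization.Away g₂))).map (phi π g₂)) := by
    rw [← hΦq, ← hΦK, ← Ideal.map_mul]
    exact Ideal.mem_map_of_mem _ hc
  have key := indep_of_h1_map (phi π g₂) (G.map (algebraMap T (Localization.Away g₂))) h1' _ hm c
    hc' k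
  have hdisj : Disjoint (Submonoid.powers (π g₂) : Set B₁) ((q.map π : Ideal B₁) : Set B₁) := by
    rw [Ideal.disjoint_powers_iff_notMem _ hqb.isRadical]
    intro hmem
    apply hg₂
    rw [← hqcomap]
    exact hmem
  have hcomap : ((q.map π).map (algebraMap B₁ (Localization.Away (π g₂)))).comap (phi π g₂) =
      q.map (algebraMap T (Localization.Away g₂)) := by
    rw [← IsLocalization.map_comap (Submonoid.powers g₂) (Localization.Away g₂)
      (((q.map π).map (algebraMap B₁ (Localization.Away (π g₂)))).comap (phi π g₂))]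
    congr 1
    have h3 := IsLocalization.comap_map_of_isPrime_disjoint (Submonoid.powers (π g₂))
        (Localization.Away (π g₂)) hqb hdisj
    rw [Ideal.under_def] at h3
    rw [Ideal.under_def, Ideal.comap_comap, phi_comp, ← Ideal.comap_comap, h3, hqcomap]
  rw [← hcomap]
  exact key

end Indep

section Chart

variable (R₁ T₂ : Type u) [CommRing R₁] [CommRing T₂] [Algebra R₁ T₂]
  [Algebra.FinitePresentation R₁ T₂]

theorem exists_away_kr_of_chart (t : List T₂) [Module.Flat R₁ (T₂ ⧸ Ideal.ofList t)] (G₀ : T₂)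
    (I : Ideal R₁)
    (hKR : LCI.IsKoszulRegularIdeal (I.map (algebraMap R₁
      (Localization.Away (Ideal.Quotient.mk (Ideal.ofList t) G₀)))))
    (q₂ : Ideal T₂) [q₂.IsPrime] (htq : Ideal.ofList t ≤ q₂) (hG₀ : G₀ ∉ q₂) :
    ∃ a : R₁, a ∉ q₂.comap (algebraMap R₁ T₂) ∧
      LCI.IsKoszulRegularIdeal (I.map (algebraMap R₁ (Localization.Away a))) := by
  classical
  have hfp1 : Algebra.FinitePresentation R₁ (T₂ ⧸ Ideal.ofList t) :=
    Algebra.FinitePresentation.quotient ⟨t.toFinset, by
      rw [Ideal.ofList]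
      congr 1
      ext x
      simp⟩
  have hfp2 : Algebra.FinitePresentation (T₂ ⧸ Ideal.ofList t)
      (Localization.Away (Ideal.Quotient.mk (Ideal.ofList t) G₀)) :=
    IsLocalization.Away.finitePresentation (Ideal.Quotient.mk (Ideal.ofList t) G₀)
  have hfp : Algebra.FinitePresentation R₁
      (Localization.Away (Ideal.Quotient.mk (Ideal.ofList t) G₀)) :=
    Algebra.FinitePresentation.trans R₁ (T₂ ⧸ Ideal.ofList t) _
  have hfl2 : Module.Flat (T₂ ⧸ Ideal.ofList t)
      (Localization.Away (Ideal.Quotient.mk (Ideal.ofList t) G₀)) :=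
    IsLocalization.flat _ (Submonoid.powers (Ideal.Quotient.mk (Ideal.ofList t) G₀))
  have hfl : Module.Flat R₁ (Localization.Away (Ideal.Quotient.mk (Ideal.ofList t) G₀)) :=
    Module.Flat.trans R₁ (T₂ ⧸ Ideal.ofList t) _
  have hker : RingHom.ker (Ideal.Quotient.mk (Ideal.ofList t)) ≤ q₂ := by
    rw [Ideal.mk_ker]
    exact htq
  have hq₂' : (q₂.map (Ideal.Quotient.mk (Ideal.ofList t))).IsPrime :=
    Ideal.map_isPrime_of_surjective Ideal.Quotient.mk_surjective hker
  have hq₂'comap : (q₂.map (Ideal.Quotient.mk (Ideal.ofList t))).comap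
      (Ideal.Quotient.mk (Ideal.ofList t)) = q₂ := by
    rw [Ideal.comap_map_of_surjective' _ Ideal.Quotient.mk_surjective]
    exact sup_eq_left.mpr hker
  have hdisj : Disjoint (Submonoid.powers (Ideal.Quotient.mk (Ideal.ofList t) G₀) :
      Set (T₂ ⧸ Ideal.ofList t))
      ((q₂.map (Ideal.Quotient.mk (Ideal.ofList t)) : Ideal (T₂ ⧸ Ideal.ofList t)) :
        Set (T₂ ⧸ Ideal.ofList t)) := by
    rw [Ideal.disjoint_powers_iff_notMem _ hq₂'.isRadical]
    intro hmem
    apply hG₀
    rw [← hq₂'comap]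
    exact hmem
  have hQ : ((q₂.map (Ideal.Quotient.mk (Ideal.ofList t))).map (algebraMap (T₂ ⧸ Ideal.ofList t)
      (Localization.Away (Ideal.Quotient.mk (Ideal.ofList t) G₀)))).IsPrime :=
    IsLocalization.isPrime_of_isPrime_disjoint
      (Submonoid.powers (Ideal.Quotient.mk (Ideal.ofList t) G₀)) _ _ hq₂' hdisj
  have hQcomap := IsLocalization.comap_map_of_isPrime_disjoint
      (Submonoid.powers (Ideal.Quotient.mk (Ideal.ofList t) G₀))
      (Localization.Away (Ideal.Quotient.mk (Ideal.ofList t) G₀)) hq₂' hdisj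
  rw [Ideal.under_def] at hQcomap
  obtain ⟨a, ha, hKRa⟩ := exists_away_kr_of_flat R₁
    (Localization.Away (Ideal.Quotient.mk (Ideal.ofList t) G₀)) I hKR
    ((q₂.map (Ideal.Quotient.mk (Ideal.ofList t))).map (algebraMap (T₂ ⧸ Ideal.ofList t)
      (Localization.Away (Ideal.Quotient.mk (Ideal.ofList t) G₀))))
  refine ⟨a, fun hmem => ha ?_, hKRa⟩
  rw [Ideal.mem_comap, IsScalarTower.algebraMap_apply R₁ (T₂ ⧸ Ideal.ofList t)
    (Localization.Away (Ideal.Quotient.mk (Ideal.ofList t) G₀)), ← Ideal.mem_comap, hQcomap,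
    IsScalarTower.algebraMap_apply R₁ T₂ (T₂ ⧸ Ideal.ofList t)]
  exact Ideal.mem_map_of_mem _ hmem

end Chart

section Core

theorem ideal_eq_sup (R₁ T B₁ : Type u) [CommRing R₁] [CommRing T] [CommRing B₁]
    [Algebra R₁ T] [Algebra T B₁] (I : Ideal R₁)
    (hsurj : Function.Surjective (algebraMap T B₁))
    (hker : RingHom.ker (algebraMap T B₁) = I.map (algebraMap R₁ T))
    (K : Ideal T) (hIK : I.map (algebraMap R₁ T) ≤ K)
    (G : List T) (hGK : ∀ x ∈ G, x ∈ K)
    (hKG : K.map (algebraMap T B₁) = Ideal.ofList (G.map (algebraMap T B₁))) :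
    K = Ideal.ofList G ⊔ I.map (algebraMap R₁ T) := by
  apply le_antisymm
  · intro x hx
    have h1 : algebraMap T B₁ x ∈ (Ideal.ofList G).map (algebraMap T B₁) := by
      rw [Ideal.map_ofList, ← hKG]
      exact Ideal.mem_map_of_mem _ hx
    obtain ⟨y, hy, hyx⟩ := (Ideal.mem_map_iff_of_surjective _ hsurj).mp h1
    have h2 : x - y ∈ I.map (algebraMap R₁ T) := by
      rw [← hker, RingHom.mem_ker, map_sub, sub_eq_zero]
      exact hyx.symm
    have := Ideal.add_mem _ (Ideal.mem_sup_right h2 : x - y ∈ Ideal.ofList G ⊔ I.map (algebraMap R₁ T))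
      (Ideal.mem_sup_left hy)
    simpa using this
  · exact sup_le (Ideal.span_le.mpr hGK) hIK

variable (R₁ T A₁ B₁ : Type u) [CommRing R₁] [CommRing T] [CommRing A₁] [CommRing B₁]
  [Algebra R₁ T] [Algebra.FinitePresentation R₁ T] [Module.Flat R₁ T]
  [Algebra R₁ A₁] [Algebra T B₁] [Algebra A₁ B₁] [Algebra R₁ B₁]
  [IsScalarTower R₁ T B₁] [IsScalarTower R₁ A₁ B₁] [Algebra.FinitePresentation A₁ B₁]

set_option maxHeartbeats 1600000 in
set_option synthInstance.maxHeartbeats 200000 in
theorem exists_away_isKoszulRegularIdeal (I : Ideal R₁)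
    (hsurj : Function.Surjective (algebraMap T B₁))
    (hker : RingHom.ker (algebraMap T B₁) = I.map (algebraMap R₁ T))
    (K : Ideal T) (hK : LCI.IsKoszulRegularIdeal K) (hIK : I.map (algebraMap R₁ T) ≤ K)
    (G : List T) (hGK : ∀ x ∈ G, x ∈ K)
    (hKG : K.map (algebraMap T B₁) = Ideal.ofList (G.map (algebraMap T B₁)))
    (hGKR : LCI.IsKoszulRegularSeq B₁ (G.map (algebraMap T B₁)))
    (hflat : Module.Flat A₁ (B₁ ⧸ Ideal.ofList (G.map (algebraMap T B₁))))
    (q : Ideal T) [q.IsPrime] (hKq : K ≤ q) :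
    ∃ a : R₁, a ∉ q.comap (algebraMap R₁ T) ∧
      LCI.IsKoszulRegularIdeal (I.map (algebraMap R₁ (Localization.Away a))) := by
  classical
  have hIq : I.map (algebraMap R₁ T) ≤ q := hIK.trans hKq
  have hkerq : RingHom.ker (algebraMap T B₁) ≤ q := hker ▸ hIq
  have hGq : ∀ x ∈ G, x ∈ q := fun x hx => hKq (hGK x hx)
  have hqb : (q.map (algebraMap T B₁)).IsPrime := Ideal.map_isPrime_of_surjective hsurj hkerq
  have hH1 : CAlgX.IsH1Regular (G.map (algebraMap T B₁)).get :=
    (Groth.Agent.Lib.Helper5.KosH1.isH1Regular_iff_isZero _).mpr (hGKR (-1) (by norm_num))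
  have htr : TransNear A₁ B₁ (G.map (algebraMap T B₁)) (q.map (algebraMap T B₁)) :=
    transNear_of_h1 A₁ B₁ _ hH1 hflat _ (fun f hf => by
      obtain ⟨x, hx, rfl⟩ := List.mem_map.mp hf
      exact Ideal.mem_map_of_mem _ (hGq x hx))
  obtain ⟨g₂, hg₂, H⟩ := exists_away_transRegular R₁ T A₁ B₁ I hsurj hker G q hGq hIq htr
  obtain ⟨hwr, hfl⟩ := H g₂ dvd_rfl (Localization.Away g₂)
  have hg₂q : g₂ ∉ q := hg₂
  -- cancellation on the chart
  obtain ⟨t, htdef⟩ : ∃ t : List (Localization.Away g₂),
      t = G.map (algebraMap T (Localization.Away g₂)) := ⟨_, rfl⟩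
  rw [← htdef] at hwr hfl
  have htKR : LCI.IsKoszulRegularSeq (Localization.Away g₂) t :=
    Groth.Agent.Lib.Helper5.RegImmB.isKoszulRegularSeq_of_isWeaklyRegular t hwr
  have hflT₂ : (algebraMap T (Localization.Away g₂)).Flat :=
    (RingHom.flat_algebraMap_iff).2 (IsLocalization.flat _ (Submonoid.powers g₂))
  have hJ₂ : LCI.IsKoszulRegularIdeal (K.map (algebraMap T (Localization.Away g₂))) :=
    isKoszulRegularIdeal_map_of_flat' _ hflT₂ K hK
  have hdisj : Disjoint (Submonoid.powers g₂ : Set T) (q : Set T) := by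
    rw [Ideal.disjoint_powers_iff_notMem _ (Ideal.IsPrime.isRadical inferInstance)]
    exact hg₂q
  have hq₂ : (q.map (algebraMap T (Localization.Away g₂))).IsPrime :=
    IsLocalization.isPrime_of_isPrime_disjoint (Submonoid.powers g₂) (Localization.Away g₂) q
      inferInstance hdisj
  have hq₂comap : (q.map (algebraMap T (Localization.Away g₂))).comap
      (algebraMap T (Localization.Away g₂)) = q := by
    have h3 := IsLocalization.comap_map_of_isPrime_disjoint (Submonoid.powers g₂)
      (Localization.Away g₂) (inferInstance : q.IsPrime) hdisj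
    rwa [Ideal.under_def] at h3
  have htJ : ∀ x ∈ t, x ∈ K.map (algebraMap T (Localization.Away g₂)) := by
    intro x hx
    rw [htdef] at hx
    obtain ⟨y, hy, rfl⟩ := List.mem_map.mp hx
    exact Ideal.mem_map_of_mem _ (hGK y hy)
  obtain ⟨G₀, hG₀, σ, -, hσKR, hσspan⟩ := exists_kr_gens_map_of_cancel
    (Ideal.Quotient.mk (Ideal.ofList t)) Ideal.Quotient.mk_surjective
    (K.map (algebraMap T (Localization.Away g₂))) hJ₂ t htJ Ideal.mk_ker htKR
    (q.map (algebraMap T (Localization.Away g₂))) (Ideal.map_mono hKq) (by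
      subst htdef
      intro c hc k
      exact indep_away (algebraMap T B₁) hsurj q hkerq K G hKG hGq hGKR g₂ hg₂q c hc k)
  -- the flat chart
  have hfpT₂ : Algebra.FinitePresentation T (Localization.Away g₂) :=
    IsLocalization.Away.finitePresentation g₂
  have hfpR₁T₂ : Algebra.FinitePresentation R₁ (Localization.Away g₂) :=
    Algebra.FinitePresentation.trans R₁ T _
  have htlen : t.length = G.length := by rw [htdef, List.length_map]
  have hflD' : Module.Flat R₁ (Localization.Away g₂ ⧸ Ideal.ofList t) := by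
    have h1 := hfl G.length le_rfl
    rwa [← htlen, List.take_length] at h1
  have hKeq := ideal_eq_sup R₁ T B₁ I hsurj hker K hIK G hGK hKG
  have hzero : (Ideal.ofList t).map (Ideal.Quotient.mk (Ideal.ofList t)) = ⊥ := by
    rw [Ideal.map_eq_bot_iff_le_ker, Ideal.mk_ker]
  have hIeq : I.map (algebraMap R₁ (Localization.Away (Ideal.Quotient.mk (Ideal.ofList t) G₀))) =
      ((K.map (algebraMap T (Localization.Away g₂))).map (Ideal.Quotient.mk (Ideal.ofList t))).map
        (algebraMap (Localization.Away g₂ ⧸ Ideal.ofList t)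
          (Localization.Away (Ideal.Quotient.mk (Ideal.ofList t) G₀))) := by
    rw [hKeq, Ideal.map_sup, Ideal.map_sup, Ideal.map_sup, Ideal.map_ofList, ← htdef, hzero,
      Ideal.map_bot, bot_sup_eq, Ideal.map_map, Ideal.map_map, Ideal.map_map]
    congr 1
  have hKRD : LCI.IsKoszulRegularIdeal (I.map (algebraMap R₁
      (Localization.Away (Ideal.Quotient.mk (Ideal.ofList t) G₀)))) := by
    rw [hIeq, hσspan]
    exact isKoszulRegularIdeal_ofList _ hσKR
  have htq : Ideal.ofList t ≤ q.map (algebraMap T (Localization.Away g₂)) := by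
    refine Ideal.span_le.mpr ?_
    intro x hx
    exact Ideal.map_mono hKq (htJ x hx)
  obtain ⟨a, ha, hKRa⟩ := exists_away_kr_of_chart R₁ (Localization.Away g₂) t G₀ I hKRD
    (q.map (algebraMap T (Localization.Away g₂))) htq hG₀
  refine ⟨a, fun hmem => ha ?_, hKRa⟩
  rw [Ideal.mem_comap, IsScalarTower.algebraMap_apply R₁ T (Localization.Away g₂)]
  exact Ideal.mem_map_of_mem _ hmem

end Core

end Groth.Agent.Lib.Helper5.KSyn
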