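import Mathlib
import Groth.Prelude.Def_RegImm
import Groth.Agent.Lib.Helper5.KSynD
import Groth.Agent.Lib.Helper5.LciS

set_option autoImplicit false
universe u

namespace Groth.Agent.Lib.Helper5.KSyn

open MvPolynomial Groth.Agent.Lib.Helper5.Lci

variable {R A B : Type u} [CommRing R] [CommRing A] [CommRing B]

set_option maxHeartbeats 1600000 in
set_option synthInstance.maxHeartbeats 200000 in
theorem exists_isLciHom_away (f : R →+* A) (hf : f.FiniteType) (g : A →+* B) (hgflat : g.Flat)
    (hg : IsLciHom g) (hgf : IsLciHom (g.comp f)) (𝔮 : Ideal B) [𝔮.IsPrime] :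
    ∃ a : A, g a ∉ 𝔮 ∧ IsLciHom ((algebraMap A (Localization.Away a)).comp f) := by
  classical
  obtain ⟨n, α, hαC, hαsurj⟩ := exists_isPres_of_finiteType hf
  obtain ⟨m, β, ⟨hβC, hβsurj⟩, hJ⟩ := hg.exists_isPres
  -- the big presentation
  obtain ⟨α', hα'def⟩ : ∃ α' : MvPolynomial (Fin m) (MvPolynomial (Fin n) R) →+*
      MvPolynomial (Fin m) A, α' = MvPolynomial.map α := ⟨_, rfl⟩
  have hα'surj : Function.Surjective α' := hα'def ▸ MvPolynomial.map_surjective α hαsurj
  have hα'ker : RingHom.ker α' = (RingHom.ker α).map C := hα'def ▸ MvPolynomial.ker_map α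
  have hα'C : α'.comp C = C.comp α := hα'def ▸ MvPolynomial.map_comp_C α
  have hγsurj : Function.Surjective (β.comp α') := hβsurj.comp hα'surj
  have hγ : IsLciHom (β.comp α') := by
    apply IsLciHom.of_comp_C
    apply IsLciHom.of_comp_C
    have : ((β.comp α').comp C).comp C = g.comp f := by
      rw [RingHom.comp_assoc C α' β, hα'C, ← RingHom.comp_assoc α C β, hβC, RingHom.comp_assoc,
        hαC]
    rw [this]
    exact hgf
  have hK : LCI.IsKoszulRegularIdeal (RingHom.ker (β.comp α')) := hγ.ker_of_surjective hγsurj
  have hKJ : (RingHom.ker (β.comp α')).map α' = RingHom.ker β := by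
    rw [← RingHom.comap_ker, Ideal.map_comap_of_surjective _ hα'surj]
  -- generators near the prime
  have hqbprime : (𝔮.comap β).IsPrime := Ideal.comap_isPrime _ _
  have hJq : RingHom.ker β ≤ 𝔮.comap β := fun x hx => by
    rw [Ideal.mem_comap, (RingHom.mem_ker).mp hx]
    exact 𝔮.zero_mem
  obtain ⟨gb, hgb, a, haJ, haKR, haspan⟩ := exists_global_gens (RingHom.ker β) hJ (𝔮.comap β) hJq
  obtain ⟨g₁, rfl⟩ := hα'surj gb
  obtain ⟨c, rfl, hcK⟩ := exists_lift_list hα'surj (RingHom.ker (β.comp α')) a (by
    intro x hx
    rw [hKJ]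
    exact haJ x hx)
  -- algebra structures
  let aRA : Algebra (MvPolynomial (Fin n) R) A := α.toAlgebra
  let aAB : Algebra A B := g.toAlgebra
  let aTB : Algebra (Localization.Away g₁) (Localization.Away (α' g₁)) := (phi α' g₁).toAlgebra
  have hTB : ∀ x, algebraMap (Localization.Away g₁) (Localization.Away (α' g₁)) x = phi α' g₁ x :=
    fun x => rfl
  have hRA : ∀ x, algebraMap (MvPolynomial (Fin n) R) A x = α x := fun x => rfl
  have tw1 : IsScalarTower (MvPolynomial (Fin n) R) (Localization.Away g₁)
      (Localization.Away (α' g₁)) := IsScalarTower.of_algebraMap_eq fun x => by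
    rw [hTB, IsScalarTower.algebraMap_apply (MvPolynomial (Fin n) R)
        (MvPolynomial (Fin m) (MvPolynomial (Fin n) R)) (Localization.Away g₁),
      phi_algebraMap, MvPolynomial.algebraMap_eq, ← RingHom.comp_apply α' C, hα'C,
      IsScalarTower.algebraMap_apply (MvPolynomial (Fin n) R) (MvPolynomial (Fin m) A)
        (Localization.Away (α' g₁)), MvPolynomial.algebraMap_apply, hRA]
    rfl
  have tw2 : IsScalarTower (MvPolynomial (Fin n) R) A (Localization.Away (α' g₁)) :=
    IsScalarTower.of_algebraMap_eq fun x => by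
    rw [IsScalarTower.algebraMap_apply (MvPolynomial (Fin n) R) (MvPolynomial (Fin m) A)
        (Localization.Away (α' g₁)), MvPolynomial.algebraMap_apply,
      IsScalarTower.algebraMap_apply A (MvPolynomial (Fin m) A) (Localization.Away (α' g₁)),
      MvPolynomial.algebraMap_eq]
  -- finiteness and flatness of the chart
  have hfpT : Algebra.FinitePresentation (MvPolynomial (Fin n) R) (Localization.Away g₁) :=
    have : Algebra.FinitePresentation (MvPolynomial (Fin m) (MvPolynomial (Fin n) R))
        (Localization.Away g₁) := IsLocalization.Away.finitePresentation g₁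
    Algebra.FinitePresentation.trans (MvPolynomial (Fin n) R)
      (MvPolynomial (Fin m) (MvPolynomial (Fin n) R)) _
  have hflT : Module.Flat (MvPolynomial (Fin n) R) (Localization.Away g₁) :=
    have : Module.Flat (MvPolynomial (Fin m) (MvPolynomial (Fin n) R)) (Localization.Away g₁) :=
      IsLocalization.flat _ (Submonoid.powers g₁)
    Module.Flat.trans (MvPolynomial (Fin n) R) (MvPolynomial (Fin m) (MvPolynomial (Fin n) R)) _
  have hfpB₁ : Algebra.FinitePresentation A (Localization.Away (α' g₁)) :=
    have : Algebra.FinitePresentation (MvPolynomial (Fin m) A) (Localization.Away (α' g₁)) :=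
      IsLocalization.Away.finitePresentation (α' g₁)
    Algebra.FinitePresentation.trans A (MvPolynomial (Fin m) A) _
  have hsurj : Function.Surjective (algebraMap (Localization.Away g₁)
      (Localization.Away (α' g₁))) := phi_surjective g₁ hα'surj
  have hker : RingHom.ker (algebraMap (Localization.Away g₁) (Localization.Away (α' g₁))) =
      (RingHom.ker α).map (algebraMap (MvPolynomial (Fin n) R) (Localization.Away g₁)) := by
    show RingHom.ker (phi α' g₁) = _
    rw [ker_phi, hα'ker, Ideal.map_map, IsScalarTower.algebraMap_eq (MvPolynomial (Fin n) R)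
      (MvPolynomial (Fin m) (MvPolynomial (Fin n) R)) (Localization.Away g₁),
      MvPolynomial.algebraMap_eq]
  -- the ideal of the chart
  have hflQT : (algebraMap (MvPolynomial (Fin m) (MvPolynomial (Fin n) R))
      (Localization.Away g₁)).Flat :=
    (RingHom.flat_algebraMap_iff).2 (IsLocalization.flat _ (Submonoid.powers g₁))
  have hKT : LCI.IsKoszulRegularIdeal ((RingHom.ker (β.comp α')).map
      (algebraMap (MvPolynomial (Fin m) (MvPolynomial (Fin n) R)) (Localization.Away g₁))) :=
    isKoszulRegularIdeal_map_of_flat' _ hflQT _ hK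
  have hIK : (RingHom.ker α).map (algebraMap (MvPolynomial (Fin n) R) (Localization.Away g₁)) ≤
      (RingHom.ker (β.comp α')).map
        (algebraMap (MvPolynomial (Fin m) (MvPolynomial (Fin n) R)) (Localization.Away g₁)) := by
    rw [← hker]
    show RingHom.ker (phi α' g₁) ≤ _
    rw [ker_phi]
    apply Ideal.map_mono
    intro x hx
    rw [RingHom.mem_ker, RingHom.comp_apply, (RingHom.mem_ker).mp hx, map_zero]
  have hGK : ∀ x ∈ c.map (algebraMap (MvPolynomial (Fin m) (MvPolynomial (Fin n) R))
      (Localization.Away g₁)), x ∈ (RingHom.ker (β.comp α')).map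
        (algebraMap (MvPolynomial (Fin m) (MvPolynomial (Fin n) R)) (Localization.Away g₁)) := by
    intro x hx
    obtain ⟨y, hy, rfl⟩ := List.mem_map.mp hx
    exact Ideal.mem_map_of_mem _ (hcK y hy)
  have hGmap : (c.map (algebraMap (MvPolynomial (Fin m) (MvPolynomial (Fin n) R))
      (Localization.Away g₁))).map (algebraMap (Localization.Away g₁)
        (Localization.Away (α' g₁))) =
      (c.map α').map (algebraMap (MvPolynomial (Fin m) A) (Localization.Away (α' g₁))) :=
    map_phi α' g₁ c
  have hKG : ((RingHom.ker (β.comp α')).map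
      (algebraMap (MvPolynomial (Fin m) (MvPolynomial (Fin n) R)) (Localization.Away g₁))).map
        (algebraMap (Localization.Away g₁) (Localization.Away (α' g₁))) =
      Ideal.ofList ((c.map (algebraMap (MvPolynomial (Fin m) (MvPolynomial (Fin n) R))
        (Localization.Away g₁))).map (algebraMap (Localization.Away g₁)
          (Localization.Away (α' g₁)))) := by
    rw [hGmap, ← haspan, ← hKJ, Ideal.map_map, Ideal.map_map]
    congr 1
    exact phi_comp α' g₁
  have hGKR : LCI.IsKoszulRegularSeq (Localization.Away (α' g₁))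
      ((c.map (algebraMap (MvPolynomial (Fin m) (MvPolynomial (Fin n) R))
        (Localization.Away g₁))).map (algebraMap (Localization.Away g₁)
          (Localization.Away (α' g₁)))) := by
    rw [hGmap]
    exact haKR
  have hflat : Module.Flat A (Localization.Away (α' g₁) ⧸
      Ideal.ofList ((c.map (algebraMap (MvPolynomial (Fin m) (MvPolynomial (Fin n) R))
        (Localization.Away g₁))).map (algebraMap (Localization.Away g₁)
          (Localization.Away (α' g₁))))) := by
    rw [hGmap]
    have hs2 : Function.Surjective (phi β (α' g₁)) := phi_surjective (α' g₁) hβsurj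
    have hk2 : RingHom.ker (phi β (α' g₁)) = Ideal.ofList ((c.map α').map
        (algebraMap (MvPolynomial (Fin m) A) (Localization.Away (α' g₁)))) := by
      rw [ker_phi, haspan]
    let e : (Localization.Away (α' g₁) ⧸ Ideal.ofList ((c.map α').map
        (algebraMap (MvPolynomial (Fin m) A) (Localization.Away (α' g₁))))) ≃+*
        Localization.Away (β (α' g₁)) :=
      (Ideal.quotEquivOfEq hk2.symm).trans (RingHom.quotientKerEquivOfSurjective hs2)
    have he : ∀ x, e (Ideal.Quotient.mk _ x) = phi β (α' g₁) x := fun x => rfl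
    let eA : (Localization.Away (α' g₁) ⧸ Ideal.ofList ((c.map α').map
        (algebraMap (MvPolynomial (Fin m) A) (Localization.Away (α' g₁))))) ≃ₐ[A]
        Localization.Away (β (α' g₁)) :=
      AlgEquiv.ofRingEquiv (f := e) (fun r => by
        show e (Ideal.Quotient.mk _ (algebraMap A (Localization.Away (α' g₁)) r)) = _
        rw [he, IsScalarTower.algebraMap_apply A (MvPolynomial (Fin m) A)
          (Localization.Away (α' g₁)), phi_algebraMap, MvPolynomial.algebraMap_eq,
          ← RingHom.comp_apply β C, hβC]
        rfl)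
    have hflB : Module.Flat A B := hgflat
    have hfl2 : Module.Flat B (Localization.Away (β (α' g₁))) :=
      IsLocalization.flat _ (Submonoid.powers (β (α' g₁)))
    have hfl3 : Module.Flat A (Localization.Away (β (α' g₁))) := Module.Flat.trans A B _
    exact Module.Flat.of_linearEquiv eA.toLinearEquiv
  -- the prime of the chart
  have hq₀prime : (𝔮.comap (β.comp α')).IsPrime := Ideal.comap_isPrime _ _
  have hg₁ : g₁ ∉ 𝔮.comap (β.comp α') := hgb
  have hdisj : Disjoint (Submonoid.powers g₁ : Set (MvPolynomial (Fin m) (MvPolynomial (Fin n) R)))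
      ((𝔮.comap (β.comp α') : Ideal _) : Set (MvPolynomial (Fin m) (MvPolynomial (Fin n) R))) := by
    rw [Ideal.disjoint_powers_iff_notMem _ hq₀prime.isRadical]
    exact hg₁
  have hqTprime : ((𝔮.comap (β.comp α')).map
      (algebraMap (MvPolynomial (Fin m) (MvPolynomial (Fin n) R)) (Localization.Away g₁))).IsPrime :=
    IsLocalization.isPrime_of_isPrime_disjoint (Submonoid.powers g₁) _ _ hq₀prime hdisj
  have hqTcomap := IsLocalization.comap_map_of_isPrime_disjoint (Submonoid.powers g₁)
    (Localization.Away g₁) hq₀prime hdisj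
  rw [Ideal.under_def] at hqTcomap
  have hKq : (RingHom.ker (β.comp α')).map
      (algebraMap (MvPolynomial (Fin m) (MvPolynomial (Fin n) R)) (Localization.Away g₁)) ≤
      (𝔮.comap (β.comp α')).map
        (algebraMap (MvPolynomial (Fin m) (MvPolynomial (Fin n) R)) (Localization.Away g₁)) := by
    apply Ideal.map_mono
    intro x hx
    rw [Ideal.mem_comap, (RingHom.mem_ker).mp hx]
    exact 𝔮.zero_mem
  obtain ⟨a, ha, hKRa⟩ := exists_away_isKoszulRegularIdeal (MvPolynomial (Fin n) R)
    (Localization.Away g₁) A (Localization.Away (α' g₁)) (RingHom.ker α) hsurj hker _ hKT hIK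
    _ hGK hKG hGKR hflat _ hKq
  refine ⟨α a, fun hmem => ha ?_, ?_⟩
  · rw [Ideal.mem_comap, IsScalarTower.algebraMap_apply (MvPolynomial (Fin n) R)
      (MvPolynomial (Fin m) (MvPolynomial (Fin n) R)) (Localization.Away g₁), ← Ideal.mem_comap,
      hqTcomap, Ideal.mem_comap, MvPolynomial.algebraMap_eq, RingHom.comp_apply,
      ← RingHom.comp_apply α' C, hα'C, RingHom.comp_apply, ← RingHom.comp_apply β C, hβC]
    exact hmem
  · have hphi : IsLciHom (phi α a) :=
      isLciHom_of_surjective_of_kr (phi α a) (phi_surjective a hαsurj) (by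
        rw [ker_phi]
        exact hKRa)
    have h2 : IsLciHom ((algebraMap (MvPolynomial (Fin n) R) (Localization.Away a)).comp
        (C : R →+* MvPolynomial (Fin n) R)) :=
      (isLciHom_C n).comp (isLciHom_algebraMap_away a)
    have h3 := h2.comp hphi
    have heq : (phi α a).comp ((algebraMap (MvPolynomial (Fin n) R) (Localization.Away a)).comp
        (C : R →+* MvPolynomial (Fin n) R)) = (algebraMap A (Localization.Away (α a))).comp f := by
      rw [← RingHom.comp_assoc, phi_comp, RingHom.comp_assoc, hαC]
    rw [heq] at h3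
    exact h3

end Groth.Agent.Lib.Helper5.KSyn
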