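import Mathlib
import Groth.Prelude.Def_RegImm
import Groth.Agent.Lib.Helper5.KSynE
import Groth.Agent.Lib.Helper5.KLocD
import Groth.Agent.S0114

set_option autoImplicit false
universe u

namespace Groth.Agent.Lib.Helper5.KSyn

open AlgebraicGeometry CategoryTheory Limits
open Groth.Agent.Lib.Helper5.Lci Groth.Agent.Lib.Helper5.KLoc

theorem isLciHom_finitePresentation {R S : Type u} [CommRing R] [CommRing S] (f : R →+* S)
    (h : IsLciHom f) : f.FinitePresentation := by
  obtain ⟨n, γ, ⟨hC, hs⟩, hk⟩ := h.exists_isPres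
  rw [← hC]
  refine RingHom.FinitePresentation.comp
    (RingHom.FinitePresentation.of_surjective γ hs
      (Groth.Agent.Lib.Helper5.KosDesc.fg_of_koszulRegularIdeal _ hk)) ?_
  rw [← MvPolynomial.algebraMap_eq, RingHom.finitePresentation_algebraMap]
  infer_instance

theorem lciMor_le_locallyOfFinitePresentation :
    LciMor.{u} ≤ @LocallyOfFinitePresentation := by
  intro X Y f hf
  rw [HasRingHomProperty.iff_appLE (P := @LocallyOfFinitePresentation)]
  intro U V e
  exact isLciHom_finitePresentation _ (HasRingHomProperty.appLE (P := LciMor) f hf U V e)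

set_option maxHeartbeats 1600000 in
theorem kNear_of_comp_flat_lci {X' X Y : Scheme.{u}} (g : X' ⟶ X) [Flat g] (hg : LciMor g)
    (f : X ⟶ Y) [LocallyOfFiniteType f] (h : LciMor (g ≫ f)) (x' : X') : KNear f (g x') := by
  obtain ⟨V, hV, hxV, -⟩ := exists_affine_nhd (f (g x')) ⊤ trivial
  obtain ⟨U, hU, hxU, hUle⟩ := exists_affine_nhd (g x') (f ⁻¹ᵁ V) hxV
  obtain ⟨U', hU', hxU', hU'le⟩ := exists_affine_nhd x' (g ⁻¹ᵁ U) hxU
  have hφ : (f.appLE V U hUle).hom.FiniteType :=
    HasRingHomProperty.appLE (P := @LocallyOfFiniteType) f inferInstance ⟨V, hV⟩ ⟨U, hU⟩ hUle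
  have hψflat : (g.appLE U U' hU'le).hom.Flat :=
    HasRingHomProperty.appLE (P := @Flat) g inferInstance ⟨U, hU⟩ ⟨U', hU'⟩ hU'le
  have hψ : IsLciHom (g.appLE U U' hU'le).hom :=
    HasRingHomProperty.appLE (P := LciMor) g hg ⟨U, hU⟩ ⟨U', hU'⟩ hU'le
  have hU'V : U' ≤ (g ≫ f) ⁻¹ᵁ V := fun y hy => hUle (hU'le hy)
  have hcomp : IsLciHom ((g.appLE U U' hU'le).hom.comp (f.appLE V U hUle).hom) := by
    have h1 := HasRingHomProperty.appLE (P := LciMor) (g ≫ f) h ⟨V, hV⟩ ⟨U', hU'⟩ hU'V
    rw [← Scheme.Hom.appLE_comp_appLE g f V U U' hUle hU'le] at h1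
    exact h1
  obtain ⟨a, ha, hL⟩ := exists_isLciHom_away (f.appLE V U hUle).hom hφ (g.appLE U U' hU'le).hom
    hψflat hψ hcomp (hU'.primeIdealOf ⟨x', hxU'⟩).asIdeal
  apply kNear_of_kAt
  refine ⟨X.basicOpen a, V, hU.basicOpen a, hV, (X.basicOpen_le a).trans hUle, ?_, ?_⟩
  · have h1 : x' ∈ X'.basicOpen (g.appLE U U' hU'le a) := by
      rw [Scheme.mem_basicOpen _ _ _ hxU']
      let _ : Algebra Γ(X', U') (X'.presheaf.stalk x') :=
        X'.presheaf.algebra_section_stalk ⟨x', hxU'⟩
      have := hU'.isLocalization_stalk ⟨x', hxU'⟩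
      exact (IsLocalization.AtPrime.isUnit_to_map_iff (X'.presheaf.stalk x')
        (hU'.primeIdealOf ⟨x', hxU'⟩).asIdeal _).mpr ha
    rw [Scheme.basicOpen_appLE] at h1
    exact h1.2
  · have hloc : IsLocalization.Away a Γ(X, X.basicOpen a) := hU.isLocalization_basicOpen a
    let e : Localization.Away a ≃ₐ[Γ(X, U)] Γ(X, X.basicOpen a) :=
      IsLocalization.algEquiv (Submonoid.powers a) _ _
    have h2 := isLciHom_respectsIso.1 _ e.toRingEquiv hL
    have heq : e.toRingEquiv.toRingHom.comp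
        ((algebraMap Γ(X, U) (Localization.Away a)).comp (f.appLE V U hUle).hom) =
        (f.appLE V (X.basicOpen a) ((X.basicOpen_le a).trans hUle)).hom := by
      ext r
      simp only [RingHom.comp_apply]
      have h3 : e.toRingEquiv.toRingHom (algebraMap Γ(X, U) (Localization.Away a)
          ((f.appLE V U hUle).hom r)) = algebraMap Γ(X, U) Γ(X, X.basicOpen a)
            ((f.appLE V U hUle).hom r) := e.commutes _
      rw [h3]
      show X.presheaf.map (homOfLE (X.basicOpen_le a)).op (f.appLE V U hUle r) = _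
      rw [← CommRingCat.comp_apply, Scheme.Hom.appLE_map]
    rw [heq] at h2
    let _ : Algebra Γ(Y, V) Γ(X, X.basicOpen a) :=
      (f.appLE V (X.basicOpen a) ((X.basicOpen_le a).trans hUle)).hom.toAlgebra
    exact isLciHom_algebraMap.mp h2

/-- **Local complete intersection morphisms descend along a syntomic cover of the source.** -/
theorem lciMor_of_comp_syntomic {X' X Y : Scheme.{u}} (g : X' ⟶ X) [Surjective g] [Flat g]
    (hg : LciMor g) (f : X ⟶ Y) (h : LciMor (g ≫ f)) : LciMor f := by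
  have hglfp : LocallyOfFinitePresentation g := lciMor_le_locallyOfFinitePresentation _ hg
  have hgflfp : LocallyOfFinitePresentation (g ≫ f) := lciMor_le_locallyOfFinitePresentation _ h
  have hflfp : LocallyOfFinitePresentation f := Groth.Agent.S0114.result g f
  have hk : ∀ x : X, KNear f x := by
    intro x
    obtain ⟨x', rfl⟩ := g.surjective x
    exact kNear_of_comp_flat_lci g hg f h x'
  choose W hxW hW using hk
  apply IsZariskiLocalAtSource.of_iSup_eq_top (P := LciMor) W
  · rw [eq_top_iff]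
    intro x _
    exact TopologicalSpace.Opens.mem_iSup.2 ⟨x, hxW x⟩
  · exact hW

end Groth.Agent.Lib.Helper5.KSyn
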