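import Mathlib.RingTheory.Kaehler.Basic
import Mathlib.RingTheory.Ideal.IdempotentFG
import Mathlib.Algebra.Algebra.Epi
import Mathlib.Algebra.CharP.Lemmas
import Mathlib.RingTheory.IntegralClosure.IsIntegralClosure.Basic
import Mathlib.RingTheory.EssentialFiniteness

set_option autoImplicit false
set_option linter.unusedSectionVars false

namespace Groth.Agent.Lib.Helper5.PBasis

open TensorProduct

/-- a finite-type algebra with vanishing differentials whose elements have a `p^s`-th power in the
base is a quotient of the base -/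
theorem surjective_of_kaehler_zero {A B : Type*} [CommRing A] [CommRing B] [Algebra A B]
    (p : ℕ) (hp : p.Prime) (hpB : (p : B) = 0) [Algebra.FiniteType A B] (s : ℕ)
    (hpow : ∀ b : B, b ^ p ^ s ∈ Set.range (algebraMap A B)) [Subsingleton (Ω[B⁄A])] :
    Function.Surjective (algebraMap A B) := by
  have hint : Algebra.IsIntegral A B := by
    refine ⟨fun b => ?_⟩
    obtain ⟨a, ha⟩ := hpow b
    refine ⟨Polynomial.X ^ p ^ s - Polynomial.C a,
      Polynomial.monic_X_pow_sub_C a (pow_pos hp.pos s).ne', ?_⟩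
    simp [ha]
  have hfin : Module.Finite A B := Algebra.IsIntegral.finite
  rw [← Algebra.isEpi_iff_surjective_algebraMap_of_finite, Algebra.isEpi_iff_forall_one_tmul_eq]
  -- the diagonal ideal vanishes
  have hidem : IsIdempotentElem (KaehlerDifferential.ideal A B) :=
    (Ideal.cotangent_subsingleton_iff _).1 (inferInstanceAs (Subsingleton (Ω[B⁄A])))
  obtain ⟨e, he, hIe⟩ := (Ideal.isIdempotentElem_iff_of_fg _
    (KaehlerDifferential.ideal_fg A B)).1 hidem
  have hpBB : (p : B ⊗[A] B) = 0 := by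
    have : (p : B ⊗[A] B) = algebraMap B (B ⊗[A] B) (p : B) := by simp
    rw [this, hpB, map_zero]
  have hnil : ∀ b : B, IsNilpotent ((1 : B) ⊗ₜ[A] b - b ⊗ₜ[A] (1 : B)) := by
    intro b
    refine ⟨p ^ s, ?_⟩
    obtain ⟨a, ha⟩ := hpow b
    obtain ⟨r, hr⟩ := exists_add_pow_prime_pow_eq hp ((1 : B) ⊗ₜ[A] b - b ⊗ₜ[A] (1 : B))
      (b ⊗ₜ[A] (1 : B)) s
    rw [sub_add_cancel, hpBB, zero_mul, zero_mul, zero_mul, add_zero,
      Algebra.TensorProduct.tmul_pow, Algebra.TensorProduct.tmul_pow, one_pow, ← ha,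
      Algebra.algebraMap_eq_smul_one, ← TensorProduct.smul_tmul] at hr
    exact (add_eq_right.mp hr.symm)
  have hle : KaehlerDifferential.ideal A B ≤ nilradical (B ⊗[A] B) := by
    rw [← KaehlerDifferential.span_range_eq_ideal, Ideal.span_le]
    rintro _ ⟨b, rfl⟩
    exact hnil b
  have he0 : e = 0 := by
    have hemem : e ∈ KaehlerDifferential.ideal A B := by
      rw [hIe]; exact Ideal.mem_span_singleton_self e
    exact he.eq_zero_of_isNilpotent (hle hemem)
  intro b
  have : (1 : B) ⊗ₜ[A] b - b ⊗ₜ[A] (1 : B) ∈ KaehlerDifferential.ideal A B :=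
    KaehlerDifferential.one_smul_sub_smul_one_mem_ideal A b
  rw [hIe, he0, Ideal.mem_span_singleton] at this
  exact sub_eq_zero.mp (zero_dvd_iff.mp this)

end Groth.Agent.Lib.Helper5.PBasis
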