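import Groth.Agent.Lib.Helper5.AdicSmoothDer
import Mathlib

set_option autoImplicit false
universe u

open TensorProduct IsLocalRing KaehlerDifferential

namespace Groth.Agent.Lib.Helper5.KahlerInj

variable {k A : Type u} [Field k] [CommRing A] [IsLocalRing A] [Algebra k A]

/-- the functional on `K ⊗ (A ⊗ Ω_k)` attached to a linear form on `Ω_k` with values in `K`. -/
noncomputable def formOf (ν : Ω[k⁄ℤ] →ₗ[k] ResidueField A) :
    (ResidueField A) ⊗[A] (A ⊗[k] Ω[k⁄ℤ]) →ₗ[A] ResidueField A :=
  (LinearMap.mul' A (ResidueField A)) ∘ₗ ((ν.liftBaseChange A).lTensor (ResidueField A))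

theorem formOf_tmul (ν : Ω[k⁄ℤ] →ₗ[k] ResidueField A) (c : ResidueField A) (y : A ⊗[k] Ω[k⁄ℤ]) :
    formOf ν (c ⊗ₜ[A] y) = c * ν.liftBaseChange A y := by
  simp [formOf]

/-- the functional on `K ⊗ Ω_A` attached to a derivation with values in `K`. -/
noncomputable def formOfDer (D : Derivation ℤ A (ResidueField A)) :
    (ResidueField A) ⊗[A] Ω[A⁄ℤ] →ₗ[A] ResidueField A :=
  (LinearMap.mul' A (ResidueField A)) ∘ₗ (D.liftKaehlerDifferential.lTensor (ResidueField A))

theorem liftKaehler_comp_mapBaseChange (D : Derivation ℤ A (ResidueField A))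
    (ν : Ω[k⁄ℤ] →ₗ[k] ResidueField A)
    (h : ∀ t : k, D (algebraMap k A t) = ν (KaehlerDifferential.D ℤ k t)) :
    D.liftKaehlerDifferential ∘ₗ (KaehlerDifferential.mapBaseChange ℤ k A) =
      ν.liftBaseChange A := by
  apply (LinearMap.liftBaseChangeEquiv A).symm.injective
  apply LinearMap.ext
  intro ω
  rw [LinearMap.liftBaseChangeEquiv_symm_apply, LinearMap.liftBaseChangeEquiv_symm_apply,
    LinearMap.liftBaseChange_one_tmul, LinearMap.comp_apply, KaehlerDifferential.mapBaseChange_tmul,
    one_smul]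
  have hspan := KaehlerDifferential.span_range_derivation ℤ k
  have hmem : ω ∈ Submodule.span k (Set.range (KaehlerDifferential.D ℤ k)) := by
    rw [hspan]; trivial
  induction hmem using Submodule.span_induction with
  | mem x hx =>
    obtain ⟨t, rfl⟩ := hx
    rw [KaehlerDifferential.map_D, Derivation.liftKaehlerDifferential_comp_D, h]
  | zero => simp
  | add x y _ _ hx hy => rw [map_add, map_add, map_add, hx, hy]
  | smul a x _ hx =>
    have h0 : (KaehlerDifferential.map ℤ ℤ k A) (a • x) =
        a • (KaehlerDifferential.map ℤ ℤ k A) x := map_smul _ a x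
    have h1 : D.liftKaehlerDifferential (a • (KaehlerDifferential.map ℤ ℤ k A) x) =
        a • D.liftKaehlerDifferential ((KaehlerDifferential.map ℤ ℤ k A) x) := by
      rw [← algebraMap_smul A a, LinearMap.map_smul, algebraMap_smul]
    have h2 : ν (a • x) = a • ν x := map_smul ν a x
    rw [h0, h1, hx, h2]

theorem formOfDer_comp (D : Derivation ℤ A (ResidueField A))
    (ν : Ω[k⁄ℤ] →ₗ[k] ResidueField A)
    (h : ∀ t : k, D (algebraMap k A t) = ν (KaehlerDifferential.D ℤ k t)) :
    formOfDer D ∘ₗ ((KaehlerDifferential.mapBaseChange ℤ k A).lTensor (ResidueField A)) =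
      formOf ν := by
  rw [formOfDer, formOf, LinearMap.comp_assoc, ← LinearMap.lTensor_comp,
    liftKaehler_comp_mapBaseChange D ν h]

end Groth.Agent.Lib.Helper5.KahlerInj
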