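import Groth.Agent.Lib.Helper5.KahlerInjB
import Mathlib

set_option autoImplicit false
universe u

open TensorProduct IsLocalRing KaehlerDifferential

namespace Groth.Agent.Lib.Helper5.KahlerInj

variable {k A : Type u} [Field k] [CommRing A] [IsLocalRing A] [Algebra k A]

/-- the residue field as a quotient ring. -/
noncomputable def resEquiv (A : Type u) [CommRing A] [IsLocalRing A] :
    ResidueField A ≃+* A ⧸ maximalIdeal A :=
  (RingHom.quotientKerEquivOfSurjective (f := residue A) residue_surjective).symm.trans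
    (Ideal.quotEquivOfEq (ker_residue (R := A)))

theorem resEquiv_residue (A : Type u) [CommRing A] [IsLocalRing A] (a : A) :
    resEquiv A (residue A a) = Ideal.Quotient.mk (maximalIdeal A) a := by
  change (Ideal.quotEquivOfEq (ker_residue (R := A)))
    ((RingHom.quotientKerEquivOfSurjective (f := residue A) residue_surjective).symm
      (residue A a)) = _
  have h1 : (RingHom.quotientKerEquivOfSurjective (f := residue A) residue_surjective).symm
      (residue A a) = Ideal.Quotient.mk _ a := by
    rw [RingEquiv.symm_apply_eq]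
    rfl
  rw [h1]
  rfl

/-- if the map on differentials is injective after passing to the residue field, derivations of
the base field whose values are killed by the maximal ideal extend. -/
theorem exists_derivation_of_residue
    (hinj : Function.Injective
      ((KaehlerDifferential.mapBaseChange ℤ k A).lTensor (ResidueField A)))
    (N : Type u) [AddCommGroup N] [Module A N] [Module k N] [IsScalarTower k A N]
    (δ : Derivation ℤ k N) (hN : ∀ x ∈ maximalIdeal A, ∀ t : k, x • δ t = 0) :
    ∃ D : Derivation ℤ A N, ∀ t, D (algebraMap k A t) = δ t := by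
  let T : Submodule A N := Submodule.torsionBySet A N (maximalIdeal A : Set A)
  let _ : Module (ResidueField A) T :=
    Module.compHom T (resEquiv A : ResidueField A →+* A ⧸ maximalIdeal A)
  have hsm : ∀ (c : ResidueField A) (y : T), c • y = (resEquiv A c) • y := fun _ _ => rfl
  have hstT : IsScalarTower A (ResidueField A) T := by
    refine ⟨fun a c y => ?_⟩
    rw [hsm, hsm, Algebra.smul_def, map_mul]
    change (resEquiv A (residue A a) * _) • y = _
    rw [resEquiv_residue, mul_smul]
    rfl
  let φK : (ResidueField A) ⊗[A] (A ⊗[k] Ω[k⁄ℤ]) →ₗ[ResidueField A]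
      (ResidueField A) ⊗[A] Ω[A⁄ℤ] :=
    TensorProduct.AlgebraTensorModule.lTensor (ResidueField A) (ResidueField A)
      (KaehlerDifferential.mapBaseChange ℤ k A)
  have hφK : ∀ z, φK z = (KaehlerDifferential.mapBaseChange ℤ k A).lTensor (ResidueField A) z :=
    fun z => rfl
  have hker : LinearMap.ker φK = ⊥ := LinearMap.ker_eq_bot.mpr (fun a b hab => hinj hab)
  obtain ⟨ρ, hρ⟩ := φK.exists_leftInverse_of_injective hker
  let h₀ : A ⊗[k] Ω[k⁄ℤ] →ₗ[A] N := (δ.liftKaehlerDifferential).liftBaseChange A
  have hδT : ∀ ω : Ω[k⁄ℤ], δ.liftKaehlerDifferential ω ∈ T := by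
    intro ω
    have hmem : ω ∈ Submodule.span k (Set.range (KaehlerDifferential.D ℤ k)) := by
      rw [KaehlerDifferential.span_range_derivation]; trivial
    induction hmem using Submodule.span_induction with
    | mem x hx =>
      obtain ⟨t, rfl⟩ := hx
      rw [Derivation.liftKaehlerDifferential_comp_D, Submodule.mem_torsionBySet_iff]
      intro a
      exact hN a.1 a.2 t
    | zero => rw [map_zero]; exact T.zero_mem
    | add x y _ _ hx hy => rw [map_add]; exact T.add_mem hx hy
    | smul c x _ hx =>
      rw [map_smul, ← algebraMap_smul A c]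
      exact T.smul_mem _ hx
  have hT : ∀ y, h₀ y ∈ T := by
    intro y
    induction y using TensorProduct.induction_on with
    | zero => rw [map_zero]; exact T.zero_mem
    | tmul a ω =>
      rw [LinearMap.liftBaseChange_tmul]
      exact T.smul_mem a (hδT ω)
    | add x y hx hy => rw [map_add]; exact T.add_mem hx hy
  let h₁ : A ⊗[k] Ω[k⁄ℤ] →ₗ[A] T := LinearMap.codRestrict T h₀ hT
  let νN : (ResidueField A) ⊗[A] (A ⊗[k] Ω[k⁄ℤ]) →ₗ[ResidueField A] T :=
    h₁.liftBaseChange (ResidueField A)
  let g : (ResidueField A) ⊗[A] Ω[A⁄ℤ] →ₗ[A] N := T.subtype ∘ₗ ((νN ∘ₗ ρ).restrictScalars A)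
  let D₀ : Derivation ℤ A ((ResidueField A) ⊗[A] Ω[A⁄ℤ]) :=
    (TensorProduct.mk A (ResidueField A) Ω[A⁄ℤ] 1).compDer (KaehlerDifferential.D ℤ A)
  refine ⟨g.compDer D₀, fun t => ?_⟩
  change ((νN (ρ ((1 : ResidueField A) ⊗ₜ[A]
    (KaehlerDifferential.D ℤ A (algebraMap k A t)))) : T) : N) = δ t
  have h1 : (1 : ResidueField A) ⊗ₜ[A] (KaehlerDifferential.D ℤ A (algebraMap k A t)) =
      φK ((1 : ResidueField A) ⊗ₜ[A] ((1 : A) ⊗ₜ[k] (KaehlerDifferential.D ℤ k t))) := by
    rw [hφK, LinearMap.lTensor_tmul, KaehlerDifferential.mapBaseChange_tmul, one_smul,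
      KaehlerDifferential.map_D]
  rw [h1]
  have h2 := LinearMap.congr_fun hρ
    ((1 : ResidueField A) ⊗ₜ[A] ((1 : A) ⊗ₜ[k] (KaehlerDifferential.D ℤ k t)))
  rw [LinearMap.comp_apply, LinearMap.id_apply] at h2
  rw [h2, LinearMap.liftBaseChange_tmul, one_smul]
  change h₀ ((1 : A) ⊗ₜ[k] (KaehlerDifferential.D ℤ k t)) = δ t
  rw [LinearMap.liftBaseChange_tmul, one_smul, Derivation.liftKaehlerDifferential_comp_D]

end Groth.Agent.Lib.Helper5.KahlerInj
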