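import Groth.Agent.Lib.Helper5.KahlerInjC
import Groth.Agent.Lib.Helper5.AdicSmoothDer2
import Groth.Agent.Lib.Helper5.AdicRegF
import Groth.Agent.S4537
import Mathlib

set_option autoImplicit false
universe u

open TensorProduct IsLocalRing KaehlerDifferential

namespace Groth.Agent.Lib.Helper5.KahlerInj

open Groth.Agent.Lib.Helper5.AdicReg (PF)

variable {k A : Type u} [Field k] [CommRing A] [IsLocalRing A] [Algebra k A]

theorem smul_eq_zero_of_mem_smul_top {N : Type u} [AddCommGroup N] [Module A N] (n : ℕ)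
    (hN : ∀ x ∈ maximalIdeal A ^ (n + 1), ∀ y : N, x • y = 0) (x : A) (hx : x ∈ maximalIdeal A)
    (y : N) (hy : y ∈ (maximalIdeal A ^ n) • (⊤ : Submodule A N)) : x • y = 0 := by
  refine Submodule.smul_induction_on hy ?_ ?_
  · intro a ha z _
    rw [← mul_smul]
    apply hN
    rw [pow_succ']
    exact Ideal.mul_mem_mul hx ha
  · intro y z hy hz
    rw [smul_add, hy, hz, add_zero]

theorem ext_aux [Algebra (PF k) A] [IsScalarTower (PF k) k A]
    (hsm : EGA41.IsFormallySmoothAdic (PF k) ⊥ A (maximalIdeal A))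
    (hinj : Function.Injective
      ((KaehlerDifferential.mapBaseChange ℤ k A).lTensor (ResidueField A))) (n : ℕ) :
    ∀ (N : Type u) [AddCommGroup N] [Module A N] [Module k N] [IsScalarTower k A N],
      (∀ x ∈ maximalIdeal A ^ n, ∀ y : N, x • y = 0) → ∀ δ : Derivation ℤ k N,
      ∃ D : Derivation ℤ A N, ∀ t, D (algebraMap k A t) = δ t := by
  induction n with
  | zero =>
    intro N _ _ _ _ hN δ
    have h0 : ∀ y : N, y = 0 := fun y => by
      have := hN 1 (by rw [pow_zero, Ideal.one_eq_top]; trivial) y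
      rwa [one_smul] at this
    exact ⟨0, fun t => (h0 _).trans (h0 _).symm⟩
  | succ n ih =>
    intro N _ _ _ _ hN δ
    let N' : Submodule A N := (maximalIdeal A ^ n) • ⊤
    have hN₁ : ∀ x ∈ maximalIdeal A ^ n, ∀ y : N ⧸ N', x • y = 0 := by
      intro x hx y
      obtain ⟨z, rfl⟩ := N'.mkQ_surjective y
      rw [← map_smul]
      exact (Submodule.Quotient.mk_eq_zero N').2 (Submodule.smul_mem_smul hx trivial)
    let δb : Derivation ℤ k (N ⧸ N') := (N'.mkQ.restrictScalars k).compDer δ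
    obtain ⟨Db, hDb⟩ := ih (N ⧸ N') hN₁ δb
    have htN : Module.IsTorsionBySet A N ((maximalIdeal A ^ (n + 1) : Ideal A) : Set A) :=
      fun y a => hN a.1 a.2 y
    have htN₁ : Module.IsTorsionBySet A (N ⧸ N')
        ((maximalIdeal A ^ (n + 1) : Ideal A) : Set A) := by
      intro y a
      obtain ⟨z, rfl⟩ := N'.mkQ_surjective y
      rw [← map_smul, hN a.1 a.2 z, map_zero]
    let _ : Module (A ⧸ maximalIdeal A ^ (n + 1)) N := htN.module
    let _ : Module (A ⧸ maximalIdeal A ^ (n + 1)) (N ⧸ N') := htN₁.module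
    have hst1 : IsScalarTower A (A ⧸ maximalIdeal A ^ (n + 1)) N := htN.isScalarTower
    have hst2 : IsScalarTower A (A ⧸ maximalIdeal A ^ (n + 1)) (N ⧸ N') := htN₁.isScalarTower
    let f : N →ₗ[A ⧸ maximalIdeal A ^ (n + 1)] N ⧸ N' :=
      { toFun := N'.mkQ
        map_add' := map_add _
        map_smul' := fun e y => by
          obtain ⟨a, rfl⟩ := Ideal.Quotient.mk_surjective e
          exact map_smul N'.mkQ a y }
    have hprime : ∀ a : PF k, δ (algebraMap (PF k) k a) = 0 := fun a =>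
      Groth.Agent.Lib.Helper5.CoeffField.derivation_primeField δ a
    obtain ⟨D₁, -, hD₁⟩ := Groth.Agent.Lib.Helper5.AdicSmoothDer2.exists_derivation_lift
      (⊥ : Ideal (PF k)) (maximalIdeal A) (E := A ⧸ maximalIdeal A ^ (n + 1)) hsm
      ⟨1, by rw [pow_one, Ideal.map_bot]⟩
      ⟨n + 1, fun x hx => Ideal.Quotient.eq_zero_iff_mem.2 hx⟩ f N'.mkQ_surjective Db
      (fun a => by
        rw [IsScalarTower.algebraMap_apply (PF k) k A, hDb]
        change N'.mkQ (δ (algebraMap (PF k) k a)) = 0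
        rw [hprime, map_zero])
    let δ₁ : Derivation ℤ k N := δ - D₁.compAlgebraMap k
    have hδ₁mem : ∀ t, δ₁ t ∈ N' := by
      intro t
      rw [← Submodule.Quotient.mk_eq_zero]
      change N'.mkQ (δ t - D₁ (algebraMap k A t)) = 0
      rw [map_sub]
      have h1 : N'.mkQ (D₁ (algebraMap k A t)) = Db (algebraMap k A t) := hD₁ _
      rw [h1, hDb]
      exact sub_self _
    have hδ₁ : ∀ x ∈ maximalIdeal A, ∀ t : k, x • δ₁ t = 0 := fun x hx t =>
      smul_eq_zero_of_mem_smul_top n hN x hx _ (hδ₁mem t)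
    obtain ⟨D₂, hD₂⟩ := exists_derivation_of_residue hinj N δ₁ hδ₁
    refine ⟨D₁ + D₂, fun t => ?_⟩
    rw [Derivation.add_apply, hD₂]
    change D₁ (algebraMap k A t) + (δ t - D₁ (algebraMap k A t)) = δ t
    abel

end Groth.Agent.Lib.Helper5.KahlerInj
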