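import Mathlib

set_option autoImplicit false

namespace Groth.Agent.Lib.Helper5.KosExt

open Finset

/-- sign of `j` relative to `T` -/
def sgn (R : Type*) [CommRing R] {n : ℕ} (j : Fin n) (T : Finset (Fin n)) : R :=
  (-1) ^ (T.filter (· < j)).card

variable {R : Type*} [CommRing R] {n : ℕ} (x : Fin n → R)

/-- the Koszul differential in coordinates -/
def dC : (Finset (Fin n) → R) →ₗ[R] (Finset (Fin n) → R) where
  toFun z T := ∑ j ∈ Tᶜ, sgn R j T * x j * z (insert j T)
  map_add' z w := by
    funext T
    simp only [Pi.add_apply, mul_add, Finset.sum_add_distrib]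
  map_smul' r z := by
    funext T
    simp only [Pi.smul_apply, smul_eq_mul, RingHom.id_apply, Finset.mul_sum]
    refine Finset.sum_congr rfl fun j _ => ?_
    ring

theorem dC_apply (z : Finset (Fin n) → R) (T : Finset (Fin n)) :
    dC x z T = ∑ j ∈ Tᶜ, sgn R j T * x j * z (insert j T) := rfl

/-- wedge with the `m`-th basis vector on the right -/
def wedge (m : Fin n) : (Finset (Fin n) → R) →ₗ[R] (Finset (Fin n) → R) where
  toFun c S := if m ∈ S then c (S.erase m) else 0
  map_add' z w := by
    funext S
    by_cases h : m ∈ S <;> simp [h]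
  map_smul' r z := by
    funext S
    by_cases h : m ∈ S <;> simp [h]

theorem wedge_apply (m : Fin n) (c : Finset (Fin n) → R) (S : Finset (Fin n)) :
    wedge m c S = if m ∈ S then c (S.erase m) else 0 := rfl

/-- support in degree `q`, variables of index `< k` -/
def Supp (k q : ℕ) (z : Finset (Fin n) → R) : Prop :=
  ∀ S, z S ≠ 0 → S.card = q ∧ ∀ j ∈ S, (j : ℕ) < k

theorem Supp.zero (k q : ℕ) : Supp k q (0 : Finset (Fin n) → R) := fun S h => absurd rfl h

theorem Supp.add {k q : ℕ} {z w : Finset (Fin n) → R} (hz : Supp k q z) (hw : Supp k q w) :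
    Supp k q (z + w) := by
  intro S h
  by_cases h1 : z S = 0
  · by_cases h2 : w S = 0
    · exact absurd (by simp [h1, h2]) h
    · exact hw S h2
  · exact hz S h1

theorem Supp.smul {k q : ℕ} {z : Finset (Fin n) → R} (hz : Supp k q z) (r : R) :
    Supp k q (r • z) := by
  intro S h
  apply hz S
  intro h1
  exact h (by simp [h1])

theorem Supp.mono {k k' q : ℕ} {z : Finset (Fin n) → R} (hz : Supp k q z) (h : k ≤ k') :
    Supp k' q z := fun S hS => ⟨(hz S hS).1, fun j hj => lt_of_lt_of_le ((hz S hS).2 j hj) h⟩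

theorem Supp.eq_zero_of_mem {k q : ℕ} {z : Finset (Fin n) → R} (hz : Supp k q z)
    {S : Finset (Fin n)} {j : Fin n} (hj : j ∈ S) (hk : k ≤ (j : ℕ)) : z S = 0 := by
  by_contra h
  exact absurd ((hz S h).2 j hj) (not_lt.2 hk)

theorem Supp.dC {k q : ℕ} {z : Finset (Fin n) → R} (hz : Supp k (q + 1) z) :
    Supp k q (dC x z) := by
  intro T hT
  rw [dC_apply] at hT
  obtain ⟨j, hj, hne⟩ := Finset.exists_ne_zero_of_sum_ne_zero hT
  have hz' : z (insert j T) ≠ 0 := fun h0 => hne (by rw [h0, mul_zero])
  obtain ⟨h1, h2⟩ := hz _ hz'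
  have hjT : j ∉ T := Finset.mem_compl.1 hj
  rw [Finset.card_insert_of_notMem hjT] at h1
  exact ⟨by omega, fun i hi => h2 i (Finset.mem_insert_of_mem hi)⟩

theorem dC_eq_zero_of_mem {k q : ℕ} {z : Finset (Fin n) → R} (hz : Supp k q z)
    {T : Finset (Fin n)} {j : Fin n} (hj : j ∈ T) (hk : k ≤ (j : ℕ)) : dC x z T = 0 := by
  rw [dC_apply]
  refine Finset.sum_eq_zero fun i _ => ?_
  rw [hz.eq_zero_of_mem (Finset.mem_insert_of_mem hj) hk, mul_zero]

theorem Supp.wedge {q : ℕ} {m : Fin n} {c : Finset (Fin n) → R} (hc : Supp (m : ℕ) q c) :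
    Supp ((m : ℕ) + 1) (q + 1) (wedge m c) := by
  intro S hS
  rw [wedge_apply] at hS
  by_cases hm : m ∈ S
  · rw [if_pos hm] at hS
    obtain ⟨h1, h2⟩ := hc _ hS
    rw [Finset.card_erase_of_mem hm] at h1
    have hpos : 0 < S.card := Finset.card_pos.2 ⟨m, hm⟩
    refine ⟨by omega, fun j hj => ?_⟩
    by_cases hjm : j = m
    · rw [hjm]; omega
    · have := h2 j (Finset.mem_erase.2 ⟨hjm, hj⟩)
      omega
  · rw [if_neg hm] at hS
    exact absurd rfl hS

theorem sgn_eq_of_supp {q : ℕ} {m : Fin n} {c : Finset (Fin n) → R} (hc : Supp (m : ℕ) q c)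
    (T : Finset (Fin n)) : sgn R m T * c T = (-1) ^ q * c T := by
  by_cases h : c T = 0
  · rw [h, mul_zero, mul_zero]
  · obtain ⟨h1, h2⟩ := hc T h
    have : T.filter (· < m) = T := by
      rw [Finset.filter_eq_self]
      intro j hj
      exact Fin.lt_def.2 (h2 j hj)
    unfold sgn
    rw [this, h1]

theorem dC_wedge {q : ℕ} (m : Fin n) {c : Finset (Fin n) → R} (hc : Supp (m : ℕ) q c) :
    dC x (wedge m c) = wedge m (dC x c) + ((-1) ^ q * x m) • c := by
  funext T
  rw [Pi.add_apply, Pi.smul_apply, smul_eq_mul, dC_apply, wedge_apply]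
  by_cases hm : m ∈ T
  · rw [if_pos hm, hc.eq_zero_of_mem hm le_rfl, mul_zero, add_zero, dC_apply,
      Finset.compl_erase, Finset.sum_insert (by simpa using hm), Finset.insert_erase hm,
      hc.eq_zero_of_mem hm le_rfl, mul_zero, zero_add]
    refine Finset.sum_congr rfl fun j hj => ?_
    have hjT : j ∉ T := Finset.mem_compl.1 hj
    have hjm : j ≠ m := fun h => hjT (h ▸ hm)
    rw [wedge_apply, if_pos (Finset.mem_insert_of_mem hm), Finset.erase_insert_of_ne hjm]
    by_cases h0 : c (insert j (T.erase m)) = 0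
    · rw [h0, mul_zero, mul_zero]
    · have hlt : (j : ℕ) < m := (hc _ h0).2 j (Finset.mem_insert_self _ _)
      have : T.filter (· < j) = (T.erase m).filter (· < j) := by
        rw [Finset.filter_erase, Finset.erase_eq_of_notMem]
        intro h
        have := (Finset.mem_filter.1 h).2
        rw [Fin.lt_def] at this
        omega
      unfold sgn
      rw [this]
  · rw [if_neg hm, zero_add]
    rw [Finset.sum_eq_single m]
    · rw [wedge_apply, if_pos (Finset.mem_insert_self _ _), Finset.erase_insert hm]
      rw [mul_right_comm, sgn_eq_of_supp hc, mul_right_comm]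
    · intro j _ hjm
      rw [wedge_apply, if_neg, mul_zero]
      intro h
      rcases Finset.mem_insert.1 h with h | h
      · exact hjm h.symm
      · exact hm h
    · intro h
      exact absurd (Finset.mem_compl.2 hm) h

/-- the ideal generated by the first `k` elements -/
def I (k : ℕ) : Ideal R := Ideal.span (x '' {j : Fin n | (j : ℕ) < k})

theorem dC_single (j : Fin n) (r : R) :
    dC x (Pi.single {j} r) = Pi.single ∅ (x j * r) := by
  funext T
  rw [dC_apply]
  by_cases hT : T = ∅
  · subst hT
    rw [Pi.single_eq_same, Finset.sum_eq_single j]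
    · unfold sgn
      simp
    · intro i _ hij
      rw [Pi.single_eq_of_ne, mul_zero]
      simpa using hij
    · intro h
      simp at h
  · rw [Pi.single_eq_of_ne hT]
    refine Finset.sum_eq_zero fun i hi => ?_
    rw [Pi.single_eq_of_ne, mul_zero]
    intro h
    have hiT : i ∉ T := Finset.mem_compl.1 hi
    have hc := congrArg Finset.card h
    rw [Finset.card_insert_of_notMem hiT, Finset.card_singleton] at hc
    have : T.card = 0 := by omega
    exact hT (Finset.card_eq_zero.1 this)

theorem exists_deg_one (k : ℕ) (r : R) (hr : r ∈ I x k) :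
    ∃ c : Finset (Fin n) → R, Supp k 1 c ∧ dC x c = Pi.single ∅ r := by
  unfold I at hr
  induction hr using Submodule.span_induction with
  | mem y hy =>
    obtain ⟨j, hj, rfl⟩ := hy
    refine ⟨Pi.single {j} 1, ?_, ?_⟩
    · intro S hS
      have : S = {j} := by
        by_contra h
        exact hS (Pi.single_eq_of_ne h _)
      subst this
      refine ⟨Finset.card_singleton j, fun i hi => ?_⟩
      rw [Finset.mem_singleton.1 hi]
      exact hj
    · rw [dC_single, mul_one]
  | zero =>
    exact ⟨0, Supp.zero _ _, by rw [map_zero, Pi.single_zero]⟩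
  | add y y' _ _ h1 h2 =>
    obtain ⟨c1, hc1, hd1⟩ := h1
    obtain ⟨c2, hc2, hd2⟩ := h2
    exact ⟨c1 + c2, hc1.add hc2, by rw [map_add, hd1, hd2, Pi.single_add]⟩
  | smul a y _ h1 =>
    obtain ⟨c1, hc1, hd1⟩ := h1
    refine ⟨a • c1, hc1.smul a, ?_⟩
    rw [map_smul, hd1]
    funext T
    by_cases hT : T = ∅
    · subst hT; simp
    · simp [Pi.single_eq_of_ne hT]

theorem exists_of_dC_eq_zero
    (hreg : ∀ (m : Fin n) (r : R), x m * r ∈ I x m → r ∈ I x m) :
    ∀ k : ℕ, k ≤ n → ∀ (q : ℕ) (z : Finset (Fin n) → R), Supp k (q + 1) z → dC x z = 0 →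
      ∃ w : Finset (Fin n) → R, Supp k (q + 2) w ∧ dC x w = z := by
  intro k
  induction k with
  | zero =>
    intro _ q z hz _
    refine ⟨0, Supp.zero _ _, ?_⟩
    rw [map_zero]
    funext S
    by_contra h
    have hS := hz S (Ne.symm h)
    have hpos : 0 < S.card := by rw [hS.1]; omega
    obtain ⟨j, hj⟩ := Finset.card_pos.1 hpos
    exact absurd (hS.2 j hj) (by omega)
  | succ k ih =>
    intro hk q z hz hdz
    have ih' := ih (by omega)
    let m : Fin n := ⟨k, by omega⟩
    have hmk : (m : ℕ) = k := rfl
    let a : Finset (Fin n) → R := fun S => if m ∈ S then 0 else z S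
    let b : Finset (Fin n) → R := fun S => if m ∈ S then 0 else z (insert m S)
    have ha : Supp k (q + 1) a := by
      intro S hS
      by_cases hm : m ∈ S
      · exact absurd (if_pos hm) hS
      · have h1 : a S = z S := if_neg hm
        rw [h1] at hS
        obtain ⟨h2, h3⟩ := hz S hS
        refine ⟨h2, fun j hj => ?_⟩
        have h4 := h3 j hj
        have h5 : j ≠ m := fun h => hm (h ▸ hj)
        have h6 : (j : ℕ) ≠ k := fun h => h5 (Fin.ext h)
        omega
    have hb : Supp k q b := by
      intro S hS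
      by_cases hm : m ∈ S
      · exact absurd (if_pos hm) hS
      · have h1 : b S = z (insert m S) := if_neg hm
        rw [h1] at hS
        obtain ⟨h2, h3⟩ := hz _ hS
        rw [Finset.card_insert_of_notMem hm] at h2
        refine ⟨by omega, fun j hj => ?_⟩
        have h4 := h3 j (Finset.mem_insert_of_mem hj)
        have h5 : j ≠ m := fun h => hm (h ▸ hj)
        have h6 : (j : ℕ) ≠ k := fun h => h5 (Fin.ext h)
        omega
    have hzab : z = a + wedge m b := by
      funext S
      rw [Pi.add_apply, wedge_apply]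
      by_cases hm : m ∈ S
      · have h1 : a S = 0 := if_pos hm
        have h2 : b (S.erase m) = z (insert m (S.erase m)) := if_neg (Finset.notMem_erase m S)
        rw [h1, if_pos hm, h2, Finset.insert_erase hm, zero_add]
      · have h1 : a S = z S := if_neg hm
        rw [h1, if_neg hm, add_zero]
    have hb' : Supp (m : ℕ) q b := hb
    have hid : dC x a + wedge m (dC x b) + ((-1) ^ q * x m) • b = 0 := by
      rw [← hdz, hzab, map_add, dC_wedge x m hb', add_assoc]
    have hdb : dC x b = 0 := by
      funext T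
      by_cases hm : m ∈ T
      · exact dC_eq_zero_of_mem x hb hm (le_of_eq hmk.symm)
      · have h1 := congrFun hid (insert m T)
        rw [Pi.add_apply, Pi.add_apply, Pi.smul_apply, Pi.zero_apply, wedge_apply,
          if_pos (Finset.mem_insert_self _ _), Finset.erase_insert hm,
          dC_eq_zero_of_mem x ha (Finset.mem_insert_self m T) (le_of_eq hmk.symm)] at h1
        have h2 : b (insert m T) = 0 := if_pos (Finset.mem_insert_self _ _)
        rw [h2, smul_zero, add_zero, zero_add] at h1
        exact h1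
    have hda : dC x a = -(((-1) ^ q * x m) • b) := by
      rw [hdb, map_zero, add_zero] at hid
      exact eq_neg_of_add_eq_zero_left hid
    have hc : ∃ c : Finset (Fin n) → R, Supp k (q + 1) c ∧ dC x c = b := by
      rcases Nat.eq_zero_or_pos q with hq | hq
      · subst hq
        have hb0 : b = Pi.single ∅ (b ∅) := by
          funext S
          by_cases hS : S = ∅
          · subst hS; simp
          · rw [Pi.single_eq_of_ne hS]
            by_contra h
            exact hS (Finset.card_eq_zero.1 (hb S h).1)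
        have hmem : x m * b ∅ ∈ I x m := by
          have h1 := congrFun hda ∅
          rw [Pi.neg_apply, Pi.smul_apply, pow_zero, one_mul, smul_eq_mul] at h1
          rw [← neg_neg (x m * b ∅), ← h1, dC_apply]
          refine (I x m).neg_mem (Ideal.sum_mem _ fun j _ => ?_)
          by_cases h0 : a (insert j ∅) = 0
          · rw [h0, mul_zero]; exact Ideal.zero_mem _
          · have hj : (j : ℕ) < k := (ha _ h0).2 j (Finset.mem_insert_self _ _)
            apply Ideal.mul_mem_right
            apply Ideal.mul_mem_left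
            exact Ideal.subset_span ⟨j, hj, rfl⟩
        obtain ⟨c, hc1, hc2⟩ := exists_deg_one x k (b ∅) (hreg m _ hmem)
        exact ⟨c, hc1, hc2.trans hb0.symm⟩
      · obtain ⟨q', rfl⟩ : ∃ q', q = q' + 1 := ⟨q - 1, by omega⟩
        exact ih' q' b hb hdb
    obtain ⟨c, hc1, hc2⟩ := hc
    have hc1' : Supp (m : ℕ) (q + 1) c := hc1
    let a' : Finset (Fin n) → R := a - ((-1) ^ (q + 1) * x m) • c
    have ha' : Supp k (q + 1) a' := by
      have : a' = a + (-((-1) ^ (q + 1) * x m)) • c := by
        simp only [a', neg_smul, sub_eq_add_neg]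
      rw [this]
      exact ha.add (hc1.smul _)
    have hda' : dC x a' = 0 := by
      simp only [a', map_sub, map_smul, hc2, hda]
      rw [pow_succ]
      funext S
      simp only [Pi.sub_apply, Pi.neg_apply, Pi.smul_apply, smul_eq_mul, Pi.zero_apply]
      ring
    obtain ⟨c', hc'1, hc'2⟩ := ih' q a' ha' hda'
    refine ⟨c' + wedge m c, (hc'1.mono (Nat.le_succ k)).add hc1'.wedge, ?_⟩
    rw [map_add, hc'2, dC_wedge x m hc1', hc2, hzab]
    simp only [a']
    abel

end Groth.Agent.Lib.Helper5.KosExt
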