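import Mathlib
import Groth.Prelude.Def_KoszulSh
import Groth.Agent.Lib.Helper5.KosExtA

set_option autoImplicit false

namespace Groth.Agent.Lib.Helper5.KosExt

open exteriorPower Set.powersetCard

variable {R : Type*} [CommRing R] {M : Type*} [AddCommGroup M] [Module R M] {n : ℕ}
  (b : Module.Basis (Fin n) R M) (φ : M →ₗ[R] R)


/-- coordinates of an element of the exterior power -/
noncomputable def coord (p : ℕ) : ⋀[R]^p M →ₗ[R] (Finset (Fin n) → R) where
  toFun y S := if h : S.card = p then (b.exteriorPower p).repr y (ofCard h) else 0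
  map_add' y y' := by
    funext S
    by_cases h : S.card = p <;> simp [h]
  map_smul' r y := by
    funext S
    by_cases h : S.card = p <;> simp [h]

theorem coord_apply (p : ℕ) (y : ⋀[R]^p M) (S : Finset (Fin n)) :
    coord b p y S = if h : S.card = p then (b.exteriorPower p).repr y (ofCard h) else 0 := rfl

theorem coord_basis (p : ℕ) (t : Set.powersetCard (Fin n) p) :
    coord b p (b.exteriorPower p t) = Pi.single t.val 1 := by
  funext S
  rw [coord_apply]
  by_cases h : S.card = p
  · rw [dif_pos h, Module.Basis.repr_self, Finsupp.single_apply]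
    by_cases hS : S = t.val
    · subst hS
      rw [Pi.single_eq_same, if_pos (show t = ofCard h from Subtype.ext rfl)]
    · rw [Pi.single_eq_of_ne hS, if_neg]
      intro h'
      exact hS (congrArg Subtype.val h').symm
  · rw [dif_neg h, Pi.single_eq_of_ne]
    intro h'
    apply h
    rw [h']
    exact t.prop

theorem coord_injective (p : ℕ) : Function.Injective (coord (n := n) b p) := by
  rw [← LinearMap.ker_eq_bot, LinearMap.ker_eq_bot']
  intro y hy
  apply (b.exteriorPower p).repr.injective
  rw [map_zero]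
  ext t
  have h1 := congrFun hy t.val
  rw [coord_apply, dif_pos (card_eq t)] at h1
  exact h1

theorem supp_coord (p : ℕ) (y : ⋀[R]^p M) : Supp n p (coord b p y) := by
  intro S hS
  rw [coord_apply] at hS
  by_cases h : S.card = p
  · exact ⟨h, fun j _ => j.isLt⟩
  · rw [dif_neg h] at hS
    exact absurd rfl hS

theorem exists_coord_eq (p : ℕ) (w : Finset (Fin n) → R) (hw : Supp n p w) :
    ∃ y : ⋀[R]^p M, coord b p y = w := by
  refine ⟨(b.exteriorPower p).equivFun.symm (fun t => w t.val), ?_⟩
  funext S
  rw [coord_apply]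
  by_cases h : S.card = p
  · rw [dif_pos h, ← Module.Basis.equivFun_apply, LinearEquiv.apply_symm_apply]
    rfl
  · rw [dif_neg h]
    by_contra h'
    exact h (hw S (Ne.symm h')).1

theorem sgn_emb (s : Finset (Fin n)) {p : ℕ} (hs : s.card = p) (i : Fin p) :
    sgn R (s.orderEmbOfFin hs i) s = (-1) ^ (i : ℕ) := by
  unfold sgn
  congr 1
  have : s.filter (· < s.orderEmbOfFin hs i) =
      (Finset.Iio i).map (s.orderEmbOfFin hs).toEmbedding := by
    ext k
    simp only [Finset.mem_filter, Finset.mem_map, Finset.mem_Iio, RelEmbedding.coe_toEmbedding]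
    constructor
    · rintro ⟨h1, h2⟩
      have hk : k ∈ Set.range (s.orderEmbOfFin hs) := by
        rw [Finset.range_orderEmbOfFin]
        exact h1
      obtain ⟨i', rfl⟩ := hk
      exact ⟨i', (s.orderEmbOfFin hs).lt_iff_lt.1 h2, rfl⟩
    · rintro ⟨i', h1, rfl⟩
      exact ⟨Finset.orderEmbOfFin_mem s hs i', (s.orderEmbOfFin hs).lt_iff_lt.2 h1⟩
  rw [this, Finset.card_map, Fin.card_Iio]

theorem dC_single_set (x : Fin n → R) (s : Finset (Fin n)) :
    dC x (Pi.single s 1) = ∑ j ∈ s, (sgn R j s * x j) • Pi.single (s.erase j) (1 : R) := by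
  funext T
  rw [dC_apply, Finset.sum_apply]
  simp only [Pi.smul_apply, Pi.single_apply, smul_eq_mul, mul_ite, mul_one, mul_zero]
  rw [← Finset.sum_filter, ← Finset.sum_filter]
  have hset : Finset.filter (fun j => insert j T = s) Tᶜ =
      Finset.filter (fun j => T = s.erase j) s := by
    ext j
    simp only [Finset.mem_filter, Finset.mem_compl]
    constructor
    · rintro ⟨h1, h2⟩
      subst h2
      exact ⟨Finset.mem_insert_self _ _, (Finset.erase_insert h1).symm⟩
    · rintro ⟨h1, h2⟩
      subst h2
      exact ⟨Finset.notMem_erase _ _, Finset.insert_erase h1⟩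
  rw [hset]
  refine Finset.sum_congr rfl fun j hj => ?_
  have h2 : T = s.erase j := (Finset.mem_filter.1 hj).2
  subst h2
  unfold sgn
  rw [Finset.filter_erase, Finset.erase_eq_of_notMem]
  simp

theorem emb_erase (s : Finset (Fin n)) {p : ℕ} (hs : s.card = p + 1) (i : Fin (p + 1))
    (h' : (s.erase (s.orderEmbOfFin hs i)).card = p) (j : Fin p) :
    s.orderEmbOfFin hs (i.succAbove j) = (s.erase (s.orderEmbOfFin hs i)).orderEmbOfFin h' j := by
  have := Finset.orderEmbOfFin_unique' h'
    (f := (Fin.succAboveOrderEmb i).trans (s.orderEmbOfFin hs)) (fun k => by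
      rw [Finset.mem_erase]
      refine ⟨fun h => ?_, Finset.orderEmbOfFin_mem s hs _⟩
      have := (s.orderEmbOfFin hs).injective h
      exact Fin.succAbove_ne i k this)
  rw [← this]
  rfl

theorem coord_of_rule (p : ℕ) (D : ⋀[R]^(p + 1) M →ₗ[R] ⋀[R]^p M)
    (hD : ∀ e : Fin (p + 1) → M, D (ιMulti R (p + 1) e) = KoszSh.dGen φ p e)
    (y : ⋀[R]^(p + 1) M) :
    coord b p (D y) = dC (fun k => φ (b k)) (coord b (p + 1) y) := by
  have key : (coord b p) ∘ₗ D = (dC (fun k => φ (b k))) ∘ₗ coord b (p + 1) := by
    refine (b.exteriorPower (p + 1)).ext fun s => ?_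
    rw [LinearMap.comp_apply, LinearMap.comp_apply, coord_basis, dC_single_set]
    rw [basis_apply, ιMulti_family, hD, KoszSh.dGen, map_sum]
    have hs : s.val.card = p + 1 := s.prop
    have h := Finset.sum_map Finset.univ (s.val.orderEmbOfFin hs).toEmbedding
      (fun j => (sgn R j s.val * φ (b j)) • Pi.single (s.val.erase j) (1 : R))
    rw [Finset.map_orderEmbOfFin_univ] at h
    rw [h]
    refine Finset.sum_congr rfl fun i _ => ?_
    have h' : (s.val.erase (s.val.orderEmbOfFin hs i)).card = p := by
      rw [Finset.card_erase_of_mem (Finset.orderEmbOfFin_mem _ _ _), hs]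
      rfl
    rw [map_smul]
    have e1 : (fun j => (⇑b ∘ ⇑(ofFinEmbEquiv.symm s)) (i.succAbove j)) =
        b ∘ (ofFinEmbEquiv.symm (ofCard h')) := by
      funext j
      simp only [Function.comp_apply, ofFinEmbEquiv_symm_apply]
      congr 1
      exact emb_erase s.val hs i h' j
    rw [e1]
    have e2 : ιMulti R p (b ∘ (ofFinEmbEquiv.symm (ofCard h'))) =
        b.exteriorPower p (ofCard h') := by
      rw [basis_apply, ιMulti_family]
    rw [e2, coord_basis]
    simp only [Function.comp_apply, ofFinEmbEquiv_symm_apply, RelEmbedding.coe_toEmbedding,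
      val_ofCard]
    rw [sgn_emb]
  exact LinearMap.congr_fun key y

end Groth.Agent.Lib.Helper5.KosExt
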