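import Mathlib
import Groth.Prelude.Def_KoszulSh
import Groth.Agent.Lib.Helper5.KosExtB

set_option autoImplicit false

namespace Groth.Agent.Lib.Helper5.KosExt

open exteriorPower RingTheory.Sequence

variable {R : Type*} [CommRing R] {M : Type*} [AddCommGroup M] [Module R M] {n : ℕ}

theorem ofList_take_eq (x : Fin n → R) (m : Fin n) :
    Ideal.ofList ((List.ofFn x).take m) = I x m := by
  unfold I Ideal.ofList
  congr 1
  ext y
  simp only [Set.mem_setOf_eq, Set.mem_image, List.mem_take_iff_getElem, List.length_ofFn,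
    List.getElem_ofFn]
  constructor
  · rintro ⟨i, hi, rfl⟩
    have hi' : i < n := by omega
    exact ⟨⟨i, hi'⟩, by simp only []; omega, rfl⟩
  · rintro ⟨j, hj, rfl⟩
    exact ⟨j, by have := j.isLt; omega, rfl⟩

theorem reg_of_isWeaklyRegular (x : Fin n → R) (h : IsWeaklyRegular R (List.ofFn x))
    (m : Fin n) (r : R) (hr : x m * r ∈ I x m) : r ∈ I x m := by
  have h1 := (isWeaklyRegular_iff_Fin R _).1 h ⟨m, by simp⟩
  rw [isSMulRegular_quotient_iff_mem_of_smul_mem] at h1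
  have h2 : (Ideal.ofList ((List.ofFn x).take m) • (⊤ : Submodule R R)) = I x m := by
    rw [smul_eq_mul, Ideal.mul_top, ofList_take_eq]
  rw [h2] at h1
  apply h1 r
  have e : (List.ofFn x)[(⟨m, by simp⟩ : Fin (List.ofFn x).length)] = x m := by
    simp
  rw [e]
  exact hr

theorem exact_of_rule (b : Module.Basis (Fin n) R M) (φ : M →ₗ[R] R)
    (hreg : IsWeaklyRegular R (List.ofFn fun k => φ (b k))) (q : ℕ)
    (D₁ : ⋀[R]^(q + 2) M →ₗ[R] ⋀[R]^(q + 1) M) (D₀ : ⋀[R]^(q + 1) M →ₗ[R] ⋀[R]^q M)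
    (h₁ : ∀ e : Fin (q + 2) → M, D₁ (ιMulti R (q + 2) e) = KoszSh.dGen φ (q + 1) e)
    (h₀ : ∀ e : Fin (q + 1) → M, D₀ (ιMulti R (q + 1) e) = KoszSh.dGen φ q e)
    (y : ⋀[R]^(q + 1) M) (hy : D₀ y = 0) : ∃ y' : ⋀[R]^(q + 2) M, D₁ y' = y := by
  have hz := supp_coord b (q + 1) y
  have hdz : dC (fun k => φ (b k)) (coord b (q + 1) y) = 0 := by
    rw [← coord_of_rule b φ q D₀ h₀, hy, map_zero]
  obtain ⟨w, hw, hdw⟩ := exists_of_dC_eq_zero _ (reg_of_isWeaklyRegular _ hreg) n le_rfl q _ hz hdz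
  obtain ⟨y', hy'⟩ := exists_coord_eq b (q + 2) w hw
  refine ⟨y', coord_injective b (q + 1) ?_⟩
  rw [coord_of_rule b φ (q + 1) D₁ h₁, hy', hdw]

end Groth.Agent.Lib.Helper5.KosExt
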