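import Mathlib
import Groth.Prelude.Def_Omega3
import Groth.Agent.Lib.Helper29.FPDict
import Groth.Agent.Lib.Helper5.FlatKind

set_option autoImplicit false
universe u
open CategoryTheory CategoryTheory.Limits AlgebraicGeometry TopologicalSpace Opposite

namespace Groth.Agent.Lib.Helper5.RegSecIso

open Groth.Agent.Lib.Helper28.QCohLoc Groth.Agent.Lib.Helper29.FPDict
  Groth.Agent.Lib.Helper5.FlatKind

variable {X : Scheme.{u}} (E : X.Modules) (s : E ⟶ Coh.structureModule X)

/-- the cosection on sections -/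
noncomputable def sec (W : X.Opens) (e : Γ(E, W)) : Γ(X, W) := OmegaSh.fnSect X W (s.app W e)

/-- chart data: a basis of sections mapping to an `H₁`-regular sequence -/
def Data (n : ℕ) (W : X.Opens) : Prop :=
  ∃ b : Module.Basis (Fin n) Γ(X, W) Γ(E, W), CAlgX.IsH1Regular (fun k => sec E s W (b k))

theorem sec_res {W W' : X.Opens} (h : W' ≤ W) (e : Γ(E, W)) :
    sec E s W' (res E h e) = resO h (sec E s W e) := by
  unfold sec
  rw [app_res]
  rfl

theorem data_basicOpen [E.IsQuasicoherent] {n : ℕ} {W : X.Opens} (hW : IsAffineOpen W)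
    (h : Γ(X, W)) (hd : Data E s n W) : Data E s n (X.basicOpen h) := by
  obtain ⟨b, hb⟩ := hd
  letI := modBasicOpen E h
  haveI := isScalarTower_basicOpen E h
  haveI : IsLocalization.Away h Γ(X, X.basicOpen h) := hW.isLocalization_basicOpen h
  haveI := isLocalizedModule_resLin (isLocOn_of_isQuasicoherent (M := E) hW) h
  let b' : Module.Basis (Fin n) Γ(X, X.basicOpen h) Γ(E, X.basicOpen h) :=
    b.ofIsLocalizedModule Γ(X, X.basicOpen h) (Submonoid.powers h) (resLin E h)
  refine ⟨b', ?_⟩
  have hfl : Module.Flat Γ(X, W) Γ(X, X.basicOpen h) :=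
    IsLocalization.flat Γ(X, X.basicOpen h) (Submonoid.powers h)
  have h1 := h1_of_flat (R' := Γ(X, X.basicOpen h)) _ hb
  convert h1 using 1
  funext k
  change sec E s (X.basicOpen h) (b' k) = _
  rw [Module.Basis.ofIsLocalizedModule_apply]
  exact sec_res E s (X.basicOpen_le h) (b k)

end Groth.Agent.Lib.Helper5.RegSecIso
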