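import Mathlib
import Groth.Prelude.Def_KoszulSh
import Groth.Prelude.Def_FlatMod2
import Groth.Agent.Lib.Helper5.KosExtC
import Groth.Agent.Lib.Helper5.RegSecIsoA
import Groth.Agent.Lib.Helper28.ModExact
import Groth.Agent.Lib.Helper29.FreeIso4

set_option autoImplicit false
universe u
open CategoryTheory CategoryTheory.Limits AlgebraicGeometry TopologicalSpace Opposite

namespace Groth.Agent.Lib.Helper5.KosExt

open Groth.Agent.Lib.Helper28.QCohLoc Groth.Agent.Lib.Helper29.FPDict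
  Groth.Agent.Lib.Helper5.RegSecIso RingTheory.Sequence exteriorPower

variable {X : Scheme.{u}} (E : X.Modules) (s : E ⟶ Coh.structureModule X)

/-- chart data: a basis of sections mapping to a weakly regular sequence -/
def DataW (n : ℕ) (W : X.Opens) : Prop :=
  ∃ b : Module.Basis (Fin n) Γ(X, W) Γ(E, W),
    IsWeaklyRegular Γ(X, W) (List.ofFn fun k => KoszSh.secForm s W (b k))

theorem dataW_basicOpen [E.IsQuasicoherent] {n : ℕ} {W : X.Opens} (hW : IsAffineOpen W)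
    (h : Γ(X, W)) (hd : DataW E s n W) : DataW E s n (X.basicOpen h) := by
  obtain ⟨b, hb⟩ := hd
  let := modBasicOpen E h
  have := isScalarTower_basicOpen E h
  have : IsLocalization.Away h Γ(X, X.basicOpen h) := hW.isLocalization_basicOpen h
  have := isLocalizedModule_resLin (isLocOn_of_isQuasicoherent (M := E) hW) h
  let b' : Module.Basis (Fin n) Γ(X, X.basicOpen h) Γ(E, X.basicOpen h) :=
    b.ofIsLocalizedModule Γ(X, X.basicOpen h) (Submonoid.powers h) (resLin E h)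
  refine ⟨b', ?_⟩
  have hfl : Module.Flat Γ(X, W) Γ(X, X.basicOpen h) :=
    IsLocalization.flat Γ(X, X.basicOpen h) (Submonoid.powers h)
  have h1 := hb.of_flat (S := Γ(X, X.basicOpen h))
  rw [List.map_ofFn] at h1
  convert h1 using 2
  funext k
  change sec E s (X.basicOpen h) (b' k) = _
  rw [Module.Basis.ofIsLocalizedModule_apply]
  exact sec_res E s (X.basicOpen_le h) (b k)

/-- sections of a morphism as a linear map -/
noncomputable def appL {M N : X.Modules} (φ : M ⟶ N) (U : X.Opens) :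
    Γ(M, U) →ₗ[Γ(X, U)] Γ(N, U) where
  toFun := φ.app U
  map_add' := map_add _
  map_smul' r x := Scheme.Modules.Hom.app_smul φ r x

variable {E s}

theorem exists_preimage (C : KoszSh.Cx E s) {n : ℕ} (q : ℕ) (V : X.affineOpens)
    (hd : DataW E s n V.1) (x : Γ(C.K.X (q + 1), V.1))
    (hx : (C.K.d (q + 1) q).app V.1 x = 0) :
    ∃ y : Γ(C.K.X (q + 2), V.1), (C.K.d (q + 2) (q + 1)).app V.1 y = x := by
  obtain ⟨b, hb⟩ := hd
  let D₁ : ⋀[Γ(X, V.1)]^(q + 2) Γ(E, V.1) →ₗ[Γ(X, V.1)] ⋀[Γ(X, V.1)]^(q + 1) Γ(E, V.1) :=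
    (C.loc (q + 1) V).toLinearMap ∘ₗ appL (C.K.d (q + 2) (q + 1)) V.1 ∘ₗ
      (C.loc (q + 2) V).symm.toLinearMap
  let D₀ : ⋀[Γ(X, V.1)]^(q + 1) Γ(E, V.1) →ₗ[Γ(X, V.1)] ⋀[Γ(X, V.1)]^q Γ(E, V.1) :=
    (C.loc q V).toLinearMap ∘ₗ appL (C.K.d (q + 1) q) V.1 ∘ₗ
      (C.loc (q + 1) V).symm.toLinearMap
  have h₁ : ∀ e : Fin (q + 2) → Γ(E, V.1), D₁ (ιMulti _ (q + 2) e) =
      KoszSh.dGen (KoszSh.secForm s V.1) (q + 1) e := by
    intro e
    change (C.loc (q + 1) V) ((C.K.d (q + 2) (q + 1)).app V.1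
      ((C.loc (q + 2) V).symm (ιMulti _ (q + 2) e))) = _
    rw [C.rule (q + 1) V e, LinearEquiv.apply_symm_apply]
  have h₀ : ∀ e : Fin (q + 1) → Γ(E, V.1), D₀ (ιMulti _ (q + 1) e) =
      KoszSh.dGen (KoszSh.secForm s V.1) q e := by
    intro e
    change (C.loc q V) ((C.K.d (q + 1) q).app V.1
      ((C.loc (q + 1) V).symm (ιMulti _ (q + 1) e))) = _
    rw [C.rule q V e, LinearEquiv.apply_symm_apply]
  have hy : D₀ (C.loc (q + 1) V x) = 0 := by
    change (C.loc q V) ((C.K.d (q + 1) q).app V.1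
      ((C.loc (q + 1) V).symm (C.loc (q + 1) V x))) = 0
    rw [LinearEquiv.symm_apply_apply, hx, map_zero]
  obtain ⟨y', hy'⟩ := exact_of_rule b (KoszSh.secForm s V.1) hb q D₁ D₀ h₁ h₀ _ hy
  refine ⟨(C.loc (q + 2) V).symm y', ?_⟩
  apply (C.loc (q + 1) V).injective
  exact hy'

theorem isZero_homology {n : ℕ} (hE : FlatMod.IsFinLocFreeOfRank n E)
    (hs : ∀ x : X, ∃ U : X.affineOpens, x ∈ U.1 ∧ DataW E s n U.1)
    (C : KoszSh.Cx E s) (q : ℕ) : IsZero (C.K.homology (q + 1)) := by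
  have : E.IsQuasicoherent :=
    Groth.Agent.Lib.Helper29.FreeIso.isQuasicoherent_of_isFinLocFree E (fun x => by
      obtain ⟨U, hx, h⟩ := hE x
      exact ⟨U, n, hx, h⟩)
  rw [← HomologicalComplex.exactAt_iff_isZero_homology,
    HomologicalComplex.exactAt_iff' _ (q + 2) (q + 1) q (by simp) (by simp)]
  apply exact_of_locally
  intro U x hx pt hpt
  obtain ⟨U₀, hpt₀, hd⟩ := hs pt
  obtain ⟨f, hle, hxf⟩ := U₀.2.exists_basicOpen_le (V := U) ⟨pt, hpt⟩ hpt₀
  have hV : IsAffineOpen (X.basicOpen f) := U₀.2.basicOpen f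
  have hdV := dataW_basicOpen E s U₀.2 f hd
  have hx' : (C.K.d (q + 1) q).app (X.basicOpen f) (res (C.K.X (q + 1)) hle x) = 0 := by
    rw [app_res, hx, res_zero]
  obtain ⟨y, hy⟩ := exists_preimage C q ⟨X.basicOpen f, hV⟩ hdV _ hx'
  exact ⟨X.basicOpen f, hle, hxf, y, hy⟩

end Groth.Agent.Lib.Helper5.KosExt
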