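import Mathlib
import Groth.Prelude.Def_CAlg
import Groth.Agent.Lib.Helper5.CIFieldA
import Groth.Agent.Lib.Helper5.SerreLoc
import Groth.Agent.Lib.helper11.DimChain
import Groth.Agent.Lib.helper11.RegularCounting
import Groth.Agent.Lib.Helper7.DSeqPrime

set_option autoImplicit false
universe u

namespace Groth.Agent.Lib.Helper5.KosExt

open RingTheory.Sequence IsLocalRing

theorem isRegular_of_height {R : Type u} [CommRing R] [hR : LocCoh.IsCohenMacaulayLocalRing R]
    (c : ℕ) (g : Fin c → R) (hJ : Ideal.span (Set.range g) ≠ ⊤)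
    (hht : (c : ℕ∞) ≤ (Ideal.span (Set.range g)).height) :
    IsRegular R (List.ofFn g) := by
  set J := Ideal.span (Set.range g) with hJdef
  have hJm : J ≤ maximalIdeal R := IsLocalRing.le_maximalIdeal hJ
  have : Nontrivial (R ⧸ J) := Ideal.Quotient.nontrivial_iff.2 hJ
  have : IsLocalRing (R ⧸ J) :=
    IsLocalRing.of_surjective' (Ideal.Quotient.mk J) Ideal.Quotient.mk_surjective
  obtain ⟨b, hb⟩ := Groth.Agent.Lib.Helper5.SerreLoc.exists_finite_ringKrullDim R
  obtain ⟨a, ha⟩ := Groth.Agent.Lib.Helper5.SerreLoc.exists_finite_ringKrullDim (R ⧸ J)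
  have h1 : b ≤ a + c := by
    have h := ringKrullDim_le_ringKrullDim_quotient_add_spanFinrank J
      (by rw [IsLocalRing.ringJacobson_eq_maximalIdeal]; exact hJm)
    have h2 : J.spanFinrank ≤ c := by
      have h3 := Submodule.spanFinrank_span_le_encard (R := R) (Set.range g)
      have h4 : (Set.range g).encard ≤ (c : ℕ∞) := by
        have := Set.encard_image_le g Set.univ
        rw [Set.image_univ] at this
        refine this.trans ?_
        rw [Set.encard_univ]
        simp
      exact_mod_cast h3.trans h4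
    rw [ha, hb] at h
    have h5 : ((b : ℕ) : WithBot ℕ∞) ≤ ((a + J.spanFinrank : ℕ) : WithBot ℕ∞) := by
      push_cast
      exact h
    have h6 : b ≤ a + J.spanFinrank := by exact_mod_cast h5
    omega
  have h2 : c + a ≤ b := by
    obtain ⟨Q, hQ, hQa⟩ := Groth.Agent.Lib.helper11.DimChain.exists_minimalPrimes_dim_eq J a ha
    haveI : Q.IsPrime := hQ.1.1
    have h3 := Groth.Agent.Lib.helper11.RegularCounting.height_add_ringKrullDim_quotient_le Q
    rw [hQa, hb] at h3
    have h4 : (c : ℕ∞) ≤ Q.height := hht.trans (Ideal.height_mono hQ.1.2)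
    have h5 : Q.height ≠ ⊤ := Ideal.height_ne_top (Ideal.IsPrime.ne_top inferInstance)
    obtain ⟨k, hk⟩ := ENat.ne_top_iff_exists.1 h5
    rw [← hk] at h3 h4
    have h6 : ((k + a : ℕ) : WithBot ℕ∞) ≤ ((b : ℕ) : WithBot ℕ∞) := by
      push_cast
      exact h3
    have h7 : k + a ≤ b := by exact_mod_cast h6
    have h8 : c ≤ k := by exact_mod_cast h4
    omega
  have hof : Ideal.ofList (List.ofFn g) = J := Groth.Agent.Lib.Helper7.DSeqPrime.ofList_ofFn g
  apply Groth.Agent.Lib.Helper5.CIField.isRegular_of_dim_drop hR.supportDim_eq_depth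
  · intro r hr
    obtain ⟨k, rfl⟩ := (List.mem_ofFn' g r).1 hr
    exact hJm (Ideal.subset_span ⟨k, rfl⟩)
  · rw [hof, ha, hb, List.length_ofFn]
    have : a + c = b := by omega
    exact_mod_cast this

end Groth.Agent.Lib.Helper5.KosExt
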