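import Mathlib
import Groth.Prelude.Def_KoszulSh
import Groth.Prelude.Def_FlatMod2
import Groth.Agent.Lib.Helper5.KosExtD
import Groth.Agent.Lib.Helper5.KosExtE
import Groth.Agent.Lib.Helper5.RegSpreadRing
import Groth.Agent.Lib.Helper24.SecDvr.Sch

set_option autoImplicit false
universe u
open CategoryTheory CategoryTheory.Limits AlgebraicGeometry TopologicalSpace Opposite

namespace Groth.Agent.Lib.Helper5.KosExt

open RingTheory.Sequence

theorem exists_regular_chart {X Y : Scheme.{u}} [IsLocallyNoetherian X]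
    (hCM : ∀ x : X, LocCoh.IsCohenMacaulayLocalRing (X.presheaf.stalk x))
    (i : Y ⟶ X) [IsClosedImmersion i] (c : ℕ) (y : Y)
    (hgen : ∃ U : X.affineOpens, i y ∈ U.1 ∧ ∃ g : Fin c → Γ(X, U.1),
      i.ker.ideal U = Ideal.span (Set.range g))
    (hht : (c : ℕ∞) ≤ (RingHom.ker (i.stalkMap y).hom).height) :
    ∃ U : X.affineOpens, i y ∈ U.1 ∧ ∃ f : Fin c → Γ(X, U.1),
      i.ker.ideal U = Ideal.span (Set.range f) ∧ IsWeaklyRegular Γ(X, U.1) (List.ofFn f) := by
  obtain ⟨U₀, hy₀, g, hg⟩ := hgen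
  have hU₀ : IsAffineOpen U₀.1 := U₀.2
  have : IsNoetherianRing Γ(X, U₀.1) := IsLocallyNoetherian.component_noetherian U₀
  let := X.presheaf.algebra_section_stalk (U := U₀.1) ⟨i y, hy₀⟩
  have := hU₀.isLocalization_stalk ⟨i y, hy₀⟩
  have := hCM (i y)
  have hker := Groth.Agent.Lib.Helper24.SecDvr.ker_stalkMap i y U₀ hy₀
  have hJ : RingHom.ker (i.stalkMap y).hom =
      Ideal.span (Set.range fun k => algebraMap Γ(X, U₀.1) (X.presheaf.stalk (i y)) (g k)) := by
    rw [hker, hg, Ideal.map_span, ← Set.range_comp]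
    rfl
  have hne : Ideal.span (Set.range fun k =>
      algebraMap Γ(X, U₀.1) (X.presheaf.stalk (i y)) (g k)) ≠ ⊤ := by
    rw [← hJ]
    exact RingHom.ker_ne_top _
  have hreg := isRegular_of_height c
    (fun k => algebraMap Γ(X, U₀.1) (X.presheaf.stalk (i y)) (g k)) hne (hJ ▸ hht)
  have hwr : IsWeaklyRegular (X.presheaf.stalk (i y))
      ((List.ofFn g).map (algebraMap Γ(X, U₀.1) (X.presheaf.stalk (i y)))) := by
    rw [List.map_ofFn]
    exact hreg.toIsWeaklyRegular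
  obtain ⟨h, hhp, hS⟩ := Groth.Agent.Lib.Helper5.RegSpreadRing.exists_away_weaklyRegular
    (hU₀.primeIdealOf ⟨i y, hy₀⟩).asIdeal (X.presheaf.stalk (i y)) (List.ofFn g) hwr
  have := hU₀.isLocalization_basicOpen h
  have hw := hS Γ(X, X.basicOpen h)
  refine ⟨X.affineBasicOpen h, ?_, fun k => algebraMap Γ(X, U₀.1) Γ(X, X.basicOpen h) (g k), ?_, ?_⟩
  · change i y ∈ X.basicOpen h
    rw [Scheme.mem_basicOpen _ _ _ hy₀]
    exact (IsLocalization.AtPrime.isUnit_to_map_iff _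
      (hU₀.primeIdealOf ⟨i y, hy₀⟩).asIdeal _).2 hhp
  · rw [← i.ker.map_ideal_basicOpen U₀ h, hg, Ideal.map_span, ← Set.range_comp]
    rfl
  · rw [List.map_ofFn] at hw
    exact hw

end Groth.Agent.Lib.Helper5.KosExt
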