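import Mathlib
import Groth.Prelude.Def_KoszulSh
import Groth.Prelude.Def_FlatMod2
import Groth.Agent.Lib.Helper5.KosExtD
import Groth.Agent.Lib.Helper29.FreeIso2
import Groth.Agent.Lib.Helper16.RS3

set_option autoImplicit false
universe u
open CategoryTheory CategoryTheory.Limits AlgebraicGeometry TopologicalSpace Opposite

namespace Groth.Agent.Lib.Helper5.KosExt

open RingTheory.Sequence Groth.Agent.Lib.Helper29.FreeIso Groth.Agent.Lib.Helper28.QCohLoc

theorem isWeaklyRegular_map_ringEquiv {A B : Type*} [CommRing A] [CommRing B] (e : A ≃+* B)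
    (xs : List A) (h : IsWeaklyRegular A xs) : IsWeaklyRegular B (xs.map e) := by
  let := e.toRingHom.toAlgebra
  let l : B ≃ₗ[A] A :=
    { e.symm with
      map_smul' := fun a b => by
        change e.symm (e a * b) = a * e.symm b
        rw [map_mul, RingEquiv.symm_apply_apply] }
  have : Module.Flat A B := Module.Flat.of_linearEquiv l
  exact h.of_flat (S := B)

variable (Y : Scheme.{u}) (c : ℕ)

/-- the free module as a biproduct -/
noncomputable def freeIso : B Y c ≅ FlatMod.freeMod Y c :=
  biproduct.isoCoproduct _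

theorem stdSections_freeIso (k : Fin c) :
    stdSections (FlatMod.freeMod Y c) (freeIso Y c) k =
      (Sigma.ι (fun _ : Fin c => Coh.structureModule Y) k).app ⊤ (OmegaSh.strSect Y ⊤ 1) := by
  have h1 : stdSections (FlatMod.freeMod Y c) (freeIso Y c) k =
      (biproduct.ι (fun _ : Fin c => Coh.structureModule Y) k ≫ (freeIso Y c).hom).app ⊤
        (show Γ(Coh.structureModule Y, ⊤) from (1 : Γ(Y, ⊤))) := rfl
  rw [h1]
  unfold freeIso
  rw [biproduct.isoCoproduct_hom, biproduct.ι_desc]
  rfl

/-- the standard basis of global sections of the free module -/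
noncomputable def freeBasis : Module.Basis (Fin c) Γ(Y, ⊤) Γ(FlatMod.freeMod Y c, ⊤) :=
  Module.Basis.mk (v := stdSections (FlatMod.freeMod Y c) (freeIso Y c))
    (Fintype.linearIndependent_iff.2 fun g hg i =>
      stdSections_ind (FlatMod.freeMod Y c) (freeIso Y c) ⊤ g (by
        refine Eq.trans (Finset.sum_congr rfl fun j _ => ?_) hg
        rw [res_self]) i)
    (by
      intro t _
      obtain ⟨a, ha⟩ := stdSections_gen (FlatMod.freeMod Y c) (freeIso Y c) ⊤ t
      rw [ha]
      refine Submodule.sum_mem _ fun j _ => Submodule.smul_mem _ _ ?_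
      rw [res_self]
      exact Submodule.subset_span ⟨j, rfl⟩)

theorem freeBasis_apply (k : Fin c) :
    freeBasis Y c k =
      (Sigma.ι (fun _ : Fin c => Coh.structureModule Y) k).app ⊤ (OmegaSh.strSect Y ⊤ 1) := by
  unfold freeBasis
  rw [Module.Basis.mk_apply, stdSections_freeIso]

theorem isZero_homology_free {X : Scheme.{u}} (U : X.affineOpens) (c : ℕ)
    (f : Fin c → Γ(X, U.1)) (hf : IsWeaklyRegular Γ(X, U.1) (List.ofFn f))
    (s : FlatMod.freeMod (↑U.1) c ⟶ Coh.structureModule (↑U.1))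
    (hs : ∀ k : Fin c, KoszSh.secForm s ⊤
      ((Sigma.ι (fun _ : Fin c => Coh.structureModule (↑U.1)) k).app ⊤
        (OmegaSh.strSect (↑U.1) ⊤ 1)) = U.1.topIso.inv (f k))
    (C : KoszSh.Cx (FlatMod.freeMod (↑U.1) c) s) (q : ℕ) :
    IsZero (C.K.homology (q + 1)) := by
  have : IsAffine (↑U.1 : Scheme.{u}) := U.2
  refine isZero_homology (n := c)
    (fun x => ⟨⊤, trivial, ⟨Groth.Agent.Lib.Helper16.RS.restrictFreeModIso _ c⟩⟩)
    (fun x => ⟨⟨⊤, isAffineOpen_top _⟩, trivial, freeBasis (↑U.1) c, ?_⟩) C q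
  have h1 := isWeaklyRegular_map_ringEquiv U.1.topIso.commRingCatIsoToRingEquiv.symm _ hf
  rw [List.map_ofFn] at h1
  convert h1 using 2
  funext k
  rw [freeBasis_apply, hs k]
  rfl

end Groth.Agent.Lib.Helper5.KosExt
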