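import Mathlib
import Groth.Prelude.Def_KoszulSh
import Groth.Agent.Lib.Helper5.AffGlue
import Groth.Agent.Lib.Helper5.KosExtD

set_option autoImplicit false
universe u
open CategoryTheory CategoryTheory.Limits AlgebraicGeometry TopologicalSpace Opposite

namespace Groth.Agent.Lib.Helper5.KosExt

open Groth.Agent.Lib.Helper28.QCohLoc Groth.Agent.Lib.Helper5.AffGlue exteriorPower

variable {X : Scheme.{u}} {E F : X.Modules} {s : E ⟶ Coh.structureModule X}
  {t : F ⟶ Coh.structureModule X}

theorem Cx.induction_on (C : KoszSh.Cx E s) (p : ℕ) (U : X.affineOpens)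
    {P : Γ(C.K.X p, U.1) → Prop} (h0 : P 0) (hadd : ∀ x y, P x → P y → P (x + y))
    (hsmul : ∀ (a : Γ(X, U.1)) (x : Γ(C.K.X p, U.1)), P x → P (a • x))
    (hι : ∀ e : Fin p → Γ(E, U.1), P ((C.loc p U).symm (ιMulti _ p e)))
    (x : Γ(C.K.X p, U.1)) : P x := by
  have hx : C.loc p U x ∈ Submodule.span Γ(X, U.1) (Set.range (ιMulti Γ(X, U.1) p)) := by
    rw [exteriorPower.ιMulti_span]
    exact Submodule.mem_top
  have key : ∀ y ∈ Submodule.span Γ(X, U.1) (Set.range (ιMulti Γ(X, U.1) p (M := Γ(E, U.1)))),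
      P ((C.loc p U).symm y) := by
    intro y hy
    induction hy using Submodule.span_induction with
    | mem y hy =>
      obtain ⟨e, rfl⟩ := hy
      exact hι e
    | zero => rw [map_zero]; exact h0
    | add y y' _ _ h1 h2 => rw [map_add]; exact hadd _ _ h1 h2
    | smul a y _ h1 => rw [map_smul]; exact hsmul _ _ h1
  have := key _ hx
  rwa [LinearEquiv.symm_apply_apply] at this

variable (f : E ⟶ F) (C : KoszSh.Cx E s) (D : KoszSh.Cx F t)

/-- the exterior power of `f` on sections over an affine open -/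
noncomputable def locMap (p : ℕ) (U : X.affineOpens) :
    Γ(C.K.X p, U.1) →ₗ[Γ(X, U.1)] Γ(D.K.X p, U.1) :=
  (D.loc p U).symm.toLinearMap ∘ₗ exteriorPower.map p (appL f U.1) ∘ₗ (C.loc p U).toLinearMap

theorem locMap_ιMulti (p : ℕ) (U : X.affineOpens) (e : Fin p → Γ(E, U.1)) :
    locMap f C D p U ((C.loc p U).symm (ιMulti _ p e)) =
      (D.loc p U).symm (ιMulti _ p (fun j => f.app U.1 (e j))) := by
  change (D.loc p U).symm (exteriorPower.map p (appL f U.1)
    ((C.loc p U) ((C.loc p U).symm (ιMulti _ p e)))) = _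
  rw [LinearEquiv.apply_symm_apply, exteriorPower.map_apply_ιMulti]
  rfl

theorem locMap_nat (p : ℕ) (U V : X.affineOpens) (h : V.1 ≤ U.1) (x : Γ(C.K.X p, U.1)) :
    locMap f C D p V (res (C.K.X p) h x) = res (D.K.X p) h (locMap f C D p U x) := by
  refine Cx.induction_on C p U (P := fun x => locMap f C D p V (res (C.K.X p) h x) =
    res (D.K.X p) h (locMap f C D p U x)) ?_ ?_ ?_ ?_ x
  · rw [res_zero, map_zero, map_zero, res_zero]
  · intro x y hx hy
    rw [res_add, map_add, map_add, res_add, hx, hy]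
  · intro a x hx
    rw [res_smul, map_smul, map_smul, res_smul, hx]
  · intro e
    have h1 : res (C.K.X p) h ((C.loc p U).symm (ιMulti _ p e)) =
        (C.loc p V).symm (ιMulti _ p (fun j => res E h (e j))) := C.loc_res p U V h e
    rw [h1, locMap_ιMulti, locMap_ιMulti]
    have h2 : res (D.K.X p) h ((D.loc p U).symm (ιMulti _ p (fun j => f.app U.1 (e j)))) =
        (D.loc p V).symm (ιMulti _ p (fun j => res F h (f.app U.1 (e j)))) :=
      D.loc_res p U V h _
    rw [h2]
    congr 2
    funext j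
    rw [app_res]

/-- the affine-local data of the exterior power of `f` -/
noncomputable def homData (p : ℕ) : AffineHomData (C.K.X p) (D.K.X p) where
  φ U := locMap f C D p U
  add _ x y := map_add _ x y
  smul _ a x := map_smul _ a x
  nat U V h x := locMap_nat f C D p U V h x

/-- the exterior power of `f` between the terms of the Koszul complexes -/
noncomputable def extMap (p : ℕ) : C.K.X p ⟶ D.K.X p := (homData f C D p).hom

theorem extMap_app (p : ℕ) (U : X.affineOpens) (x : Γ(C.K.X p, U.1)) :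
    (extMap f C D p).app U.1 x = locMap f C D p U x :=
  (homData f C D p).hom_app U x

theorem map_dGen (hf : f ≫ t = s) (p : ℕ) (U : X.affineOpens) (e : Fin (p + 1) → Γ(E, U.1)) :
    exteriorPower.map p (appL f U.1) (KoszSh.dGen (KoszSh.secForm s U.1) p e) =
      KoszSh.dGen (KoszSh.secForm t U.1) p (fun j => f.app U.1 (e j)) := by
  unfold KoszSh.dGen
  rw [map_sum]
  refine Finset.sum_congr rfl fun i _ => ?_
  rw [map_smul, exteriorPower.map_apply_ιMulti]
  have h1 : KoszSh.secForm s U.1 (e i) = KoszSh.secForm t U.1 (f.app U.1 (e i)) := by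
    rw [KoszSh.secForm_apply, KoszSh.secForm_apply, ← hf]
    rfl
  rw [h1]
  rfl

theorem extMap_comm (hf : f ≫ t = s) (p : ℕ) :
    extMap f C D (p + 1) ≫ D.K.d (p + 1) p = C.K.d (p + 1) p ≫ extMap f C D p := by
  apply hom_ext_affine
  intro U x
  refine Cx.induction_on C (p + 1) U (P := fun x =>
    (extMap f C D (p + 1) ≫ D.K.d (p + 1) p).app U.1 x =
      (C.K.d (p + 1) p ≫ extMap f C D p).app U.1 x) ?_ ?_ ?_ ?_ x
  · rw [map_zero, map_zero]
  · intro x y hx hy
    rw [map_add, map_add, hx, hy]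
  · intro a x hx
    rw [Scheme.Modules.Hom.app_smul, Scheme.Modules.Hom.app_smul, hx]
  · intro e
    have h1 : (extMap f C D (p + 1) ≫ D.K.d (p + 1) p).app U.1
        ((C.loc (p + 1) U).symm (ιMulti _ (p + 1) e)) =
        (D.K.d (p + 1) p).app U.1 ((extMap f C D (p + 1)).app U.1
          ((C.loc (p + 1) U).symm (ιMulti _ (p + 1) e))) := rfl
    have h2 : (C.K.d (p + 1) p ≫ extMap f C D p).app U.1
        ((C.loc (p + 1) U).symm (ιMulti _ (p + 1) e)) =
        (extMap f C D p).app U.1 ((C.K.d (p + 1) p).app U.1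
          ((C.loc (p + 1) U).symm (ιMulti _ (p + 1) e))) := rfl
    rw [h1, h2, extMap_app, locMap_ιMulti, D.rule p U, C.rule p U e, extMap_app]
    change _ = (D.loc p U).symm (exteriorPower.map p (appL f U.1)
      ((C.loc p U) ((C.loc p U).symm (KoszSh.dGen (KoszSh.secForm s U.1) p e))))
    rw [LinearEquiv.apply_symm_apply, map_dGen f hf]

/-- the chain map of Koszul complexes induced by `f` -/
noncomputable def chainMap (hf : f ≫ t = s) : C.K ⟶ D.K where
  f p := extMap f C D p
  comm' i j hij := by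
    obtain rfl : j + 1 = i := hij
    exact extMap_comm f C D hf j

theorem existsUnique_chainMap (hf : f ≫ t = s) :
    ∃! φ : C.K ⟶ D.K, ∀ (p : ℕ) (U : X.affineOpens) (e : Fin p → Γ(E, U.1)),
      (φ.f p).app U.1 ((C.loc p U).symm (ιMulti _ p e)) =
        (D.loc p U).symm (ιMulti _ p (fun j => f.app U.1 (e j))) := by
  refine ⟨chainMap f C D hf, fun p U e => ?_, fun φ hφ => ?_⟩
  · change (extMap f C D p).app U.1 _ = _
    rw [extMap_app, locMap_ιMulti]
  · apply HomologicalComplex.hom_ext
    intro p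
    change φ.f p = extMap f C D p
    apply hom_ext_affine
    intro U x
    refine Cx.induction_on C p U (P := fun x =>
      (φ.f p).app U.1 x = (extMap f C D p).app U.1 x) ?_ ?_ ?_ ?_ x
    · rw [map_zero, map_zero]
    · intro x y hx hy
      rw [map_add, map_add, hx, hy]
    · intro a x hx
      rw [Scheme.Modules.Hom.app_smul, Scheme.Modules.Hom.app_smul, hx]
    · intro e
      rw [hφ p U e, extMap_app, locMap_ιMulti]

end Groth.Agent.Lib.Helper5.KosExt
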