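import Mathlib
import Groth.Prelude.Def_LCI2
import Groth.Agent.Lib.Helper5.KosLow

/-!
# The top degree of the Koszul complex: the annihilator of a Koszul-regular sequence vanishes
-/

set_option autoImplicit false
universe u

open CategoryTheory CategoryTheory.Limits CochainComplex HomComplex

namespace Groth.Agent.Lib.Helper5.KosTop

open Groth.Agent.Lib.Helper5.KosLow

variable {R : Type u} [CommRing R]

/-- explicit description of the Koszul complex in degrees `≤ -length`. -/
theorem top : ∀ (l : List R) (p q : ℤ), p = -(l.length : ℤ) → p + 1 = q →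
    (∀ m : ℤ, m < p → ∀ v : (Koszul.koszul R l).X m, v = 0) ∧
    ∃ θ : R →ₗ[R] (Koszul.koszul R l).X p, Function.Injective θ ∧
      ∀ a : R, ((Koszul.koszul R l).d p q).hom (θ a) = 0 ↔ ∀ x ∈ l, a * x = 0
  | [], p, q, hp, hq => by
    have hp0 : p = 0 := by simpa using hp
    subst hp0
    have hq1 : q = 1 := by omega
    subst hq1
    refine ⟨fun m hm v => ?_, ?_⟩
    · have hz : IsZero ((Koszul.koszul R ([] : List R)).X m) :=
        HomologicalComplex.isZero_single_obj_X (ComplexShape.up ℤ) 0 (ModuleCat.of R R) m
          (by omega)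
      exact (ModuleCat.isZero_iff_subsingleton.1 hz).elim _ _
    · have e : (Koszul.koszul R ([] : List R)).X 0 ≃ₗ[R] R :=
        (HomologicalComplex.singleObjXSelf (ComplexShape.up ℤ) 0 (ModuleCat.of R R)).toLinearEquiv
      refine ⟨e.symm.toLinearMap, e.symm.injective, fun a => ?_⟩
      have hz : IsZero ((Koszul.koszul R ([] : List R)).X 1) :=
        HomologicalComplex.isZero_single_obj_X (ComplexShape.up ℤ) 0 (ModuleCat.of R R) 1
          (by omega)
      constructor
      · intro _ x hx
        simp at hx
      · intro _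
        exact (ModuleCat.isZero_iff_subsingleton.1 hz).elim _ _
  | f :: l, p, q, hp, hq => by
    have hp' : q = -(l.length : ℤ) := by
      simp only [List.length_cons, Nat.cast_add, Nat.cast_one] at hp
      omega
    obtain ⟨hz, θ, hθ, hd⟩ := top l q (q + 1) hp' rfl
    let φ : Koszul.koszul R l ⟶ Koszul.koszul R l := f • 𝟙 (Koszul.koszul R l)
    have hφ : φ = f • 𝟙 (Koszul.koszul R l) := rfl
    refine ⟨fun m hm v => ?_, ?_⟩
    · have key : ∀ w : (mappingCone φ).X m, w = 0 := fun w => by
        rw [decomp φ m (m + 1) rfl w, hz (m + 1) (by omega) (cfst φ m (m + 1) rfl w),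
          hz m (by omega) (csnd φ m w), map_zero, map_zero, add_zero]
      exact key v
    · refine ⟨(cinl φ p q hq).comp θ, ?_, fun a => ?_⟩
      · intro a b hab
        apply hθ
        have hab' : cinl φ p q hq (θ a) = cinl φ p q hq (θ b) := hab
        have := congrArg (cfst φ p q hq) hab'
        rw [cfst_cinl, cfst_cinl] at this
        exact this
      · change ((mappingCone φ).d p q).hom (cinl φ p q hq (θ a)) = 0 ↔ _
        have h1 : cfst φ q (q + 1) rfl (((mappingCone φ).d p q).hom (cinl φ p q hq (θ a))) =
            - ((Koszul.koszul R l).d q (q + 1)).hom (θ a) := by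
          rw [cfst_d φ p q (q + 1) hq rfl, cfst_cinl]
        have h2 : csnd φ q (((mappingCone φ).d p q).hom (cinl φ p q hq (θ a))) = θ (f * a) := by
          rw [csnd_d φ p q hq, cfst_cinl, csnd_cinl, map_zero, add_zero]
          have h3 : (φ.f q).hom (θ a) = f • θ a := by
            rw [hφ]; simp
          rw [h3, ← map_smul, smul_eq_mul]
        constructor
        · intro h0 x hx
          rw [h0, map_zero] at h1 h2
          rcases List.mem_cons.1 hx with hxf | hx'
          · have : f * a = 0 := hθ (by rw [← h2, map_zero])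
            rw [hxf, mul_comm]; exact this
          · exact (hd a).1 (by simpa using h1.symm) x hx'
        · intro h0
          have e1 : ((Koszul.koszul R l).d q (q + 1)).hom (θ a) = 0 :=
            (hd a).2 (fun x hx => h0 x (List.mem_cons_of_mem _ hx))
          have e2 : f * a = 0 := by
            rw [mul_comm]; exact h0 f List.mem_cons_self
          rw [decomp φ q (q + 1) rfl (((mappingCone φ).d p q).hom (cinl φ p q hq (θ a))), h1, h2,
            e1, e2, neg_zero, map_zero, map_zero, map_zero, add_zero]

/-- an element killing a nonempty Koszul-regular sequence vanishes. -/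
theorem eq_zero_of_forall_mul_eq_zero (l : List R) (hl : l ≠ [])
    (h : LCI.IsKoszulRegularSeq R l) (a : R) (ha : ∀ x ∈ l, a * x = 0) : a = 0 := by
  have hlen : 0 < l.length := List.length_pos_iff.2 hl
  obtain ⟨hz, θ, hθ, hd⟩ := top l (-(l.length : ℤ)) (-(l.length : ℤ) + 1) rfl rfl
  have hex : (Koszul.koszul R l).ExactAt (-(l.length : ℤ)) := by
    rw [HomologicalComplex.exactAt_iff_isZero_homology]
    exact h _ (by omega)
  rw [HomologicalComplex.exactAt_iff' _ (-(l.length : ℤ) - 1) (-(l.length : ℤ))
    (-(l.length : ℤ) + 1) (by simp) (by simp), ShortComplex.moduleCat_exact_iff] at hex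
  obtain ⟨y, hy⟩ := hex (θ a) ((hd a).2 ha)
  have hy0 : y = 0 := hz _ (by omega) y
  apply hθ
  rw [map_zero, ← hy, hy0, map_zero]
  rfl

end Groth.Agent.Lib.Helper5.KosTop
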