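import Mathlib
import Groth.Prelude.Def_LCI2
import Groth.Agent.Lib.Helper5.KosTopA
import Groth.Agent.Lib.Helper5.KosBCB
import Groth.Agent.Lib.Helper5.KosPermC
import Groth.Agent.Lib.Helper5.LciA
import Groth.Agent.Lib.Helper5.RegImmB
import Groth.Agent.Lib.Helper5.GorRegSeq

/-!
# A Koszul-regular sequence becomes a regular sequence after a polynomial extension
-/

set_option autoImplicit false
universe u

open RingTheory.Sequence Polynomial

namespace Groth.Agent.Lib.Helper5.KosReg

section Gen

variable {A : Type u} [CommRing A]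

/-- the polynomial `∑ xⱼ Tʲ` -/
noncomputable def gen : List A → A[X]
  | [] => 0
  | x :: l => C x + X * gen l

theorem gen_mem : ∀ l : List A, gen l ∈ Ideal.ofList (l.map (C : A →+* A[X]))
  | [] => by simp [gen]
  | x :: l => by
    rw [gen, List.map_cons, Ideal.ofList_cons]
    exact Ideal.add_mem _ (Ideal.mem_sup_left (Ideal.mem_span_singleton_self _))
      (Ideal.mem_sup_right (Ideal.mul_mem_left _ _ (gen_mem l)))

theorem smul_gen_eq_zero (a : A) : ∀ l : List A, a • gen l = 0 → ∀ x ∈ l, a * x = 0
  | [], _ => by simp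
  | y :: l, h => by
    have h0 : a * y = 0 := by
      have := congrArg (fun p => coeff p 0) h
      simpa [gen] using this
    have h1 : a • gen l = 0 := by
      ext n
      have := congrArg (fun p => coeff p (n + 1)) h
      simpa [gen, coeff_C_succ] using this
    intro x hx
    rcases List.mem_cons.1 hx with hxy | hx'
    · rw [hxy]; exact h0
    · exact smul_gen_eq_zero a l h1 x hx'

theorem gen_mem_nonZeroDivisors (l : List A) (h : ∀ a : A, (∀ x ∈ l, a * x = 0) → a = 0) :
    gen l ∈ nonZeroDivisors A[X] := by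
  by_contra hn
  obtain ⟨a, ha0, ha⟩ := Polynomial.notMem_nonZeroDivisors_iff.1 hn
  exact ha0 (h a (smul_gen_eq_zero a l ha))

theorem ofList_gen_cons (x : A) (l : List A) :
    Ideal.ofList (l.map (C : A →+* A[X]) ++ [gen (x :: l)]) =
      Ideal.ofList ((x :: l).map (C : A →+* A[X])) := by
  have hm : X * gen l ∈ Ideal.ofList (l.map (C : A →+* A[X])) :=
    Ideal.mul_mem_left _ _ (gen_mem l)
  rw [Ideal.ofList_append, Ideal.ofList_singleton, List.map_cons, Ideal.ofList_cons, sup_comm]
  apply le_antisymm
  · refine sup_le ?_ le_sup_right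
    rw [Ideal.span_singleton_le_iff_mem, gen]
    exact Ideal.add_mem _ (Ideal.mem_sup_left (Ideal.mem_span_singleton_self _))
      (Ideal.mem_sup_right hm)
  · refine sup_le ?_ le_sup_right
    rw [Ideal.span_singleton_le_iff_mem]
    have : C x = gen (x :: l) - X * gen l := by rw [gen]; ring
    rw [this]
    exact Ideal.sub_mem _ (Ideal.mem_sup_left (Ideal.mem_span_singleton_self _))
      (Ideal.mem_sup_right hm)

end Gen

theorem wr_of_ringEquiv {S S' : Type u} [CommRing S] [CommRing S'] (e : S ≃+* S') (l : List S)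
    (h : IsWeaklyRegular S l) : IsWeaklyRegular S' (l.map e) := by
  let _ : Algebra S S' := e.toRingHom.toAlgebra
  have hfl : Module.Flat S S' := RingHom.Flat.of_bijective (f := e.toRingHom) e.bijective
  exact IsWeaklyRegular.of_flat h

theorem wr_cons_of_quotient {S S' : Type u} [CommRing S] [CommRing S'] (π : S →+* S')
    (hπ : Function.Surjective π) (a : S) (hker : RingHom.ker π = Ideal.span {a})
    (ha : IsSMulRegular S a) (l : List S) (h : IsWeaklyRegular S' (l.map π)) :
    IsWeaklyRegular S (a :: l) := by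
  refine (isWeaklyRegular_cons_iff' S a l).2 ⟨ha, ?_⟩
  refine ((Groth.Agent.Lib.Helper5.GorRegSeq.quotEquiv a).isWeaklyRegular_congr _).2 ?_
  let e : S' ≃+* (S ⧸ Ideal.span {a}) :=
    (RingHom.quotientKerEquivOfSurjective hπ).symm.trans (Ideal.quotEquivOfEq hker)
  have he : ∀ s : S, e (π s) = Ideal.Quotient.mk (Ideal.span {a}) s := by
    intro s
    change Ideal.quotEquivOfEq hker ((RingHom.quotientKerEquivOfSurjective hπ).symm (π s)) = _
    have : (RingHom.quotientKerEquivOfSurjective hπ).symm (π s) =
        Ideal.Quotient.mk (RingHom.ker π) s := by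
      rw [RingEquiv.symm_apply_eq]
      rfl
    rw [this]
    rfl
  have := wr_of_ringEquiv e _ h
  rw [List.map_map] at this
  have hl : l.map (⇑e ∘ ⇑π) = l.map (Ideal.Quotient.mk (Ideal.span {a})) :=
    List.map_congr_left (fun s _ => he s)
  rw [hl] at this
  exact this

theorem comap_map_eq_self_of_ker_le {S S' : Type u} [CommRing S] [CommRing S'] (π : S →+* S')
    (hπ : Function.Surjective π) (I₁ I₂ : Ideal S) (h₁ : RingHom.ker π ≤ I₁)
    (h₂ : RingHom.ker π ≤ I₂) (h : I₁.map π = I₂.map π) : I₁ = I₂ := by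
  have e₁ := Ideal.comap_map_of_surjective π hπ I₁
  have e₂ := Ideal.comap_map_of_surjective π hπ I₂
  have hk : Ideal.comap π ⊥ = RingHom.ker π := rfl
  rw [hk, sup_eq_left.2 h₁] at e₁
  rw [hk, sup_eq_left.2 h₂] at e₂
  rw [← e₁, ← e₂, h]

/-- **Koszul-regular sequences become regular after a polynomial extension.** -/
theorem exists_poly_regular : ∀ (n : ℕ) (A : Type u) [CommRing A] (l : List A), l.length = n →
    LCI.IsKoszulRegularSeq A l →
    ∃ (σ : Type) (_ : Finite σ) (g : List (MvPolynomial σ A)),
      IsWeaklyRegular (MvPolynomial σ A) g ∧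
      Ideal.ofList g = (Ideal.ofList l).map (MvPolynomial.C : A →+* MvPolynomial σ A) := by
  intro n
  induction n with
  | zero =>
    intro A _ l hlen _
    have hl : l = [] := List.length_eq_zero_iff.mp hlen
    subst hl
    refine ⟨PEmpty, inferInstance, [], IsWeaklyRegular.nil _ _, ?_⟩
    rw [Ideal.ofList_nil, Ideal.ofList_nil, Ideal.map_bot]
  | succ n ih =>
    intro A _ l hlen hKR
    obtain ⟨x, l', rfl⟩ : ∃ x l', l = x :: l' := by
      cases l with
      | nil => simp at hlen
      | cons a l' => exact ⟨a, l', rfl⟩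
    have hlen' : l'.length = n := by simpa using hlen
    set g₁ : A[X] := gen (x :: l') with hg₁
    have h0 : ∀ a : A, (∀ y ∈ x :: l', a * y = 0) → a = 0 := fun a ha =>
      Groth.Agent.Lib.Helper5.KosTop.eq_zero_of_forall_mul_eq_zero (x :: l')
        (List.cons_ne_nil _ _) hKR a ha
    have hnzd : g₁ ∈ nonZeroDivisors A[X] := gen_mem_nonZeroDivisors _ h0
    have hreg : IsSMulRegular A[X] g₁ := by
      rw [isSMulRegular_iff_right_eq_zero_of_smul]
      intro y hy
      rw [smul_eq_mul] at hy
      first | exact (mem_nonZeroDivisors_iff.1 hnzd).1 y hy | exact (mem_nonZeroDivisors_iff.1 hnzd).2 y hy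
    have hCflat : (C : A →+* A[X]).Flat := by
      have : (algebraMap A A[X]).Flat := RingHom.flat_algebraMap_iff.2 inferInstance
      exact this
    have KR₁ : LCI.IsKoszulRegularSeq A[X] ((x :: l').map (C : A →+* A[X])) :=
      Groth.Agent.Lib.Helper5.KosBC.isKoszulRegularSeq_map _ hCflat _ hKR
    have KR₂ : LCI.IsKoszulRegularSeq A[X] (l'.map (C : A →+* A[X]) ++ [g₁]) :=
      Groth.Agent.Lib.Helper5.KosPerm.isKoszulRegularSeq_of_length_eq _ _ KR₁ (by simp)
        (ofList_gen_cons x l')
    have KR₃ : LCI.IsKoszulRegularSeq A[X] [g₁] :=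
      Groth.Agent.Lib.Helper5.RegImmB.isKoszulRegularSeq_of_isWeaklyRegular _
        ((isWeaklyRegular_cons_iff _ _ _).2 ⟨hreg, IsWeaklyRegular.nil _ _⟩)
    have KR₄ := Groth.Agent.Lib.Helper5.Lci.isKoszulRegularSeq_quotient_of_append [g₁]
      (l'.map (C : A →+* A[X])) KR₃ KR₂
    set mk := Ideal.Quotient.mk (Ideal.ofList [g₁]) with hmk
    obtain ⟨σ, hσ, g₂, hg₂, hI₂⟩ := ih (A[X] ⧸ Ideal.ofList [g₁])
      ((l'.map (C : A →+* A[X])).map mk) (by simpa using hlen') KR₄
    let π : MvPolynomial σ A[X] →+* MvPolynomial σ (A[X] ⧸ Ideal.ofList [g₁]) :=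
      MvPolynomial.map mk
    have hπ : Function.Surjective π := MvPolynomial.map_surjective mk Ideal.Quotient.mk_surjective
    have hkerπ : RingHom.ker π = Ideal.span {MvPolynomial.C g₁} := by
      rw [MvPolynomial.ker_map, Ideal.mk_ker, Ideal.ofList_singleton, Ideal.map_span,
        Set.image_singleton]
    obtain ⟨gt, hgt⟩ : ∃ gt : List (MvPolynomial σ A[X]), gt.map π = g₂ := by
      refine ⟨g₂.map (Function.surjInv hπ), ?_⟩
      rw [List.map_map]
      conv_rhs => rw [← List.map_id g₂]
      exact List.map_congr_left (fun a _ => Function.surjInv_eq hπ a)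
    have hregC : IsSMulRegular (MvPolynomial σ A[X]) (MvPolynomial.C g₁ : MvPolynomial σ A[X]) := by
      have := IsSMulRegular.of_flat (S := MvPolynomial σ A[X]) hreg
      rwa [MvPolynomial.algebraMap_eq] at this
    have hWR : IsWeaklyRegular (MvPolynomial σ A[X]) (MvPolynomial.C g₁ :: gt) :=
      wr_cons_of_quotient (S := MvPolynomial σ A[X]) (S' := MvPolynomial σ (A[X] ⧸ Ideal.ofList [g₁])) π hπ _ hkerπ hregC gt (by rw [hgt]; exact hg₂)
    -- the ideal
    have hideal : Ideal.ofList (MvPolynomial.C g₁ :: gt) =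
        ((Ideal.ofList (x :: l')).map (C : A →+* A[X])).map
          (MvPolynomial.C : A[X] →+* MvPolynomial σ A[X]) := by
      have hg₁mem : g₁ ∈ (Ideal.ofList (x :: l')).map (C : A →+* A[X]) := by
        rw [Ideal.map_ofList]; exact gen_mem _
      apply comap_map_eq_self_of_ker_le (S := MvPolynomial σ A[X])
        (S' := MvPolynomial σ (A[X] ⧸ Ideal.ofList [g₁])) π hπ
      · rw [hkerπ, Ideal.span_singleton_le_iff_mem, Ideal.ofList_cons]
        exact Ideal.mem_sup_left (Ideal.mem_span_singleton_self _)
      · rw [hkerπ, Ideal.span_singleton_le_iff_mem]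
        exact Ideal.mem_map_of_mem _ hg₁mem
      · have hπC : π.comp (MvPolynomial.C : A[X] →+* MvPolynomial σ A[X]) =
            (MvPolynomial.C : _ →+* MvPolynomial σ (A[X] ⧸ Ideal.ofList [g₁])).comp mk := by
          refine RingHom.ext fun a => ?_
          simp [π]
        have hπG : π (MvPolynomial.C g₁) = 0 := by
          have : MvPolynomial.C g₁ ∈ RingHom.ker π := by
            rw [hkerπ]; exact Ideal.mem_span_singleton_self _
          exact this
        have e1 : (Ideal.ofList (MvPolynomial.C g₁ :: gt)).map π = Ideal.ofList g₂ := by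
          rw [Ideal.map_ofList, List.map_cons, hgt, hπG,
            Ideal.ofList_cons (0 : MvPolynomial σ (A[X] ⧸ Ideal.ofList [g₁])) g₂]
          simp
        have e3 : ((Ideal.ofList (x :: l')).map (C : A →+* A[X])).map mk =
            Ideal.ofList ((l'.map (C : A →+* A[X])).map mk) := by
          rw [Ideal.map_ofList, Ideal.map_ofList, List.map_cons, List.map_cons,
            Ideal.ofList_cons (mk (C x)) ((l'.map (C : A →+* A[X])).map mk), sup_eq_right,
            Ideal.span_singleton_le_iff_mem]
          have hx : mk (C x) = - mk (X * gen l') := by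
            have hz0 : mk g₁ = 0 := by
              rw [hmk, Ideal.Quotient.eq_zero_iff_mem, Ideal.ofList_singleton]
              exact Ideal.mem_span_singleton_self _
            have hz1 : mk (C x + X * gen l') = 0 := hz0
            rw [map_add] at hz1
            exact eq_neg_of_add_eq_zero_left hz1
          rw [hx, ← Ideal.map_ofList]
          exact neg_mem (Ideal.mem_map_of_mem _ (Ideal.mul_mem_left _ _ (gen_mem l')))
        rw [e1, Ideal.map_map, hπC, ← Ideal.map_map, e3, hI₂]
    -- transport to `MvPolynomial (Option σ) A`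
    let Φ : MvPolynomial (Option σ) A ≃ₐ[A] MvPolynomial σ A[X] :=
      MvPolynomial.optionEquivRight A σ
    refine ⟨Option σ, inferInstance, (MvPolynomial.C g₁ :: gt).map Φ.symm, ?_, ?_⟩
    · exact wr_of_ringEquiv Φ.symm.toRingEquiv _ hWR
    · have h1 : Ideal.ofList ((MvPolynomial.C g₁ :: gt).map Φ.symm) =
          (Ideal.ofList (MvPolynomial.C g₁ :: gt)).map (Φ.symm : _ →+* _) :=
        (Ideal.map_ofList (Φ.symm : MvPolynomial σ A[X] →+* MvPolynomial (Option σ) A) _).symm
      rw [h1, hideal, Ideal.map_map, Ideal.map_map]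
      congr 1
      refine RingHom.ext fun a => ?_
      have : (MvPolynomial.C (C a) : MvPolynomial σ A[X]) =
          algebraMap A (MvPolynomial σ A[X]) a := by
        rw [MvPolynomial.algebraMap_apply]; rfl
      simp only [RingHom.comp_apply]
      rw [this]
      change Φ.symm (algebraMap A _ a) = _
      rw [AlgEquiv.commutes]
      rfl

end Groth.Agent.Lib.Helper5.KosReg
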