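import Mathlib
import Groth.Prelude.Def_RegImm
import Groth.Agent.Lib.Helper5.KosRegB
import Groth.Agent.Lib.Helper5.RegBC

set_option autoImplicit false
universe u

open CategoryTheory CategoryTheory.Limits AlgebraicGeometry TopologicalSpace

namespace Groth.Agent.Lib.Helper5.KosReg

theorem appLE_of_eq {X Y : Scheme.{u}} {f f' : X ⟶ Y} (h : f = f') (U : Y.Opens) (V : X.Opens)
    (e : V ≤ f ⁻¹ᵁ U) : f.appLE U V e = f'.appLE U V (h ▸ e) := by
  subst h; rfl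

/-- a chart `Spec B ⟶ X'` lying over an affine open `U` of `X` -/
theorem exists_ringEquiv_of_chart {X X' : Scheme.{u}} (g : X' ⟶ X) {U : X.Opens}
    (hU : IsAffineOpen U) (B : CommRingCat.{u}) (φ : Γ(X, U) ⟶ B) (ι : Spec B ⟶ X')
    [IsOpenImmersion ι] (hι : ι ≫ g = Spec.map φ ≫ hU.fromSpec) :
    ∃ (e : ι ''ᵁ ⊤ ≤ g ⁻¹ᵁ U) (ψ : B ≃+* Γ(X', ι ''ᵁ ⊤)),
      (ψ : B →+* Γ(X', ι ''ᵁ ⊤)).comp φ.hom = (g.appLE U (ι ''ᵁ ⊤) e).hom := by
  have e : ι ''ᵁ ⊤ ≤ g ⁻¹ᵁ U := by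
    rintro _ ⟨p, -, rfl⟩
    change g (ι p) ∈ U
    rw [← Scheme.Hom.comp_apply, hι, Scheme.Hom.comp_apply]
    have : hU.fromSpec (Spec.map φ p) ∈ hU.fromSpec.opensRange := ⟨_, rfl⟩
    rwa [hU.opensRange_fromSpec] at this
  let Ψ : B ≅ Γ(X', ι ''ᵁ ⊤) := (Scheme.ΓSpecIso B).symm ≪≫ (ι.appIso ⊤).symm
  refine ⟨e, Ψ.commRingCatIsoToRingEquiv, ?_⟩
  have key : φ ≫ Ψ.hom = g.appLE U (ι ''ᵁ ⊤) e := by
    change φ ≫ (Scheme.ΓSpecIso B).inv ≫ (ι.appIso ⊤).inv = _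
    rw [← Category.assoc, Iso.comp_inv_eq, Scheme.Hom.appIso_hom', Scheme.Hom.appLE_comp_appLE,
      appLE_of_eq hι, Scheme.ΓSpecIso_inv_naturality]
    have h1 : (⊤ : (Spec Γ(X, U)).Opens) ≤ hU.fromSpec ⁻¹ᵁ U := by
      rw [hU.fromSpec_preimage_self]
    have h2 : (⊤ : (Spec B).Opens) ≤ Spec.map φ ⁻¹ᵁ ⊤ := le_top
    rw [← Scheme.Hom.appLE_comp_appLE _ _ U ⊤ ⊤ h1 h2]
    congr 1
    rw [Scheme.Hom.appLE, hU.fromSpec_app_self, Category.assoc, ← Functor.map_comp]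
    simp
  have := congrArg CommRingCat.Hom.hom key
  exact this

end Groth.Agent.Lib.Helper5.KosReg

namespace Groth.Agent.Lib.Helper5.KosReg

open RingTheory.Sequence

theorem smooth_Spec_map_C' (R : Type u) [CommRing R] (σ : Type) [Finite σ] :
    Smooth (Spec.map (CommRingCat.ofHom (MvPolynomial.C : R →+* MvPolynomial σ R))) := by
  rw [HasRingHomProperty.Spec_iff (P := @Smooth)]
  change (MvPolynomial.C : R →+* MvPolynomial σ R).Smooth
  rw [← MvPolynomial.algebraMap_eq, RingHom.smooth_algebraMap]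
  exact {}

theorem surjective_Spec_map_C (R : Type u) [CommRing R] (σ : Type)
    (p : Spec (CommRingCat.of R)) :
    ∃ q : Spec (CommRingCat.of (MvPolynomial σ R)),
      Spec.map (CommRingCat.ofHom (MvPolynomial.C : R →+* MvPolynomial σ R)) q = p := by
  have hsec : Spec.map (CommRingCat.ofHom
      (MvPolynomial.eval₂Hom (RingHom.id R) (fun _ : σ => (0 : R)))) ≫
      Spec.map (CommRingCat.ofHom (MvPolynomial.C : R →+* MvPolynomial σ R)) = 𝟙 _ := by
    rw [← Spec.map_comp, ← Spec.map_id]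
    congr 1
    ext a
    simp
  refine ⟨Spec.map (CommRingCat.ofHom
      (MvPolynomial.eval₂Hom (RingHom.id R) (fun _ : σ => (0 : R)))) p, ?_⟩
  rw [← Scheme.Hom.comp_apply, hsec]
  rfl

/-- **Koszul-regular closed immersions become regular after a smooth covering.** -/
theorem exists_smooth_cover {Z X : Scheme.{u}} (i : Z ⟶ X) [IsClosedImmersion i]
    (hi : RegImm.IsRegularImmersion RegImm.Kind.koszul i) :
    ∃ (X' : Scheme.{u}) (g : X' ⟶ X), Smooth g ∧ Surjective g ∧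
      RegImm.IsRegularImmersion RegImm.Kind.regular (pullback.snd i g) := by
  classical
  have hloc : ∀ x : X, ∃ (U : X.affineOpens) (σ : Type) (_ : Finite σ), x ∈ U.1 ∧
      ((∀ z : Z, i z ∉ U.1) ∨
        ∃ h : List (MvPolynomial σ Γ(X, U.1)),
          IsWeaklyRegular (MvPolynomial σ Γ(X, U.1)) h ∧
          Ideal.ofList h = (RingHom.ker (i.app U.1).hom).map
            (MvPolynomial.C : Γ(X, U.1) →+* MvPolynomial σ Γ(X, U.1))) := by
    intro x
    by_cases hx : x ∈ Set.range i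
    · obtain ⟨z, rfl⟩ := hx
      obtain ⟨U, hzU, hc, rs, hrs, hker⟩ := hi.2 z
      obtain ⟨σ, hσ, h, hWR, hI⟩ := exists_poly_regular rs.length Γ(X, U.1) rs rfl hrs
      exact ⟨U, σ, hσ, hzU, Or.inr ⟨h, hWR, by rw [hI, hker]⟩⟩
    · have hopen : IsOpen (Set.range i)ᶜ := i.isClosedEmbedding.isClosed_range.isOpen_compl
      obtain ⟨_, ⟨U, hU, rfl⟩, hxU, hUle⟩ :=
        X.isBasis_affineOpens.exists_subset_of_mem_open hx hopen
      exact ⟨⟨U, hU⟩, PEmpty, inferInstance, hxU, Or.inl (fun z hz => hUle hz ⟨z, rfl⟩)⟩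
  choose U σ hσ hxU hdata using hloc
  let B : X → CommRingCat.{u} := fun x => CommRingCat.of (MvPolynomial (σ x) Γ(X, (U x).1))
  let φ : ∀ x, Γ(X, (U x).1) ⟶ B x := fun x => CommRingCat.ofHom MvPolynomial.C
  let Y : X → Scheme.{u} := fun x => Spec (B x)
  let f : ∀ x, Y x ⟶ X := fun x => Spec.map (φ x) ≫ (U x).2.fromSpec
  refine ⟨∐ Y, Sigma.desc f, ?_, ?_, ?_⟩
  · refine IsZariskiLocalAtSource.sigmaDesc (fun x => ?_)
    have : Smooth (Spec.map (φ x)) := smooth_Spec_map_C' Γ(X, (U x).1) (σ x)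
    change Smooth (Spec.map (φ x) ≫ (U x).2.fromSpec)
    infer_instance
  · refine Surjective.sigmaDesc_of_union_range_eq_univ ?_
    rw [Set.eq_univ_iff_forall]
    intro x
    refine Set.mem_iUnion.2 ⟨x, ?_⟩
    have hx : x ∈ (U x).2.fromSpec.opensRange := by
      rw [(U x).2.opensRange_fromSpec]; exact hxU x
    obtain ⟨p, hp⟩ := hx
    obtain ⟨q, hq⟩ := surjective_Spec_map_C Γ(X, (U x).1) (σ x) p
    refine ⟨q, ?_⟩
    change (Spec.map (φ x) ≫ (U x).2.fromSpec) q = x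
    rw [Scheme.Hom.comp_apply]
    change (U x).2.fromSpec (Spec.map (CommRingCat.ofHom MvPolynomial.C) q) = x
    rw [hq, hp]
  · set g := Sigma.desc f with hg
    set i' := pullback.snd i g with hi'
    refine ⟨inferInstance, fun w => ?_⟩
    obtain ⟨x, p, hp⟩ : ∃ (x : X) (p : Y x), Sigma.ι Y x p = i' w := by
      obtain ⟨x, p, hp⟩ := (Scheme.IsLocallyDirected.openCover (Discrete.functor Y)).exists_eq (i' w)
      exact ⟨x.as, p, hp⟩
    have hι : Sigma.ι Y x ≫ g = Spec.map (φ x) ≫ (U x).2.fromSpec := Sigma.ι_desc f x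
    obtain ⟨e, ψ, hψ⟩ := exists_ringEquiv_of_chart g (U x).2 (B x) (φ x) (Sigma.ι Y x) hι
    have hVaff : IsAffineOpen (Sigma.ι Y x ''ᵁ ⊤) :=
      (isAffineOpen_top (Spec (B x))).image_of_isOpenImmersion (Sigma.ι Y x)
    have hsq : IsPullback (pullback.fst i g) i' i g := IsPullback.of_hasPullback i g
    have hcl : IsClosedImmersion (i ∣_ (U x).1) := inferInstance
    obtain ⟨hci, hker⟩ := Groth.Agent.Lib.Helper5.RegBC.ker_app_of_isPullback i g i'
      (pullback.fst i g) hsq (U x).2 hVaff e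
    have hw : i' w ∈ Sigma.ι Y x ''ᵁ ⊤ := ⟨p, trivial, hp⟩
    refine ⟨⟨Sigma.ι Y x ''ᵁ ⊤, hVaff⟩, hw, hci, ?_⟩
    rcases hdata x with hempty | ⟨h, hWR, hI⟩
    · exfalso
      apply hempty (pullback.fst i g w)
      have : i (pullback.fst i g w) = g (i' w) := by
        rw [← Scheme.Hom.comp_apply, ← Scheme.Hom.comp_apply, pullback.condition]
      rw [this]
      exact e hw
    · have hideal : Ideal.ofList (h.map ψ) =
          RingHom.ker (i'.app (Sigma.ι Y x ''ᵁ ⊤)).hom := by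
        rw [hker, ← hψ, ← Ideal.map_map]
        have : (φ x).hom = (MvPolynomial.C : Γ(X, (U x).1) →+* MvPolynomial (σ x) Γ(X, (U x).1)) :=
          rfl
        rw [this, ← hI, Ideal.map_ofList]
        rfl
      refine ⟨h.map ψ, ?_, hideal.symm⟩
      refine Groth.Agent.Lib.Helper5.RegComp.isRegular_of_weaklyRegular_of_ne_top
        (wr_of_ringEquiv ψ h hWR) ?_
      rw [hideal]
      intro htop
      have h1 : (1 : Γ(∐ Y, Sigma.ι Y x ''ᵁ ⊤)) ∈
          RingHom.ker (i'.app (Sigma.ι Y x ''ᵁ ⊤)).hom := by rw [htop]; trivial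
      rw [RingHom.mem_ker, map_one] at h1
      have : Nontrivial Γ(pullback i g, i' ⁻¹ᵁ (Sigma.ι Y x ''ᵁ ⊤)) := by
        have : Nonempty ↥(i' ⁻¹ᵁ (Sigma.ι Y x ''ᵁ ⊤)) := ⟨⟨w, hw⟩⟩
        infer_instance
      exact one_ne_zero h1

end Groth.Agent.Lib.Helper5.KosReg
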