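import Mathlib
import Groth.Prelude.Def_SGA1t

set_option autoImplicit false
set_option linter.style.haveILetI false
set_option linter.unusedSectionVars false
set_option linter.unusedVariables false

universe u

namespace Groth.Agent.Lib.Helper5.KummerSm

open MvPolynomial TensorProduct

section Coeff

variable {R A : Type u} [CommRing R] [CommRing A] [Algebra R A] {ι : Type}

/-- apply an `R`-linear endomorphism of `A` coefficientwise -/
noncomputable def coeffMap (D : A →ₗ[R] A) : MvPolynomial ι A →ₗ[R] MvPolynomial ι A :=
  (AddMonoidAlgebra.coeffLinearEquiv R).symm.toLinearMap ∘ₗ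
    Finsupp.mapRange.linearMap D ∘ₗ (AddMonoidAlgebra.coeffLinearEquiv R).toLinearMap

theorem coeffMap_monomial (D : A →ₗ[R] A) (m : ι →₀ ℕ) (c : A) :
    coeffMap (ι := ι) D (monomial m c) = monomial m (D c) := by
  apply (AddMonoidAlgebra.coeffLinearEquiv R).injective
  simp only [coeffMap, LinearMap.comp_apply, LinearEquiv.coe_coe, LinearEquiv.apply_symm_apply]
  show Finsupp.mapRange D (map_zero D) (AddMonoidAlgebra.coeff (monomial m c)) =
    AddMonoidAlgebra.coeff (monomial m (D c))
  change Finsupp.mapRange D (map_zero D) (Finsupp.single m c) = Finsupp.single m (D c)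
  exact Finsupp.mapRange_single

/-- the coefficientwise extension of a derivation -/
noncomputable def coeffDer (D : Derivation R A A) :
    Derivation R (MvPolynomial ι A) (MvPolynomial ι A) where
  toLinearMap := coeffMap D.toLinearMap
  map_one_eq_zero' := by
    show coeffMap D.toLinearMap (1 : MvPolynomial ι A) = 0
    have : (1 : MvPolynomial ι A) = monomial 0 1 := rfl
    rw [this, coeffMap_monomial]
    simp
  leibniz' := by
    intro p q
    show coeffMap D.toLinearMap (p * q) = p • coeffMap D.toLinearMap q + q • coeffMap D.toLinearMap p
    induction p using MvPolynomial.induction_on' with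
    | add p₁ p₂ h₁ h₂ =>
      rw [add_mul, map_add, h₁, h₂, map_add, add_smul, smul_add]
      abel
    | monomial m c =>
      induction q using MvPolynomial.induction_on' with
      | add q₁ q₂ h₁ h₂ =>
        rw [mul_add, map_add, h₁, h₂, map_add, add_smul, smul_add]
        abel
      | monomial m' c' =>
        rw [monomial_mul, coeffMap_monomial, coeffMap_monomial, coeffMap_monomial]
        simp only [Derivation.coeFn_coe, Derivation.leibniz, smul_eq_mul, monomial_mul, map_add]
        rw [add_comm m' m]

theorem coeffDer_monomial (D : Derivation R A A) (m : ι →₀ ℕ) (c : A) :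
    coeffDer (ι := ι) D (monomial m c) = monomial m (D c) :=
  coeffMap_monomial D.toLinearMap m c

theorem coeffDer_C (D : Derivation R A A) (c : A) :
    coeffDer (ι := ι) D (C c) = C (D c) :=
  coeffDer_monomial D 0 c

theorem coeffDer_X (D : Derivation R A A) (i : ι) :
    coeffDer (ι := ι) D (X i) = 0 := by
  show coeffDer D (monomial (Finsupp.single i 1) 1) = 0
  rw [coeffDer_monomial]
  simp

end Coeff

end Groth.Agent.Lib.Helper5.KummerSm
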