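import Mathlib
import Groth.Prelude.Def_SGA1t
import Groth.Agent.Lib.Helper5.KummerA

set_option autoImplicit false
set_option linter.style.haveILetI false
set_option linter.unusedSectionVars false
set_option linter.unusedVariables false

universe u

namespace Groth.Agent.Lib.Helper5.KummerSm

open MvPolynomial TensorProduct

section Main

variable {R A : Type u} [CommRing R] [CommRing A] [Algebra R A] {ι : Type}
  (a : ι → A) (n : ι → ℕ)

/-- the Kummer equations -/
noncomputable abbrev gen (i : ι) : MvPolynomial ι A := X i ^ n i - C (a i)

/-- the derivation `P → K` induced by a derivation of `A` (killing the variables) -/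
noncomputable def δ (D : Derivation R A A) :
    Derivation R (MvPolynomial ι A) (SGA1t.kummer A a n) :=
  (Algebra.linearMap (MvPolynomial ι A) (SGA1t.kummer A a n)).compDer (coeffDer D)

theorem δ_apply (D : Derivation R A A) (p : MvPolynomial ι A) :
    δ a n D p = Ideal.Quotient.mk _ (coeffDer D p) := rfl

theorem δ_gen (D : Derivation R A A) (k : ι) :
    δ a n D (gen a n k) = - Ideal.Quotient.mk _ (C (D (a k))) := by
  rw [δ_apply, gen, map_sub, Derivation.leibniz_pow, coeffDer_X, coeffDer_C]
  simp

/-- the extension `A[T] → K` -/
noncomputable abbrev ext : Algebra.Extension.{u} R (SGA1t.kummer A a n) where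
  Ring := MvPolynomial ι A
  σ := Function.surjInv Ideal.Quotient.mk_surjective
  algebraMap_σ := Function.surjInv_eq _

theorem gen_mem_ker (k : ι) : gen a n k ∈ (ext (R := R) a n).ker := by
  show gen a n k ∈ RingHom.ker (algebraMap (MvPolynomial ι A) (SGA1t.kummer A a n))
  rw [RingHom.mem_ker]
  exact Ideal.Quotient.eq_zero_iff_mem.mpr (Ideal.subset_span ⟨k, rfl⟩)

theorem ker_eq : (ext (R := R) a n).ker = Ideal.span (Set.range (gen a n)) := by
  show RingHom.ker (algebraMap (MvPolynomial ι A) (SGA1t.kummer A a n)) = _
  exact Ideal.mk_ker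

end Main

end Groth.Agent.Lib.Helper5.KummerSm
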