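import Mathlib
import Groth.Prelude.Def_SGA1t
import Groth.Agent.Lib.Helper5.KummerB

set_option autoImplicit false
set_option linter.style.haveILetI false
set_option linter.unusedSectionVars false
set_option linter.unusedVariables false

universe u

namespace Groth.Agent.Lib.Helper5.KummerSm

open MvPolynomial TensorProduct Algebra

section Main

variable {R A : Type u} [CommRing R] [CommRing A] [Algebra R A] {ι : Type} [Fintype ι]
  [DecidableEq ι] (a : ι → A) (n : ι → ℕ)

theorem key (D : ι → Derivation R A A) (hD : ∀ i k, D i (a k) = if i = k then 1 else 0)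
    (x : MvPolynomial ι A) (hx : x ∈ (ext (R := R) a n).ker) :
    - ∑ i, (δ a n (D i) x) • Extension.Cotangent.mk (P := ext (R := R) a n)
        ⟨gen a n i, gen_mem_ker a n i⟩ =
      Extension.Cotangent.mk (P := ext (R := R) a n) ⟨x, hx⟩ := by
  have hx' : x ∈ Ideal.span (Set.range (gen a n)) := ker_eq (R := R) a n ▸ hx
  revert hx
  refine Submodule.span_induction (p := fun x _ => ∀ hx : x ∈ (ext (R := R) a n).ker,
    - ∑ i, (δ a n (D i) x) • Extension.Cotangent.mk (P := ext (R := R) a n)
        ⟨gen a n i, gen_mem_ker a n i⟩ =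
      Extension.Cotangent.mk (P := ext (R := R) a n) ⟨x, hx⟩) ?_ ?_ ?_ ?_ hx'
  · rintro _ ⟨k, rfl⟩ hx
    simp only [δ_gen, hD, neg_smul, Finset.sum_neg_distrib, neg_neg]
    rw [Finset.sum_eq_single k]
    · simp
    · intro i _ hik
      rw [if_neg hik, map_zero, map_zero]
      exact zero_smul (SGA1t.kummer A a n) (Extension.Cotangent.mk (P := ext (R := R) a n)
        ⟨gen a n i, gen_mem_ker a n i⟩)
    · intro h
      exact absurd (Finset.mem_univ k) h
  · intro hx
    simp only [map_zero, zero_smul, Finset.sum_const_zero, neg_zero]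
    exact (map_zero (Extension.Cotangent.mk (P := ext (R := R) a n))).symm
  · intro x y _ _ ihx ihy hxy
    have hx : x ∈ (ext (R := R) a n).ker := by rw [ker_eq]; assumption
    have hy : y ∈ (ext (R := R) a n).ker := by rw [ker_eq]; assumption
    have : (⟨x + y, hxy⟩ : (ext (R := R) a n).ker) = ⟨x, hx⟩ + ⟨y, hy⟩ := rfl
    rw [this, map_add, ← ihx hx, ← ihy hy]
    simp only [map_add, add_smul, Finset.sum_add_distrib, neg_add]
  · intro p y _ ihy hpy
    have hy : y ∈ (ext (R := R) a n).ker := by rw [ker_eq]; assumption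
    have : (⟨p • y, hpy⟩ : (ext (R := R) a n).ker) = p • ⟨y, hy⟩ := rfl
    rw [this, map_smul, ← ihy hy]
    have hy0 : algebraMap (MvPolynomial ι A) (SGA1t.kummer A a n) y = 0 := hy
    have hδ : ∀ i, δ a n (D i) (p • y) = p • δ a n (D i) y := by
      intro i
      rw [smul_eq_mul, Derivation.leibniz]
      have h0 : (y : MvPolynomial ι A) • (δ a n (D i) p : SGA1t.kummer A a n) = 0 := by
        have := Algebra.smul_def (y : MvPolynomial ι A) (δ a n (D i) p : SGA1t.kummer A a n)
        rw [hy0, zero_mul] at this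
        exact this
      rw [h0, add_zero]
    simp only [hδ, smul_neg, Finset.smul_sum]
    congr 1
    refine Finset.sum_congr rfl fun i _ => ?_
    have h1 := Algebra.smul_def (p : MvPolynomial ι A) (δ a n (D i) y : SGA1t.kummer A a n)
    rw [h1, mul_smul]
    rfl

end Main

end Groth.Agent.Lib.Helper5.KummerSm
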