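import Mathlib
import Groth.Prelude.Def_SGA1t
import Groth.Agent.Lib.Helper5.KummerC

set_option autoImplicit false
set_option linter.style.haveILetI false
set_option linter.unusedSectionVars false
set_option linter.unusedVariables false

universe u

namespace Groth.Agent.Lib.Helper5.KummerSm

open MvPolynomial TensorProduct Algebra

section Main

variable {R A : Type u} [CommRing R] [CommRing A] [Algebra R A] {ι : Type} [Finite ι] [DecidableEq ι]
  (a : ι → A) (n : ι → ℕ)

/-- **The Kummer algebra is formally smooth** over `R` when the `a_i` are part of a system of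
coordinates of the formally smooth `R`-algebra `A` (there are derivations `D_i` dual to them). -/
theorem formallySmooth_kummer [Algebra.FormallySmooth R A]
    (D : ι → Derivation R A A) (hD : ∀ i k, D i (a k) = if i = k then 1 else 0) :
    Algebra.FormallySmooth R (SGA1t.kummer A a n) := by
  classical
  have : Fintype ι := Fintype.ofFinite ι
  have : Algebra.FormallySmooth R (ext (R := R) a n).Ring :=
    Algebra.FormallySmooth.comp R A (MvPolynomial ι A)
  rw [(ext (R := R) a n).formallySmooth_iff_split_injection]
  let lam : ι → ((ext (R := R) a n).CotangentSpace →ₗ[SGA1t.kummer A a n] SGA1t.kummer A a n) :=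
    fun i => LinearMap.liftBaseChange (SGA1t.kummer A a n) (δ a n (D i)).liftKaehlerDifferential
  let l : (ext (R := R) a n).CotangentSpace →ₗ[SGA1t.kummer A a n] (ext (R := R) a n).Cotangent :=
    - ∑ i, (LinearMap.toSpanSingleton (SGA1t.kummer A a n) (ext (R := R) a n).Cotangent
      (Extension.Cotangent.mk (P := ext (R := R) a n) ⟨gen a n i, gen_mem_ker a n i⟩)) ∘ₗ lam i
  refine ⟨l, LinearMap.ext fun x => ?_⟩
  obtain ⟨⟨x, hx⟩, rfl⟩ := Extension.Cotangent.mk_surjective x
  rw [LinearMap.comp_apply, Extension.cotangentComplex_mk, LinearMap.id_apply]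
  rw [← key a n D hD x hx]
  simp only [l, lam, LinearMap.neg_apply, LinearMap.sum_apply, LinearMap.comp_apply,
    LinearMap.toSpanSingleton_apply, LinearMap.liftBaseChange_tmul, one_smul,
    Derivation.liftKaehlerDifferential_comp_D]

end Main

end Groth.Agent.Lib.Helper5.KummerSm
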