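import Mathlib
import Groth.Prelude.Def_SGA1t
import Groth.Agent.Lib.Helper5.KummerD

set_option autoImplicit false
set_option linter.style.haveILetI false
set_option linter.unusedSectionVars false
set_option linter.unusedVariables false

universe u

namespace Groth.Agent.Lib.Helper5.KummerSm

open MvPolynomial TensorProduct Algebra

/-- coordinates: an étale map from a polynomial ring gives dual derivations on any localization -/
theorem exists_derivations (R₀ B A : Type u) [CommRing R₀] [CommRing B] [CommRing A]
    [Algebra R₀ B] [Algebra B A] [Algebra R₀ A] [IsScalarTower R₀ B A]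
    {ν : Type u} [DecidableEq ν] (w : ν → B)
    (het : (MvPolynomial.eval₂Hom (algebraMap R₀ B) w).Etale)
    (M : Submonoid B) [IsLocalization M A] :
    Algebra.FormallySmooth R₀ A ∧ ∃ D : ν → Derivation R₀ A A,
      ∀ j k, D j (algebraMap B A (w k)) = if j = k then 1 else 0 := by
  let aPB : Algebra (MvPolynomial ν R₀) B := (MvPolynomial.eval₂Hom (algebraMap R₀ B) w).toAlgebra
  have tPB : IsScalarTower R₀ (MvPolynomial ν R₀) B := IsScalarTower.of_algebraMap_eq fun r => by
    show algebraMap R₀ B r = MvPolynomial.eval₂Hom (algebraMap R₀ B) w (MvPolynomial.C r)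
    simp
  have : Algebra.Etale (MvPolynomial ν R₀) B := het
  let aPA : Algebra (MvPolynomial ν R₀) A :=
    ((algebraMap B A).comp (algebraMap (MvPolynomial ν R₀) B)).toAlgebra
  have tPBA : IsScalarTower (MvPolynomial ν R₀) B A := IsScalarTower.of_algebraMap_eq fun _ => rfl
  have tPA : IsScalarTower R₀ (MvPolynomial ν R₀) A := IsScalarTower.of_algebraMap_eq fun r => by
    show algebraMap R₀ A r = algebraMap B A (algebraMap (MvPolynomial ν R₀) B (algebraMap _ _ r))
    rw [← IsScalarTower.algebraMap_apply R₀ (MvPolynomial ν R₀) B,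
      ← IsScalarTower.algebraMap_apply R₀ B A]
  have : Algebra.FormallyEtale B A := Algebra.FormallyEtale.of_isLocalization M
  have : Algebra.FormallyEtale (MvPolynomial ν R₀) A :=
    Algebra.FormallyEtale.comp (MvPolynomial ν R₀) B A
  have : Algebra.FormallySmooth R₀ A := Algebra.FormallySmooth.comp R₀ (MvPolynomial ν R₀) A
  refine ⟨inferInstance, ?_⟩
  let e := KaehlerDifferential.tensorKaehlerEquivOfFormallyEtale R₀ (MvPolynomial ν R₀) A
  let b : Module.Basis ν A Ω[A⁄R₀] :=
    ((KaehlerDifferential.mvPolynomialBasis R₀ ν).baseChange A).map e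
  have hb : ∀ k, b k = KaehlerDifferential.D R₀ A (algebraMap B A (w k)) := by
    intro k
    simp only [b, Module.Basis.map_apply, Module.Basis.baseChange_apply,
      KaehlerDifferential.mvPolynomialBasis_apply, e,
      KaehlerDifferential.tensorKaehlerEquivOfFormallyEtale_apply,
      KaehlerDifferential.mapBaseChange_tmul, one_smul, KaehlerDifferential.map_D]
    congr 1
    show algebraMap B A (MvPolynomial.eval₂Hom (algebraMap R₀ B) w (MvPolynomial.X k)) = _
    simp
  refine ⟨fun j => (b.coord j).compDer (KaehlerDifferential.D R₀ A), fun j k => ?_⟩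
  show b.coord j (KaehlerDifferential.D R₀ A (algebraMap B A (w k))) = _
  rw [← hb, Module.Basis.coord_apply, Module.Basis.repr_self, Finsupp.single_apply]
  simp only [eq_comm]

end Groth.Agent.Lib.Helper5.KummerSm
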