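import Mathlib
import Groth.Prelude.Def_SGA1t
import Groth.Agent.Lib.helper19.SecChart3

set_option autoImplicit false
set_option linter.style.haveILetI false
set_option linter.unusedSectionVars false
set_option linter.unusedVariables false

universe u

open AlgebraicGeometry CategoryTheory CategoryTheory.Limits

namespace Groth.Agent.Lib.Helper5.KummerSm

/-- affine criterion for étaleness of a map to affine space (iff form of helper19's lemma). -/
theorem etale_homOfVector_iff {S T : Scheme.{u}} [IsAffine S] [IsAffine T] (p : T ⟶ S) {n : Type u}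
    (w : n → Γ(T, ⊤)) :
    Etale (AffineSpace.homOfVector p w) ↔
      (MvPolynomial.eval₂Hom p.appTop.hom w : MvPolynomial n Γ(S, ⊤) →+* Γ(T, ⊤)).Etale := by
  rw [HasRingHomProperty.iff_of_isAffine (P := @Etale)]
  let E : MvPolynomial n Γ(S, ⊤) →+* Γ(AffineSpace n S, ⊤) :=
    MvPolynomial.eval₂Hom ((AffineSpace n S ↘ S).appTop).hom (AffineSpace.coord S)
  have hE : CommRingCat.ofHom E = (Scheme.ΓSpecIso _).inv ≫ (AffineSpace.isoOfIsAffine n S).hom.appTop := by
    rw [AffineSpace.isoOfIsAffine_hom_appTop, Iso.inv_hom_id_assoc]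
  have hEbij : Function.Bijective E := by
    have : IsIso (CommRingCat.ofHom E) := by
      rw [hE]
      have : IsIso (AffineSpace.isoOfIsAffine n S).hom := Iso.isIso_hom _
      have : IsIso (AffineSpace.isoOfIsAffine n S).hom.appTop :=
        inferInstanceAs (IsIso ((AffineSpace.isoOfIsAffine n S).hom.app ⊤))
      infer_instance
    exact ConcreteCategory.bijective_of_isIso (CommRingCat.ofHom E)
  let eE : MvPolynomial n Γ(S, ⊤) ≃+* Γ(AffineSpace n S, ⊤) := RingEquiv.ofBijective E hEbij
  have hcomp : (AffineSpace.homOfVector p w).appTop.hom.comp eE.toRingHom =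
      MvPolynomial.eval₂Hom p.appTop.hom w := by
    apply MvPolynomial.ringHom_ext
    · intro a
      simp only [eE, E, RingHom.comp_apply, MvPolynomial.coe_eval₂Hom, MvPolynomial.eval₂_C,
        RingEquiv.toRingHom_eq_coe, RingHom.coe_coe, RingEquiv.ofBijective_apply]
      have h1 : (AffineSpace.homOfVector p w ≫ AffineSpace n S ↘ S).appTop.hom a = p.appTop.hom a := by
        rw [AffineSpace.homOfVector_over]
      rw [Scheme.Hom.comp_appTop] at h1
      exact h1
    · intro i
      simp only [eE, E, RingHom.comp_apply, MvPolynomial.coe_eval₂Hom, MvPolynomial.eval₂_X,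
        RingEquiv.toRingHom_eq_coe, RingHom.coe_coe, RingEquiv.ofBijective_apply]
      exact AffineSpace.homOfVector_appTop_coord p w i
  rw [← hcomp]
  constructor
  · intro h
    exact RingHom.Etale.respectsIso.2 _ eE h
  · intro h
    have h2 := RingHom.Etale.respectsIso.2 _ eE.symm h
    have h3 : ((AffineSpace.homOfVector p w).appTop.hom.comp eE.toRingHom).comp eE.symm.toRingHom =
        (AffineSpace.homOfVector p w).appTop.hom := by
      ext z
      simp
    rw [h3] at h2
    exact h2

end Groth.Agent.Lib.Helper5.KummerSm
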