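import Mathlib
import Groth.Prelude.Def_SGA1t
import Groth.Agent.Lib.Helper5.KummerF

set_option autoImplicit false
set_option linter.style.haveILetI false
set_option linter.unusedSectionVars false
set_option linter.unusedVariables false

universe u

open AlgebraicGeometry CategoryTheory CategoryTheory.Limits

namespace Groth.Agent.Lib.Helper5.KummerSm

open Groth.Agent.Lib.Helper19

set_option maxHeartbeats 800000 in
/-- ring-level étale chart extracted from a scheme-level chart -/
theorem exists_ring_chart {X S : Scheme.{u}} (f : X ⟶ S) (W : X.Opens) (x : X) (hxW : x ∈ W)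
    (d : ℕ) (v : ULift.{u} (Fin d) → Γ(W, ⊤))
    (het : Etale (AffineSpace.homOfVector (W.ι ≫ f) v)) :
    ∃ (U : S.Opens) (_ : IsAffineOpen U) (V : X.Opens) (_ : IsAffineOpen V) (hVU : V ≤ f ⁻¹ᵁ U)
      (_ : x ∈ V) (hVW : V ≤ W) (w : ULift.{u} (Fin d) → Γ(X, V)),
      (MvPolynomial.eval₂Hom (f.appLE U V hVU).hom w).Etale ∧
      ∀ j, w j = X.presheaf.map (homOfLE hVW).op (W.topIso.hom (v j)) := by
  -- affine open of `S`
  obtain ⟨(U : S.Opens), hU, hfxU, -⟩ := (TopologicalSpace.Opens.isBasis_iff_nbhd.1 S.isBasis_affineOpens)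
    (show f x ∈ (⊤ : S.Opens) from trivial)
  have hU' : IsAffineOpen U := hU
  -- affine open of `X`
  obtain ⟨(V : X.Opens), hV, hxV, hVle⟩ := (TopologicalSpace.Opens.isBasis_iff_nbhd.1 X.isBasis_affineOpens)
    (show x ∈ W ⊓ f ⁻¹ᵁ U from ⟨hxW, hfxU⟩)
  have hV' : IsAffineOpen V := hV
  have hVW : V ≤ W := hVle.trans inf_le_left
  have hVU : V ≤ f ⁻¹ᵁ U := hVle.trans inf_le_right
  have : IsAffine (U : Scheme.{u}) := hU'
  have : IsAffine (V : Scheme.{u}) := hV'
  let p : (V : Scheme.{u}) ⟶ (U : Scheme.{u}) := f.resLE U V hVU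
  let v₁ : ULift.{u} (Fin d) → Γ(V, ⊤) := fun j => (X.homOfLE hVW).appTop.hom (v j)
  have hfac : AffineSpace.homOfVector p v₁ ≫ AffineSpace.map (ULift.{u} (Fin d)) U.ι =
      X.homOfLE hVW ≫ AffineSpace.homOfVector (W.ι ≫ f) v := by
    apply AffineSpace.hom_ext
    · simp [p, Scheme.Hom.resLE_comp_ι]
    · intro j
      simp [v₁]
  have := SecChart3.isOpenImmersion_map (ULift.{u} (Fin d)) U.ι
  have : Etale (AffineSpace.homOfVector p v₁ ≫ AffineSpace.map (ULift.{u} (Fin d)) U.ι) := by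
    rw [hfac]
    infer_instance
  have het₁ : Etale (AffineSpace.homOfVector p v₁) :=
    Etale.of_comp _ (AffineSpace.map (ULift.{u} (Fin d)) U.ι)
  rw [etale_homOfVector_iff] at het₁
  let α : Γ(U, ⊤) ≃+* Γ(S, U) := U.topIso.commRingCatIsoToRingEquiv
  let β : Γ(V, ⊤) ≃+* Γ(X, V) := V.topIso.commRingCatIsoToRingEquiv
  let w : ULift.{u} (Fin d) → Γ(X, V) := fun j => β (v₁ j)
  let esrc : MvPolynomial (ULift.{u} (Fin d)) Γ(S, U) ≃+* MvPolynomial (ULift.{u} (Fin d)) Γ(U, ⊤) :=
    MvPolynomial.mapEquiv _ α.symm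
  have key : MvPolynomial.eval₂Hom (f.appLE U V hVU).hom w =
      (β.toRingHom.comp (MvPolynomial.eval₂Hom p.appTop.hom v₁)).comp esrc.toRingHom := by
    apply MvPolynomial.ringHom_ext
    · intro a
      simp only [MvPolynomial.coe_eval₂Hom, MvPolynomial.eval₂_C, RingHom.comp_apply,
        RingEquiv.toRingHom_eq_coe, RingHom.coe_coe, esrc, MvPolynomial.mapEquiv_apply,
        MvPolynomial.map_C]
      have h1 : p.appTop = U.topIso.hom ≫ f.appLE U V hVU ≫ V.topIso.inv :=
        Scheme.Hom.resLE_app_top f hVU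
      rw [h1]
      have hα : U.topIso.hom.hom (α.symm a) = a := by
        show U.topIso.hom.hom (U.topIso.inv.hom a) = a
        rw [← CommRingCat.comp_apply, Iso.inv_hom_id]
        rfl
      have hβ : ∀ b, β (V.topIso.inv.hom b) = b := fun b => by
        show V.topIso.hom.hom (V.topIso.inv.hom b) = b
        rw [← CommRingCat.comp_apply, Iso.inv_hom_id]
        rfl
      show _ = β ((U.topIso.hom ≫ f.appLE U V hVU ≫ V.topIso.inv).hom (α.symm a))
      rw [CommRingCat.comp_apply, CommRingCat.comp_apply, hα, hβ]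
    · intro j
      simp only [MvPolynomial.coe_eval₂Hom, MvPolynomial.eval₂_X, RingHom.comp_apply,
        RingEquiv.toRingHom_eq_coe, RingHom.coe_coe, esrc, MvPolynomial.mapEquiv_apply,
        MvPolynomial.map_X]
      rfl
  refine ⟨U, hU', V, hV', hVU, hxV, hVW, w, ?_, ?_⟩
  · rw [key]
    exact RingHom.Etale.respectsIso.2 _ esrc (RingHom.Etale.respectsIso.1 _ β het₁)
  · intro j
    show V.topIso.hom.hom ((X.homOfLE hVW).appTop.hom (v j)) = _
    rw [Scheme.homOfLE_appTop]
    simp only [Scheme.Opens.topIso_hom, ← CommRingCat.comp_apply]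
    erw [← X.presheaf.map_comp, ← X.presheaf.map_comp]
    rfl

end Groth.Agent.Lib.Helper5.KummerSm
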