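import Mathlib
import Groth.Prelude.Def_SGA1t
import Groth.Agent.Lib.Helper5.KummerE
import Groth.Agent.Lib.Helper5.KummerG

set_option autoImplicit false
set_option linter.style.haveILetI false
set_option linter.unusedSectionVars false
set_option linter.unusedVariables false

universe u

open AlgebraicGeometry CategoryTheory CategoryTheory.Limits

namespace Groth.Agent.Lib.Helper5.KummerSm

/-- computing `appLE` of `Spec K → Spec O_{X,x} → X → S` -/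
theorem appLE_kummer {X S : Scheme.{u}} (f : X ⟶ S) (x : X) (K : CommRingCat.{u})
    (ψ : X.presheaf.stalk x ⟶ K) (U : S.Opens) (V : X.Opens) (hVU : V ≤ f ⁻¹ᵁ U) (hxV : x ∈ V)
    (hle : ⊤ ≤ (Spec.map ψ ≫ X.fromSpecStalk x ≫ f) ⁻¹ᵁ U) :
    (Spec.map ψ ≫ X.fromSpecStalk x ≫ f).appLE U ⊤ hle =
      f.appLE U V hVU ≫ X.presheaf.germ V x hxV ≫ ψ ≫ (Scheme.ΓSpecIso K).inv := by
  have h₃ : (⊤ : (Spec (X.presheaf.stalk x)).Opens) ≤ (X.fromSpecStalk x) ⁻¹ᵁ V := by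
    rw [Scheme.preimage_eq_top_of_closedPoint_mem]
    rw [Scheme.fromSpecStalk_closedPoint]
    exact hxV
  have h₁ : (⊤ : (Spec (X.presheaf.stalk x)).Opens) ≤ (X.fromSpecStalk x ≫ f) ⁻¹ᵁ U :=
    h₃.trans ((TopologicalSpace.Opens.map (X.fromSpecStalk x).base).map (homOfLE hVU)).le
  have h₂ : (⊤ : (Spec K).Opens) ≤ (Spec.map ψ) ⁻¹ᵁ ⊤ := le_rfl
  have e1 := Scheme.Hom.appLE_comp_appLE (Spec.map ψ) (X.fromSpecStalk x ≫ f) U ⊤ ⊤ h₁ h₂
  have e2 := Scheme.Hom.appLE_comp_appLE (X.fromSpecStalk x) f U V ⊤ hVU h₃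
  rw [← e1, ← e2]
  have e3 : (X.fromSpecStalk x).appLE V ⊤ h₃ =
      X.presheaf.germ V x hxV ≫ (Scheme.ΓSpecIso (X.presheaf.stalk x)).inv := by
    rw [Scheme.Hom.appLE, Scheme.fromSpecStalk_app hxV, Category.assoc, Category.assoc,
      ← Functor.map_comp]
    have : ((homOfLE le_top : (X.fromSpecStalk x) ⁻¹ᵁ V ⟶ ⊤).op ≫ (homOfLE h₃).op) = 𝟙 _ :=
      Subsingleton.elim _ _
    rw [this, CategoryTheory.Functor.map_id, Category.comp_id]
  have e4 : (Spec.map ψ).appLE ⊤ ⊤ h₂ = (Spec.map ψ).appTop := by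
    exact Scheme.Hom.appLE_eq_app (f := Spec.map ψ) (U := ⊤)
  rw [e3, e4, Category.assoc, Category.assoc, ← Scheme.ΓSpecIso_inv_naturality]

end Groth.Agent.Lib.Helper5.KummerSm
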