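import Mathlib
import Groth.Agent.Lib.Helper5.KummerH

set_option autoImplicit false
set_option linter.style.haveILetI false
set_option linter.unusedSectionVars false
set_option linter.unusedVariables false

universe u

open AlgebraicGeometry CategoryTheory CategoryTheory.Limits

namespace Groth.Agent.Lib.Helper5.KummerSm

/-- formal smoothness of all the stalk maps of `Spec K → Spec O_{X,x} → X → S` from formal
smoothness of the ring map `Γ(S, U) → Γ(X, V) → O_{X,x} → K`. -/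
theorem stalkMap_formallySmooth_of_chart {X S : Scheme.{u}} (f : X ⟶ S) (x : X)
    (K : CommRingCat.{u}) (ψ : X.presheaf.stalk x ⟶ K) (U : S.Opens) (hU : IsAffineOpen U)
    (V : X.Opens) (hVU : V ≤ f ⁻¹ᵁ U) (hxV : x ∈ V)
    (h : (f.appLE U V hVU ≫ X.presheaf.germ V x hxV ≫ ψ).hom.FormallySmooth)
    (x' : Spec K) :
    ((Spec.map ψ ≫ X.fromSpecStalk x ≫ f).stalkMap x').hom.FormallySmooth := by
  have hle : ⊤ ≤ (Spec.map ψ ≫ X.fromSpecStalk x ≫ f) ⁻¹ᵁ U := by
    intro z _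
    have h₃ : (X.fromSpecStalk x) ⁻¹ᵁ (f ⁻¹ᵁ U) = ⊤ :=
      Scheme.preimage_eq_top_of_closedPoint_mem (X.fromSpecStalk x) (by
        rw [Scheme.fromSpecStalk_closedPoint]; exact hVU hxV)
    have h4 : (Spec.map ψ z) ∈ (X.fromSpecStalk x) ⁻¹ᵁ (f ⁻¹ᵁ U) := h₃ ▸ trivial
    exact h4
  rw [formallySmooth_stalkMap_iff U hU ⊤ (isAffineOpen_top _) hle trivial]
  let aRK' : Algebra Γ(S, U) Γ(Spec K, ⊤) :=
    ((Spec.map ψ ≫ X.fromSpecStalk x ≫ f).appLE U ⊤ hle).hom.toAlgebra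
  have hfs : Algebra.FormallySmooth Γ(S, U) Γ(Spec K, ⊤) := by
    have key := appLE_kummer f x K ψ U V hVU hxV hle
    show ((Spec.map ψ ≫ X.fromSpecStalk x ≫ f).appLE U ⊤ hle).hom.FormallySmooth
    rw [key]
    have h2 : (f.appLE U V hVU ≫ X.presheaf.germ V x hxV ≫ ψ ≫ (Scheme.ΓSpecIso K).inv).hom =
        ((Scheme.ΓSpecIso K).symm.commRingCatIsoToRingEquiv.toRingHom).comp
          (f.appLE U V hVU ≫ X.presheaf.germ V x hxV ≫ ψ).hom := by
      ext r
      simp only [CommRingCat.hom_comp, RingHom.comp_apply]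
      rfl
    rw [h2]
    exact RingHom.FormallySmooth.respectsIso.1 _ _ h
  show Algebra.IsSmoothAt Γ(S, U) _
  have := hfs
  exact Algebra.FormallySmooth.comp Γ(S, U) Γ(Spec K, ⊤) _

end Groth.Agent.Lib.Helper5.KummerSm
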