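import Mathlib
import Groth.Prelude.Def_SGA1t
import Groth.Agent.Lib.Helper5.KummerE
import Groth.Agent.Lib.Helper5.KummerH2

set_option autoImplicit false
set_option linter.style.haveILetI false
set_option linter.unusedSectionVars false
set_option linter.unusedVariables false

universe u

open AlgebraicGeometry CategoryTheory CategoryTheory.Limits

namespace Groth.Agent.Lib.Helper5.KummerSm

set_option maxHeartbeats 1600000 in
/-- **The Kummer scheme over the local ring of a point of a relative strict normal crossings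
divisor is formally smooth over the base at every point.** -/
theorem main {X S : Scheme.{u}} (f : X ⟶ S) {r : ℕ} (φ : Fin r → Γ(X, ⊤))
    (hD : SGA1t.IsRelSNC f φ) (x : X) (hx : Nonempty (SGA1t.vanishingAt φ x))
    (a : SGA1t.vanishingAt φ x → X.presheaf.stalk x)
    (ha : ∀ i, a i = (X.presheaf.germ ⊤ x trivial).hom (φ i.1))
    (n : SGA1t.vanishingAt φ x → ℕ)
    (x' : Spec (CommRingCat.of (SGA1t.kummer (X.presheaf.stalk x) a n))) :
    ((Spec.map (CommRingCat.ofHom (algebraMap (X.presheaf.stalk x)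
        (SGA1t.kummer (X.presheaf.stalk x) a n))) ≫
      X.fromSpecStalk x ≫ f).stalkMap x').hom.FormallySmooth := by
  classical
  obtain ⟨W, hxW, d, v, e, he, het, hv⟩ := hD x hx
  obtain ⟨U, hU, V, hV, hVU, hxV, hVW, w, hw, hwv⟩ := exists_ring_chart f W x hxW d v het
  -- algebra structures
  let aRB : Algebra Γ(S, U) Γ(X, V) := (f.appLE U V hVU).hom.toAlgebra
  let aBA : Algebra Γ(X, V) (X.presheaf.stalk x) := (X.presheaf.germ V x hxV).hom.toAlgebra
  let aRA : Algebra Γ(S, U) (X.presheaf.stalk x) :=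
    ((algebraMap Γ(X, V) (X.presheaf.stalk x)).comp (algebraMap Γ(S, U) Γ(X, V))).toAlgebra
  have tw : IsScalarTower Γ(S, U) Γ(X, V) (X.presheaf.stalk x) :=
    IsScalarTower.of_algebraMap_eq fun _ => rfl
  have hloc : IsLocalization.AtPrime (X.presheaf.stalk x) (hV.primeIdealOf ⟨x, hxV⟩).asIdeal :=
    hV.isLocalization_stalk ⟨x, hxV⟩
  have : Finite (SGA1t.vanishingAt φ x) := by
    unfold SGA1t.vanishingAt
    infer_instance
  obtain ⟨hsm, D, hDw⟩ := exists_derivations Γ(S, U) Γ(X, V) (X.presheaf.stalk x) w hw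
    (hV.primeIdealOf ⟨x, hxV⟩).asIdeal.primeCompl
  have := hsm
  -- the `a i` are coordinates
  have hawe : ∀ i, a i = algebraMap Γ(X, V) (X.presheaf.stalk x) (w (ULift.up (e i))) := by
    intro i
    rw [ha, hwv, hv]
    show _ = (X.presheaf.germ V x hxV).hom _
    have h1 : W.topIso.hom.hom (W.topIso.inv.hom (X.presheaf.map (homOfLE le_top).op (φ i.1))) =
        X.presheaf.map (homOfLE le_top).op (φ i.1) := by
      rw [← CommRingCat.comp_apply, Iso.inv_hom_id]
      rfl
    erw [h1]
    rw [TopCat.Presheaf.germ_res_apply, TopCat.Presheaf.germ_res_apply]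
  have hDa : ∀ i k, D (ULift.up (e i)) (a k) = if i = k then 1 else 0 := by
    intro i k
    rw [hawe k, hDw]
    have : (ULift.up (e i) = ULift.up (e k)) ↔ i = k := by
      rw [ULift.up_inj]
      exact he.eq_iff
    by_cases h : i = k
    · subst h
      rw [if_pos rfl, if_pos rfl]
    · rw [if_neg h, if_neg (fun h' => h (this.mp h'))]
  have hK : Algebra.FormallySmooth Γ(S, U) (SGA1t.kummer (X.presheaf.stalk x) a n) :=
    formallySmooth_kummer a n (fun i => D (ULift.up (e i))) hDa
  refine stalkMap_formallySmooth_of_chart f x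
    (CommRingCat.of (SGA1t.kummer (X.presheaf.stalk x) a n)) _ U hU V hVU hxV ?_ x'
  have h1 : (algebraMap Γ(S, U) (SGA1t.kummer (X.presheaf.stalk x) a n)).FormallySmooth :=
    RingHom.formallySmooth_algebraMap.mpr hK
  have h2 : (f.appLE U V hVU ≫ X.presheaf.germ V x hxV ≫ CommRingCat.ofHom (algebraMap
      (X.presheaf.stalk x) (SGA1t.kummer (X.presheaf.stalk x) a n))).hom =
      algebraMap Γ(S, U) (SGA1t.kummer (X.presheaf.stalk x) a n) := by
    ext r
    simp only [CommRingCat.hom_comp, RingHom.comp_apply]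
    rw [IsScalarTower.algebraMap_apply Γ(S, U) (X.presheaf.stalk x)
      (SGA1t.kummer (X.presheaf.stalk x) a n)]
    rfl
  exact h2 ▸ h1

end Groth.Agent.Lib.Helper5.KummerSm
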