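import Mathlib

set_option autoImplicit false

namespace Groth.Agent.Lib.Helper5.LeftInvMod

universe u v w

section Lift

variable {A : Type*} [CommRing A] (I : Ideal A)

/-- lifting out of a module which is projective over the quotient ring, in `A`-linear form -/
theorem exists_lift_of_projective_quotient {P X Y : Type*} [AddCommGroup P] [Module A P]
    [Module (A ⧸ I) P] [IsScalarTower A (A ⧸ I) P] [Module.Projective (A ⧸ I) P]
    [AddCommGroup X] [Module A X] [AddCommGroup Y] [Module A Y]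
    (hX : ∀ a ∈ I, ∀ x : X, a • x = 0) (hY : ∀ a ∈ I, ∀ y : Y, a • y = 0)
    (f : X →ₗ[A] Y) (hf : Function.Surjective f) (g : P →ₗ[A] Y) :
    ∃ h : P →ₗ[A] X, f ∘ₗ h = g := by
  have hsurjR : Function.Surjective (algebraMap A (A ⧸ I)) := Ideal.Quotient.mk_surjective
  have hXt : Module.IsTorsionBySet A X (I : Set A) := fun y a => hX a.1 a.2 y
  have hYt : Module.IsTorsionBySet A Y (I : Set A) := fun y a => hY a.1 a.2 y
  let modX : Module (A ⧸ I) X := hXt.module
  let modY : Module (A ⧸ I) Y := hYt.module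
  have towX : IsScalarTower A (A ⧸ I) X := hXt.isScalarTower
  have towY : IsScalarTower A (A ⧸ I) Y := hYt.isScalarTower
  obtain ⟨h, hh⟩ := Module.projective_lifting_property
    (f.extendScalarsOfSurjective hsurjR) (g.extendScalarsOfSurjective hsurjR) hf
  refine ⟨h.restrictScalars A, LinearMap.ext fun x => ?_⟩
  exact congrArg (fun F => F x) hh

end Lift

section NL

variable {A : Type*} [CommRing A] {M N : Type*} [AddCommGroup M] [Module A M]
  [AddCommGroup N] [Module A N]

theorem smul_quotient_eq_zero (J : Ideal A) (a : A) (ha : a ∈ J)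
    (y : M ⧸ (J • ⊤ : Submodule A M)) : a • y = 0 := by
  obtain ⟨x, rfl⟩ := Submodule.Quotient.mk_surjective _ y
  rw [← Submodule.Quotient.mk_smul, Submodule.Quotient.mk_eq_zero]
  exact Submodule.smul_mem_smul ha trivial

/-- a left inverse modulo `L` lifts to a left inverse modulo `J` when `L ^ n ≤ J ≤ L` -/
theorem exists_leftInverse_mod (J L : Ideal A) (hJL : J ≤ L) (n : ℕ) (hn : L ^ n ≤ J)
    [Module.Projective (A ⧸ J) (N ⧸ (J • ⊤ : Submodule A N))] (u : M →ₗ[A] N)
    (w₀ : N →ₗ[A] M ⧸ (L • ⊤ : Submodule A M))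
    (hw₀ : ∀ x, w₀ (u x) = Submodule.Quotient.mk x) :
    ∃ w : N →ₗ[A] M ⧸ (J • ⊤ : Submodule A M), ∀ x, w (u x) = Submodule.Quotient.mk x := by
  have hkillL : ∀ a ∈ J, ∀ y : M ⧸ (L • ⊤ : Submodule A M), a • y = 0 :=
    fun a ha y => smul_quotient_eq_zero L a (hJL ha) y
  let π : (M ⧸ (J • ⊤ : Submodule A M)) →ₗ[A] (M ⧸ (L • ⊤ : Submodule A M)) :=
    Submodule.mapQ _ _ LinearMap.id (by
      rw [Submodule.comap_id]
      exact Submodule.smul_mono_left hJL)
  have hπmk : ∀ x : M, π (Submodule.Quotient.mk x) = Submodule.Quotient.mk x := fun x => rfl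
  have hπ : Function.Surjective π := by
    intro y
    obtain ⟨x, rfl⟩ := Submodule.Quotient.mk_surjective _ y
    exact ⟨Submodule.Quotient.mk x, hπmk x⟩
  let ub : (M ⧸ (J • ⊤ : Submodule A M)) →ₗ[A] (N ⧸ (J • ⊤ : Submodule A N)) :=
    Submodule.mapQ _ _ u (Submodule.smul_top_le_comap_smul_top J u)
  have hub : ∀ x : M, ub (Submodule.Quotient.mk x) = Submodule.Quotient.mk (u x) := fun x => rfl
  let wb : (N ⧸ (J • ⊤ : Submodule A N)) →ₗ[A] (M ⧸ (L • ⊤ : Submodule A M)) :=
    Submodule.liftQ _ w₀ (by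
      rw [Submodule.smul_le]
      intro a ha y _
      rw [LinearMap.mem_ker, map_smul]
      exact hkillL a ha _)
  have hwb : ∀ y : N, wb (Submodule.Quotient.mk y) = w₀ y := fun y => rfl
  obtain ⟨w₁, hw₁⟩ := exists_lift_of_projective_quotient J
    (fun a ha y => smul_quotient_eq_zero J a ha y) hkillL π hπ wb
  have hw₁' : ∀ y, π (w₁ y) = wb y := fun y => congrArg (fun F => F y) hw₁
  let φ : Module.End A (M ⧸ (J • ⊤ : Submodule A M)) := w₁ ∘ₗ ub
  have hφπ : ∀ y, π (φ y) = π y := by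
    intro y
    obtain ⟨x, rfl⟩ := Submodule.Quotient.mk_surjective _ y
    change π (w₁ (ub (Submodule.Quotient.mk x))) = _
    rw [hw₁', hub, hwb, hw₀, hπmk]
  have hker : ∀ y, π y = 0 → y ∈ (L • ⊤ : Submodule A (M ⧸ (J • ⊤ : Submodule A M))) := by
    intro y hy
    obtain ⟨x, rfl⟩ := Submodule.Quotient.mk_surjective _ y
    rw [hπmk, Submodule.Quotient.mk_eq_zero] at hy
    have : (L • ⊤ : Submodule A (M ⧸ (J • ⊤ : Submodule A M))) =
        (L • ⊤ : Submodule A M).map (J • ⊤ : Submodule A M).mkQ := by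
      rw [Submodule.map_smul'', Submodule.map_top, Submodule.range_mkQ]
    rw [this]
    exact ⟨x, hy, rfl⟩
  let ε : Module.End A (M ⧸ (J • ⊤ : Submodule A M)) := φ - 1
  have hε : ∀ y, ε y ∈ (L • ⊤ : Submodule A (M ⧸ (J • ⊤ : Submodule A M))) := by
    intro y
    apply hker
    change π (φ y - y) = 0
    rw [map_sub, hφπ, sub_self]
  have hεmem : ∀ (i : ℕ) (m : M ⧸ (J • ⊤ : Submodule A M)),
      m ∈ (L ^ i • ⊤ : Submodule A (M ⧸ (J • ⊤ : Submodule A M))) →
      ε m ∈ (L ^ (i + 1) • ⊤ : Submodule A (M ⧸ (J • ⊤ : Submodule A M))) := by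
    intro i m hm
    refine Submodule.smul_induction_on hm ?_ ?_
    · intro r hr y _
      rw [map_smul, pow_succ, mul_smul]
      exact Submodule.smul_mem_smul hr (hε y)
    · intro x y hx hy
      rw [map_add]
      exact add_mem hx hy
  have hpow : ∀ (i : ℕ) (m : M ⧸ (J • ⊤ : Submodule A M)),
      (ε ^ i) m ∈ (L ^ i • ⊤ : Submodule A (M ⧸ (J • ⊤ : Submodule A M))) := by
    intro i
    induction i with
    | zero => intro m; simp
    | succ i ih =>
      intro m
      rw [pow_succ' ε i, Module.End.mul_apply]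
      exact hεmem i _ (ih m)
  have hnil : IsNilpotent ε := by
    refine ⟨n, ?_⟩
    apply LinearMap.ext
    intro m
    have h1 := Submodule.smul_mono_left (N := (⊤ : Submodule A (M ⧸ (J • ⊤ : Submodule A M)))) hn
      (hpow n m)
    have h2 : (ε ^ n) m = 0 := by
      refine Submodule.smul_induction_on h1 ?_ ?_
      · intro a ha y _
        exact smul_quotient_eq_zero J a ha y
      · intro x y hx hy
        rw [hx, hy, add_zero]
    simpa using h2
  have hunit : IsUnit φ := by
    have := hnil.isUnit_add_one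
    simpa [ε] using this
  have hbij : Function.Bijective φ := (Module.End.isUnit_iff φ).mp hunit
  let e := LinearEquiv.ofBijective φ hbij
  refine ⟨e.symm.toLinearMap ∘ₗ w₁ ∘ₗ (J • ⊤ : Submodule A N).mkQ, fun x => ?_⟩
  change e.symm (w₁ (Submodule.Quotient.mk (u x))) = _
  rw [← hub]
  exact e.symm_apply_apply _

end NL

end Groth.Agent.Lib.Helper5.LeftInvMod
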