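import Mathlib
import Groth.Prelude.Def_TopMod
import Groth.Prelude.Def_LinTop
import Groth.Agent.Lib.Helper5.LeftInvMod

set_option autoImplicit false

namespace Groth.Agent.Lib.Helper5.LeftInvTop

universe u v w

section Top

variable {A : Type u} [CommRing A]

/-- a linear map from a topological group to a discrete module is continuous once its kernel is a
neighbourhood of zero -/
theorem continuous_of_ker_mem_nhds {G : Type*} [AddCommGroup G] [Module A G] [TopologicalSpace G]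
    [IsTopologicalAddGroup G] {E : Type*} [AddCommGroup E] [Module A E] [TopologicalSpace E]
    [DiscreteTopology E] (f : G →ₗ[A] E) (h : {x | f x = 0} ∈ nhds (0 : G)) : Continuous f := by
  apply continuous_of_continuousAt_zero f
  rw [ContinuousAt, map_zero, nhds_discrete E]
  exact Filter.tendsto_pure.mpr h

theorem exists_open_ideal_le_ker [TopologicalSpace A] {M : Type v} [AddCommGroup M] [Module A M] [TopologicalSpace M]
    (hM : TopMod.IsDeduced A M) {E : Type*} [AddCommGroup E] [Module A E] [TopologicalSpace E]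
    [DiscreteTopology E] (v : M →L[A] E) :
    ∃ J : Ideal A, IsOpen (J : Set A) ∧ ∀ x ∈ (J • ⊤ : Submodule A M), v x = 0 := by
  have h1 : v ⁻¹' {0} ∈ nhds (0 : M) := by
    apply (v.continuous.isOpen_preimage _ (isOpen_discrete _)).mem_nhds
    simp
  obtain ⟨J, hJ, hJsub⟩ := hM.2.mem_iff.mp h1
  exact ⟨J, hJ, fun x hx => hJsub hx⟩

section Main

variable {A : Type u} {M : Type v} {N : Type w} [CommRing A] [TopologicalSpace A]
  [AddCommGroup M] [Module A M] [TopologicalSpace M] [AddCommGroup N] [Module A N]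
  [TopologicalSpace N]

theorem mod_of_formallyLeftInvertible (𝔏 : Ideal A) (h𝔏 : IsOpen (𝔏 : Set A))
    (hM : TopMod.IsDeduced A M) (u : M →L[A] N) (h : TopMod.IsFormallyLeftInvertible u) :
    ∃ w : N →ₗ[A] M ⧸ (𝔏 • ⊤ : Submodule A M), ∀ x : M, w (u x) = Submodule.Quotient.mk x := by
  have _ : IsTopologicalAddGroup M := hM.1
  let _ : TopologicalSpace (M ⧸ (𝔏 • ⊤ : Submodule A M)) := ⊥
  have _ : DiscreteTopology (M ⧸ (𝔏 • ⊤ : Submodule A M)) := ⟨rfl⟩
  have hcont : Continuous (𝔏 • ⊤ : Submodule A M).mkQ := by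
    apply continuous_of_ker_mem_nhds
    refine Filter.mem_of_superset (hM.2.mem_of_mem h𝔏) ?_
    intro x hx
    exact (Submodule.Quotient.mk_eq_zero _).mpr hx
  obtain ⟨w, hw⟩ := h (M ⧸ (𝔏 • ⊤ : Submodule A M)) ⟨(𝔏 • ⊤ : Submodule A M).mkQ, hcont⟩
  exact ⟨w.toLinearMap, fun x => hw x⟩

theorem formallyLeftInvertible_of_mod (𝔏 : Ideal A) (h𝔏 : LinTop.IsIdealOfDefinition A 𝔏)
    (hM : TopMod.IsDeduced A M) (hN : TopMod.IsDeduced A N)
    (hproj : ∀ J : Ideal A, IsOpen (J : Set A) →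
      Module.Projective (A ⧸ J) (N ⧸ (J • (⊤ : Submodule A N))))
    (u : M →L[A] N) (w₀ : N →ₗ[A] M ⧸ (𝔏 • ⊤ : Submodule A M))
    (hw₀ : ∀ x : M, w₀ (u x) = Submodule.Quotient.mk x) : TopMod.IsFormallyLeftInvertible u := by
  have _ : IsTopologicalAddGroup N := hN.1
  intro E _ _ _ _ v
  obtain ⟨J₀, hJ₀open, hJ₀⟩ := exists_open_ideal_le_ker hM v
  obtain ⟨n, -, hn⟩ := h𝔏.2 (J₀ : Set A) (hJ₀open.mem_nhds J₀.zero_mem)
  let J : Ideal A := J₀ ⊓ 𝔏
  have hJopen : IsOpen (J : Set A) := by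
    change IsOpen ((J₀ : Set A) ∩ (𝔏 : Set A))
    exact hJ₀open.inter h𝔏.1
  have hJL : J ≤ 𝔏 := inf_le_right
  have hnJ : 𝔏 ^ (n + 1) ≤ J := by
    apply le_inf
    · exact (Ideal.pow_le_pow_right (Nat.le_succ n)).trans hn
    · exact Ideal.pow_le_self (Nat.succ_ne_zero n)
  have _ := hproj J hJopen
  obtain ⟨w, hw⟩ := LeftInvMod.exists_leftInverse_mod J 𝔏 hJL (n + 1) hnJ u.toLinearMap w₀ hw₀
  let vb : (M ⧸ (J • ⊤ : Submodule A M)) →ₗ[A] E :=
    Submodule.liftQ _ v.toLinearMap (by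
      intro x hx
      rw [LinearMap.mem_ker]
      exact hJ₀ x (Submodule.smul_mono_left inf_le_left hx))
  have hvb : ∀ x : M, vb (Submodule.Quotient.mk x) = v x := fun x => rfl
  let W : N →ₗ[A] E := vb ∘ₗ w
  have hWcont : Continuous W := by
    apply continuous_of_ker_mem_nhds
    refine Filter.mem_of_superset (hN.2.mem_of_mem hJopen) ?_
    intro y hy
    change W y = 0
    refine Submodule.smul_induction_on hy ?_ ?_
    · intro a ha z _
      change vb (w (a • z)) = 0
      rw [map_smul, LeftInvMod.smul_quotient_eq_zero J a ha, map_zero]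
    · intro y z hy hz
      rw [map_add, hy, hz, add_zero]
  refine ⟨⟨W, hWcont⟩, fun x => ?_⟩
  change vb (w (u.toLinearMap x)) = v x
  rw [hw, hvb]

end Main

end Top

end Groth.Agent.Lib.Helper5.LeftInvTop
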