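import Mathlib
import Groth.Prelude.Def_TopMod
import Groth.Prelude.Def_LinTop
import Groth.Agent.Lib.Helper5.LeftInvMod2
import Groth.Agent.Lib.Helper5.ComplLimit

set_option autoImplicit false

namespace Groth.Agent.Lib.Helper5.LeftInvTop

universe u v w

section Seq

variable {A : Type u} {M : Type v} {N : Type w} [CommRing A] [TopologicalSpace A]
  [AddCommGroup M] [Module A M] [UniformSpace M] [IsUniformAddGroup M] [CompleteSpace M]
  [T2Space M] [AddCommGroup N] [Module A N]

/-- a compatible sequence of left inverses modulo a fundamental sequence of ideals gives a left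
inverse -/
theorem exists_leftInverse_of_seq (J : ℕ → Ideal A) (hJanti : Antitone J)
    (hJopen : ∀ n, IsOpen (J n : Set A))
    (hJbasis : ∀ I : Ideal A, IsOpen (I : Set A) → ∃ n, J n ≤ I)
    (hM : TopMod.IsDeduced A M) (u : M →ₗ[A] N)
    (step0 : ∃ w : N →ₗ[A] M ⧸ (J 0 • ⊤ : Submodule A M), ∀ x, w (u x) = Submodule.Quotient.mk x)
    (step : ∀ n (w : N →ₗ[A] M ⧸ (J n • ⊤ : Submodule A M)),
      (∀ x, w (u x) = Submodule.Quotient.mk x) →
      ∃ w' : N →ₗ[A] M ⧸ (J (n + 1) • ⊤ : Submodule A M),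
        (∀ x, w' (u x) = Submodule.Quotient.mk x) ∧
        ∀ y, Submodule.mapQ (J (n + 1) • ⊤ : Submodule A M) (J n • ⊤ : Submodule A M) LinearMap.id
          (by rw [Submodule.comap_id]; exact Submodule.smul_mono_left (hJanti (Nat.le_succ n)))
          (w' y) = w y) :
    ∃ w : N →ₗ[A] M, ∀ x, w (u x) = x := by
  let S : ℕ → Submodule A M := fun n => (J n • ⊤ : Submodule A M)
  have hS : Antitone S := fun a b hab => Submodule.smul_mono_left (hJanti hab)
  have hnhds : ∀ n, (S n : Set M) ∈ nhds (0 : M) := fun n => hM.2.mem_of_mem (hJopen n)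
  have hbasis : ∀ U ∈ nhds (0 : M), ∃ n, (S n : Set M) ⊆ U := by
    intro U hU
    obtain ⟨I, hI, hIU⟩ := hM.2.mem_iff.mp hU
    obtain ⟨n, hn⟩ := hJbasis I hI
    exact ⟨n, fun x hx => hIU (Submodule.smul_mono_left hn hx)⟩
  let T : ℕ → Type _ := fun n =>
    {w : N →ₗ[A] M ⧸ (J n • ⊤ : Submodule A M) // ∀ x, w (u x) = Submodule.Quotient.mk x}
  let W0 : T 0 := ⟨Classical.choose step0, Classical.choose_spec step0⟩
  let stp : ∀ n, T n → T (n + 1) := fun n w =>
    ⟨Classical.choose (step n w.1 w.2), (Classical.choose_spec (step n w.1 w.2)).1⟩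
  have hstp : ∀ n (w : T n) y, Submodule.mapQ (J (n + 1) • ⊤ : Submodule A M)
      (J n • ⊤ : Submodule A M) LinearMap.id
      (by rw [Submodule.comap_id]; exact Submodule.smul_mono_left (hJanti (Nat.le_succ n)))
      ((stp n w).1 y) = w.1 y := fun n w => (Classical.choose_spec (step n w.1 w.2)).2
  let W : ∀ n, T n := fun n => Nat.rec W0 stp n
  have hWsucc : ∀ n, W (n + 1) = stp n (W n) := fun n => rfl
  obtain ⟨w, hw⟩ := ComplLimit.exists_linearMap_of_compat S hS hnhds hbasis (fun n => (W n).1)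
    (fun n y => by
      rw [hWsucc]
      exact hstp n (W n) y)
  refine ⟨w, fun x => ?_⟩
  rw [← sub_eq_zero]
  apply ComplLimit.eq_zero_of_forall_mem S hbasis
  intro n
  apply (Submodule.Quotient.eq _).mp
  rw [hw n, (W n).2]

end Seq

end Groth.Agent.Lib.Helper5.LeftInvTop
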