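import Mathlib
import Groth.Prelude.Def_TopMod
import Groth.Agent.Lib.Helper5.LeftInvTop
import Groth.Agent.Lib.Helper5.LeftInvTop2

set_option autoImplicit false

namespace Groth.Agent.Lib.Helper5.LeftInvTop

universe u v w

section Coker

variable {A : Type u} {M : Type v} {N : Type w} [CommRing A]
  [AddCommGroup M] [Module A M] [AddCommGroup N] [Module A N]

/-- correcting a left inverse modulo `J'` so that it becomes compatible with a given left inverse
modulo `J`, when the cokernel is projective modulo `J'` -/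
theorem exists_compat_of_coker_projective (J' J : Ideal A) (hJ : J' ≤ J) (u : M →ₗ[A] N)
    [Module.Projective (A ⧸ J') ((N ⧸ LinearMap.range u) ⧸
      (J' • (⊤ : Submodule A (N ⧸ LinearMap.range u))))]
    (w : N →ₗ[A] M ⧸ (J • ⊤ : Submodule A M)) (hw : ∀ x, w (u x) = Submodule.Quotient.mk x)
    (W' : N →ₗ[A] M ⧸ (J' • ⊤ : Submodule A M)) (hW' : ∀ x, W' (u x) = Submodule.Quotient.mk x) :
    ∃ w' : N →ₗ[A] M ⧸ (J' • ⊤ : Submodule A M),
      (∀ x, w' (u x) = Submodule.Quotient.mk x) ∧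
      ∀ y, Submodule.mapQ (J' • ⊤ : Submodule A M) (J • ⊤ : Submodule A M) LinearMap.id
        (by rw [Submodule.comap_id]; exact Submodule.smul_mono_left hJ) (w' y) = w y := by
  let π : (M ⧸ (J' • ⊤ : Submodule A M)) →ₗ[A] (M ⧸ (J • ⊤ : Submodule A M)) :=
    Submodule.mapQ _ _ LinearMap.id (by
      rw [Submodule.comap_id]
      exact Submodule.smul_mono_left hJ)
  have hπmk : ∀ x : M, π (Submodule.Quotient.mk x) = Submodule.Quotient.mk x := fun x => rfl
  have hπ : Function.Surjective π := by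
    intro y
    obtain ⟨x, rfl⟩ := Submodule.Quotient.mk_surjective _ y
    exact ⟨Submodule.Quotient.mk x, hπmk x⟩
  have hkillJ : ∀ a ∈ J', ∀ y : M ⧸ (J • ⊤ : Submodule A M), a • y = 0 :=
    fun a ha y => LeftInvMod.smul_quotient_eq_zero J a (hJ ha) y
  let δ : N →ₗ[A] M ⧸ (J • ⊤ : Submodule A M) := π ∘ₗ W' - w
  have hδu : ∀ x, δ (u x) = 0 := by
    intro x
    change π (W' (u x)) - w (u x) = 0
    rw [hW', hw, hπmk, sub_self]
  let δ₁ : (N ⧸ LinearMap.range u) →ₗ[A] M ⧸ (J • ⊤ : Submodule A M) :=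
    Submodule.liftQ _ δ (by
      rintro _ ⟨x, rfl⟩
      exact hδu x)
  have hδ₁ : ∀ y : N, δ₁ (Submodule.Quotient.mk y) = δ y := fun y => rfl
  let δ₂ : ((N ⧸ LinearMap.range u) ⧸ (J' • (⊤ : Submodule A (N ⧸ LinearMap.range u)))) →ₗ[A]
      M ⧸ (J • ⊤ : Submodule A M) :=
    Submodule.liftQ _ δ₁ (by
      rw [Submodule.smul_le]
      intro a ha c _
      rw [LinearMap.mem_ker, map_smul]
      exact hkillJ a ha _)
  have hδ₂ : ∀ c, δ₂ (Submodule.Quotient.mk c) = δ₁ c := fun c => rfl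
  obtain ⟨h, hh⟩ := LeftInvMod.exists_lift_of_projective_quotient J'
    (fun a ha y => LeftInvMod.smul_quotient_eq_zero J' a ha y) hkillJ π hπ δ₂
  have hh' : ∀ c, π (h c) = δ₂ c := fun c => congrArg (fun F => F c) hh
  let q : N →ₗ[A] ((N ⧸ LinearMap.range u) ⧸
      (J' • (⊤ : Submodule A (N ⧸ LinearMap.range u)))) :=
    (Submodule.mkQ _) ∘ₗ (Submodule.mkQ _)
  have hq : ∀ y, q y = Submodule.Quotient.mk (Submodule.Quotient.mk y) := fun y => rfl
  have hqu : ∀ x, q (u x) = 0 := by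
    intro x
    have : (Submodule.Quotient.mk (u x) : N ⧸ LinearMap.range u) = 0 :=
      (Submodule.Quotient.mk_eq_zero _).mpr ⟨x, rfl⟩
    rw [hq, this, Submodule.Quotient.mk_zero]
  refine ⟨W' - h ∘ₗ q, fun x => ?_, fun y => ?_⟩
  · change W' (u x) - h (q (u x)) = _
    rw [hqu, map_zero, sub_zero, hW']
  · change π (W' y - h (q y)) = w y
    rw [map_sub, hh', hq, hδ₂, hδ₁]
    change π (W' y) - (π (W' y) - w y) = w y
    abel

end Coker

end Groth.Agent.Lib.Helper5.LeftInvTop
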