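import Mathlib.AlgebraicGeometry.AffineTransitionLimit

set_option autoImplicit false
universe u

open CategoryTheory AlgebraicGeometry Limits

namespace Groth.Agent.Lib.Helper5

variable {I : Type u} [Category.{u} I] (D : I ⥤ Scheme.{u}) (c : Cone D) (hc : IsLimit c)

include hc in
/-- If all preimages of a compact open `U ⊆ Dᵢ` in the stages over `i` are nonempty, so is the
preimage in the limit. -/
theorem nonempty_preimage_of_forall_nonempty [IsCofiltered I]
    [∀ {i j} (f : i ⟶ j), IsAffineHom (D.map f)] (i : I) (U : (D.obj i).Opens)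
    (hU : IsCompact (U : Set (D.obj i)))
    (hne : ∀ (j : I) (φ : j ⟶ i), ((D.map φ ⁻¹ᵁ U : (D.obj j).Opens) : Set (D.obj j)).Nonempty) :
    ((c.π.app i ⁻¹ᵁ U : c.pt.Opens) : Set c.pt).Nonempty := by
  have h1 (j : Over i) : CompactSpace ↥((opensDiagram D i U).obj j) :=
    isCompact_iff_compactSpace.mp (QuasiCompact.isCompact_preimage (f := (D.map j.hom)) _ U.2 hU)
  have h2 (j : Over i) : Nonempty ↥((opensDiagram D i U).obj j) :=
    Set.nonempty_coe_sort.mpr (hne j.left j.hom)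
  have := Scheme.nonempty_of_isLimit (opensDiagram D i U) (opensCone D c i U)
    (isLimitOpensCone D c hc i U)
  exact Set.nonempty_coe_sort.mp this

include hc in
/-- Descend a compact open of the limit to a stage lying over a prescribed index. -/
theorem exists_preimage_eq_over [IsCofiltered I] [∀ {i j} (f : i ⟶ j), IsAffineHom (D.map f)]
    (i₀ : I) (U : c.pt.Opens) (hU : IsCompact (U : Set c.pt)) :
    ∃ (k : I) (_ : k ⟶ i₀) (V : (D.obj k).Opens),
      IsCompact (V : Set (D.obj k)) ∧ c.π.app k ⁻¹ᵁ V = U := by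
  obtain ⟨i, V, hV, rfl⟩ := exists_preimage_eq D c hc U hU
  refine ⟨IsCofiltered.min i i₀, IsCofiltered.minToRight i i₀,
    D.map (IsCofiltered.minToLeft i i₀) ⁻¹ᵁ V, ?_, ?_⟩
  · exact QuasiCompact.isCompact_preimage (f := D.map (IsCofiltered.minToLeft i i₀)) _ V.2 hV
  · rw [← Scheme.Hom.comp_preimage, c.w]

include hc in
/-- Descend two compact opens of the limit to a common stage lying over a prescribed index. -/
theorem exists_preimage_eq_over₂ [IsCofiltered I] [∀ {i j} (f : i ⟶ j), IsAffineHom (D.map f)]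
    (i₀ : I) (U₁ U₂ : c.pt.Opens) (hU₁ : IsCompact (U₁ : Set c.pt))
    (hU₂ : IsCompact (U₂ : Set c.pt)) :
    ∃ (k : I) (_ : k ⟶ i₀) (V₁ V₂ : (D.obj k).Opens),
      IsCompact (V₁ : Set (D.obj k)) ∧ IsCompact (V₂ : Set (D.obj k)) ∧
        c.π.app k ⁻¹ᵁ V₁ = U₁ ∧ c.π.app k ⁻¹ᵁ V₂ = U₂ := by
  obtain ⟨k₁, a₁, V₁, hV₁, rfl⟩ := exists_preimage_eq_over D c hc i₀ U₁ hU₁
  obtain ⟨k₂, a₂, V₂, hV₂, rfl⟩ := exists_preimage_eq_over D c hc k₁ U₂ hU₂
  refine ⟨k₂, a₂ ≫ a₁, D.map a₂ ⁻¹ᵁ V₁, V₂, ?_, hV₂, ?_, rfl⟩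
  · exact QuasiCompact.isCompact_preimage (f := D.map a₂) _ V₁.2 hV₁
  · rw [← Scheme.Hom.comp_preimage, c.w]

include hc in
/-- Persistent version of `exists_map_preimage_le_map_preimage`. -/
theorem exists_forall_map_preimage_le [IsCofiltered I]
    [∀ {i j} (f : i ⟶ j), IsAffineHom (D.map f)]
    {i : I} {U V : (D.obj i).Opens} (hU : IsCompact (U : Set (D.obj i)))
    (H : c.π.app i ⁻¹ᵁ U ≤ c.π.app i ⁻¹ᵁ V) :
    ∃ (j : I) (fji : j ⟶ i), ∀ (m : I) (g : m ⟶ j),
      D.map (g ≫ fji) ⁻¹ᵁ U ≤ D.map (g ≫ fji) ⁻¹ᵁ V := by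
  obtain ⟨j, fji, h⟩ := exists_map_preimage_le_map_preimage D c hc hU H
  refine ⟨j, fji, fun m g => ?_⟩
  rw [D.map_comp, Scheme.Hom.comp_preimage, Scheme.Hom.comp_preimage]
  exact Scheme.Hom.preimage_mono _ h

/-- An open with empty preimage under a dominant map is empty. -/
theorem eq_bot_of_preimage_eq_bot {X Y : Scheme.{u}} (f : X ⟶ Y) [IsDominant f] (V : Y.Opens)
    (h : f ⁻¹ᵁ V = ⊥) : V = ⊥ := by
  by_contra hne
  have hne' : (V : Set Y).Nonempty := by
    rw [Set.nonempty_iff_ne_empty]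
    intro h0
    exact hne (TopologicalSpace.Opens.ext h0)
  obtain ⟨_, hz, z, rfl⟩ := f.denseRange.inter_open_nonempty V V.2 hne'
  have : z ∈ f ⁻¹ᵁ V := hz
  rw [h] at this
  exact this

end Groth.Agent.Lib.Helper5
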