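import Groth.Agent.Lib.Helper5.LimBasic

set_option autoImplicit false
universe u

open CategoryTheory AlgebraicGeometry Limits

namespace Groth.Agent.Lib.Helper5

variable {I : Type u} [Category.{u} I] (D : I ⥤ Scheme.{u}) (c : Cone D) (hc : IsLimit c)

include hc in
theorem compactSpace_pt_of_compactSpace [IsCofiltered I]
    [∀ {i j} (f : i ⟶ j), IsAffineHom (D.map f)] (i₀ : I) [CompactSpace (D.obj i₀)] :
    CompactSpace c.pt := by
  have := isAffineHom_π_app D c hc i₀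
  exact QuasiCompact.compactSpace_of_compactSpace (c.π.app i₀)

theorem compactSpace_obj_of_hom
    [∀ {i j} (f : i ⟶ j), IsAffineHom (D.map f)] {i₀ k : I} (a : k ⟶ i₀)
    [CompactSpace (D.obj i₀)] : CompactSpace (D.obj k) :=
  QuasiCompact.compactSpace_of_compactSpace (D.map a)

include hc in
/-- A disconnection of the limit descends to some stage over `i₀`. -/
theorem exists_disconnection_of_not_preconnectedSpace [IsCofiltered I]
    [∀ {i j} (f : i ⟶ j), IsAffineHom (D.map f)] (i₀ : I) [CompactSpace (D.obj i₀)]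
    (h : ¬ PreconnectedSpace c.pt) :
    ∃ (k : I) (_ : k ⟶ i₀) (V₁ V₂ : (D.obj k).Opens),
      IsCompact (V₁ : Set (D.obj k)) ∧ IsCompact (V₂ : Set (D.obj k)) ∧
      c.π.app k ⁻¹ᵁ V₁ ≠ ⊥ ∧ c.π.app k ⁻¹ᵁ V₂ ≠ ⊥ ∧ c.π.app k ⁻¹ᵁ (V₁ ⊓ V₂) = ⊥ ∧
      ∀ (m : I) (g : m ⟶ k), D.map g ⁻¹ᵁ (V₁ ⊔ V₂) = ⊤ := by
  have hcpt : CompactSpace c.pt := compactSpace_pt_of_compactSpace D c hc i₀
  rw [preconnectedSpace_iff_clopen] at h
  push Not at h
  obtain ⟨U, hU, hU0, hU1⟩ := h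
  rw [Set.nonempty_iff_ne_empty] at hU0
  let U₁ : c.pt.Opens := ⟨U, hU.isOpen⟩
  let U₂ : c.pt.Opens := ⟨Uᶜ, hU.compl.isOpen⟩
  obtain ⟨k', a, V₁, V₂, hV₁, hV₂, e₁, e₂⟩ := exists_preimage_eq_over₂ D c hc i₀ U₁ U₂
    hU.isClosed.isCompact hU.compl.isClosed.isCompact
  have : CompactSpace (D.obj k') := compactSpace_obj_of_hom D a
  have H : c.π.app k' ⁻¹ᵁ ⊤ ≤ c.π.app k' ⁻¹ᵁ (V₁ ⊔ V₂) := by
    rw [Scheme.Hom.preimage_sup, e₁, e₂]
    intro x _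
    by_cases hx : x ∈ U
    · exact Or.inl hx
    · exact Or.inr hx
  obtain ⟨j, fji, hj⟩ := exists_forall_map_preimage_le D c hc (U := ⊤) isCompact_univ H
  refine ⟨j, fji ≫ a, D.map fji ⁻¹ᵁ V₁, D.map fji ⁻¹ᵁ V₂, ?_, ?_, ?_, ?_, ?_, ?_⟩
  · exact QuasiCompact.isCompact_preimage (f := D.map fji) _ V₁.2 hV₁
  · exact QuasiCompact.isCompact_preimage (f := D.map fji) _ V₂.2 hV₂
  · rw [← Scheme.Hom.comp_preimage, c.w, e₁]
    intro h0
    apply hU0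
    have := congrArg (fun W : c.pt.Opens => (W : Set c.pt)) h0
    simpa [U₁] using this
  · rw [← Scheme.Hom.comp_preimage, c.w, e₂]
    intro h0
    apply hU1
    have := congrArg (fun W : c.pt.Opens => (W : Set c.pt)) h0
    simpa [U₂, Set.compl_empty_iff] using this
  · rw [← Scheme.Hom.preimage_inf, ← Scheme.Hom.comp_preimage, c.w, Scheme.Hom.preimage_inf,
      e₁, e₂]
    ext x
    simp [U₁, U₂]
  · intro m g
    rw [← Scheme.Hom.preimage_sup, ← Scheme.Hom.comp_preimage, ← D.map_comp]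
    exact top_le_iff.mp ((by simp : (⊤ : (D.obj m).Opens) ≤ D.map (g ≫ fji) ⁻¹ᵁ ⊤).trans (hj m g))

/-- A disconnection by opens whose preimages in the limit are nonempty disconnects a stage. -/
theorem not_preconnectedSpace_of_disconnection {k m : I} (g : m ⟶ k) (V₁ V₂ : (D.obj k).Opens)
    (h₁ : c.π.app k ⁻¹ᵁ V₁ ≠ ⊥) (h₂ : c.π.app k ⁻¹ᵁ V₂ ≠ ⊥)
    (hinf : D.map g ⁻¹ᵁ (V₁ ⊓ V₂) = ⊥) (hsup : D.map g ⁻¹ᵁ (V₁ ⊔ V₂) = ⊤) :
    ¬ PreconnectedSpace (D.obj m) := by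
  intro hpc
  have e₁ : c.π.app m ⁻¹ᵁ (D.map g ⁻¹ᵁ V₁) = c.π.app k ⁻¹ᵁ V₁ := by
    rw [← Scheme.Hom.comp_preimage, c.w]
  have e₂ : c.π.app m ⁻¹ᵁ (D.map g ⁻¹ᵁ V₂) = c.π.app k ⁻¹ᵁ V₂ := by
    rw [← Scheme.Hom.comp_preimage, c.w]
  rw [Scheme.Hom.preimage_inf] at hinf
  rw [Scheme.Hom.preimage_sup] at hsup
  set W₁ := D.map g ⁻¹ᵁ V₁
  set W₂ := D.map g ⁻¹ᵁ V₂
  have hcompl : (W₁ : Set (D.obj m))ᶜ = W₂ := by
    ext x
    have h1 : x ∈ W₁ ⊔ W₂ := by rw [hsup]; trivial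
    have h2 : ¬ (x ∈ W₁ ⊓ W₂) := by rw [hinf]; exact fun h => h
    constructor
    · intro hx
      rcases h1 with h1 | h1
      · exact absurd h1 hx
      · exact h1
    · intro hx hx'
      exact h2 ⟨hx', hx⟩
  have hclopen : IsClopen (W₁ : Set (D.obj m)) :=
    ⟨by rw [← isOpen_compl_iff, hcompl]; exact W₂.2, W₁.2⟩
  rcases isClopen_iff.mp hclopen with h0 | h0
  · apply h₁
    rw [← e₁]
    have : W₁ = ⊥ := TopologicalSpace.Opens.ext h0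
    rw [this]
    rfl
  · apply h₂
    rw [← e₂]
    have : W₂ = ⊥ := by
      apply TopologicalSpace.Opens.ext
      rw [← hcompl, h0]
      simp
    rw [this]
    rfl

end Groth.Agent.Lib.Helper5
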