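import Groth.Agent.Lib.Helper5.LimConn
import Mathlib.AlgebraicGeometry.Morphisms.FinitePresentation

set_option autoImplicit false
universe u

open CategoryTheory AlgebraicGeometry Limits Topology

namespace Groth.Agent.Lib.Helper5

/-- Normal form induction: a constructible set is a finite union of differences of retrocompact
opens. -/
theorem isConstructible_sdiff_union_induction {X : Type*} [TopologicalSpace X] {P : Set X → Prop}
    (sdiff : ∀ U V : Set X, IsOpen U → IsRetrocompact U → IsOpen V → IsRetrocompact V → P (U \ V))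
    (union : ∀ s t : Set X, P s → P t → P (s ∪ t)) {s : Set X} (hs : IsConstructible s) : P s := by
  induction s, hs using BooleanSubalgebra.closure_sdiff_sup_induction with
  | isSublattice =>
    exact ⟨fun s hs t ht ↦ ⟨hs.1.union ht.1, hs.2.union ht.2⟩,
      fun s hs t ht ↦ ⟨hs.1.inter ht.1, hs.2.inter_isOpen ht.2 ht.1⟩⟩
  | bot_mem => exact ⟨isOpen_empty, .empty⟩
  | top_mem => exact ⟨isOpen_univ, .univ⟩
  | sdiff U hU V hV => exact sdiff U V hU.1 hU.2 hV.1 hV.2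
  | sup s _ t _ hs' ht' => exact union s t hs' ht'

theorem isCompact_of_isConstructible {X : Type*} [TopologicalSpace X] [CompactSpace X]
    {s : Set X} (hs : IsConstructible s) : IsCompact s := by
  refine isConstructible_sdiff_union_induction (P := fun s => IsCompact s) ?_ ?_ hs
  · intro U V hU hU' hV hV'
    exact hU'.isCompact.diff hV
  · intro s t hs ht
    exact hs.union ht

variable {I : Type u} [Category.{u} I] (D : I ⥤ Scheme.{u}) (c : Cone D) (hc : IsLimit c)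

include hc in
/-- An inclusion `T ∩ V ⊆ V'` (with `T` constructible, `V` compact open, `V'` open) that holds
after pulling back to the limit already holds at some stage. -/
theorem exists_map_preimage_inter_subset [IsCofiltered I]
    [∀ {i j} (f : i ⟶ j), IsAffineHom (D.map f)] {j : I} {T : Set (D.obj j)}
    (hT : IsConstructible T) (V : (D.obj j).Opens) (hV : IsCompact (V : Set (D.obj j)))
    (V' : (D.obj j).Opens)
    (H : ⇑(c.π.app j) ⁻¹' (T ∩ V) ⊆ ⇑(c.π.app j) ⁻¹' V') :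
    ∃ (k : I) (φ : k ⟶ j), ⇑(D.map φ) ⁻¹' (T ∩ V) ⊆ ⇑(D.map φ) ⁻¹' V' := by
  revert V'
  refine isConstructible_sdiff_union_induction (P := fun T => ∀ V' : (D.obj j).Opens,
    ⇑(c.π.app j) ⁻¹' (T ∩ V) ⊆ ⇑(c.π.app j) ⁻¹' V' →
    ∃ (k : I) (φ : k ⟶ j), ⇑(D.map φ) ⁻¹' (T ∩ V) ⊆ ⇑(D.map φ) ⁻¹' V') ?_ ?_ hT
  · intro U₀ V₀ hU₀ hU₀' hV₀ hV₀' V' H
    let Uc : (D.obj j).Opens := ⟨U₀ ∩ V, hU₀.inter V.2⟩
    let Vo : (D.obj j).Opens := ⟨V₀ ∪ V', hV₀.union V'.2⟩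
    have hUc : IsCompact (Uc : Set (D.obj j)) := hU₀' hV V.2
    have H' : c.π.app j ⁻¹ᵁ Uc ≤ c.π.app j ⁻¹ᵁ Vo := by
      intro x hx
      by_cases hx' : c.π.app j x ∈ V₀
      · exact Or.inl hx'
      · exact Or.inr (H ⟨⟨hx.1, hx'⟩, hx.2⟩)
    obtain ⟨k, φ, hk⟩ := exists_map_preimage_le_map_preimage D c hc hUc H'
    refine ⟨k, φ, fun y hy => ?_⟩
    have h1 : y ∈ D.map φ ⁻¹ᵁ Uc := ⟨hy.1.1, hy.2⟩
    rcases hk h1 with h2 | h2
    · exact absurd h2 hy.1.2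
    · exact h2
  · intro s t hs ht V' H
    obtain ⟨k₁, φ₁, h₁⟩ := hs V' (fun x hx => H ⟨Or.inl hx.1, hx.2⟩)
    obtain ⟨k₂, φ₂, h₂⟩ := ht V' (fun x hx => H ⟨Or.inr hx.1, hx.2⟩)
    obtain ⟨l, a, b, hab⟩ := IsCofiltered.cospan φ₁ φ₂
    refine ⟨l, a ≫ φ₁, fun y hy => ?_⟩
    have e₁ : D.map (a ≫ φ₁) y = D.map φ₁ (D.map a y) := by
      rw [D.map_comp]; rfl
    have e₂ : D.map (a ≫ φ₁) y = D.map φ₂ (D.map b y) := by
      rw [hab, D.map_comp]; rfl
    rcases hy.1 with hy1 | hy1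
    · have : D.map a y ∈ ⇑(D.map φ₁) ⁻¹' (s ∩ V) := by
        refine ⟨?_, ?_⟩
        · change D.map φ₁ (D.map a y) ∈ s
          rw [← e₁]; exact hy1
        · change D.map φ₁ (D.map a y) ∈ V
          rw [← e₁]; exact hy.2
      have := h₁ this
      change D.map (a ≫ φ₁) y ∈ V'
      rw [e₁]; exact this
    · have : D.map b y ∈ ⇑(D.map φ₂) ⁻¹' (t ∩ V) := by
        refine ⟨?_, ?_⟩
        · change D.map φ₂ (D.map b y) ∈ t
          rw [← e₂]; exact hy1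
        · change D.map φ₂ (D.map b y) ∈ V
          rw [← e₂]; exact hy.2
      have := h₂ this
      change D.map (a ≫ φ₁) y ∈ V'
      rw [e₂]; exact this

theorem map_comp_apply' {a b d : I} (g : a ⟶ b) (φ : b ⟶ d) (y : D.obj a) :
    D.map (g ≫ φ) y = D.map φ (D.map g y) := by
  rw [D.map_comp]; rfl

include hc in
theorem exists_forall_map_preimage_inter_subset [IsCofiltered I]
    [∀ {i j} (f : i ⟶ j), IsAffineHom (D.map f)] {j : I} {T : Set (D.obj j)}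
    (hT : IsConstructible T) (V : (D.obj j).Opens) (hV : IsCompact (V : Set (D.obj j)))
    (V' : (D.obj j).Opens)
    (H : ⇑(c.π.app j) ⁻¹' (T ∩ V) ⊆ ⇑(c.π.app j) ⁻¹' V') :
    ∃ (k : I) (φ : k ⟶ j), ∀ (m : I) (g : m ⟶ k),
      ⇑(D.map (g ≫ φ)) ⁻¹' (T ∩ V) ⊆ ⇑(D.map (g ≫ φ)) ⁻¹' V' := by
  obtain ⟨k, φ, h⟩ := exists_map_preimage_inter_subset D c hc hT V hV V' H
  refine ⟨k, φ, fun m g y hy => ?_⟩
  have h1 : D.map g y ∈ ⇑(D.map φ) ⁻¹' (T ∩ V) := by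
    change D.map φ (D.map g y) ∈ T ∩ V
    rw [← map_comp_apply']; exact hy
  have := h h1
  change D.map (g ≫ φ) y ∈ V'
  rw [map_comp_apply']; exact this

include hc in
theorem exists_isOpen_map_preimage [IsCofiltered I]
    [∀ {i j} (f : i ⟶ j), IsAffineHom (D.map f)] (i₁ : I) [CompactSpace (D.obj i₁)]
    (Z₁ : Set (D.obj i₁)) (hZ : IsConstructible Z₁)
    (hopen : IsOpen (⇑(c.π.app i₁) ⁻¹' Z₁ : Set c.pt)) :
    ∃ (j : I) (φ : j ⟶ i₁), IsOpen (⇑(D.map φ) ⁻¹' Z₁) := by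
  have hcpt : CompactSpace c.pt := compactSpace_pt_of_compactSpace D c hc i₁
  let W : c.pt.Opens := ⟨⇑(c.π.app i₁) ⁻¹' Z₁, hopen⟩
  have hW : IsCompact (W : Set c.pt) :=
    isCompact_of_isConstructible ((c.π.app i₁).isConstructible_preimage hZ)
  obtain ⟨k, ψ, V, hV, hVW⟩ := exists_preimage_eq_over D c hc i₁ W hW
  have : CompactSpace (D.obj k) := compactSpace_obj_of_hom D ψ
  set Z : Set (D.obj k) := ⇑(D.map ψ) ⁻¹' Z₁ with hZdef
  have hZk : IsConstructible Z := (D.map ψ).isConstructible_preimage hZ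
  have key : ∀ x : c.pt, c.π.app k x ∈ Z ↔ c.π.app k x ∈ V := by
    intro x
    have h1 : c.π.app k x ∈ V ↔ x ∈ W := by
      rw [← hVW]; rfl
    rw [h1]
    change D.map ψ (c.π.app k x) ∈ Z₁ ↔ c.π.app i₁ x ∈ Z₁
    rw [← c.w ψ]
    rfl
  obtain ⟨k₁, φ₁, h₁⟩ := exists_forall_map_preimage_inter_subset D c hc hZk ⊤ isCompact_univ V
    (fun x hx => (key x).mp hx.1)
  obtain ⟨k₂, φ₂, h₂⟩ := exists_forall_map_preimage_inter_subset D c hc hZk.compl V hV ⊥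
    (fun x hx => (hx.1 ((key x).mpr hx.2)).elim)
  obtain ⟨l, a, b, hab⟩ := IsCofiltered.cospan φ₁ φ₂
  refine ⟨l, (a ≫ φ₁) ≫ ψ, ?_⟩
  have e : ⇑(D.map ((a ≫ φ₁) ≫ ψ)) ⁻¹' Z₁ = ⇑(D.map (a ≫ φ₁)) ⁻¹' (V : Set (D.obj k)) := by
    ext y
    have e0 : D.map ((a ≫ φ₁) ≫ ψ) y ∈ Z₁ ↔ D.map (a ≫ φ₁) y ∈ Z := by
      rw [map_comp_apply']; rfl
    change D.map ((a ≫ φ₁) ≫ ψ) y ∈ Z₁ ↔ D.map (a ≫ φ₁) y ∈ V
    rw [e0]
    constructor
    · intro hy
      exact h₁ l a ⟨hy, trivial⟩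
    · intro hy
      by_contra hy'
      have := h₂ l b (by rw [← hab]; exact ⟨hy', hy⟩)
      exact this
  rw [e]
  exact V.2.preimage (D.map (a ≫ φ₁)).continuous

end Groth.Agent.Lib.Helper5
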