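import Groth.Agent.Lib.Helper5.LimConn

set_option autoImplicit false
universe u

open CategoryTheory AlgebraicGeometry Limits

namespace Groth.Agent.Lib.Helper5

variable {I : Type u} [Category.{u} I] (D : I ⥤ Scheme.{u}) (c : Cone D) (hc : IsLimit c)

include hc in
/-- Two disjoint nonempty opens of a Noetherian limit descend to some stage over `i₀`. -/
theorem exists_disjoint_opens_of_not_preirreducibleSpace [IsCofiltered I]
    [∀ {i j} (f : i ⟶ j), IsAffineHom (D.map f)] (i₀ : I)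
    [TopologicalSpace.NoetherianSpace c.pt]
    (h : ¬ PreirreducibleSpace c.pt) :
    ∃ (k : I) (_ : k ⟶ i₀) (V₁ V₂ : (D.obj k).Opens),
      IsCompact (V₁ : Set (D.obj k)) ∧ IsCompact (V₂ : Set (D.obj k)) ∧
      c.π.app k ⁻¹ᵁ V₁ ≠ ⊥ ∧ c.π.app k ⁻¹ᵁ V₂ ≠ ⊥ ∧ c.π.app k ⁻¹ᵁ (V₁ ⊓ V₂) = ⊥ := by
  have h' : ¬ IsPreirreducible (Set.univ : Set c.pt) := fun h0 => h ⟨h0⟩
  simp only [IsPreirreducible, Set.univ_inter] at h'
  push Not at h'
  obtain ⟨u, v, hu, hv, hune, hvne, huv⟩ := h'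
  let U₁ : c.pt.Opens := ⟨u, hu⟩
  let U₂ : c.pt.Opens := ⟨v, hv⟩
  obtain ⟨k, a, V₁, V₂, hV₁, hV₂, e₁, e₂⟩ := exists_preimage_eq_over₂ D c hc i₀ U₁ U₂
    (TopologicalSpace.NoetherianSpace.isCompact _) (TopologicalSpace.NoetherianSpace.isCompact _)
  refine ⟨k, a, V₁, V₂, hV₁, hV₂, ?_, ?_, ?_⟩
  · rw [e₁]
    intro h0
    have := congrArg (fun W : c.pt.Opens => (W : Set c.pt)) h0
    simp only [U₁, TopologicalSpace.Opens.coe_mk, TopologicalSpace.Opens.coe_bot] at this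
    exact hune.ne_empty this
  · rw [e₂]
    intro h0
    have := congrArg (fun W : c.pt.Opens => (W : Set c.pt)) h0
    simp only [U₂, TopologicalSpace.Opens.coe_mk, TopologicalSpace.Opens.coe_bot] at this
    exact hvne.ne_empty this
  · rw [Scheme.Hom.preimage_inf, e₁, e₂]
    apply TopologicalSpace.Opens.ext
    simpa [U₁, U₂] using huv

/-- Two disjoint opens with nonempty preimage in the limit prevent irreducibility of a stage. -/
theorem not_irreducibleSpace_of_disjoint_opens {k m : I} (g : m ⟶ k) (V₁ V₂ : (D.obj k).Opens)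
    (h₁ : c.π.app k ⁻¹ᵁ V₁ ≠ ⊥) (h₂ : c.π.app k ⁻¹ᵁ V₂ ≠ ⊥)
    (hinf : D.map g ⁻¹ᵁ (V₁ ⊓ V₂) = ⊥) :
    ¬ IrreducibleSpace (D.obj m) := by
  intro hirr
  have e₁ : c.π.app m ⁻¹ᵁ (D.map g ⁻¹ᵁ V₁) = c.π.app k ⁻¹ᵁ V₁ := by
    rw [← Scheme.Hom.comp_preimage, c.w]
  have e₂ : c.π.app m ⁻¹ᵁ (D.map g ⁻¹ᵁ V₂) = c.π.app k ⁻¹ᵁ V₂ := by
    rw [← Scheme.Hom.comp_preimage, c.w]
  rw [Scheme.Hom.preimage_inf] at hinf
  set W₁ := D.map g ⁻¹ᵁ V₁
  set W₂ := D.map g ⁻¹ᵁ V₂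
  have hne₁ : (W₁ : Set (D.obj m)).Nonempty := by
    rw [Set.nonempty_iff_ne_empty]
    intro h0
    apply h₁
    rw [← e₁]
    have : W₁ = ⊥ := TopologicalSpace.Opens.ext h0
    rw [this]
    rfl
  have hne₂ : (W₂ : Set (D.obj m)).Nonempty := by
    rw [Set.nonempty_iff_ne_empty]
    intro h0
    apply h₂
    rw [← e₂]
    have : W₂ = ⊥ := TopologicalSpace.Opens.ext h0
    rw [this]
    rfl
  obtain ⟨x, hx⟩ := nonempty_preirreducible_inter W₁.2 W₂.2 hne₁ hne₂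
  have : x ∈ W₁ ⊓ W₂ := hx
  rw [hinf] at this
  exact this

end Groth.Agent.Lib.Helper5
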