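import Groth.Agent.Lib.Helper5.LimConstr

set_option autoImplicit false
universe u

open CategoryTheory AlgebraicGeometry Limits Topology

namespace Groth.Agent.Lib.Helper5

theorem isCompact_inter_of_isConstructible {X : Type*} [TopologicalSpace X]
    {s : Set X} (hs : IsConstructible s) {O : Set X} (hO : IsCompact O) (hO' : IsOpen O) :
    IsCompact (s ∩ O) := by
  refine isConstructible_sdiff_union_induction (P := fun s => IsCompact (s ∩ O)) ?_ ?_ hs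
  · intro U V hU hU' hV hV'
    have : (U \ V) ∩ O = (U ∩ O) \ V := by
      ext x; simp only [Set.mem_inter_iff, Set.mem_sdiff]; tauto
    rw [this]
    exact (hU' hO hO').diff hV
  · intro s t hs ht
    rw [Set.union_inter_distrib_right]
    exact hs.union ht

variable {I : Type u} [Category.{u} I] (D : I ⥤ Scheme.{u}) (c : Cone D) (hc : IsLimit c)

include hc in
/-- Relative open case: if `V \ Z` (with `V` compact open, `Z` constructible) has open preimage in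
the limit, it has open preimage at some stage. -/
theorem exists_isOpen_map_preimage_diff [IsCofiltered I]
    [∀ {i j} (f : i ⟶ j), IsAffineHom (D.map f)] (k : I)
    (Z : Set (D.obj k)) (hZ : IsConstructible Z) (V : (D.obj k).Opens)
    (hV : IsCompact (V : Set (D.obj k)))
    (hopen : IsOpen (⇑(c.π.app k) ⁻¹' ((V : Set (D.obj k)) \ Z) : Set c.pt)) :
    ∃ (l : I) (φ : l ⟶ k), IsOpen (⇑(D.map φ) ⁻¹' ((V : Set (D.obj k)) \ Z)) := by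
  have hπ := isAffineHom_π_app D c hc k
  let W : c.pt.Opens := ⟨⇑(c.π.app k) ⁻¹' ((V : Set (D.obj k)) \ Z), hopen⟩
  have hO : IsCompact ((c.π.app k ⁻¹ᵁ V : c.pt.Opens) : Set c.pt) :=
    QuasiCompact.isCompact_preimage (f := c.π.app k) _ V.2 hV
  have hW : IsCompact (W : Set c.pt) := by
    have h1 := isCompact_inter_of_isConstructible
      ((c.π.app k).isConstructible_preimage hZ.compl) hO (c.π.app k ⁻¹ᵁ V).2
    have e : (W : Set c.pt) =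
        ⇑(c.π.app k) ⁻¹' Zᶜ ∩ ((c.π.app k ⁻¹ᵁ V : c.pt.Opens) : Set c.pt) := by
      ext x
      change c.π.app k x ∈ (V : Set (D.obj k)) \ Z ↔ (c.π.app k x ∈ Zᶜ ∧ c.π.app k x ∈ V)
      simp only [Set.mem_sdiff, Set.mem_compl_iff]
      exact ⟨fun h => ⟨h.2, h.1⟩, fun h => ⟨h.2, h.1⟩⟩
    rw [e]
    exact h1
  obtain ⟨k', ψ, V'', hV'', hVW⟩ := exists_preimage_eq_over D c hc k W hW
  set Zk : Set (D.obj k') := ⇑(D.map ψ) ⁻¹' Z with hZkdef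
  have hZk : IsConstructible Zk := (D.map ψ).isConstructible_preimage hZ
  set Vk : (D.obj k').Opens := D.map ψ ⁻¹ᵁ V with hVkdef
  have hVk : IsCompact (Vk : Set (D.obj k')) :=
    QuasiCompact.isCompact_preimage (f := D.map ψ) _ V.2 hV
  have keyW : ∀ x : c.pt, c.π.app k' x ∈ V'' ↔ (c.π.app k x ∈ V ∧ c.π.app k x ∉ Z) := by
    intro x
    have h1 : c.π.app k' x ∈ V'' ↔ x ∈ W := by
      rw [← hVW]; rfl
    rw [h1]; rfl
  have keyZ : ∀ x : c.pt, c.π.app k' x ∈ Zk ↔ c.π.app k x ∈ Z := by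
    intro x
    change D.map ψ (c.π.app k' x) ∈ Z ↔ c.π.app k x ∈ Z
    rw [← c.w ψ]; rfl
  have keyV : ∀ x : c.pt, c.π.app k' x ∈ Vk ↔ c.π.app k x ∈ V := by
    intro x
    change D.map ψ (c.π.app k' x) ∈ V ↔ c.π.app k x ∈ V
    rw [← c.w ψ]; rfl
  -- (a) Zkᶜ ∩ Vk ⊆ V'' eventually
  obtain ⟨k₁, φ₁, h₁⟩ := exists_forall_map_preimage_inter_subset D c hc hZk.compl Vk hVk V''
    (fun x hx => (keyW x).mpr ⟨(keyV x).mp hx.2, fun h => hx.1 ((keyZ x).mpr h)⟩)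
  -- (b) V'' ⊆ Vk eventually
  obtain ⟨k₂, φ₂, h₂⟩ := exists_forall_map_preimage_le D c hc (U := V'') (V := Vk) hV''
    (fun x hx => (keyV x).mpr ((keyW x).mp hx).1)
  -- (c) Zk ∩ V'' ⊆ ⊥ eventually
  obtain ⟨k₃, φ₃, h₃⟩ := exists_forall_map_preimage_inter_subset D c hc hZk V'' hV'' ⊥
    (fun x hx => (((keyW x).mp hx.2).2 ((keyZ x).mp hx.1)).elim)
  obtain ⟨l₀, a, b, hab⟩ := IsCofiltered.cospan φ₁ φ₂
  obtain ⟨l, a', d, had⟩ := IsCofiltered.cospan (a ≫ φ₁) φ₃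
  obtain ⟨χ, hχ⟩ : ∃ χ : l ⟶ k', χ = a' ≫ a ≫ φ₁ := ⟨_, rfl⟩
  have hχ₁ : (a' ≫ a) ≫ φ₁ = χ := by rw [hχ, Category.assoc]
  have hχ₂ : (a' ≫ b) ≫ φ₂ = χ := by rw [hχ, Category.assoc, hab]
  have hχ₃ : d ≫ φ₃ = χ := by rw [hχ, had]
  have H₁ := h₁ l (a' ≫ a)
  have H₂ := h₂ l (a' ≫ b)
  have H₃ := h₃ l d
  rw [hχ₁] at H₁
  rw [hχ₂] at H₂
  rw [hχ₃] at H₃
  refine ⟨l, χ ≫ ψ, ?_⟩
  have e : ⇑(D.map (χ ≫ ψ)) ⁻¹' ((V : Set (D.obj k)) \ Z) =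
      ⇑(D.map χ) ⁻¹' (V'' : Set (D.obj k')) := by
    ext y
    have e0 : D.map (χ ≫ ψ) y ∈ (V : Set (D.obj k)) \ Z ↔
        (D.map χ y ∈ Vk ∧ D.map χ y ∉ Zk) := by
      rw [map_comp_apply']; rfl
    change D.map (χ ≫ ψ) y ∈ (V : Set (D.obj k)) \ Z ↔ D.map χ y ∈ V''
    rw [e0]
    constructor
    · rintro ⟨hy1, hy2⟩
      exact H₁ ⟨hy2, hy1⟩
    · intro hy
      exact ⟨H₂ hy, fun hy' => H₃ ⟨hy', hy⟩⟩
  rw [e]
  exact V''.2.preimage (D.map χ).continuous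

/-- A compact locally closed subset of a scheme is closed in some compact open. -/
theorem exists_isCompact_opens_of_isLocallyClosed {X : Scheme.{u}} {W : Set X}
    (hWc : IsCompact W) (hlc : IsLocallyClosed W) :
    ∃ O : X.Opens, IsCompact (O : Set X) ∧ W ⊆ O ∧ IsOpen ((O : Set X) \ W) := by
  obtain ⟨O₀, C₀, hO₀, hC₀, rfl⟩ := hlc
  have hB : ∀ x ∈ O₀ ∩ C₀, ∃ B : X.Opens, IsAffineOpen B ∧ x ∈ B ∧ (B : Set X) ⊆ O₀ := by
    intro x hx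
    obtain ⟨_, ⟨B, hB, rfl⟩, hxB, hBO⟩ :=
      X.isBasis_affineOpens.exists_subset_of_mem_open hx.1 hO₀
    exact ⟨B, hB, hxB, hBO⟩
  choose B hBaff hxB hBO using hB
  obtain ⟨t, ht⟩ := hWc.elim_nhds_subcover' (fun x hx => (B x hx : Set X))
    (fun x hx => (B x hx).2.mem_nhds (hxB x hx))
  have hopen : IsOpen (⋃ x ∈ t, (B (x : ↥(O₀ ∩ C₀)) x.2 : Set X)) :=
    isOpen_biUnion fun x _ => (B x x.2).2
  refine ⟨⟨⋃ x ∈ t, (B (x : ↥(O₀ ∩ C₀)) x.2 : Set X), hopen⟩, ?_, ht, ?_⟩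
  · exact t.isCompact_biUnion fun x _ => (hBaff x x.2).isCompact
  · have hsub : (⋃ x ∈ t, (B (x : ↥(O₀ ∩ C₀)) x.2 : Set X)) ⊆ O₀ :=
      Set.iUnion₂_subset fun x _ => hBO x x.2
    have e : (⋃ x ∈ t, (B (x : ↥(O₀ ∩ C₀)) x.2 : Set X)) \ (O₀ ∩ C₀) =
        (⋃ x ∈ t, (B (x : ↥(O₀ ∩ C₀)) x.2 : Set X)) ∩ C₀ᶜ := by
      ext x
      simp only [Set.mem_sdiff, Set.mem_inter_iff, Set.mem_compl_iff]
      constructor
      · rintro ⟨h1, h2⟩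
        exact ⟨h1, fun h3 => h2 ⟨hsub h1, h3⟩⟩
      · rintro ⟨h1, h2⟩
        exact ⟨h1, fun h3 => h2 h3.2⟩
    change IsOpen ((⋃ x ∈ t, (B (x : ↥(O₀ ∩ C₀)) x.2 : Set X)) \ (O₀ ∩ C₀))
    rw [e]
    exact hopen.inter hC₀.isOpen_compl

include hc in
theorem exists_isLocallyClosed_map_preimage [IsCofiltered I]
    [∀ {i j} (f : i ⟶ j), IsAffineHom (D.map f)] (i₁ : I) [CompactSpace (D.obj i₁)]
    (Z₁ : Set (D.obj i₁)) (hZ : IsConstructible Z₁)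
    (hlc : IsLocallyClosed (⇑(c.π.app i₁) ⁻¹' Z₁ : Set c.pt)) :
    ∃ (j : I) (φ : j ⟶ i₁), IsLocallyClosed (⇑(D.map φ) ⁻¹' Z₁) := by
  have hcpt : CompactSpace c.pt := compactSpace_pt_of_compactSpace D c hc i₁
  have hWc : IsCompact (⇑(c.π.app i₁) ⁻¹' Z₁ : Set c.pt) :=
    isCompact_of_isConstructible ((c.π.app i₁).isConstructible_preimage hZ)
  obtain ⟨O, hO, hWO, hOW⟩ := exists_isCompact_opens_of_isLocallyClosed hWc hlc
  obtain ⟨k, ψ, V, hV, hVO⟩ := exists_preimage_eq_over D c hc i₁ O hO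
  have : CompactSpace (D.obj k) := compactSpace_obj_of_hom D ψ
  obtain ⟨Z, hZdef⟩ : ∃ Z : Set (D.obj k), Z = ⇑(D.map ψ) ⁻¹' Z₁ := ⟨_, rfl⟩
  have hZk : IsConstructible Z := hZdef ▸ (D.map ψ).isConstructible_preimage hZ
  have keyZ : ∀ x : c.pt, c.π.app k x ∈ Z ↔ c.π.app i₁ x ∈ Z₁ := by
    intro x
    rw [hZdef]
    change D.map ψ (c.π.app k x) ∈ Z₁ ↔ c.π.app i₁ x ∈ Z₁
    rw [← c.w ψ]; rfl
  have keyV : ∀ x : c.pt, c.π.app k x ∈ V ↔ x ∈ O := by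
    intro x
    rw [← hVO]; rfl
  have hopen : IsOpen (⇑(c.π.app k) ⁻¹' ((V : Set (D.obj k)) \ Z) : Set c.pt) := by
    have e : (⇑(c.π.app k) ⁻¹' ((V : Set (D.obj k)) \ Z) : Set c.pt) =
        (O : Set c.pt) \ (⇑(c.π.app i₁) ⁻¹' Z₁) := by
      ext x
      change (c.π.app k x ∈ V ∧ c.π.app k x ∉ Z) ↔ (x ∈ O ∧ ¬ c.π.app i₁ x ∈ Z₁)
      rw [keyZ, keyV]
    rw [e]; exact hOW
  obtain ⟨l₁, φ₁, h₁⟩ := exists_isOpen_map_preimage_diff D c hc k Z hZk V hV hopen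
  obtain ⟨l₂, φ₂, h₂⟩ := exists_forall_map_preimage_inter_subset D c hc hZk ⊤ isCompact_univ V
    (fun x hx => (keyV x).mpr (hWO ((keyZ x).mp hx.1)))
  obtain ⟨l, a, b, hab⟩ := IsCofiltered.cospan φ₁ φ₂
  obtain ⟨χ, hχ⟩ : ∃ χ : l ⟶ k, χ = a ≫ φ₁ := ⟨_, rfl⟩
  have H₂ := h₂ l b
  rw [← hab, ← hχ] at H₂
  have H₁ : IsOpen (⇑(D.map χ) ⁻¹' ((V : Set (D.obj k)) \ Z)) := by
    have e : ⇑(D.map χ) ⁻¹' ((V : Set (D.obj k)) \ Z) =
        ⇑(D.map a) ⁻¹' (⇑(D.map φ₁) ⁻¹' ((V : Set (D.obj k)) \ Z)) := by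
      ext y
      change D.map χ y ∈ (V : Set (D.obj k)) \ Z ↔
        D.map φ₁ (D.map a y) ∈ (V : Set (D.obj k)) \ Z
      rw [hχ, map_comp_apply']
    rw [e]
    exact h₁.preimage (D.map a).continuous
  refine ⟨l, χ ≫ ψ, ?_⟩
  have e : ⇑(D.map (χ ≫ ψ)) ⁻¹' Z₁ =
      (⇑(D.map χ) ⁻¹' (V : Set (D.obj k))) ∩ (⇑(D.map χ) ⁻¹' ((V : Set (D.obj k)) \ Z))ᶜ := by
    ext y
    have e0 : D.map (χ ≫ ψ) y ∈ Z₁ ↔ D.map χ y ∈ Z := by
      rw [map_comp_apply', hZdef]; rfl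
    change D.map (χ ≫ ψ) y ∈ Z₁ ↔ (D.map χ y ∈ V ∧ ¬ (D.map χ y ∈ V ∧ D.map χ y ∉ Z))
    rw [e0]
    constructor
    · intro hy
      exact ⟨H₂ ⟨hy, trivial⟩, fun h => h.2 hy⟩
    · rintro ⟨h1, h2⟩
      by_contra h3
      exact h2 ⟨h1, h3⟩
  rw [e]
  exact ⟨_, _, V.2.preimage (D.map χ).continuous, H₁.isClosed_compl, rfl⟩

end Groth.Agent.Lib.Helper5
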