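import Mathlib.AlgebraicGeometry.AffineTransitionLimit

set_option autoImplicit false
universe u

open CategoryTheory AlgebraicGeometry Limits

namespace Groth.Agent.Lib.Helper5

/-- Affine case: a nonzero nilpotent on the limit comes from nonzero nilpotents on all late stages. -/
theorem exists_forall_not_isReduced_of_isAffine {J : Type u} [Category.{u} J] [IsCofiltered J]
    (D : J ⥤ Scheme.{u}) (c : Cone D) (hc : IsLimit c) [∀ j, IsAffine (D.obj j)]
    [IsAffine c.pt] (h : ¬ AlgebraicGeometry.IsReduced c.pt) :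
    ∃ k : J, ∀ (m : J) (_ : m ⟶ k), ¬ AlgebraicGeometry.IsReduced (D.obj m) := by
  have h' : ¬ _root_.IsReduced Γ(c.pt, ⊤) := fun h0 => h (isReduced_of_isAffine_isReduced c.pt)
  have : ∃ s : Γ(c.pt, ⊤), IsNilpotent s ∧ s ≠ 0 := by
    by_contra hno
    push Not at hno
    exact h' ⟨fun x hx => hno x hx⟩
  obtain ⟨s, ⟨n, hn⟩, hs0⟩ := this
  obtain ⟨j, t, rfl⟩ := exists_appTop_π_eq_of_isAffine_of_isLimit D c hc s
  have hn' : (c.π.app j).appTop (t ^ n) = 0 := by rw [map_pow, hn]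
  obtain ⟨k, f, hk⟩ := exists_appTop_map_eq_zero_of_isAffine_of_isLimit D c hc j (t ^ n) hn'
  refine ⟨k, fun m g hred => ?_⟩
  have e1 : (D.map (g ≫ f)).appTop (t ^ n) = 0 := by
    rw [D.map_comp, Scheme.Hom.comp_appTop, CommRingCat.comp_apply, hk, map_zero]
  have e2 : IsNilpotent ((D.map (g ≫ f)).appTop t) := ⟨n, by rw [← map_pow, e1]⟩
  have e3 : (D.map (g ≫ f)).appTop t = 0 := e2.eq_zero
  apply hs0
  have e4 : (c.π.app j).appTop t = (c.π.app m).appTop ((D.map (g ≫ f)).appTop t) := by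
    rw [← CommRingCat.comp_apply, ← Scheme.Hom.comp_appTop, c.w]
  rw [e4, e3, map_zero]

variable {I : Type u} [Category.{u} I] (D : I ⥤ Scheme.{u}) (c : Cone D) (hc : IsLimit c)

include hc in
theorem exists_forall_not_isReduced [IsCofiltered I]
    [∀ {i j} (f : i ⟶ j), IsAffineHom (D.map f)] (h : ¬ AlgebraicGeometry.IsReduced c.pt) :
    ∃ (i : I), ∀ (j : I) (_ : j ⟶ i), ¬ AlgebraicGeometry.IsReduced (D.obj j) := by
  obtain ⟨i⟩ := IsCofiltered.nonempty (C := I)
  have hcov : TopologicalSpace.IsOpenCover (fun V : (D.obj i).affineOpens => c.π.app i ⁻¹ᵁ (V : (D.obj i).Opens)) := by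
    rw [TopologicalSpace.IsOpenCover, ← Scheme.Hom.preimage_iSup, iSup_affineOpens_eq_top (D.obj i)]
    rfl
  have : ∃ V : (D.obj i).affineOpens, ¬ AlgebraicGeometry.IsReduced (c.π.app i ⁻¹ᵁ (V : (D.obj i).Opens)).toScheme := by
    by_contra hno
    push Not at hno
    have : ∀ V, AlgebraicGeometry.IsReduced ((c.pt.openCoverOfIsOpenCover _ hcov).X V) := hno
    exact h (IsReduced.of_openCover _ (c.pt.openCoverOfIsOpenCover _ hcov))
  obtain ⟨⟨V, hV⟩, hVred⟩ := this
  have hV' : IsAffineOpen V := hV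
  have (j : Over i) : IsAffine ((opensDiagram D i V).obj j) := hV'.preimage _
  have : IsAffine (opensCone D c i V).pt :=
    Scheme.isAffine_of_isLimit _ (isLimitOpensCone D c hc i V)
  obtain ⟨k, hk⟩ := exists_forall_not_isReduced_of_isAffine (opensDiagram D i V)
    (opensCone D c i V) (isLimitOpensCone D c hc i V) hVred
  refine ⟨k.left, fun j φ hred => ?_⟩
  refine hk (Over.mk (φ ≫ k.hom)) (Over.homMk φ) ?_
  change AlgebraicGeometry.IsReduced (D.map (φ ≫ k.hom) ⁻¹ᵁ V).toScheme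
  infer_instance

end Groth.Agent.Lib.Helper5
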