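import Mathlib.LinearAlgebra.TensorProduct.Basis
import Mathlib.LinearAlgebra.Basis.VectorSpace
import Mathlib.Algebra.Algebra.Basic
import Mathlib.Algebra.Field.Basic
import Mathlib.Algebra.Algebra.Field

set_option autoImplicit false
set_option linter.unusedSectionVars false

namespace Groth.Agent.Lib.Helper5.LinIndepBase

open TensorProduct Module

variable {K K' V : Type*} [Field K] [Field K'] [Algebra K K'] [AddCommGroup V] [Module K V]
  {ι : Type*}

/-- linear independence is insensitive to extension of the base field -/
theorem linearIndependent_tmul_iff (v : ι → V) :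
    LinearIndependent K' (fun i => (1 : K') ⊗ₜ[K] v i) ↔ LinearIndependent K v := by
  constructor
  · intro h
    rw [linearIndependent_iff'] at h ⊢
    intro s g hg i hi
    have h1 : ∑ j ∈ s, algebraMap K K' (g j) • ((1 : K') ⊗ₜ[K] v j) = 0 := by
      have : ∀ j, algebraMap K K' (g j) • ((1 : K') ⊗ₜ[K] v j) = (1 : K') ⊗ₜ[K] (g j • v j) := by
        intro j
        rw [TensorProduct.tmul_smul, TensorProduct.smul_tmul', TensorProduct.smul_tmul',
          smul_eq_mul, mul_one, Algebra.smul_def, mul_one]
      simp_rw [this]
      rw [← TensorProduct.tmul_sum, hg, TensorProduct.tmul_zero]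
    have h2 := h s (fun j => algebraMap K K' (g j)) h1 i hi
    exact (map_eq_zero_iff _ (FaithfulSMul.algebraMap_injective K K')).1 h2
  · intro hv
    let b := Basis.extend hv.linearIndepOn_id
    have hsub : ∀ i, v i ∈ hv.linearIndepOn_id.extend (Set.subset_univ (Set.range v)) :=
      fun i => Basis.subset_extend hv.linearIndepOn_id ⟨i, rfl⟩
    let j : ι → hv.linearIndepOn_id.extend (Set.subset_univ (Set.range v)) :=
      fun i => ⟨v i, hsub i⟩
    have hj : Function.Injective j := by
      intro a a' h
      exact hv.injective (congrArg Subtype.val h)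
    have h1 := (b.baseChange K').linearIndependent.comp j hj
    have h2 : (⇑(b.baseChange K') ∘ j) = fun i => (1 : K') ⊗ₜ[K] v i := by
      funext i
      rw [Function.comp_apply, Basis.baseChange_apply, Basis.extend_apply_self]
    rwa [h2] at h1

end Groth.Agent.Lib.Helper5.LinIndepBase
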