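import Mathlib
import Groth.Agent.Lib.Helper21.FlatLocal3

/-!
# Helper5 — NFlatRegA

Normal flatness along `J` and sequences regular on `A/J`: regularity on `J^k` and `J^k/J^(k+1)`.
-/

set_option autoImplicit false
universe u

namespace Groth.Agent.Lib.Helper5.NFlatReg

open RingTheory.Sequence Pointwise Function Groth.Agent.Lib.Helper21.FlatLocal

variable {R : Type u} [CommRing R]

theorem isWeaklyRegular_of_subsingleton (rs : List R) :
    ∀ (M : Type u) [AddCommGroup M] [Module R M] [Subsingleton M], IsWeaklyRegular M rs := by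
  induction rs with
  | nil => intro M _ _ _; exact IsWeaklyRegular.nil R M
  | cons r rs ih =>
    intro M _ _ _
    rw [isWeaklyRegular_cons_iff]
    refine ⟨fun x y _ => Subsingleton.elim x y, ih _⟩

/-- exactness of `0 → M'/r → M/r → M''/r → 0` -/
theorem quot_exact {M' M M'' : Type u} [AddCommGroup M'] [Module R M'] [AddCommGroup M]
    [Module R M] [AddCommGroup M''] [Module R M''] (f : M' →ₗ[R] M) (g : M →ₗ[R] M'')
    (hf : Injective f) (hg : Surjective g) (hfg : Exact f g) (r : R) (hr : IsSMulRegular M'' r) :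
    Injective (QuotSMulTop.map r f) ∧ Surjective (QuotSMulTop.map r g) ∧
      Exact (QuotSMulTop.map r f) (QuotSMulTop.map r g) := by
  refine ⟨?_, QuotSMulTop.map_surjective r hg, QuotSMulTop.map_exact r hfg hg⟩
  have h0 : Exact (0 : PUnit.{u+1} →ₗ[R] M') f := by
    intro x
    constructor
    · intro hx
      exact ⟨0, by rw [LinearMap.zero_apply]; exact (hf (by rw [hx, map_zero])).symm⟩
    · rintro ⟨y, rfl⟩
      simp
  have h1 := QuotSMulTop.map_first_exact_on_four_term_exact_of_isSMulRegular_last h0 hfg hr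
  rw [injective_iff_map_eq_zero]
  intro x hx
  obtain ⟨y, rfl⟩ := (h1 x).1 hx
  have : y = 0 := Subsingleton.elim _ _
  rw [this, map_zero]

/-- extension: weakly regular on sub and quotient implies weakly regular on the middle -/
theorem isWeaklyRegular_of_exact (rs : List R) :
    ∀ {M' M M'' : Type u} [AddCommGroup M'] [Module R M'] [AddCommGroup M]
    [Module R M] [AddCommGroup M''] [Module R M''] (f : M' →ₗ[R] M) (g : M →ₗ[R] M''),
    Injective f → Surjective g → Exact f g → IsWeaklyRegular M' rs → IsWeaklyRegular M'' rs →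
      IsWeaklyRegular M rs := by
  induction rs with
  | nil => intro M' M M'' _ _ _ _ _ _ f g _ _ _ _ _; exact IsWeaklyRegular.nil R M
  | cons r rs ih =>
    intro M' M M'' _ _ _ _ _ _ f g hf hg hfg h1 h2
    rw [isWeaklyRegular_cons_iff] at h1 h2 ⊢
    obtain ⟨hi, hs, he⟩ := quot_exact f g hf hg hfg r h2.1
    refine ⟨isSMulRegular_of_range_eq_ker hf hfg.linearMap_ker_eq.symm h1.1 h2.1, ?_⟩
    exact ih _ _ hi hs he h1.2 h2.2

/-- kernel: weakly regular on the middle and the quotient implies weakly regular on the sub -/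
theorem isWeaklyRegular_ker_of_exact (rs : List R) :
    ∀ {M' M M'' : Type u} [AddCommGroup M'] [Module R M'] [AddCommGroup M]
    [Module R M] [AddCommGroup M''] [Module R M''] (f : M' →ₗ[R] M) (g : M →ₗ[R] M''),
    Injective f → Surjective g → Exact f g → IsWeaklyRegular M rs → IsWeaklyRegular M'' rs →
      IsWeaklyRegular M' rs := by
  induction rs with
  | nil => intro M' M M'' _ _ _ _ _ _ f g _ _ _ _ _; exact IsWeaklyRegular.nil R M'
  | cons r rs ih =>
    intro M' M M'' _ _ _ _ _ _ f g hf hg hfg h1 h2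
    rw [isWeaklyRegular_cons_iff] at h1 h2 ⊢
    obtain ⟨hi, hs, he⟩ := quot_exact f g hf hg hfg r h2.1
    refine ⟨h1.1.of_injective f hf, ?_⟩
    exact ih _ _ hi hs he h1.2 h2.2

section Krull

variable {A : Type u} [CommRing A] [IsLocalRing A] [IsNoetherianRing A] (J : Ideal A)

theorem isWeaklyRegular_of_forall_quot (hJ : J ≠ ⊤) (fs : List A) :
    ∀ (M : Type u) [AddCommGroup M] [Module A M] [Module.Finite A M],
      (∀ n : ℕ, IsWeaklyRegular (M ⧸ (J ^ n • ⊤ : Submodule A M)) fs) → IsWeaklyRegular M fs := by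
  induction fs with
  | nil => intro M _ _ _ _; exact IsWeaklyRegular.nil A M
  | cons f fs ih =>
    intro M _ _ _ h
    rw [isWeaklyRegular_cons_iff]
    constructor
    · rw [isSMulRegular_iff_right_eq_zero_of_smul]
      intro x hx
      have h1 : x ∈ (⨅ i : ℕ, J ^ i • ⊤ : Submodule A M) := by
        rw [Submodule.mem_iInf]
        intro n
        have h2 := ((isWeaklyRegular_cons_iff _ f fs).1 (h n)).1
        rw [← Submodule.Quotient.mk_eq_zero]
        apply h2.right_eq_zero_of_smul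
        rw [← Submodule.Quotient.mk_smul, hx, Submodule.Quotient.mk_zero]
      rw [Ideal.iInf_pow_smul_eq_bot_of_isLocalRing J hJ] at h1
      exact (Submodule.mem_bot A).1 h1
    · refine ih (QuotSMulTop f M) fun n => ?_
      have h2 := ((isWeaklyRegular_cons_iff _ f fs).1 (h n)).2
      exact ((quotSMulTopQuotEquiv' (N := M) f (J ^ n)).isWeaklyRegular_congr fs).1 h2

end Krull

section Gr

variable {A : Type u} [CommRing A] (J : Ideal A) (n : ℕ)

/-- `J^n / J^(n+1) → A / J^(n+1)` -/
noncomputable def grIncl :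
    (↥(J ^ n) ⧸ (J • (⊤ : Submodule A ↥(J ^ n)))) →ₗ[A] A ⧸ J ^ (n + 1) :=
  Submodule.liftQ _ ((J ^ (n + 1)).mkQ ∘ₗ (J ^ n).subtype) (by
    intro x hx
    rw [LinearMap.mem_ker, LinearMap.comp_apply, Submodule.mkQ_apply, Submodule.Quotient.mk_eq_zero]
    have h1 : (J ^ n).subtype x ∈ (J • (⊤ : Submodule A ↥(J ^ n))).map (J ^ n).subtype :=
      Submodule.mem_map_of_mem hx
    rw [Submodule.map_smul'', Submodule.map_top, Submodule.range_subtype, smul_eq_mul,
      ← pow_succ'] at h1
    exact h1)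

theorem grIncl_mk (x : ↥(J ^ n)) :
    grIncl J n (Submodule.Quotient.mk x) = Submodule.Quotient.mk (x : A) := rfl

theorem grIncl_injective : Injective (grIncl J n) := by
  rw [injective_iff_map_eq_zero]
  intro x hx
  obtain ⟨x, rfl⟩ := Submodule.Quotient.mk_surjective _ x
  rw [grIncl_mk, Submodule.Quotient.mk_eq_zero] at hx
  rw [Submodule.Quotient.mk_eq_zero]
  have h1 : (J • (⊤ : Submodule A ↥(J ^ n))).map (J ^ n).subtype = J ^ (n + 1) := by
    rw [Submodule.map_smul'', Submodule.map_top, Submodule.range_subtype, smul_eq_mul, ← pow_succ']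
  rw [← h1] at hx
  obtain ⟨y, hy, hyx⟩ := hx
  have : y = x := Subtype.ext hyx
  rw [← this]
  exact hy

/-- `A / J^(n+1) → A / J^n` -/
noncomputable def grProj : (A ⧸ J ^ (n + 1)) →ₗ[A] A ⧸ J ^ n :=
  Submodule.mapQ (J ^ (n + 1)) (J ^ n) LinearMap.id (Ideal.pow_le_pow_right (Nat.le_succ n))

theorem grProj_surjective : Surjective (grProj J n) := by
  intro y
  obtain ⟨y, rfl⟩ := Submodule.Quotient.mk_surjective _ y
  exact ⟨Submodule.Quotient.mk y, rfl⟩

theorem gr_exact : Exact (grIncl J n) (grProj J n) := by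
  intro y
  obtain ⟨y, rfl⟩ := Submodule.Quotient.mk_surjective _ y
  change Submodule.Quotient.mk y = 0 ↔ _
  rw [Submodule.Quotient.mk_eq_zero]
  constructor
  · intro hy
    exact ⟨Submodule.Quotient.mk ⟨y, hy⟩, rfl⟩
  · rintro ⟨x, hx⟩
    obtain ⟨x, rfl⟩ := Submodule.Quotient.mk_surjective _ x
    rw [grIncl_mk] at hx
    have h1 := (Submodule.Quotient.eq _).1 hx
    have h2 := (J ^ n).sub_mem x.2 (Ideal.pow_le_pow_right (Nat.le_succ n) h1)
    rwa [sub_sub_cancel] at h2

end Gr

section Main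

variable (A : Type u) [CommRing A] [IsLocalRing A] [IsNoetherianRing A] (J : Ideal A)

omit [IsLocalRing A] [IsNoetherianRing A] in
theorem isWeaklyRegular_gr (k : ℕ)
    (hflat : Module.Flat (A ⧸ J) (↥(J ^ k) ⧸ (J • (⊤ : Submodule A ↥(J ^ k)))))
    (fs : List A) (hreg : IsWeaklyRegular (A ⧸ J) fs) :
    IsWeaklyRegular (↥(J ^ k) ⧸ (J • (⊤ : Submodule A ↥(J ^ k)))) fs := by
  have h1 : IsWeaklyRegular (A ⧸ J) (fs.map (algebraMap A (A ⧸ J))) :=
    (isWeaklyRegular_map_algebraMap_iff (A ⧸ J) (A ⧸ J) fs).2 hreg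
  have h2 := h1.isWeaklyRegular_rTensor (M₂ := (↥(J ^ k) ⧸ (J • (⊤ : Submodule A ↥(J ^ k)))))
  have h3 := ((TensorProduct.lid (A ⧸ J)
    (↥(J ^ k) ⧸ (J • (⊤ : Submodule A ↥(J ^ k))))).isWeaklyRegular_congr _).1 h2
  exact (isWeaklyRegular_map_algebraMap_iff (A ⧸ J) _ fs).1 h3

theorem main (hJ : J ≠ ⊤)
    (hflat : ∀ k : ℕ, Module.Flat (A ⧸ J) (↥(J ^ k) ⧸ (J • (⊤ : Submodule A ↥(J ^ k)))))
    (fs : List A) (hreg : IsWeaklyRegular (A ⧸ J) fs) (k : ℕ) :
    IsWeaklyRegular (↥(J ^ k)) fs ∧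
      IsWeaklyRegular (↥(J ^ k) ⧸ (J • (⊤ : Submodule A ↥(J ^ k)))) fs := by
  have hgr := fun n => isWeaklyRegular_gr A J n (hflat n) fs hreg
  have hquot : ∀ n : ℕ, IsWeaklyRegular (A ⧸ J ^ n) fs := by
    intro n
    induction n with
    | zero =>
      have : Subsingleton (A ⧸ J ^ 0) := by
        rw [pow_zero, Ideal.one_eq_top]
        exact Ideal.Quotient.subsingleton_iff.2 rfl
      exact isWeaklyRegular_of_subsingleton fs _
    | succ n ih =>
      exact isWeaklyRegular_of_exact fs (grIncl J n) (grProj J n) (grIncl_injective J n)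
        (grProj_surjective J n) (gr_exact J n) (hgr n) ih
  have hA : IsWeaklyRegular A fs := by
    refine isWeaklyRegular_of_forall_quot J hJ fs A fun n => ?_
    have heq : (J ^ n • ⊤ : Submodule A A) = J ^ n := by rw [smul_eq_mul, Ideal.mul_top]
    exact ((Submodule.quotEquivOfEq _ _ heq).isWeaklyRegular_congr fs).2 (hquot n)
  refine ⟨?_, hgr k⟩
  refine isWeaklyRegular_ker_of_exact fs (J ^ k).subtype (J ^ k).mkQ (J ^ k).injective_subtype
    (Submodule.mkQ_surjective _) ?_ hA (hquot k)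
  exact LinearMap.exact_subtype_mkQ (J ^ k)

end Main

end Groth.Agent.Lib.Helper5.NFlatReg
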