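import Mathlib
import Groth.Agent.Lib.Helper5.KosFlatBC
/-!
# Dictionary between extension of scalars along `R → R'` and along `A → A'` for a pushout square
-/

set_option autoImplicit false
universe u
open TensorProduct CategoryTheory

namespace Groth.Agent.Lib.Helper5.PushDict

variable (A A' : Type u) {R R' : Type u} [CommRing A] [CommRing A'] [CommRing R] [CommRing R']
  [Algebra A A'] [Algebra A R] [Algebra A R'] [Algebra A' R'] [Algebra R R']
  [IsScalarTower A A' R'] [IsScalarTower A R R'] [Algebra.IsPushout A A' R R']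

/-- restriction to `A` -/
noncomputable abbrev RA : ModuleCat.{u} R ⥤ ModuleCat.{u} A :=
  ModuleCat.restrictScalars.{u} (algebraMap A R)

variable (M : ModuleCat.{u} R)

instance : IsScalarTower A R ((RA A).obj M) :=
  ⟨fun a r m => by
    change (a • r) • (m : M) = algebraMap A R a • (r • (m : M))
    rw [Algebra.smul_def, mul_smul]⟩


variable (R') in
/-- `R'` as an `R`-module, two ways -/
noncomputable def bEquiv : R' ≃ₗ[R]
    ((ModuleCat.restrictScalars.{u} (algebraMap R R')).obj (ModuleCat.of R' R')) :=
  { toFun := fun x => x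
    invFun := fun x => x
    left_inv := fun _ => rfl
    right_inv := fun _ => rfl
    map_add' := fun _ _ => rfl
    map_smul' := fun a x => Algebra.smul_def a x }

/-- the identity `M ≃ RA M` -/
noncomputable def idEquiv : M ≃ₗ[R] ((RA A).obj M) :=
  { toFun := fun x => x
    invFun := fun x => x
    left_inv := fun _ => rfl
    right_inv := fun _ => rfl
    map_add' := fun _ _ => rfl
    map_smul' := fun _ _ => rfl }

/-- first step of the dictionary -/
noncomputable def dict₁ :
    ((ModuleCat.restrictScalars.{u} (algebraMap R R')).obj (ModuleCat.of R' R')) ⊗[R] M ≃ₗ[R]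
      R' ⊗[R] ((RA A).obj M) :=
  TensorProduct.congr (bEquiv R').symm (idEquiv A M)

/-- the dictionary between extension of scalars along `R → R'` and along `A → A'` -/
noncomputable def dict : (KosBC.E (algebraMap R R')).obj M ≃+ A' ⊗[A] ((RA A).obj M) :=
  (dict₁ A M).toAddEquiv.trans
    (Algebra.IsPushout.cancelBaseChange A A' R R' ((RA A).obj M)).toAddEquiv


theorem dict_symm_tmul (a' : A') (m : (RA A).obj M) :
    (dict A A' (R' := R') M).symm (a' ⊗ₜ[A] m) =
      ((bEquiv R' (algebraMap A' R' a')) ⊗ₜ[R] ((idEquiv A M).symm m) :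
        ((ModuleCat.restrictScalars.{u} (algebraMap R R')).obj (ModuleCat.of R' R')) ⊗[R] M) :=
  (congrArg (dict₁ A M).symm
    (Algebra.IsPushout.cancelBaseChange_symm_tmul A A' R R' ((RA A).obj M) a' m)).trans rfl

variable {M} in
theorem dict_symm_natural {N : ModuleCat.{u} R} (f : M ⟶ N) (w : A' ⊗[A] ((RA A).obj M)) :
    ((KosBC.E (algebraMap R R')).map f).hom ((dict A A' (R' := R') M).symm w) =
      (dict A A' (R' := R') N).symm ((((RA A).map f).hom.lTensor A') w) := by
  induction w with
  | zero => simp
  | add x y hx hy => simp only [map_add, hx, hy]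
  | tmul a' m =>
    have h1 := dict_symm_tmul A A' (R' := R') M a' m
    have h2 := dict_symm_tmul A A' (R' := R') N a' (((RA A).map f).hom m)
    rw [LinearMap.lTensor_tmul]
    exact (congrArg ((KosBC.E (algebraMap R R')).map f).hom h1).trans h2.symm

variable {M} in
theorem dict_natural {N : ModuleCat.{u} R} (f : M ⟶ N) (z : (KosBC.E (algebraMap R R')).obj M) :
    dict A A' (R' := R') N (((KosBC.E (algebraMap R R')).map f).hom z) =
      (((RA A).map f).hom.lTensor A') (dict A A' (R' := R') M z) := by
  obtain ⟨w, rfl⟩ := (dict A A' (R' := R') M).symm.surjective z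
  rw [dict_symm_natural, AddEquiv.apply_symm_apply, AddEquiv.apply_symm_apply]


theorem dict_symm_smul (a' : A') (w : A' ⊗[A] ((RA A).obj M)) :
    (dict A A' (R' := R') M).symm (a' • w) =
      (algebraMap A' R' a') • (dict A A' (R' := R') M).symm w := by
  induction w with
  | zero => simp
  | add x y hx hy => simp only [smul_add, map_add, hx, hy]
  | tmul s m =>
    rw [TensorProduct.smul_tmul', dict_symm_tmul, dict_symm_tmul, smul_eq_mul, map_mul]
    rfl

/-- the dictionary as an `A'`-linear equivalence -/
noncomputable def dictL :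
    ((ModuleCat.restrictScalars.{u} (algebraMap A' R')).obj ((KosBC.E (algebraMap R R')).obj M))
      ≃ₗ[A'] A' ⊗[A] ((RA A).obj M) :=
  LinearEquiv.symm
    { (dict A A' (R' := R') M).symm with
      map_smul' := fun a' w => dict_symm_smul A A' M a' w }

theorem flat_tensor_of_flatOver
    (h : KosFlatBC.flatOver A' ((KosBC.E (algebraMap R R')).obj M)) :
    Module.Flat A' (A' ⊗[A] ((RA A).obj M)) := by
  have h' : Module.Flat A' ((ModuleCat.restrictScalars.{u} (algebraMap A' R')).obj
      ((KosBC.E (algebraMap R R')).obj M)) := h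
  exact Module.Flat.of_linearEquiv (dictL A A' (R' := R') M).symm

theorem exact_lTensor_of_exact {M₁ M₂ M₃ : ModuleCat.{u} R} (f : M₁ ⟶ M₂) (g : M₂ ⟶ M₃)
    (h : Function.Exact ((KosBC.E (algebraMap R R')).map f).hom
      ((KosBC.E (algebraMap R R')).map g).hom) :
    Function.Exact (((RA A).map f).hom.lTensor A') (((RA A).map g).hom.lTensor A') := by
  intro w
  constructor
  · intro hw
    obtain ⟨z, rfl⟩ := (dict A A' (R' := R') M₂).surjective w
    rw [← dict_natural] at hw
    have hz : ((KosBC.E (algebraMap R R')).map g).hom z = 0 :=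
      (dict A A' (R' := R') M₃).injective (hw.trans (map_zero _).symm)
    obtain ⟨y, rfl⟩ := (h z).1 hz
    exact ⟨dict A A' (R' := R') M₁ y, (dict_natural A A' f y).symm⟩
  · rintro ⟨v, rfl⟩
    obtain ⟨y, rfl⟩ := (dict A A' (R' := R') M₁).surjective v
    rw [← dict_natural, ← dict_natural]
    have : ((KosBC.E (algebraMap R R')).map g).hom (((KosBC.E (algebraMap R R')).map f).hom y) = 0 :=
      (h _).2 ⟨y, rfl⟩
    rw [this, map_zero]

section Quotient

variable {A B : Type u} [CommRing A] [CommRing B] [Algebra A B] (J : Ideal A)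

attribute [local instance] Algebra.TensorProduct.rightAlgebra in
theorem isPushout_quotient : Algebra.IsPushout A (A ⧸ J) B (B ⧸ J.map (algebraMap A B)) := by
  have h : Algebra.IsPushout A (A ⧸ J) B ((A ⧸ J) ⊗[A] B) := inferInstance
  refine Algebra.IsPushout.of_equiv (R := A) (R' := A ⧸ J) (S := B) (S' := (A ⧸ J) ⊗[A] B)
    (T := B ⧸ J.map (algebraMap A B)) (Algebra.TensorProduct.quotIdealMapEquivQuotTensor B J).symm ?_
  ext b
  change (Algebra.TensorProduct.quotIdealMapEquivQuotTensor B J).symm ((1 : A ⧸ J) ⊗ₜ[A] b) = _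
  rw [AlgEquiv.symm_apply_eq]
  rfl

end Quotient

end Groth.Agent.Lib.Helper5.PushDict
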