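import Mathlib
import Groth.Agent.Lib.Helper5.PushDict
import Groth.Agent.Lib.Helper5.KosFlatBC
import Groth.Agent.Lib.Helper21.FlatKit3

/-!
# Lifting Koszul-regular sequences with flat quotient along a nilpotent thickening of the base
-/

set_option autoImplicit false
universe u
open TensorProduct CategoryTheory CategoryTheory.Limits

namespace Groth.Agent.Lib.Helper5.NilLift

open Groth.Agent.Lib.Helper5.KosBC Groth.Agent.Lib.Helper5.KosFlatBC Groth.Agent.Lib.Helper5.PushDict

variable {R R' : Type u} [CommRing R] [CommRing R'] (ψ : R →+* R')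

/-- extension of scalars commutes with opcycles -/
noncomputable def opcyclesEIso (K : CochainComplex (ModuleCat.{u} R) ℤ) (j : ℤ) :
    (E ψ).obj (K.opcycles j) ≅ ((EC ψ).obj K).opcycles j :=
  IsColimit.coconePointUniqueUpToIso
    (CokernelCofork.mapIsColimit _ (K.opcyclesIsCokernel (j - 1) j (by simp)) (E ψ))
    (((EC ψ).obj K).opcyclesIsCokernel (j - 1) j (by simp))

end Groth.Agent.Lib.Helper5.NilLift

namespace Groth.Agent.Lib.Helper5.NilLift

open Groth.Agent.Lib.Helper5.KosBC Groth.Agent.Lib.Helper5.KosFlatBC Groth.Agent.Lib.Helper5.PushDict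
open Groth.Agent.Lib.Helper21.FlatKit

variable (A : Type u) {R R' : Type u} [CommRing A] [CommRing R] [CommRing R'] (J : Ideal A)
  [Algebra A R] [Algebra A R'] [Algebra (A ⧸ J) R'] [Algebra R R']
  [IsScalarTower A (A ⧸ J) R'] [IsScalarTower A R R'] [Algebra.IsPushout A (A ⧸ J) R R']

theorem exactAt_and_flat_of_nilpotent (hJ : IsNilpotent J) [Module.Flat A R]
    (K : CochainComplex (ModuleCat.{u} R) ℤ) (hproj : ∀ n, Projective (K.X n)) (i : ℤ)
    (hex : ((EC (algebraMap R R')).obj K).ExactAt i)
    (hfl : flatOver (A ⧸ J) (((EC (algebraMap R R')).obj K).opcycles (i + 1))) :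
    K.ExactAt i ∧ flatOver A (K.opcycles (i + 1)) := by
  have hQ : Module.Flat A ((RA A).obj (K.X i)) := by
    have := hproj i
    exact flatOver_of_projective A (K.X i)
  have hR : Module.Flat A ((RA A).obj (K.X (i + 1))) := by
    have := hproj (i + 1)
    exact flatOver_of_projective A (K.X (i + 1))
  have hfl' : flatOver (A ⧸ J) ((E (algebraMap R R')).obj (K.opcycles (i + 1))) :=
    (flatOver (A ⧸ J)).prop_of_iso (opcyclesEIso (algebraMap R R') K (i + 1)).symm hfl
  have hM : Module.Flat (A ⧸ J) ((A ⧸ J) ⊗[A] ((RA A).obj (K.opcycles (i + 1)))) :=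
    flat_tensor_of_flatOver A (A ⧸ J) (K.opcycles (i + 1)) hfl'
  have hfg : ((RA A).map (K.d i (i + 1))).hom ∘ₗ ((RA A).map (K.d (i - 1) i)).hom = 0 := by
    ext x
    exact ConcreteCategory.congr_hom (K.d_comp_d (i - 1) i (i + 1)) x
  have hgh : Function.Exact ((RA A).map (K.d i (i + 1))).hom
      ((RA A).map (K.pOpcycles (i + 1))).hom := by
    have hS : (ShortComplex.mk (K.d i (i + 1)) (K.pOpcycles (i + 1)) (K.d_pOpcycles _ _)).Exact :=
      ShortComplex.exact_of_g_is_cokernel _ (K.opcyclesIsCokernel i (i + 1) (by simp))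
    rw [ShortComplex.ShortExact.moduleCat_exact_iff_function_exact] at hS
    exact hS
  have hh : Function.Surjective ((RA A).map (K.pOpcycles (i + 1))).hom :=
    (ModuleCat.epi_iff_surjective (K.pOpcycles (i + 1))).1 inferInstance
  have hE : Function.Exact ((E (algebraMap R R')).map (K.d (i - 1) i)).hom
      ((E (algebraMap R R')).map (K.d i (i + 1))).hom := by
    have h1 := (HomologicalComplex.exactAt_iff' _ (i - 1) i (i + 1) (by simp) (by simp)).1 hex
    rw [ShortComplex.ShortExact.moduleCat_exact_iff_function_exact] at h1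
    exact h1
  have hred := exact_lTensor_of_exact A (A ⧸ J) (K.d (i - 1) i) (K.d i (i + 1)) hE
  obtain ⟨hflat, hexact⟩ := flat_and_exact_of_complex hJ ((RA A).map (K.d (i - 1) i)).hom
    ((RA A).map (K.d i (i + 1))).hom ((RA A).map (K.pOpcycles (i + 1))).hom hfg hgh hh hred
  refine ⟨?_, hflat⟩
  rw [HomologicalComplex.exactAt_iff' _ (i - 1) i (i + 1) (by simp) (by simp),
    ShortComplex.ShortExact.moduleCat_exact_iff_function_exact]
  exact hexact

end Groth.Agent.Lib.Helper5.NilLift

namespace Groth.Agent.Lib.Helper5.NilLift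

open Groth.Agent.Lib.Helper5.KosBC Groth.Agent.Lib.Helper5.KosFlatBC Groth.Agent.Lib.Helper5.PushDict
open Groth.Agent.Lib.Helper2.KosTor2

variable (A : Type u) {R R' : Type u} [CommRing A] [CommRing R] [CommRing R'] (J : Ideal A)
  [Algebra A R] [Algebra A R'] [Algebra (A ⧸ J) R'] [Algebra R R']
  [IsScalarTower A (A ⧸ J) R'] [IsScalarTower A R R'] [Algebra.IsPushout A (A ⧸ J) R R']

theorem flat_of_flatOver (M : Type u) [AddCommGroup M] [Module R M] [inst : Module A M]
    [IsScalarTower A R M] (h : flatOver A (ModuleCat.of R M)) : Module.Flat A M := by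
  have e : Module.compHom M (algebraMap A R) = inst :=
    Module.ext' _ _ (fun a m => algebraMap_smul R a m)
  have h' : @Module.Flat A M _ _ (Module.compHom M (algebraMap A R)) := h
  rw [e] at h'
  exact h'

/-- **Nilpotent lifting of Koszul-regular sequences with flat quotient.** -/
theorem koszul_nilLift (hJ : IsNilpotent J) [Module.Flat A R] (l : List R)
    (hl : LCI.IsKoszulRegularSeq R' (l.map (algebraMap R R')))
    [hq : Module.Flat (A ⧸ J) (R' ⧸ Ideal.span {x | x ∈ l.map (algebraMap R R')})] :
    LCI.IsKoszulRegularSeq R l ∧ Module.Flat A (R ⧸ Ideal.span {x | x ∈ l}) := by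
  have hR' : Module.Flat (A ⧸ J) R' :=
    Module.Flat.isBaseChange (R := A) (S := A ⧸ J) (M := R) R'
      (Algebra.IsPushout.out (R := A) (S := A ⧸ J) (R' := R) (S' := R'))
  have h00 : (-((0 : ℕ) : ℤ)) = (0 : ℤ) := by norm_num
  -- top opcycles of the reduced complex are flat
  obtain ⟨e'⟩ := opcycles_iso (l.map (algebraMap R R'))
  have e0' : (Koszul.koszul R' (l.map (algebraMap R R'))).opcycles (-((0 : ℕ) : ℤ)) ≅
      (Koszul.koszul R' (l.map (algebraMap R R'))).opcycles 0 := eqToIso (by rw [h00])
  have hn' : flatOver (A ⧸ J) ((Koszul.koszul R' (l.map (algebraMap R R'))).opcycles 0) :=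
    (flatOver (A ⧸ J)).prop_of_iso (e0'.symm ≪≫ e').symm (flatOver_of_flat (A ⧸ J) _)
  have key : ∀ i : ℤ, i < 0 → (Koszul.koszul R l).ExactAt i ∧
      flatOver A ((Koszul.koszul R l).opcycles (i + 1)) := by
    intro i hi
    have hQ' := FlatOpc.prop_opcycles (flatOver (A ⧸ J)) (flatOver_kernel (A ⧸ J))
      (Koszul.koszul R' (l.map (algebraMap R R'))) (i - 1) 0
      (fun j _ hj => by
        rw [HomologicalComplex.exactAt_iff_isZero_homology]
        exact hl j (by omega))
      (fun j _ _ => by
        have := projective_koszul' (l.map (algebraMap R R')) j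
        exact flatOver_of_projective (A ⧸ J) _)
      hn' (i + 1) (by omega) (by omega)
    have eK := koszulIso (algebraMap R R') l
    have hex : ((EC (algebraMap R R')).obj (Koszul.koszul R l)).ExactAt i := by
      rw [HomologicalComplex.exactAt_iff_isZero_homology]
      exact IsZero.of_iso (hl i (by omega))
        ((HomologicalComplex.homologyFunctor _ _ i).mapIso eK)
    have hfl : flatOver (A ⧸ J)
        (((EC (algebraMap R R')).obj (Koszul.koszul R l)).opcycles (i + 1)) :=
      (flatOver (A ⧸ J)).prop_of_iso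
        ((HomologicalComplex.opcyclesFunctor _ _ (i + 1)).mapIso eK).symm hQ'
    exact exactAt_and_flat_of_nilpotent A J hJ (Koszul.koszul R l) (projective_koszul' l) i hex hfl
  constructor
  · intro i hi
    rcases lt_or_gt_of_ne hi with h | h
    · exact (key i h).1.isZero_homology
    · have hz : (Koszul.koszul R l).ExactAt i :=
        ShortComplex.exact_of_isZero_X₂ _ (isZero_koszul_X _ i h)
      exact hz.isZero_homology
  · obtain ⟨e⟩ := opcycles_iso l
    have e0 : (Koszul.koszul R l).opcycles (-((0 : ℕ) : ℤ)) ≅ (Koszul.koszul R l).opcycles 0 :=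
      eqToIso (by rw [h00])
    have h1 : flatOver A ((Koszul.koszul R l).opcycles ((-1) + 1)) := (key (-1) (by norm_num)).2
    have h2 : flatOver A ((Koszul.koszul R l).opcycles 0) := by
      have h3 : ((-1 : ℤ) + 1) = 0 := by norm_num
      rw [h3] at h1
      exact h1
    have h4 : flatOver A (ModuleCat.of R (R ⧸ Ideal.span {x | x ∈ l})) :=
      (flatOver A).prop_of_iso (e0.symm ≪≫ e) h2
    exact flat_of_flatOver A _ h4

end Groth.Agent.Lib.Helper5.NilLift
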