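import Groth.Agent.Lib.Helper5.NilpFree
import Groth.Agent.Lib.Helper5.FlatLiftIso

set_option autoImplicit false
set_option linter.unusedSectionVars false

namespace Groth.Agent.Lib.Helper5.NilpFree

section MainFlat

universe u v

variable {R : Type u} [CommRing R] (𝔪 : Ideal R) [h𝔪 : 𝔪.IsMaximal] {P : Type v} [AddCommGroup P]
  [Module R P]

/-- a flat module over a ring with a nilpotent maximal ideal is free -/
theorem free_of_flat {k : ℕ} (hk : 𝔪 ^ k = ⊥) [Module.Flat R P] :
    Module.Free R P := by
  classical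
  have : Module.Free (R ⧸ 𝔪) (P ⧸ (𝔪 • ⊤ : Submodule R P)) :=
    free_of_isField _ ((Ideal.Quotient.maximal_ideal_iff_isField_quotient 𝔪).1 h𝔪) _
  let b := Module.Free.chooseBasis (R ⧸ 𝔪) (P ⧸ (𝔪 • ⊤ : Submodule R P))
  have hsurj : ∀ v : P ⧸ (𝔪 • ⊤ : Submodule R P), ∃ x : P,
      Submodule.Quotient.mk (p := (𝔪 • ⊤ : Submodule R P)) x = v :=
    Submodule.Quotient.mk_surjective _
  choose e he using fun i => hsurj (b i)
  set φ : (Module.Free.ChooseBasisIndex (R ⧸ 𝔪) (P ⧸ (𝔪 • ⊤ : Submodule R P)) →₀ R) →ₗ[R] P :=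
    Finsupp.linearCombination R e with hφ
  -- the reduction of `φ c`
  have hred : ∀ c : Module.Free.ChooseBasisIndex (R ⧸ 𝔪) (P ⧸ (𝔪 • ⊤ : Submodule R P)) →₀ R,
      Submodule.Quotient.mk (p := (𝔪 • ⊤ : Submodule R P)) (φ c) =
        ∑ i ∈ c.support, Ideal.Quotient.mk 𝔪 (c i) • b i := by
    intro c
    rw [hφ, Finsupp.linearCombination_apply, Finsupp.sum]
    rw [← Submodule.mkQ_apply, map_sum]
    refine Finset.sum_congr rfl (fun i _ => ?_)
    rw [Submodule.mkQ_apply, ← he i, Module.Quotient.mk_smul_mk]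
  -- surjectivity
  have hφsurj : Function.Surjective φ := by
    rw [← LinearMap.range_eq_top]
    apply eq_top_of_sup_smul_eq_top 𝔪 hk
    rw [eq_top_iff]
    rintro x -
    -- expand the class of x in the basis
    have hx : Submodule.Quotient.mk (p := (𝔪 • ⊤ : Submodule R P)) x =
        ∑ i ∈ (b.repr (Submodule.Quotient.mk x)).support,
          (b.repr (Submodule.Quotient.mk x)) i • b i := by
      conv_lhs => rw [← b.linearCombination_repr (Submodule.Quotient.mk x)]
      rw [Finsupp.linearCombination_apply, Finsupp.sum]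
    have hlift : ∀ r : R ⧸ 𝔪, ∃ c : R, Ideal.Quotient.mk 𝔪 c = r := Ideal.Quotient.mk_surjective
    choose lift hlift' using hlift
    set c : Module.Free.ChooseBasisIndex (R ⧸ 𝔪) (P ⧸ (𝔪 • ⊤ : Submodule R P)) →₀ R :=
      Finsupp.onFinset (b.repr (Submodule.Quotient.mk x)).support
        (fun i => if i ∈ (b.repr (Submodule.Quotient.mk x)).support then
          lift ((b.repr (Submodule.Quotient.mk x)) i) else 0)
        (fun i hi => by
          by_contra hni
          exact hi (if_neg hni)) with hc
    have hcsum : Submodule.Quotient.mk (p := (𝔪 • ⊤ : Submodule R P)) (φ c) =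
        Submodule.Quotient.mk x := by
      rw [hred c, hx]
      have hsub : c.support ⊆ (b.repr (Submodule.Quotient.mk x)).support := by
        intro i hi
        by_contra hni
        rw [Finsupp.mem_support_iff, hc, Finsupp.onFinset_apply, if_neg hni] at hi
        exact hi rfl
      rw [← Finset.sum_subset hsub]
      · refine Finset.sum_congr rfl (fun i hi => ?_)
        rw [hc, Finsupp.onFinset_apply, if_pos (hsub hi), hlift']
      · intro i hi hni
        rw [Finsupp.notMem_support_iff] at hni
        have : Ideal.Quotient.mk 𝔪 (c i) = 0 := by rw [hni, map_zero]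
        have h2 : Ideal.Quotient.mk 𝔪 (c i) = (b.repr (Submodule.Quotient.mk x)) i := by
          rw [hc, Finsupp.onFinset_apply, if_pos hi, hlift']
        rw [← h2, this, zero_smul]
    have hdiff : x - φ c ∈ (𝔪 • ⊤ : Submodule R P) := by
      rw [← Submodule.Quotient.mk_eq_zero, Submodule.Quotient.mk_sub, hcsum, sub_self]
    have : x = φ c + (x - φ c) := by abel
    rw [this]
    exact Submodule.add_mem_sup (LinearMap.mem_range_self φ c) hdiff
  -- injectivity
  have hker : LinearMap.ker φ = ⊥ := by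
    apply eq_bot_of_le_smul 𝔪 hk
    intro q hq
    have hq0 : φ q = 0 := hq
    have hcoef : ∀ i, q i ∈ 𝔪 := by
      intro i
      by_cases hi : i ∈ q.support
      · have h0 := hred q
        rw [hq0, Submodule.Quotient.mk_zero] at h0
        have hli := b.linearIndependent
        rw [linearIndependent_iff'] at hli
        have := hli q.support (fun i => Ideal.Quotient.mk 𝔪 (q i)) h0.symm i hi
        exact Ideal.Quotient.eq_zero_iff_mem.1 this
      · rw [Finsupp.notMem_support_iff] at hi
        rw [hi]; exact 𝔪.zero_mem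
    have hq𝔪 : q ∈ (𝔪 • ⊤ : Submodule R
        (Module.Free.ChooseBasisIndex (R ⧸ 𝔪) (P ⧸ (𝔪 • ⊤ : Submodule R P)) →₀ R)) := by
      rw [← Finsupp.sum_single q, Finsupp.sum]
      refine Submodule.sum_mem _ (fun i _ => ?_)
      have : (Finsupp.single i (q i) :
          Module.Free.ChooseBasisIndex (R ⧸ 𝔪) (P ⧸ (𝔪 • ⊤ : Submodule R P)) →₀ R) =
          q i • Finsupp.single i 1 := by
        rw [Finsupp.smul_single, smul_eq_mul, mul_one]
      rw [this]
      exact Submodule.smul_mem_smul (hcoef i) Submodule.mem_top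
    exact FlatLiftIso.ker_inf_smul_top_le φ hφsurj 𝔪 ⟨hq, hq𝔪⟩
  have hinj : Function.Injective φ := LinearMap.ker_eq_bot.1 hker
  exact Module.Free.of_equiv (LinearEquiv.ofBijective φ ⟨hinj, hφsurj⟩)

end MainFlat

end Groth.Agent.Lib.Helper5.NilpFree
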