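import Mathlib.Algebra.Module.Torsion.Basic
import Mathlib.Algebra.Module.Projective
import Mathlib.LinearAlgebra.FreeModule.Basic
import Mathlib.LinearAlgebra.Dimension.Free
import Mathlib.LinearAlgebra.Basis.VectorSpace
import Mathlib.RingTheory.Ideal.Quotient.Operations
import Mathlib.RingTheory.Ideal.Quotient.Basic
import Mathlib.RingTheory.Ideal.Operations

set_option autoImplicit false
set_option linter.unusedSectionVars false

namespace Groth.Agent.Lib.Helper5.NilpFree

section Nak

variable {R : Type*} [CommRing R] (𝔪 : Ideal R) {P : Type*} [AddCommGroup P] [Module R P]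

lemma eq_top_of_sup_smul_eq_top {k : ℕ} (hk : 𝔪 ^ k = ⊥) (N : Submodule R P)
    (h : N ⊔ 𝔪 • (⊤ : Submodule R P) = ⊤) : N = ⊤ := by
  have key : ∀ j : ℕ, N ⊔ (𝔪 ^ j) • (⊤ : Submodule R P) = ⊤ := by
    intro j
    induction j with
    | zero => rw [pow_zero, Ideal.one_eq_top, Submodule.top_smul, sup_top_eq]
    | succ j ih =>
      rw [eq_top_iff]
      calc (⊤ : Submodule R P) = N ⊔ (𝔪 ^ j) • (⊤ : Submodule R P) := ih.symm
        _ = N ⊔ (𝔪 ^ j) • (N ⊔ 𝔪 • (⊤ : Submodule R P)) := by rw [h]
        _ = N ⊔ ((𝔪 ^ j) • N ⊔ (𝔪 ^ j) • 𝔪 • (⊤ : Submodule R P)) := by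
          rw [Submodule.smul_sup]
        _ ≤ N ⊔ (𝔪 ^ (j + 1)) • (⊤ : Submodule R P) := by
          refine sup_le le_sup_left (sup_le ?_ ?_)
          · exact le_sup_of_le_left Submodule.smul_le_right
          · rw [← Submodule.mul_smul, ← pow_succ]
            exact le_sup_right
  have := key k
  rwa [hk, Submodule.bot_smul, sup_bot_eq] at this

lemma eq_bot_of_le_smul {k : ℕ} (hk : 𝔪 ^ k = ⊥) (Q : Submodule R P) (h : Q ≤ 𝔪 • Q) :
    Q = ⊥ := by
  have key : ∀ j : ℕ, Q ≤ (𝔪 ^ j) • Q := by
    intro j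
    induction j with
    | zero => rw [pow_zero, Ideal.one_eq_top, Submodule.top_smul]
    | succ j ih =>
      calc Q ≤ 𝔪 • Q := h
        _ ≤ 𝔪 • ((𝔪 ^ j) • Q) := Submodule.smul_mono le_rfl ih
        _ = (𝔪 ^ (j + 1)) • Q := by rw [← Submodule.mul_smul, ← pow_succ']
  have := key k
  rw [hk, Submodule.bot_smul] at this
  exact le_bot_iff.1 this

end Nak

section Main

universe u v

lemma free_of_isField (K : Type*) [CommRing K] (hK : IsField K) (V : Type*) [AddCommGroup V]
    [Module K V] : Module.Free K V := by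
  let _ := hK.toField
  infer_instance

variable {R : Type u} [CommRing R] (𝔪 : Ideal R) [h𝔪 : 𝔪.IsMaximal] {P : Type v} [AddCommGroup P]
  [Module R P]

/-- a projective module over a ring with a nilpotent maximal ideal is free -/
theorem free_of_projective {k : ℕ} (hk : 𝔪 ^ k = ⊥) [Module.Projective R P] :
    Module.Free R P := by
  classical
  have : Module.Free (R ⧸ 𝔪) (P ⧸ (𝔪 • ⊤ : Submodule R P)) :=
    free_of_isField _ ((Ideal.Quotient.maximal_ideal_iff_isField_quotient 𝔪).1 h𝔪) _
  let b := Module.Free.chooseBasis (R ⧸ 𝔪) (P ⧸ (𝔪 • ⊤ : Submodule R P))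
  have hsurj : ∀ v : P ⧸ (𝔪 • ⊤ : Submodule R P), ∃ x : P,
      Submodule.Quotient.mk (p := (𝔪 • ⊤ : Submodule R P)) x = v :=
    Submodule.Quotient.mk_surjective _
  choose e he using fun i => hsurj (b i)
  set φ : (Module.Free.ChooseBasisIndex (R ⧸ 𝔪) (P ⧸ (𝔪 • ⊤ : Submodule R P)) →₀ R) →ₗ[R] P :=
    Finsupp.linearCombination R e with hφ
  -- the reduction of `φ c`
  have hred : ∀ c : Module.Free.ChooseBasisIndex (R ⧸ 𝔪) (P ⧸ (𝔪 • ⊤ : Submodule R P)) →₀ R,
      Submodule.Quotient.mk (p := (𝔪 • ⊤ : Submodule R P)) (φ c) =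
        ∑ i ∈ c.support, Ideal.Quotient.mk 𝔪 (c i) • b i := by
    intro c
    rw [hφ, Finsupp.linearCombination_apply, Finsupp.sum]
    rw [← Submodule.mkQ_apply, map_sum]
    refine Finset.sum_congr rfl (fun i _ => ?_)
    rw [Submodule.mkQ_apply, ← he i, Module.Quotient.mk_smul_mk]
  -- surjectivity
  have hφsurj : Function.Surjective φ := by
    rw [← LinearMap.range_eq_top]
    apply eq_top_of_sup_smul_eq_top 𝔪 hk
    rw [eq_top_iff]
    rintro x -
    -- expand the class of x in the basis
    have hx : Submodule.Quotient.mk (p := (𝔪 • ⊤ : Submodule R P)) x =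
        ∑ i ∈ (b.repr (Submodule.Quotient.mk x)).support,
          (b.repr (Submodule.Quotient.mk x)) i • b i := by
      conv_lhs => rw [← b.linearCombination_repr (Submodule.Quotient.mk x)]
      rw [Finsupp.linearCombination_apply, Finsupp.sum]
    have hlift : ∀ r : R ⧸ 𝔪, ∃ c : R, Ideal.Quotient.mk 𝔪 c = r := Ideal.Quotient.mk_surjective
    choose lift hlift' using hlift
    set c : Module.Free.ChooseBasisIndex (R ⧸ 𝔪) (P ⧸ (𝔪 • ⊤ : Submodule R P)) →₀ R :=
      Finsupp.onFinset (b.repr (Submodule.Quotient.mk x)).support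
        (fun i => if i ∈ (b.repr (Submodule.Quotient.mk x)).support then
          lift ((b.repr (Submodule.Quotient.mk x)) i) else 0)
        (fun i hi => by
          by_contra hni
          exact hi (if_neg hni)) with hc
    have hcsum : Submodule.Quotient.mk (p := (𝔪 • ⊤ : Submodule R P)) (φ c) =
        Submodule.Quotient.mk x := by
      rw [hred c, hx]
      have hsub : c.support ⊆ (b.repr (Submodule.Quotient.mk x)).support := by
        intro i hi
        by_contra hni
        rw [Finsupp.mem_support_iff, hc, Finsupp.onFinset_apply, if_neg hni] at hi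
        exact hi rfl
      rw [← Finset.sum_subset hsub]
      · refine Finset.sum_congr rfl (fun i hi => ?_)
        rw [hc, Finsupp.onFinset_apply, if_pos (hsub hi), hlift']
      · intro i hi hni
        rw [Finsupp.notMem_support_iff] at hni
        have : Ideal.Quotient.mk 𝔪 (c i) = 0 := by rw [hni, map_zero]
        have h2 : Ideal.Quotient.mk 𝔪 (c i) = (b.repr (Submodule.Quotient.mk x)) i := by
          rw [hc, Finsupp.onFinset_apply, if_pos hi, hlift']
        rw [← h2, this, zero_smul]
    have hdiff : x - φ c ∈ (𝔪 • ⊤ : Submodule R P) := by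
      rw [← Submodule.Quotient.mk_eq_zero, Submodule.Quotient.mk_sub, hcsum, sub_self]
    have : x = φ c + (x - φ c) := by abel
    rw [this]
    exact Submodule.add_mem_sup (LinearMap.mem_range_self φ c) hdiff
  -- a section
  obtain ⟨s, hs⟩ := Module.projective_lifting_property φ LinearMap.id hφsurj
  -- injectivity
  have hker : LinearMap.ker φ = ⊥ := by
    apply eq_bot_of_le_smul 𝔪 hk
    intro q hq
    have hq0 : φ q = 0 := hq
    -- the coefficients of q lie in 𝔪
    have hcoef : ∀ i, q i ∈ 𝔪 := by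
      intro i
      by_cases hi : i ∈ q.support
      · have h0 := hred q
        rw [hq0, Submodule.Quotient.mk_zero] at h0
        have hli := b.linearIndependent
        rw [linearIndependent_iff'] at hli
        have := hli q.support (fun i => Ideal.Quotient.mk 𝔪 (q i)) h0.symm i hi
        exact Ideal.Quotient.eq_zero_iff_mem.1 this
      · rw [Finsupp.notMem_support_iff] at hi
        rw [hi]; exact 𝔪.zero_mem
    -- the projection onto the kernel
    let π : (Module.Free.ChooseBasisIndex (R ⧸ 𝔪) (P ⧸ (𝔪 • ⊤ : Submodule R P)) →₀ R) →ₗ[R]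
        (Module.Free.ChooseBasisIndex (R ⧸ 𝔪) (P ⧸ (𝔪 • ⊤ : Submodule R P)) →₀ R) :=
      LinearMap.id - s.comp φ
    have hπker : ∀ z, π z ∈ LinearMap.ker φ := by
      intro z
      rw [LinearMap.mem_ker, LinearMap.sub_apply, map_sub, LinearMap.id_apply,
        LinearMap.comp_apply]
      have := LinearMap.congr_fun hs (φ z)
      rw [LinearMap.comp_apply, LinearMap.id_apply] at this
      rw [this, sub_self]
    have hπq : π q = q := by
      rw [LinearMap.sub_apply, LinearMap.id_apply, LinearMap.comp_apply, hq0, map_zero, sub_zero]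
    rw [← hπq, ← Finsupp.sum_single q, Finsupp.sum, map_sum]
    refine Submodule.sum_mem _ (fun i _ => ?_)
    have : (Finsupp.single i (q i) :
        Module.Free.ChooseBasisIndex (R ⧸ 𝔪) (P ⧸ (𝔪 • ⊤ : Submodule R P)) →₀ R) =
        q i • Finsupp.single i 1 := by
      rw [Finsupp.smul_single, smul_eq_mul, mul_one]
    rw [this, map_smul]
    exact Submodule.smul_mem_smul (hcoef i) (hπker _)
  have hinj : Function.Injective φ := LinearMap.ker_eq_bot.1 hker
  exact Module.Free.of_equiv (LinearEquiv.ofBijective φ ⟨hinj, hφsurj⟩)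

end Main

end Groth.Agent.Lib.Helper5.NilpFree
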