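import Groth.Prelude.Def_EGA41
import Mathlib.LinearAlgebra.Basis.Basic
import Mathlib.LinearAlgebra.Basis.Bilinear
import Mathlib.Algebra.BigOperators.Finsupp.Basic

set_option autoImplicit false
set_option linter.unusedSectionVars false

namespace Groth.Agent.Lib.Helper5.PBasis

/-- the monomial attached to an exponent vector -/
noncomputable def mon {ι : Type*} {M : Type*} [CommMonoid M] (x : ι → M) (e : ι →₀ ℕ) : M :=
  e.prod fun i n => x i ^ n

section Mon

variable {ι : Type*} {M : Type*} [CommMonoid M] (x : ι → M)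

lemma mon_zero : mon x 0 = 1 := Finsupp.prod_zero_index

lemma mon_add (e e' : ι →₀ ℕ) : mon x (e + e') = mon x e * mon x e' :=
  Finsupp.prod_add_index' (fun _ => pow_zero _) (fun _ _ _ => pow_add _ _ _)

lemma mon_single (i : ι) (n : ℕ) : mon x (Finsupp.single i n) = x i ^ n :=
  Finsupp.prod_single_index (pow_zero _)

lemma map_mon {N : Type*} [CommMonoid N] (f : M →* N) (e : ι →₀ ℕ) :
    f (mon x e) = mon (fun i => f (x i)) e := by
  unfold mon
  rw [map_finsuppProd]
  simp only [map_pow]

lemma mon_nsmul (p : ℕ) (e : ι →₀ ℕ) : mon x (p • e) = mon (fun i => x i ^ p) e := by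
  unfold mon
  rw [Finsupp.prod_of_support_subset (p • e) (Finsupp.support_smul) _ (fun _ _ => pow_zero _)]
  rw [Finsupp.prod]
  refine Finset.prod_congr rfl (fun i _ => ?_)
  rw [Finsupp.smul_apply, smul_eq_mul, pow_mul]

/-- quotient of an exponent vector by `p` -/
noncomputable def ediv (p : ℕ) (e : ι →₀ ℕ) : ι →₀ ℕ := e.mapRange (· / p) (Nat.zero_div p)

/-- remainder of an exponent vector modulo `p` -/
noncomputable def emod (p : ℕ) (e : ι →₀ ℕ) : ι →₀ ℕ := e.mapRange (· % p) (Nat.zero_mod p)

lemma ediv_add_emod (p : ℕ) (e : ι →₀ ℕ) : p • ediv p e + emod p e = e := by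
  ext i
  simp only [ediv, emod, Finsupp.add_apply, Finsupp.smul_apply, Finsupp.mapRange_apply, smul_eq_mul]
  exact Nat.div_add_mod _ _

lemma emod_lt {p : ℕ} (hp : 0 < p) (e : ι →₀ ℕ) (i : ι) : emod p e i < p := by
  simp only [emod, Finsupp.mapRange_apply]
  exact Nat.mod_lt _ hp

lemma mon_eq_div_mod (p : ℕ) (e : ι →₀ ℕ) :
    mon x e = mon (fun i => x i ^ p) (ediv p e) * mon x (emod p e) := by
  conv_lhs => rw [← ediv_add_emod p e]
  rw [mon_add, mon_nsmul]

end Mon

section UP

variable {R B E ι : Type*} [CommRing R] [CommRing B] [Algebra R B] [CommRing E]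
  (p : ℕ) (x : ι → B)

/-- reduced exponent vectors -/
abbrev Red (ι : Type*) (p : ℕ) : Type _ := {e : ι →₀ ℕ // ∀ i, e i < p}

variable (c : ι → R) (hc : ∀ i, algebraMap R B (c i) = x i ^ p)

include hc in
lemma mon_eq_smul (f : ι →₀ ℕ) : mon x f = mon c (ediv p f) • mon x (emod p f) := by
  rw [mon_eq_div_mod x p f, Algebra.smul_def]
  congr 1
  have := map_mon c (algebraMap R B : R →* B) (ediv p f)
  rw [MonoidHom.coe_coe] at this
  rw [this]
  simp only [hc]

variable (hli : LinearIndependent R (fun e : Red ι p => mon x e.1))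
  (hsp : Submodule.span R (Set.range fun e : Red ι p => mon x e.1) = ⊤)

/-- the monomial basis -/
noncomputable def bas : Module.Basis (Red ι p) R B := Module.Basis.mk hli (by rw [hsp])

lemma bas_apply (e : Red ι p) : bas p x hli hsp e = mon x e.1 := by
  rw [bas, Module.Basis.mk_apply]

variable (g₀ : R →+* E) (z : ι → E) (hz : ∀ i, z i ^ p = g₀ (c i))

/-- the linear extension to the monomial basis -/
noncomputable def vlin : @LinearMap R R _ _ (RingHom.id R) B E _ _ _ g₀.toAlgebra.toModule :=
  let _ := g₀.toAlgebra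
  (bas p x hli hsp).constr ℕ (fun e => mon z e.1)

include hc hz in
lemma vlin_mon (hp : 0 < p) (f : ι →₀ ℕ) : vlin p x hli hsp g₀ z (mon x f) = mon z f := by
  let _ := g₀.toAlgebra
  rw [mon_eq_smul p x c hc f]
  have h1 : mon x (emod p f) = bas p x hli hsp ⟨emod p f, emod_lt hp f⟩ := by rw [bas_apply]
  rw [h1, map_smul, vlin, Module.Basis.constr_basis]
  change g₀ (mon c (ediv p f)) * mon z (emod p f) = mon z f
  have := map_mon c (g₀ : R →* E) (ediv p f)
  rw [MonoidHom.coe_coe] at this
  rw [this, mon_eq_div_mod z p f]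
  simp only [hz]

include hc hz in
lemma vlin_mul (hp : 0 < p) (b b' : B) :
    vlin p x hli hsp g₀ z (b * b') = vlin p x hli hsp g₀ z b * vlin p x hli hsp g₀ z b' := by
  let _ := g₀.toAlgebra
  have key : (LinearMap.mul R B).compr₂ (vlin p x hli hsp g₀ z) =
      (LinearMap.mul R E).compl₁₂ (vlin p x hli hsp g₀ z) (vlin p x hli hsp g₀ z) := by
    apply LinearMap.ext_basis (bas p x hli hsp) (bas p x hli hsp)
    intro e e'
    rw [LinearMap.compr₂_apply, LinearMap.compl₁₂_apply, LinearMap.mul_apply', LinearMap.mul_apply',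
      bas_apply, bas_apply, ← mon_add, vlin_mon p x c hc hli hsp g₀ z hz hp,
      vlin_mon p x c hc hli hsp g₀ z hz hp, vlin_mon p x c hc hli hsp g₀ z hz hp, mon_add]
  have := LinearMap.congr_fun (LinearMap.congr_fun key b) b'
  rw [LinearMap.compr₂_apply, LinearMap.compl₁₂_apply, LinearMap.mul_apply', LinearMap.mul_apply'] at this
  exact this

include hc hz in
lemma vlin_algebraMap (hp : 0 < p) (r : R) : vlin p x hli hsp g₀ z (algebraMap R B r) = g₀ r := by
  let _ := g₀.toAlgebra
  have h1 : vlin p x hli hsp g₀ z 1 = 1 := by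
    have := vlin_mon p x c hc hli hsp g₀ z hz hp 0
    rw [mon_zero, mon_zero] at this
    exact this
  rw [Algebra.algebraMap_eq_smul_one, map_smul, h1]
  change g₀ r * 1 = g₀ r
  rw [mul_one]

/-- the ring map out of an algebra with a monomial basis -/
noncomputable def vhom (hp : 0 < p) : B →+* E where
  toFun := vlin p x hli hsp g₀ z
  map_one' := by
    have := vlin_mon p x c hc hli hsp g₀ z hz hp 0
    rw [mon_zero, mon_zero] at this
    exact this
  map_mul' := vlin_mul p x c hc hli hsp g₀ z hz hp
  map_zero' := map_zero _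
  map_add' := map_add _

lemma vhom_algebraMap (hp : 0 < p) (r : R) :
    vhom p x c hc hli hsp g₀ z hz hp (algebraMap R B r) = g₀ r :=
  vlin_algebraMap p x c hc hli hsp g₀ z hz hp r

lemma vhom_x (hp : 0 < p) (i : ι) : vhom p x c hc hli hsp g₀ z hz hp (x i) = z i := by
  have := vlin_mon p x c hc hli hsp g₀ z hz hp (Finsupp.single i 1)
  rw [mon_single, mon_single, pow_one, pow_one] at this
  exact this

include hsp in
/-- ring maps out of an algebra spanned by monomials are determined by the base and the variables -/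
lemma ringHom_ext_of_span (v v' : B →+* E)
    (h₁ : ∀ r, v (algebraMap R B r) = v' (algebraMap R B r)) (h₂ : ∀ i, v (x i) = v' (x i)) :
    v = v' := by
  apply RingHom.ext
  intro b
  have hb : b ∈ Submodule.span R (Set.range fun e : Red ι p => mon x e.1) := by
    rw [hsp]; trivial
  induction hb using Submodule.span_induction with
  | mem b hm =>
    obtain ⟨e, rfl⟩ := hm
    have h1 := map_mon x (v : B →* E) e.1
    have h2 := map_mon x (v' : B →* E) e.1
    rw [MonoidHom.coe_coe] at h1 h2
    rw [h1, h2]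
    simp only [h₂]
  | zero => rw [map_zero, map_zero]
  | add b b' _ _ h1 h2 => rw [map_add, map_add, h1, h2]
  | smul r b _ h1 => rw [Algebra.smul_def, map_mul, map_mul, h1, h₁]

end UP

end Groth.Agent.Lib.Helper5.PBasis
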