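import Groth.Agent.Lib.Helper5.PBasis
import Mathlib.Algebra.CharP.Lemmas
import Mathlib.Algebra.Algebra.Subalgebra.Lattice

set_option autoImplicit false
set_option linter.unusedSectionVars false
universe u

namespace Groth.Agent.Lib.Helper5.PBasis

open EGA41

section Base

variable (p : ℕ) {A B : Type u} [CommRing A] [CommRing B] [Algebra A B]
  (hpow : ∀ b : B, b ^ p ∈ Set.range (algebraMap A B))

include hpow in
lemma exists_algebraMap_eq_of_mem (b : B) (hb : b ∈ pPowerSubalgebra p A B) :
    ∃ a : A, algebraMap A B a = b := by
  have hle : pPowerSubalgebra p A B ≤ (⊥ : Subalgebra A B) := by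
    apply Algebra.adjoin_le
    rintro _ ⟨b, rfl⟩
    obtain ⟨a, ha⟩ := hpow b
    exact Algebra.mem_bot.2 ⟨a, ha⟩
  exact Algebra.mem_bot.1 (hle hb)

variable {ι : Type u} (x : ι → B)

include hpow in
lemma span_base (hx : IsPGenerating p A x) :
    Submodule.span A (Set.range fun e : Red ι p => mon x e.1) = ⊤ := by
  have hsurj : Function.Surjective (algebraMap A (pPowerSubalgebra p A B)) := by
    rintro ⟨b, hb⟩
    obtain ⟨a, ha⟩ := exists_algebraMap_eq_of_mem p hpow b hb
    exact ⟨a, Subtype.ext ha⟩
  have h := Submodule.restrictScalars_span A (pPowerSubalgebra p A B) hsurj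
    (Set.range fun e : Red ι p => mon x e.1)
  have hx' : Submodule.span (pPowerSubalgebra p A B)
      (Set.range fun e : Red ι p => mon x e.1) = ⊤ := hx
  rw [hx', Submodule.restrictScalars_top] at h
  exact h.symm

lemma li_base (hinj : Function.Injective (algebraMap A B)) (hx : IsPIndependent p A x) :
    LinearIndependent A (fun e : Red ι p => mon x e.1) := by
  have hx' : LinearIndependent (pPowerSubalgebra p A B) (fun e : Red ι p => mon x e.1) := hx
  refine LinearIndependent.restrict_scalars ?_ hx'
  intro a a' h
  apply hinj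
  have := congrArg (Subtype.val) h
  simpa [Algebra.smul_def] using this

end Base

end Groth.Agent.Lib.Helper5.PBasis
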