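import Groth.Agent.Lib.Helper5.PBasisGen
import Groth.Agent.Lib.Helper5.SepCartier

set_option autoImplicit false
set_option linter.unusedSectionVars false
universe u

namespace Groth.Agent.Lib.Helper5.PBasis

open EGA41

section Eigen

/-- simultaneous eigenvectors with distinct eigenvalue systems are linearly independent -/
theorem linearIndependent_of_eigen {F V I ι : Type*} [CommRing F] [IsDomain F] [AddCommGroup V]
    [Module F V] (v : I → V) (hv : ∀ (c : F) (e : I), c • v e = 0 → c = 0)
    (E : ι → V →ₗ[F] V) (μ : I → ι → F) (hE : ∀ i e, E i (v e) = μ e i • v e)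
    (hμ : ∀ e e', e ≠ e' → ∃ i, μ e i ≠ μ e' i) : LinearIndependent F v := by
  classical
  rw [linearIndependent_iff']
  intro s
  induction s using Finset.induction_on with
  | empty => intro g _ e he; simp at he
  | insert e₀ s he₀ ih =>
    intro g hg
    have key : ∀ e ∈ s, g e = 0 := by
      intro e he
      have hne : e ≠ e₀ := fun h => he₀ (h ▸ he)
      obtain ⟨i, hi⟩ := hμ e e₀ hne
      have h1 : ∑ e ∈ s, ((μ e i - μ e₀ i) * g e) • v e = 0 := by
        have h2 : E i (∑ e ∈ insert e₀ s, g e • v e) - μ e₀ i • ∑ e ∈ insert e₀ s, g e • v e = 0 := by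
          rw [hg, map_zero, smul_zero, sub_zero]
        rw [map_sum, Finset.smul_sum, ← Finset.sum_sub_distrib, Finset.sum_insert he₀] at h2
        simp only [map_smul, hE] at h2
        rw [smul_comm (g e₀) (μ e₀ i), sub_self, zero_add] at h2
        rw [← h2]
        refine Finset.sum_congr rfl (fun e _ => ?_)
        rw [sub_mul, sub_smul, mul_smul, mul_smul, smul_comm (g e) (μ e i)]
      have h3 := ih (fun e => (μ e i - μ e₀ i) * g e) h1 e he
      rcases mul_eq_zero.1 h3 with h4 | h4
      · exact absurd (sub_eq_zero.1 h4) hi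
      · exact h4
    intro e he
    rw [Finset.mem_insert] at he
    rcases he with rfl | he
    · rw [Finset.sum_insert he₀, Finset.sum_eq_zero (fun e' he' => by rw [key e' he', zero_smul]),
        add_zero] at hg
      exact hv _ _ hg
    · exact key e he

lemma exists_dual {K V ι : Type*} [Field K] [AddCommGroup V] [Module K V] [DecidableEq ι]
    {v : ι → V} (hli : LinearIndependent K v) (i : ι) :
    ∃ φ : V →ₗ[K] K, ∀ j, φ (v j) = if j = i then 1 else 0 := by
  obtain ⟨φ, hφ⟩ := LinearMap.exists_extend ((Finsupp.lapply i).comp hli.repr)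
  refine ⟨φ, fun j => ?_⟩
  have hj : v j ∈ Submodule.span K (Set.range v) := Submodule.subset_span ⟨j, rfl⟩
  have := LinearMap.congr_fun hφ ⟨v j, hj⟩
  simp only [LinearMap.comp_apply, Submodule.subtype_apply] at this
  rw [this, hli.repr_eq_single j ⟨v j, hj⟩ rfl, Finsupp.lapply_apply, Finsupp.single_apply]

end Eigen

section FieldCase

variable (p : ℕ) [hpF : Fact p.Prime] {k K : Type u} [Field k] [Field K] [Algebra k K] [CharP K p]

lemma inv_mem_of_pow_mem (S : Subalgebra k K) (hS : ∀ y : K, y ^ p ∈ S) {u : K} (hu : u ∈ S) :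
    u⁻¹ ∈ S := by
  have hp0 : 0 < p := hpF.out.pos
  by_cases h0 : u = 0
  · rw [h0, inv_zero]; exact Subalgebra.zero_mem _
  have : u⁻¹ = u ^ (p - 1) * (u⁻¹) ^ p := by
    have hpp : u ^ p = u ^ (p - 1) * u := by rw [← pow_succ, Nat.sub_add_cancel hp0]
    rw [inv_pow, hpp, mul_inv, ← mul_assoc, mul_inv_cancel₀ (pow_ne_zero _ h0), one_mul]
  rw [this]
  exact Subalgebra.mul_mem _ (Subalgebra.pow_mem _ hu _) (hS _)

/-- an element outside a subalgebra containing the `p`-th powers is separated by a derivation -/
theorem exists_derivation_separating (S : Subalgebra k K) (hS : ∀ y : K, y ^ p ∈ S) (s : K)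
    (hs : s ∉ S) : ∃ D : Derivation k K K, D s = 1 ∧ ∀ a ∈ S, D a = 0 := by
  let E : IntermediateField k K := S.toIntermediateField (fun _ hu => inv_mem_of_pow_mem p S hS hu)
  have hKp : ∀ y : K, y ^ p ∈ Set.range (algebraMap E K) := fun y => ⟨⟨y ^ p, hS y⟩, rfl⟩
  have hs' : s ∉ Set.range (algebraMap E K) := by
    rintro ⟨a, rfl⟩
    exact hs a.2
  obtain ⟨D, hD⟩ := SepCartier.exists_derivation_eq_one (F := E) (K := K) p hpF.out hKp s hs'
  refine ⟨D.restrictScalars k, hD, fun a ha => ?_⟩
  rw [Derivation.restrictScalars_apply]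
  exact D.map_algebraMap (⟨a, ha⟩ : E)

variable {ι : Type u} (x : ι → K)

/-- if the differentials span, the family is `p`-generating (field case) -/
theorem isPGenerating_of_span_D_field
    (hspan : Submodule.span K (Set.range fun i => KaehlerDifferential.D k K (x i)) = ⊤) :
    IsPGenerating p k x := by
  rw [← adjoin_eq_top_iff p k x hpF.out.pos]
  set S : Subalgebra k K :=
    (Algebra.adjoin (pPowerSubalgebra p k K) (Set.range x)).restrictScalars k with hS
  have hSp : ∀ y : K, y ^ p ∈ S := fun y =>
    Subalgebra.algebraMap_mem (Algebra.adjoin (pPowerSubalgebra p k K) (Set.range x))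
      (⟨y ^ p, Algebra.subset_adjoin ⟨y, rfl⟩⟩ : pPowerSubalgebra p k K)
  rw [eq_top_iff]
  rintro s -
  by_contra hs
  have hs' : s ∉ S := hs
  obtain ⟨D, hD1, hD0⟩ := exists_derivation_separating p S hSp s hs'
  have hzero : D.liftKaehlerDifferential = 0 := by
    apply LinearMap.ext_on_range hspan
    intro i
    rw [Derivation.liftKaehlerDifferential_comp_D, LinearMap.zero_apply]
    exact hD0 _ (Algebra.subset_adjoin (Set.mem_range_self i))
  have : D s = 0 := by
    rw [← Derivation.liftKaehlerDifferential_comp_D D s, hzero, LinearMap.zero_apply]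
  rw [hD1] at this
  exact one_ne_zero this

lemma mon_mapDomain {κ : Type*} (f : κ → ι) (e' : κ →₀ ℕ) :
    mon x (Finsupp.mapDomain f e') = mon (fun j => x (f j)) e' := by
  unfold mon
  rw [Finsupp.prod_mapDomain_index (fun _ => pow_zero _) (fun _ _ _ => pow_add _ _ _)]

/-- a member of a `p`-free family is not in the subfield generated by the others -/
theorem notMem_adjoin_of_isPIndependent (hx : IsPIndependent p k x) (i : ι) :
    x i ∉ Algebra.adjoin (pPowerSubalgebra p k K) (Set.range fun j : {j : ι // j ≠ i} => x j) := by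
  have hp := hpF.out
  intro hmem
  have h1 := adjoin_le_redSpan p k (fun j : {j : ι // j ≠ i} => x j) hp.pos hmem
  have hli : LinearIndependent (pPowerSubalgebra p k K) (fun e : Red ι p => mon x e.1) := hx
  set s : Set (Red ι p) := {e | e.1 i = 0} with hs
  have hle : redSpan p k (fun j : {j : ι // j ≠ i} => x j) ≤
      Submodule.span (pPowerSubalgebra p k K) ((fun e : Red ι p => mon x e.1) '' s) := by
    refine Submodule.span_le.2 ?_
    rintro _ ⟨e', rfl⟩
    have hi : i ∉ Set.range (Subtype.val : {j : ι // j ≠ i} → ι) := by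
      rintro ⟨j, hj⟩
      exact j.2 hj
    have hred : ∀ j, Finsupp.mapDomain (Subtype.val : {j : ι // j ≠ i} → ι) e'.1 j < p := by
      intro j
      by_cases hj : j = i
      · rw [hj, Finsupp.mapDomain_notin_range _ _ hi]
        exact hp.pos
      · have := Finsupp.mapDomain_apply (Subtype.val_injective) e'.1 (⟨j, hj⟩ : {j : ι // j ≠ i})
        rw [this]
        exact e'.2 _
    refine Submodule.subset_span ⟨⟨Finsupp.mapDomain Subtype.val e'.1, hred⟩, ?_, ?_⟩
    · change Finsupp.mapDomain Subtype.val e'.1 i = 0
      exact Finsupp.mapDomain_notin_range _ _ hi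
    · exact mon_mapDomain x Subtype.val e'.1
  have h2 := hle h1
  have hone : ∀ j, (Finsupp.single i 1 : ι →₀ ℕ) j < p := by
    intro j
    by_cases hj : j = i
    · rw [hj, Finsupp.single_eq_same]; exact hp.one_lt
    · rw [Finsupp.single_eq_of_ne hj]; exact hp.pos
  have hnot : (⟨Finsupp.single i 1, hone⟩ : Red ι p) ∉ s := by
    change (Finsupp.single i 1 : ι →₀ ℕ) i ≠ 0
    rw [Finsupp.single_eq_same]
    exact one_ne_zero
  have h3 := hli.notMem_span_image hnot
  apply h3
  change mon x (Finsupp.single i 1) ∈ _
  rw [mon_single, pow_one]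
  exact h2

/-- the differentials of a `p`-free family are linearly independent (field case) -/
theorem linearIndependent_D_of_isPIndependent (hx : IsPIndependent p k x) :
    LinearIndependent K (fun i => KaehlerDifferential.D k K (x i)) := by
  classical
  have hp := hpF.out
  have hD : ∀ i, ∃ D : Derivation k K K, D (x i) = 1 ∧ ∀ j, j ≠ i → D (x j) = 0 := by
    intro i
    set S : Subalgebra k K := (Algebra.adjoin (pPowerSubalgebra p k K)
      (Set.range fun j : {j : ι // j ≠ i} => x j)).restrictScalars k with hS
    have hSp : ∀ y : K, y ^ p ∈ S := fun y =>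
      Subalgebra.algebraMap_mem (Algebra.adjoin (pPowerSubalgebra p k K)
        (Set.range fun j : {j : ι // j ≠ i} => x j))
        (⟨y ^ p, Algebra.subset_adjoin ⟨y, rfl⟩⟩ : pPowerSubalgebra p k K)
    have hs' : x i ∉ S := notMem_adjoin_of_isPIndependent p x hx i
    obtain ⟨D, hD1, hD0⟩ := exists_derivation_separating p S hSp (x i) hs'
    exact ⟨D, hD1, fun j hj => hD0 _ (Algebra.subset_adjoin ⟨⟨j, hj⟩, rfl⟩)⟩
  choose D hD1 hD0 using hD
  rw [linearIndependent_iff']
  intro s g hg i hi
  have := congrArg (D i).liftKaehlerDifferential hg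
  rw [map_sum, map_zero] at this
  simp only [map_smul, Derivation.liftKaehlerDifferential_comp_D] at this
  rw [Finset.sum_eq_single i] at this
  · rwa [hD1, smul_eq_mul, mul_one] at this
  · intro j _ hj
    rw [hD0 i j hj, smul_zero]
  · intro h; exact absurd hi h

/-- a family with linearly independent differentials is `p`-free (field case) -/
theorem isPIndependent_of_linearIndependent_D
    (hli : LinearIndependent K (fun i => KaehlerDifferential.D k K (x i))) :
    IsPIndependent p k x := by
  classical
  have hp := hpF.out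
  have hpK : (p : K) = 0 := CharP.cast_eq_zero K p
  have hφ := fun i => exists_dual hli i
  choose φ hφ using hφ
  let D : ι → Derivation k K K := fun i => (φ i).compDer (KaehlerDifferential.D k K)
  have hD : ∀ i j, D i (x j) = if j = i then 1 else 0 := fun i j => hφ i j
  have hDF : ∀ i (c : pPowerSubalgebra p k K), D i (c : K) = 0 := fun i c =>
    derivation_eq_zero_of_mem_pPower p hpK (D i) c.2
  let E : ι → K →ₗ[pPowerSubalgebra p k K] K := fun i =>
    { toFun := fun y => x i * D i y
      map_add' := fun y z => by rw [map_add, mul_add]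
      map_smul' := fun c y => by
        rw [RingHom.id_apply, Algebra.smul_def, Derivation.leibniz]
        change x i * ((c : K) • D i y + y • D i (c : K)) = _
        rw [hDF, smul_zero, add_zero, smul_eq_mul, Algebra.smul_def]
        change _ = (c : K) * _
        ring }
  have hE : ∀ i (f : ι →₀ ℕ), x i * D i (mon x f) = (f i : K) * mon x f := by
    intro i f
    induction f using Finsupp.induction_linear with
    | zero =>
      rw [mon_zero, Derivation.map_one_eq_zero, mul_zero, Finsupp.zero_apply, Nat.cast_zero,
        zero_mul]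
    | add f g h1 h2 =>
      rw [mon_add, Derivation.leibniz, smul_eq_mul, smul_eq_mul, Finsupp.add_apply, Nat.cast_add]
      calc x i * (mon x f * D i (mon x g) + mon x g * D i (mon x f))
          = mon x f * (x i * D i (mon x g)) + mon x g * (x i * D i (mon x f)) := by ring
        _ = _ := by rw [h1, h2]; ring
    | single j n =>
      rw [mon_single, Derivation.leibniz_pow, hD]
      by_cases hj : j = i
      · subst hj
        rw [if_pos rfl, Finsupp.single_eq_same]
        cases n with
        | zero => simp
        | succ n =>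
          rw [Nat.add_sub_cancel, smul_eq_mul, mul_one, nsmul_eq_mul, pow_succ]
          ring
      · rw [if_neg hj, smul_zero, smul_zero, mul_zero, Finsupp.single_eq_of_ne (Ne.symm hj),
          Nat.cast_zero, zero_mul]
  have hx0 : ∀ i, x i ≠ 0 := by
    intro i h0
    have := hD i i
    rw [if_pos rfl, h0, map_zero] at this
    exact zero_ne_one this
  have hmon0 : ∀ f : ι →₀ ℕ, mon x f ≠ 0 := by
    intro f
    unfold mon
    rw [Finsupp.prod_ne_zero_iff]
    intro i _
    exact pow_ne_zero _ (hx0 i)
  refine linearIndependent_of_eigen (fun e : Red ι p => mon x e.1) ?_ E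
    (fun e i => ((e.1 i : ℕ) : pPowerSubalgebra p k K)) ?_ ?_
  · intro c e hc
    rw [Algebra.smul_def] at hc
    rcases mul_eq_zero.1 hc with h | h
    · exact Subtype.ext h
    · exact absurd h (hmon0 _)
  · intro i e
    change x i * D i (mon x e.1) = _
    rw [hE, Algebra.smul_def, map_natCast]
  · intro e e' hne
    have : ∃ i, e.1 i ≠ e'.1 i := by
      by_contra hall
      push Not at hall
      exact hne (Subtype.ext (Finsupp.ext hall))
    obtain ⟨i, hi⟩ := this
    refine ⟨i, fun heq => hi ?_⟩
    have heq' : ((e.1 i : ℕ) : K) = ((e'.1 i : ℕ) : K) := by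
      have := congrArg (algebraMap (pPowerSubalgebra p k K) K) heq
      rwa [map_natCast, map_natCast] at this
    exact CharP.natCast_injOn_Iio K p (e.2 i) (e'.2 i) heq'

end FieldCase

end Groth.Agent.Lib.Helper5.PBasis
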