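import Groth.Agent.Lib.Helper5.PBasisKaehler
import Groth.Agent.Lib.Helper5.KaehlerZero

set_option autoImplicit false
set_option linter.unusedSectionVars false
universe u

namespace Groth.Agent.Lib.Helper5.PBasis

open EGA41

section Gen

variable (p : ℕ) (A : Type u) {B : Type u} [CommRing A] [CommRing B] [Algebra A B]
  {ι : Type u} (x : ι → B)

/-- the span of the reduced monomials over `A[B^p]` -/
def redSpan : Submodule (pPowerSubalgebra p A B) B :=
  Submodule.span (pPowerSubalgebra p A B) (Set.range fun e : Red ι p => mon x e.1)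

lemma isPGenerating_iff : IsPGenerating p A x ↔ redSpan p A x = ⊤ := Iff.rfl

lemma mon_mem_redSpan (hp : 0 < p) (f : ι →₀ ℕ) : mon x f ∈ redSpan p A x := by
  rw [mon_eq_smul p x (cPow (A := A) p x) (cPow_spec p x) f]
  exact Submodule.smul_mem _ _ (Submodule.subset_span ⟨⟨emod p f, emod_lt hp f⟩, rfl⟩)

lemma mul_mem_redSpan (hp : 0 < p) {b b' : B} (hb : b ∈ redSpan p A x)
    (hb' : b' ∈ redSpan p A x) : b * b' ∈ redSpan p A x := by
  induction hb using Submodule.span_induction with
  | mem b hm =>
    obtain ⟨e, rfl⟩ := hm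
    induction hb' using Submodule.span_induction with
    | mem b' hm' =>
      obtain ⟨e', rfl⟩ := hm'
      rw [← mon_add]
      exact mon_mem_redSpan p A x hp _
    | zero => rw [mul_zero]; exact Submodule.zero_mem _
    | add c c' _ _ h1 h2 => rw [mul_add]; exact Submodule.add_mem _ h1 h2
    | smul r c _ h1 => rw [mul_smul_comm]; exact Submodule.smul_mem _ _ h1
  | zero => rw [zero_mul]; exact Submodule.zero_mem _
  | add c c' _ _ h1 h2 => rw [add_mul]; exact Submodule.add_mem _ h1 h2
  | smul r c _ h1 => rw [smul_mul_assoc]; exact Submodule.smul_mem _ _ h1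

lemma adjoin_le_redSpan (hp : 0 < p) {b : B}
    (hb : b ∈ Algebra.adjoin (pPowerSubalgebra p A B) (Set.range x)) : b ∈ redSpan p A x := by
  induction hb using Algebra.adjoin_induction with
  | mem b hb =>
    obtain ⟨i, rfl⟩ := hb
    have := mon_mem_redSpan p A x hp (Finsupp.single i 1)
    rwa [mon_single, pow_one] at this
  | algebraMap r =>
    have := mon_mem_redSpan p A x hp 0
    rw [mon_zero] at this
    rw [Algebra.algebraMap_eq_smul_one]
    exact Submodule.smul_mem _ _ this
  | add b b' _ _ h1 h2 => exact Submodule.add_mem _ h1 h2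
  | mul b b' _ _ h1 h2 => exact mul_mem_redSpan p A x hp h1 h2

lemma mon_mem_adjoin (f : ι →₀ ℕ) :
    mon x f ∈ Algebra.adjoin (pPowerSubalgebra p A B) (Set.range x) := by
  unfold mon Finsupp.prod
  exact Subalgebra.prod_mem _ (fun i _ =>
    Subalgebra.pow_mem _ (Algebra.subset_adjoin (Set.mem_range_self i)) _)

theorem adjoin_eq_top_iff (hp : 0 < p) :
    Algebra.adjoin (pPowerSubalgebra p A B) (Set.range x) = ⊤ ↔ IsPGenerating p A x := by
  rw [isPGenerating_iff]
  constructor
  · intro h
    rw [eq_top_iff]
    intro b _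
    exact adjoin_le_redSpan p A x hp (by rw [h]; trivial)
  · intro h
    rw [eq_top_iff]
    rintro b -
    have hb : b ∈ redSpan p A x := by rw [h]; trivial
    induction hb using Submodule.span_induction with
    | mem b hm =>
      obtain ⟨e, rfl⟩ := hm
      exact mon_mem_adjoin p A x _
    | zero => exact Subalgebra.zero_mem _
    | add c c' _ _ h1 h2 => exact Subalgebra.add_mem _ h1 h2
    | smul r c _ h1 => exact Subalgebra.smul_mem _ h1 r

lemma D_mon_mem {L : Type*} [AddCommGroup L] [Module B L] [Module A L] [IsScalarTower A B L]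
    (D : Derivation A B L) (f : ι →₀ ℕ) :
    D (mon x f) ∈ Submodule.span B (Set.range fun i => D (x i)) := by
  induction f using Finsupp.induction_linear with
  | zero => rw [mon_zero, Derivation.map_one_eq_zero]; exact Submodule.zero_mem _
  | add f g h1 h2 =>
    rw [mon_add, Derivation.leibniz]
    exact Submodule.add_mem _ (Submodule.smul_mem _ _ h2) (Submodule.smul_mem _ _ h1)
  | single i n =>
    rw [mon_single, Derivation.leibniz_pow]
    have hi : D (x i) ∈ Submodule.span B (Set.range fun i => D (x i)) :=
      Submodule.subset_span (Set.mem_range_self i)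
    exact Submodule.smul_of_tower_mem _ n (Submodule.smul_mem _ _ hi)

theorem span_D_eq_top (hpB : (p : B) = 0) (hx : IsPGenerating p A x) :
    Submodule.span B (Set.range fun i => KaehlerDifferential.D A B (x i)) = ⊤ := by
  rw [eq_top_iff, ← KaehlerDifferential.span_range_derivation, Submodule.span_le]
  rintro _ ⟨b, rfl⟩
  have hb : b ∈ redSpan p A x := by rw [(isPGenerating_iff p A x).1 hx]; trivial
  induction hb using Submodule.span_induction with
  | mem b hm =>
    obtain ⟨e, rfl⟩ := hm
    exact D_mon_mem A x _ _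
  | zero => rw [map_zero]; exact Submodule.zero_mem _
  | add c c' _ _ h1 h2 => rw [map_add]; exact Submodule.add_mem _ h1 h2
  | smul r c _ h1 =>
    have h0 : KaehlerDifferential.D A B (algebraMap (pPowerSubalgebra p A B) B r) = 0 :=
      derivation_eq_zero_of_mem_pPower p hpB (KaehlerDifferential.D A B) r.2
    rw [Algebra.smul_def, Derivation.leibniz, h0, smul_zero, add_zero]
    exact Submodule.smul_mem _ _ h1

theorem isPGenerating_of_span_D (hp : p.Prime) (hpB : (p : B) = 0)
    (hft : Algebra.FiniteType (pPowerSubalgebra p A B) B)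
    (hspan : Submodule.span B (Set.range fun i => KaehlerDifferential.D A B (x i)) = ⊤) :
    IsPGenerating p A x := by
  rw [← adjoin_eq_top_iff p A x hp.pos]
  set A' := pPowerSubalgebra p A B with hA'
  set B' := Algebra.adjoin A' (Set.range x) with hB'
  have hft' : Algebra.FiniteType B' B := Algebra.FiniteType.of_restrictScalars_finiteType A' B' B
  have hsub : Subsingleton (Ω[B⁄B']) := by
    have hsurj : Function.Surjective
        ((KaehlerDifferential.map A' B' B B).comp (KaehlerDifferential.map A A' B B)) :=
      (KaehlerDifferential.map_surjective A' B' B).comp (KaehlerDifferential.map_surjective A A' B)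
    have hzero : (KaehlerDifferential.map A' B' B B).comp (KaehlerDifferential.map A A' B B) = 0 := by
      apply LinearMap.ext_on_range hspan
      intro i
      rw [LinearMap.comp_apply, KaehlerDifferential.map_D, KaehlerDifferential.map_D,
        LinearMap.zero_apply]
      have : x i = algebraMap B' B ⟨x i, Algebra.subset_adjoin (Set.mem_range_self i)⟩ := rfl
      rw [Algebra.algebraMap_self, RingHom.id_apply, RingHom.id_apply, this,
        Derivation.map_algebraMap]
    refine ⟨fun ω ω' => ?_⟩
    obtain ⟨η, rfl⟩ := hsurj ω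
    obtain ⟨η', rfl⟩ := hsurj ω'
    rw [hzero, LinearMap.zero_apply, LinearMap.zero_apply]
  have hpow : ∀ b : B, b ^ p ^ 1 ∈ Set.range (algebraMap B' B) := by
    intro b
    rw [pow_one]
    have hb : b ^ p ∈ A' := Algebra.subset_adjoin ⟨b, rfl⟩
    exact ⟨algebraMap A' B' ⟨b ^ p, hb⟩, rfl⟩
  have hsurj := surjective_of_kaehler_zero (A := B') (B := B) p hp hpB 1 hpow
  rw [eq_top_iff]
  rintro b -
  obtain ⟨b', rfl⟩ := hsurj b
  exact b'.2

end Gen

end Groth.Agent.Lib.Helper5.PBasis
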