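import Groth.Agent.Lib.Helper5.PBasisKaehler
import Mathlib.FieldTheory.Perfect
import Mathlib.Algebra.CharP.Reduced
import Mathlib.RingTheory.Smooth.Basic

set_option autoImplicit false
set_option linter.unusedSectionVars false
universe u

namespace Groth.Agent.Lib.Helper5.PBasisLift

open EGA41 Groth.Agent.Lib.Helper5.PBasis

section Frob

variable {E E' : Type*} [CommRing E] [CommRing E'] (p : ℕ) (hp : p.Prime) (hpE : (p : E) = 0)

include hp hpE in
lemma add_pow_p (x y : E) : (x + y) ^ p = x ^ p + y ^ p := by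
  obtain ⟨r, hr⟩ := exists_add_pow_prime_eq hp x y
  rw [hr, hpE]; ring

variable (π : E →+* E') (hπ : Function.Surjective π) (hK : ∀ r, π r = 0 → r ^ p = 0)

include hp hpE hK in
lemma pow_eq_of_map_eq {e₁ e₂ : E} (h : π e₁ = π e₂) : e₁ ^ p = e₂ ^ p := by
  have h0 : π (e₁ - e₂) = 0 := by rw [map_sub, h, sub_self]
  have : e₁ = e₂ + (e₁ - e₂) := by ring
  rw [this, add_pow_p p hp hpE, hK _ h0, add_zero]

/-- the `p`-th power map factored through a surjection whose kernel is killed by it -/
noncomputable def phi : E' →+* E where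
  toFun e' := (Function.surjInv hπ e') ^ p
  map_one' := by
    have := pow_eq_of_map_eq p hp hpE π hK
      (show π (Function.surjInv hπ 1) = π 1 by rw [Function.surjInv_eq hπ, map_one])
    rw [this, one_pow]
  map_mul' a b := by
    have := pow_eq_of_map_eq p hp hpE π hK
      (show π (Function.surjInv hπ (a * b)) =
        π (Function.surjInv hπ a * Function.surjInv hπ b) by
          rw [Function.surjInv_eq hπ, map_mul, Function.surjInv_eq hπ, Function.surjInv_eq hπ])
    rw [this, mul_pow]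
  map_zero' := by
    have := pow_eq_of_map_eq p hp hpE π hK
      (show π (Function.surjInv hπ 0) = π 0 by rw [Function.surjInv_eq hπ, map_zero])
    rw [this, zero_pow hp.ne_zero]
  map_add' a b := by
    have := pow_eq_of_map_eq p hp hpE π hK
      (show π (Function.surjInv hπ (a + b)) =
        π (Function.surjInv hπ a + Function.surjInv hπ b) by
          rw [Function.surjInv_eq hπ, map_add, Function.surjInv_eq hπ, Function.surjInv_eq hπ])
    rw [this, add_pow_p p hp hpE]

lemma phi_apply (e : E) : phi p hp hpE π hπ hK (π e) = e ^ p :=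
  pow_eq_of_map_eq p hp hpE π hK (Function.surjInv_eq hπ (π e))

lemma map_phi (e' : E') : π (phi p hp hpE π hπ hK e') = e' ^ p := by
  obtain ⟨e, rfl⟩ := hπ e'
  rw [phi_apply, map_pow]

end Frob

section Step

variable (p : ℕ) [hp : Fact p.Prime] {A B : Type u} [CommRing A] [CharP A p] [PerfectRing A p]
  [CommRing B] [Algebra A B] [CharP B p] [IsReduced B]

lemma exists_pow_eq_of_mem (s : B) (hs : s ∈ pPowerSubalgebra p A B) : ∃ b : B, b ^ p = s := by
  induction hs using Algebra.adjoin_induction with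
  | mem s hs => obtain ⟨b, rfl⟩ := hs; exact ⟨b, rfl⟩
  | algebraMap a =>
    refine ⟨algebraMap A B ((frobeniusEquiv A p).symm a), ?_⟩
    rw [← map_pow, frobeniusEquiv_symm_pow_p]
  | add s t _ _ hs ht =>
    obtain ⟨b, rfl⟩ := hs
    obtain ⟨c, rfl⟩ := ht
    exact ⟨b + c, add_pow_char b c p⟩
  | mul s t _ _ hs ht =>
    obtain ⟨b, rfl⟩ := hs
    obtain ⟨c, rfl⟩ := ht
    exact ⟨b * c, mul_pow b c p⟩

variable (A B) in
/-- Frobenius as an isomorphism onto `A[B^p]` -/
noncomputable def frobS : B ≃+* pPowerSubalgebra p A B :=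
  RingEquiv.ofBijective ((frobenius B p).codRestrict (pPowerSubalgebra p A B)
    (fun b => Algebra.subset_adjoin ⟨b, rfl⟩)) (by
    constructor
    · intro b b' h
      exact frobenius_inj B p (congrArg Subtype.val h)
    · rintro ⟨s, hs⟩
      obtain ⟨b, rfl⟩ := exists_pow_eq_of_mem p s hs
      exact ⟨b, rfl⟩)

lemma frobS_coe (b : B) : ((frobS p A B b : pPowerSubalgebra p A B) : B) = b ^ p := rfl

variable {ι : Type u} (x : ι → B) (hx : IsPBasis p A x)

include hx in
theorem step {E E' : Type*} [CommRing E] [CommRing E'] [Algebra A E] [Algebra A E']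
    (π : E →ₐ[A] E') (hπ : Function.Surjective π) (hK : ∀ r, π r = 0 → r ^ p = 0)
    (v : B →ₐ[A] E') (z : ι → E) (hz : ∀ i, π (z i) = v (x i)) :
    ∃! w : B →ₐ[A] E, π.comp w = v ∧ ∀ i, w (x i) = z i := by
  have hli : LinearIndependent (pPowerSubalgebra p A B) (fun e : Red ι p => mon x e.1) := hx.1
  have hsp : Submodule.span (pPowerSubalgebra p A B)
      (Set.range fun e : Red ι p => mon x e.1) = ⊤ := hx.2
  have hpE : (p : E) = 0 := by
    have : (p : E) = algebraMap A E (p : A) := by rw [map_natCast]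
    rw [this, CharP.cast_eq_zero, map_zero]
  have hK' : ∀ r, (π : E →+* E') r = 0 → r ^ p = 0 := hK
  have hπ' : Function.Surjective (π : E →+* E') := hπ
  set φ : E' →+* E := phi p hp.out hpE (π : E →+* E') hπ' hK' with hφ
  have hφ1 : ∀ e : E, φ (π e) = e ^ p := phi_apply p hp.out hpE (π : E →+* E') hπ' hK'
  have hφ2 : ∀ e' : E', π (φ e') = e' ^ p := map_phi p hp.out hpE (π : E →+* E') hπ' hK'
  set w₀ : pPowerSubalgebra p A B →+* E :=
    φ.comp ((v : B →+* E').comp (frobS p A B).symm.toRingHom) with hw₀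
  have hw₀1 : ∀ b : B, w₀ (frobS p A B b) = φ (v b) := by
    intro b
    rw [hw₀]
    change φ (v ((frobS p A B).symm (frobS p A B b))) = _
    rw [RingEquiv.symm_apply_apply]
  have hcp : ∀ i, cPow p x i = frobS p A B (x i) := fun i => Subtype.ext rfl
  have hzp : ∀ i, z i ^ p = w₀ (cPow (A := A) p x i) := by
    intro i
    rw [hcp, hw₀1, ← hz, hφ1]
  set w : B →+* E := vhom p x (cPow p x) (cPow_spec p x) hli hsp w₀ z hzp hp.out.pos with hw
  have hwS : ∀ s : pPowerSubalgebra p A B, w (s : B) = w₀ s :=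
    vhom_algebraMap p x (cPow p x) (cPow_spec p x) hli hsp w₀ z hzp hp.out.pos
  have hwx : ∀ i, w (x i) = z i :=
    vhom_x p x (cPow p x) (cPow_spec p x) hli hsp w₀ z hzp hp.out.pos
  have hwpow : ∀ b : B, w (b ^ p) = φ (v b) := by
    intro b
    rw [← frobS_coe (A := A) p b, hwS, hw₀1]
  have hwA : ∀ a : A, w (algebraMap A B a) = algebraMap A E a := by
    intro a
    have h1 : algebraMap A B a = (algebraMap A B ((frobeniusEquiv A p).symm a)) ^ p := by
      rw [← map_pow, frobeniusEquiv_symm_pow_p]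
    rw [h1, hwpow, AlgHom.commutes, ← AlgHom.commutes π, hφ1, ← map_pow,
      frobeniusEquiv_symm_pow_p]
  let wA : B →ₐ[A] E := { w with commutes' := hwA }
  have hwAc : ∀ b, wA b = w b := fun _ => rfl
  have hcomp : π.comp wA = v := by
    have : ((π : E →+* E').comp w) = (v : B →+* E') := by
      apply ringHom_ext_of_span p x hsp
      · intro s
        obtain ⟨b, rfl⟩ := (frobS p A B).surjective s
        change π (w (frobS p A B b : B)) = v (frobS p A B b : B)
        rw [hwS, hw₀1, hφ2, frobS_coe (A := A) p, map_pow]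
      · intro i
        change π (w (x i)) = v (x i)
        rw [hwx, hz]
    apply AlgHom.ext
    intro b
    exact RingHom.congr_fun this b
  refine ⟨wA, ⟨hcomp, fun i => hwx i⟩, ?_⟩
  rintro w' ⟨hw'1, hw'2⟩
  have : (w' : B →+* E) = w := by
    apply ringHom_ext_of_span p x hsp
    · intro s
      obtain ⟨b, rfl⟩ := (frobS p A B).surjective s
      change w' (frobS p A B b : B) = w (frobS p A B b : B)
      rw [hwS, hw₀1, frobS_coe (A := A) p, map_pow, ← hφ1, ← hw'1]
      rfl
    · intro i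
      change w' (x i) = w (x i)
      rw [hwx, hw'2]
  apply AlgHom.ext
  intro b
  exact RingHom.congr_fun this b

include hx in
theorem lift_of_pow (n : ℕ) : ∀ {E E' : Type u} [CommRing E] [CommRing E'] [Algebra A E]
    [Algebra A E'] (π : E →ₐ[A] E') (_ : Function.Surjective π) (_ : (RingHom.ker π) ^ n = ⊥)
    (v : B →ₐ[A] E') (z : ι → E) (_ : ∀ i, π (z i) = v (x i)),
    ∃! w : B →ₐ[A] E, π.comp w = v ∧ ∀ i, w (x i) = z i := by
  induction n with
  | zero =>
    intro E E' _ _ _ _ π hπ hK v z hz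
    refine step p x hx π hπ (fun r _ => ?_) v z hz
    have : r ^ p ∈ (RingHom.ker π) ^ 0 := by rw [pow_zero, Ideal.one_eq_top]; trivial
    rw [hK] at this
    exact this
  | succ n ih =>
    intro E E' _ _ _ _ π hπ hK v z hz
    by_cases hn : n + 1 ≤ p
    · refine step p x hx π hπ (fun r hr => ?_) v z hz
      have h1 : r ^ p ∈ (RingHom.ker π) ^ p := Ideal.pow_mem_pow hr p
      have h2 := Ideal.pow_le_pow_right (I := RingHom.ker π) hn h1
      rw [hK] at h2
      exact h2
    · have hp2 : 2 ≤ p := hp.out.two_le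
      have hn2 : 2 ≤ n := by omega
      set K : Ideal E := RingHom.ker π with hKdef
      set I : Ideal E := K ^ n with hI
      have hIK : I ≤ K := Ideal.pow_le_self (by omega)
      have hI2 : I ^ 2 = ⊥ := by
        rw [hI, ← pow_mul, eq_bot_iff, ← hK]
        exact Ideal.pow_le_pow_right (by nlinarith)
      let π₁ : E ⧸ I →ₐ[A] E' := Ideal.Quotient.liftₐ I π (fun a ha => hIK ha)
      have hπ₁mk : ∀ e : E, π₁ (Ideal.Quotient.mk I e) = π e := fun e => rfl
      have hπ₁ : Function.Surjective π₁ := by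
        intro e'
        obtain ⟨e, rfl⟩ := hπ e'
        exact ⟨Ideal.Quotient.mk I e, rfl⟩
      have hker₁ : RingHom.ker π₁ ≤ K.map (Ideal.Quotient.mk I) := by
        intro y hy
        obtain ⟨e, rfl⟩ := Ideal.Quotient.mk_surjective y
        rw [RingHom.mem_ker, hπ₁mk] at hy
        exact Ideal.mem_map_of_mem _ hy
      have hK₁ : (RingHom.ker π₁) ^ n = ⊥ := by
        rw [eq_bot_iff]
        refine (Ideal.pow_right_mono hker₁ n).trans ?_
        rw [← Ideal.map_pow, ← hI, Ideal.map_quotient_self]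
      have hz₁ : ∀ i, π₁ (Ideal.Quotient.mk I (z i)) = v (x i) := fun i => by rw [hπ₁mk, hz]
      obtain ⟨w₁, ⟨hw₁a, hw₁b⟩, hw₁u⟩ := ih π₁ hπ₁ hK₁ v (fun i => Ideal.Quotient.mk I (z i)) hz₁
      have hmkK : ∀ r, Ideal.Quotient.mkₐ A I r = 0 → r ^ p = 0 := by
        intro r hr
        have hrI : r ∈ I := Ideal.Quotient.eq_zero_iff_mem.1 hr
        have h1 : r ^ p ∈ I ^ p := Ideal.pow_mem_pow hrI p
        have h2 := Ideal.pow_le_pow_right (I := I) hp2 h1
        rw [hI2] at h2
        exact h2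
      obtain ⟨w, ⟨hwa, hwb⟩, hwu⟩ := step p x hx (Ideal.Quotient.mkₐ A I)
        (Ideal.Quotient.mkₐ_surjective A I) hmkK w₁ z (fun i => (hw₁b i).symm)
      have hπfac : π = π₁.comp (Ideal.Quotient.mkₐ A I) := AlgHom.ext fun e => rfl
      refine ⟨w, ⟨?_, hwb⟩, ?_⟩
      · rw [hπfac, AlgHom.comp_assoc, hwa, hw₁a]
      · rintro w' ⟨hw'1, hw'2⟩
        apply hwu
        refine ⟨?_, hw'2⟩
        apply hw₁u
        refine ⟨?_, fun i => ?_⟩
        · rw [← AlgHom.comp_assoc, ← hπfac, hw'1]
        · change Ideal.Quotient.mk I (w' (x i)) = _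
          rw [hw'2]

include hx in
theorem existsUnique_lift (E : Type u) [CommRing E] [Algebra A E] (R : Ideal E)
    (hR : IsNilpotent R) (v : B →ₐ[A] E ⧸ R) (z : ι → E)
    (hz : ∀ i, Ideal.Quotient.mk R (z i) = v (x i)) :
    ∃! w : B →ₐ[A] E, (Ideal.Quotient.mkₐ A R).comp w = v ∧ ∀ i, w (x i) = z i := by
  obtain ⟨n, hn⟩ := hR
  refine lift_of_pow p x hx n (Ideal.Quotient.mkₐ A R) (Ideal.Quotient.mkₐ_surjective A R) ?_ v z hz
  have hker : RingHom.ker (Ideal.Quotient.mkₐ A R) = R := by
    ext e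
    rw [RingHom.mem_ker]
    exact Ideal.Quotient.eq_zero_iff_mem
  rw [hker]
  exact hn

include hx in
theorem formallySmooth : Algebra.FormallySmooth A B := by
  apply Algebra.FormallySmooth.of_comp_surjective
  intro E _ _ R hR v
  have hsurj : ∀ i, ∃ e : E, Ideal.Quotient.mk R e = v (x i) :=
    fun i => Ideal.Quotient.mk_surjective _
  choose z hz using hsurj
  obtain ⟨w, ⟨hw, -⟩, -⟩ := existsUnique_lift p x hx E R ⟨2, hR⟩ v z hz
  exact ⟨w, hw⟩

end Step

end Groth.Agent.Lib.Helper5.PBasisLift
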