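import Groth.Agent.Lib.Helper5.PBasisBase
import Mathlib.RingTheory.AlgebraTower

set_option autoImplicit false
set_option linter.unusedSectionVars false
universe u

namespace Groth.Agent.Lib.Helper5.PBasis

open EGA41

section Abstract

variable {R S M : Type*} [Ring R] [Ring S] [AddCommGroup M] [Module R S] [Module S M]
  [Module R M] [IsScalarTower R S M]

theorem linearIndependent_of_smul {ι ι' : Type*} (b : ι → S)
    (hsp : Submodule.span R (Set.range b) = ⊤) (c : ι' → M)
    (h : LinearIndependent R (fun q : ι' × ι => b q.2 • c q.1)) : LinearIndependent S c := by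
  rw [LinearIndependent, Finsupp.linearCombination_smul] at h
  have hb : Function.Surjective (Finsupp.linearCombination R b) := by
    rw [← LinearMap.range_eq_top, Finsupp.range_linearCombination, hsp]
  have hsurj : Function.Surjective
      (Finsupp.mapRange.linearMap (α := ι') (Finsupp.linearCombination R b) ∘ₗ
        (Finsupp.curryLinearEquiv R).toLinearMap) := by
    rw [LinearMap.coe_comp]
    refine Function.Surjective.comp ?_ (Finsupp.curryLinearEquiv R).surjective
    exact Finsupp.mapRange_surjective _ (map_zero _) hb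
  have h' : Function.Injective ((Finsupp.linearCombination S c) ∘
      (Finsupp.mapRange.linearMap (α := ι') (Finsupp.linearCombination R b) ∘ₗ
        (Finsupp.curryLinearEquiv R).toLinearMap)) := h
  exact Function.Injective.of_comp_right h' hsurj

theorem linearIndependent_smul_iff {ι ι' : Type*} (b : ι → S) (hb : LinearIndependent R b)
    (hsp : Submodule.span R (Set.range b) = ⊤) (c : ι' → M) :
    LinearIndependent S c ↔ LinearIndependent R (fun q : ι × ι' => b q.1 • c q.2) := by
  constructor
  · intro hc
    exact linearIndependent_smul hb hc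
  · intro h
    refine linearIndependent_of_smul b hsp c ?_
    rw [← linearIndependent_equiv' (Equiv.prodComm ι ι') (g := fun q : ι × ι' => b q.1 • c q.2) rfl]
    exact h

end Abstract

section SumRed

variable {ι κ : Type*} (p : ℕ)

/-- reduced exponent vectors on a sum type -/
noncomputable def redSum : Red ι p × Red κ p ≃ Red (ι ⊕ κ) p where
  toFun q := ⟨Finsupp.sumElim q.1.1 q.2.1, by
    rintro (i | j)
    · exact q.1.2 i
    · exact q.2.2 j⟩
  invFun g := (⟨(Finsupp.sumFinsuppEquivProdFinsupp g.1).1, fun i => g.2 (Sum.inl i)⟩,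
    ⟨(Finsupp.sumFinsuppEquivProdFinsupp g.1).2, fun j => g.2 (Sum.inr j)⟩)
  left_inv q := by
    ext <;> simp [Finsupp.sumFinsuppEquivProdFinsupp]
  right_inv g := by
    apply Subtype.ext
    exact Finsupp.sumFinsuppEquivProdFinsupp.symm_apply_apply g.1

lemma mon_sumElim {M : Type*} [CommMonoid M] (u : ι → M) (v : κ → M) (e : ι →₀ ℕ) (f : κ →₀ ℕ) :
    mon (Sum.elim u v) (Finsupp.sumElim e f) = mon u e * mon v f := by
  unfold mon
  rw [Finsupp.prod_sumElim]
  rfl

lemma mon_redSum {M : Type*} [CommMonoid M] (u : ι → M) (v : κ → M) (q : Red ι p × Red κ p) :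
    mon (Sum.elim u v) (redSum p q).1 = mon u q.1.1 * mon v q.2.1 :=
  mon_sumElim u v _ _

end SumRed

end Groth.Agent.Lib.Helper5.PBasis
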