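import Groth.Agent.Lib.Helper5.PBasisTower

set_option autoImplicit false
set_option linter.unusedSectionVars false
universe u

namespace Groth.Agent.Lib.Helper5.PBasis

open EGA41
open scoped Pointwise

section Tower

variable (p : ℕ) {A C B : Type u} [CommRing A] [CommRing C] [CommRing B] [Algebra A C]
  [Algebra C B] [Algebra A B] [IsScalarTower A C B]
  (hinj : Function.Injective (algebraMap C B))
  (hpow : ∀ b : B, b ^ p ∈ Set.range (algebraMap A B))

include hinj hpow in
lemma hpow_mid (c : C) : c ^ p ∈ Set.range (algebraMap A C) := by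
  obtain ⟨a, ha⟩ := hpow (algebraMap C B c)
  refine ⟨a, hinj ?_⟩
  rw [← IsScalarTower.algebraMap_apply, ha, map_pow]

include hpow in
lemma hpow_top (b : B) : b ^ p ∈ Set.range (algebraMap C B) := by
  obtain ⟨a, ha⟩ := hpow b
  exact ⟨algebraMap A C a, by rw [← IsScalarTower.algebraMap_apply, ha]⟩

variable {I : Type*} (v : I → B)

include hinj hpow in
lemma li_top_iff :
    LinearIndependent (pPowerSubalgebra p C B) v ↔ LinearIndependent C v := by
  constructor
  · intro h
    refine LinearIndependent.restrict_scalars ?_ h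
    intro c c' hcc
    apply hinj
    have := congrArg (Subtype.val) hcc
    simpa [Algebra.smul_def] using this
  · intro h
    have hsurj : Function.Surjective (algebraMap C (pPowerSubalgebra p C B)) := by
      rintro ⟨b, hb⟩
      obtain ⟨c, hc⟩ := exists_algebraMap_eq_of_mem p (hpow_top p hpow) b hb
      exact ⟨c, Subtype.ext hc⟩
    exact h.map_of_surjective_injective (algebraMap C (pPowerSubalgebra p C B))
      (AddMonoidHom.id B) hsurj (fun m hm => hm) (fun r m => (algebraMap_smul _ r m).symm)

include hinj hpow in
lemma mem_of_mem_mid (a₂ : pPowerSubalgebra p A C) :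
    algebraMap C B a₂.1 ∈ pPowerSubalgebra p A B := by
  obtain ⟨a, ha⟩ := exists_algebraMap_eq_of_mem p (hpow_mid p hinj hpow) a₂.1 a₂.2
  rw [← ha, ← IsScalarTower.algebraMap_apply]
  exact Subalgebra.algebraMap_mem _ a

include hinj hpow in
lemma li_mid_iff :
    LinearIndependent (pPowerSubalgebra p A C) v ↔
      LinearIndependent (pPowerSubalgebra p A B) v := by
  let φ : pPowerSubalgebra p A C → pPowerSubalgebra p A B :=
    fun a₂ => ⟨algebraMap C B a₂.1, mem_of_mem_mid p hinj hpow a₂⟩
  have hφ : ∀ (r : pPowerSubalgebra p A C) (m : B), φ r • m = r • m := by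
    intro r m
    change algebraMap C B r.1 * m = r.1 • m
    rw [Algebra.smul_def]
  constructor
  · intro h
    have hsurj : Function.Surjective φ := by
      rintro ⟨b, hb⟩
      obtain ⟨a, ha⟩ := exists_algebraMap_eq_of_mem p hpow b hb
      refine ⟨⟨algebraMap A C a, Subalgebra.algebraMap_mem _ a⟩, Subtype.ext ?_⟩
      change algebraMap C B (algebraMap A C a) = b
      rw [← IsScalarTower.algebraMap_apply, ha]
    exact h.map_of_surjective_injective φ (AddMonoidHom.id B) hsurj (fun m hm => hm)
      (fun r m => (hφ r m).symm)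
  · intro h
    refine h.map_of_injective_injective φ (AddMonoidHom.id B) ?_ (fun m hm => hm)
      (fun r m => hφ r m)
    intro r hr
    have h0 : algebraMap C B r.1 = 0 := congrArg Subtype.val hr
    have : r.1 = 0 := hinj (h0.trans (map_zero _).symm)
    exact Subtype.ext this

end Tower

section Main

variable (p : ℕ) {A C B : Type u} [CommRing A] [CommRing C] [CommRing B] [Algebra A C]
  [Algebra C B] [Algebra A B] [IsScalarTower A C B]
  (hinj : Function.Injective (algebraMap C B))
  (hpow : ∀ b : B, b ^ p ∈ Set.range (algebraMap A B))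
  {ι κ : Type u} (x : ι → C) (y : κ → B)

lemma mon_combined (q : Red ι p × Red κ p) :
    mon (Sum.elim (fun i => algebraMap C B (x i)) y) (redSum p q).1 =
      mon x q.1.1 • mon y q.2.1 := by
  rw [mon_redSum, Algebra.smul_def]
  congr 1
  have := map_mon x (algebraMap C B : C →* B) q.1.1
  rw [MonoidHom.coe_coe] at this
  exact this.symm

include hinj hpow in
theorem isPGenerating_tower (hx : IsPGenerating p A x) (hy : IsPGenerating p C y) :
    IsPGenerating p A (Sum.elim (fun i => algebraMap C B (x i)) y) := by
  have h1 : Submodule.span A (Set.range fun e : Red ι p => mon x e.1) = ⊤ :=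
    span_base p (hpow_mid p hinj hpow) x hx
  have h2 : Submodule.span C (Set.range fun f : Red κ p => mon y f.1) = ⊤ :=
    span_base p (hpow_top p hpow) y hy
  have h3 := Submodule.span_smul_of_span_eq_top (R := A) h1
    (Set.range fun f : Red κ p => mon y f.1)
  rw [h2, Submodule.restrictScalars_top] at h3
  have h4 : (Set.range fun e : Red ι p => mon x e.1) • (Set.range fun f : Red κ p => mon y f.1) ⊆
      Set.range fun g : Red (ι ⊕ κ) p =>
        mon (Sum.elim (fun i => algebraMap C B (x i)) y) g.1 := by
    rintro _ ⟨_, ⟨e, rfl⟩, _, ⟨f, rfl⟩, rfl⟩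
    exact ⟨redSum p (e, f), mon_combined p x y (e, f)⟩
  have h5 : Submodule.span A (Set.range fun g : Red (ι ⊕ κ) p =>
      mon (Sum.elim (fun i => algebraMap C B (x i)) y) g.1) = ⊤ := by
    rw [eq_top_iff, ← h3]
    exact Submodule.span_mono h4
  change Submodule.span (pPowerSubalgebra p A B) (Set.range fun g : Red (ι ⊕ κ) p =>
      mon (Sum.elim (fun i => algebraMap C B (x i)) y) g.1) = ⊤
  rw [eq_top_iff]
  intro b _
  have hb : b ∈ Submodule.span A (Set.range fun g : Red (ι ⊕ κ) p =>
      mon (Sum.elim (fun i => algebraMap C B (x i)) y) g.1) := by rw [h5]; trivial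
  exact Submodule.span_le_restrictScalars A (pPowerSubalgebra p A B) _ hb

include hinj hpow in
theorem isPIndependent_tower_iff (hx : IsPBasis p A x) :
    IsPIndependent p C y ↔
      IsPIndependent p A (Sum.elim (fun i => algebraMap C B (x i)) y) := by
  have hb : LinearIndependent (pPowerSubalgebra p A C) (fun e : Red ι p => mon x e.1) := hx.1
  have hsp : Submodule.span (pPowerSubalgebra p A C)
      (Set.range fun e : Red ι p => mon x e.1) = ⊤ := hx.2
  change LinearIndependent (pPowerSubalgebra p C B) (fun f : Red κ p => mon y f.1) ↔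
    LinearIndependent (pPowerSubalgebra p A B) (fun g : Red (ι ⊕ κ) p =>
      mon (Sum.elim (fun i => algebraMap C B (x i)) y) g.1)
  rw [li_top_iff p hinj hpow, ← li_mid_iff p hinj hpow,
    linearIndependent_smul_iff (R := pPowerSubalgebra p A C) _ hb hsp]
  refine linearIndependent_equiv' (redSum p) ?_
  funext q
  exact mon_combined p x y q

end Main

end Groth.Agent.Lib.Helper5.PBasis
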