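import Groth.Agent.Lib.Helper5.PBasis
import Mathlib.Algebra.CharP.Lemmas
import Mathlib.Algebra.CharP.Algebra
import Mathlib.FieldTheory.IsAlgClosed.AlgebraicClosure
import Mathlib.RingTheory.LocalRing.ResidueField.Basic
import Mathlib.RingTheory.Nilpotent.Lemmas

set_option autoImplicit false
set_option linter.unusedSectionVars false
universe u

namespace Groth.Agent.Lib.Helper5.PPolyLocal

open Groth.Agent.Lib.Helper5.PBasis

section Field

variable {K R' ι : Type*} [Field K] [CommRing R'] [Algebra K R'] [Nontrivial R'] (p : ℕ)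
  [hp : Fact p.Prime] [CharP K p] (t : ι → R') (a : ι → K)
  (h1 : ∀ i, algebraMap K R' (a i) = t i ^ p)
  (h2 : Algebra.adjoin K (Set.range t) = ⊤)
  (h3 : LinearIndependent (↥(frobenius K p).fieldRange) (fun e : Red ι p => mon a e.1))

include h1 in
lemma mon_mem_span (f : ι →₀ ℕ) :
    mon t f ∈ Submodule.span K (Set.range fun e : Red ι p => mon t e.1) := by
  rw [mon_eq_smul p t a h1 f]
  exact Submodule.smul_mem _ _ (Submodule.subset_span ⟨⟨emod p f, emod_lt hp.out.pos f⟩, rfl⟩)

include h1 in
lemma mul_mem_span {b b' : R'}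
    (hb : b ∈ Submodule.span K (Set.range fun e : Red ι p => mon t e.1))
    (hb' : b' ∈ Submodule.span K (Set.range fun e : Red ι p => mon t e.1)) :
    b * b' ∈ Submodule.span K (Set.range fun e : Red ι p => mon t e.1) := by
  induction hb using Submodule.span_induction with
  | mem b hm =>
    obtain ⟨e, rfl⟩ := hm
    induction hb' using Submodule.span_induction with
    | mem b' hm' =>
      obtain ⟨e', rfl⟩ := hm'
      rw [← mon_add]
      exact mon_mem_span p t a h1 _
    | zero => rw [mul_zero]; exact Submodule.zero_mem _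
    | add c c' _ _ h1 h2 => rw [mul_add]; exact Submodule.add_mem _ h1 h2
    | smul r c _ h1 => rw [mul_smul_comm]; exact Submodule.smul_mem _ _ h1
  | zero => rw [zero_mul]; exact Submodule.zero_mem _
  | add c c' _ _ h1 h2 => rw [add_mul]; exact Submodule.add_mem _ h1 h2
  | smul r c _ h1 => rw [smul_mul_assoc]; exact Submodule.smul_mem _ _ h1

include h1 h2 in
lemma span_eq_top : Submodule.span K (Set.range fun e : Red ι p => mon t e.1) = ⊤ := by
  rw [eq_top_iff]
  intro x hxtop
  clear hxtop
  have hx : x ∈ Algebra.adjoin K (Set.range t) := by rw [h2]; trivial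
  induction hx using Algebra.adjoin_induction with
  | mem b hb =>
    obtain ⟨i, rfl⟩ := hb
    have := mon_mem_span p t a h1 (Finsupp.single i 1)
    rwa [mon_single, pow_one] at this
  | algebraMap r =>
    have := mon_mem_span p t a h1 0
    rw [mon_zero] at this
    rw [Algebra.algebraMap_eq_smul_one]
    exact Submodule.smul_mem _ _ this
  | add b b' _ _ h1' h2' => exact Submodule.add_mem _ h1' h2'
  | mul b b' _ _ h1' h2' => exact mul_mem_span p t a h1 h1' h2'

lemma mon_pow (x : ι → R') (n : ℕ) (e : ι →₀ ℕ) : mon x e ^ n = mon (fun i => x i ^ n) e := by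
  unfold mon
  rw [Finsupp.prod, Finsupp.prod, ← Finset.prod_pow]
  refine Finset.prod_congr rfl (fun i _ => ?_)
  rw [← pow_mul, ← pow_mul, mul_comm]

include h1 h2 h3 in
theorem isUnit_of_ne_zero (x : R') (hx : x ≠ 0) : IsUnit x := by
  have : CharP R' p := charP_of_injective_algebraMap (algebraMap K R').injective p
  have hxs : x ∈ Submodule.span K (Set.range fun e : Red ι p => mon t e.1) := by
    rw [span_eq_top p t a h1 h2]; trivial
  obtain ⟨b, hb⟩ := Finsupp.mem_span_range_iff_exists_finsupp.1 hxs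
  rw [Finsupp.sum] at hb
  have hpow : x ^ p = algebraMap K R' (∑ r ∈ b.support, b r ^ p * mon a r.1) := by
    rw [← hb, sum_pow_char p, map_sum]
    refine Finset.sum_congr rfl (fun r _ => ?_)
    rw [smul_pow, mon_pow, map_mul, Algebra.smul_def, map_pow]
    congr 1
    have := map_mon a ((algebraMap K R' : K →+* R') : K →* R') r.1
    rw [MonoidHom.coe_coe] at this
    rw [this]
    simp only [h1]
  have hy : (∑ r ∈ b.support, b r ^ p * mon a r.1) ≠ 0 := by
    intro h0
    apply hx
    have hli := linearIndependent_iff'.1 h3 b.support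
      (fun r => (⟨b r ^ p, ⟨b r, rfl⟩⟩ : ↥(frobenius K p).fieldRange)) h0
    have hb0 : b = 0 := by
      ext r
      by_cases hr : r ∈ b.support
      · have := congrArg Subtype.val (hli r hr)
        exact pow_eq_zero_iff hp.out.ne_zero |>.1 this
      · exact Finsupp.notMem_support_iff.1 hr
    rw [← hb, hb0]
    simp
  have hu : IsUnit (x ^ p) := by
    rw [hpow]
    exact (IsUnit.mk0 _ hy).map (algebraMap K R')
  exact (isUnit_pow_iff hp.out.ne_zero).1 hu

end Field

section Local

open IsLocalRing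

variable {A : Type u} [CommRing A] [IsLocalRing A] (hm : maximalIdeal A ^ 2 = ⊥) (p : ℕ)
  [hp : Fact p.Prime] [CharP (ResidueField A) p] {ι : Type u} (c : ι → Fin p → A) (f : ι → A)

/-- the residue field acts on an algebra killed by the maximal ideal -/
@[reducible] noncomputable def algResidue {A R' : Type*} [CommRing A] [IsLocalRing A] [CommRing R']
    [Algebra A R'] (h : ∀ a ∈ maximalIdeal A, algebraMap A R' a = 0) :
    Algebra (ResidueField A) R' :=
  (Ideal.Quotient.lift (maximalIdeal A) (algebraMap A R') h : ResidueField A →+* R').toAlgebra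

theorem isField_of_residue {A R' ι : Type*} [CommRing A] [IsLocalRing A] [CommRing R']
    [Algebra A R'] [Nontrivial R'] (hkill : ∀ a ∈ maximalIdeal A, algebraMap A R' a = 0)
    (p : ℕ) [hp : Fact p.Prime] [CharP (ResidueField A) p] (t : ι → R') (f : ι → A)
    (h1 : ∀ i, algebraMap A R' (f i) = t i ^ p)
    (h2 : Algebra.adjoin A (Set.range t) = ⊤)
    (hind : LinearIndependent (↥(frobenius (ResidueField A) p).fieldRange)
      (fun e : Red ι p => mon (fun i => residue A (f i)) e.1)) : IsField R' := by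
  let algK : Algebra (ResidueField A) R' := algResidue hkill
  have halg : ∀ a : A, algebraMap (ResidueField A) R' (residue A a) = algebraMap A R' a :=
    fun a => rfl
  have h1' : ∀ i, algebraMap (ResidueField A) R' (residue A (f i)) = t i ^ p := by
    intro i
    rw [halg, h1]
  have h2' : Algebra.adjoin (ResidueField A) (Set.range t) = ⊤ := by
    rw [eq_top_iff]
    intro x hxtop
    clear hxtop
    have hx : x ∈ Algebra.adjoin A (Set.range t) := by rw [h2]; trivial
    induction hx using Algebra.adjoin_induction with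
    | mem b hb => exact Algebra.subset_adjoin hb
    | algebraMap a =>
      rw [← halg]
      exact Subalgebra.algebraMap_mem _ _
    | add b b' _ _ hb hb' => exact Subalgebra.add_mem _ hb hb'
    | mul b b' _ _ hb hb' => exact Subalgebra.mul_mem _ hb hb'
  exact ⟨exists_pair_ne _, mul_comm, fun {x} hx =>
    (isUnit_of_ne_zero p t (fun i => residue A (f i)) h1' h2' hind x hx).exists_right_inv⟩

/-- the polynomials `T_i^p + p Σ c_{ik} T_i^{p-k} - f_i` -/
noncomputable def F : ι → MvPolynomial ι A := fun i =>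
  MvPolynomial.X i ^ p + (p : MvPolynomial ι A) * (Finset.univ.sum fun j : Fin p =>
    if (j : ℕ) = 0 then 0 else MvPolynomial.C (c i j) * MvPolynomial.X i ^ (p - (j : ℕ))) -
      MvPolynomial.C (f i)

include hm in
theorem isLocalRing_quotient
    (hind : LinearIndependent (↥(frobenius (ResidueField A) p).fieldRange)
      (fun e : Red ι p => mon (fun i => residue A (f i)) e.1)) :
    ∃ _ : IsLocalRing (MvPolynomial ι A ⧸ Ideal.span (Set.range (F p c f))),
      maximalIdeal (MvPolynomial ι A ⧸ Ideal.span (Set.range (F p c f))) =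
        (maximalIdeal A).map
          (algebraMap A (MvPolynomial ι A ⧸ Ideal.span (Set.range (F p c f)))) := by
  classical
  set I : Ideal (MvPolynomial ι A) := Ideal.span (Set.range (F p c f)) with hI
  set 𝔫 : Ideal (MvPolynomial ι A ⧸ I) :=
    (maximalIdeal A).map (algebraMap A (MvPolynomial ι A ⧸ I)) with h𝔫
  have hpm : (p : A) ∈ maximalIdeal A := by
    have h0 : (residue A) (p : A) = 0 := by
      rw [map_natCast]
      exact CharP.cast_eq_zero _ p
    exact Ideal.Quotient.eq_zero_iff_mem.1 h0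
  let φ : A →+* (MvPolynomial ι A ⧸ I) ⧸ 𝔫 := algebraMap A ((MvPolynomial ι A ⧸ I) ⧸ 𝔫)
  have hφ : ∀ a ∈ maximalIdeal A, φ a = 0 := by
    intro a ha
    change Ideal.Quotient.mk 𝔫 (algebraMap A (MvPolynomial ι A ⧸ I) a) = 0
    exact Ideal.Quotient.eq_zero_iff_mem.2 (Ideal.mem_map_of_mem _ ha)
  let ψ : MvPolynomial ι A →+* (MvPolynomial ι A ⧸ I) ⧸ 𝔫 :=
    (Ideal.Quotient.mk 𝔫).comp (Ideal.Quotient.mk I)
  have hψC : ∀ a, ψ (MvPolynomial.C a) = φ a := fun a => rfl
  have hψsurj : Function.Surjective ψ :=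
    Ideal.Quotient.mk_surjective.comp Ideal.Quotient.mk_surjective
  let t : ι → (MvPolynomial ι A ⧸ I) ⧸ 𝔫 := fun i => ψ (MvPolynomial.X i)
  have hp0 : ((p : ℕ) : (MvPolynomial ι A ⧸ I) ⧸ 𝔫) = 0 := by
    have : ((p : ℕ) : (MvPolynomial ι A ⧸ I) ⧸ 𝔫) = φ (p : A) := by rw [map_natCast]
    rw [this, hφ _ hpm]
  have h1 : ∀ i, φ (f i) = t i ^ p := by
    intro i
    have hF : ψ (F p c f i) = 0 := by
      have : Ideal.Quotient.mk I (F p c f i) = 0 :=
        Ideal.Quotient.eq_zero_iff_mem.2 (Ideal.subset_span ⟨i, rfl⟩)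
      change Ideal.Quotient.mk 𝔫 (Ideal.Quotient.mk I (F p c f i)) = 0
      rw [this, map_zero]
    unfold F at hF
    rw [map_sub, map_add, map_mul, map_pow, map_natCast, hψC] at hF
    have hz : ∀ y : (MvPolynomial ι A ⧸ I) ⧸ 𝔫,
        ((p : ℕ) : (MvPolynomial ι A ⧸ I) ⧸ 𝔫) * y = 0 := by
      intro y
      rw [hp0]
      exact zero_mul y
    rw [hz, add_zero, sub_eq_zero] at hF
    exact hF.symm
  have h2 : Algebra.adjoin A (Set.range t) = ⊤ := by
    rw [eq_top_iff]
    intro x hxtop
    clear hxtop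
    obtain ⟨P, rfl⟩ := hψsurj x
    induction P using MvPolynomial.induction_on with
    | C a =>
      rw [hψC]
      exact Subalgebra.algebraMap_mem _ _
    | add P Q hP hQ =>
      rw [map_add]
      exact Subalgebra.add_mem _ hP hQ
    | mul_X P i hP =>
      rw [map_mul]
      exact Subalgebra.mul_mem _ hP (Algebra.subset_adjoin ⟨i, rfl⟩)
  have hnt : Nontrivial ((MvPolynomial ι A ⧸ I) ⧸ 𝔫) := by
    let Kb := AlgebraicClosure (ResidueField A)
    have hroot : ∀ i, ∃ z : Kb, z ^ p = algebraMap (ResidueField A) Kb (residue A (f i)) :=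
      fun i => IsAlgClosed.exists_pow_nat_eq _ hp.out.pos
    choose g hg using hroot
    have : CharP Kb p :=
      charP_of_injective_algebraMap (algebraMap (ResidueField A) Kb).injective p
    let φ' : A →+* Kb := (algebraMap (ResidueField A) Kb).comp (residue A)
    let θ₀ : MvPolynomial ι A →+* Kb := MvPolynomial.eval₂Hom φ' g
    have hθF : ∀ i, θ₀ (F p c f i) = 0 := by
      intro i
      unfold F
      rw [map_sub, map_add, map_mul, map_pow, map_natCast, CharP.cast_eq_zero, zero_mul, add_zero]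
      change MvPolynomial.eval₂ φ' g (MvPolynomial.X i) ^ p -
        MvPolynomial.eval₂ φ' g (MvPolynomial.C (f i)) = 0
      rw [MvPolynomial.eval₂_X, MvPolynomial.eval₂_C, hg]
      exact sub_self _
    have hIker : I ≤ RingHom.ker θ₀ := by
      rw [hI, Ideal.span_le]
      rintro _ ⟨i, rfl⟩
      exact hθF i
    let θ₁ : MvPolynomial ι A ⧸ I →+* Kb := Ideal.Quotient.lift I θ₀ (fun x hx => hIker hx)
    have h𝔫ker : ∀ x ∈ 𝔫, θ₁ x = 0 := by
      have : 𝔫 ≤ RingHom.ker θ₁ := by
        rw [h𝔫, Ideal.map_le_iff_le_comap]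
        intro a ha
        rw [Ideal.mem_comap, RingHom.mem_ker]
        change MvPolynomial.eval₂ φ' g (MvPolynomial.C a) = 0
        rw [MvPolynomial.eval₂_C]
        change algebraMap (ResidueField A) Kb (residue A a) = 0
        rw [(residue_eq_zero_iff a).2 ha, map_zero]
      exact fun x hx => this hx
    exact (Ideal.Quotient.lift 𝔫 θ₁ h𝔫ker).domain_nontrivial
  have hfield : IsField ((MvPolynomial ι A ⧸ I) ⧸ 𝔫) :=
    isField_of_residue hφ p t f h1 h2 hind
  have hmax : 𝔫.IsMaximal := Ideal.Quotient.maximal_of_isField 𝔫 hfield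
  have hsq : 𝔫 ^ 2 = ⊥ := by rw [h𝔫, ← Ideal.map_pow, hm, Ideal.map_bot]
  have huniq : ∀ M : Ideal (MvPolynomial ι A ⧸ I), M.IsMaximal → M = 𝔫 := by
    intro M hM
    have hle : 𝔫 ≤ M := by
      intro x hx
      have h2' : x ^ 2 ∈ 𝔫 ^ 2 := Ideal.pow_mem_pow hx 2
      rw [hsq, Ideal.mem_bot] at h2'
      exact hM.isPrime.mem_of_pow_mem 2 (by rw [h2']; exact M.zero_mem)
    exact (hmax.eq_of_le hM.ne_top hle).symm
  have hloc : IsLocalRing (MvPolynomial ι A ⧸ I) :=
    IsLocalRing.of_unique_max_ideal ⟨𝔫, hmax, huniq⟩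
  exact ⟨hloc, (@IsLocalRing.eq_maximalIdeal _ _ hloc 𝔫 hmax).symm⟩

end Local

end Groth.Agent.Lib.Helper5.PPolyLocal
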