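import Groth.Agent.Lib.Helper5.EisenE
import Mathlib

set_option autoImplicit false
set_option linter.unusedSectionVars false
universe u v

open IsLocalRing

namespace Groth.Agent.Lib.Helper5.SepQuot

variable {A : Type u} [CommRing A]

/-- `G` is monic of degree `p` and congruent to `X ^ p - f` modulo `p`. -/
structure IsPType (p : ℕ) (G : Polynomial A) (f : A) : Prop where
  monic : G.Monic
  natDegree_eq : G.natDegree = p
  exists_eq : ∃ H : Polynomial A, G = Polynomial.X ^ p - Polynomial.C f + Polynomial.C (p : A) * H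

theorem IsPType.exists_aeval_eq {p : ℕ} {G : Polynomial A} {f : A} (h : IsPType p G f)
    {E : Type v} [CommRing E] [Algebra A E] (x : E) :
    ∃ y : E, Polynomial.aeval x G = x ^ p - algebraMap A E f + (p : E) * y := by
  obtain ⟨H, hH⟩ := h.exists_eq
  refine ⟨Polynomial.aeval x H, ?_⟩
  rw [hH]
  simp only [map_add, map_sub, map_mul, map_pow, Polynomial.aeval_X, Polynomial.aeval_C,
    map_natCast]

theorem IsPType.exists_eval₂_eq {p : ℕ} {G : Polynomial A} {f : A} (h : IsPType p G f)
    {E : Type v} [CommRing E] (φ : A →+* E) (x : E) :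
    ∃ y : E, Polynomial.eval₂ φ x G = x ^ p - φ f + (p : E) * y := by
  obtain ⟨H, hH⟩ := h.exists_eq
  refine ⟨Polynomial.eval₂ φ x H, ?_⟩
  rw [hH]
  simp only [Polynomial.eval₂_add, Polynomial.eval₂_sub, Polynomial.eval₂_mul,
    Polynomial.eval₂_pow, Polynomial.eval₂_X, Polynomial.eval₂_C, map_natCast,
    Polynomial.eval₂_natCast]

variable {r : ℕ} (G : Fin r → Polynomial A)

section LiftRingHom

variable {E : Type v} [CommRing E] (φ : A →+* E) (e : Fin r → E)
  (he : ∀ i, Polynomial.eval₂ φ (e i) (G i) = 0)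

/-- ring maps out of the quotient, over a ring map out of the base. -/
noncomputable def liftRingHom : Q G →+* E :=
  Ideal.Quotient.lift (sepIdeal G) (MvPolynomial.eval₂Hom φ e) (by
    intro a ha
    have hle : sepIdeal G ≤ RingHom.ker (MvPolynomial.eval₂Hom φ e) := by
      unfold sepIdeal
      rw [Ideal.span_le]
      rintro _ ⟨i, rfl⟩
      change (MvPolynomial.eval₂Hom φ e) (sepPoly G i) = 0
      unfold sepPoly
      rw [Polynomial.aeval_def, Polynomial.hom_eval₂]
      have h1 : (MvPolynomial.eval₂Hom φ e).comp (algebraMap A (MvPolynomial (Fin r) A)) = φ := by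
        ext a
        simp
      rw [h1, MvPolynomial.eval₂Hom_X']
      exact he i
    exact hle ha)

theorem liftRingHom_algebraMap (a : A) : liftRingHom G φ e he (algebraMap A (Q G) a) = φ a := by
  change liftRingHom G φ e he (Ideal.Quotient.mk _ (MvPolynomial.C a)) = φ a
  unfold liftRingHom
  rw [Ideal.Quotient.lift_mk, MvPolynomial.eval₂Hom_C]

theorem liftRingHom_t (i : Fin r) : liftRingHom G φ e he (t G i) = e i := by
  unfold t liftRingHom
  rw [Ideal.Quotient.lift_mk, MvPolynomial.eval₂Hom_X']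

end LiftRingHom

variable {G}

theorem natCast_mem_map [IsLocalRing A] (p : ℕ) (hpm : (p : A) ∈ maximalIdeal A) :
    (p : Q G) ∈ (maximalIdeal A).map (algebraMap A (Q G)) := by
  have h1 : (p : Q G) = algebraMap A (Q G) (p : A) := (map_natCast _ p).symm
  rw [h1]
  exact Ideal.mem_map_of_mem _ hpm

theorem map_le_of_isMaximal [IsLocalRing A] (hG : ∀ i, (G i).Monic) (N : Ideal (Q G))
    [hN : N.IsMaximal] : (maximalIdeal A).map (algebraMap A (Q G)) ≤ N := by
  have hint := isIntegral G hG
  have h1 : (N.comap (algebraMap A (Q G))).IsMaximal :=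
    Ideal.isMaximal_comap_of_isIntegral_of_isMaximal N
  have h2 : N.comap (algebraMap A (Q G)) = maximalIdeal A := eq_maximalIdeal h1
  rw [← h2]
  exact Ideal.map_comap_le

/-- every element has its `p`-th power congruent to a constant modulo the maximal ideal of the
base. -/
theorem exists_pow_sub_mem [IsLocalRing A] (p : ℕ) [hp : Fact p.Prime]
    (hpm : (p : A) ∈ maximalIdeal A) (f : Fin r → A) (h : ∀ i, IsPType p (G i) (f i))
    (b : Q G) : ∃ a : A, b ^ p - algebraMap A (Q G) a ∈ (maximalIdeal A).map (algebraMap A (Q G)) := by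
  have hpI := natCast_mem_map (G := G) p hpm
  have hb : b ∈ Algebra.adjoin A (Set.range (t G)) := by
    rw [adjoin_t]
    exact Algebra.mem_top
  induction hb using Algebra.adjoin_induction with
  | mem x hx =>
    obtain ⟨i, rfl⟩ := hx
    obtain ⟨y, hy⟩ := (h i).exists_aeval_eq (t G i)
    rw [aeval_t] at hy
    refine ⟨f i, ?_⟩
    have h1 : t G i ^ p - algebraMap A (Q G) (f i) = - ((p : Q G) * y) := by
      rw [eq_neg_iff_add_eq_zero]
      exact hy.symm
    rw [h1]
    exact (Ideal.neg_mem_iff _).mpr (Ideal.mul_mem_right _ _ hpI)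
  | algebraMap a =>
    refine ⟨a ^ p, ?_⟩
    rw [map_pow, sub_self]
    exact Ideal.zero_mem _
  | add x y _ _ hx hy =>
    obtain ⟨a, ha⟩ := hx
    obtain ⟨a', ha'⟩ := hy
    obtain ⟨w, hw⟩ := exists_add_pow_prime_eq hp.out x y
    refine ⟨a + a', ?_⟩
    have h1 : (x + y) ^ p - algebraMap A (Q G) (a + a') =
        (x ^ p - algebraMap A (Q G) a) + (y ^ p - algebraMap A (Q G) a') +
          (p : Q G) * (x * y * w) := by
      rw [hw, map_add]
      ring
    rw [h1]
    exact Ideal.add_mem _ (Ideal.add_mem _ ha ha') (Ideal.mul_mem_right _ _ hpI)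
  | mul x y _ _ hx hy =>
    obtain ⟨a, ha⟩ := hx
    obtain ⟨a', ha'⟩ := hy
    refine ⟨a * a', ?_⟩
    have h1 : (x * y) ^ p - algebraMap A (Q G) (a * a') =
        (x ^ p - algebraMap A (Q G) a) * y ^ p +
          algebraMap A (Q G) a * (y ^ p - algebraMap A (Q G) a') := by
      rw [map_mul]
      ring
    rw [h1]
    exact Ideal.add_mem _ (Ideal.mul_mem_right _ _ ha) (Ideal.mul_mem_left _ _ ha')

theorem pow_mem_of_not_isUnit [IsLocalRing A] (p : ℕ) [hp : Fact p.Prime]
    (hpm : (p : A) ∈ maximalIdeal A) (f : Fin r → A) (h : ∀ i, IsPType p (G i) (f i))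
    (b : Q G) (hb : ¬ IsUnit b) : b ^ p ∈ (maximalIdeal A).map (algebraMap A (Q G)) := by
  obtain ⟨a, ha⟩ := exists_pow_sub_mem p hpm f h b
  by_cases hau : IsUnit a
  · exfalso
    apply hb
    have hbp : ¬ IsUnit (b ^ p) := by
      rw [isUnit_pow_iff hp.out.ne_zero]
      exact hb
    obtain ⟨N, hN, hbN⟩ := exists_max_ideal_of_mem_nonunits hbp
    have h1 := map_le_of_isMaximal (fun i => (h i).monic) N ha
    have h2 : algebraMap A (Q G) a ∈ N := by
      have := N.sub_mem hbN h1
      rwa [sub_sub_cancel] at this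
    exact absurd (N.eq_top_of_isUnit_mem h2 (hau.map _)) hN.ne_top
  · have ham : a ∈ maximalIdeal A := (mem_maximalIdeal a).mpr hau
    have := Ideal.add_mem _ ha (Ideal.mem_map_of_mem (algebraMap A (Q G)) ham)
    rwa [sub_add_cancel] at this

/-- the quotient by polynomials of this type over a local domain is local. -/
theorem isLocalRing_of_isPType [IsLocalRing A] [IsDomain A] (p : ℕ) [hp : Fact p.Prime]
    (hpm : (p : A) ∈ maximalIdeal A) (f : Fin r → A) (h : ∀ i, IsPType p (G i) (f i)) :
    IsLocalRing (Q G) := by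
  have hinj : Function.Injective (algebraMap A (Q G)) :=
    algebraMap_injective G (fun i => (h i).monic) (fun i => by
      rw [(h i).natDegree_eq]
      exact hp.out.ne_zero)
  have hnt : Nontrivial (Q G) := hinj.nontrivial
  have hpI := natCast_mem_map (G := G) p hpm
  apply IsLocalRing.of_nonunits_add
  intro b b' hb hb'
  have h1 := pow_mem_of_not_isUnit p hpm f h b hb
  have h2 := pow_mem_of_not_isUnit p hpm f h b' hb'
  obtain ⟨w, hw⟩ := exists_add_pow_prime_eq hp.out b b'
  have h3 : (b + b') ^ p ∈ (maximalIdeal A).map (algebraMap A (Q G)) := by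
    rw [hw, mul_assoc, mul_assoc]
    exact Ideal.add_mem _ (Ideal.add_mem _ h1 h2) (Ideal.mul_mem_right _ _ hpI)
  intro hu
  obtain ⟨N, hN⟩ := Ideal.exists_maximal (Q G)
  have h4 := map_le_of_isMaximal (fun i => (h i).monic) N h3
  exact hN.ne_top (N.eq_top_of_isUnit_mem h4 (hu.pow p))

/-- the maximal ideal consists of the elements whose `p`-th power lies in the extended ideal. -/
theorem mem_maximalIdeal_iff_pow_mem [IsLocalRing A] [IsLocalRing (Q G)] (p : ℕ) [hp : Fact p.Prime]
    (hpm : (p : A) ∈ maximalIdeal A) (f : Fin r → A) (h : ∀ i, IsPType p (G i) (f i)) (b : Q G) :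
    b ∈ maximalIdeal (Q G) ↔ b ^ p ∈ (maximalIdeal A).map (algebraMap A (Q G)) := by
  constructor
  · intro hb
    exact pow_mem_of_not_isUnit p hpm f h b ((mem_maximalIdeal b).mp hb)
  · intro hb
    have := map_le_of_isMaximal (fun i => (h i).monic) (maximalIdeal (Q G)) hb
    exact (maximalIdeal.isMaximal (Q G)).isPrime.mem_of_pow_mem _ this

end Groth.Agent.Lib.Helper5.SepQuot
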