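import Groth.Agent.Lib.Helper5.PTypeA
import Mathlib

set_option autoImplicit false
set_option linter.unusedSectionVars false
universe u v

open IsLocalRing

namespace Groth.Agent.Lib.Helper5.SepQuot

variable {A : Type u} [CommRing A]

section One

variable (g : Polynomial A)

/-- the one-variable quotient maps to the ring obtained by adjoining a root. -/
noncomputable def toAdj : Q (fun _ : Fin 1 => g) →ₐ[A] AdjoinRoot g :=
  lift _ (fun _ => AdjoinRoot.root g) (fun _ => by
    rw [AdjoinRoot.aeval_eq, AdjoinRoot.mk_self])

/-- the ring obtained by adjoining a root maps to the one-variable quotient. -/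
noncomputable def ofAdj : AdjoinRoot g →ₐ[A] Q (fun _ : Fin 1 => g) :=
  AdjoinRoot.liftAlgHom g (Algebra.ofId A _) (t (fun _ : Fin 1 => g) 0) (by
    have := aeval_t (fun _ : Fin 1 => g) 0
    rw [Polynomial.aeval_def] at this
    exact this)

/-- the one-variable quotient is the ring obtained by adjoining a root. -/
noncomputable def adjEquiv : Q (fun _ : Fin 1 => g) ≃ₐ[A] AdjoinRoot g :=
  AlgEquiv.ofAlgHom (toAdj g) (ofAdj g)
    (by
      apply AdjoinRoot.algHom_ext
      rw [AlgHom.comp_apply, AlgHom.id_apply]
      unfold ofAdj toAdj
      rw [AdjoinRoot.liftAlgHom_root, lift_t])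
    (by
      apply algHom_ext
      intro i
      rw [AlgHom.comp_apply, AlgHom.id_apply]
      unfold ofAdj toAdj
      rw [lift_t, AdjoinRoot.liftAlgHom_root]
      congr 1
      exact (Subsingleton.elim _ _))

/-- translating the variable. -/
noncomputable def shiftHom (a : A) :
    AdjoinRoot g →ₐ[A] AdjoinRoot (g.comp (Polynomial.X + Polynomial.C a)) :=
  AdjoinRoot.liftAlgHom g (Algebra.ofId A _)
    (AdjoinRoot.root (g.comp (Polynomial.X + Polynomial.C a)) + algebraMap A _ a) (by
    have h1 : Polynomial.aeval (AdjoinRoot.root (g.comp (Polynomial.X + Polynomial.C a)))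
        (g.comp (Polynomial.X + Polynomial.C a)) = 0 := by
      rw [AdjoinRoot.aeval_eq, AdjoinRoot.mk_self]
    rw [Polynomial.aeval_comp] at h1
    simp only [map_add, Polynomial.aeval_X, Polynomial.aeval_C] at h1
    rw [Polynomial.aeval_def] at h1
    exact h1)

theorem shiftHom_root (a : A) : shiftHom g a (AdjoinRoot.root g) =
    AdjoinRoot.root (g.comp (Polynomial.X + Polynomial.C a)) + algebraMap A _ a :=
  AdjoinRoot.liftAlgHom_root _ _ _ _

theorem comp_comp_shift (a : A) :
    (g.comp (Polynomial.X + Polynomial.C a)).comp (Polynomial.X + Polynomial.C (-a)) = g := by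
  rw [Polynomial.comp_assoc]
  simp

/-- translating the variable back. -/
noncomputable def unshiftHom (a : A) :
    AdjoinRoot (g.comp (Polynomial.X + Polynomial.C a)) →ₐ[A] AdjoinRoot g :=
  AdjoinRoot.liftAlgHom _ (Algebra.ofId A _)
    (AdjoinRoot.root g + algebraMap A _ (-a)) (by
    have h1 : Polynomial.aeval (AdjoinRoot.root g)
        ((g.comp (Polynomial.X + Polynomial.C a)).comp (Polynomial.X + Polynomial.C (-a))) = 0 := by
      rw [comp_comp_shift, AdjoinRoot.aeval_eq, AdjoinRoot.mk_self]
    rw [Polynomial.aeval_comp] at h1
    simp only [map_add, Polynomial.aeval_X, Polynomial.aeval_C] at h1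
    rw [Polynomial.aeval_def] at h1
    exact h1)

theorem unshiftHom_root (a : A) : unshiftHom g a (AdjoinRoot.root _) =
    AdjoinRoot.root g + algebraMap A _ (-a) :=
  AdjoinRoot.liftAlgHom_root _ _ _ _

/-- translating the variable is an isomorphism. -/
noncomputable def shiftEquiv (a : A) :
    AdjoinRoot g ≃ₐ[A] AdjoinRoot (g.comp (Polynomial.X + Polynomial.C a)) :=
  AlgEquiv.ofAlgHom (shiftHom g a) (unshiftHom g a)
    (by
      apply AdjoinRoot.algHom_ext
      rw [AlgHom.comp_apply, AlgHom.id_apply, unshiftHom_root, map_add, shiftHom_root,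
        AlgHom.commutes, map_neg]
      ring)
    (by
      apply AdjoinRoot.algHom_ext
      rw [AlgHom.comp_apply, AlgHom.id_apply, shiftHom_root, map_add, unshiftHom_root,
        AlgHom.commutes, map_neg]
      ring)

end One

section Tower

variable {r : ℕ} (G : Fin (r + 1) → Polynomial A)

/-- the lower variables. -/
abbrev tail : Fin r → Polynomial A := fun i => G i.succ

/-- the top polynomial over the quotient in the lower variables. -/
noncomputable abbrev topPoly : Polynomial (Q (tail G)) := (G 0).map (algebraMap A (Q (tail G)))

/-- the quotient in the lower variables maps to the full quotient. -/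
noncomputable def tailHom : Q (tail G) →+* Q G :=
  liftRingHom (tail G) (algebraMap A (Q G)) (fun j => t G j.succ) (fun j => by
    have := aeval_t G j.succ
    rw [Polynomial.aeval_def] at this
    exact this)

theorem tailHom_algebraMap (a : A) :
    tailHom G (algebraMap A (Q (tail G)) a) = algebraMap A (Q G) a :=
  liftRingHom_algebraMap _ _ _ _ a

theorem tailHom_t (j : Fin r) : tailHom G (t (tail G) j) = t G j.succ :=
  liftRingHom_t _ _ _ _ j

/-- from the full quotient to the tower. -/
noncomputable def towerHom : Q G →+* AdjoinRoot (topPoly G) :=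
  liftRingHom G ((AdjoinRoot.of (topPoly G)).comp (algebraMap A (Q (tail G))))
    (Fin.cons (AdjoinRoot.root (topPoly G)) (fun j => AdjoinRoot.of (topPoly G) (t (tail G) j)))
    (by
      intro i
      induction i using Fin.cases with
      | zero =>
        rw [Fin.cons_zero, ← Polynomial.eval₂_map]
        exact AdjoinRoot.eval₂_root _
      | succ j =>
        rw [Fin.cons_succ, ← Polynomial.hom_eval₂]
        have := aeval_t (tail G) j
        rw [Polynomial.aeval_def] at this
        rw [this, map_zero])

theorem towerHom_algebraMap (a : A) : towerHom G (algebraMap A (Q G) a) =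
    AdjoinRoot.of (topPoly G) (algebraMap A (Q (tail G)) a) :=
  liftRingHom_algebraMap _ _ _ _ a

theorem towerHom_zero : towerHom G (t G 0) = AdjoinRoot.root (topPoly G) := by
  unfold towerHom
  rw [liftRingHom_t, Fin.cons_zero]

theorem towerHom_succ (j : Fin r) :
    towerHom G (t G j.succ) = AdjoinRoot.of (topPoly G) (t (tail G) j) := by
  unfold towerHom
  rw [liftRingHom_t, Fin.cons_succ]

/-- from the tower to the full quotient. -/
noncomputable def towerInv : AdjoinRoot (topPoly G) →+* Q G :=
  AdjoinRoot.lift (tailHom G) (t G 0) (by
    rw [Polynomial.eval₂_map]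
    have h1 : (tailHom G).comp (algebraMap A (Q (tail G))) = algebraMap A (Q G) := by
      ext a
      exact tailHom_algebraMap G a
    rw [h1]
    have := aeval_t G 0
    rw [Polynomial.aeval_def] at this
    exact this)

theorem towerInv_of (b : Q (tail G)) : towerInv G (AdjoinRoot.of (topPoly G) b) = tailHom G b :=
  AdjoinRoot.lift_of _

theorem towerInv_root : towerInv G (AdjoinRoot.root (topPoly G)) = t G 0 :=
  AdjoinRoot.lift_root _

/-- the full quotient is a one-step extension of the quotient in the lower variables. -/
noncomputable def towerEquiv : Q G ≃+* AdjoinRoot (topPoly G) :=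
  RingEquiv.ofRingHom (towerHom G) (towerInv G)
    (by
      apply AdjoinRoot.ringHom_ext
      · apply ringHom_ext
        · intro a
          simp only [RingHom.comp_apply, RingHom.id_apply]
          rw [towerInv_of, tailHom_algebraMap, towerHom_algebraMap]
        · intro j
          simp only [RingHom.comp_apply, RingHom.id_apply]
          rw [towerInv_of, tailHom_t, towerHom_succ]
      · simp only [RingHom.comp_apply, RingHom.id_apply]
        rw [towerInv_root, towerHom_zero])
    (by
      apply ringHom_ext
      · intro a
        simp only [RingHom.comp_apply, RingHom.id_apply]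
        rw [towerHom_algebraMap, towerInv_of, tailHom_algebraMap]
      · intro i
        simp only [RingHom.comp_apply, RingHom.id_apply]
        induction i using Fin.cases with
        | zero => rw [towerHom_zero, towerInv_root]
        | succ j => rw [towerHom_succ, towerInv_of, tailHom_t])

end Tower

end Groth.Agent.Lib.Helper5.SepQuot
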