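import Groth.Agent.Lib.Helper5.PTypeB
import Groth.Agent.Lib.Helper5.PBasisDer
import Mathlib

set_option autoImplicit false
set_option linter.unusedSectionVars false
universe u v

open IsLocalRing Groth.Agent.Lib.Helper5.PBasis

namespace Groth.Agent.Lib.Helper5.SepQuot

attribute [local instance] opMod isCentralScalar_opMod
attribute [local instance 2000] Ring.toIntAlgebra

section Kill

variable {B : Type u} [CommRing B] {M : Type v} [AddCommGroup M] [Module B M] (p : ℕ)
  (hpM : ∀ m : M, (p : B) • m = 0)

include hpM in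
theorem der_pow_eq_zero (D : Derivation ℤ B M) (b : B) : D (b ^ p) = 0 := by
  rw [Derivation.leibniz_pow, ← Nat.cast_smul_eq_nsmul B, hpM]

include hpM in
theorem der_natCast_mul_eq_zero (D : Derivation ℤ B M) (b : B) : D ((p : B) * b) = 0 := by
  rw [Derivation.leibniz, hpM, Derivation.map_natCast, smul_zero, add_zero]

include hpM in
/-- a derivation into a module killed by `p` vanishes on `f` as soon as a polynomial of the
given type with respect to `f` has a root. -/
theorem der_eq_zero_of_isPType {A : Type u} [CommRing A] [Algebra A B] {g : Polynomial A} {f : A}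
    (h : IsPType p g f) (x : B) (hx : Polynomial.aeval x g = 0) (D : Derivation ℤ B M) :
    D (algebraMap A B f) = 0 := by
  obtain ⟨y, hy⟩ := h.exists_aeval_eq x
  rw [hx] at hy
  have h1 : algebraMap A B f = x ^ p + (p : B) * y := by
    have := hy.symm
    rw [sub_add_eq_add_sub, sub_eq_zero] at this
    exact this.symm
  rw [h1, map_add, der_pow_eq_zero p hpM, der_natCast_mul_eq_zero p hpM, add_zero]

end Kill

section Extend

variable {A : Type u} [CommRing A] {r : ℕ} {G : Fin r → Polynomial A}
  {M : Type v} [AddCommGroup M] [Module (Q G) M] [Module A M]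

/-- a derivation of the base which kills the `f i` extends to the quotient. -/
theorem exists_derivation_extends (p : ℕ) (f : Fin r → A) (h : ∀ i, IsPType p (G i) (f i))
    (hsm : ∀ (a : A) (m : M), algebraMap A (Q G) a • m = a • m)
    (hpM : ∀ m : M, (p : Q G) • m = 0) (D : Derivation ℤ A M) (hD : ∀ i, D (f i) = 0) :
    ∃ D' : Derivation ℤ (Q G) M, ∀ a, D' (algebraMap A (Q G) a) = D a := by
  have hd₀ : ∀ a a' : A, (D : A →+ M) (a * a') =
      algebraMap A (Q G) a • (D : A →+ M) a' + algebraMap A (Q G) a' • (D : A →+ M) a := by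
    intro a a'
    change D (a * a') = algebraMap A (Q G) a • D a' + algebraMap A (Q G) a' • D a
    rw [Derivation.leibniz, hsm, hsm]
  let φ : A →+* TrivSqZeroExt (Q G) M := baseHom (D : A →+ M) hd₀
  have hφ : ∀ a, φ a = TrivSqZeroExt.inl (algebraMap A (Q G) a) + TrivSqZeroExt.inr (D a) :=
    fun _ => rfl
  have hfstφ : (TrivSqZeroExt.fstHom (Q G) (Q G) M : TrivSqZeroExt (Q G) M →+* Q G).comp φ =
      algebraMap A (Q G) := by
    ext a
    change (φ a).fst = _
    rw [hφ]
    simp
  have he : ∀ i, Polynomial.eval₂ φ (TrivSqZeroExt.inl (t G i)) (G i) = 0 := by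
    intro i
    apply TrivSqZeroExt.ext
    · have h1 := Polynomial.hom_eval₂ (G i) φ
        (TrivSqZeroExt.fstHom (Q G) (Q G) M : TrivSqZeroExt (Q G) M →+* Q G)
        (TrivSqZeroExt.inl (t G i))
      change (TrivSqZeroExt.fstHom (Q G) (Q G) M : TrivSqZeroExt (Q G) M →+* Q G)
        (Polynomial.eval₂ φ (TrivSqZeroExt.inl (t G i)) (G i)) = 0
      rw [h1, hfstφ]
      have h2 := aeval_t G i
      rw [Polynomial.aeval_def] at h2
      change Polynomial.eval₂ (algebraMap A (Q G)) (t G i) (G i) = 0
      exact h2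
    · obtain ⟨y, hy⟩ := (h i).exists_eval₂_eq φ (TrivSqZeroExt.inl (t G i))
      rw [hy, hφ]
      simp only [TrivSqZeroExt.snd_add, TrivSqZeroExt.snd_sub, TrivSqZeroExt.snd_mul,
        TrivSqZeroExt.snd_inl, TrivSqZeroExt.snd_inr, TrivSqZeroExt.snd_natCast,
        TrivSqZeroExt.fst_natCast, TrivSqZeroExt.snd_zero, TrivSqZeroExt.inl_pow, hD i, hpM,
        smul_zero, add_zero, sub_zero]
  let v : Q G →+* TrivSqZeroExt (Q G) M := liftRingHom G φ (fun i => TrivSqZeroExt.inl (t G i)) he
  have hv : ∀ b, (v b).fst = b := by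
    have h1 : (TrivSqZeroExt.fstHom (Q G) (Q G) M : TrivSqZeroExt (Q G) M →+* Q G).comp v =
        RingHom.id (Q G) := by
      apply ringHom_ext
      · intro a
        simp only [RingHom.comp_apply, RingHom.id_apply]
        rw [liftRingHom_algebraMap]
        exact RingHom.congr_fun hfstφ a
      · intro i
        simp only [RingHom.comp_apply, RingHom.id_apply]
        rw [liftRingHom_t]
        rfl
    intro b
    exact RingHom.congr_fun h1 b
  refine ⟨derOfHom v hv, fun a => ?_⟩
  change (liftRingHom G φ _ he (algebraMap A (Q G) a)).snd = D a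
  rw [liftRingHom_algebraMap, hφ]
  simp

end Extend

end Groth.Agent.Lib.Helper5.SepQuot
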