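import Groth.Agent.Lib.Helper5.GeomRegInjA
import Mathlib

set_option autoImplicit false
set_option linter.unusedSectionVars false
universe u

open TensorProduct IsLocalRing KaehlerDifferential

namespace Groth.Agent.Lib.Helper5.PTypeDer

attribute [local instance] ULift.algebra'

variable (R : Type u) [CommRing R] [IsLocalRing R]

/-- an element of the square of the maximal ideal is killed by every derivation into the residue
field. -/
theorem der_eq_zero_of_mem_sq (D : Derivation ℤ R (ResidueField R)) (h : R)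
    (h2 : h ∈ maximalIdeal R ^ 2) : D h = 0 := by
  rw [pow_two] at h2
  refine Submodule.mul_induction_on h2 ?_ ?_
  · intro x hx y hy
    rw [Derivation.leibniz]
    have h1 : ∀ (z : R) (w : ResidueField R), z ∈ maximalIdeal R → z • w = 0 := by
      intro z w hz
      rw [Algebra.smul_def]
      have : algebraMap R (ResidueField R) z = 0 := (residue_eq_zero_iff z).mpr hz
      rw [this, zero_mul]
    rw [h1 x _ hx, h1 y _ hy, add_zero]
  · intro x y hx hy
    rw [map_add, hx, hy, add_zero]

/-- if `p` lies in the square of the maximal ideal, an element of the maximal ideal outside its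
square is moved by a derivation with values in the residue field. -/
theorem exists_derivation_ne_zero (p : ℕ) [hp : Fact p.Prime] [CharP (ResidueField R) p]
    (hpm : (p : R) ∈ maximalIdeal R ^ 2) (f : R) (hf : f ∈ maximalIdeal R)
    (hf2 : f ∉ maximalIdeal R ^ 2) :
    ∃ D : Derivation ℤ R (ResidueField R), D f ≠ 0 := by
  let K := ResidueField R
  have hperf : PerfectField (ULift.{u} (ZMod p)) := PerfectField.ofFinite
  let _ : Algebra (ZMod p) K := ZMod.algebra K p
  have hgr : Algebra.IsGeometricallyReduced (ULift.{u} (ZMod p)) K :=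
    Groth.Agent.Lib.Helper5.CohenEqui.geomReduced_of_perfect _ _
  have hsm : Algebra.FormallySmooth (ULift.{u} (ZMod p)) K :=
    Groth.Agent.Lib.Helper5.SepSmooth.formallySmooth_of_geomReduced
  have hsurj : Function.Surjective (algebraMap R K) := residue_surjective
  let φ := IsScalarTower.toAlgHom ℤ R K
  have hker : RingHom.ker φ.toRingHom = maximalIdeal R := ker_residue (R := R)
  let π := φ.kerSquareLift
  have hπ : Function.Surjective π := by
    intro y
    obtain ⟨r, rfl⟩ := hsurj y
    exact ⟨Ideal.Quotient.mk _ r, rfl⟩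
  have hnt : Nontrivial (R ⧸ RingHom.ker φ.toRingHom ^ 2) := by
    rw [Ideal.Quotient.nontrivial_iff, hker]
    intro htop
    have : (1 : R) ∈ maximalIdeal R := Ideal.pow_le_self two_ne_zero (htop ▸ Submodule.mem_top)
    exact (maximalIdeal.isMaximal R).ne_top ((Ideal.eq_top_iff_one _).mpr this)
  have hp0 : ((p : ℕ) : R ⧸ RingHom.ker φ.toRingHom ^ 2) = 0 := by
    have h1 : ((p : ℕ) : R ⧸ RingHom.ker φ.toRingHom ^ 2) =
        Ideal.Quotient.mk (RingHom.ker φ.toRingHom ^ 2) (p : R) := (map_natCast _ p).symm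
    rw [h1, Ideal.Quotient.eq_zero_iff_mem, hker]
    exact hpm
  have hchar : CharP (R ⧸ RingHom.ker φ.toRingHom ^ 2) p :=
    (CharP.charP_iff_prime_eq_zero hp.out).mpr hp0
  let _ : Algebra (ZMod p) (R ⧸ RingHom.ker φ.toRingHom ^ 2) := ZMod.algebra _ p
  let π' : (R ⧸ RingHom.ker φ.toRingHom ^ 2) →ₐ[(ULift.{u} (ZMod p))] K :=
    { (π : (R ⧸ RingHom.ker φ.toRingHom ^ 2) →+* K) with
      commutes' := by
        intro x
        have h1 : ((π : (R ⧸ RingHom.ker φ.toRingHom ^ 2) →+* K).comp
            (algebraMap (ZMod p) (R ⧸ RingHom.ker φ.toRingHom ^ 2))) =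
            algebraMap (ZMod p) K := Subsingleton.elim _ _
        exact RingHom.congr_fun h1 x.down }
  have hπ' : Function.Surjective π' := hπ
  have hnil : IsNilpotent (RingHom.ker (π' : (R ⧸ RingHom.ker φ.toRingHom ^ 2) →+* K)) := by
    refine ⟨2, ?_⟩
    have := AlgHom.ker_kerSquareLift φ
    have h2 : RingHom.ker (π' : (R ⧸ RingHom.ker φ.toRingHom ^ 2) →+* K) =
        (RingHom.ker φ.toRingHom).cotangentIdeal := this
    rw [h2]
    exact Ideal.cotangentIdeal_square _
  let g' := Algebra.FormallySmooth.liftOfSurjective (AlgHom.id (ULift.{u} (ZMod p)) K) π' hπ' hnil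
  have hg' : π'.comp g' = AlgHom.id (ULift.{u} (ZMod p)) K :=
    Algebra.FormallySmooth.comp_liftOfSurjective _ _ hπ' hnil
  let g : K →ₐ[ℤ] (R ⧸ RingHom.ker φ.toRingHom ^ 2) := (g' : K →+* _).toIntAlgHom
  have hg : π.comp g = AlgHom.id ℤ K := by
    ext y
    exact AlgHom.congr_fun hg' y
  obtain ⟨l, hl⟩ := (retractionKerCotangentToTensorEquivSection (R := ℤ) hsurj).symm ⟨g, hg⟩
  have hfker : f ∈ RingHom.ker (algebraMap R K) := by
    rw [RingHom.mem_ker]
    exact (residue_eq_zero_iff f).mpr hf
  have hne : kerCotangentToTensor ℤ R K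
      ((RingHom.ker (algebraMap R K)).toCotangent ⟨f, hfker⟩) ≠ 0 := by
    intro h0
    have h1 := LinearMap.congr_fun hl
      ((RingHom.ker (algebraMap R K)).toCotangent ⟨f, hfker⟩)
    rw [LinearMap.comp_apply, h0, map_zero, LinearMap.id_apply] at h1
    have h2 := (Ideal.toCotangent_eq_zero _ _).mp h1.symm
    apply hf2
    have hk : RingHom.ker (algebraMap R K) = maximalIdeal R := ker_residue (R := R)
    have h3 : f ∈ RingHom.ker (algebraMap R K) ^ 2 := h2
    rwa [hk] at h3
  rw [kerCotangentToTensor_toCotangent] at hne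
  obtain ⟨ψ, hψ⟩ : ∃ ψ : Module.Dual K (K ⊗[R] Ω[R⁄ℤ]),
      ψ ((1 : K) ⊗ₜ[R] KaehlerDifferential.D ℤ R f) ≠ 0 := by
    by_contra hcon
    push Not at hcon
    exact hne ((Module.forall_dual_apply_eq_zero_iff K _).mp hcon)
  refine ⟨((ψ.restrictScalars R).comp (TensorProduct.mk R K Ω[R⁄ℤ] 1)).compDer
    (KaehlerDifferential.D ℤ R), ?_⟩
  exact hψ

end Groth.Agent.Lib.Helper5.PTypeDer
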