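import Mathlib

set_option autoImplicit false
set_option linter.unusedSectionVars false
universe u v w

open TensorProduct KaehlerDifferential

namespace Groth.Agent.Lib.Helper5.PTypeDer

variable {A : Type u} [CommRing A] {r : ℕ} (f : Fin r → A)

/-- independent differentials admit a dual family of derivations. -/
theorem exists_dual_derivations {L : Type v} [Field L] [Algebra A L]
    (hli : LinearIndependent L (fun i => (1 : L) ⊗ₜ[A] KaehlerDifferential.D ℤ A (f i))) :
    ∃ E : Fin r → Derivation ℤ A L, ∀ i j, E j (f i) = if i = j then 1 else 0 := by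
  obtain ⟨g, hg⟩ := LinearMap.exists_extend hli.repr
  refine ⟨fun j => (((Finsupp.lapply j ∘ₗ g).restrictScalars A).comp
    (TensorProduct.mk A L Ω[A⁄ℤ] 1)).compDer (KaehlerDifferential.D ℤ A), fun i j => ?_⟩
  change (g ((1 : L) ⊗ₜ[A] KaehlerDifferential.D ℤ A (f i))) j = _
  have hmem : (1 : L) ⊗ₜ[A] KaehlerDifferential.D ℤ A (f i) ∈
      Submodule.span L (Set.range (fun i => (1 : L) ⊗ₜ[A] KaehlerDifferential.D ℤ A (f i))) :=
    Submodule.subset_span ⟨i, rfl⟩
  have h1 := LinearMap.congr_fun hg ⟨_, hmem⟩
  rw [LinearMap.comp_apply] at h1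
  change g ((1 : L) ⊗ₜ[A] KaehlerDifferential.D ℤ A (f i)) = _ at h1
  rw [h1, hli.repr_eq_single i ⟨_, hmem⟩ rfl, Finsupp.single_apply]

/-- derivations into an extension field whose values on the `f i` form a matrix with trivial
kernel force the differentials of the `f i` to be independent. -/
theorem linearIndependent_of_derivations {K : Type v} [Field K] [Algebra A K]
    {L : Type w} [Field L] [Algebra A L] [Algebra K L] [IsScalarTower A K L]
    (E : Fin r → Derivation ℤ A L)
    (hE : ∀ c : Fin r → L, (∀ j, ∑ i, c i * E j (f i) = 0) → ∀ i, c i = 0) :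
    LinearIndependent K (fun i => (1 : K) ⊗ₜ[A] KaehlerDifferential.D ℤ A (f i)) := by
  rw [Fintype.linearIndependent_iff]
  intro c hc i
  have h1 : ∀ j, ∑ i, algebraMap K L (c i) * E j (f i) = 0 := by
    intro j
    have h2 := congrArg ((E j).liftKaehlerDifferential.liftBaseChange K) hc
    rw [map_sum, map_zero] at h2
    rw [← h2]
    refine Finset.sum_congr rfl (fun i _ => ?_)
    rw [map_smul, LinearMap.liftBaseChange_tmul, one_smul,
      Derivation.liftKaehlerDifferential_comp_D, Algebra.smul_def]
  have h3 := hE (fun i => algebraMap K L (c i)) h1 i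
  exact (map_eq_zero (algebraMap K L)).mp h3

/-- a dual family of derivations forces the differentials to be independent. -/
theorem linearIndependent_of_dual {K : Type v} [Field K] [Algebra A K]
    {L : Type w} [Field L] [Algebra A L] [Algebra K L] [IsScalarTower A K L]
    (E : Fin r → Derivation ℤ A L) (hE : ∀ i j, E j (f i) = if i = j then 1 else 0) :
    LinearIndependent K (fun i => (1 : K) ⊗ₜ[A] KaehlerDifferential.D ℤ A (f i)) := by
  apply linearIndependent_of_derivations f E
  intro c hc j
  have := hc j
  simp only [hE, mul_ite, mul_one, mul_zero, Finset.sum_ite_eq', Finset.mem_univ, if_true] at this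
  exact this

/-- a triangular family of derivations forces the differentials to be independent. -/
theorem linearIndependent_of_triangular {K : Type v} [Field K] [Algebra A K]
    {L : Type w} [Field L] [Algebra A L] [Algebra K L] [IsScalarTower A K L]
    (f : Fin (r + 1) → A) (E₀ : Derivation ℤ A L) (E : Fin r → Derivation ℤ A L)
    (h00 : E₀ (f 0) ≠ 0) (h0 : ∀ i : Fin r, E₀ (f i.succ) = 0)
    (hE : ∀ i j : Fin r, E j (f i.succ) = if i = j then 1 else 0) :
    LinearIndependent K (fun i => (1 : K) ⊗ₜ[A] KaehlerDifferential.D ℤ A (f i)) := by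
  apply linearIndependent_of_derivations f (Fin.cons E₀ E : Fin (r + 1) → Derivation ℤ A L)
  intro c hc
  have hc0 : c 0 = 0 := by
    have := hc 0
    rw [Fin.sum_univ_succ] at this
    simp only [Fin.cons_zero, h0, mul_zero, Finset.sum_const_zero, add_zero] at this
    exact (mul_eq_zero.mp this).resolve_right h00
  intro i
  induction i using Fin.cases with
  | zero => exact hc0
  | succ j =>
    have := hc j.succ
    rw [Fin.sum_univ_succ, hc0, zero_mul, zero_add] at this
    simp only [Fin.cons_succ, hE, mul_ite, mul_one, mul_zero, Finset.sum_ite_eq', Finset.mem_univ,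
      if_true] at this
    exact this

end Groth.Agent.Lib.Helper5.PTypeDer
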