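import Groth.Agent.Lib.Helper5.PTypeC
import Groth.Agent.Lib.Helper5.PTypeD
import Mathlib

set_option autoImplicit false
set_option linter.unusedSectionVars false
universe u v

open IsLocalRing

namespace Groth.Agent.Lib.Helper5.SepQuot

variable {A : Type u} [CommRing A]

theorem IsPType.map {p : ℕ} {G : Polynomial A} {f : A} (h : IsPType p G f)
    {B : Type v} [CommRing B] [Nontrivial B] (φ : A →+* B) : IsPType p (G.map φ) (φ f) where
  monic := h.monic.map φ
  natDegree_eq := by rw [h.monic.natDegree_map, h.natDegree_eq]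
  exists_eq := by
    obtain ⟨H, hH⟩ := h.exists_eq
    refine ⟨H.map φ, ?_⟩
    rw [hH]
    simp only [Polynomial.map_add, Polynomial.map_sub, Polynomial.map_mul, Polynomial.map_pow,
      Polynomial.map_X, Polynomial.map_C, map_natCast, Polynomial.map_natCast]

theorem IsPType.comp_shift [IsDomain A] {p : ℕ} (hp : p.Prime) {G : Polynomial A} {f : A}
    (h : IsPType p G f) (γ : A) :
    IsPType p (G.comp (Polynomial.X + Polynomial.C γ)) (f - γ ^ p) where
  monic := h.monic.comp_X_add_C γ
  natDegree_eq := by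
    rw [Polynomial.natDegree_comp, Polynomial.natDegree_X_add_C, mul_one, h.natDegree_eq]
  exists_eq := by
    obtain ⟨H, hH⟩ := h.exists_eq
    obtain ⟨w, hw⟩ := exists_add_pow_prime_eq hp (Polynomial.X : Polynomial A) (Polynomial.C γ)
    refine ⟨Polynomial.X * Polynomial.C γ * w + H.comp (Polynomial.X + Polynomial.C γ), ?_⟩
    rw [hH]
    simp only [Polynomial.add_comp, Polynomial.sub_comp, Polynomial.mul_comp, Polynomial.pow_comp,
      Polynomial.X_comp, Polynomial.C_comp, hw, map_sub, map_pow, map_natCast,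
      Polynomial.natCast_comp]
    ring

theorem IsPType.coeff_of_lt {p : ℕ} {G : Polynomial A} {f : A} (h : IsPType p G f) :
    ∃ H : Polynomial A, ∀ k, k < p →
      G.coeff k = - (if k = 0 then f else 0) + (p : A) * H.coeff k := by
  obtain ⟨H, hH⟩ := h.exists_eq
  refine ⟨H, fun k hk => ?_⟩
  rw [hH, Polynomial.coeff_add, Polynomial.coeff_sub, Polynomial.coeff_X_pow, if_neg hk.ne,
    Polynomial.coeff_C, Polynomial.coeff_C_mul, zero_sub]

theorem isEis_of_isPType [IsLocalRing A] {r : ℕ} {G : Fin r → Polynomial A} {p : ℕ}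
    (hp : p.Prime) (hpm : (p : A) ∈ maximalIdeal A) (f : Fin r → A)
    (h : ∀ i, IsPType p (G i) (f i)) (hf : ∀ i, f i ∈ maximalIdeal A) : IsEis G where
  monic := fun i => (h i).monic
  low := by
    intro i k hk
    rw [(h i).natDegree_eq] at hk
    obtain ⟨H, hH⟩ := (h i).coeff_of_lt
    rw [hH k hk]
    refine Ideal.add_mem _ ((Ideal.neg_mem_iff _).mpr ?_) (Ideal.mul_mem_right _ _ hpm)
    split_ifs
    · exact hf i
    · exact Ideal.zero_mem _
  pos := by
    intro i
    rw [(h i).natDegree_eq]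
    exact hp.pos

theorem IsPType.coeff_zero_add_mem {p : ℕ} (hp : p.Prime) {G : Polynomial A} {f : A}
    (h : IsPType p G f) (I : Ideal A) (hpI : (p : A) ∈ I) : G.coeff 0 + f ∈ I := by
  obtain ⟨H, hH⟩ := h.coeff_of_lt
  rw [hH 0 hp.pos, if_pos rfl]
  have : -f + (p : A) * H.coeff 0 + f = (p : A) * H.coeff 0 := by ring
  rw [this]
  exact Ideal.mul_mem_right _ _ hpI

end Groth.Agent.Lib.Helper5.SepQuot
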