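import Groth.Agent.Lib.Helper5.PTypeF
import Groth.Agent.Lib.Helper5.SepCartier
import Groth.Agent.Lib.Helper5.RegCompletion
import Mathlib

set_option autoImplicit false
set_option linter.unusedSectionVars false
universe u

open IsLocalRing

namespace Groth.Agent.Lib.Helper5.SepQuot

variable (R : Type u) [CommRing R] [IsRegularLocalRing R] (p : ℕ) [hp : Fact p.Prime]
  [CharP (ResidueField R) p]

theorem natCast_mem_maximalIdeal : (p : R) ∈ maximalIdeal R := by
  rw [← residue_eq_zero_iff, map_natCast]
  exact CharP.cast_eq_zero (ResidueField R) p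

theorem natCast_quot_eq_zero : ((p : ℕ) : R ⧸ maximalIdeal R) = 0 := by
  rw [← map_natCast (Ideal.Quotient.mk (maximalIdeal R))]
  exact Ideal.Quotient.eq_zero_iff_mem.mpr (natCast_mem_maximalIdeal R p)

theorem natCast_poly_eq_zero {S : Type u} [CommRing S] (p : ℕ) (h : (p : S) = 0) :
    (p : Polynomial S) = 0 := by
  rw [← map_natCast (Polynomial.C : S →+* _), h, map_zero]

variable {R p}

theorem isLocalRing_adjoinRoot {g : Polynomial R} {f : R} (h : IsPType p g f) :
    IsLocalRing (AdjoinRoot g) := by
  have hdom : IsDomain R := Groth.Agent.Lib.helper19.isDomain_of_isRegularLocalRing R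
  have h1 : IsLocalRing (Q (fun _ : Fin 1 => g)) :=
    isLocalRing_of_isPType p (natCast_mem_maximalIdeal R p) (fun _ => f) (fun _ => h)
  exact (adjEquiv g).toRingEquiv.isLocalRing

/-- the Eisenstein case of the one-step criterion. -/
theorem regular_iff_of_mem (hp2 : (p : R) ∈ maximalIdeal R ^ 2) {g : Polynomial R} {f : R}
    (h : IsPType p g f) (hf : f ∈ maximalIdeal R) :
    IsRegularLocalRing (AdjoinRoot g) ↔ f ∉ maximalIdeal R ^ 2 := by
  have hE : IsEis (fun _ : Fin 1 => g) :=
    isEis_of_isPType hp.out (natCast_mem_maximalIdeal R p) (fun _ => f) (fun _ => h) (fun _ => hf)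
  have hsum : g.coeff 0 + f ∈ maximalIdeal R ^ 2 := h.coeff_zero_add_mem hp.out _ hp2
  have hiff : f ∉ maximalIdeal R ^ 2 ↔ g.coeff 0 ∉ maximalIdeal R ^ 2 := by
    constructor
    · intro h1 h2
      apply h1
      have := Ideal.sub_mem _ hsum h2
      rwa [add_sub_cancel_left] at this
    · intro h1 h2
      apply h1
      have := Ideal.sub_mem _ hsum h2
      rwa [add_sub_cancel_right] at this
  have hli : LinearIndependent (ResidueField R)
      (fun i => (maximalIdeal R).toCotangent (hE.cx i)) ↔ g.coeff 0 ∉ maximalIdeal R ^ 2 := by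
    rw [linearIndependent_unique_iff, ne_eq, Ideal.toCotangent_eq_zero]
    rfl
  rw [hiff, ← hli]
  constructor
  · intro hreg
    have hreg' : IsRegularLocalRing (Q (fun _ : Fin 1 => g)) :=
      IsRegularLocalRing.of_ringEquiv (adjEquiv g).symm.toRingEquiv
    have hloc : IsLocalRing (Q (fun _ : Fin 1 => g)) := inferInstance
    exact hE.linearIndependent_of_regular (fun _ => by
      rw [h.natDegree_eq]
      exact hp.out.two_le) hreg'
  · intro hl
    obtain ⟨_, hreg⟩ := hE.regular_of_linearIndependent hl
    exact IsRegularLocalRing.of_ringEquiv (adjEquiv g).toRingEquiv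

/-- the residually inseparable case of the one-step criterion. -/
theorem regular_of_not_pow {g : Polynomial R} {f : R} (h : IsPType p g f)
    (hc : ∀ e : ResidueField R, e ^ p ≠ residue R f) : IsRegularLocalRing (AdjoinRoot g) := by
  have hdom : IsDomain R := Groth.Agent.Lib.helper19.isDomain_of_isRegularLocalRing R
  have hloc : IsLocalRing (AdjoinRoot g) := isLocalRing_adjoinRoot h
  have hfin : Module.Finite R (AdjoinRoot g) := h.monic.finite_adjoinRoot
  have hfree : Module.Free R (AdjoinRoot g) := h.monic.free_adjoinRoot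
  have hN : IsNoetherianRing (AdjoinRoot g) := IsNoetherianRing.of_finite R _
  have hinj : Function.Injective (algebraMap R (AdjoinRoot g)) := by
    rw [AdjoinRoot.algebraMap_eq]
    apply AdjoinRoot.of.injective_of_degree_ne_zero
    rw [Polynomial.degree_eq_natDegree h.monic.ne_zero, h.natDegree_eq]
    exact_mod_cast hp.out.ne_zero
  have hfaith : FaithfulSMul R (AdjoinRoot g) := (faithfulSMul_iff_algebraMap_injective R _).mpr hinj
  have hlh : IsLocalHom (algebraMap R (AdjoinRoot g)) := inferInstance
  -- the reduction of `g`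
  have hgmap : g.map (Ideal.Quotient.mk (maximalIdeal R)) =
      Polynomial.X ^ p - Polynomial.C (Ideal.Quotient.mk (maximalIdeal R) f) := by
    obtain ⟨H, hH⟩ := h.exists_eq
    rw [hH]
    simp only [Polynomial.map_add, Polynomial.map_sub, Polynomial.map_mul, Polynomial.map_pow,
      Polynomial.map_X, Polynomial.map_C, map_natCast, Polynomial.map_natCast]
    rw [natCast_poly_eq_zero p (natCast_quot_eq_zero R p), zero_mul, add_zero]
  have hirr : Irreducible (g.map (Ideal.Quotient.mk (maximalIdeal R))) := by
    rw [hgmap]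
    have := X_pow_sub_C_irreducible_of_prime (K := ResidueField R) hp.out hc
    exact this
  have hpir : IsPrincipalIdealRing (Polynomial (R ⧸ maximalIdeal R)) :=
    inferInstanceAs (IsPrincipalIdealRing (Polynomial (ResidueField R)))
  have hmax : (Ideal.span ({g.map (Ideal.Quotient.mk (maximalIdeal R))} :
      Set (Polynomial (R ⧸ maximalIdeal R)))).IsMaximal :=
    PrincipalIdealRing.isMaximal_of_irreducible hirr
  have hfield : IsField (Polynomial (R ⧸ maximalIdeal R) ⧸
      Ideal.span ({g.map (Ideal.Quotient.mk (maximalIdeal R))} :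
        Set (Polynomial (R ⧸ maximalIdeal R)))) :=
    (Ideal.Quotient.maximal_ideal_iff_isField_quotient _).mp hmax
  have hfield' : IsField (AdjoinRoot g ⧸ (maximalIdeal R).map (AdjoinRoot.of g)) :=
    (AdjoinRoot.quotAdjoinRootEquivQuotPolynomialQuot (maximalIdeal R) g).toMulEquiv.isField hfield
  have hmax' : ((maximalIdeal R).map (AdjoinRoot.of g)).IsMaximal :=
    (Ideal.Quotient.maximal_ideal_iff_isField_quotient _).mpr hfield'
  have hmap : (maximalIdeal R).map (algebraMap R (AdjoinRoot g)) = maximalIdeal (AdjoinRoot g) := by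
    rw [AdjoinRoot.algebraMap_eq]
    exact eq_maximalIdeal hmax'
  exact Groth.Agent.Lib.Helper5.RegCompletion.regular_of_flat_map_eq hmap

/-- the one-step criterion: adjoining a root of a polynomial of the given type with respect to
`f` to a regular local ring gives a regular local ring exactly when `f` is moved by a derivation
with values in the residue field. -/
theorem one_step (hp2 : (p : R) ∈ maximalIdeal R ^ 2) {g : Polynomial R} {f : R}
    (h : IsPType p g f) :
    IsRegularLocalRing (AdjoinRoot g) ↔ ∃ D : Derivation ℤ R (ResidueField R), D f ≠ 0 := by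
  have hdom : IsDomain R := Groth.Agent.Lib.helper19.isDomain_of_isRegularLocalRing R
  by_cases hc : ∀ e : ResidueField R, e ^ p ≠ residue R f
  · refine iff_of_true (regular_of_not_pow h hc) ?_
    obtain ⟨δ, hδ⟩ := Groth.Agent.Lib.Helper5.SepCartier.exists_derivation_ne_zero p hp.out
      (residue R f) hc
    exact ⟨δ.compAlgebraMap R, hδ⟩
  · push Not at hc
    obtain ⟨e, he⟩ := hc
    obtain ⟨γ, rfl⟩ := residue_surjective e
    have hf' : f - γ ^ p ∈ maximalIdeal R := by
      rw [← residue_eq_zero_iff, map_sub, map_pow, he, sub_self]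
    have h' := h.comp_shift hp.out γ
    have hD : ∀ D : Derivation ℤ R (ResidueField R), D (f - γ ^ p) = D f := by
      intro D
      have hpM : ∀ m : ResidueField R, (p : R) • m = 0 := by
        intro m
        rw [Algebra.smul_def, map_natCast, CharP.cast_eq_zero (ResidueField R) p, zero_mul]
      rw [map_sub, der_pow_eq_zero p hpM, sub_zero]
    have hiff : IsRegularLocalRing (AdjoinRoot g) ↔
        IsRegularLocalRing (AdjoinRoot (g.comp (Polynomial.X + Polynomial.C γ))) :=
      ⟨fun _ => IsRegularLocalRing.of_ringEquiv (shiftEquiv g γ).toRingEquiv,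
        fun _ => IsRegularLocalRing.of_ringEquiv (shiftEquiv g γ).symm.toRingEquiv⟩
    rw [hiff, regular_iff_of_mem hp2 h' hf']
    constructor
    · intro h2
      obtain ⟨D, hD'⟩ := Groth.Agent.Lib.Helper5.PTypeDer.exists_derivation_ne_zero R p hp2 _ hf' h2
      exact ⟨D, by rwa [hD] at hD'⟩
    · rintro ⟨D, hD'⟩ h2
      apply hD'
      rw [← hD]
      exact Groth.Agent.Lib.Helper5.PTypeDer.der_eq_zero_of_mem_sq R D _ h2

end Groth.Agent.Lib.Helper5.SepQuot
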