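import Groth.Agent.Lib.Helper5.PTypeG
import Groth.Agent.Lib.Helper5.PTypeE
import Groth.Agent.Lib.Helper5.SerreFlat
import Mathlib

set_option autoImplicit false
set_option linter.unusedSectionVars false
universe u

open IsLocalRing TensorProduct

namespace Groth.Agent.Lib.Helper5.SepQuot

attribute [local instance 2000] Ring.toIntAlgebra

section Setup

variable {A : Type u} [CommRing A] [IsRegularLocalRing A] (p : ℕ) [hp : Fact p.Prime]
  [CharP (ResidueField A) p] {r : ℕ} {G : Fin r → Polynomial A} (f : Fin r → A)
  (h : ∀ i, IsPType p (G i) (f i))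

include h in
theorem isNoetherianRing_of_isPType : IsNoetherianRing (Q G) := by
  have := finite G (fun i => (h i).monic)
  exact IsNoetherianRing.of_finite A (Q G)

include h in
theorem isLocalHom_of_isPType [IsLocalRing (Q G)] : IsLocalHom (algebraMap A (Q G)) := by
  have hdom : IsDomain A := Groth.Agent.Lib.helper19.isDomain_of_isRegularLocalRing A
  have hint := isIntegral G (fun i => (h i).monic)
  have hinj : Function.Injective (algebraMap A (Q G)) :=
    algebraMap_injective G (fun i => (h i).monic) (fun i => by
      rw [(h i).natDegree_eq]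
      exact hp.out.ne_zero)
  have hfaith : FaithfulSMul A (Q G) := (faithfulSMul_iff_algebraMap_injective A _).mpr hinj
  infer_instance

include h in
theorem natCast_mem_sq_of_isPType [IsLocalRing (Q G)] (hp2 : (p : A) ∈ maximalIdeal A ^ 2) :
    (p : Q G) ∈ maximalIdeal (Q G) ^ 2 := by
  have h1 : (p : Q G) = algebraMap A (Q G) (p : A) := (map_natCast _ p).symm
  rw [h1]
  have h2 : algebraMap A (Q G) (p : A) ∈ ((maximalIdeal A) ^ 2).map (algebraMap A (Q G)) :=
    Ideal.mem_map_of_mem _ hp2
  rw [Ideal.map_pow] at h2
  exact Ideal.pow_right_mono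
    (map_le_of_isMaximal (fun i => (h i).monic) (maximalIdeal (Q G))) 2 h2

include h in
theorem charP_residueField_of_isPType [IsLocalRing (Q G)] : CharP (ResidueField (Q G)) p := by
  apply (CharP.charP_iff_prime_eq_zero hp.out).mpr
  have h1 : (p : Q G) ∈ maximalIdeal (Q G) :=
    map_le_of_isMaximal (fun i => (h i).monic) (maximalIdeal (Q G))
      (natCast_mem_map (G := G) p (natCast_mem_maximalIdeal A p))
  rw [← map_natCast (residue (Q G))]
  exact (residue_eq_zero_iff _).mpr h1

end Setup

section Descent

variable {B : Type u} [CommRing B] [IsLocalRing B] [IsNoetherianRing B]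

/-- regularity descends from a one-step extension. -/
theorem regular_of_adjoinRoot {g : Polynomial B} (hg : g.Monic)
    (hreg : IsRegularLocalRing (AdjoinRoot g)) : IsRegularLocalRing B := by
  have hfin : Module.Finite B (AdjoinRoot g) := hg.finite_adjoinRoot
  have hfree : Module.Free B (AdjoinRoot g) := hg.free_adjoinRoot
  have hlh : IsLocalHom (algebraMap B (AdjoinRoot g)) := by
    constructor
    intro b hb
    by_contra hnu
    have hbm : b ∈ maximalIdeal B := (mem_maximalIdeal b).mpr hnu
    have h1 : ((maximalIdeal (AdjoinRoot g)).comap (algebraMap B (AdjoinRoot g))).IsMaximal :=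
      Ideal.isMaximal_comap_of_isIntegral_of_isMaximal _
    have h2 : (maximalIdeal (AdjoinRoot g)).comap (algebraMap B (AdjoinRoot g)) = maximalIdeal B :=
      eq_maximalIdeal h1
    have h3 : algebraMap B (AdjoinRoot g) b ∈ maximalIdeal (AdjoinRoot g) := by
      rw [← h2] at hbm
      exact hbm
    exact (mem_maximalIdeal _).mp h3 hb
  exact Groth.Agent.Lib.Helper5.SerreLoc.regular_of_flat B (AdjoinRoot g)

end Descent

section Main

variable (p : ℕ) [hp : Fact p.Prime]

/-- the criterion for the quotient by a family of polynomials of the given type. -/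
theorem regular_iff_linearIndependent : ∀ (r : ℕ) (A : Type u) [CommRing A] [IsRegularLocalRing A]
    [CharP (ResidueField A) p] (_ : (p : A) ∈ maximalIdeal A ^ 2) (G : Fin r → Polynomial A)
    (f : Fin r → A) (_ : ∀ i, IsPType p (G i) (f i)),
    IsRegularLocalRing (Q G) ↔ LinearIndependent (ResidueField A)
      (fun i => (1 : ResidueField A) ⊗ₜ[A] KaehlerDifferential.D ℤ A (f i)) := by
  intro r
  induction r with
  | zero =>
    intro A _ _ _ hp2 G f h
    have hE : IsEis G := ⟨fun i => i.elim0, fun i => i.elim0, fun i => i.elim0⟩
    obtain ⟨_, hreg⟩ := hE.regular_of_linearIndependent linearIndependent_empty_type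
    exact iff_of_true hreg linearIndependent_empty_type
  | succ r ih =>
    intro A _ _ _ hp2 G f h
    have hdom : IsDomain A := Groth.Agent.Lib.helper19.isDomain_of_isRegularLocalRing A
    have hpm := natCast_mem_maximalIdeal A p
    have ht : ∀ i : Fin r, IsPType p (tail G i) (f i.succ) := fun i => h i.succ
    have hloc' : IsLocalRing (Q (tail G)) :=
      isLocalRing_of_isPType p hpm (fun i => f i.succ) ht
    have hN' : IsNoetherianRing (Q (tail G)) := isNoetherianRing_of_isPType p _ ht
    have hlh : IsLocalHom (algebraMap A (Q (tail G))) := isLocalHom_of_isPType p _ ht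
    have hp2' : (p : Q (tail G)) ∈ maximalIdeal (Q (tail G)) ^ 2 :=
      natCast_mem_sq_of_isPType p _ ht hp2
    have hchar' : CharP (ResidueField (Q (tail G))) p := charP_residueField_of_isPType p _ ht
    have hpL : ∀ m : ResidueField (Q (tail G)), (p : Q (tail G)) • m = 0 := by
      intro m
      rw [Algebra.smul_def, map_natCast, CharP.cast_eq_zero (ResidueField (Q (tail G))) p, zero_mul]
    have hnt : Nontrivial (Q (tail G)) := inferInstance
    have hg : IsPType p (topPoly G) (algebraMap A (Q (tail G)) (f 0)) := (h 0).map _
    have IH := ih A hp2 (tail G) (fun i => f i.succ) ht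
    have hequiv : IsRegularLocalRing (Q G) ↔ IsRegularLocalRing (AdjoinRoot (topPoly G)) :=
      ⟨fun _ => IsRegularLocalRing.of_ringEquiv (towerEquiv G),
        fun _ => IsRegularLocalRing.of_ringEquiv (towerEquiv G).symm⟩
    rw [hequiv]
    constructor
    · intro hreg
      have hreg' : IsRegularLocalRing (Q (tail G)) := regular_of_adjoinRoot hg.monic hreg
      obtain ⟨E, hE⟩ := Groth.Agent.Lib.Helper5.PTypeDer.exists_dual_derivations _ (IH.mp hreg')
      obtain ⟨D₀, hD₀⟩ := (one_step hp2' hg).mp hreg
      refine Groth.Agent.Lib.Helper5.PTypeDer.linearIndependent_of_triangular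
        (L := ResidueField (Q (tail G))) f (D₀.compAlgebraMap A)
        (fun j => (IsScalarTower.toAlgHom A (ResidueField A)
          (ResidueField (Q (tail G)))).toLinearMap.compDer (E j)) hD₀ ?_ ?_
      · intro i
        exact der_eq_zero_of_isPType p hpL (ht i) (t (tail G) i) (aeval_t (tail G) i) D₀
      · intro i j
        change algebraMap (ResidueField A) (ResidueField (Q (tail G))) (E j (f i.succ)) = _
        rw [hE]
        split_ifs
        · exact map_one _
        · exact map_zero _
    · intro hli
      obtain ⟨E, hE⟩ := Groth.Agent.Lib.Helper5.PTypeDer.exists_dual_derivations f hli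
      have hreg' : IsRegularLocalRing (Q (tail G)) := by
        apply IH.mpr
        refine Groth.Agent.Lib.Helper5.PTypeDer.linearIndependent_of_dual
          (L := ResidueField A) (fun i => f i.succ) (fun j => E j.succ) ?_
        intro i j
        rw [hE]
        simp only [Fin.succ_inj]
      let E₀ : Derivation ℤ A (ResidueField (Q (tail G))) :=
        (IsScalarTower.toAlgHom A (ResidueField A)
          (ResidueField (Q (tail G)))).toLinearMap.compDer (E 0)
      have hE₀ : ∀ a, E₀ a = algebraMap (ResidueField A) (ResidueField (Q (tail G))) (E 0 a) :=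
        fun _ => rfl
      obtain ⟨D', hD'⟩ := exists_derivation_extends p (fun i => f i.succ) ht
        (fun a m => algebraMap_smul (Q (tail G)) a m) hpL E₀ (by
        intro i
        rw [hE₀, hE, if_neg (Fin.succ_ne_zero i), map_zero])
      apply (one_step hp2' hg).mpr
      refine ⟨D', ?_⟩
      rw [hD', hE₀, hE, if_pos rfl, map_one]
      exact one_ne_zero

end Main

end Groth.Agent.Lib.Helper5.SepQuot
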