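import Groth.Agent.Lib.Helper5.PTypeH
import Mathlib

set_option autoImplicit false
set_option linter.unusedSectionVars false
universe u

open IsLocalRing

namespace Groth.Agent.Lib.Helper5.SepQuot

variable {A : Type u} [CommRing A] (p : ℕ) {r : ℕ} (c : Fin r → Fin p → A) (f : Fin r → A)

/-- the lower part of the polynomials. -/
noncomputable def pLow (i : Fin r) : Polynomial A :=
  Finset.univ.sum fun j : Fin p =>
    if (j : ℕ) = 0 then 0 else Polynomial.C (c i j) * Polynomial.X ^ (p - (j : ℕ))

/-- the one-variable polynomials `X ^ p + p ∑ c j X ^ (p - j) - f`. -/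
noncomputable def pPoly (i : Fin r) : Polynomial A :=
  Polynomial.X ^ p - Polynomial.C (f i) + Polynomial.C (p : A) * pLow p c i

theorem degree_pLow_lt [Nontrivial A] (i : Fin r) : (pLow p c i).degree < (p : WithBot ℕ) := by
  unfold pLow
  refine (Polynomial.degree_sum_le _ _).trans_lt ?_
  rcases Nat.eq_zero_or_pos p with h0 | hpos
  · subst h0
    rw [Finset.univ_eq_empty, Finset.sup_empty]
    exact WithBot.bot_lt_coe _
  rw [Finset.sup_lt_iff (WithBot.bot_lt_coe _)]
  intro j _
  split_ifs with hj
  · rw [Polynomial.degree_zero]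
    exact WithBot.bot_lt_coe _
  · refine (Polynomial.degree_C_mul_X_pow_le _ _).trans_lt ?_
    have : p - (j : ℕ) < p := by omega
    exact_mod_cast this

theorem degree_rest_lt [Nontrivial A] (i : Fin r) (hp : 0 < p) :
    (- Polynomial.C (f i) + Polynomial.C (p : A) * pLow p c i).degree < (p : WithBot ℕ) := by
  refine (Polynomial.degree_add_le _ _).trans_lt (max_lt ?_ ?_)
  · rw [Polynomial.degree_neg]
    exact Polynomial.degree_C_le.trans_lt (by exact_mod_cast hp)
  · refine lt_of_le_of_lt ?_ (degree_pLow_lt p c i)
    refine (Polynomial.degree_mul_le _ _).trans ?_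
    calc (Polynomial.C (p : A)).degree + (pLow p c i).degree
        ≤ 0 + (pLow p c i).degree := add_le_add Polynomial.degree_C_le le_rfl
      _ = (pLow p c i).degree := zero_add _

theorem pPoly_eq (i : Fin r) : pPoly p c f i =
    Polynomial.X ^ p + (- Polynomial.C (f i) + Polynomial.C (p : A) * pLow p c i) := by
  unfold pPoly
  ring

theorem pPoly_isPType [Nontrivial A] (hp : 0 < p) (i : Fin r) : IsPType p (pPoly p c f i) (f i) where
  monic := by
    rw [pPoly_eq]
    exact Polynomial.monic_X_pow_add (degree_rest_lt p c f i hp)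
  natDegree_eq := by
    rw [pPoly_eq]
    have h1 : (- Polynomial.C (f i) + Polynomial.C (p : A) * pLow p c i).degree <
        ((Polynomial.X : Polynomial A) ^ p).degree := by
      rw [Polynomial.degree_X_pow]
      exact degree_rest_lt p c f i hp
    have h2 : (Polynomial.X ^ p + (- Polynomial.C (f i) +
        Polynomial.C (p : A) * pLow p c i)).degree = (p : WithBot ℕ) := by
      rw [Polynomial.degree_add_eq_left_of_degree_lt h1, Polynomial.degree_X_pow]
    exact Polynomial.natDegree_eq_of_degree_eq_some h2
  exists_eq := ⟨pLow p c i, rfl⟩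

theorem sepPoly_pPoly (i : Fin r) :
    sepPoly (pPoly p c f) i = MvPolynomial.X i ^ p +
      (p : MvPolynomial (Fin r) A) * (Finset.univ.sum fun j : Fin p =>
        if (j : ℕ) = 0 then 0 else MvPolynomial.C (c i j) * MvPolynomial.X i ^ (p - (j : ℕ))) -
          MvPolynomial.C (f i) := by
  unfold sepPoly pPoly pLow
  simp only [map_add, map_sub, map_pow, Polynomial.aeval_X, map_sum, map_mul, Polynomial.aeval_C,
    map_natCast, apply_ite (Polynomial.aeval (MvPolynomial.X i : MvPolynomial (Fin r) A)), map_zero]
  have : ∀ a : A, algebraMap A (MvPolynomial (Fin r) A) a = MvPolynomial.C a := fun _ => rfl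
  simp only [this]
  ring

end Groth.Agent.Lib.Helper5.SepQuot
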