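import Mathlib

set_option autoImplicit false

namespace Groth.Agent.Lib.Helper5.PolyAdic

open MvPolynomial

section Key

theorem mul_sub_mul {A : Type*} [CommRing A] (a b a' b' : A) :
    a * b - a' * b' = a * (b - b') + (a - a') * b' := by ring

theorem add_sub_add {A : Type*} [CommRing A] (a b a' b' : A) :
    (a + b) - (a' + b') = (a - a') + (b - b') := by ring

variable {ι : Type*} {R : Type*} [CommRing R]

theorem mk_mem_map {N k : ℕ} {q : MvPolynomial ι R} (hq : q ∈ idealOfVars ι R ^ k) :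
    Ideal.Quotient.mk (idealOfVars ι R ^ N) q ∈
      (idealOfVars ι R ^ k).map (Ideal.Quotient.mk (idealOfVars ι R ^ N)) :=
  Ideal.mem_map_of_mem _ hq

theorem map_mono {N k l : ℕ} (h : k ≤ l) :
    (idealOfVars ι R ^ l).map (Ideal.Quotient.mk (idealOfVars ι R ^ N)) ≤
      (idealOfVars ι R ^ k).map (Ideal.Quotient.mk (idealOfVars ι R ^ N)) :=
  Ideal.map_mono (Ideal.pow_le_pow_right h)

theorem mul_mem_map {N k l m : ℕ} (hm : k + l = m)
    {a b : MvPolynomial ι R ⧸ idealOfVars ι R ^ N}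
    (ha : a ∈ (idealOfVars ι R ^ k).map (Ideal.Quotient.mk (idealOfVars ι R ^ N)))
    (hb : b ∈ (idealOfVars ι R ^ l).map (Ideal.Quotient.mk (idealOfVars ι R ^ N))) :
    a * b ∈ (idealOfVars ι R ^ m).map (Ideal.Quotient.mk (idealOfVars ι R ^ N)) := by
  subst hm
  rw [pow_add, Ideal.map_mul]
  exact Ideal.mul_mem_mul ha hb

variable (N : ℕ) (θ : MvPolynomial ι R →ₐ[R] MvPolynomial ι R ⧸ idealOfVars ι R ^ N)
  (hθ : ∀ i, θ (X i) - Ideal.Quotient.mk _ (X i) ∈
    (idealOfVars ι R ^ 2).map (Ideal.Quotient.mk (idealOfVars ι R ^ N)))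

include hθ

theorem theta_X_mem (i : ι) :
    θ (X i) ∈ (idealOfVars ι R ^ 1).map (Ideal.Quotient.mk (idealOfVars ι R ^ N)) := by
  have h1 := map_mono (N := N) (show 1 ≤ 2 by norm_num) (hθ i)
  have h2 : Ideal.Quotient.mk (idealOfVars ι R ^ N) (X i) ∈
      (idealOfVars ι R ^ 1).map (Ideal.Quotient.mk (idealOfVars ι R ^ N)) :=
    mk_mem_map (by rw [pow_one]; exact Ideal.subset_span ⟨i, rfl⟩)
  have := Ideal.add_mem _ h1 h2
  rwa [sub_add_cancel] at this

theorem key0 (r : MvPolynomial ι R) :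
    θ r - Ideal.Quotient.mk _ r ∈
      (idealOfVars ι R ^ 1).map (Ideal.Quotient.mk (idealOfVars ι R ^ N)) := by
  induction r using MvPolynomial.induction_on with
  | C a =>
    have : θ (C a) = Ideal.Quotient.mk _ (C a) := by
      rw [← MvPolynomial.algebraMap_eq, AlgHom.commutes]
      rfl
    rw [this, sub_self]
    exact Ideal.zero_mem _
  | add p q hp hq =>
    rw [map_add, map_add, add_sub_add]
    exact Ideal.add_mem _ hp hq
  | mul_X p i _ =>
    rw [map_mul, map_mul]
    refine Ideal.sub_mem _ (Ideal.mul_mem_left _ _ (theta_X_mem N θ hθ i))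
      (Ideal.mul_mem_left _ _ (mk_mem_map ?_))
    rw [pow_one]; exact Ideal.subset_span ⟨i, rfl⟩

theorem key1 [Fintype ι] (b : MvPolynomial ι R) (hb : b ∈ idealOfVars ι R) :
    θ b - Ideal.Quotient.mk _ b ∈
      (idealOfVars ι R ^ 2).map (Ideal.Quotient.mk (idealOfVars ι R ^ N)) := by
  obtain ⟨c, rfl⟩ := Ideal.mem_span_range_iff_exists_fun.1 hb
  rw [map_sum, map_sum, ← Finset.sum_sub_distrib]
  refine Ideal.sum_mem _ (fun i _ => ?_)
  rw [map_mul, map_mul, mul_sub_mul]
  refine Ideal.add_mem _ (Ideal.mul_mem_left _ _ (hθ i)) ?_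
  have h1 := key0 N θ hθ (c i)
  have h2 : Ideal.Quotient.mk (idealOfVars ι R ^ N) (X i) ∈
      (idealOfVars ι R ^ 1).map (Ideal.Quotient.mk (idealOfVars ι R ^ N)) :=
    mk_mem_map (by rw [pow_one]; exact Ideal.subset_span ⟨i, rfl⟩)
  exact mul_mem_map (by norm_num) h1 h2

theorem key [Fintype ι] (k : ℕ) : ∀ q : MvPolynomial ι R, q ∈ idealOfVars ι R ^ k →
    θ q - Ideal.Quotient.mk _ q ∈
      (idealOfVars ι R ^ (k + 1)).map (Ideal.Quotient.mk (idealOfVars ι R ^ N)) := by
  induction k with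
  | zero =>
    intro q _
    exact key0 N θ hθ q
  | succ k ih =>
    intro q hq
    rw [pow_succ] at hq
    induction hq using Submodule.mul_induction_on' with
    | mem_mul_mem a ha b hb =>
      rw [map_mul, map_mul, mul_sub_mul]
      have ha1 := ih a ha
      have ha2 : θ a ∈ (idealOfVars ι R ^ k).map (Ideal.Quotient.mk (idealOfVars ι R ^ N)) := by
        have := Ideal.add_mem _ (map_mono (N := N) (Nat.le_succ k) ha1) (mk_mem_map (N := N) ha)
        rwa [sub_add_cancel] at this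
      have hb1 := key1 N θ hθ b hb
      have hb2 : Ideal.Quotient.mk (idealOfVars ι R ^ N) b ∈
          (idealOfVars ι R ^ 1).map (Ideal.Quotient.mk (idealOfVars ι R ^ N)) :=
        mk_mem_map (by rw [pow_one]; exact hb)
      exact Ideal.add_mem _ (mul_mem_map (by omega) ha2 hb1) (mul_mem_map (by omega) ha1 hb2)
    | add x _ y _ hx hy =>
      rw [map_add, map_add, add_sub_add]
      exact Ideal.add_mem _ hx hy

end Key

end Groth.Agent.Lib.Helper5.PolyAdic
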