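import Mathlib

set_option autoImplicit false
universe u

open TensorProduct

namespace Groth.Agent.Lib.Helper5.ProjSpread

variable {C : Type u} [CommRing C]

/-- `X` is a retract of `Y`. -/
def IsRetract (X Y : Type u) [AddCommGroup X] [Module C X] [AddCommGroup Y] [Module C Y] : Prop :=
  ∃ (a : X →ₗ[C] Y) (b : Y →ₗ[C] X), b ∘ₗ a = LinearMap.id

theorem projective_baseChange_of_isRetract {X Y : Type u} [AddCommGroup X] [Module C X]
    [AddCommGroup Y] [Module C Y] (h : IsRetract (C := C) X Y) (C' : Type u) [CommRing C']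
    [Algebra C C'] (hY : Module.Projective C' (C' ⊗[C] Y)) : Module.Projective C' (C' ⊗[C] X) := by
  obtain ⟨a, b, hab⟩ := h
  refine Module.Projective.of_split (a.baseChange C') (b.baseChange C') ?_
  rw [← LinearMap.baseChange_comp, hab, LinearMap.baseChange_id]

theorem projective_baseChange_prod {X G : Type u} [AddCommGroup X] [Module C X]
    [AddCommGroup G] [Module C G] [Module.Projective C G] (C' : Type u) [CommRing C']
    [Algebra C C'] (hX : Module.Projective C' (C' ⊗[C] X)) :
    Module.Projective C' (C' ⊗[C] (X × G)) :=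
  Module.Projective.of_equiv (TensorProduct.prodRight C C' C' X G).symm

theorem exists_finitePresentation_aux [IsNoetherianRing C] {M F G : Type u} [AddCommGroup M]
    [Module C M] [AddCommGroup F] [Module C F] [AddCommGroup G] [Module C G]
    [Module.Projective C G] (u : M →ₗ[C] F) (i : F →ₗ[C] G) (q : G →ₗ[C] F)
    (hqi : ∀ x, q (i x) = x) (G₀ : Submodule C G) [Module.Finite C G₀] (res : G →ₗ[C] G₀)
    (hres' : ∀ g : G₀, res (g : G) = g) (hrange : LinearMap.range (i ∘ₗ u) ≤ G₀) :
    ∃ (N₀ : Type u) (_ : AddCommGroup N₀) (_ : Module C N₀), Module.FinitePresentation C N₀ ∧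
      ∀ (C' : Type u) [CommRing C'] [Algebra C C'],
        Module.Projective C' (C' ⊗[C] (F ⧸ LinearMap.range u)) ↔
          Module.Projective C' (C' ⊗[C] N₀) := by
  let w : M →ₗ[C] G := i ∘ₗ u
  let w₀ : M →ₗ[C] G₀ := res ∘ₗ w
  have hw₀ : ∀ m, ((w₀ m : G₀) : G) = w m := by
    intro m
    have h1 : w m ∈ G₀ := hrange ⟨m, rfl⟩
    have h2 := hres' ⟨w m, h1⟩
    change ((res (w m) : G₀) : G) = w m
    rw [show res (w m) = (⟨w m, h1⟩ : G₀) from h2]
  let N₀ := G₀ ⧸ LinearMap.range w₀
  have hfp : Module.FinitePresentation C N₀ := Module.finitePresentation_of_finite C N₀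
  refine ⟨N₀, inferInstance, inferInstance, hfp, ?_⟩
  let Ω := F ⧸ LinearMap.range u
  let Ω' := G ⧸ LinearMap.range w
  let a₁ : Ω →ₗ[C] Ω' := (LinearMap.range u).mapQ (LinearMap.range w) i (by
    rintro _ ⟨m, rfl⟩
    exact ⟨m, rfl⟩)
  let b₁ : Ω' →ₗ[C] Ω := (LinearMap.range w).mapQ (LinearMap.range u) q (by
    rintro _ ⟨m, rfl⟩
    exact ⟨m, (hqi (u m)).symm⟩)
  have hR1 : IsRetract (C := C) Ω Ω' := by
    refine ⟨a₁, b₁, ?_⟩
    apply LinearMap.ext
    intro x
    obtain ⟨x, rfl⟩ := Submodule.Quotient.mk_surjective _ x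
    change b₁ (a₁ (Submodule.Quotient.mk x)) = Submodule.Quotient.mk x
    rw [Submodule.mapQ_apply, Submodule.mapQ_apply, hqi]
  have hR2 : IsRetract (C := C) Ω' (Ω × G) := by
    let a₂ : Ω' →ₗ[C] Ω × G := (LinearMap.range w).liftQ
      (LinearMap.prod ((LinearMap.range u).mkQ ∘ₗ q) (LinearMap.id - i ∘ₗ q)) (by
        rintro _ ⟨m, rfl⟩
        rw [LinearMap.mem_ker]
        have h1 : q (w m) = u m := hqi (u m)
        change ((LinearMap.range u).mkQ (q (w m)), w m - i (q (w m))) = 0
        refine Prod.ext ?_ ?_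
        · change (LinearMap.range u).mkQ (q (w m)) = 0
          rw [h1, Submodule.mkQ_apply, Submodule.Quotient.mk_eq_zero]
          exact ⟨m, rfl⟩
        · change w m - i (q (w m)) = 0
          rw [h1]
          exact sub_self _)
    let b₂ : Ω × G →ₗ[C] Ω' := LinearMap.coprod a₁ (LinearMap.range w).mkQ
    refine ⟨a₂, b₂, ?_⟩
    apply LinearMap.ext
    intro x
    obtain ⟨g, rfl⟩ := Submodule.Quotient.mk_surjective _ x
    change b₂ (a₂ (Submodule.Quotient.mk g)) = Submodule.Quotient.mk g
    have h1 : a₂ (Submodule.Quotient.mk g) =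
        ((LinearMap.range u).mkQ (q g), g - i (q g)) := rfl
    rw [h1, LinearMap.coprod_apply]
    change a₁ (Submodule.Quotient.mk (q g)) + Submodule.Quotient.mk (g - i (q g)) = _
    rw [Submodule.mapQ_apply, ← Submodule.Quotient.mk_add]
    congr 1
    abel
  let a₃ : N₀ →ₗ[C] Ω' := (LinearMap.range w₀).mapQ (LinearMap.range w) G₀.subtype (by
    rintro _ ⟨m, rfl⟩
    exact ⟨m, (hw₀ m).symm⟩)
  let b₃ : Ω' →ₗ[C] N₀ := (LinearMap.range w).mapQ (LinearMap.range w₀) res (by
    rintro _ ⟨m, rfl⟩
    exact ⟨m, rfl⟩)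
  have hR3 : IsRetract (C := C) N₀ Ω' := by
    refine ⟨a₃, b₃, ?_⟩
    apply LinearMap.ext
    intro x
    obtain ⟨g, rfl⟩ := Submodule.Quotient.mk_surjective _ x
    change b₃ (a₃ (Submodule.Quotient.mk g)) = Submodule.Quotient.mk g
    rw [Submodule.mapQ_apply, Submodule.mapQ_apply, Submodule.subtype_apply, hres']
  have hR4 : IsRetract (C := C) Ω' (N₀ × G) := by
    let a₄ : Ω' →ₗ[C] N₀ × G := (LinearMap.range w).liftQ
      (LinearMap.prod ((LinearMap.range w₀).mkQ ∘ₗ res) (LinearMap.id - G₀.subtype ∘ₗ res)) (by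
        rintro _ ⟨m, rfl⟩
        rw [LinearMap.mem_ker]
        change ((LinearMap.range w₀).mkQ (res (w m)), w m - ((res (w m) : G₀) : G)) = 0
        refine Prod.ext ?_ ?_
        · change (LinearMap.range w₀).mkQ (res (w m)) = 0
          rw [Submodule.mkQ_apply, Submodule.Quotient.mk_eq_zero]
          exact ⟨m, rfl⟩
        · change w m - ((res (w m) : G₀) : G) = 0
          have := hw₀ m
          change ((res (w m) : G₀) : G) = w m at this
          rw [this]
          exact sub_self _)
    let b₄ : N₀ × G →ₗ[C] Ω' := LinearMap.coprod a₃ (LinearMap.range w).mkQ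
    refine ⟨a₄, b₄, ?_⟩
    apply LinearMap.ext
    intro x
    obtain ⟨g, rfl⟩ := Submodule.Quotient.mk_surjective _ x
    change b₄ (a₄ (Submodule.Quotient.mk g)) = Submodule.Quotient.mk g
    have h1 : a₄ (Submodule.Quotient.mk g) =
        ((LinearMap.range w₀).mkQ (res g), g - ((res g : G₀) : G)) := rfl
    rw [h1, LinearMap.coprod_apply]
    change a₃ (Submodule.Quotient.mk (res g)) + Submodule.Quotient.mk (g - ((res g : G₀) : G)) = _
    rw [Submodule.mapQ_apply, ← Submodule.Quotient.mk_add]
    congr 1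
    change ((res g : G₀) : G) + (g - ((res g : G₀) : G)) = g
    abel
  intro C' _ _
  constructor
  · intro h
    have h1 : Module.Projective C' (C' ⊗[C] (Ω × G)) := projective_baseChange_prod C' h
    have h2 : Module.Projective C' (C' ⊗[C] Ω') := projective_baseChange_of_isRetract hR2 C' h1
    exact projective_baseChange_of_isRetract hR3 C' h2
  · intro h
    have h1 : Module.Projective C' (C' ⊗[C] (N₀ × G)) := projective_baseChange_prod C' h
    have h2 : Module.Projective C' (C' ⊗[C] Ω') := projective_baseChange_of_isRetract hR4 C' h1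
    exact projective_baseChange_of_isRetract hR1 C' h2

/-- for a map from a finitely generated module to a projective module over a Noetherian ring, the
projectivity of the cokernel after any base change is governed by a finitely presented module. -/
theorem exists_finitePresentation [IsNoetherianRing C] {M F : Type u} [AddCommGroup M] [Module C M]
    [AddCommGroup F] [Module C F] [Module.Finite C M] [Module.Projective C F] (u : M →ₗ[C] F) :
    ∃ (N₀ : Type u) (_ : AddCommGroup N₀) (_ : Module C N₀), Module.FinitePresentation C N₀ ∧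
      ∀ (C' : Type u) [CommRing C'] [Algebra C C'],
        Module.Projective C' (C' ⊗[C] (F ⧸ LinearMap.range u)) ↔
          Module.Projective C' (C' ⊗[C] N₀) := by
  classical
  obtain ⟨i, hi⟩ := Module.projective_def'.mp (inferInstance : Module.Projective C F)
  let q : (F →₀ C) →ₗ[C] F := Finsupp.linearCombination C id
  have hqi : ∀ x, q (i x) = x := fun x => LinearMap.congr_fun hi x
  let w : M →ₗ[C] (F →₀ C) := i ∘ₗ u
  obtain ⟨T, hT⟩ := (inferInstance : Module.Finite C M).fg_top
  let J₀ : Finset F := T.biUnion (fun m => (w m).support)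
  have hrange : LinearMap.range w ≤ Finsupp.supported C C (↑J₀ : Set F) := by
    rw [LinearMap.range_eq_map, ← hT, Submodule.map_span, Submodule.span_le]
    rintro _ ⟨m, hm, rfl⟩
    rw [SetLike.mem_coe, Finsupp.mem_supported]
    intro x hx
    exact Finset.mem_coe.mpr (Finset.mem_biUnion.mpr ⟨m, hm, hx⟩)
  have hfinG₀ : Module.Finite C (Finsupp.supported C C (↑J₀ : Set F)) :=
    Module.Finite.equiv (Finsupp.supportedEquivFinsupp (M := C) (R := C) (↑J₀ : Set F)).symm
  exact exists_finitePresentation_aux u i q hqi (Finsupp.supported C C (↑J₀ : Set F))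
    (Finsupp.restrictDom C C (↑J₀ : Set F))
    (fun g => LinearMap.congr_fun (Finsupp.restrictDom_comp_subtype (↑J₀ : Set F)) g) hrange

end Groth.Agent.Lib.Helper5.ProjSpread
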