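import Groth.Agent.Lib.Helper5.ProjSpreadA
import Mathlib

set_option autoImplicit false
universe u

open TensorProduct

namespace Groth.Agent.Lib.Helper5.ProjSpread

variable {R P C : Type u} [CommRing R] [CommRing P] [CommRing C] [Algebra R P] [Algebra P C]
  [Algebra R C] [IsScalarTower R P C] [Algebra.FormallySmooth R P] [IsNoetherianRing P]

/-- for a quotient `C` of a Noetherian formally smooth algebra, formal smoothness of localizations
of `C` is governed by a finitely presented module and the (finite) first cotangent module. -/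
theorem exists_modules (hsurj : Function.Surjective (algebraMap P C)) :
    ∃ (N₀ : Type u) (_ : AddCommGroup N₀) (_ : Module C N₀), Module.FinitePresentation C N₀ ∧
      Module.Finite C (Algebra.H1Cotangent R C) ∧
      ∀ (C' : Type u) [CommRing C'] [Algebra C C'] [Algebra R C'] [IsScalarTower R C C']
        (M : Submonoid C) [IsLocalization M C'],
        Algebra.FormallySmooth R C' ↔
          (Module.Projective C' (C' ⊗[C] N₀) ∧
            Subsingleton (C' ⊗[C] Algebra.H1Cotangent R C)) := by
  have hCN : IsNoetherianRing C := isNoetherianRing_of_surjective P C (algebraMap P C) hsurj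
  let E : Algebra.Extension R C := ⟨P, _, Function.surjInv_eq hsurj⟩
  have hEsm : Algebra.FormallySmooth R E.Ring := ‹_›
  have hfinCot : Module.Finite C E.Cotangent :=
    Algebra.Extension.Cotangent.finite (IsNoetherian.noetherian _)
  have hprojCS : Module.Projective C E.CotangentSpace :=
    inferInstanceAs (Module.Projective C (C ⊗[P] Ω[P⁄R]))
  obtain ⟨N₀, hN₀1, hN₀2, hfp, hN₀⟩ := exists_finitePresentation E.cotangentComplex
  refine ⟨N₀, hN₀1, hN₀2, hfp, ?_, ?_⟩
  · have h1 : IsNoetherian C E.Cotangent := isNoetherian_of_isNoetherianRing_of_finite C _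
    have h2 : Module.Finite C E.H1Cotangent :=
      inferInstanceAs (Module.Finite C (LinearMap.ker E.cotangentComplex))
    exact Module.Finite.equiv E.equivH1CotangentOfFormallySmooth
  · intro C' _ _ _ _ M _
    have het : Algebra.FormallyEtale C C' := Algebra.FormallyEtale.of_isLocalization M
    let e1 : C' ⊗[C] Ω[C⁄R] ≃ₗ[C'] Ω[C'⁄R] :=
      KaehlerDifferential.tensorKaehlerEquivOfFormallyEtale R C C'
    let e2 : C' ⊗[C] Algebra.H1Cotangent R C ≃ₗ[C'] Algebra.H1Cotangent R C' :=
      Algebra.tensorH1CotangentOfIsLocalization R C' M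
    have hker : LinearMap.ker E.toKaehler = LinearMap.range E.cotangentComplex :=
      LinearMap.exact_iff.mp E.exact_cotangentComplex_toKaehler
    let e3 : (E.CotangentSpace ⧸ LinearMap.range E.cotangentComplex) ≃ₗ[C] Ω[C⁄R] :=
      (Submodule.quotEquivOfEq _ _ hker.symm).trans
        (LinearMap.quotKerEquivOfSurjective E.toKaehler E.toKaehler_surjective)
    let e4 : C' ⊗[C] (E.CotangentSpace ⧸ LinearMap.range E.cotangentComplex) ≃ₗ[C']
        C' ⊗[C] Ω[C⁄R] := LinearEquiv.baseChange C C' _ _ e3
    rw [Algebra.formallySmooth_iff]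
    constructor
    · rintro ⟨h1, h2⟩
      refine ⟨(hN₀ C').mp (Module.Projective.of_equiv (e4.trans e1).symm), ?_⟩
      exact e2.toEquiv.subsingleton
    · rintro ⟨h1, h2⟩
      have h3 := (hN₀ C').mpr h1
      exact ⟨Module.Projective.of_equiv (e4.trans e1), e2.symm.toEquiv.subsingleton⟩

end Groth.Agent.Lib.Helper5.ProjSpread
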