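import Groth.Agent.Lib.Helper5.ProjSpreadB
import Mathlib

set_option autoImplicit false
universe u

open TensorProduct

namespace Groth.Agent.Lib.Helper5.ProjSpread

variable {R P C : Type u} [CommRing R] [CommRing P] [CommRing C] [Algebra R P] [Algebra P C]
  [Algebra R C] [IsScalarTower R P C] [Algebra.FormallySmooth R P] [IsNoetherianRing P]

include P in
/-- formal smoothness of a quotient of a Noetherian formally smooth algebra can be tested at the
maximal ideals. -/
theorem formallySmooth_of_forall_maximal (hsurj : Function.Surjective (algebraMap P C))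
    (h : ∀ (m : Ideal C) [m.IsMaximal], Algebra.FormallySmooth R (Localization.AtPrime m)) :
    Algebra.FormallySmooth R C := by
  obtain ⟨N₀, _, _, hfp, hfinH, hiff⟩ := exists_modules (R := R) (P := P) hsurj
  have hloc : IsLocalization (⊥ : Submonoid C) C := IsLocalization.self (by
    intro x hx
    rw [Submonoid.mem_bot] at hx
    subst hx
    exact isUnit_one)
  rw [hiff C ⊥]
  have hproj : Module.Projective C N₀ := by
    apply Module.projective_of_localization_maximal
    intro m hm
    have h1 := (hiff (Localization.AtPrime m) m.primeCompl).mp (h m)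
    have e := (LocalizedModule.equivTensorProduct m.primeCompl N₀).symm
    have h2 : Module.Projective (Localization m.primeCompl)
        (Localization m.primeCompl ⊗[C] N₀) := h1.1
    exact Module.Projective.of_equiv e
  have hsub : Subsingleton (Algebra.H1Cotangent R C) := by
    refine Module.subsingleton_of_localization_maximal (R := C) (M := Algebra.H1Cotangent R C)
      (fun (m : Ideal C) _ => LocalizedModule m.primeCompl (Algebra.H1Cotangent R C))
      (fun (m : Ideal C) _ => LocalizedModule.mkLinearMap m.primeCompl (Algebra.H1Cotangent R C)) ?_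
    intro m hm
    have h1 := (hiff (Localization.AtPrime m) m.primeCompl).mp (h m)
    have h2 : Subsingleton (Localization.AtPrime m ⊗[C] Algebra.H1Cotangent R C) := h1.2
    exact (LocalizedModule.equivTensorProduct m.primeCompl
      (Algebra.H1Cotangent R C)).toEquiv.subsingleton
  exact ⟨Module.Projective.of_equiv (TensorProduct.lid C N₀).symm,
    (TensorProduct.lid C (Algebra.H1Cotangent R C)).toEquiv.subsingleton⟩

include P in
/-- formal smoothness of a local ring of a quotient of a Noetherian formally smooth algebra spreads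
to a basic open neighbourhood. -/
theorem exists_away_formallySmooth (hsurj : Function.Surjective (algebraMap P C))
    (𝔭 : Ideal C) [𝔭.IsPrime] (h : Algebra.FormallySmooth R (Localization.AtPrime 𝔭)) :
    ∃ f : C, f ∉ 𝔭 ∧ Algebra.FormallySmooth R (Localization.Away f) := by
  classical
  obtain ⟨N₀, _, _, hfp, hfinH, hiff⟩ := exists_modules (R := R) (P := P) hsurj
  obtain ⟨h1, h2⟩ := (hiff (Localization.AtPrime 𝔭) 𝔭.primeCompl).mp h
  have hfree : (⟨𝔭, inferInstance⟩ : PrimeSpectrum C) ∈ Module.freeLocus C N₀ := by
    rw [Module.mem_freeLocus]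
    have h3 : Module.Projective (Localization.AtPrime 𝔭) (LocalizedModule 𝔭.primeCompl N₀) :=
      Module.Projective.of_equiv (LocalizedModule.equivTensorProduct 𝔭.primeCompl N₀).symm
    exact Module.free_of_flat_of_isLocalRing
  obtain ⟨_, ⟨_, ⟨f₂, rfl⟩, rfl⟩, hf₂mem, hf₂sub⟩ :=
    PrimeSpectrum.isBasis_basic_opens.exists_subset_of_mem_open hfree Module.isOpen_freeLocus
  have hf₂ : f₂ ∉ 𝔭 := hf₂mem
  have hsubH : Subsingleton (LocalizedModule 𝔭.primeCompl (Algebra.H1Cotangent R C)) :=
    (LocalizedModule.equivTensorProduct 𝔭.primeCompl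
      (Algebra.H1Cotangent R C)).toEquiv.subsingleton
  have hkill := LocalizedModule.subsingleton_iff.mp hsubH
  choose r hr hrz using hkill
  obtain ⟨T, hT⟩ := hfinH.fg_top
  let f₁ : C := ∏ t ∈ T, r t
  have hf₁ : f₁ ∉ 𝔭 := by
    intro hmem
    obtain ⟨t, _, ht⟩ := (Ideal.IsPrime.prod_mem_iff).mp hmem
    exact hr t ht
  have hf₁z : ∀ x : Algebra.H1Cotangent R C, f₁ • x = 0 := by
    intro x
    have hx : x ∈ Submodule.span C (T : Set (Algebra.H1Cotangent R C)) := by
      rw [hT]; trivial
    induction hx using Submodule.span_induction with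
    | mem t ht =>
      have hdvd : r t ∣ f₁ := Finset.dvd_prod_of_mem r ht
      obtain ⟨c, hc⟩ := hdvd
      rw [hc, mul_comm, mul_smul, hrz, smul_zero]
    | zero => rw [smul_zero]
    | add x y _ _ hx hy => rw [smul_add, hx, hy, add_zero]
    | smul a x _ hx => rw [smul_comm, hx, smul_zero]
  refine ⟨f₁ * f₂, ?_, ?_⟩
  · intro hmem
    rcases (Ideal.IsPrime.mem_or_mem inferInstance hmem) with h | h
    · exact hf₁ h
    · exact hf₂ h
  · rw [hiff (Localization.Away (f₁ * f₂)) (Submonoid.powers (f₁ * f₂))]
    constructor
    · have hle : (PrimeSpectrum.basicOpen (f₁ * f₂) : Set (PrimeSpectrum C)) ⊆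
          Module.freeLocus C N₀ :=
        (SetLike.coe_subset_coe.mpr (PrimeSpectrum.basicOpen_mul_le_right f₁ f₂)).trans hf₂sub
      have h3 := Module.basicOpen_subset_freeLocus_iff.mp hle
      exact Module.Projective.of_equiv
        (LocalizedModule.equivTensorProduct (Submonoid.powers (f₁ * f₂)) N₀)
    · have hsub : Subsingleton (LocalizedModule (Submonoid.powers (f₁ * f₂))
          (Algebra.H1Cotangent R C)) := by
        rw [LocalizedModule.subsingleton_iff]
        intro x
        refine ⟨f₁ * f₂, Submonoid.mem_powers _, ?_⟩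
        rw [mul_comm, mul_smul, hf₁z, smul_zero]
      exact (LocalizedModule.equivTensorProduct (Submonoid.powers (f₁ * f₂))
        (Algebra.H1Cotangent R C)).symm.toEquiv.subsingleton

end Groth.Agent.Lib.Helper5.ProjSpread
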