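import Mathlib
import Groth.Prelude.Def_RegImm
import Groth.Agent.Lib.Helper5.TransNbhdA
import Groth.Agent.Lib.Helper5.TransPowA
import Groth.Agent.Lib.Helper5.RegDescA
import Groth.Agent.Lib.Helper5.KosDescB
import Groth.Agent.Lib.Helper21.FlatLocal10

/-!
# Helper5 — QRNilA

Fibre local rings of finite type algebras are Noetherian; a quasi-regular sequence with flat
quotient is weakly regular on the local rings of the fibres.
-/

set_option autoImplicit false
universe u

namespace Groth.Agent.Lib.Helper5.QRNil

open RingTheory.Sequence IsLocalRing Pointwise TensorProduct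

section Noeth

variable {A B : Type u} [CommRing A] [CommRing B] [Algebra A B] [Algebra.FiniteType A B]

/-- the local ring of a fibre of a finite type algebra is Noetherian -/
theorem isNoetherianRing_atPrime_quot (q : Ideal B) [hq : q.IsPrime] (p : Ideal A) [p.IsPrime]
    (hp : q.under A = p) :
    IsNoetherianRing (Localization.AtPrime q ⧸ p.map (algebraMap A (Localization.AtPrime q))) := by
  obtain ⟨Q, hQ, rfl⟩ := Groth.Agent.Lib.Helper21.FlatLocal.exists_fiber_prime p q hp
  have h1 : IsNoetherianRing (p.Fiber B) :=
    Algebra.FiniteType.isNoetherianRing p.ResidueField (p.Fiber B)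
  have h2 : IsNoetherianRing (Localization.AtPrime Q) :=
    IsLocalization.isNoetherianRing Q.primeCompl _ h1
  let e := Ideal.Fiber.algEquivAux₂ p Q
  have h3 : IsNoetherianRing (Localization.AtPrime (Q.comap
      (Algebra.TensorProduct.includeRight : B →ₐ[A] p.Fiber B)) ⧸
      (p.map (algebraMap A B)).map (algebraMap B (Localization.AtPrime (Q.comap
        (Algebra.TensorProduct.includeRight : B →ₐ[A] p.Fiber B))))) :=
    isNoetherianRing_of_ringEquiv _ e.toRingEquiv
  have h4 : (p.map (algebraMap A B)).map (algebraMap B (Localization.AtPrime (Q.comap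
        (Algebra.TensorProduct.includeRight : B →ₐ[A] p.Fiber B)))) =
      p.map (algebraMap A (Localization.AtPrime (Q.comap
        (Algebra.TensorProduct.includeRight : B →ₐ[A] p.Fiber B)))) := by
    rw [Ideal.map_map, ← IsScalarTower.algebraMap_eq]
  exact isNoetherianRing_of_ringEquiv _ (Ideal.quotEquivOfEq h4)

/-- a quasi-regular sequence with flat quotient is weakly regular on the local rings of the
fibres -/
theorem isWeaklyRegular_fibre_atPrime {r : ℕ} (f : Fin r → B) (hq : CAlgX.IsQuasiRegular f)
    (hflat : Module.Flat A (B ⧸ Ideal.span (Set.range f))) (q : Ideal B) [hqp : q.IsPrime]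
    (hfq : ∀ i, f i ∈ q) :
    IsWeaklyRegular (Localization.AtPrime q ⧸
        (((q.under A).map (algebraMap A (Localization.AtPrime q))) •
          (⊤ : Submodule (Localization.AtPrime q) (Localization.AtPrime q))))
      ((List.ofFn f).map (algebraMap B (Localization.AtPrime q))) := by
  classical
  have hN := isNoetherianRing_atPrime_quot q (q.under A) rfl
  obtain ⟨bs, hbsdef⟩ : ∃ bs : List B, bs = List.ofFn f := ⟨_, rfl⟩
  obtain ⟨hs, hsdef⟩ : ∃ hs : List (Localization.AtPrime q),
      hs = bs.map (algebraMap B (Localization.AtPrime q)) := ⟨_, rfl⟩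
  have hbsq : RegImm.Kind.quasi.Seq B bs := by
    rw [hbsdef]
    change CAlgX.IsQuasiRegular (List.ofFn f).get
    exact Groth.Agent.Lib.Helper5.FlatKind.qr_congr (List.length_ofFn).symm f _
      (fun i => by simp) hq
  have hsm : ∀ h ∈ hs, h ∈ maximalIdeal (Localization.AtPrime q) := by
    intro h hh
    rw [hsdef] at hh
    obtain ⟨b, hb, rfl⟩ := List.mem_map.mp hh
    rw [hbsdef, List.mem_ofFn] at hb
    obtain ⟨i, rfl⟩ := hb
    exact (IsLocalization.AtPrime.to_map_mem_maximal_iff (Localization.AtPrime q) q _).mpr (hfq i)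
  have hqs : CAlgX.IsQuasiRegular hs.get := by
    have h1 : RegImm.Kind.quasi.Seq (Localization.AtPrime q)
        (bs.map (algebraMap B (Localization.AtPrime q))) :=
      Groth.Agent.Lib.Helper5.RegDesc.kind_seq_map_of_flat' _ (by decide) _
        (RingHom.flat_algebraMap_iff.mpr (IsLocalization.flat _ q.primeCompl)) bs hbsq
    rw [← hsdef] at h1
    exact h1
  have hbsI : Ideal.ofList bs = Ideal.span (Set.range f) := by
    rw [hbsdef, Groth.Agent.Lib.Helper5.KosDesc.ofList_ofFn]
  have hflatQ : Module.Flat A (B ⧸ Ideal.ofList bs) := by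
    rw [hbsI]; exact hflat
  have hloc : (Ideal.ofList bs).localized' (Localization.AtPrime q) q.primeCompl
      (Algebra.linearMap B (Localization.AtPrime q)) = Ideal.ofList hs := by
    rw [Ideal.localized'_eq_map, Ideal.map_ofList, hsdef]
  have hF1 : Module.Flat A (Localization.AtPrime q ⧸ (Ideal.ofList bs).localized'
      (Localization.AtPrime q) q.primeCompl (Algebra.linearMap B (Localization.AtPrime q))) :=
    Groth.Agent.Lib.Helper5.TransPow.flat_of_isLocalizedModule_of_flat q.primeCompl
      ((Ideal.ofList bs).toLocalizedQuotient' (Localization.AtPrime q) q.primeCompl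
        (Algebra.linearMap B (Localization.AtPrime q)))
  have hF2 : Module.Flat A (Localization.AtPrime q ⧸ Ideal.ofList hs) :=
    Module.Flat.of_linearEquiv ((Submodule.quotEquivOfEq _ _ hloc).symm.restrictScalars A)
  have hreg := Groth.Agent.Lib.Helper5.TransNbhd.isWeaklyRegular_fibre_of_quasi A
    (Localization.AtPrime q) (q.under A) hs hsm hqs hF2
  have h2 : IsWeaklyRegular (Localization.AtPrime q ⧸
      (q.under A).map (algebraMap A (Localization.AtPrime q))) hs :=
    (isWeaklyRegular_map_algebraMap_iff (Localization.AtPrime q ⧸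
      (q.under A).map (algebraMap A (Localization.AtPrime q))) _ hs).mp hreg
  have heq : (((q.under A).map (algebraMap A (Localization.AtPrime q))) •
      (⊤ : Submodule (Localization.AtPrime q) (Localization.AtPrime q))) =
      (q.under A).map (algebraMap A (Localization.AtPrime q)) := by
    rw [smul_eq_mul, Ideal.mul_top]
  rw [← hbsdef, ← hsdef]
  exact ((Submodule.quotEquivOfEq _ _ heq).isWeaklyRegular_congr hs).mpr h2

end Noeth

end Groth.Agent.Lib.Helper5.QRNil
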