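import Mathlib
import Groth.Prelude.Def_RegImm
import Groth.Agent.Lib.Helper5.KSynC

set_option autoImplicit false
universe u

namespace Groth.Agent.Lib.Helper5.QRNil

open RingTheory.Sequence IsLocalRing Pointwise TensorProduct
open Groth.Agent.Lib.Helper5.KL Groth.Agent.Lib.Helper21.FlatDesc Groth.Agent.Lib.Helper5.KSyn

section Slice

variable (R₁ T A₁ B₁ : Type u) [CommRing R₁] [CommRing T] [CommRing A₁] [CommRing B₁]
  [Algebra R₁ T] [Algebra.FinitePresentation R₁ T] [Module.Flat R₁ T]
  [Algebra R₁ A₁] [Algebra T B₁] [Algebra A₁ B₁] [Algebra R₁ B₁]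
  [IsScalarTower R₁ T B₁] [IsScalarTower R₁ A₁ B₁]

attribute [local instance] Localization.AtPrime.algebraOfLiesOver

set_option maxHeartbeats 1600000 in
set_option synthInstance.maxHeartbeats 200000 in
/-- **fibre criterion through a quotient of the base**: if `B₁ = T/IT` and the list `G` is
weakly regular on the fibre of `B₁` at the image of `q`, then `G` is weakly regular in `T_q`
with partial quotients flat over `R₁`. -/
theorem fibre_criterion_of_quotient (I : Ideal R₁)
    (hsurj : Function.Surjective (algebraMap T B₁))
    (hker : RingHom.ker (algebraMap T B₁) = I.map (algebraMap R₁ T))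
    (G : List T) (q : Ideal T) [q.IsPrime] (hGq : ∀ x ∈ G, x ∈ q)
    (hIq : I.map (algebraMap R₁ T) ≤ q)
    (qb : Ideal B₁) [qb.IsPrime] (hqbdef : qb = q.map (algebraMap T B₁))
    (hfibO : IsWeaklyRegular (Localization.AtPrime qb ⧸
      ((((q.comap (algebraMap R₁ T)).map (algebraMap R₁ A₁)).map
        (algebraMap A₁ (Localization.AtPrime qb))) •
          (⊤ : Submodule (Localization.AtPrime qb) (Localization.AtPrime qb))))
      ((G.map (algebraMap T B₁)).map (algebraMap B₁ (Localization.AtPrime qb)))) :
    IsWeaklyRegular (Localization.AtPrime q) (G.map (algebraMap T (Localization.AtPrime q))) ∧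
      ∀ i ≤ G.length, Module.Flat R₁ (Localization.AtPrime q ⧸
        (Ideal.ofList ((G.map (algebraMap T (Localization.AtPrime q))).take i) •
          (⊤ : Submodule (Localization.AtPrime q) (Localization.AtPrime q)))) := by
  classical
  have hkerq : RingHom.ker (algebraMap T B₁) ≤ q := hker ▸ hIq
  have hqcomap : q = qb.comap (algebraMap T B₁) := by
    rw [hqbdef, Ideal.comap_map_of_surjective' _ hsurj]
    exact (sup_eq_left.mpr hkerq).symm
  obtain ⟨p, hpdef⟩ : ∃ p : Ideal R₁, p = q.comap (algebraMap R₁ T) := ⟨_, rfl⟩
  have hpprime : p.IsPrime := hpdef ▸ Ideal.comap_isPrime _ q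
  have hlies : q.LiesOver p := ⟨hpdef⟩
  have hIp : I ≤ p := by
    rw [hpdef]
    exact Ideal.map_le_iff_le_comap.mp hIq
  rw [← hpdef] at hfibO
  obtain ⟨Gb, hGbdef⟩ : ∃ Gb : List (Localization.AtPrime qb),
      Gb = (G.map (algebraMap T B₁)).map (algebraMap B₁ (Localization.AtPrime qb)) := ⟨_, rfl⟩
  rw [← hGbdef] at hfibO
  -- the local ring of `T` and the comparison map
  let ψ : Localization.AtPrime q →+* Localization.AtPrime qb :=
    Localization.localRingHom q qb (algebraMap T B₁) hqcomap
  have hψsurj : Function.Surjective ψ := localRingHom_surjective _ hsurj q qb hqcomap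
  have hψker : RingHom.ker ψ ≤
      (RingHom.ker (algebraMap T B₁)).map (algebraMap T (Localization.AtPrime q)) :=
    ker_localRingHom_le _ hsurj q qb hqcomap
  let aOOb : Algebra (Localization.AtPrime q) (Localization.AtPrime qb) := ψ.toAlgebra
  have twT : IsScalarTower T (Localization.AtPrime q) (Localization.AtPrime qb) :=
    IsScalarTower.of_algebraMap_eq fun x => by
      show algebraMap T (Localization.AtPrime qb) x = ψ (algebraMap T (Localization.AtPrime q) x)
      rw [Localization.localRingHom_to_map, ← IsScalarTower.algebraMap_apply]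
  have twR : IsScalarTower R₁ (Localization.AtPrime q) (Localization.AtPrime qb) :=
    IsScalarTower.of_algebraMap_eq fun x => by
      rw [IsScalarTower.algebraMap_apply R₁ T (Localization.AtPrime q),
        ← IsScalarTower.algebraMap_apply T (Localization.AtPrime q) (Localization.AtPrime qb),
        IsScalarTower.algebraMap_apply R₁ B₁ (Localization.AtPrime qb),
        IsScalarTower.algebraMap_apply R₁ T B₁,
        ← IsScalarTower.algebraMap_apply T B₁ (Localization.AtPrime qb)]
  have hGbeq : (G.map (algebraMap T (Localization.AtPrime q))).map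
      (algebraMap (Localization.AtPrime q) (Localization.AtPrime qb)) = Gb := by
    rw [hGbdef, List.map_map, List.map_map]
    apply List.map_congr_left
    intro x _
    simp only [Function.comp_apply]
    rw [← IsScalarTower.algebraMap_apply, ← IsScalarTower.algebraMap_apply]
  -- ideals
  obtain ⟨pO, hpOdef⟩ : ∃ pO : Ideal (Localization.AtPrime q),
      pO = p.map (algebraMap R₁ (Localization.AtPrime q)) := ⟨_, rfl⟩
  have hmPO : (maximalIdeal (Localization.AtPrime p)).map
      (algebraMap (Localization.AtPrime p) (Localization.AtPrime q)) = pO := by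
    rw [← Localization.AtPrime.map_eq_maximalIdeal, Ideal.map_map,
      ← IsScalarTower.algebraMap_eq, hpOdef]
  have hN' : (p.map (algebraMap R₁ A₁)).map (algebraMap A₁ (Localization.AtPrime qb)) =
      pO.map (algebraMap (Localization.AtPrime q) (Localization.AtPrime qb)) := by
    rw [hpOdef, Ideal.map_map, Ideal.map_map, ← IsScalarTower.algebraMap_eq,
      ← IsScalarTower.algebraMap_eq]
  have hkerpO : RingHom.ker ψ ≤ pO := by
    refine hψker.trans ?_
    rw [hker, Ideal.map_map, ← IsScalarTower.algebraMap_eq, hpOdef]
    exact Ideal.map_mono hIp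
  have hfib1 : IsWeaklyRegular (Localization.AtPrime qb ⧸
      ((p.map (algebraMap R₁ A₁)).map (algebraMap A₁ (Localization.AtPrime qb)) •
        (⊤ : Submodule (Localization.AtPrime qb) (Localization.AtPrime qb))))
      (G.map (algebraMap T (Localization.AtPrime q))) := by
    rw [← isWeaklyRegular_map_algebraMap_iff (Localization.AtPrime qb), hGbeq]
    exact hfibO
  -- the comparison of the fibres
  let fM : Localization.AtPrime q →ₗ[Localization.AtPrime q] (Localization.AtPrime qb ⧸
      ((p.map (algebraMap R₁ A₁)).map (algebraMap A₁ (Localization.AtPrime qb)) •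
        (⊤ : Submodule (Localization.AtPrime qb) (Localization.AtPrime qb)))) :=
    ((Submodule.mkQ _).restrictScalars (Localization.AtPrime q)).comp
      (Algebra.linearMap (Localization.AtPrime q) (Localization.AtPrime qb))
  have hfMsurj : Function.Surjective fM := by
    intro y
    obtain ⟨z, rfl⟩ := Submodule.mkQ_surjective _ y
    obtain ⟨x, rfl⟩ := hψsurj z
    exact ⟨x, rfl⟩
  have hfMker : LinearMap.ker fM = ((maximalIdeal (Localization.AtPrime p)).map
      (algebraMap (Localization.AtPrime p) (Localization.AtPrime q)) •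
        (⊤ : Submodule (Localization.AtPrime q) (Localization.AtPrime q))) := by
    ext x
    rw [LinearMap.mem_ker]
    have hL : fM x = Submodule.Quotient.mk (ψ x) := rfl
    rw [hL, Submodule.Quotient.mk_eq_zero]
    have e1 : ∀ (R : Type u) [CommRing R] (J : Ideal R) (y : R),
        y ∈ (J • (⊤ : Submodule R R)) ↔ y ∈ J := by
      intro R _ J y
      rw [smul_eq_mul, Ideal.mul_top]
    rw [e1, e1, hN', hmPO]
    constructor
    · intro hx
      obtain ⟨y, hy, hyx⟩ := (Ideal.mem_map_iff_of_surjective _ hψsurj).mp hx
      have h1 : x - y ∈ RingHom.ker ψ := by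
        rw [RingHom.mem_ker, map_sub, sub_eq_zero]
        exact hyx.symm
      have := pO.add_mem (hkerpO h1) hy
      simpa using this
    · intro hx
      exact Ideal.mem_map_of_mem _ hx
  have hfib2 : IsWeaklyRegular (Localization.AtPrime q ⧸
      ((maximalIdeal (Localization.AtPrime p)).map
        (algebraMap (Localization.AtPrime p) (Localization.AtPrime q)) •
          (⊤ : Submodule (Localization.AtPrime q) (Localization.AtPrime q))))
      (G.map (algebraMap T (Localization.AtPrime q))) :=
    (((Submodule.quotEquivOfEq _ _ hfMker.symm).trans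
      (fM.quotKerEquivOfSurjective hfMsurj)).isWeaklyRegular_congr _).mpr hfib1
  -- the fibre criterion
  have hfp : (algebraMap R₁ T).FinitePresentation :=
    RingHom.finitePresentation_algebraMap.mpr inferInstance
  have hloc1 : IsLocalHom (algebraMap (Localization.AtPrime p) (Localization.AtPrime q)) :=
    Localization.isLocalHom_localRingHom p q (algebraMap R₁ T) Ideal.LiesOver.over
  obtain ⟨C₀, _, a, b, TC, hab, ha, hlocC⟩ := EssFP.localRingHom (algebraMap R₁ T) hfp q
  subst hpdef
  let aPC : Algebra (Localization.AtPrime (q.comap (algebraMap R₁ T))) C₀ := a.toAlgebra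
  let aCO : Algebra C₀ (Localization.AtPrime q) := b.toAlgebra
  have twC : IsScalarTower (Localization.AtPrime (q.comap (algebraMap R₁ T))) C₀
      (Localization.AtPrime q) :=
    IsScalarTower.of_algebraMap_eq fun r => by
      show Localization.localRingHom (q.comap (algebraMap R₁ T)) q (algebraMap R₁ T) _ r = b (a r)
      rw [hab]
      rfl
  have : Algebra.FinitePresentation (Localization.AtPrime (q.comap (algebraMap R₁ T))) C₀ := ha
  have := hlocC
  have hGm : ∀ x ∈ G.map (algebraMap T (Localization.AtPrime q)),
      x ∈ maximalIdeal (Localization.AtPrime q) := by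
    intro x hx
    obtain ⟨y, hy, rfl⟩ := List.mem_map.mp hx
    exact (IsLocalization.AtPrime.to_map_mem_maximal_iff (Localization.AtPrime q) q y).mpr
      (hGq y hy)
  obtain ⟨hwr, hfl⟩ := isWeaklyRegular_and_flat_quot_of_fibre
    (Localization.AtPrime (q.comap (algebraMap R₁ T))) (Localization.AtPrime q) C₀ TC
    (G.map (algebraMap T (Localization.AtPrime q))) hGm (Localization.AtPrime q) hfib2
  have : Module.Flat R₁ (Localization.AtPrime (q.comap (algebraMap R₁ T))) :=
    IsLocalization.flat _ (q.comap (algebraMap R₁ T)).primeCompl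
  refine ⟨hwr, fun i hi => ?_⟩
  have := hfl i (by rw [List.length_map]; exact hi)
  exact Module.Flat.trans R₁ (Localization.AtPrime (q.comap (algebraMap R₁ T))) _

end Slice

end Groth.Agent.Lib.Helper5.QRNil
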