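import Mathlib
import Groth.Prelude.Def_RegImm
import Groth.Agent.Lib.Helper5.QRNilA
import Groth.Agent.Lib.Helper5.QRNilB
import Groth.Agent.Lib.Helper5.RelGCIQ

/-!
# Helper5 — QRNilC

Lifting a quasi-regular sequence with flat quotient through a locally nilpotent ideal of the
base: the quotient by any lift is flat.
-/

set_option autoImplicit false
universe u

namespace Groth.Agent.Lib.Helper5.QRNil

open RingTheory.Sequence IsLocalRing Pointwise TensorProduct

variable (A' B' : Type u) [CommRing A'] [CommRing B'] [Algebra A' B'] [Module.Flat A' B']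
  [Algebra.FinitePresentation A' B'] (I : Ideal A')

attribute [local instance] Localization.AtPrime.algebraOfLiesOver

local notation "K" => Ideal.map (algebraMap A' B') I

set_option maxHeartbeats 1600000 in
set_option synthInstance.maxHeartbeats 200000 in
theorem flat_atPrime_quotient (hI : ∀ x ∈ I, IsNilpotent x) (r : ℕ) (f' : Fin r → B')
    (hq : CAlgX.IsQuasiRegular
      (fun i => Ideal.Quotient.mk (Ideal.map (algebraMap A' B') I) (f' i)))
    (hflat : Module.Flat (A' ⧸ I)
      ((B' ⧸ Ideal.map (algebraMap A' B') I) ⧸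
        Ideal.span (Set.range (fun i => Ideal.Quotient.mk (Ideal.map (algebraMap A' B') I) (f' i)))))
    (Q : Ideal B') [hQ : Q.IsPrime] (hfQ : ∀ i, f' i ∈ Q) :
    Module.Flat A' (Localization.AtPrime Q ⧸
      (Ideal.span (Set.range f')).map (algebraMap B' (Localization.AtPrime Q))) := by
  classical
  have hIQ : I ≤ Q.comap (algebraMap A' B') := by
    intro x hx
    obtain ⟨n, hn⟩ := hI x hx
    rw [Ideal.mem_comap]
    apply Ideal.IsPrime.mem_of_pow_mem hQ n
    rw [← map_pow, hn, map_zero]
    exact Q.zero_mem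
  have hKQ : K ≤ Q := by
    exact Ideal.map_le_iff_le_comap.mpr hIQ
  have hsurj : Function.Surjective (algebraMap B' (B' ⧸ K)) := Ideal.Quotient.mk_surjective
  have hker : RingHom.ker (algebraMap B' (B' ⧸ K)) = K := Ideal.mk_ker
  obtain ⟨qb, hqbdef⟩ : ∃ qb : Ideal (B' ⧸ K), qb = Q.map (algebraMap B' (B' ⧸ K)) := ⟨_, rfl⟩
  have hqbprime : qb.IsPrime :=
    hqbdef ▸ Ideal.map_isPrime_of_surjective hsurj (by rw [hker]; exact hKQ)
  have hqcomap : qb.comap (algebraMap B' (B' ⧸ K)) = Q := by
    rw [hqbdef, Ideal.comap_map_of_surjective' _ hsurj, hker]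
    exact sup_eq_left.mpr hKQ
  have hfqb : ∀ i, Ideal.Quotient.mk K (f' i) ∈ qb := by
    intro i
    rw [hqbdef]
    exact Ideal.mem_map_of_mem _ (hfQ i)
  have hft1 : Algebra.FiniteType A' B' := inferInstance
  have hft2 : Algebra.FiniteType A' (B' ⧸ K) :=
    Algebra.FiniteType.of_surjective (IsScalarTower.toAlgHom A' B' (B' ⧸ K)) hsurj
  have hft : Algebra.FiniteType (A' ⧸ I) (B' ⧸ K) :=
    Algebra.FiniteType.of_restrictScalars_finiteType A' (A' ⧸ I) (B' ⧸ K)
  have hN2 := isWeaklyRegular_fibre_atPrime (A := A' ⧸ I) (B := B' ⧸ K)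
    (fun i => Ideal.Quotient.mk K (f' i)) hq hflat qb hfqb
  have hunder : ((Q.comap (algebraMap A' B')).map (algebraMap A' (A' ⧸ I))) =
      qb.under (A' ⧸ I) := by
    apply le_antisymm
    · rw [Ideal.map_le_iff_le_comap]
      intro x hx
      rw [Ideal.mem_comap, Ideal.under_def, Ideal.mem_comap]
      have h1 : algebraMap (A' ⧸ I) (B' ⧸ K) (algebraMap A' (A' ⧸ I) x) =
          algebraMap B' (B' ⧸ K) (algebraMap A' B' x) := by
        rw [← IsScalarTower.algebraMap_apply, ← IsScalarTower.algebraMap_apply]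
      rw [h1, hqbdef]
      exact Ideal.mem_map_of_mem _ hx
    · intro y hy
      obtain ⟨x, rfl⟩ := Ideal.Quotient.mk_surjective y
      rw [Ideal.under_def, Ideal.mem_comap] at hy
      have h1 : algebraMap (A' ⧸ I) (B' ⧸ K) (Ideal.Quotient.mk I x) =
          algebraMap B' (B' ⧸ K) (algebraMap A' B' x) := by
        change algebraMap (A' ⧸ I) (B' ⧸ K) (algebraMap A' (A' ⧸ I) x) = _
        rw [← IsScalarTower.algebraMap_apply, ← IsScalarTower.algebraMap_apply]
      rw [h1] at hy
      have h2 : algebraMap A' B' x ∈ qb.comap (algebraMap B' (B' ⧸ K)) := hy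
      rw [hqcomap] at h2
      exact Ideal.mem_map_of_mem _ h2
  have hlist : ((List.ofFn f').map (algebraMap B' (B' ⧸ K))).map
      (algebraMap (B' ⧸ K) (Localization.AtPrime qb)) =
      (List.ofFn (fun i => Ideal.Quotient.mk K (f' i))).map
        (algebraMap (B' ⧸ K) (Localization.AtPrime qb)) := by
    rw [List.map_ofFn]
    rfl
  obtain ⟨-, hfl⟩ := fibre_criterion_of_quotient A' B' (A' ⧸ I) (B' ⧸ K) I hsurj
    hker (List.ofFn f') Q
    (by
      intro x hx
      rw [List.mem_ofFn] at hx
      obtain ⟨i, rfl⟩ := hx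
      exact hfQ i)
    hKQ qb hqbdef
    (by rw [hunder, hlist]; exact hN2)
  have h1 := hfl (List.ofFn f').length le_rfl
  have heq : (Ideal.ofList (((List.ofFn f').map (algebraMap B' (Localization.AtPrime Q))).take
      (List.ofFn f').length) • (⊤ : Submodule (Localization.AtPrime Q) (Localization.AtPrime Q))) =
      (Ideal.span (Set.range f')).map (algebraMap B' (Localization.AtPrime Q)) := by
    rw [smul_eq_mul, Ideal.mul_top, ← List.map_take, List.take_length, ← Ideal.map_ofList,
      Groth.Agent.Lib.Helper5.KosDesc.ofList_ofFn]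
  exact Module.Flat.of_linearEquiv ((Submodule.quotEquivOfEq _ _ heq).symm.restrictScalars A')

theorem flat_quotient (hI : ∀ x ∈ I, IsNilpotent x) (r : ℕ) (f' : Fin r → B')
    (hq : CAlgX.IsQuasiRegular
      (fun i => Ideal.Quotient.mk (Ideal.map (algebraMap A' B') I) (f' i)))
    (hflat : Module.Flat (A' ⧸ I)
      ((B' ⧸ Ideal.map (algebraMap A' B') I) ⧸
        Ideal.span (Set.range (fun i => Ideal.Quotient.mk (Ideal.map (algebraMap A' B') I) (f' i))))) :
    Module.Flat A' (B' ⧸ Ideal.span (Set.range f')) := by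
  refine Module.flat_of_isLocalized_maximal (B' ⧸ Ideal.span (Set.range f'))
    (B' ⧸ Ideal.span (Set.range f')) (fun P _ => Localization.AtPrime P)
    (fun P _ => Algebra.linearMap (B' ⧸ Ideal.span (Set.range f')) (Localization.AtPrime P)) ?_
  intro P hP
  have hPprime : P.IsPrime := hP.isPrime
  obtain ⟨Q, hQdef⟩ : ∃ Q : Ideal B', Q = P.comap (Ideal.Quotient.mk (Ideal.span (Set.range f'))) :=
    ⟨_, rfl⟩
  have hQprime : Q.IsPrime := hQdef ▸ Ideal.comap_isPrime _ P
  have hfQ : ∀ i, f' i ∈ Q := by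
    intro i
    have h0 : Ideal.Quotient.mk (Ideal.span (Set.range f')) (f' i) = 0 :=
      Ideal.Quotient.eq_zero_iff_mem.mpr (Ideal.subset_span (Set.mem_range_self i))
    rw [hQdef, Ideal.mem_comap, h0]
    exact P.zero_mem
  obtain ⟨e⟩ := Groth.Agent.Lib.Helper5.RelGCI.nonempty_atPrime_quotient_equiv (R := A')
    (Ideal.span (Set.range f')) P Q hQdef
  have := flat_atPrime_quotient A' B' I hI r f' hq hflat Q hfQ
  exact Module.Flat.of_linearEquiv e.toLinearEquiv

end Groth.Agent.Lib.Helper5.QRNil
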