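import Mathlib
import Groth.Prelude.Def_RegImm
import Groth.Agent.Lib.Helper5.QRNilC

set_option autoImplicit false
universe u

namespace Groth.Agent.Lib.Helper5.QRNil

open TensorProduct

theorem smooth_of_mod_nil {R S : Type u} [CommRing R] [CommRing S] [Algebra R S]
    [Module.Flat R S] [Algebra.FinitePresentation R S] (I : Ideal R)
    (hI : ∀ x ∈ I, IsNilpotent x)
    (h : Algebra.Smooth (R ⧸ I) (S ⧸ I.map (algebraMap R S))) : Algebra.Smooth R S := by
  refine Algebra.Smooth.of_formallySmooth_fiber fun p _ => ?_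
  have hIp : I ≤ p := fun x hx => by
    obtain ⟨n, hn⟩ := hI x hx
    exact Ideal.IsPrime.mem_of_pow_mem inferInstance n (hn ▸ p.zero_mem)
  let φ : R ⧸ I →+* p.ResidueField :=
    Ideal.Quotient.lift I (algebraMap R p.ResidueField) (fun x hx => by
      rw [Ideal.algebraMap_residueField_eq_zero]; exact hIp hx)
  let _ : Algebra (R ⧸ I) p.ResidueField := φ.toAlgebra
  have : IsScalarTower R (R ⧸ I) p.ResidueField := .of_algebraMap_eq' (by
    ext x; rfl)
  let e1 := Algebra.TensorProduct.cancelBaseChange R (R ⧸ I) p.ResidueField p.ResidueField S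
  let e2 : p.ResidueField ⊗[R ⧸ I] (S ⧸ I.map (algebraMap R S)) ≃ₐ[p.ResidueField]
      p.ResidueField ⊗[R ⧸ I] ((R ⧸ I) ⊗[R] S) :=
    Algebra.TensorProduct.congr AlgEquiv.refl (Algebra.TensorProduct.quotIdealMapEquivQuotTensor S I)
  exact .of_equiv (e2.trans e1)

end Groth.Agent.Lib.Helper5.QRNil

namespace Groth.Agent.Lib.Helper5.QRNil

open TensorProduct

variable (A' B' : Type u) [CommRing A'] [CommRing B'] [Algebra A' B'] [Module.Flat A' B']
  [Algebra.FinitePresentation A' B'] (I : Ideal A')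

local notation "K" => Ideal.map (algebraMap A' B') I

set_option maxHeartbeats 1600000 in
theorem smooth_quotient (hI : ∀ x ∈ I, IsNilpotent x) (r : ℕ) (f' : Fin r → B')
    (hq : CAlgX.IsQuasiRegular
      (fun i => Ideal.Quotient.mk (Ideal.map (algebraMap A' B') I) (f' i)))
    (hsm : Algebra.Smooth (A' ⧸ I)
      ((B' ⧸ Ideal.map (algebraMap A' B') I) ⧸
        Ideal.span (Set.range (fun i => Ideal.Quotient.mk (Ideal.map (algebraMap A' B') I) (f' i))))) :
    Algebra.Smooth A' (B' ⧸ Ideal.span (Set.range f')) := by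
  classical
  have hflat : Module.Flat (A' ⧸ I)
      ((B' ⧸ Ideal.map (algebraMap A' B') I) ⧸
        Ideal.span (Set.range (fun i => Ideal.Quotient.mk (Ideal.map (algebraMap A' B') I) (f' i)))) :=
    inferInstance
  have hfl : Module.Flat A' (B' ⧸ Ideal.span (Set.range f')) :=
    flat_quotient A' B' I hI r f' hq hflat
  have hfp : Algebra.FinitePresentation A' (B' ⧸ Ideal.span (Set.range f')) :=
    Algebra.FinitePresentation.quotient ⟨(Finset.univ.image f'), by simp⟩
  refine smooth_of_mod_nil I hI ?_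
  have h1 : Ideal.span (Set.range (fun i => Ideal.Quotient.mk K (f' i))) =
      (Ideal.span (Set.range f')).map (Ideal.Quotient.mk K) := by
    rw [Ideal.map_span, ← Set.range_comp]; rfl
  have h2 : I.map (algebraMap A' (B' ⧸ Ideal.span (Set.range f'))) =
      (K).map (Ideal.Quotient.mk (Ideal.span (Set.range f'))) := by
    rw [Ideal.map_map]; rfl
  let e0 : ((B' ⧸ K) ⧸ Ideal.span (Set.range (fun i => Ideal.Quotient.mk K (f' i)))) ≃+*
      ((B' ⧸ Ideal.span (Set.range f')) ⧸ I.map (algebraMap A' (B' ⧸ Ideal.span (Set.range f')))) :=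
    (Ideal.quotEquivOfEq h1).trans
      ((DoubleQuot.quotQuotEquivComm K (Ideal.span (Set.range f'))).trans
        (Ideal.quotEquivOfEq h2.symm))
  let e : ((B' ⧸ K) ⧸ Ideal.span (Set.range (fun i => Ideal.Quotient.mk K (f' i)))) ≃ₐ[A' ⧸ I]
      ((B' ⧸ Ideal.span (Set.range f')) ⧸ I.map (algebraMap A' (B' ⧸ Ideal.span (Set.range f')))) :=
    AlgEquiv.ofRingEquiv (f := e0) (fun x => by
      obtain ⟨a, rfl⟩ := Ideal.Quotient.mk_surjective x
      rfl)
  exact Algebra.Smooth.of_equiv e

end Groth.Agent.Lib.Helper5.QRNil
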