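import Groth.Agent.Lib.Helper5.RegQuot
import Groth.Agent.Lib.Helper5.RegSmoothPerfect
import Mathlib

set_option autoImplicit false
universe u

namespace Groth.Agent.Lib.Helper5.RegAdjoinRoot

open IsLocalRing Polynomial

section quot

variable {B : Type u} [CommRing B] [IsNoetherianRing B] (t : B) (q : Ideal B) [hq : q.IsPrime]

theorem regular_localization_of_quotient (ht : t ∈ q) (hreg : t ∈ nonZeroDivisors B)
    (hB : IsRegularRing (B ⧸ Ideal.span ({t} : Set B))) :
    IsRegularLocalRing (Localization.AtPrime q) := by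
  let I : Ideal B := Ideal.span ({t} : Set B)
  let Bq := Localization.AtPrime q
  have hIq : I ≤ q := by
    rw [Ideal.span_le]
    intro x hx
    rw [Set.mem_singleton_iff] at hx
    rw [hx]
    exact ht
  let mk := Ideal.Quotient.mk I
  let qb : Ideal (B ⧸ I) := q.map mk
  have hqb : qb.IsPrime := Ideal.map_isPrime_of_surjective Ideal.Quotient.mk_surjective (by
    rw [Ideal.mk_ker]
    exact hIq)
  have hsub : Algebra.algebraMapSubmonoid (B ⧸ I) q.primeCompl = qb.primeCompl := by
    ext x
    constructor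
    · rintro ⟨y, hy, rfl⟩
      intro hmem
      exact hy ((Ideal.mem_quotient_iff_mem hIq).1 hmem)
    · intro hx
      obtain ⟨y, rfl⟩ := Ideal.Quotient.mk_surjective x
      refine ⟨y, ?_, rfl⟩
      intro hy
      exact hx ((Ideal.mem_quotient_iff_mem hIq).2 hy)
  have hloc : IsLocalization (Algebra.algebraMapSubmonoid (B ⧸ I) q.primeCompl)
      (Bq ⧸ I.map (algebraMap B Bq)) := inferInstance
  rw [hsub] at hloc
  have hreg1 : IsRegularLocalRing (Localization.AtPrime qb) :=
    IsRegularRing.isRegularLocalRing_localization qb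
  let e : Localization.AtPrime qb ≃ₐ[B ⧸ I] (Bq ⧸ I.map (algebraMap B Bq)) :=
    IsLocalization.algEquiv qb.primeCompl _ _
  have hreg2 : IsRegularLocalRing (Bq ⧸ I.map (algebraMap B Bq)) :=
    IsRegularLocalRing.of_ringEquiv e.toRingEquiv
  have hmap : I.map (algebraMap B Bq) = Ideal.span ({algebraMap B Bq t} : Set Bq) := by
    rw [Ideal.map_span, Set.image_singleton]
  rw [hmap] at hreg2
  have htm : algebraMap B Bq t ∈ maximalIdeal Bq := by
    rw [← Localization.AtPrime.map_eq_maximalIdeal]
    exact Ideal.mem_map_of_mem _ ht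
  have hnzd : algebraMap B Bq t ∈ nonZeroDivisors Bq :=
    IsLocalization.map_nonZeroDivisors_le q.primeCompl Bq ⟨t, hreg, rfl⟩
  exact Groth.Agent.Lib.Helper5.RegQuot.isRegularLocalRing_of_quotient htm
    (Module.Flat.isSMulRegular_of_nonZeroDivisors hnzd)

end quot

section main

variable (A : Type u) [CommRing A] (s : A) (e : ℕ) (he : 0 < e)
include he

noncomputable def toQuot : AdjoinRoot (X ^ e - C s : A[X]) →+* A ⧸ Ideal.span ({s} : Set A) :=
  AdjoinRoot.lift (Ideal.Quotient.mk _) 0 (by
    rw [eval₂_sub, eval₂_X_pow, eval₂_C, zero_pow he.ne', zero_sub, neg_eq_zero,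
      Ideal.Quotient.eq_zero_iff_mem]
    exact Ideal.subset_span rfl)

theorem toQuot_of (a : A) : toQuot A s e he (AdjoinRoot.of _ a) = Ideal.Quotient.mk _ a := by
  unfold toQuot
  rw [AdjoinRoot.lift_of]

theorem toQuot_root : toQuot A s e he (AdjoinRoot.root _) = 0 := by
  unfold toQuot
  rw [AdjoinRoot.lift_root]

theorem toQuot_surjective : Function.Surjective (toQuot A s e he) := by
  intro x
  obtain ⟨a, rfl⟩ := Ideal.Quotient.mk_surjective x
  exact ⟨AdjoinRoot.of _ a, toQuot_of A s e he a⟩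

omit he in
theorem root_pow : (AdjoinRoot.root (X ^ e - C s : A[X])) ^ e = AdjoinRoot.of _ s := by
  have h := AdjoinRoot.mk_self (f := (X ^ e - C s : A[X]))
  rw [map_sub, map_pow, AdjoinRoot.mk_X, AdjoinRoot.mk_C, sub_eq_zero] at h
  exact h

theorem ker_toQuot : RingHom.ker (toQuot A s e he) =
    Ideal.span ({AdjoinRoot.root (X ^ e - C s : A[X])} : Set _) := by
  apply le_antisymm
  · intro b hb
    rw [RingHom.mem_ker] at hb
    obtain ⟨g, rfl⟩ := AdjoinRoot.mk_surjective b
    have h1 : toQuot A s e he (AdjoinRoot.mk _ g) = Ideal.Quotient.mk _ (g.coeff 0) := by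
      unfold toQuot
      rw [AdjoinRoot.lift_mk, eval₂_at_zero]
    rw [h1, Ideal.Quotient.eq_zero_iff_mem] at hb
    obtain ⟨a, ha⟩ := Ideal.mem_span_singleton'.mp hb
    have h2 : AdjoinRoot.mk (X ^ e - C s : A[X]) g =
        AdjoinRoot.mk _ (divX g) * AdjoinRoot.root _ +
          AdjoinRoot.of _ a * (AdjoinRoot.root (X ^ e - C s : A[X])) ^ e := by
      conv_lhs => rw [← divX_mul_X_add g]
      rw [map_add, map_mul, AdjoinRoot.mk_X, AdjoinRoot.mk_C, ← ha, map_mul, root_pow]
    rw [h2]
    have hroot : AdjoinRoot.root (X ^ e - C s : A[X]) ∈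
        Ideal.span ({AdjoinRoot.root (X ^ e - C s : A[X])} : Set _) :=
      Ideal.subset_span (Set.mem_singleton _)
    refine Ideal.add_mem _ (Ideal.mul_mem_left _ _ hroot) ?_
    exact Ideal.mul_mem_left _ _ (Ideal.pow_mem_of_mem _ hroot e he)
  · rw [Ideal.span_le]
    intro x hx
    rw [Set.mem_singleton_iff] at hx
    rw [hx, SetLike.mem_coe, RingHom.mem_ker]
    exact toQuot_root A s e he

noncomputable def quotEquiv :
    (AdjoinRoot (X ^ e - C s : A[X]) ⧸ Ideal.span ({AdjoinRoot.root (X ^ e - C s : A[X])} : Set _))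
      ≃+* A ⧸ Ideal.span ({s} : Set A) :=
  (Ideal.quotEquivOfEq (ker_toQuot A s e he).symm).trans
    (RingHom.quotientKerEquivOfSurjective (toQuot_surjective A s e he))

theorem root_mem_nonZeroDivisors [IsDomain A] (hs : s ≠ 0) :
    AdjoinRoot.root (X ^ e - C s : A[X]) ∈ nonZeroDivisors (AdjoinRoot (X ^ e - C s : A[X])) := by
  have hmonic : (X ^ e - C s : A[X]).Monic := monic_X_pow_sub_C s he.ne'
  have := hmonic.free_adjoinRoot
  have : Module.IsTorsionFree A (AdjoinRoot (X ^ e - C s : A[X])) := inferInstance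
  rw [mem_nonZeroDivisors_iff_right]
  intro b hb
  have h1 : b * (AdjoinRoot.root (X ^ e - C s : A[X])) ^ e = 0 := by
    rw [← mul_pow_sub_one he.ne' (AdjoinRoot.root (X ^ e - C s : A[X])), ← mul_assoc, hb, zero_mul]
  rw [root_pow, ← AdjoinRoot.algebraMap_eq, mul_comm, ← Algebra.smul_def] at h1
  exact (smul_eq_zero_iff_right hs).mp h1

theorem formallySmooth_away (u : A) (hu : (e : A) * u = 1) :
    Algebra.FormallySmooth A
      (Localization.Away (AdjoinRoot.of (X ^ e - C s : A[X]) s)) := by
  have hmonic : (X ^ e - C s : A[X]).Monic := monic_X_pow_sub_C s he.ne'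
  let P : StandardEtalePair A :=
    { f := X ^ e - C s
      monic_f := hmonic
      g := C s
      cond := ⟨C u * X, -1, 1, by
        rw [derivative_sub, derivative_X_pow, derivative_C, sub_zero, pow_one]
        have h1 : (C (e : A) * X ^ (e - 1)) * (C u * X) = C ((e : A) * u) * X ^ e := by
          rw [← pow_sub_one_mul he.ne' (X : A[X]), C_mul]
          ring
        rw [h1, hu, C_1]
        ring⟩ }
  have h : AdjoinRoot.mk P.f P.g = AdjoinRoot.of (X ^ e - C s : A[X]) s := AdjoinRoot.mk_C s
  have hfs : Algebra.FormallySmooth A (Localization.Away (AdjoinRoot.mk P.f P.g)) :=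
    Algebra.FormallySmooth.of_equiv P.equivAwayAdjoinRoot
  rw [h] at hfs
  exact hfs

theorem isRegularRing_adjoinRoot [IsLocalRing A] [IsRegularRing A] (hs : s ≠ 0)
    (hreg : IsRegularRing (A ⧸ Ideal.span ({s} : Set A))) (heu : IsUnit (e : A)) :
    IsRegularRing (AdjoinRoot (X ^ e - C s : A[X])) := by
  have hmonic : (X ^ e - C s : A[X]).Monic := monic_X_pow_sub_C s he.ne'
  have hfin : Module.Finite A (AdjoinRoot (X ^ e - C s : A[X])) := hmonic.finite_adjoinRoot
  have hnoeth : IsNoetherianRing (AdjoinRoot (X ^ e - C s : A[X])) :=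
    IsNoetherianRing.of_finite A _
  have hfp : Algebra.FinitePresentation A (AdjoinRoot (X ^ e - C s : A[X])) :=
    Algebra.FinitePresentation.of_finiteType.mp inferInstance
  have hAreg : IsRegularLocalRing A := IsRegularLocalRing.of_isRegularRing_of_isLocalRing A
  have hAdom : IsDomain A := Groth.Agent.Lib.helper19.isDomain_of_isRegularLocalRing A
  rw [isRegularRing_iff]
  intro q hq
  by_cases hsq : AdjoinRoot.of (X ^ e - C s : A[X]) s ∈ q
  · have hroot : AdjoinRoot.root (X ^ e - C s : A[X]) ∈ q := by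
      rw [← root_pow] at hsq
      exact hq.mem_of_pow_mem e hsq
    apply regular_localization_of_quotient _ q hroot (root_mem_nonZeroDivisors A s e he hs)
    exact IsRegularRing.of_ringEquiv (quotEquiv A s e he).symm
  · obtain ⟨u, hu⟩ := heu.exists_right_inv
    have hfs := formallySmooth_away A s e he u hu
    have hsub := (Algebra.basicOpen_subset_smoothLocus_iff (R := A)
      (f := AdjoinRoot.of (X ^ e - C s : A[X]) s)).2 hfs
    have hmem : (⟨q, hq⟩ : PrimeSpectrum _) ∈ Algebra.smoothLocus A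
        (AdjoinRoot (X ^ e - C s : A[X])) := hsub hsq
    have hsm : Algebra.IsSmoothAt A q := hmem
    exact Groth.Agent.Lib.Helper5.RegSmoothCore.regular_of_isSmoothAt A _ q

end main

end Groth.Agent.Lib.Helper5.RegAdjoinRoot
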