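import Groth.Agent.Lib.Helper5.RegAdjoinRoot2
import Groth.Agent.Lib.Helper5.IrredNZD
import Groth.Agent.Lib.Helper5.RegSmoothGlobal
import Mathlib

set_option autoImplicit false
universe u

namespace Groth.Agent.Lib.Helper5.RegAdjoinRoot

open IsLocalRing Polynomial TensorProduct

theorem smooth_iff_isRegularRing_tensor (k : Type u) [Field k] (T : Type u) [CommRing T]
    [Algebra k T] [Algebra.FiniteType k T] :
    Algebra.Smooth k T ↔ IsRegularRing (AlgebraicClosure k ⊗[k] T) := by
  constructor
  · intro h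
    have : Algebra.Smooth (AlgebraicClosure k) (AlgebraicClosure k ⊗[k] T) := inferInstance
    exact Groth.Agent.Lib.Helper5.RegSmooth.isRegularRing_of_smooth (AlgebraicClosure k) _
  · intro h
    have : Algebra.Smooth (AlgebraicClosure k) (AlgebraicClosure k ⊗[k] T) :=
      Groth.Agent.Lib.Helper5.RegSmoothCore.smooth_of_isRegularRing (AlgebraicClosure k) _
    exact Algebra.Smooth.of_smooth_tensorProduct_of_faithfullyFlat (AlgebraicClosure k)

theorem tmul_mem_nonZeroDivisors (k : Type u) [Field k] (K : Type u) [Field K] [Algebra k K]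
    (A : Type u) [CommRing A] [Algebra k A] (s : A) (hs : s ∈ nonZeroDivisors A) :
    ((1 : K) ⊗ₜ[k] s) ∈ nonZeroDivisors (K ⊗[k] A) := by
  have hinj : Function.Injective (LinearMap.mulLeft k s) := by
    intro x y hxy
    have : s * (x - y) = 0 := by
      rw [mul_sub, sub_eq_zero]
      exact hxy
    have h2 := (mem_nonZeroDivisors_iff.1 hs).1 _ this
    exact sub_eq_zero.1 h2
  have h2 : Function.Injective ((LinearMap.mulLeft k s).lTensor K) :=
    Module.Flat.lTensor_preserves_injective_linearMap _ hinj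
  rw [mem_nonZeroDivisors_iff_right]
  intro z hz
  apply h2
  rw [map_zero]
  have key : ∀ z : K ⊗[k] A, (LinearMap.mulLeft k s).lTensor K z = z * ((1 : K) ⊗ₜ[k] s) := by
    intro z
    induction z using TensorProduct.induction_on with
    | zero => simp
    | tmul a b =>
      rw [LinearMap.lTensor_tmul, LinearMap.mulLeft_apply, Algebra.TensorProduct.tmul_mul_tmul,
        mul_one, mul_comm]
    | add x y hx hy => rw [map_add, hx, hy, add_mul]
  rw [key, hz]

theorem smooth_adjoinRoot_iff (k A : Type u) [Field k] [CommRing A] [Algebra k A]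
    [Algebra.Smooth k A] (s : A) (hs : Irreducible s) (e : ℕ) (he : 2 ≤ e) (hek : (e : k) ≠ 0) :
    Algebra.Smooth k (AdjoinRoot (X ^ e - C s : A[X])) ↔
      Algebra.Smooth k (A ⧸ Ideal.span ({s} : Set A)) := by
  let K := AlgebraicClosure k
  have hAft : Algebra.FiniteType k A := inferInstance
  have hAreg : IsRegularRing A := Groth.Agent.Lib.Helper5.RegSmooth.isRegularRing_of_smooth k A
  have he0 : 0 < e := by omega
  have hmonic : (X ^ e - C s : A[X]).Monic := monic_X_pow_sub_C s he0.ne'
  have hBfin : Module.Finite A (AdjoinRoot (X ^ e - C s : A[X])) := hmonic.finite_adjoinRoot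
  have hBft' : Algebra.FiniteType A (AdjoinRoot (X ^ e - C s : A[X])) := inferInstance
  have hBft : Algebra.FiniteType k (AdjoinRoot (X ^ e - C s : A[X])) :=
    Algebra.FiniteType.trans hAft hBft'
  have hQft : Algebra.FiniteType k (A ⧸ Ideal.span ({s} : Set A)) :=
    Algebra.FiniteType.of_surjective (Ideal.Quotient.mkₐ k _) Ideal.Quotient.mk_surjective
  rw [smooth_iff_isRegularRing_tensor k (AdjoinRoot (X ^ e - C s : A[X])),
    smooth_iff_isRegularRing_tensor k (A ⧸ Ideal.span ({s} : Set A))]
  have hAbar : IsRegularRing (K ⊗[k] A) := (smooth_iff_isRegularRing_tensor k A).1 inferInstance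
  let sb : K ⊗[k] A := (1 : K) ⊗ₜ[k] s
  have hpoly : (X ^ e - C s : A[X]).map
      (Algebra.TensorProduct.includeRight : A →ₐ[k] K ⊗[k] A).toRingHom = X ^ e - C sb := by
    rw [Polynomial.map_sub, Polynomial.map_pow, Polynomial.map_X, Polynomial.map_C]
    rfl
  let e1 : K ⊗[k] AdjoinRoot (X ^ e - C s : A[X]) ≃ₐ[K] AdjoinRoot (X ^ e - C sb) :=
    AdjoinRoot.tensorAlgEquiv (X ^ e - C s : A[X]) (X ^ e - C sb) hpoly
  let e2 : K ⊗[k] (A ⧸ Ideal.span ({s} : Set A)) ≃ₐ[K]
      (K ⊗[k] A) ⧸ (Ideal.span ({s} : Set A)).map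
        (Algebra.TensorProduct.includeRight (A := K) (R := k)) :=
    Algebra.TensorProduct.tensorQuotientEquiv (R := k) K A K (Ideal.span ({s} : Set A))
  have hideal : (Ideal.span ({s} : Set A)).map
      (Algebra.TensorProduct.includeRight (A := K) (R := k)) = Ideal.span ({sb} : Set (K ⊗[k] A)) := by
    rw [Ideal.map_span, Set.image_singleton]
    rfl
  have hsnzd : s ∈ nonZeroDivisors A := by
    apply Groth.Agent.Lib.Helper5.IrredNZD.mem_nonZeroDivisors_of_irreducible _ s hs
    intro m hm
    have : IsRegularLocalRing (Localization.AtPrime m) :=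
      IsRegularRing.isRegularLocalRing_localization m
    exact Groth.Agent.Lib.helper19.isDomain_of_isRegularLocalRing _
  have hsb : sb ∈ nonZeroDivisors (K ⊗[k] A) := tmul_mem_nonZeroDivisors k K A s hsnzd
  have heu : IsUnit ((e : ℕ) : K ⊗[k] A) := by
    have h1 : ((e : ℕ) : K ⊗[k] A) = algebraMap k (K ⊗[k] A) (e : k) := (map_natCast _ e).symm
    rw [h1]
    exact (IsUnit.mk0 _ hek).map _
  constructor
  · intro h
    have h1 : IsRegularRing (AdjoinRoot (X ^ e - C sb)) := IsRegularRing.of_ringEquiv e1.toRingEquiv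
    have h2 := isRegularRing_quotient_of_adjoinRoot (K ⊗[k] A) sb e he
    have h3 : IsRegularRing ((K ⊗[k] A) ⧸ (Ideal.span ({s} : Set A)).map
        (Algebra.TensorProduct.includeRight (A := K) (R := k))) :=
      IsRegularRing.of_ringEquiv (Ideal.quotEquivOfEq hideal.symm)
    exact IsRegularRing.of_ringEquiv e2.symm.toRingEquiv
  · intro h
    have h3 : IsRegularRing ((K ⊗[k] A) ⧸ (Ideal.span ({s} : Set A)).map
        (Algebra.TensorProduct.includeRight (A := K) (R := k))) :=
      IsRegularRing.of_ringEquiv e2.toRingEquiv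
    have h2 : IsRegularRing ((K ⊗[k] A) ⧸ Ideal.span ({sb} : Set (K ⊗[k] A))) :=
      IsRegularRing.of_ringEquiv (Ideal.quotEquivOfEq hideal)
    have h1 := isRegularRing_adjoinRoot' (K ⊗[k] A) sb e he0 hsb h2 heu
    exact IsRegularRing.of_ringEquiv e1.symm.toRingEquiv

end Groth.Agent.Lib.Helper5.RegAdjoinRoot
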