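import Groth.Agent.Lib.Helper5.RegCompletion
import Mathlib

set_option autoImplicit false
set_option linter.unusedSectionVars false
universe u

namespace Groth.Agent.Lib.Helper5.RegCompletion

theorem regular_of_le (R : Type u) [CommRing R] (p q : Ideal R) [p.IsPrime] [q.IsPrime]
    (hpq : p ≤ q) [IsRegularLocalRing (Localization.AtPrime q)] :
    IsRegularLocalRing (Localization.AtPrime p) := by
  have hR : IsRegularRing (Localization.AtPrime q) := isRegularRing_of_isRegularLocalRing _
  have hle : q.primeCompl ≤ p.primeCompl := fun x hx hxp => hx (hpq hxp)
  let _ : Algebra (Localization q.primeCompl) (Localization p.primeCompl) :=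
    IsLocalization.localizationAlgebraOfSubmonoidLe _ _ q.primeCompl p.primeCompl hle
  have htow : IsScalarTower R (Localization q.primeCompl) (Localization p.primeCompl) :=
    IsLocalization.localization_isScalarTower_of_submonoid_le _ _ q.primeCompl p.primeCompl hle
  have hloc : IsLocalization (p.primeCompl.map (algebraMap R (Localization q.primeCompl)))
      (Localization p.primeCompl) :=
    IsLocalization.isLocalization_of_submonoid_le _ _ q.primeCompl p.primeCompl hle
  have hR2 : IsRegularRing (Localization p.primeCompl) :=
    Groth.Agent.Lib.Helper5.RegularProd.isRegularRing_of_isLocalization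
      (p.primeCompl.map (algebraMap R (Localization q.primeCompl))) (Localization p.primeCompl)
  exact IsRegularLocalRing.of_isRegularRing_of_isLocalRing _

end Groth.Agent.Lib.Helper5.RegCompletion
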