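import Groth.Agent.Lib.Helper5.RegSmoothPerfect
import Mathlib

set_option autoImplicit false
set_option linter.unusedSectionVars false
universe u

namespace Groth.Agent.Lib.Helper5.RegKaehler

open IsLocalRing TensorProduct KaehlerDifferential

variable (k B : Type u) [Field k] [CommRing B] [Algebra k B] [IsLocalRing B]

theorem kerCotangentToTensor_injective
    (hres : Function.Bijective (algebraMap k (ResidueField B))) :
    Function.Injective (kerCotangentToTensor k B (ResidueField B)) := by
  have hf : Function.Surjective (algebraMap B (ResidueField B)) := residue_surjective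
  let e : k ≃ₐ[k] ResidueField B := AlgEquiv.ofBijective (Algebra.ofId k (ResidueField B)) hres
  let g : ResidueField B →ₐ[k]
      B ⧸ (RingHom.ker (IsScalarTower.toAlgHom k B (ResidueField B)).toRingHom ^ 2) :=
    (Algebra.ofId k _).comp e.symm.toAlgHom
  have hg : (IsScalarTower.toAlgHom k B (ResidueField B)).kerSquareLift.comp g =
      AlgHom.id k (ResidueField B) := by
    ext a
    obtain ⟨c, rfl⟩ := hres.2 a
    have h1 : g (algebraMap k _ c) = algebraMap k _ c := AlgHom.commutes g c
    rw [AlgHom.comp_apply, h1, AlgHom.commutes, AlgHom.id_apply]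
  obtain ⟨l, hl⟩ := (retractionKerCotangentToTensorEquivSection (R := k) hf).symm ⟨g, hg⟩
  exact Function.LeftInverse.injective (g := l) (fun x => LinearMap.congr_fun hl x)

theorem kerCotangentToTensor_surjective
    (hres : Function.Bijective (algebraMap k (ResidueField B))) :
    Function.Surjective (kerCotangentToTensor k B (ResidueField B)) := by
  have hf : Function.Surjective (algebraMap B (ResidueField B)) := residue_surjective
  have hex := exact_kerCotangentToTensor_mapBaseChange k B (ResidueField B) hf
  have hsub : Subsingleton (Ω[ResidueField B⁄k]) :=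
    KaehlerDifferential.subsingleton_of_surjective k (ResidueField B) hres.2
  intro y
  exact (hex y).1 (Subsingleton.elim _ _)


theorem finrank_tensor_eq (hres : Function.Bijective (algebraMap k (ResidueField B))) :
    Module.finrank (ResidueField B) (ResidueField B ⊗[B] Ω[B⁄k]) =
      Module.finrank (ResidueField B) (CotangentSpace B) := by
  let f : CotangentSpace B →ₗ[B] ResidueField B ⊗[B] Ω[B⁄k] :=
    kerCotangentToTensor k B (ResidueField B) ∘ₗ
      (Ideal.Cotangent.equivOfEq (maximalIdeal B) (RingHom.ker (algebraMap B (ResidueField B)))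
        (ker_residue (R := B)).symm).toLinearMap
  have hf : Function.Bijective f :=
    ⟨(kerCotangentToTensor_injective k B hres).comp (LinearEquiv.injective _),
      (kerCotangentToTensor_surjective k B hres).comp (LinearEquiv.surjective _)⟩
  let f' : CotangentSpace B →ₗ[ResidueField B] ResidueField B ⊗[B] Ω[B⁄k] :=
    f.extendScalarsOfSurjective residue_surjective
  have hf' : Function.Bijective f' := hf
  exact (LinearEquiv.ofBijective f' hf').finrank_eq.symm

theorem regular_of_free (hres : Function.Bijective (algebraMap k (ResidueField B)))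
    [IsNoetherianRing B] (d : ℕ) (hd : ringKrullDim B = (d : WithBot ℕ∞))
    [Module.Free B Ω[B⁄k]] (hrank : Module.finrank B Ω[B⁄k] = d) : IsRegularLocalRing B := by
  rw [IsRegularLocalRing.iff_finrank_cotangentSpace, ← finrank_tensor_eq k B hres,
    Module.finrank_baseChange, hrank, hd]

theorem formallySmooth_of_regular [PerfectField k] [Algebra.EssFiniteType k B]
    [IsRegularLocalRing B] : Algebra.FormallySmooth k B := by
  let S₀ := Algebra.EssFiniteType.subalgebra k B
  let q : Ideal S₀ := (maximalIdeal B).comap (algebraMap S₀ B)
  have hq : q.IsPrime := Ideal.comap_isPrime _ _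
  have hM : Algebra.EssFiniteType.submonoid k B = q.primeCompl := by
    ext x
    change IsUnit (algebraMap S₀ B x) ↔ ¬ (algebraMap S₀ B x ∈ maximalIdeal B)
    rw [mem_maximalIdeal, mem_nonunits_iff, not_not]
  have hloc : IsLocalization q.primeCompl B := hM ▸ Algebra.EssFiniteType.isLocalization k B
  let e : Localization.AtPrime q ≃ₐ[S₀] B := IsLocalization.algEquiv q.primeCompl _ _
  have hreg : IsRegularLocalRing (Localization.AtPrime q) :=
    IsRegularLocalRing.of_ringEquiv e.symm.toRingEquiv
  have hsm : Algebra.FormallySmooth k (Localization.AtPrime q) :=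
    Groth.Agent.Lib.Helper5.RegSmoothCore.isSmoothAt_of_regular k S₀ q
  exact Algebra.FormallySmooth.of_equiv (e.restrictScalars k)

theorem free_of_regular (hres : Function.Bijective (algebraMap k (ResidueField B)))
    [PerfectField k] [Algebra.EssFiniteType k B] [IsRegularLocalRing B]
    (d : ℕ) (hd : ringKrullDim B = (d : WithBot ℕ∞)) :
    Module.Free B Ω[B⁄k] ∧ Module.finrank B Ω[B⁄k] = d := by
  have hsm := formallySmooth_of_regular k B
  have hproj : Module.Projective B Ω[B⁄k] := (Algebra.formallySmooth_iff k B).1 hsm |>.1
  have hfree : Module.Free B Ω[B⁄k] := Module.free_of_flat_of_isLocalRing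
  refine ⟨hfree, ?_⟩
  have h1 := finrank_tensor_eq k B hres
  rw [Module.finrank_baseChange] at h1
  have h2 := (IsRegularLocalRing.iff_finrank_cotangentSpace B).1 inferInstance
  rw [hd, ← h1] at h2
  exact_mod_cast h2

end Groth.Agent.Lib.Helper5.RegKaehler
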