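import Groth.Agent.Lib.helper19.RegularLocal
import Mathlib

set_option autoImplicit false
set_option linter.unusedSectionVars false
universe u

namespace Groth.Agent.Lib.Helper5.RegLimit

open IsLocalRing

variable {R : Type u} [CommRing R]

def I (x : ℕ → R) (n : ℕ) : Ideal R := Ideal.span (Set.range fun l : Fin n => x l)

theorem mem_I {x : ℕ → R} {n : ℕ} {y : R} :
    y ∈ I x n ↔ ∃ c : ℕ → R, ∑ l ∈ Finset.range n, c l * x l = y := by
  unfold I
  rw [Ideal.mem_span_range_iff_exists_fun]
  constructor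
  · rintro ⟨c, rfl⟩
    refine ⟨fun l => if h : l < n then c ⟨l, h⟩ else 0, ?_⟩
    rw [Finset.sum_range]
    apply Finset.sum_congr rfl
    intro l _
    simp
  · rintro ⟨c, rfl⟩
    exact ⟨fun l => c l, (Finset.sum_range (fun l => c l * x l)).symm⟩

theorem I_zero (x : ℕ → R) : I x 0 = ⊥ := by
  ext y
  rw [mem_I]
  simp [eq_comm]

theorem I_succ (x : ℕ → R) (n : ℕ) : I x (n + 1) = I x n ⊔ Ideal.span {x n} := by
  ext y
  rw [mem_I, Submodule.mem_sup]
  constructor
  · rintro ⟨c, rfl⟩
    rw [Finset.sum_range_succ]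
    exact ⟨_, mem_I.2 ⟨c, rfl⟩, _, Ideal.mem_span_singleton'.2 ⟨c n, rfl⟩, rfl⟩
  · rintro ⟨y1, h1, y2, h2, rfl⟩
    obtain ⟨c, rfl⟩ := mem_I.1 h1
    obtain ⟨r, rfl⟩ := Ideal.mem_span_singleton'.1 h2
    refine ⟨Function.update c n r, ?_⟩
    rw [Finset.sum_range_succ, Function.update_self]
    congr 1
    apply Finset.sum_congr rfl
    intro l hl
    rw [Function.update_of_ne (Finset.mem_range.1 hl).ne]

theorem I_mono (x : ℕ → R) {m n : ℕ} (h : m ≤ n) : I x m ≤ I x n := by
  induction n, h using Nat.le_induction with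
  | base => exact le_rfl
  | succ n _ ih => rw [I_succ]; exact ih.trans le_sup_left

theorem mem_I_succ (x : ℕ → R) (n : ℕ) : x n ∈ I x (n + 1) := by
  rw [I_succ]
  exact Ideal.mem_sup_right (Ideal.mem_span_singleton_self _)

theorem I_congr {x x' : ℕ → R} {n : ℕ} (h : ∀ l < n, x l = x' l) : I x n = I x' n := by
  unfold I
  congr 2
  ext l
  exact h l l.2

theorem map_I {S : Type*} [CommRing S] (φ : R →+* S) (x : ℕ → R) (n : ℕ) :
    (I x n).map φ = I (fun l => φ (x l)) n := by
  unfold I
  rw [Ideal.map_span, ← Set.range_comp]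
  rfl

def IndepN [IsLocalRing R] (x : ℕ → R) (n : ℕ) : Prop :=
  ∀ c : ℕ → R, ∑ l ∈ Finset.range n, c l * x l ∈ maximalIdeal R ^ 2 →
    ∀ l < n, c l ∈ maximalIdeal R

theorem IndepN.congr [IsLocalRing R] {x x' : ℕ → R} {n : ℕ} (h : ∀ l < n, x l = x' l)
    (H : IndepN x n) : IndepN x' n := by
  intro c hc
  apply H c
  rwa [Finset.sum_congr rfl (fun l hl => by rw [h l (Finset.mem_range.1 hl)])]

theorem IndepN.mono [IsLocalRing R] {x : ℕ → R} {m n : ℕ} (h : m ≤ n)
    (H : IndepN x n) : IndepN x m := by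
  intro c hc l hl
  have := H (fun l => if l < m then c l else 0) ?_ l (hl.trans_le h)
  · simpa [hl] using this
  · rw [← Finset.sum_subset (Finset.range_subset_range.2 h)]
    · rwa [Finset.sum_congr rfl (fun l hl => by rw [if_pos (Finset.mem_range.1 hl)])]
    · intro l _ hl
      rw [if_neg (by simpa using hl), zero_mul]

theorem IndepN.notMem [IsLocalRing R] {x : ℕ → R} {n : ℕ} (H : IndepN x (n + 1)) :
    x n ∉ I x n := by
  intro hx
  obtain ⟨c, hc⟩ := mem_I.1 hx
  have := H (Function.update c n (-1)) ?_ n (Nat.lt_succ_self n)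
  · rw [Function.update_self, neg_mem_iff] at this
    exact (maximalIdeal.isMaximal R).ne_top ((Ideal.eq_top_iff_one _).2 this)
  · rw [Finset.sum_range_succ, Function.update_self,
      Finset.sum_congr rfl (fun l hl => by
        rw [Function.update_of_ne (Finset.mem_range.1 hl).ne]), hc]
    simp

theorem IndepN.of_hom [IsLocalRing R] {S : Type*} [CommRing S] [IsLocalRing S] (φ : R →+* S)
    [IsLocalHom φ] {x : ℕ → R} {n : ℕ} (H : IndepN (fun l => φ (x l)) n) : IndepN x n := by
  intro c hc l hl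
  have h1 : ∑ l ∈ Finset.range n, φ (c l) * φ (x l) ∈ maximalIdeal S ^ 2 := by
    have h2 : φ (∑ l ∈ Finset.range n, c l * x l) ∈ (maximalIdeal R ^ 2).map φ :=
      Ideal.mem_map_of_mem _ hc
    rw [Ideal.map_pow] at h2
    have h3 : (maximalIdeal R).map φ ≤ maximalIdeal S := by
      rw [Ideal.map_le_iff_le_comap]
      intro r hr
      rw [Ideal.mem_comap, mem_maximalIdeal, mem_nonunits_iff] at *
      exact fun hu => hr (isUnit_of_map_unit φ r hu)
    have := Ideal.pow_right_mono h3 2 h2
    simpa [map_sum, map_mul] using this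
  have h4 := H (fun l => φ (c l)) h1 l hl
  rw [mem_maximalIdeal, mem_nonunits_iff] at *
  exact fun hu => h4 (hu.map φ)

theorem prime_I_aux (n : ℕ) : ∀ (R : Type u) [CommRing R] [IsRegularLocalRing R] (x : ℕ → R),
    (∀ l < n, x l ∈ maximalIdeal R) → IndepN x n → (I x n).IsPrime := by
  induction n with
  | zero =>
    intro R _ _ x _ _
    have := Groth.Agent.Lib.helper19.isDomain_of_isRegularLocalRing R
    rw [I_zero]
    exact Ideal.isPrime_bot
  | succ n ih =>
    intro R _ _ x hx H
    have hx0 : x 0 ∈ maximalIdeal R := hx 0 (Nat.succ_pos n)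
    have hx0' : x 0 ∉ maximalIdeal R ^ 2 := by
      intro h
      have := H (fun l => if l = 0 then 1 else 0) ?_ 0 (Nat.succ_pos n)
      · simp only [if_true] at this
        exact (maximalIdeal.isMaximal R).ne_top ((Ideal.eq_top_iff_one _).2 this)
      · rw [Finset.sum_eq_single 0]
        · simpa using h
        · intro l _ hl
          simp [hl]
        · intro h0
          exact absurd (Finset.mem_range.2 (Nat.succ_pos n)) h0
    have hreg := (Groth.Agent.Lib.helper19.isRegularLocalRing_quotient_span_singleton hx0 hx0').1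
    let mk := Ideal.Quotient.mk (Ideal.span ({x 0} : Set R))
    have hmk0 : mk (x 0) = 0 := Ideal.Quotient.eq_zero_iff_mem.2 (Ideal.mem_span_singleton_self _)
    let x' : ℕ → R ⧸ Ideal.span ({x 0} : Set R) := fun l => mk (x (l + 1))
    have hmax := Groth.Agent.Lib.helper19.maximalIdeal_quotient (Ideal.span ({x 0} : Set R))
    have hx' : ∀ l < n, x' l ∈ maximalIdeal (R ⧸ Ideal.span ({x 0} : Set R)) := by
      intro l hl
      rw [hmax]
      exact Ideal.mem_map_of_mem _ (hx (l + 1) (Nat.succ_lt_succ hl))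
    have hsurj : Function.Surjective mk := Ideal.Quotient.mk_surjective
    have key : ∀ (z : R) (c' : ℕ → R ⧸ Ideal.span ({x 0} : Set R)),
        ∑ l ∈ Finset.range n, c' l * x' l = mk z →
        ∃ c : ℕ → R, (∀ l, mk (c (l + 1)) = c' l) ∧
          ∑ l ∈ Finset.range (n + 1), c l * x l = z := by
      intro z c' hz
      choose c hc using fun l => hsurj (c' l)
      have h1 : mk (z - ∑ l ∈ Finset.range n, c l * x (l + 1)) = 0 := by
        rw [map_sub, ← hz, map_sum, sub_eq_zero]
        apply Finset.sum_congr rfl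
        intro l _
        rw [map_mul, hc]
      rw [Ideal.Quotient.eq_zero_iff_mem, Ideal.mem_span_singleton'] at h1
      obtain ⟨r, hr⟩ := h1
      refine ⟨fun l => Nat.casesOn l r c, fun l => hc l, ?_⟩
      rw [Finset.sum_range_succ']
      change ∑ l ∈ Finset.range n, c l * x (l + 1) + r * x 0 = z
      rw [hr]
      ring
    have hI' : IndepN x' n := by
      intro c' hc' l hl
      rw [hmax, ← Ideal.map_pow, Ideal.mem_map_iff_of_surjective mk hsurj] at hc'
      obtain ⟨z, hz, hz'⟩ := hc'
      obtain ⟨c, hc1, hc2⟩ := key z c' hz'.symm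
      have := H c (hc2 ▸ hz) (l + 1) (Nat.succ_lt_succ hl)
      rw [hmax, ← hc1 l]
      exact Ideal.mem_map_of_mem _ this
    have hprime := ih _ x' hx' hI'
    have hcomap : I x (n + 1) = (I x' n).comap mk := by
      ext z
      rw [Ideal.mem_comap, mem_I, mem_I]
      constructor
      · rintro ⟨c, rfl⟩
        refine ⟨fun l => mk (c (l + 1)), ?_⟩
        rw [Finset.sum_range_succ', map_add, map_mul, hmk0, mul_zero, add_zero, map_sum]
        apply Finset.sum_congr rfl
        intro l _
        rw [map_mul]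
      · rintro ⟨c', hc'⟩
        obtain ⟨c, _, hc2⟩ := key z c' hc'
        exact ⟨c, hc2⟩
    rw [hcomap]
    exact Ideal.comap_isPrime mk _

theorem prime_I (R : Type u) [CommRing R] [IsRegularLocalRing R] (x : ℕ → R) (n : ℕ)
    (hx : ∀ l < n, x l ∈ maximalIdeal R) (H : IndepN x n) : (I x n).IsPrime :=
  prime_I_aux n R x hx H

end Groth.Agent.Lib.Helper5.RegLimit
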