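import Groth.Agent.Lib.Helper5.RegLimitA
import Mathlib

set_option autoImplicit false
set_option linter.unusedSectionVars false
universe u

namespace Groth.Agent.Lib.Helper5.RegLimit

open IsLocalRing

variable {B : Type u} [CommRing B] [IsLocalRing B] [IsNoetherianRing B]

theorem I_le_of_mem {x : ℕ → B} {n : ℕ} {J : Ideal B} (h : ∀ l < n, x l ∈ J) : I x n ≤ J := by
  unfold I
  rw [Ideal.span_le]
  rintro _ ⟨l, rfl⟩
  exact h l l.2

theorem height_I {x : ℕ → B} {e : ℕ} (H : IndepN x e) (hp : ∀ j ≤ e, (I x j).IsPrime) :
    ∀ j ≤ e, (j : ℕ∞) ≤ (I x j).height := by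
  intro j
  induction j with
  | zero => intro _; simp
  | succ j ih =>
    intro hj
    have h1 := hp j (Nat.le_of_succ_le hj)
    have h2 := hp (j + 1) hj
    have hlt : I x j < I x (j + 1) := by
      refine lt_of_le_of_ne (I_mono x (Nat.le_succ j)) ?_
      intro heq
      exact (H.mono hj).notMem (heq ▸ mem_I_succ x j)
    have h3 := Ideal.height_add_one_le_of_lt_of_isPrime hlt
    have h4 := ih (Nat.le_of_succ_le hj)
    calc ((j + 1 : ℕ) : ℕ∞) = (j : ℕ∞) + 1 := by push_cast; rfl
      _ ≤ (I x j).height + 1 := by gcongr
      _ ≤ _ := h3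

theorem regular_of_chain {x : ℕ → B} {e : ℕ} (hm : I x e = maximalIdeal B) (H : IndepN x e)
    (hp : ∀ j ≤ e, (I x j).IsPrime) : IsRegularLocalRing B := by
  apply IsRegularLocalRing.of_spanFinrank_maximalIdeal_le
  have h1 := height_I H hp e le_rfl
  rw [hm] at h1
  have h2 : (maximalIdeal B).spanFinrank ≤ e := by
    rw [← hm]
    unfold I
    refine (Submodule.spanFinrank_span_le_ncard_of_finite (Set.finite_range _)).trans ?_
    rw [← Set.image_univ]
    refine (Set.ncard_image_le Set.finite_univ).trans ?_
    simp [Set.ncard_univ]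
  rw [← IsLocalRing.maximalIdeal_height_eq_ringKrullDim]
  have h3 : ((maximalIdeal B).spanFinrank : ℕ∞) ≤ (maximalIdeal B).height :=
    le_trans (by exact_mod_cast h2) h1
  exact_mod_cast h3

theorem exists_indep (T : Set B) (hT : T ⊆ maximalIdeal B) (hspan : Ideal.span T = maximalIdeal B) :
    ∃ (x : ℕ → B) (e : ℕ), (∀ l < e, x l ∈ T) ∧ I x e = maximalIdeal B ∧ IndepN x e := by
  have main : ∀ J : Ideal B, ∀ (x : ℕ → B) (n : ℕ), I x n = J → (∀ l < n, x l ∈ T) → IndepN x n →
      ∃ (x' : ℕ → B) (e : ℕ), (∀ l < e, x' l ∈ T) ∧ I x' e = maximalIdeal B ∧ IndepN x' e := by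
    intro J
    induction J using IsNoetherian.induction with
    | hgt J ih =>
      intro x n hJ hxT hInd
      by_cases hJm : J = maximalIdeal B
      · exact ⟨x, n, hxT, hJ.trans hJm, hInd⟩
      · have hJle : J ≤ maximalIdeal B := hJ ▸ I_le_of_mem (fun l hl => hT (hxT l hl))
        have hex : ∃ t ∈ T, t ∉ J ⊔ maximalIdeal B ^ 2 := by
          by_contra hcon
          push Not at hcon
          have h1 : maximalIdeal B ≤ J ⊔ maximalIdeal B • maximalIdeal B := by
            rw [← hspan, Ideal.span_le, hspan, smul_eq_mul, ← pow_two]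
            exact hcon
          have h2 := Submodule.le_of_le_smul_of_le_jacobson_bot
            (IsNoetherian.noetherian (maximalIdeal B)) (IsLocalRing.maximalIdeal_le_jacobson ⊥) h1
          exact hJm (le_antisymm hJle h2)
        obtain ⟨t, htT, htJ⟩ := hex
        let x' := Function.update x n t
        have hx'n : x' n = t := Function.update_self ..
        have hx'l : ∀ l < n, x' l = x l := fun l hl => Function.update_of_ne hl.ne _ _
        have hI' : I x' n = J := by rw [I_congr hx'l, hJ]
        have hxT' : ∀ l < n + 1, x' l ∈ T := by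
          intro l hl
          rcases Nat.lt_succ_iff_lt_or_eq.1 hl with h | rfl
          · rw [hx'l l h]; exact hxT l h
          · rw [hx'n]; exact htT
        have hgt : I x' (n + 1) > J := by
          rw [I_succ, hI', hx'n]
          refine lt_of_le_of_ne le_sup_left ?_
          intro heq
          apply htJ
          apply Ideal.mem_sup_left
          rw [heq]
          exact Ideal.mem_sup_right (Ideal.mem_span_singleton_self t)
        have hInd' : IndepN x' (n + 1) := by
          intro c hc
          rw [Finset.sum_range_succ, hx'n,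
            Finset.sum_congr rfl (fun l hl => by rw [hx'l l (Finset.mem_range.1 hl)])] at hc
          have hcn : c n ∈ maximalIdeal B := by
            by_contra hu
            rw [mem_maximalIdeal, mem_nonunits_iff, not_not] at hu
            obtain ⟨u, hu⟩ := hu
            apply htJ
            have h3 : t = (u⁻¹ : Bˣ) * (∑ l ∈ Finset.range n, c l * x l + c n * t) -
                (u⁻¹ : Bˣ) * ∑ l ∈ Finset.range n, c l * x l := by
              rw [← hu]
              ring_nf
              rw [Units.inv_mul, one_mul]
            rw [h3]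
            refine Ideal.sub_mem _ (Ideal.mem_sup_right (Ideal.mul_mem_left _ _ hc))
              (Ideal.mem_sup_left (Ideal.mul_mem_left _ _ ?_))
            rw [← hJ]
            exact mem_I.2 ⟨c, rfl⟩
          have h4 : c n * t ∈ maximalIdeal B ^ 2 := by
            rw [pow_two]
            exact Ideal.mul_mem_mul hcn (hT htT)
          have h5 : ∑ l ∈ Finset.range n, c l * x l ∈ maximalIdeal B ^ 2 := by
            have := Ideal.sub_mem _ hc h4
            rwa [add_sub_cancel_right] at this
          intro l hl
          rcases Nat.lt_succ_iff_lt_or_eq.1 hl with h | rfl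
          · exact hInd c h5 l h
          · exact hcn
        exact ih _ hgt x' (n + 1) rfl hxT' hInd'
  refine main ⊥ (fun _ => 0) 0 (I_zero _) (fun l hl => absurd hl (Nat.not_lt_zero l)) ?_
  intro c _ l hl
  exact absurd hl (Nat.not_lt_zero l)

end Groth.Agent.Lib.Helper5.RegLimit
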