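import Groth.Agent.Lib.Helper5.RegLimitB
import Mathlib

set_option autoImplicit false
set_option linter.unusedSectionVars false
universe u

namespace Groth.Agent.Lib.Helper5.RegLimit

open IsLocalRing

variable {ι : Type u} [Preorder ι] [Nonempty ι] [IsDirectedOrder ι]
  (G : ι → Type u) [∀ i, CommRing (G i)]
  (f : ∀ i j, i ≤ j → G i →+* G j) [DirectedSystem G (fun i j h ↦ f i j h)]

abbrev Lim : Type u := Ring.DirectLimit G (fun i j h ↦ f i j h)

noncomputable abbrev ofL (i : ι) : G i →+* Lim G f := Ring.DirectLimit.of G (fun i j h ↦ f i j h) i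

theorem ofL_f {i j : ι} (h : i ≤ j) (y : G i) : ofL G f j (f i j h y) = ofL G f i y :=
  Ring.DirectLimit.of_f h y

theorem exists_stage (s : Finset (Lim G f)) : ∃ i, ∀ z ∈ s, ∃ y, ofL G f i y = z := by
  classical
  induction s using Finset.induction_on with
  | empty => exact ⟨Classical.arbitrary ι, fun z hz => absurd hz (Finset.notMem_empty z)⟩
  | insert a s _ ih =>
    obtain ⟨i1, h1⟩ := ih
    obtain ⟨i2, y2, h2⟩ := Ring.DirectLimit.exists_of a
    obtain ⟨j, hj1, hj2⟩ := exists_ge_ge i1 i2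
    refine ⟨j, fun z hz => ?_⟩
    rcases Finset.mem_insert.1 hz with rfl | hz
    · exact ⟨f i2 j hj2 y2, (ofL_f G f hj2 y2).trans h2⟩
    · obtain ⟨y, hy⟩ := h1 z hz
      exact ⟨f i1 j hj1 y, (ofL_f G f hj1 y).trans hy⟩

theorem map_f_trans {i j k : ι} (hij : i ≤ j) (hjk : j ≤ k) (K : Ideal (G i)) :
    (K.map (f i j hij)).map (f j k hjk) = K.map (f i k (hij.trans hjk)) := by
  rw [Ideal.map_map]
  congr 1
  ext y
  exact DirectedSystem.map_map' (f := f) hij hjk y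

theorem exists_stage_mem {i0 : ι} (K : Ideal (G i0)) {i1 : ι} (z : G i1)
    (hz : ofL G f i1 z ∈ K.map (ofL G f i0)) :
    ∃ (j : ι) (h0 : i0 ≤ j) (h1 : i1 ≤ j), f i1 j h1 z ∈ K.map (f i0 j h0) := by
  have claim : ∀ y ∈ K.map (ofL G f i0), ∃ (j : ι) (h0 : i0 ≤ j) (w : G j),
      ofL G f j w = y ∧ w ∈ K.map (f i0 j h0) := by
    intro y hy
    unfold Ideal.map at hy
    induction hy using Submodule.span_induction with
    | mem y hy =>
      obtain ⟨k, hk, rfl⟩ := hy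
      refine ⟨i0, le_rfl, k, rfl, ?_⟩
      have := Ideal.mem_map_of_mem (f i0 i0 le_rfl) hk
      rwa [DirectedSystem.map_self' (f := f)] at this
    | zero => exact ⟨i0, le_rfl, 0, map_zero _, zero_mem _⟩
    | add y1 y2 _ _ h1 h2 =>
      obtain ⟨j1, h01, w1, hw1, hm1⟩ := h1
      obtain ⟨j2, h02, w2, hw2, hm2⟩ := h2
      obtain ⟨j, hj1, hj2⟩ := exists_ge_ge j1 j2
      refine ⟨j, h01.trans hj1, f j1 j hj1 w1 + f j2 j hj2 w2, ?_, ?_⟩
      · rw [map_add, ofL_f, ofL_f, hw1, hw2]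
      · refine Ideal.add_mem _ ?_ ?_
        · rw [← map_f_trans G f h01 hj1]
          exact Ideal.mem_map_of_mem _ hm1
        · rw [← map_f_trans G f h02 hj2]
          exact Ideal.mem_map_of_mem _ hm2
    | smul r y _ h1 =>
      obtain ⟨j1, h01, w1, hw1, hm1⟩ := h1
      obtain ⟨j2, r2, hr2⟩ := Ring.DirectLimit.exists_of r
      obtain ⟨j, hj1, hj2⟩ := exists_ge_ge j1 j2
      refine ⟨j, h01.trans hj1, f j2 j hj2 r2 * f j1 j hj1 w1, ?_, ?_⟩
      · rw [map_mul, ofL_f, ofL_f, hw1]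
        change _ = r * y
        rw [← hr2]
      · refine Ideal.mul_mem_left _ _ ?_
        rw [← map_f_trans G f h01 hj1]
        exact Ideal.mem_map_of_mem _ hm1
  obtain ⟨j, h0, w, hw, hm⟩ := claim _ hz
  obtain ⟨j2, hj2, hj2'⟩ := exists_ge_ge i1 j
  have h0' : ofL G f j2 (f i1 j2 hj2 z - f j j2 hj2' w) = 0 := by
    rw [map_sub, ofL_f, ofL_f, hw, sub_self]
  obtain ⟨j3, hj3, h3⟩ := Ring.DirectLimit.of.zero_exact h0'
  refine ⟨j3, (h0.trans hj2').trans hj3, hj2.trans hj3, ?_⟩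
  rw [map_sub, sub_eq_zero, DirectedSystem.map_map' (f := f), DirectedSystem.map_map' (f := f)] at h3
  rw [h3, ← map_f_trans G f h0 (hj2'.trans hj3)]
  exact Ideal.mem_map_of_mem _ hm

end Groth.Agent.Lib.Helper5.RegLimit
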