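import Groth.Agent.Lib.helper19.RegularLocal
import Mathlib

set_option autoImplicit false
universe u

namespace Groth.Agent.Lib.Helper5.RegQuot

open IsLocalRing

theorem spanFinrank_maximalIdeal_le_quotient_succ {R : Type*} [CommRing R] [IsLocalRing R]
    [IsNoetherianRing R] {t : R} (ht : t ∈ maximalIdeal R)
    [IsLocalRing (R ⧸ Ideal.span ({t} : Set R))] :
    (maximalIdeal R).spanFinrank ≤
      (maximalIdeal (R ⧸ Ideal.span ({t} : Set R))).spanFinrank + 1 := by
  classical
  let I : Ideal R := Ideal.span ({t} : Set R)
  let mk := Ideal.Quotient.mk I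
  have hmk : Function.Surjective mk := Ideal.Quotient.mk_surjective
  obtain ⟨s', hs'c, hs'⟩ := Submodule.FG.exists_span_finset_card_eq_spanFinrank
    (p := maximalIdeal (R ⧸ I)) (IsNoetherian.noetherian _)
  let lift : R ⧸ I → R := Function.surjInv hmk
  have hlift : ∀ y, mk (lift y) = y := Function.surjInv_eq hmk
  let S : Finset R := insert t (s'.image lift)
  have hmax : maximalIdeal (R ⧸ I) = (maximalIdeal R).map mk :=
    Groth.Agent.Lib.helper19.maximalIdeal_quotient I
  have hcomap : (maximalIdeal (R ⧸ I)).comap mk = maximalIdeal R := by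
    rw [hmax, Ideal.comap_map_of_surjective mk hmk, sup_eq_left]
    intro x hx
    have hx' : x ∈ I := by
      rw [← Ideal.mk_ker (I := I)]
      exact hx
    obtain ⟨c, rfl⟩ := Ideal.mem_span_singleton'.mp hx'
    exact Ideal.mul_mem_left _ _ ht
  have hspan : Ideal.span (S : Set R) = maximalIdeal R := by
    apply le_antisymm
    · rw [Ideal.span_le]
      intro x hx
      rw [Finset.coe_insert, Finset.coe_image] at hx
      rcases hx with rfl | ⟨y, hy, rfl⟩
      · exact ht
      · rw [SetLike.mem_coe, ← hcomap, Ideal.mem_comap, hlift]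
        rw [← hs']
        exact Submodule.subset_span hy
    · intro x hx
      have h1 : mk x ∈ (Ideal.span ((s'.image lift : Finset R) : Set R)).map mk := by
        rw [Ideal.map_span, Finset.coe_image, ← Set.image_comp]
        have : (mk ∘ lift) '' (s' : Set (R ⧸ I)) = (s' : Set (R ⧸ I)) := by
          ext y
          simp [Function.comp, hlift]
        rw [this]
        change mk x ∈ Submodule.span _ _
        rw [hs', ← Ideal.mem_comap, hcomap]
        exact hx
      have h2 : x ∈ ((Ideal.span ((s'.image lift : Finset R) : Set R)).map mk).comap mk := h1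
      rw [Ideal.comap_map_of_surjective mk hmk] at h2
      obtain ⟨a, ha, b, hb, rfl⟩ := Submodule.mem_sup.mp h2
      have hb' : b ∈ I := by
        rw [← Ideal.mk_ker (I := I)]
        exact hb
      refine Ideal.add_mem _ ?_ ?_
      · refine Ideal.span_mono ?_ ha
        intro z hz
        exact Finset.mem_insert_of_mem hz
      · refine Ideal.span_mono ?_ hb'
        intro z hz
        rw [Set.mem_singleton_iff] at hz
        rw [hz]
        exact Finset.mem_insert_self _ _
  calc (maximalIdeal R).spanFinrank = (Ideal.span (S : Set R)).spanFinrank := by rw [hspan]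
    _ ≤ (S : Set R).ncard := Submodule.spanFinrank_span_le_ncard_of_finite S.finite_toSet
    _ = S.card := Set.ncard_coe_finset S
    _ ≤ (s'.image lift).card + 1 := Finset.card_insert_le _ _
    _ ≤ s'.card + 1 := Nat.add_le_add_right Finset.card_image_le 1
    _ = (maximalIdeal (R ⧸ I)).spanFinrank + 1 := by rw [hs'c]

theorem isRegularLocalRing_of_quotient {R : Type*} [CommRing R] [IsLocalRing R]
    [IsNoetherianRing R] {t : R} (ht : t ∈ maximalIdeal R) (hreg : IsSMulRegular R t)
    [h : IsRegularLocalRing (R ⧸ Ideal.span ({t} : Set R))] : IsRegularLocalRing R := by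
  apply IsRegularLocalRing.of_spanFinrank_maximalIdeal_le
  have h1 := spanFinrank_maximalIdeal_le_quotient_succ ht
  have h2 := ringKrullDim_quotient_span_singleton_succ_eq_ringKrullDim hreg ht
  have h3 : (((maximalIdeal (R ⧸ Ideal.span ({t} : Set R))).spanFinrank : ℕ) : WithBot ℕ∞) =
      ringKrullDim (R ⧸ Ideal.span ({t} : Set R)) := IsRegularLocalRing.spanFinrank_maximalIdeal
  rw [← h2, ← h3]
  exact_mod_cast h1

end Groth.Agent.Lib.Helper5.RegQuot
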