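import Mathlib
import Groth.Agent.Lib.Helper5.RegSecIsoA
import Groth.Agent.Lib.Helper29.H1Mono
import Groth.Agent.Lib.Helper29.H1Free
import Groth.Agent.Lib.Helper7.FPKerScheme

set_option autoImplicit false
universe u
open CategoryTheory CategoryTheory.Limits AlgebraicGeometry TopologicalSpace Opposite

namespace Groth.Agent.Lib.Helper5.RegSecIso

open Groth.Agent.Lib.Helper28.QCohLoc Groth.Agent.Lib.Helper29.ConormalMap
  Groth.Agent.Lib.Helper29.ConormalBC Groth.Agent.Lib.Helper29.ConormalChart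
  Groth.Agent.Lib.Helper17.PullbackBC Groth.Agent.Lib.Helper28.PullbackInv
  Groth.Agent.Lib.Helper29.H1Alg

variable {X Y : Scheme.{u}} (E : X.Modules) (s : E ⟶ Coh.structureModule X)
  (i : Y ⟶ X) [IsClosedImmersion i] (t : E ⟶ ClSub.idealMod i.ker)
  (hts : t ≫ ClSub.idealModι i.ker = s)

theorem le_coborderRange (W : X.Opens) : W ≤ i.coborderRange := by
  intro x _
  change x ∈ coborder (Set.range i)
  rw [i.isClosedEmbedding.isClosed_range.coborder_eq]
  exact Set.mem_univ x

include hts in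
omit [IsClosedImmersion i] in
theorem sec_eq (W : X.Opens) (e : Γ(E, W)) :
    sec E s W e = OmegaSh.idealSect i.ker W (t.app W e) := by
  unfold sec
  rw [← hts]
  rfl

theorem sec_add (W : X.Opens) (e e' : Γ(E, W)) : sec E s W (e + e') = sec E s W e + sec E s W e' := by
  unfold sec
  rw [map_add, map_add]

theorem sec_smul (W : X.Opens) (r : Γ(X, W)) (e : Γ(E, W)) :
    sec E s W (r • e) = r * sec E s W e := by
  unfold sec
  rw [Scheme.Modules.Hom.app_smul]
  rfl

theorem sec_sum (W : X.Opens) {n : ℕ} (r : Fin n → Γ(X, W)) (e : Fin n → Γ(E, W)) :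
    sec E s W (∑ k, r k • e k) = ∑ k, r k * sec E s W (e k) := by
  induction n with
  | zero =>
    simp only [Finset.univ_eq_empty, Finset.sum_empty]
    unfold sec
    rw [map_zero, map_zero]
  | succ n ih =>
    rw [Fin.sum_univ_succ, Fin.sum_univ_succ, sec_add, sec_smul, ih]

include hts in
/-- the kernel of `t` on a chart with data lies in `I • E(W)` -/
theorem ker_le {n : ℕ} {W : X.Opens} (hd : Data E s n W) (m : Γ(E, W)) (hm : t.app W m = 0) :
    m ∈ RingHom.ker (i.app W).hom • (⊤ : Submodule Γ(X, W) Γ(E, W)) := by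
  obtain ⟨b, hb⟩ := hd
  have h1 : sec E s W m = 0 := by
    rw [sec_eq E s i t hts, hm, map_zero]
  have h2 : m = ∑ k, b.repr m k • b k := (b.sum_repr m).symm
  rw [h2, sec_sum] at h1
  have h3 := fun k => coeff_mem_of_h1 _ hb (fun k => b.repr m k) h1 k
  have h4 : Ideal.span (Set.range fun k => sec E s W (b k)) ≤ RingHom.ker (i.app W).hom := by
    rw [Ideal.span_le]
    rintro _ ⟨k, rfl⟩
    change sec E s W (b k) ∈ RingHom.ker (i.app W).hom
    rw [sec_eq E s i t hts, RingHom.mem_ker]
    exact app_eq_zero_of_subschemeι i W _ (subschemeι_app_idealSect i.ker W _)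
  rw [h2]
  exact Submodule.sum_mem _ (fun k _ => Submodule.smul_mem_smul (h4 (h3 k)) Submodule.mem_top)

omit [IsClosedImmersion i] in
theorem exists_lift_smul [E.IsQuasicoherent] [Epi t] {W : X.Opens} (hW : IsAffineOpen W)
    (J : Ideal Γ(X, W)) (q : Γ(ClSub.idealMod i.ker, W))
    (hq : q ∈ J • (⊤ : Submodule Γ(X, W) Γ(ClSub.idealMod i.ker, W))) :
    ∃ m' ∈ J • (⊤ : Submodule Γ(X, W) Γ(E, W)), t.app W m' = q := by
  have htsurj : Function.Surjective (t.app W) :=
    Groth.Agent.Lib.Helper7.FPKer.app_surjective_of_epi t hW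
  refine Submodule.smul_induction_on hq ?_ ?_
  · intro r hr q₀ _
    obtain ⟨m₀, hm₀⟩ := htsurj q₀
    exact ⟨r • m₀, Submodule.smul_mem_smul hr Submodule.mem_top, by
      rw [Scheme.Modules.Hom.app_smul, hm₀]⟩
  · rintro x y ⟨mx, hmx, hx⟩ ⟨my, hmy, hy⟩
    exact ⟨mx + my, Submodule.add_mem _ hmx hmy, by rw [map_add, hx, hy]⟩

include hts in
/-- on a chart with data, `i^* t` is bijective on sections -/
theorem bijective_app [E.IsQuasicoherent] [Epi t] {n : ℕ} {W : X.Opens} (hW : IsAffineOpen W)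
    (hd : Data E s n W) :
    Function.Bijective (((Scheme.Modules.pullback i).map t).app (i ⁻¹ᵁ W)) := by
  have hc : W ≤ i.coborderRange := le_coborderRange i W
  obtain ⟨hV, hsurj⟩ := affine_surjective_of_le_coborder i hW hc
  have h₂ := isBC_conormalSect i hW hc
  have h₁ : IsBC (i.app W).hom (fun m : Γ(E, W) =>
      (pbs i E W m : Γ((Scheme.Modules.pullback i).obj E, i ⁻¹ᵁ W))) := by
    have h := isBC_pullback i hW hV le_rfl E
    have e1 : (fun m : Γ(E, W) => (pbs i E W m : Γ((Scheme.Modules.pullback i).obj E, i ⁻¹ᵁ W))) =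
        (fun m => res ((Scheme.Modules.pullback i).obj E) (le_refl (i ⁻¹ᵁ W)) (pbs i E W m)) := by
      funext m
      rw [res_self]
    rw [e1, Scheme.Hom.app_eq_appLE]
    exact h
  have hnat : ∀ m : Γ(E, W), ((Scheme.Modules.pullback i).map t).app (i ⁻¹ᵁ W) (pbs i E W m) =
      OmegaSh.conormalSect i W (t.app W m) := fun m => pbs_map i t W m
  have hs₁ := surjective_of_isBC_of_surjective (i.app W).hom hsurj _ h₁
  have hs₂ := surjective_of_isBC_of_surjective (i.app W).hom hsurj _ h₂
  have htsurj : Function.Surjective (t.app W) :=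
    Groth.Agent.Lib.Helper7.FPKer.app_surjective_of_epi t hW
  constructor
  · rw [injective_iff_map_eq_zero]
    intro x hx
    obtain ⟨m, rfl⟩ := hs₁ x
    change ((Scheme.Modules.pullback i).map t).app (i ⁻¹ᵁ W) (pbs i E W m) = 0 at hx
    change pbs i E W m = 0
    rw [hnat] at hx
    have hx' := (eq_zero_iff_of_isBC_of_surjective (i.app W).hom hsurj _ h₂ (t.app W m)).1 hx
    obtain ⟨m', hm', hm'q⟩ := exists_lift_smul E i t hW _ _ hx'
    have h3 : t.app W (m - m') = 0 := by rw [map_sub, hm'q, sub_self]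
    have h4 := ker_le E s i t hts hd _ h3
    have h5 : m ∈ RingHom.ker (i.app W).hom • (⊤ : Submodule Γ(X, W) Γ(E, W)) := by
      have := Submodule.add_mem _ h4 hm'
      rwa [sub_add_cancel] at this
    exact (eq_zero_iff_of_isBC_of_surjective (i.app W).hom hsurj _ h₁ m).2 h5
  · intro y
    obtain ⟨q, rfl⟩ := hs₂ y
    obtain ⟨m, rfl⟩ := htsurj q
    exact ⟨pbs i E W m, hnat m⟩

end Groth.Agent.Lib.Helper5.RegSecIso
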