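import Mathlib
import Groth.Agent.Lib.Helper5.RegSecIsoB
import Groth.Agent.Lib.Helper5.KosH1C
import Groth.Agent.Lib.Helper5.RegImmB
import Groth.Agent.Lib.Helper29.FreeIso4
import Groth.Agent.Lib.Helper28.TensorIso

set_option autoImplicit false
universe u
open CategoryTheory CategoryTheory.Limits AlgebraicGeometry TopologicalSpace Opposite

namespace Groth.Agent.Lib.Helper5.RegSecIso

open Groth.Agent.Lib.Helper5.FlatKind

theorem h1_of_weaklyRegular_ofFn {R : Type u} [CommRing R] {n : ℕ} (f : Fin n → R)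
    (h : RingTheory.Sequence.IsWeaklyRegular R (List.ofFn f)) : CAlgX.IsH1Regular f := by
  have hKR := Groth.Agent.Lib.Helper5.RegImmB.isKoszulRegularSeq_of_isWeaklyRegular _ h
  have h1 : CAlgX.IsH1Regular (List.ofFn f).get :=
    (Groth.Agent.Lib.Helper5.KosH1.isH1Regular_iff_isZero (List.ofFn f)).2 (hKR (-1) (by norm_num))
  refine h1_congr (List.length_ofFn (f := f)) _ f (fun k => ?_) h1
  rw [List.get_ofFn]

variable {X Y : Scheme.{u}} (E : X.Modules) (s : E ⟶ Coh.structureModule X)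
  (i : Y ⟶ X) [IsClosedImmersion i] (t : E ⟶ ClSub.idealMod i.ker)
  (hts : t ≫ ClSub.idealModι i.ker = s)

include hts in
theorem isIso_pullback_map [Epi t] (n : ℕ) (hE : FlatMod.IsFinLocFreeOfRank n E)
    (hs : ∀ x : X, ∃ U : X.affineOpens, x ∈ U.1 ∧ Data E s n U.1) :
    IsIso ((Scheme.Modules.pullback i).map t) := by
  haveI : E.IsQuasicoherent := Groth.Agent.Lib.Helper29.FreeIso.isQuasicoherent_of_isFinLocFree E
    (fun x => let ⟨U, hx, e⟩ := hE x; ⟨U, n, hx, e⟩)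
  refine Groth.Agent.Lib.Helper28.TensorIso.isIso_of_bijective_on_basis _
    (fun V => ∃ W : X.Opens, IsAffineOpen W ∧ Data E s n W ∧ V = i ⁻¹ᵁ W) ?_ ?_
  · intro O y hy
    obtain ⟨O', hO', hOeq⟩ := (i.isEmbedding.isInducing.isOpen_iff).1 O.isOpen
    obtain ⟨U, hxU, hd⟩ := hs (i y)
    have hyO' : i y ∈ (⟨O', hO'⟩ : X.Opens) := by
      have : y ∈ (i ⁻¹' O' : Set Y) := by rw [hOeq]; exact hy
      exact this
    obtain ⟨f, hle, hxf⟩ := U.2.exists_basicOpen_le (V := ⟨O', hO'⟩) ⟨i y, hyO'⟩ hxU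
    refine ⟨i ⁻¹ᵁ X.basicOpen f, ⟨X.basicOpen f, U.2.basicOpen f,
      data_basicOpen E s U.2 f hd, rfl⟩, hxf, ?_⟩
    intro y' hy'
    have h1 : i y' ∈ O' := hle hy'
    have h2 : y' ∈ (i ⁻¹' O' : Set Y) := h1
    rw [hOeq] at h2
    exact h2
  · rintro V ⟨W, hW, hd, rfl⟩
    exact bijective_app E s i t hts hW hd

end Groth.Agent.Lib.Helper5.RegSecIso
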