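import Groth.Agent.S0561
import Groth.Agent.Lib.Helper5.SerreLoc
import Mathlib

set_option autoImplicit false
set_option linter.unusedSectionVars false
universe u

namespace Groth.Agent.Lib.Helper5.RegSmoothCore

open IsLocalRing TensorProduct KaehlerDifferential

theorem exists_sum_tmul {P : Type u} [CommRing P] (K : Type u) [CommRing K] [Algebra P K]
    (N : Ideal P) {c : ℕ} (y : Fin c → P) (hy : ∀ l, y l ∈ N)
    (hN : N = Ideal.span (Set.range y)) (t : K ⊗[P] N) :
    ∃ a : Fin c → K, t = ∑ l, a l ⊗ₜ[P] (⟨y l, hy l⟩ : N) := by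
  induction t using TensorProduct.induction_on with
  | zero => exact ⟨fun _ => 0, by simp⟩
  | tmul a i =>
    obtain ⟨i, hi⟩ := i
    have hi' : i ∈ Ideal.span (Set.range y) := hN ▸ hi
    obtain ⟨p, hp⟩ := Ideal.mem_span_range_iff_exists_fun.1 hi'
    refine ⟨fun l => p l • a, ?_⟩
    have h1 : (⟨i, hi⟩ : N) = ∑ l, p l • (⟨y l, hy l⟩ : N) := by
      apply Subtype.ext
      change i = _
      rw [← hp]
      simp [Submodule.coe_sum]
    rw [h1, TensorProduct.tmul_sum]
    apply Finset.sum_congr rfl
    intro l _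
    rw [TensorProduct.tmul_smul, TensorProduct.smul_tmul']
  | add t1 t2 h1 h2 =>
    obtain ⟨a1, rfl⟩ := h1
    obtain ⟨a2, rfl⟩ := h2
    refine ⟨fun l => a1 l + a2 l, ?_⟩
    rw [← Finset.sum_add_distrib]
    apply Finset.sum_congr rfl
    intro l _
    rw [TensorProduct.add_tmul]


theorem linearIndependent_toCotangent (P : Type u) [CommRing P] [IsRegularLocalRing P] {d : ℕ}
    (hd : ringKrullDim P = d) (x : Fin d → P) (hx : Ideal.span (Set.range x) = maximalIdeal P)
    (hxm : ∀ l, x l ∈ maximalIdeal P) :
    LinearIndependent (ResidueField P)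
      (fun l => (maximalIdeal P).toCotangent ⟨x l, hxm l⟩) := by
  apply linearIndependent_of_top_le_span_of_card_eq_finrank
  · rw [top_le_iff]
    have h1 : Set.range (fun l => (maximalIdeal P).toCotangent ⟨x l, hxm l⟩) =
        (maximalIdeal P).toCotangent '' (Set.range fun l => (⟨x l, hxm l⟩ : maximalIdeal P)) := by
      rw [← Set.range_comp]
      rfl
    rw [h1, CotangentSpace.span_image_eq_top_iff]
    apply Submodule.map_injective_of_injective (maximalIdeal P).injective_subtype
    rw [Submodule.map_span, Submodule.map_top, Submodule.range_subtype, ← Set.range_comp]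
    exact hx
  · have h2 := (IsRegularLocalRing.iff_finrank_cotangentSpace P).1 inferInstance
    rw [hd] at h2
    rw [Fintype.card_fin]
    exact_mod_cast h2.symm


theorem formallySmooth_quotient (k : Type u) [Field k] (P : Type u) [CommRing P] [Algebra k P]
    [IsRegularLocalRing P] [Algebra.FormallySmooth k P] [Module.Free P Ω[P⁄k]]
    [Module.Finite P Ω[P⁄k]] [Algebra.FormallySmooth k (ResidueField P)] (I : Ideal P)
    [IsRegularLocalRing (P ⧸ I)] : Algebra.FormallySmooth k (P ⧸ I) := by
  have hIne : I ≠ ⊤ := by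
    intro h
    have : Subsingleton (P ⧸ I) := by rw [h]; exact Ideal.Quotient.subsingleton_iff.2 rfl
    exact not_subsingleton (P ⧸ I) this
  have hIle : I ≤ maximalIdeal P := le_maximalIdeal hIne
  let _ : Algebra (P ⧸ I) (ResidueField P) := (Ideal.Quotient.factor hIle).toAlgebra
  have htow : IsScalarTower P (P ⧸ I) (ResidueField P) := IsScalarTower.of_algebraMap_eq' rfl
  have hsurjK : Function.Surjective (algebraMap P (ResidueField P)) := residue_surjective
  have hkerK : RingHom.ker (algebraMap P (ResidueField P)) = maximalIdeal P := ker_residue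
  have hK := (Algebra.FormallySmooth.iff_injective_cotangentComplexBaseChange (R := k)
    (S := ResidueField P) P (ResidueField P) hsurjK (IsNoetherian.noetherian _)
    (by rw [maximalIdeal_eq_bot]; exact bot_le)).1 inferInstance
  have hsurj : Function.Surjective (algebraMap P (P ⧸ I)) := Ideal.Quotient.mk_surjective
  have hker : RingHom.ker (algebraMap P (P ⧸ I)) = I := Ideal.mk_ker
  have h₃ : maximalIdeal (P ⧸ I) ≤ RingHom.ker (algebraMap (P ⧸ I) (ResidueField P)) := by
    have hs : Function.Surjective (algebraMap (P ⧸ I) (ResidueField P)) :=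
      Ideal.Quotient.factor_surjective hIle
    have := RingHom.ker_isMaximal_of_surjective _ hs
    exact (IsLocalRing.eq_maximalIdeal this).ge
  rw [Algebra.FormallySmooth.iff_injective_cotangentComplexBaseChange (R := k)
    (S := P ⧸ I) P (ResidueField P) hsurj (IsNoetherian.noetherian _) h₃]
  obtain ⟨d, hd⟩ := Groth.Agent.Lib.Helper5.SerreLoc.exists_finite_ringKrullDim P
  obtain ⟨x, c, hc, hx, hI⟩ := Groth.Agent.S0561.result P d hd I
  have hxm : ∀ l, x l ∈ maximalIdeal P := fun l => hx ▸ Ideal.subset_span ⟨l, rfl⟩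
  have hli := linearIndependent_toCotangent P hd x hx hxm
  let y : Fin c → P := fun l => x (Fin.castLE hc l)
  have hyI : ∀ l, y l ∈ RingHom.ker (algebraMap P (P ⧸ I)) := by
    intro l
    rw [hker, hI]
    exact Ideal.subset_span ⟨l, rfl⟩
  have hyK : ∀ l, y l ∈ RingHom.ker (algebraMap P (ResidueField P)) := by
    intro l
    rw [hkerK]
    exact hxm _
  have hli' : LinearIndependent (ResidueField P)
      (fun l : Fin c => (maximalIdeal P).toCotangent ⟨y l, hxm _⟩) :=
    hli.comp _ (Fin.castLE_injective hc)
  let T' : RingHom.ker (algebraMap P (ResidueField P)) →ₗ[P] CotangentSpace P :=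
    (maximalIdeal P).toCotangent ∘ₗ (LinearEquiv.ofEq _ _ hkerK).toLinearMap
  let ψ : ResidueField P ⊗[P] RingHom.ker (algebraMap P (ResidueField P)) →ₗ[P]
      CotangentSpace P :=
    TensorProduct.lift (LinearMap.mk₂ P
      (fun a z => a • T' z)
      (fun a a' z => add_smul _ _ _)
      (fun p a z => smul_assoc _ _ _)
      (fun a z z' => by rw [map_add, smul_add])
      (fun p a z => by rw [map_smul, smul_comm]))
  rw [injective_iff_map_eq_zero]
  intro t ht
  obtain ⟨a, rfl⟩ := exists_sum_tmul (ResidueField P) _ y hyI (hker.trans hI) t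
  have h1 : ∑ l, a l • kerToTensor k P (ResidueField P) ⟨y l, hyK l⟩ = 0 := by
    rw [map_sum] at ht
    rw [← ht]
    apply Finset.sum_congr rfl
    intro l _
    rw [cotangentComplexBaseChange_tmul]
  have h2 : cotangentComplexBaseChange k (ResidueField P) P (ResidueField P)
      (∑ l, a l ⊗ₜ[P] (⟨y l, hyK l⟩ : RingHom.ker (algebraMap P (ResidueField P)))) = 0 := by
    rw [map_sum, ← h1]
    apply Finset.sum_congr rfl
    intro l _
    rw [cotangentComplexBaseChange_tmul]
  have h3 := hK (h2.trans (map_zero _).symm)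
  have h4 : ∑ l, a l • (maximalIdeal P).toCotangent ⟨y l, hxm _⟩ = 0 := by
    have := congrArg ψ h3
    rw [map_sum, map_zero] at this
    rw [← this]
    apply Finset.sum_congr rfl
    intro l _
    rfl
  have h5 := (Fintype.linearIndependent_iff.1 hli') a h4
  apply Finset.sum_eq_zero
  intro l _
  rw [h5 l, TensorProduct.zero_tmul]

end Groth.Agent.Lib.Helper5.RegSmoothCore
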