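import Mathlib
import Groth.Agent.Lib.Helper5.RelGCIL

/-!
# Helper5 — RelGCIM

Shrinking `Spec R[x]/(F)` around `V(I S)` when the reduction modulo `I` is a relative global
complete intersection (Stacks 00ST-type).
-/

set_option autoImplicit false
universe u

namespace Groth.Agent.Lib.Helper5.RelGCI

open MvPolynomial Synt TensorProduct AlgebraicGeometry CategoryTheory

variable (R : Type u) [CommRing R] (n c : ℕ) (F : Fin c → MvPolynomial (Fin n) R)

theorem ringKrullDim_fibre_congr (S : Type u) [CommRing S] [Algebra R S] (p₁ p₂ : Ideal R)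
    [p₁.IsPrime] [p₂.IsPrime] (h : p₁ = p₂) :
    ringKrullDim (p₁.Fiber S) = ringKrullDim (p₂.Fiber S) := by
  subst h
  rfl

variable (I : Ideal R)

theorem mem_goodLocus_of_mod_ideal
    (hI : IsRelGCI (R ⧸ I) n c (fun i => MvPolynomial.map (Ideal.Quotient.mk I) (F i)))
    (q : PrimeSpectrum (RelGCIRing R n c F))
    (hq : I.map (algebraMap R (RelGCIRing R n c F)) ≤ q.asIdeal) :
    c ≤ n ∧ q ∈ goodLocus R n c F := by
  have hqp := q.isPrime
  have hp : (q.asIdeal.under R).IsPrime := inferInstance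
  have hIp : I ≤ q.asIdeal.under R := by
    intro x hx
    exact hq (Ideal.mem_map_of_mem _ hx)
  have hsurj : Function.Surjective (Ideal.Quotient.mk I) := Ideal.Quotient.mk_surjective
  have hker : RingHom.ker (Ideal.Quotient.mk I) ≤ q.asIdeal.under R := by
    rw [Ideal.mk_ker]; exact hIp
  have hpbar : ((q.asIdeal.under R).map (Ideal.Quotient.mk I)).IsPrime :=
    Ideal.map_isPrime_of_surjective hsurj hker
  have hcomap : ((q.asIdeal.under R).map (Ideal.Quotient.mk I)).comap (Ideal.Quotient.mk I) =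
      q.asIdeal.under R := by
    rw [Ideal.comap_map_of_surjective _ hsurj, ← RingHom.ker_eq_comap_bot]
    exact sup_eq_left.2 hker
  obtain ⟨Q, hQ, hqQ⟩ := Groth.Agent.Lib.Helper21.FlatLocal.exists_fiber_prime
    (q.asIdeal.under R) q.asIdeal rfl
  have hnt : Nontrivial ((q.asIdeal.under R).Fiber (RelGCIRing R n c F)) :=
    (⟨Q, hQ⟩ : PrimeSpectrum _).nontrivial
  have h1 := ringKrullDim_fibre_baseChange n c F (R ⧸ I)
    ⟨(q.asIdeal.under R).map (Ideal.Quotient.mk I), hpbar⟩
  have h2 : ringKrullDim ((PrimeSpectrum.comap (algebraMap R (R ⧸ I))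
      ⟨(q.asIdeal.under R).map (Ideal.Quotient.mk I), hpbar⟩).asIdeal.Fiber (RelGCIRing R n c F)) =
      ringKrullDim ((q.asIdeal.under R).Fiber (RelGCIRing R n c F)) :=
    ringKrullDim_fibre_congr R (RelGCIRing R n c F) _ _ hcomap
  rw [h2] at h1
  have hnt' : Nontrivial (((q.asIdeal.under R).map (Ideal.Quotient.mk I)).Fiber
      (RelGCIRing (R ⧸ I) n c (fun i => MvPolynomial.map (Ideal.Quotient.mk I) (F i)))) := by
    by_contra hcon
    rw [not_nontrivial_iff_subsingleton] at hcon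
    have h3 : ringKrullDim (((q.asIdeal.under R).map (Ideal.Quotient.mk I)).Fiber
      (RelGCIRing (R ⧸ I) n c (fun i => MvPolynomial.map (Ideal.Quotient.mk I) (F i)))) = ⊥ :=
      ringKrullDim_eq_bot_of_subsingleton
    have h4 := ringKrullDim_nonneg_of_nontrivial
      (R := (q.asIdeal.under R).Fiber (RelGCIRing R n c F))
    rw [← h1] at h4
    change (0 : WithBot ℕ∞) ≤ ringKrullDim (((q.asIdeal.under R).map (Ideal.Quotient.mk I)).Fiber
      (RelGCIRing (R ⧸ I) n c (fun i => MvPolynomial.map (Ideal.Quotient.mk I) (F i)))) at h4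
    rw [h3] at h4
    exact absurd h4 (by simp)
  obtain ⟨hcn, hdim⟩ := hI ⟨(q.asIdeal.under R).map (Ideal.Quotient.mk I), hpbar⟩ hnt'
  refine ⟨hcn, ?_⟩
  have hdim' : ringKrullDim ((q.asIdeal.under R).Fiber (RelGCIRing R n c F)) =
      ((n - c : ℕ) : WithBot ℕ∞) := by
    rw [← h1]; exact hdim
  have h5 := fibrePoint_mem_goodLocus R n c F (q.asIdeal.under R) ⟨hcn, hdim'⟩ ⟨Q, hQ⟩
  have h6 : fibrePoint R (RelGCIRing R n c F) (q.asIdeal.under R) ⟨Q, hQ⟩ = q :=
    PrimeSpectrum.ext hqQ.symm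
  rwa [h6] at h5


theorem exists_away_of_mod_ideal
    (hI : IsRelGCI (R ⧸ I) n c (fun i => MvPolynomial.map (Ideal.Quotient.mk I) (F i))) :
    ∃ h : MvPolynomial (Fin n) R,
      Ideal.Quotient.mk (I.map (algebraMap R (RelGCIRing R n c F)))
        (Ideal.Quotient.mk (Ideal.span (Set.range F)) h) = 1 ∧
      IsRelGCI R (n + 1) (c + 1) (extF R n c F h) := by
  by_cases htop : I.map (algebraMap R (RelGCIRing R n c F)) = ⊤
  · refine ⟨0, ?_, ?_⟩
    · rw [← map_one (Ideal.Quotient.mk (I.map (algebraMap R (RelGCIRing R n c F)))),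
        Ideal.Quotient.mk_eq_mk_iff_sub_mem, htop]
      trivial
    · refine isRelGCI_extF R n c F 0 fun q hq => ?_
      exact absurd (by rw [map_zero]; exact q.asIdeal.zero_mem) hq
  · obtain ⟨M, hM, hle⟩ := Ideal.exists_le_maximal _ htop
    have hcn : c ≤ n :=
      (mem_goodLocus_of_mod_ideal R n c F I hI ⟨M, hM.isPrime⟩ hle).1
    have hsup : badIdeal R n c F ⊔ I.map (algebraMap R (RelGCIRing R n c F)) = ⊤ := by
      rw [← PrimeSpectrum.zeroLocus_empty_iff_eq_top, Set.eq_empty_iff_forall_notMem]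
      intro q hq
      have h1 : q ∈ PrimeSpectrum.zeroLocus (badIdeal R n c F : Set (RelGCIRing R n c F)) :=
        fun x hx => hq (Ideal.mem_sup_left hx)
      have h2 : I.map (algebraMap R (RelGCIRing R n c F)) ≤ q.asIdeal :=
        fun x hx => hq (Ideal.mem_sup_right hx)
      rw [zeroLocus_badIdeal] at h1
      exact h1 (mem_goodLocus_of_mod_ideal R n c F I hI q h2).2
    obtain ⟨j, hj, i, hi, hji⟩ := Submodule.mem_sup.1
      (hsup ▸ (Submodule.mem_top : (1 : RelGCIRing R n c F) ∈ ⊤))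
    obtain ⟨h, rfl⟩ := Ideal.Quotient.mk_surjective j
    refine ⟨h, ?_, isRelGCI_extF_of_mem_badIdeal R n c F hcn h hj⟩
    rw [← map_one (Ideal.Quotient.mk (I.map (algebraMap R (RelGCIRing R n c F)))),
      Ideal.Quotient.mk_eq_mk_iff_sub_mem, ← hji]
    have : Ideal.Quotient.mk (Ideal.span (Set.range F)) h -
        (Ideal.Quotient.mk (Ideal.span (Set.range F)) h + i) = -i := by ring
    rw [this]
    exact Ideal.neg_mem_iff _ |>.2 hi

end Groth.Agent.Lib.Helper5.RelGCI
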