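import Mathlib
import Groth.Agent.Lib.Helper5.CotLoc
import Groth.Agent.Lib.Helper5.LciJ
import Groth.Agent.Lib.Helper5.RelGCIU

/-!
# Helper5 — RelGCIW

The conormal module of a presentation of a syntomic algebra is finite projective.
-/

set_option autoImplicit false
universe u

namespace Groth.Agent.Lib.Helper5.RelGCI

open Synt TensorProduct Groth.Agent.Lib.Helper5.Lci Groth.Agent.Lib.Helper5.CotLoc

section Transport

/-- finiteness and projectivity transfer from any model of the localization to the standard
one. -/
theorem finite_projective_of_isLocalizedModule {S : Type*} [CommRing S] (T : Submonoid S)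
    {S' : Type*} [CommRing S'] [Algebra S S'] [IsLocalization T S']
    {M M' : Type*} [AddCommGroup M] [Module S M] [AddCommGroup M'] [Module S M'] [Module S' M']
    [IsScalarTower S S' M'] (φ : M →ₗ[S] M') [IsLocalizedModule T φ]
    [hfin : Module.Finite S' M'] [hproj : Module.Projective S' M'] :
    Module.Finite (Localization T) (LocalizedModule T M) ∧
      Module.Projective (Localization T) (LocalizedModule T M) := by
  let e₁ : Localization T ≃ₐ[S] S' := IsLocalization.algEquiv T _ _
  let _ : Module (Localization T) M' := Module.compHom M' (e₁ : Localization T →+* S')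
  have hsm : ∀ (c : Localization T) (m : M'), c • m = e₁ c • m := fun c m => rfl
  have : IsScalarTower S (Localization T) M' := ⟨fun s x m => by
    rw [hsm, hsm, map_smul, smul_assoc]⟩
  let e₂ : LocalizedModule T M ≃ₗ[S] M' := IsLocalizedModule.iso T φ
  let e₂' : LocalizedModule T M ≃ₗ[Localization T] M' :=
    e₂.extendScalarsOfIsLocalization T (Localization T)
  let σ : S' →+* Localization T := (e₁.symm : S' →+* Localization T)
  let σ' : Localization T →+* S' := (e₁ : Localization T →+* S')
  have i1 : RingHomInvPair σ σ' := ⟨RingHom.ext fun x => e₁.apply_symm_apply x,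
    RingHom.ext fun x => e₁.symm_apply_apply x⟩
  have i2 : RingHomInvPair σ' σ := ⟨RingHom.ext fun x => e₁.symm_apply_apply x,
    RingHom.ext fun x => e₁.apply_symm_apply x⟩
  let e₃ : M' ≃ₛₗ[σ] M' :=
    { toFun := id
      invFun := id
      map_add' := fun _ _ => rfl
      map_smul' := fun c m => by
        change c • m = (e₁.symm c) • m
        rw [hsm, e₁.apply_symm_apply]
      left_inv := fun _ => rfl
      right_inv := fun _ => rfl }
  have h1 : Module.Projective (Localization T) M' := Module.Projective.of_equiv e₃
  have h2 : Module.Finite (Localization T) M' := by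
    obtain ⟨s, hs⟩ := hfin.fg_top
    refine ⟨⟨s, ?_⟩⟩
    rw [eq_top_iff]
    intro m _
    have hm : m ∈ Submodule.span S' (s : Set M') := hs ▸ Submodule.mem_top
    refine Submodule.span_induction (p := fun m _ => m ∈ Submodule.span (Localization T) (s : Set M'))
      (fun x hx => Submodule.subset_span hx) (Submodule.zero_mem _)
      (fun x y _ _ hx hy => Submodule.add_mem _ hx hy) (fun c x _ hx => ?_) hm
    have : c • x = (e₁.symm c) • x := by rw [hsm, e₁.apply_symm_apply]
    rw [this]
    exact Submodule.smul_mem _ _ hx
  exact ⟨Module.Finite.equiv e₂'.symm, Module.Projective.of_equiv' e₂'.symm⟩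

end Transport

section Conormal

attribute [local instance] modQ

variable {R : Type u} [CommRing R] {n : ℕ}

theorem localized_cotangent_finite_projective (I : Ideal (MvPolynomial (Fin n) R))
    (g : MvPolynomial (Fin n) R ⧸ I)
    (hg : Synt.IsSyntomic R (Localization.Away g)) :
    Module.Finite (Localization.Away g) (LocalizedModule (Submonoid.powers g) I.Cotangent) ∧
      Module.Projective (Localization.Away g)
        (LocalizedModule (Submonoid.powers g) I.Cotangent) := by
  obtain ⟨G, rfl⟩ := Ideal.Quotient.mk_surjective g
  have hlci : LCI.IsLCI R (Localization.Away ((Ideal.Quotient.mkₐ R I) G)) :=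
    isLCI_of_isSyntomic hg
  have hKR := isKoszulRegularIdeal_map_away_of_isLCI_away (Ideal.Quotient.mkₐ R I)
    (Ideal.Quotient.mkₐ_surjective R I) G hlci
  have hker : RingHom.ker (Ideal.Quotient.mkₐ R I).toRingHom = I := by
    ext x
    rw [RingHom.mem_ker]
    exact Ideal.Quotient.eq_zero_iff_mem
  rw [hker] at hKR
  obtain ⟨hfin, hproj⟩ := cotangent_finite_projective (Ig I G) hKR
  have hloc : IsLocalization (Submonoid.powers (Ideal.Quotient.mk I G))
      (Localization.Away G ⧸ Ig I G) := by
    have h := (inferInstance : IsLocalization
      (Algebra.algebraMapSubmonoid (MvPolynomial (Fin n) R ⧸ I) (Submonoid.powers G))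
      (Localization.Away G ⧸ Ig I G))
    have e : Algebra.algebraMapSubmonoid (MvPolynomial (Fin n) R ⧸ I) (Submonoid.powers G) =
        Submonoid.powers (Ideal.Quotient.mk I G) := by
      simp [Algebra.algebraMapSubmonoid, Submonoid.map_powers]
    rwa [e] at h
  exact finite_projective_of_isLocalizedModule (Submonoid.powers (Ideal.Quotient.mk I G))
    (S' := Localization.Away G ⧸ Ig I G) (cotMapQ I G)

end Conormal

end Groth.Agent.Lib.Helper5.RelGCI
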