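import Mathlib
import Groth.Agent.Lib.Helper5.RelGCIU
import Groth.Agent.Lib.Helper5.RelGCIM
import Groth.Agent.Lib.Helper25.RelGCIApprox

/-!
# Helper5 — RelGCIX

A syntomic algebra over `R/I` is, locally, the reduction of a relative global complete
intersection over `R`.
-/

set_option autoImplicit false
universe u

namespace Groth.Agent.Lib.Helper5.RelGCI

open Synt TensorProduct

section QuotAway

variable {R T : Type u} [CommRing R] [CommRing T] [Algebra R T]

/-- if `t ≡ 1` modulo `𝔞` then `T_t / 𝔞 T_t ≅ T / 𝔞`. -/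
theorem nonempty_quotient_away_equiv (𝔞 : Ideal T) (t : T)
    (ht : Ideal.Quotient.mk 𝔞 t = 1) :
    Nonempty ((Localization.Away t ⧸ 𝔞.map (algebraMap T (Localization.Away t))) ≃ₐ[R] T ⧸ 𝔞) := by
  have hloc : IsLocalization (Algebra.algebraMapSubmonoid (T ⧸ 𝔞) (Submonoid.powers t))
      (Localization.Away t ⧸ 𝔞.map (algebraMap T (Localization.Away t))) := inferInstance
  have hle : Algebra.algebraMapSubmonoid (T ⧸ 𝔞) (Submonoid.powers t) ≤
      IsUnit.submonoid (T ⧸ 𝔞) := by
    rintro _ ⟨_, ⟨k, rfl⟩, rfl⟩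
    change IsUnit (algebraMap T (T ⧸ 𝔞) (t ^ k))
    have : algebraMap T (T ⧸ 𝔞) (t ^ k) = 1 := by
      rw [map_pow]
      change (Ideal.Quotient.mk 𝔞 t) ^ k = 1
      rw [ht, one_pow]
    rw [this]
    exact isUnit_one
  let e := IsLocalization.atUnits (T ⧸ 𝔞)
    (Algebra.algebraMapSubmonoid (T ⧸ 𝔞) (Submonoid.powers t))
    (S := Localization.Away t ⧸ 𝔞.map (algebraMap T (Localization.Away t))) hle
  have hst : IsScalarTower R (T ⧸ 𝔞)
      (Localization.Away t ⧸ 𝔞.map (algebraMap T (Localization.Away t))) := by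
    refine IsScalarTower.of_algebraMap_eq (R := R) (S := T ⧸ 𝔞)
      (A := Localization.Away t ⧸ 𝔞.map (algebraMap T (Localization.Away t))) fun a => ?_
    have e1 : algebraMap R (T ⧸ 𝔞) a = Ideal.Quotient.mk _ (algebraMap R T a) := rfl
    have e2 : algebraMap R (Localization.Away t ⧸ 𝔞.map (algebraMap T (Localization.Away t))) a =
        Ideal.Quotient.mk _ (algebraMap R (Localization.Away t) a) := rfl
    rw [e1, e2, Ideal.Quotient.algebraMap_quotient_map_quotient,
      ← IsScalarTower.algebraMap_apply R T (Localization.Away t)]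
  exact ⟨(e.restrictScalars R).symm⟩

end QuotAway

section ModIdeal

variable (R : Type u) [CommRing R] (I : Ideal R) (n c : ℕ) (F : Fin c → MvPolynomial (Fin n) R)

/-- `R[x]/(F) / I ≅ (R/I)[x]/(F mod I)`. -/
theorem nonempty_quotient_equiv_relGCIRing :
    Nonempty ((RelGCIRing R n c F ⧸ I.map (algebraMap R (RelGCIRing R n c F))) ≃ₐ[R]
      RelGCIRing (R ⧸ I) n c (fun i => MvPolynomial.map (Ideal.Quotient.mk I) (F i))) := by
  let e1 := Algebra.TensorProduct.quotIdealMapEquivQuotTensor (RelGCIRing R n c F) I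
  let e2 := Groth.Agent.Lib.Helper25.RelGCIApprox.relEquiv (R₀ := R) (R' := R ⧸ I) n c F
    (fun i => MvPolynomial.map (Ideal.Quotient.mk I) (F i)) (fun i => rfl)
  exact ⟨(e1.trans e2.symm).restrictScalars R⟩

theorem nonempty_quotient_extF_equiv (h : MvPolynomial (Fin n) R)
    (h1 : Ideal.Quotient.mk (I.map (algebraMap R (RelGCIRing R n c F)))
      (Ideal.Quotient.mk (Ideal.span (Set.range F)) h) = 1) :
    Nonempty ((RelGCIRing R (n + 1) (c + 1) (extF R n c F h) ⧸
        I.map (algebraMap R (RelGCIRing R (n + 1) (c + 1) (extF R n c F h)))) ≃ₐ[R]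
      RelGCIRing (R ⧸ I) n c (fun i => MvPolynomial.map (Ideal.Quotient.mk I) (F i))) := by
  obtain ⟨e3⟩ := nonempty_quotient_equiv_relGCIRing R I n c F
  obtain ⟨e2⟩ := nonempty_quotient_away_equiv (R := R)
    (I.map (algebraMap R (RelGCIRing R n c F)))
    (Ideal.Quotient.mk (Ideal.span (Set.range F)) h) h1
  have hI1 : I.map (algebraMap R (Localization.Away
      (Ideal.Quotient.mk (Ideal.span (Set.range F)) h))) =
      (I.map (algebraMap R (RelGCIRing R n c F))).map (algebraMap (RelGCIRing R n c F)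
        (Localization.Away (Ideal.Quotient.mk (Ideal.span (Set.range F)) h))) := by
    rw [Ideal.map_map, ← IsScalarTower.algebraMap_eq]
  have hI2 : I.map (algebraMap R (Localization.Away
      (Ideal.Quotient.mk (Ideal.span (Set.range F)) h))) =
      (I.map (algebraMap R (RelGCIRing R (n + 1) (c + 1) (extF R n c F h)))).map
        ((awayEquiv R n c F h).symm : RelGCIRing R (n + 1) (c + 1) (extF R n c F h) →+*
          Localization.Away (Ideal.Quotient.mk (Ideal.span (Set.range F)) h)) := by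
    rw [Ideal.map_map]
    congr 1
    ext r
    exact ((awayEquiv R n c F h).symm.commutes r).symm
  let e1 : (RelGCIRing R (n + 1) (c + 1) (extF R n c F h) ⧸
        I.map (algebraMap R (RelGCIRing R (n + 1) (c + 1) (extF R n c F h)))) ≃ₐ[R]
      (Localization.Away (Ideal.Quotient.mk (Ideal.span (Set.range F)) h) ⧸
        I.map (algebraMap R (Localization.Away
          (Ideal.Quotient.mk (Ideal.span (Set.range F)) h)))) :=
    Ideal.quotientEquivAlg _ _ (awayEquiv R n c F h).symm hI2
  exact ⟨(e1.trans (Ideal.quotientEquivAlgOfEq R hI1)).trans (e2.trans e3)⟩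

end ModIdeal


section Cover

variable (R : Type u) [CommRing R] (I : Ideal R) (Sb : Type u) [CommRing Sb]
  [Algebra R Sb] [Algebra (R ⧸ I) Sb] [IsScalarTower R (R ⧸ I) Sb]

theorem exists_cover_quotient_relGCI (h : IsSyntomic (R ⧸ I) Sb) :
    ∃ s : Finset Sb, Ideal.span (s : Set Sb) = ⊤ ∧ ∀ g ∈ s,
      ∃ (n c : ℕ) (F : Fin c → MvPolynomial (Fin n) R), IsRelGCI R n c F ∧
        Nonempty (Localization.Away g ≃ₐ[R]
          (RelGCIRing R n c F ⧸ I.map (algebraMap R (RelGCIRing R n c F)))) := by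
  have hspan : Ideal.span {g : Sb | ∃ (n c : ℕ) (F : Fin c → MvPolynomial (Fin n) R),
      IsRelGCI R n c F ∧ Nonempty (Localization.Away g ≃ₐ[R]
        (RelGCIRing R n c F ⧸ I.map (algebraMap R (RelGCIRing R n c F))))} = ⊤ := by
    by_contra hne
    obtain ⟨m, hm, hle⟩ := Ideal.exists_le_maximal _ hne
    have := hm.isPrime
    obtain ⟨g, hg, n, c, Fb, hFb, ⟨e⟩⟩ := exists_relGCI_nhd_of_isSyntomic h m
    have hlift : ∀ i, ∃ f : MvPolynomial (Fin n) R,
        MvPolynomial.map (Ideal.Quotient.mk I) f = Fb i := fun i =>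
      MvPolynomial.map_surjective _ Ideal.Quotient.mk_surjective (Fb i)
    choose F hF using hlift
    have hFb' : Fb = fun i => MvPolynomial.map (Ideal.Quotient.mk I) (F i) :=
      funext fun i => (hF i).symm
    subst hFb'
    obtain ⟨hh, h1, hrel⟩ := exists_away_of_mod_ideal R n c F I hFb
    obtain ⟨e'⟩ := nonempty_quotient_extF_equiv R I n c F hh h1
    exact hg (hle (Ideal.subset_span ⟨n + 1, c + 1, extF R n c F hh, hrel,
      ⟨(e.restrictScalars R).trans e'.symm⟩⟩))
  obtain ⟨s, hs, hs'⟩ := (Ideal.span_eq_top_iff_finite _).1 hspan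
  exact ⟨s, hs', fun g hg => hs hg⟩

end Cover

end Groth.Agent.Lib.Helper5.RelGCI
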