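import Groth.Prelude.Def_CAlgX
import Mathlib

set_option autoImplicit false

namespace Groth.Agent.Lib.Helper5.RetractDescent

open TensorProduct

universe u

variable {R S R' : Type u} [CommRing R] [CommRing S] [Algebra R S] [CommRing R'] [Algebra R R']

section Rho

variable {A : Type u} [CommRing A] [Algebra R A] (ρ : R' →ₗ[R] R)

/-- `ρ ⊗ id` -/
noncomputable def rhoA : R' ⊗[R] A →ₗ[R] A :=
  (TensorProduct.lid R A).toLinearMap ∘ₗ ρ.rTensor A

theorem rhoA_tmul (r' : R') (a : A) : rhoA ρ (r' ⊗ₜ[R] a) = ρ r' • a := by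
  simp [rhoA]

theorem rhoA_mul (a : A) (x : R' ⊗[R] A) :
    rhoA ρ ((1 : R') ⊗ₜ[R] a * x) = a * rhoA ρ x := by
  induction x using TensorProduct.induction_on with
  | zero => simp
  | tmul r' b =>
    rw [Algebra.TensorProduct.tmul_mul_tmul, one_mul, rhoA_tmul, rhoA_tmul, mul_smul_comm]
  | add x y hx hy => rw [mul_add, map_add, hx, hy, map_add, mul_add]

theorem rhoA_mem (J : Ideal A) (x : R' ⊗[R] A)
    (hx : x ∈ J.map (Algebra.TensorProduct.includeRight : A →ₐ[R] R' ⊗[R] A)) :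
    rhoA ρ x ∈ J := by
  suffices h : ∀ c : R' ⊗[R] A, rhoA ρ (c * x) ∈ J by simpa using h 1
  rw [Ideal.map] at hx
  induction hx using Submodule.span_induction with
  | mem y hy =>
    obtain ⟨j, hj, rfl⟩ := hy
    intro c
    change rhoA ρ (c * (1 : R') ⊗ₜ[R] j) ∈ J
    rw [mul_comm, rhoA_mul]
    exact J.mul_mem_right _ hj
  | zero => intro c; rw [mul_zero, map_zero]; exact J.zero_mem
  | add y z _ _ hy hz => intro c; rw [mul_add, map_add]; exact J.add_mem (hy c) (hz c)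
  | smul d y _ hy =>
    intro c
    rw [smul_eq_mul, ← mul_assoc]
    exact hy (c * d)

end Rho

theorem rhoA_incl {A : Type u} [CommRing A] [Algebra R A] (ρ : R' →ₗ[R] R)
    (hρ : ∀ r : R, ρ (algebraMap R R' r) = r) (a : A) :
    rhoA ρ ((1 : R') ⊗ₜ[R] a) = a := by
  rw [rhoA_tmul]
  have : ρ 1 = 1 := by
    have := hρ 1
    rwa [map_one] at this
  rw [this, one_smul]

theorem rhoA_mul_of_congr {A : Type u} [CommRing A] [Algebra R A] (ρ : R' →ₗ[R] R)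
    (hρ : ∀ r : R, ρ (algebraMap R R' r) = r) (J : Ideal A) (hJ : J ^ 2 = ⊥)
    (x y : R' ⊗[R] A) (a b : A)
    (hx : x - (1 : R') ⊗ₜ[R] a ∈ J.map (Algebra.TensorProduct.includeRight : A →ₐ[R] R' ⊗[R] A))
    (hy : y - (1 : R') ⊗ₜ[R] b ∈ J.map (Algebra.TensorProduct.includeRight : A →ₐ[R] R' ⊗[R] A)) :
    rhoA ρ (x * y) = rhoA ρ x * rhoA ρ y := by
  set j₁ := x - (1 : R') ⊗ₜ[R] a with hj₁
  set j₂ := y - (1 : R') ⊗ₜ[R] b with hj₂
  have hx' : x = (1 : R') ⊗ₜ[R] a + j₁ := by rw [hj₁]; ring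
  have hy' : y = (1 : R') ⊗ₜ[R] b + j₂ := by rw [hj₂]; ring
  have h12 : j₁ * j₂ = 0 := by
    have : j₁ * j₂ ∈ (J.map (Algebra.TensorProduct.includeRight : A →ₐ[R] R' ⊗[R] A)) ^ 2 := by
      rw [pow_two]; exact Ideal.mul_mem_mul hx hy
    rw [← Ideal.map_pow, hJ, Ideal.map_bot] at this
    exact this
  have hr12 : rhoA ρ j₁ * rhoA ρ j₂ = 0 := by
    have : rhoA ρ j₁ * rhoA ρ j₂ ∈ J ^ 2 := by
      rw [pow_two]; exact Ideal.mul_mem_mul (rhoA_mem ρ J _ hx) (rhoA_mem ρ J _ hy)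
    rw [hJ] at this
    exact this
  have e1 : x * y = (1 : R') ⊗ₜ[R] (a * b) + (1 : R') ⊗ₜ[R] a * j₂ + (1 : R') ⊗ₜ[R] b * j₁ := by
    rw [hx', hy']
    have : (1 : R') ⊗ₜ[R] (a * b) = (1 : R') ⊗ₜ[R] a * (1 : R') ⊗ₜ[R] b := by
      rw [Algebra.TensorProduct.tmul_mul_tmul, one_mul]
    rw [this]
    linear_combination h12
  rw [e1, map_add, map_add, rhoA_incl ρ hρ, rhoA_mul, rhoA_mul, hx', hy', map_add, map_add,
    rhoA_incl ρ hρ, rhoA_incl ρ hρ]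
  linear_combination -hr12

theorem descent (𝔫 : Ideal S) (ρ : R' →ₗ[R] R) (hρ : ∀ r : R, ρ (algebraMap R R' r) = r)
    (h : CAlgX.IsAdicFormallySmooth R' (R' ⊗[R] S)
      (𝔫.map (Algebra.TensorProduct.includeRight : S →ₐ[R] R' ⊗[R] S))) :
    CAlgX.IsAdicFormallySmooth R S 𝔫 := by
  intro A _ _ J hJ ψ hψ
  obtain ⟨k, hk⟩ := hψ
  let ι : A →ₐ[R] R' ⊗[R] A := Algebra.TensorProduct.includeRight
  let J' : Ideal (R' ⊗[R] A) := J.map ι
  have hJ' : J' ^ 2 = ⊥ := by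
    change (J.map ι) ^ 2 = ⊥
    rw [← Ideal.map_pow, hJ, Ideal.map_bot]
  let q : A ⧸ J →ₐ[R] (R' ⊗[R] A) ⧸ J' := Ideal.quotientMapₐ J' ι Ideal.le_comap_map
  have hq : ∀ a : A, q (Ideal.Quotient.mk J a) = Ideal.Quotient.mk J' (ι a) := fun a => rfl
  let ψ'' : S →ₐ[R] (R' ⊗[R] A) ⧸ J' := q.comp ψ
  let ψ' : R' ⊗[R] S →ₐ[R'] (R' ⊗[R] A) ⧸ J' :=
    Algebra.TensorProduct.lift (Algebra.ofId R' _) ψ'' (fun _ _ => Commute.all _ _)
  have hψ' : ∀ s : S, ψ' ((1 : R') ⊗ₜ[R] s) = q (ψ s) := by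
    intro s
    change Algebra.TensorProduct.lift (Algebra.ofId R' _) ψ'' _ ((1 : R') ⊗ₜ[R] s) = _
    rw [Algebra.TensorProduct.lift_tmul, map_one, one_mul]
    rfl
  obtain ⟨χ', hχ'⟩ := h (R' ⊗[R] A) J' hJ' ψ' ⟨k, by
    intro x hx
    rw [← Ideal.map_pow] at hx
    have hle : (𝔫 ^ k).map (Algebra.TensorProduct.includeRight : S →ₐ[R] R' ⊗[R] S) ≤
        RingHom.ker ψ' := by
      rw [Ideal.map_le_iff_le_comap]
      intro s hs
      rw [Ideal.mem_comap, RingHom.mem_ker]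
      change ψ' ((1 : R') ⊗ₜ[R] s) = 0
      rw [hψ', hk s hs, map_zero]
    exact hle hx⟩
  have hχ's : ∀ s : S, Ideal.Quotient.mk J' (χ' ((1 : R') ⊗ₜ[R] s)) = q (ψ s) := by
    intro s
    rw [← hψ', ← hχ']
    rfl
  have hcong : ∀ s : S, ∃ a : A, Ideal.Quotient.mk J a = ψ s ∧
      χ' ((1 : R') ⊗ₜ[R] s) - (1 : R') ⊗ₜ[R] a ∈ J' := by
    intro s
    obtain ⟨a, ha⟩ := Ideal.Quotient.mk_surjective (ψ s)
    refine ⟨a, ha, ?_⟩
    rw [← Ideal.Quotient.eq, hχ's, ← ha, hq]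
    rfl
  let χ : S →ₐ[R] A :=
    { toFun := fun s => rhoA ρ (χ' ((1 : R') ⊗ₜ[R] s))
      map_one' := by
        change rhoA ρ (χ' ((1 : R') ⊗ₜ[R] (1 : S))) = 1
        rw [← Algebra.TensorProduct.one_def, map_one, Algebra.TensorProduct.one_def,
          rhoA_incl ρ hρ]
      map_mul' := by
        intro s t
        change rhoA ρ (χ' ((1 : R') ⊗ₜ[R] (s * t))) = rhoA ρ (χ' ((1 : R') ⊗ₜ[R] s)) *
          rhoA ρ (χ' ((1 : R') ⊗ₜ[R] t))
        have : (1 : R') ⊗ₜ[R] (s * t) = (1 : R') ⊗ₜ[R] s * (1 : R') ⊗ₜ[R] t := by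
          rw [Algebra.TensorProduct.tmul_mul_tmul, one_mul]
        rw [this, map_mul]
        obtain ⟨a, _, ha⟩ := hcong s
        obtain ⟨b, _, hb⟩ := hcong t
        exact rhoA_mul_of_congr ρ hρ J hJ _ _ a b ha hb
      map_zero' := by
        change rhoA ρ (χ' ((1 : R') ⊗ₜ[R] (0 : S))) = 0
        rw [TensorProduct.tmul_zero, map_zero, map_zero]
      map_add' := by
        intro s t
        change rhoA ρ (χ' ((1 : R') ⊗ₜ[R] (s + t))) = _
        rw [TensorProduct.tmul_add, map_add, map_add]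
      commutes' := by
        intro r
        have e1 : (1 : R') ⊗ₜ[R] (algebraMap R S r) =
            algebraMap R' (R' ⊗[R] S) (algebraMap R R' r) := by
          rw [Algebra.TensorProduct.algebraMap_apply, Algebra.algebraMap_eq_smul_one,
            TensorProduct.tmul_smul, TensorProduct.smul_tmul', Algebra.algebraMap_self,
            RingHom.id_apply, Algebra.algebraMap_eq_smul_one]
        rw [e1, AlgHom.commutes, Algebra.TensorProduct.algebraMap_apply, rhoA_tmul]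
        change ρ (algebraMap R R' r) • (1 : A) = _
        rw [hρ, Algebra.algebraMap_eq_smul_one] }
  refine ⟨χ, ?_⟩
  ext s
  change Ideal.Quotient.mk J (rhoA ρ (χ' ((1 : R') ⊗ₜ[R] s))) = ψ s
  obtain ⟨a, ha, hmem⟩ := hcong s
  have : χ' ((1 : R') ⊗ₜ[R] s) = (1 : R') ⊗ₜ[R] a + (χ' ((1 : R') ⊗ₜ[R] s) - (1 : R') ⊗ₜ[R] a) := by
    ring
  rw [this, map_add, rhoA_incl ρ hρ, map_add, ha,
    Ideal.Quotient.eq_zero_iff_mem.mpr (rhoA_mem ρ J _ hmem), add_zero]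

end Groth.Agent.Lib.Helper5.RetractDescent
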