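import Mathlib
import Groth.Prelude.Def_EGA4Misc
import Groth.Agent.Lib.Helper5.AbsSpread
import Groth.Agent.Lib.Helper5.LocFreeCons
import Groth.Agent.Lib.Helper16.LocFree5
import Groth.Agent.Lib.Helper21.FreeLift3
import Groth.Agent.Lib.Helper29.FPFree

set_option autoImplicit false
set_option linter.style.haveILetI false
set_option linter.unusedSectionVars false
set_option linter.unusedVariables false

universe u

open AlgebraicGeometry CategoryTheory CategoryTheory.Limits TensorProduct

namespace Groth.Agent.Lib.Helper5.RkCons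

variable {X : Scheme.{u}}

/-- the stalk at `x` is free of rank `n` -/
def RkAt (n : ℕ) (M : X.Modules) (x : X) : Prop :=
  Nonempty (Module.Basis (Fin n) (X.presheaf.stalk x) (M.presheaf.stalk x))

theorem rkAt_unique {n m : ℕ} (M : X.Modules) (x : X) (h1 : RkAt n M x) (h2 : RkAt m M x) :
    n = m := by
  obtain ⟨b1⟩ := h1
  obtain ⟨b2⟩ := h2
  have := Fintype.card_congr (b1.indexEquiv b2)
  simpa using this

/-- around a point with free stalk of rank `n`, a finitely presented module is free of rank `n` -/
theorem exists_nhd (n : ℕ) (M : X.Modules)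
    [SheafOfModules.IsFinitePresentation.{u} (R := X.ringCatSheaf) M] (x : X) (h : RkAt n M x) :
    ∃ U : X.Opens, x ∈ U ∧ Nonempty (M.restrict U.ι ≅ FlatMod.freeMod (↑U) n) ∧
      ∀ y ∈ U, RkAt n M y := by
  obtain ⟨b⟩ := h
  obtain ⟨_, ⟨U, hU : IsAffineOpen U, rfl⟩, hxU, -⟩ :=
    X.isBasis_affineOpens.exists_subset_of_mem_open (Set.mem_univ x) isOpen_univ
  obtain ⟨g, m, τ, hxg, hτ⟩ :=
    Groth.Agent.Lib.Helper29.FPFree.exists_isBasisOn_of_free_stalk M hU x hxU
      (Module.Free.of_basis b)
  have hmn : m = n := rkAt_unique M x ⟨hτ.stalkBasis x hxg⟩ ⟨b⟩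
  subst hmn
  exact ⟨X.basicOpen g, hxg, hτ.nonempty_iso, fun y hy => ⟨hτ.stalkBasis y hy⟩⟩

theorem isFinLocFreeOfRank_iff (n : ℕ) (M : X.Modules)
    [SheafOfModules.IsFinitePresentation.{u} (R := X.ringCatSheaf) M] :
    FlatMod.IsFinLocFreeOfRank n M ↔ ∀ x, RkAt n M x := by
  constructor
  · intro h x
    exact Groth.Agent.Lib.Helper21.FreeLift.nonempty_stalkBasis M h x
  · intro h x
    obtain ⟨U, hxU, hiso, -⟩ := exists_nhd n M x (h x)
    exact ⟨U, hxU, hiso⟩

theorem isOpen_rkAt (n : ℕ) (M : X.Modules)
    [SheafOfModules.IsFinitePresentation.{u} (R := X.ringCatSheaf) M] :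
    IsOpen {x | RkAt n M x} := by
  rw [isOpen_iff_forall_mem_open]
  intro x hx
  obtain ⟨U, hxU, -, hU⟩ := exists_nhd n M x hx
  exact ⟨U, hU, U.2, hxU⟩

/-- base change of the rank at a point -/
theorem rkAt_pullback {Y Y' : Scheme.{u}} (e : Y' ⟶ Y) (n : ℕ) (M : Y.Modules) [M.IsQuasicoherent]
    (y' : Y') (h : RkAt n M (e y')) : RkAt n ((Scheme.Modules.pullback e).obj M) y' := by
  obtain ⟨b⟩ := h
  let := (e.stalkMap y').hom.toAlgebra
  obtain ⟨l⟩ := Groth.Agent.Lib.Helper17.ModStalk.nonempty_linearEquiv_stalk_pullback e M y'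
  exact ⟨(b.baseChange (Y'.presheaf.stalk y')).map l.symm⟩

/-- if the module is locally free, the rank at a point can be read off after base change -/
theorem rkAt_of_pullback {Y Y' : Scheme.{u}} (e : Y' ⟶ Y) (n : ℕ) (M : Y.Modules)
    [M.IsQuasicoherent] (hM : FlatMod.IsFinLocFree M)
    (y' : Y') (h : RkAt n ((Scheme.Modules.pullback e).obj M) y') : RkAt n M (e y') := by
  obtain ⟨U, m, hyU, ⟨i⟩⟩ := hM (e y')
  have h1 : RkAt m M (e y') := by
    obtain ⟨hfree, hfin, hrank⟩ :=
      Groth.Agent.Lib.Helper7.StalkFree.free_stalk_of_iso M (e y') U hyU m i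
    exact ⟨Module.finBasisOfFinrankEq _ _ hrank⟩
  have h2 := rkAt_pullback e m M y' h1
  have := rkAt_unique _ y' h h2
  subst this
  exact h1

/-- rank `n` local freeness is invariant under extension of the base field -/
theorem isFieldStableMod (n : ℕ) :
    ConsProp.IsFieldStableMod.{u} (fun Y T _ F => FlatMod.IsFinLocFreeOfRank n F) := by
  intro Y Y' T T' g g' e h _ _ _ _ _ _ hsq F F' hF iso
  have hfpqc := Groth.Agent.Lib.Helper25.ConsLocus.fpqc_of_isPullback hsq
  constructor
  · intro hM
    exact Groth.Agent.Lib.Helper16.LocFree.isFinLocFreeOfRank_of_iso iso.symm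
      (Groth.Agent.Lib.Helper16.LocFree.isFinLocFreeOfRank_pullback e F hM)
  · intro hM'
    have h1 : FlatMod.IsFinLocFreeOfRank n ((Scheme.Modules.pullback e).obj F) :=
      Groth.Agent.Lib.Helper16.LocFree.isFinLocFreeOfRank_of_iso iso hM'
    have hlf : FlatMod.IsFinLocFree F :=
      (Groth.Agent.Lib.Helper5.LocFreeCons.isFieldStableMod g g' e h hsq F F' hF iso).2
        (Groth.Agent.Lib.Helper16.LocFree.isFinLocFree_of_isFinLocFreeOfRank hM')
    have : IsLocallyNoetherian T :=
      Groth.Agent.Lib.Helper25.ConsFib.isLocallyNoetherian_of_subsingleton T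
    have : IsLocallyNoetherian Y := LocallyOfFiniteType.isLocallyNoetherian g
    have : SheafOfModules.IsFinitePresentation.{u} (R := Y.ringCatSheaf) F :=
      Groth.Agent.S16240.isFinitePresentation_of_isCoh F hF
    have : F.IsQuasicoherent := hF.1
    have := Groth.Agent.Lib.Helper25.FlatChartGen.isFinitePresentation_pullback e F
    show FlatMod.IsFinLocFreeOfRank n F
    rw [isFinLocFreeOfRank_iff]
    intro y
    obtain ⟨y', rfl⟩ := hfpqc.1.1.surj y
    exact rkAt_of_pullback e n F hlf y' ((isFinLocFreeOfRank_iff n _).1 h1 y')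

set_option maxHeartbeats 1600000 in
/-- **rank `n` local freeness of the fibre module is a constructible property** -/
theorem isConsMod (n : ℕ) :
    ConsProp.IsConsMod.{u} (fun Y T _ F => FlatMod.IsFinLocFreeOfRank n F) := by
  refine ⟨isFieldStableMod n, ?_⟩
  intro X S u _ _ _ _ F hF
  have : IsLocallyNoetherian S := inferInstance
  have : IsLocallyNoetherian X := LocallyOfFiniteType.isLocallyNoetherian u
  have hFP : CohB1.IsFP F := Groth.Agent.S16240.isFinitePresentation_of_isCoh F hF
  have : SheafOfModules.IsFinitePresentation.{u} (R := X.ringCatSheaf) F := hFP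
  have : Coh.IsQCoh F := hF.1
  have : F.IsQuasicoherent := hF.1
  have : LocallyOfFinitePresentation u :=
    Groth.Agent.Lib.lead.ChevB.lfp_of_lft_of_isLocallyNoetherian _
  obtain ⟨U₀, hU₀ne, hU₀⟩ := Groth.Agent.Lib.Helper7.GenericFlat.exists_open_flat u F
  have hηU₀ : genericPoint S ∈ U₀ := by
    obtain ⟨s, hs⟩ := hU₀ne
    exact ((genericPoint_spec S).specializes (Set.mem_univ s)).mem_open U₀.2 hs
  have hFPs : ∀ s : S, SheafOfModules.IsFinitePresentation.{u}
      (R := (pullback u (S.fromSpecResidueField s)).ringCatSheaf)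
      ((Scheme.Modules.pullback (pullback.fst u (S.fromSpecResidueField s))).obj F) := fun s =>
    Groth.Agent.Lib.Helper25.FlatChartGen.isFinitePresentation_pullback _ F
  have he : ∀ s : S,
      Groth.Agent.Lib.Helper5.FlatSpread.fibMap (𝟙 X) u u (Category.id_comp u) s = 𝟙 _ := by
    intro s
    apply pullback.hom_ext
    · simp [Groth.Agent.Lib.Helper5.FlatSpread.fibMap]
    · simp [Groth.Agent.Lib.Helper5.FlatSpread.fibMap]
  have hsq : ∀ s : S,
      IsPullback (pullback.fst u (S.fromSpecResidueField s))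
        (𝟙 _ ≫ pullback.snd u (S.fromSpecResidueField s)) (𝟙 X ≫ u)
        (S.fromSpecResidueField s) := by
    intro s
    rw [Category.id_comp, Category.id_comp]
    exact IsPullback.of_hasPullback _ _
  obtain ⟨h1, h2⟩ := Groth.Agent.Lib.Helper5.AbsSpread.spread u {x | RkAt n F x}
    (isOpen_rkAt n F) U₀ hηU₀
    (fun s z => RkAt n ((Scheme.Modules.pullback (pullback.fst u (S.fromSpecResidueField s))).obj F) z)
    (fun s z hz => rkAt_pullback _ n F z hz)
    (by
      intro s hs z hz
      -- the fibre module is flat at `z`, hence `F` is flat at the image point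
      obtain ⟨b⟩ := hz
      have hflz : FlatMod.IsFlatOverAt (𝟙 (pullback u (S.fromSpecResidueField s)))
          ((Scheme.Modules.pullback (pullback.fst u (S.fromSpecResidueField s))).obj F) z :=
        (Groth.Agent.Lib.Helper25.LimLocFree.isFlatOverAt_iff_of_isIso (𝟙 _) _ z).2
          (by
            have := Module.Free.of_basis b
            exact Module.Flat.of_free)
      have hflx : FlatMod.IsFlatOverAt (𝟙 X) F (pullback.fst u (S.fromSpecResidueField s) z) :=
        Groth.Agent.Lib.Helper5.FlatBCPt.isFlatOverAt_of_baseChange_pt (𝟙 X) u F inferInstance hFP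
          (S.fromSpecResidueField s) (pullback.fst u _) (pullback.snd u _)
          (IsPullback.of_hasPullback u _) (pullback.fst u _) (𝟙 _) (hsq s)
          (by rw [Category.comp_id, Category.id_comp]) z
          (by
            rw [Category.id_comp]
            exact hU₀ _ (by rw [Groth.Agent.Lib.Helper5.AbsSpread.fst_over]; exact hs))
          hflz
      have hflat : Module.Flat (X.presheaf.stalk (pullback.fst u (S.fromSpecResidueField s) z))
          (F.presheaf.stalk (pullback.fst u (S.fromSpecResidueField s) z)) :=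
        (Groth.Agent.Lib.Helper25.LimLocFree.isFlatOverAt_iff_of_isIso (𝟙 X) F _).1 hflx
      have hfin : Module.Finite (X.presheaf.stalk (pullback.fst u (S.fromSpecResidueField s) z))
          (F.presheaf.stalk (pullback.fst u (S.fromSpecResidueField s) z)) :=
        Groth.Agent.Lib.Helper7.StalkFree.finite_stalk_of_isCoh X F hF _
      have hfree : Module.Free (X.presheaf.stalk (pullback.fst u (S.fromSpecResidueField s) z))
          (F.presheaf.stalk (pullback.fst u (S.fromSpecResidueField s) z)) :=
        Module.free_of_flat_of_isLocalRing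
      have h1 : RkAt (Module.finrank (X.presheaf.stalk (pullback.fst u (S.fromSpecResidueField s) z))
          (F.presheaf.stalk (pullback.fst u (S.fromSpecResidueField s) z))) F
          (pullback.fst u (S.fromSpecResidueField s) z) :=
        ⟨Module.finBasisOfFinrankEq _ _ rfl⟩
      have h2 := rkAt_pullback (pullback.fst u (S.fromSpecResidueField s)) _ F z h1
      have := rkAt_unique _ z ⟨b⟩ h2
      show RkAt n F _
      rw [this]
      exact h1)
  have hloc : ∀ s : S, s ∈ ConsProp.locusMod (fun Y T _ F => FlatMod.IsFinLocFreeOfRank n F) u F ↔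
      ∀ z, RkAt n ((Scheme.Modules.pullback (pullback.fst u (S.fromSpecResidueField s))).obj F) z := by
    intro s
    have := hFPs s
    show FlatMod.IsFinLocFreeOfRank n
      ((Scheme.Modules.pullback (pullback.fst u (S.fromSpecResidueField s))).obj F) ↔ _
    exact isFinLocFreeOfRank_iff n _
  by_cases hη : ∀ z, RkAt n ((Scheme.Modules.pullback
      (pullback.fst u (S.fromSpecResidueField (genericPoint S)))).obj F) z
  · left
    obtain ⟨U, hU, hsub⟩ := h1 hη
    exact ⟨genericPoint S, mem_interior.mpr ⟨U, fun s hs => (hloc s).2 (hsub s hs), U.2, hU⟩⟩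
  · right
    obtain ⟨U, hU, hsub⟩ := h2 hη
    exact ⟨genericPoint S, mem_interior.mpr
      ⟨U, fun s hs hc => hsub s hs ((hloc s).1 hc), U.2, hU⟩⟩

end Groth.Agent.Lib.Helper5.RkCons
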