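import Groth.Agent.Lib.Helper29.IntegralDim
import Mathlib

set_option autoImplicit false
universe u v

open MvPolynomial

namespace Groth.Agent.Lib.Helper5.SepQuot

variable {A : Type u} [CommRing A] {r : ℕ} (G : Fin r → Polynomial A)

/-- the one-variable polynomial `G i` written in the `i`-th variable. -/
noncomputable def sepPoly (i : Fin r) : MvPolynomial (Fin r) A :=
  Polynomial.aeval (X i : MvPolynomial (Fin r) A) (G i)

/-- the ideal generated by the `G i (T i)`. -/
noncomputable def sepIdeal : Ideal (MvPolynomial (Fin r) A) := Ideal.span (Set.range (sepPoly G))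

/-- the quotient `A[T₁, …, T_r] / (G₁(T₁), …, G_r(T_r))`. -/
abbrev Q : Type u := MvPolynomial (Fin r) A ⧸ sepIdeal G

/-- the class of the `i`-th variable. -/
noncomputable def t (i : Fin r) : Q G := Ideal.Quotient.mk (sepIdeal G) (X i)

theorem smul_eq (a : A) (x : Q G) : a • x = algebraMap A (Q G) a * x :=
  @Algebra.smul_def A (Q G) _ _ (inferInstance : Algebra A (Q G)) _ _

theorem aeval_t (i : Fin r) : Polynomial.aeval (t G i) (G i) = 0 := by
  have h1 : Polynomial.aeval (t G i) (G i) =
      Ideal.Quotient.mkₐ A (sepIdeal G) (Polynomial.aeval (X i : MvPolynomial (Fin r) A) (G i)) := by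
    rw [← Polynomial.aeval_algHom_apply]
    rfl
  rw [h1]
  exact Ideal.Quotient.eq_zero_iff_mem.mpr (Ideal.subset_span ⟨i, rfl⟩)

theorem isIntegral_t (hG : ∀ i, (G i).Monic) (i : Fin r) : IsIntegral A (t G i) :=
  ⟨G i, hG i, aeval_t G i⟩

theorem adjoin_t : Algebra.adjoin A (Set.range (t G)) = ⊤ := by
  have h1 : (Algebra.adjoin A (Set.range (X : Fin r → MvPolynomial (Fin r) A))).map
      (Ideal.Quotient.mkₐ A (sepIdeal G)) = ⊤ := by
    rw [MvPolynomial.adjoin_range_X, Algebra.map_top]
    rw [eq_top_iff]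
    intro y _
    obtain ⟨x, rfl⟩ := Ideal.Quotient.mk_surjective y
    exact ⟨x, rfl⟩
  rw [← h1, AlgHom.map_adjoin]
  congr 1
  ext y
  constructor
  · rintro ⟨i, rfl⟩
    exact ⟨X i, ⟨i, rfl⟩, rfl⟩
  · rintro ⟨_, ⟨i, rfl⟩, rfl⟩
    exact ⟨i, rfl⟩

theorem finite (hG : ∀ i, (G i).Monic) : Module.Finite A (Q G) := by
  have h1 : (Algebra.adjoin A (Set.range (t G))).toSubmodule.FG :=
    fg_adjoin_of_finite (Set.finite_range _) (by
      rintro _ ⟨i, rfl⟩
      exact isIntegral_t G hG i)
  rw [adjoin_t] at h1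
  exact ⟨h1⟩

theorem isIntegral (hG : ∀ i, (G i).Monic) : Algebra.IsIntegral A (Q G) := by
  have := finite G hG
  infer_instance

section Lift

variable {E : Type v} [CommRing E] [Algebra A E] (e : Fin r → E)
  (he : ∀ i, Polynomial.aeval (e i) (G i) = 0)

/-- maps out of the quotient. -/
noncomputable def lift : Q G →ₐ[A] E :=
  Ideal.Quotient.liftₐ (sepIdeal G) (MvPolynomial.aeval e) (by
    intro a ha
    have hle : sepIdeal G ≤ RingHom.ker (MvPolynomial.aeval e : MvPolynomial (Fin r) A →ₐ[A] E) := by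
      unfold sepIdeal
      rw [Ideal.span_le]
      rintro _ ⟨i, rfl⟩
      change (MvPolynomial.aeval e) (sepPoly G i) = 0
      unfold sepPoly
      rw [← Polynomial.aeval_algHom_apply, MvPolynomial.aeval_X]
      exact he i
    exact hle ha)

theorem lift_mk (g : MvPolynomial (Fin r) A) :
    lift G e he (Ideal.Quotient.mk (sepIdeal G) g) = MvPolynomial.aeval e g := rfl

theorem lift_t (i : Fin r) : lift G e he (t G i) = e i := by
  unfold t
  rw [lift_mk, MvPolynomial.aeval_X]

end Lift

theorem algHom_ext {E : Type v} [CommRing E] [Algebra A E] {φ ψ : Q G →ₐ[A] E}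
    (h : ∀ i, φ (t G i) = ψ (t G i)) : φ = ψ := by
  apply AlgHom.ext_of_adjoin_eq_top (adjoin_t G)
  rintro _ ⟨i, rfl⟩
  exact h i

theorem ringHom_ext {E : Type v} [CommRing E] {φ ψ : Q G →+* E}
    (hA : ∀ a : A, φ (algebraMap A (Q G) a) = ψ (algebraMap A (Q G) a))
    (h : ∀ i, φ (t G i) = ψ (t G i)) : φ = ψ := by
  apply Ideal.Quotient.ringHom_ext
  apply MvPolynomial.ringHom_ext
  · intro a
    exact hA a
  · intro i
    exact h i

/-- every element differs from a constant by a combination of the variables. -/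
theorem exists_sub_mem_span_t (x : Q G) :
    ∃ a : A, x - algebraMap A (Q G) a ∈ Ideal.span (Set.range (t G)) := by
  obtain ⟨g, rfl⟩ := Ideal.Quotient.mk_surjective x
  induction g using MvPolynomial.induction_on with
  | C a =>
    refine ⟨a, ?_⟩
    have : Ideal.Quotient.mk (sepIdeal G) (C a) = algebraMap A (Q G) a := rfl
    rw [this, sub_self]
    exact Ideal.zero_mem _
  | add g₁ g₂ h₁ h₂ =>
    obtain ⟨a₁, h₁⟩ := h₁
    obtain ⟨a₂, h₂⟩ := h₂
    refine ⟨a₁ + a₂, ?_⟩
    rw [map_add, map_add]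
    have := Ideal.add_mem _ h₁ h₂
    convert this using 1
    ring
  | mul_X g i _ =>
    refine ⟨0, ?_⟩
    rw [map_zero, sub_zero, map_mul]
    exact Ideal.mul_mem_left _ _ (Ideal.subset_span ⟨i, rfl⟩)

theorem algebraMap_injective [IsDomain A] (hG : ∀ i, (G i).Monic)
    (hd : ∀ i, (G i).natDegree ≠ 0) : Function.Injective (algebraMap A (Q G)) := by
  let L := AlgebraicClosure (FractionRing A)
  have hroot : ∀ i, ∃ z : L, Polynomial.aeval z (G i) = 0 := by
    intro i
    have hdeg : ((G i).map (algebraMap A L)).degree ≠ 0 := by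
      rw [(hG i).degree_map, Polynomial.degree_eq_natDegree (hG i).ne_zero]
      exact_mod_cast hd i
    obtain ⟨z, hz⟩ := IsAlgClosed.exists_root _ hdeg
    refine ⟨z, ?_⟩
    rw [Polynomial.aeval_def, ← Polynomial.eval_map]
    exact hz
  choose z hz using hroot
  have hcomp : ∀ a : A, lift G z hz (algebraMap A (Q G) a) = algebraMap A L a :=
    fun a => (lift G z hz).commutes a
  have hinj : Function.Injective (algebraMap A L) := by
    rw [IsScalarTower.algebraMap_eq A (FractionRing A) L]
    exact (algebraMap (FractionRing A) L).injective.comp (IsFractionRing.injective A _)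
  intro a b hab
  apply hinj
  rw [← hcomp, ← hcomp, hab]

theorem ringKrullDim_eq [IsDomain A] (hG : ∀ i, (G i).Monic)
    (hd : ∀ i, (G i).natDegree ≠ 0) : ringKrullDim (Q G) = ringKrullDim A := by
  have := isIntegral G hG
  exact Groth.Agent.Lib.Helper29.ringKrullDim_eq_of_isIntegral_of_injective
    (algebraMap_injective G hG hd)

end Groth.Agent.Lib.Helper5.SepQuot
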