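import Mathlib

set_option autoImplicit false
set_option linter.unusedSectionVars false
universe u

namespace Groth.Agent.Lib.Helper5.SerreConv

open CategoryTheory

section Base

variable {R : Type u} [CommRing R] (x : R) {R' : Type u} [CommRing R'] [Algebra R R']
  (hs : Function.Surjective (algebraMap R R')) (hx : algebraMap R R' x = 0)

include hx in
theorem smul_eq_zero_of_tower {P : Type*} [AddCommGroup P] [Module R P] [Module R' P]
    [IsScalarTower R R' P] (p : P) : x • p = 0 := by
  rw [← algebraMap_smul R' x p, hx, zero_smul]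

include hs hx in
theorem projective_quot
    (M : Type u) [AddCommGroup M] [Module R M] (M' : Type u) [AddCommGroup M']
    [Module R M'] [Module R' M'] [IsScalarTower R R' M']
    (q : M →ₗ[R] M') (hq : Function.Surjective q) (hker : ∀ m, q m = 0 → ∃ m', m = x • m')
    [Module.Projective R M] : Module.Projective R' M' := by
  apply Module.Projective.of_lifting_property''
  intro f hf
  obtain ⟨h, hh⟩ := Module.projective_lifting_property (f.restrictScalars R) q hf
  have hle : LinearMap.ker q ≤ LinearMap.ker h := by
    intro m hm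
    obtain ⟨m', rfl⟩ := hker m hm
    rw [LinearMap.mem_ker, map_smul]
    exact smul_eq_zero_of_tower x hx _
  let h' : M' →ₗ[R] (M' →₀ R') :=
    ((LinearMap.ker q).liftQ h hle).comp (q.quotKerEquivOfSurjective hq).symm.toLinearMap
  have hh' : ∀ m, h' (q m) = h m := by
    intro m
    have : (q.quotKerEquivOfSurjective hq).symm (q m) = Submodule.Quotient.mk m := by
      rw [LinearEquiv.symm_apply_eq]
      rfl
    change ((LinearMap.ker q).liftQ h hle) ((q.quotKerEquivOfSurjective hq).symm (q m)) = h m
    rw [this]
    rfl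
  refine ⟨h'.extendScalarsOfSurjective hs, ?_⟩
  ext m' : 1
  obtain ⟨m, rfl⟩ := hq m'
  change f (h' (q m)) = q m
  rw [hh']
  exact LinearMap.congr_fun hh m

end Base

section Step

variable {R : Type u} [CommRing R] (x : R) {R' : Type u} [CommRing R'] [Algebra R R']
  (hs : Function.Surjective (algebraMap R R')) (hx : algebraMap R R' x = 0)
  (hk : ∀ r, algebraMap R R' r = 0 → ∃ r', r = x * r')
  (hxR : IsSMulRegular R x)
  (M : Type u) [AddCommGroup M] [Module R M] (M' : Type u) [AddCommGroup M']
  [Module R M'] [Module R' M'] [IsScalarTower R R' M']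
  (q : M →ₗ[R] M') (hq : Function.Surjective q) (hker : ∀ m, q m = 0 → ∃ m', m = x • m')
  (hxM : IsSMulRegular M x)

/-- the free cover -/
noncomputable abbrev cov : (M →₀ R) →ₗ[R] M := Finsupp.linearCombination R (id : M → M)

noncomputable abbrev cov' : (M →₀ R') →ₗ[R'] M' := Finsupp.linearCombination R' (fun m : M => q m)

noncomputable abbrev qF : (M →₀ R) →ₗ[R] (M →₀ R') :=
  Finsupp.mapRange.linearMap (Algebra.linearMap R R')

theorem cov_surjective : Function.Surjective (cov (R := R) M) :=
  Finsupp.linearCombination_surjective _ Function.surjective_id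

include hq in
theorem cov'_surjective : Function.Surjective (cov' (R := R) (R' := R') M M' q) := by
  intro m'
  obtain ⟨m, rfl⟩ := hq m'
  exact ⟨Finsupp.single m 1, by simp [cov']⟩

theorem cov'_qF (f : M →₀ R) : cov' M M' q (qF (R' := R') M f) = q (cov M f) := by
  induction f using Finsupp.induction_linear with
  | zero => simp
  | add f g hf hg => rw [map_add, map_add, map_add, map_add, hf, hg]
  | single a r =>
    simp [cov', qF, cov]

include hs in
theorem qF_surjective : Function.Surjective (qF (R := R) (R' := R') M) := by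
  intro f'
  induction f' using Finsupp.induction_linear with
  | zero => exact ⟨0, map_zero _⟩
  | add f g hf hg =>
    obtain ⟨a, rfl⟩ := hf
    obtain ⟨b, rfl⟩ := hg
    exact ⟨a + b, map_add _ _ _⟩
  | single a r' =>
    obtain ⟨r, rfl⟩ := hs r'
    exact ⟨Finsupp.single a r, by simp [qF]⟩

include hk hxR in
theorem qF_ker (f : M →₀ R) (hf : qF (R' := R') M f = 0) : ∃ f₁ : M →₀ R, f = x • f₁ := by
  classical
  have h0 : ∀ a, algebraMap R R' (f a) = 0 := by
    intro a
    have := DFunLike.congr_fun hf a
    simpa [qF] using this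
  choose g hg using fun a => hk (f a) (h0 a)
  refine ⟨Finsupp.onFinset f.support g ?_, ?_⟩
  · intro a ha
    rw [Finsupp.mem_support_iff]
    intro h
    apply ha
    have h1 := hg a
    rw [h, eq_comm] at h1
    exact hxR (by simpa using h1)
  · ext a
    rw [Finsupp.smul_apply, Finsupp.onFinset_apply, smul_eq_mul]
    exact hg a

/-- the induced map on kernels -/
noncomputable def qK : LinearMap.ker (cov (R := R) M) →ₗ[R] LinearMap.ker (cov' (R' := R') M M' q) where
  toFun k := ⟨qF M k.1, by
    rw [LinearMap.mem_ker, cov'_qF, (LinearMap.mem_ker.1 k.2), map_zero]⟩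
  map_add' a b := by
    apply Subtype.ext
    exact map_add (qF (R' := R') M) a.1 b.1
  map_smul' r a := by
    apply Subtype.ext
    exact map_smul (qF (R' := R') M) r a.1

include hs hx hker in
theorem qK_surjective : Function.Surjective (qK (R := R) (R' := R') M M' q) := by
  rintro ⟨f', hf'⟩
  obtain ⟨f, rfl⟩ := qF_surjective hs M f'
  rw [LinearMap.mem_ker, cov'_qF] at hf'
  obtain ⟨m, hm⟩ := hker _ hf'
  obtain ⟨f₁, rfl⟩ := cov_surjective (R := R) M m
  refine ⟨⟨f - x • f₁, ?_⟩, ?_⟩
  · rw [LinearMap.mem_ker, map_sub, map_smul, hm, sub_self]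
  · apply Subtype.ext
    change qF M (f - x • f₁) = qF M f
    rw [map_sub, map_smul, smul_eq_zero_of_tower x hx, sub_zero]

include hk hxR hxM in
theorem qK_ker (k : LinearMap.ker (cov (R := R) M)) (hk0 : qK (R' := R') M M' q k = 0) :
    ∃ k₁ : LinearMap.ker (cov (R := R) M), k = x • k₁ := by
  have h1 : qF (R' := R') M k.1 = 0 := congrArg Subtype.val hk0
  obtain ⟨f₁, hf₁⟩ := qF_ker x hk hxR M k.1 h1
  have h2 : cov M f₁ = 0 := by
    apply hxM
    change x • cov M f₁ = x • 0
    rw [← map_smul, ← hf₁, smul_zero]
    exact LinearMap.mem_ker.1 k.2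
  exact ⟨⟨f₁, LinearMap.mem_ker.2 h2⟩, Subtype.ext hf₁⟩

include hxR in
theorem regular_ker : IsSMulRegular (LinearMap.ker (cov (R := R) M)) x := by
  intro a b hab
  apply Subtype.ext
  have h1 : x • a.1 = x • b.1 := congrArg Subtype.val hab
  ext m
  have h2 := DFunLike.congr_fun h1 m
  rw [Finsupp.smul_apply, Finsupp.smul_apply] at h2
  exact hxR h2

end Step

section Main

variable {R : Type u} [CommRing R] (x : R) {R' : Type u} [CommRing R'] [Algebra R R']
  (hs : Function.Surjective (algebraMap R R')) (hx : algebraMap R R' x = 0)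
  (hk : ∀ r, algebraMap R R' r = 0 → ∃ r', r = x * r')
  (hxR : IsSMulRegular R x)

include hs hx hk hxR in
theorem pd_changeOfRings : ∀ (n : ℕ) (M : Type u) [AddCommGroup M] [Module R M] (M' : Type u)
    [AddCommGroup M'] [Module R M'] [Module R' M'] [IsScalarTower R R' M']
    (q : M →ₗ[R] M'), Function.Surjective q → (∀ m, q m = 0 → ∃ m', m = x • m') →
    IsSMulRegular M x →
    HasProjectiveDimensionLT (ModuleCat.of R M) (n + 1) →
    HasProjectiveDimensionLT (ModuleCat.of R' M') (n + 1) := by
  intro n
  induction n with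
  | zero =>
    intro M _ _ M' _ _ _ _ q hq hker hxM hpd
    rw [zero_add] at hpd ⊢
    have h1 : Projective (ModuleCat.of R M) := inferInstance
    have h2 : Module.Projective R M := (IsProjective.iff_projective M).2 h1
    have h3 : Module.Projective R' M' := projective_quot x hs hx M M' q hq hker
    have h4 : Projective (ModuleCat.of R' M') := (IsProjective.iff_projective M').1 h3
    infer_instance
  | succ n ih =>
    intro M _ _ M' _ _ _ _ q hq hker hxM hpd
    have hS := LinearMap.shortExact_shortComplexKer (cov_surjective (R := R) M)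
    have hF : HasProjectiveDimensionLT (ModuleCat.of R (M →₀ R)) (n + 1) :=
      hasProjectiveDimensionLT_of_ge _ 1 (n + 1) (by omega)
    have hK : HasProjectiveDimensionLT (ModuleCat.of R (LinearMap.ker (cov (R := R) M))) (n + 1) :=
      hS.hasProjectiveDimensionLT_X₁ (n + 1) hF hpd
    have hK' := ih (LinearMap.ker (cov (R := R) M)) (LinearMap.ker (cov' (R' := R') M M' q))
      (qK M M' q) (qK_surjective x hs hx M M' q hker) (qK_ker x hk hxR M M' q hxM)
      (regular_ker x hxR M) hK
    have hS' := LinearMap.shortExact_shortComplexKer (cov'_surjective (R := R) (R' := R') M M' q hq)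
    have hF' : HasProjectiveDimensionLT (ModuleCat.of R' (M →₀ R')) (n + 1 + 1) :=
      hasProjectiveDimensionLT_of_ge _ 1 (n + 1 + 1) (by omega)
    exact hS'.hasProjectiveDimensionLT_X₃ (n + 1) hK' hF'

end Main

end Groth.Agent.Lib.Helper5.SerreConv
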