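import Groth.Agent.Lib.helper11.GlDimRegular
import Groth.Agent.Lib.helper19.RegularLocal
import Groth.Agent.S0560
import Mathlib

set_option autoImplicit false
set_option linter.unusedSectionVars false
universe u

namespace Groth.Agent.Lib.Helper5.SerreConv

open CategoryTheory IsLocalRing

section F1

variable (R : Type u) [CommRing R] [IsLocalRing R] [IsNoetherianRing R]

theorem pd_residue_descend (d : ℕ)
    (h : HasProjectiveDimensionLT (ModuleCat.of R (ResidueField R)) (d + 2))
    (j : ResidueField R →ₗ[R] R) (hj : Function.Injective j) :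
    HasProjectiveDimensionLT (ModuleCat.of R (ResidueField R)) (d + 1) := by
  have hgl : ∀ M : ModuleCat.{u} R, HasProjectiveDimensionLT M (d + 1 + 1) := by
    intro M
    refine Groth.Agent.Lib.helper11.GlDimRegular.hasProjectiveDimensionLT_of_ext_residue (d + 1) ?_ M
    intro N _ _ _ i hi
    exact HasProjectiveDimensionLT.subsingleton _ (d + 2) i hi _
  let S : ShortComplex (ModuleCat.{u} R) :=
    ShortComplex.mk (ModuleCat.ofHom j) (ModuleCat.ofHom (LinearMap.range j).mkQ) (by
      ext a
      exact (Submodule.Quotient.mk_eq_zero _).2 ⟨a, rfl⟩)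
  have hS : S.ShortExact := by
    apply ModuleCat.shortComplex_shortExact
    · intro y
      change (LinearMap.range j).mkQ y = 0 ↔ y ∈ Set.range j
      rw [Submodule.mkQ_apply, Submodule.Quotient.mk_eq_zero]
      rfl
    · exact hj
    · exact (LinearMap.range j).mkQ_surjective
  have hR0 : Module.Projective R R := inferInstance
  have hR1 : Projective (ModuleCat.of R R) := (IsProjective.iff_projective R).1 hR0
  have hR2 : HasProjectiveDimensionLT (ModuleCat.of R R) 1 :=
    projective_iff_hasProjectiveDimensionLT_one.1 hR1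
  have hR : HasProjectiveDimensionLT (ModuleCat.of R R) (d + 1) :=
    hasProjectiveDimensionLT_of_ge _ 1 (d + 1) (by omega)
  exact hS.hasProjectiveDimensionLT_X₁ (d + 1) hR (hgl _)

theorem projective_residue (n : ℕ)
    (h : HasProjectiveDimensionLT (ModuleCat.of R (ResidueField R)) n)
    (j : ResidueField R →ₗ[R] R) (hj : Function.Injective j) :
    Module.Projective R (ResidueField R) := by
  have key : ∀ d, HasProjectiveDimensionLT (ModuleCat.of R (ResidueField R)) (d + 1) →
      HasProjectiveDimensionLT (ModuleCat.of R (ResidueField R)) 1 := by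
    intro d
    induction d with
    | zero => intro h; exact h
    | succ d ih => intro h; exact ih (pd_residue_descend R d h j hj)
  have h1 : HasProjectiveDimensionLT (ModuleCat.of R (ResidueField R)) (n + 1) :=
    hasProjectiveDimensionLT_of_ge _ n (n + 1) (by omega)
  have h2 := key n h1
  have h3 : Projective (ModuleCat.of R (ResidueField R)) :=
    projective_iff_hasProjectiveDimensionLT_one.2 h2
  exact (IsProjective.iff_projective _).2 h3

theorem maximalIdeal_eq_bot_of_projective (h : Module.Projective R (ResidueField R)) :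
    maximalIdeal R = ⊥ := by
  obtain ⟨s, hs⟩ := Module.projective_lifting_property (Algebra.linearMap R (ResidueField R))
    (LinearMap.id : ResidueField R →ₗ[R] ResidueField R) residue_surjective
  have h1 : residue R (s 1) = 1 := LinearMap.congr_fun hs 1
  have hu : IsUnit (s 1) := by
    have : IsUnit (residue R (s 1)) := by rw [h1]; exact isUnit_one
    exact (isUnit_map_iff (residue R) _).1 this
  rw [eq_bot_iff]
  intro a ha
  have h2 : a • (1 : ResidueField R) = 0 := by
    rw [Algebra.smul_def, mul_one]
    exact (residue_eq_zero_iff a).2 ha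
  have h3 : a * s 1 = 0 := by
    rw [← smul_eq_mul, ← map_smul, h2, map_zero]
  rw [Ideal.mem_bot]
  exact (hu.mul_left_eq_zero).1 h3

end F1

section F2

variable (R : Type u) [CommRing R] [IsLocalRing R] [IsNoetherianRing R]

theorem exists_embedding_of_mem_ass (h : maximalIdeal R ∈ associatedPrimes R R) :
    ∃ j : ResidueField R →ₗ[R] R, Function.Injective j := by
  obtain ⟨-, a, ha⟩ := (isAssociatedPrime_iff (M := R)).1 h
  have hmem : ∀ r : R, r ∈ maximalIdeal R ↔ r * a = 0 := by
    intro r
    rw [ha, Submodule.mem_colon_singleton, Submodule.mem_bot, smul_eq_mul]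
  let j₀ : ResidueField R →+ R :=
    QuotientAddGroup.lift _ (AddMonoidHom.mulRight a) (by
      intro r hr
      exact (hmem r).1 hr)
  have hj₀ : ∀ r : R, j₀ (residue R r) = r * a := fun r => rfl
  let j : ResidueField R →ₗ[R] R :=
    { toFun := j₀
      map_add' := j₀.map_add
      map_smul' := by
        intro r y
        obtain ⟨y, rfl⟩ := residue_surjective y
        rw [Algebra.smul_def, RingHom.id_apply]
        change j₀ (residue R r * residue R y) = r • j₀ (residue R y)
        rw [← map_mul, hj₀, hj₀, smul_eq_mul, mul_assoc] }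
  refine ⟨j, ?_⟩
  rw [injective_iff_map_eq_zero]
  intro y hy
  obtain ⟨y, rfl⟩ := residue_surjective y
  change j₀ (residue R y) = 0 at hy
  rw [hj₀] at hy
  exact (residue_eq_zero_iff y).2 ((hmem y).2 hy)

theorem exists_nzd (hm : maximalIdeal R ≠ ⊥)
    (hemb : ∀ j : ResidueField R →ₗ[R] R, ¬ Function.Injective j) :
    ∃ x ∈ maximalIdeal R, x ∉ maximalIdeal R ^ 2 ∧ x ∈ nonZeroDivisors R := by
  classical
  by_contra hcon
  push Not at hcon
  have hfin : (associatedPrimes R R).Finite := associatedPrimes.finite R R
  let F : Finset (Ideal R) := insert (maximalIdeal R ^ 2) hfin.toFinset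
  have hsub : ((maximalIdeal R : Ideal R) : Set R) ⊆ ⋃ i ∈ (F : Set (Ideal R)), (i : Set R) := by
    intro x hx
    by_cases hx2 : x ∈ maximalIdeal R ^ 2
    · refine Set.mem_biUnion (x := maximalIdeal R ^ 2) ?_ hx2
      simp [F]
    · have hx3 := hcon x hx hx2
      have hx4 : x ∈ (nonZeroDivisors R : Set R)ᶜ := hx3
      rw [← biUnion_associatedPrimes_eq_compl_nonZeroDivisors] at hx4
      obtain ⟨p, hp, hxp⟩ := Set.mem_iUnion₂.1 hx4
      refine Set.mem_biUnion (x := p) ?_ hxp
      simp [F, hp]
  have := (Ideal.subset_union_prime (s := F) (f := fun i => i) (maximalIdeal R ^ 2)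
    (maximalIdeal R ^ 2) (fun i hi hia _ => by
      have : i ∈ associatedPrimes R R := by
        simpa [F, hia] using hi
      exact this.1)).mp hsub
  obtain ⟨i, hi, hle⟩ := this
  simp only [F, Finset.mem_insert, Set.Finite.mem_toFinset] at hi
  rcases hi with rfl | hi
  · apply hm
    apply Submodule.eq_bot_of_le_smul_of_le_jacobson_bot (maximalIdeal R) (maximalIdeal R)
      (IsNoetherian.noetherian _)
    · rw [smul_eq_mul, ← pow_two]; exact hle
    · exact (IsLocalRing.jacobson_eq_maximalIdeal _ bot_ne_top).ge
  · have hmi : maximalIdeal R = i := by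
      apply le_antisymm hle
      exact le_maximalIdeal hi.1.ne_top
    rw [← hmi] at hi
    obtain ⟨j, hj⟩ := exists_embedding_of_mem_ass R hi
    exact hemb j hj

end F2

end Groth.Agent.Lib.Helper5.SerreConv
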