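import Groth.Agent.Lib.Helper5.SerreConvA
import Groth.Agent.Lib.Helper5.SerreConvB
import Groth.Agent.S0560
import Mathlib

set_option autoImplicit false
set_option linter.unusedSectionVars false
universe u

namespace Groth.Agent.Lib.Helper5.SerreConv

open CategoryTheory IsLocalRing

section F3

variable (R : Type u) [CommRing R] [IsLocalRing R] [IsNoetherianRing R] (x : R)
  (hx : x ∈ maximalIdeal R) (hx2 : x ∉ maximalIdeal R ^ 2)

include hx2 in
/-- a functional on the maximal ideal with value `1` at `x` -/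
theorem exists_functional :
    ∃ l : maximalIdeal R →ₗ[R] ResidueField R, l ⟨x, hx⟩ = 1 := by
  have hc : (maximalIdeal R).toCotangent ⟨x, hx⟩ ≠ 0 := by
    intro h
    rw [Ideal.toCotangent_eq_zero] at h
    exact hx2 h
  have h1 := (Module.forall_dual_apply_eq_zero_iff (ResidueField R)
    ((maximalIdeal R).toCotangent ⟨x, hx⟩ : CotangentSpace R)).not.2 hc
  push Not at h1
  obtain ⟨φ, hφ⟩ := h1
  let φ' : CotangentSpace R →ₗ[ResidueField R] ResidueField R :=
    (φ ((maximalIdeal R).toCotangent ⟨x, hx⟩))⁻¹ • φ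
  refine ⟨(φ'.restrictScalars R).comp (maximalIdeal R).toCotangent, ?_⟩
  change (φ ((maximalIdeal R).toCotangent ⟨x, hx⟩))⁻¹ • φ ((maximalIdeal R).toCotangent ⟨x, hx⟩) = 1
  rw [smul_eq_mul, inv_mul_cancel₀ hφ]

/-- the residue map of `R` factored through `R ⧸ (x)` -/
noncomputable def rho : R ⧸ Ideal.span ({x} : Set R) →+* ResidueField R :=
  Ideal.Quotient.lift (Ideal.span ({x} : Set R)) (residue R) (by
    intro a ha
    rw [residue_eq_zero_iff]
    exact (Ideal.span_le.2 (Set.singleton_subset_iff.2 hx)) ha)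

theorem rho_mk (r : R) : rho R x hx (Ideal.Quotient.mk _ r) = residue R r := rfl

theorem rho_surjective : Function.Surjective (rho R x hx) := by
  intro y
  obtain ⟨r, rfl⟩ := residue_surjective y
  exact ⟨Ideal.Quotient.mk _ r, rfl⟩

theorem ker_rho [IsLocalRing (R ⧸ Ideal.span ({x} : Set R))] :
    RingHom.ker (rho R x hx) = maximalIdeal (R ⧸ Ideal.span ({x} : Set R)) :=
  IsLocalRing.eq_maximalIdeal (RingHom.ker_isMaximal_of_surjective _ (rho_surjective R x hx))


section Inst

variable [Module (R ⧸ Ideal.span ({x} : Set R)) (ResidueField R)]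
  (hsm : ∀ (r' : R ⧸ Ideal.span ({x} : Set R)) (y : ResidueField R), r' • y = rho R x hx r' * y)

include hsm in
theorem tower_of_hsm : IsScalarTower R (R ⧸ Ideal.span ({x} : Set R)) (ResidueField R) := by
  apply IsScalarTower.of_algebraMap_smul
  intro r y
  rw [hsm, Algebra.smul_def]
  rfl

include hsm in
theorem exists_surj_of_hsm [IsLocalRing (R ⧸ Ideal.span ({x} : Set R))] :
    ∃ f : (R ⧸ Ideal.span ({x} : Set R)) →ₗ[R ⧸ Ideal.span ({x} : Set R)] ResidueField R,
      Function.Surjective f ∧
      LinearMap.ker f = maximalIdeal (R ⧸ Ideal.span ({x} : Set R)) := by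
  refine ⟨LinearMap.toSpanSingleton _ _ 1, ?_, ?_⟩
  · intro y
    obtain ⟨r', rfl⟩ := rho_surjective R x hx y
    exact ⟨r', by rw [LinearMap.toSpanSingleton_apply, hsm, mul_one]⟩
  · rw [← ker_rho R x hx]
    ext r'
    rw [LinearMap.mem_ker, LinearMap.toSpanSingleton_apply, hsm, mul_one, RingHom.mem_ker]

end Inst

section Retract

/-- `𝔪 / x𝔪` -/
abbrev Mq : Type u :=
  (maximalIdeal R) ⧸ ((Ideal.span ({x} : Set R)) • (⊤ : Submodule R (maximalIdeal R)))

instance : IsScalarTower R (R ⧸ Ideal.span ({x} : Set R)) (Mq R x) := by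
  apply IsScalarTower.of_algebraMap_smul
  intro r y
  obtain ⟨y, rfl⟩ := Submodule.Quotient.mk_surjective _ y
  rfl

theorem mkQ_ker_le (y : maximalIdeal R)
    (hy : (Submodule.mkQ ((Ideal.span ({x} : Set R)) • (⊤ : Submodule R (maximalIdeal R)))) y = 0) :
    ∃ y' : maximalIdeal R, y = x • y' := by
  rw [Submodule.mkQ_apply, Submodule.Quotient.mk_eq_zero, Submodule.ideal_span_singleton_smul,
    Submodule.mem_smul_pointwise_iff_exists] at hy
  obtain ⟨y', -, rfl⟩ := hy
  exact ⟨y', rfl⟩

variable [Module (R ⧸ Ideal.span ({x} : Set R)) (ResidueField R)]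
  (hsm : ∀ (r' : R ⧸ Ideal.span ({x} : Set R)) (y : ResidueField R), r' • y = rho R x hx r' * y)

include hsm hx2 in
theorem exists_retract :
    ∃ (i : ResidueField R →ₗ[R ⧸ Ideal.span ({x} : Set R)] Mq R x)
      (r : Mq R x →ₗ[R ⧸ Ideal.span ({x} : Set R)] ResidueField R), r.comp i = LinearMap.id := by
  have htower := tower_of_hsm R x hx hsm
  have hsurj : Function.Surjective (algebraMap R (R ⧸ Ideal.span ({x} : Set R))) :=
    Ideal.Quotient.mk_surjective
  obtain ⟨l, hl⟩ := exists_functional R x hx hx2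
  -- the retraction
  have hle : ((Ideal.span ({x} : Set R)) • (⊤ : Submodule R (maximalIdeal R))) ≤ LinearMap.ker l := by
    intro y hy
    rw [Submodule.ideal_span_singleton_smul, Submodule.mem_smul_pointwise_iff_exists] at hy
    obtain ⟨y', -, rfl⟩ := hy
    rw [LinearMap.mem_ker, map_smul, Algebra.smul_def]
    have : algebraMap R (ResidueField R) x = 0 := (residue_eq_zero_iff x).2 hx
    rw [this, zero_mul]
  let r₀ : Mq R x →ₗ[R] ResidueField R := Submodule.liftQ _ l hle
  let r : Mq R x →ₗ[R ⧸ Ideal.span ({x} : Set R)] ResidueField R :=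
    r₀.extendScalarsOfSurjective hsurj
  -- the section
  let xq : Mq R x := Submodule.Quotient.mk ⟨x, hx⟩
  have hkill : ∀ a ∈ maximalIdeal R, a • xq = 0 := by
    intro a ha
    change Submodule.Quotient.mk (a • (⟨x, hx⟩ : maximalIdeal R)) = 0
    rw [Submodule.Quotient.mk_eq_zero, Submodule.ideal_span_singleton_smul,
      Submodule.mem_smul_pointwise_iff_exists]
    refine ⟨⟨a, ha⟩, trivial, ?_⟩
    apply Subtype.ext
    change x * a = a * x
    exact mul_comm x a
  let i₀ : ResidueField R →+ Mq R x :=
    QuotientAddGroup.lift _ ((AddMonoidHom.flip (AddMonoidHom.smul : R →+ Mq R x →+ Mq R x)) xq)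
      (fun a ha => hkill a ha)
  have hi₀ : ∀ a : R, i₀ (residue R a) = a • xq := fun a => rfl
  let i : ResidueField R →ₗ[R ⧸ Ideal.span ({x} : Set R)] Mq R x :=
    { toFun := i₀
      map_add' := i₀.map_add
      map_smul' := by
        intro r' y
        obtain ⟨a, rfl⟩ := Ideal.Quotient.mk_surjective r'
        obtain ⟨b, rfl⟩ := residue_surjective y
        rw [hsm, rho_mk, ← map_mul, RingHom.id_apply]
        rw [hi₀, hi₀, mul_smul]
        rfl }
  refine ⟨i, r, ?_⟩
  ext y
  obtain ⟨b, rfl⟩ := residue_surjective y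
  change r₀ (i₀ (residue R b)) = residue R b
  rw [hi₀, map_smul]
  change b • l ⟨x, hx⟩ = _
  rw [hl, Algebra.smul_def, mul_one]
  rfl

end Retract


section StepThm

include hx hx2 in
theorem pd_step (n : ℕ) (hreg : x ∈ nonZeroDivisors R)
    [IsLocalRing (R ⧸ Ideal.span ({x} : Set R))]
    (hpd : HasProjectiveDimensionLT (ModuleCat.of R (ResidueField R)) (n + 1)) :
    ∃ (_ : Module (R ⧸ Ideal.span ({x} : Set R)) (ResidueField R))
      (f : (R ⧸ Ideal.span ({x} : Set R)) →ₗ[R ⧸ Ideal.span ({x} : Set R)] ResidueField R),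
      Function.Surjective f ∧
      LinearMap.ker f = maximalIdeal (R ⧸ Ideal.span ({x} : Set R)) ∧
      HasProjectiveDimensionLT
        (ModuleCat.of (R ⧸ Ideal.span ({x} : Set R)) (ResidueField R)) (n + 1) := by
  let inst : Module (R ⧸ Ideal.span ({x} : Set R)) (ResidueField R) :=
    Module.compHom (ResidueField R) (rho R x hx)
  have hsm : ∀ (r' : R ⧸ Ideal.span ({x} : Set R)) (y : ResidueField R),
      r' • y = rho R x hx r' * y := fun _ _ => rfl
  have htower := tower_of_hsm R x hx hsm
  obtain ⟨f, hf1, hf2⟩ := exists_surj_of_hsm R x hx hsm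
  refine ⟨inst, f, hf1, hf2, ?_⟩
  -- pd of the maximal ideal
  let S : ShortComplex (ModuleCat.{u} R) :=
    ShortComplex.mk (ModuleCat.ofHom (maximalIdeal R).subtype)
      (ModuleCat.ofHom (Algebra.linearMap R (ResidueField R))) (by
        ext a
        exact (residue_eq_zero_iff _).2 a.2)
  have hS : S.ShortExact := by
    apply ModuleCat.shortComplex_shortExact
    · intro y
      change residue R y = 0 ↔ y ∈ Set.range (maximalIdeal R).subtype
      rw [residue_eq_zero_iff]
      constructor
      · intro h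
        exact ⟨⟨y, h⟩, rfl⟩
      · rintro ⟨z, rfl⟩
        exact z.2
    · exact (maximalIdeal R).injective_subtype
    · exact residue_surjective
  have hR0 : Module.Projective R R := inferInstance
  have hR1 : Projective (ModuleCat.of R R) := (IsProjective.iff_projective R).1 hR0
  have hR2 : HasProjectiveDimensionLT (ModuleCat.of R R) 1 :=
    projective_iff_hasProjectiveDimensionLT_one.1 hR1
  have hR : HasProjectiveDimensionLT (ModuleCat.of R R) (n + 1) :=
    hasProjectiveDimensionLT_of_ge _ 1 (n + 1) (by omega)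
  have hk2 : HasProjectiveDimensionLT (ModuleCat.of R (ResidueField R)) (n + 1 + 1) :=
    hasProjectiveDimensionLT_of_ge _ (n + 1) (n + 1 + 1) (by omega)
  have hM : HasProjectiveDimensionLT (ModuleCat.of R (maximalIdeal R)) (n + 1) :=
    hS.hasProjectiveDimensionLT_X₁ (n + 1) hR hk2
  -- change of rings
  have hxR : IsSMulRegular R x := by
    intro a b hab
    have h1 : x * (a - b) = 0 := by
      rw [mul_sub, sub_eq_zero]
      exact hab
    have h2 := (mem_nonZeroDivisors_iff.1 hreg).1 _ h1
    exact sub_eq_zero.1 h2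
  have hxM : IsSMulRegular (maximalIdeal R) x := by
    intro a b hab
    apply Subtype.ext
    apply hxR
    exact congrArg Subtype.val hab
  have hM' : HasProjectiveDimensionLT
      (ModuleCat.of (R ⧸ Ideal.span ({x} : Set R)) (Mq R x)) (n + 1) := by
    refine pd_changeOfRings x Ideal.Quotient.mk_surjective ?_ ?_ hxR n (maximalIdeal R) (Mq R x)
      (Submodule.mkQ _) (Submodule.mkQ_surjective _) (mkQ_ker_le R x) hxM hM
    · rw [Ideal.Quotient.algebraMap_eq, Ideal.Quotient.eq_zero_iff_mem]
      exact Ideal.subset_span rfl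
    · intro r hr
      rw [Ideal.Quotient.algebraMap_eq, Ideal.Quotient.eq_zero_iff_mem,
        Ideal.mem_span_singleton'] at hr
      obtain ⟨a, rfl⟩ := hr
      exact ⟨a, mul_comm _ _⟩
  obtain ⟨i, r, hir⟩ := exists_retract R x hx hx2 hsm
  let ret : Retract (ModuleCat.of (R ⧸ Ideal.span ({x} : Set R)) (ResidueField R))
      (ModuleCat.of (R ⧸ Ideal.span ({x} : Set R)) (Mq R x)) :=
    { i := ModuleCat.ofHom i
      r := ModuleCat.ofHom r
      retract := by
        ext y
        exact LinearMap.congr_fun hir y }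
  exact ret.hasProjectiveDimensionLT (n + 1)

end StepThm


end F3

section MainThm

theorem exists_equiv_residue (R : Type u) [CommRing R] [IsLocalRing R]
    (N : Type u) [AddCommGroup N] [Module R N] (f : R →ₗ[R] N) (hf : Function.Surjective f)
    (hker : LinearMap.ker f = maximalIdeal R) : Nonempty (ResidueField R ≃ₗ[R] N) := by
  let g₀ : ResidueField R →+ N :=
    QuotientAddGroup.lift _ f.toAddMonoidHom (by
      intro a ha
      have : a ∈ LinearMap.ker f := by rw [hker]; exact ha
      exact this)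
  have hg₀ : ∀ a : R, g₀ (residue R a) = f a := fun a => rfl
  let g : ResidueField R →ₗ[R] N :=
    { toFun := g₀
      map_add' := g₀.map_add
      map_smul' := by
        intro r y
        obtain ⟨a, rfl⟩ := residue_surjective y
        rw [Algebra.smul_def, RingHom.id_apply]
        change g₀ (residue R r * residue R a) = r • g₀ (residue R a)
        rw [← map_mul, hg₀, hg₀, ← smul_eq_mul, map_smul] }
  refine ⟨LinearEquiv.ofBijective g ⟨?_, ?_⟩⟩
  · rw [injective_iff_map_eq_zero]
    intro y hy
    obtain ⟨a, rfl⟩ := residue_surjective y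
    change g₀ (residue R a) = 0 at hy
    rw [hg₀] at hy
    have : a ∈ LinearMap.ker f := hy
    rw [hker] at this
    exact (residue_eq_zero_iff a).2 this
  · intro y
    obtain ⟨a, rfl⟩ := hf y
    exact ⟨residue R a, rfl⟩

theorem main_aux : ∀ (e : ℕ) (R : Type u) [CommRing R] [IsLocalRing R] [IsNoetherianRing R],
    (maximalIdeal R).spanFinrank = e →
    ∀ (N : Type u) [AddCommGroup N] [Module R N] (f : R →ₗ[R] N), Function.Surjective f →
    LinearMap.ker f = maximalIdeal R →
    ∀ n, HasProjectiveDimensionLT (ModuleCat.of R N) (n + 1) → IsRegularLocalRing R := by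
  intro e
  induction e using Nat.strong_induction_on with
  | _ e ih =>
    intro R _ _ _ he N _ _ f hf hker n hpdN
    obtain ⟨eN⟩ := exists_equiv_residue R N f hf hker
    have hpd : HasProjectiveDimensionLT (ModuleCat.of R (ResidueField R)) (n + 1) :=
      hasProjectiveDimensionLT_of_iso eN.symm.toModuleIso (n + 1)
    by_cases hm : maximalIdeal R = ⊥
    · apply IsRegularLocalRing.of_spanFinrank_maximalIdeal_le
      rw [hm]
      have h0 : (⊥ : Ideal R).spanFinrank = 0 :=
        (Submodule.spanFinrank_eq_zero_iff_eq_bot (Submodule.fg_bot)).2 rfl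
      rw [h0]
      exact ringKrullDim_nonneg_of_nontrivial
    by_cases hemb : ∃ j : ResidueField R →ₗ[R] R, Function.Injective j
    · obtain ⟨j, hj⟩ := hemb
      exact absurd (maximalIdeal_eq_bot_of_projective R (projective_residue R (n + 1) hpd j hj)) hm
    push Not at hemb
    obtain ⟨x, hx, hx2, hreg⟩ := exists_nzd R hm hemb
    have hloc : IsLocalRing (R ⧸ Ideal.span ({x} : Set R)) :=
      Groth.Agent.Lib.helper19.isLocalRing_quotient _ (Groth.Agent.Lib.helper19.span_singleton_ne_top hx)
    have hlt : (maximalIdeal (R ⧸ Ideal.span ({x} : Set R))).spanFinrank < e := by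
      have := Groth.Agent.Lib.helper19.spanFinrank_maximalIdeal_quotient_succ_le hx hx2
      omega
    obtain ⟨inst, f', hf1, hf2, hpd'⟩ := pd_step R x hx hx2 n hreg hpd
    have hreg' : IsRegularLocalRing (R ⧸ Ideal.span ({x} : Set R)) :=
      ih _ hlt (R ⧸ Ideal.span ({x} : Set R)) rfl (ResidueField R) f' hf1 hf2 n hpd'
    exact Groth.Agent.S0560.result R x hx hreg

theorem serre_converse (R : Type u) [CommRing R] [IsLocalRing R] [IsNoetherianRing R] (n : ℕ)
    (h : HasProjectiveDimensionLT (ModuleCat.of R (ResidueField R)) n) :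
    IsRegularLocalRing R := by
  have h1 : HasProjectiveDimensionLT (ModuleCat.of R (ResidueField R)) (n + 1) :=
    hasProjectiveDimensionLT_of_ge _ n (n + 1) (by omega)
  refine main_aux _ R rfl (ResidueField R) (Algebra.linearMap R (ResidueField R))
    residue_surjective ?_ n h1
  ext a
  rw [LinearMap.mem_ker]
  exact residue_eq_zero_iff a

end MainThm


end Groth.Agent.Lib.Helper5.SerreConv
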