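import Mathlib
import Groth.Prelude.Def_CAlgX
import Groth.Agent.Lib.Helper5.SmQuotE
import Groth.Agent.Lib.Helper5.RegImmA

set_option autoImplicit false
universe u

namespace Groth.Agent.Lib.Helper5.SmQuot

open AlgebraicGeometry CategoryTheory

theorem mem_smoothLocus_of_regular {X Y S : Scheme.{u}} (f : X ⟶ S)
    [LocallyOfFinitePresentation f] (j : Y ⟶ X) [IsClosedImmersion j]
    [LocallyOfFinitePresentation (j ≫ f)]
    (y : Y) (hy : y ∈ (j ≫ f).smoothLocus)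
    (U₀ : S.Opens) (hU₀ : IsAffineOpen U₀)
    (U : X.Opens) (hU : IsAffineOpen U) (hUU₀ : U ≤ f ⁻¹ᵁ U₀) (hyU : j y ∈ U)
    (rs : List Γ(X, U)) (hrs : RingTheory.Sequence.IsWeaklyRegular Γ(X, U) rs)
    (hker : RingHom.ker (j.app U).hom = Ideal.ofList rs) :
    j y ∈ f.smoothLocus := by
  have hV : IsAffineOpen (j ⁻¹ᵁ U) :=
    Groth.Agent.Lib.Helper5.RegImmA.isAffineOpen_preimage_of_restrict j hU
  have hsurj : Function.Surjective (j.app U).hom :=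
    Groth.Agent.Lib.Helper5.RegImmA.app_surjective_of_restrict j hU
  have hVU₀ : j ⁻¹ᵁ U ≤ (j ≫ f) ⁻¹ᵁ U₀ := fun z hz => hUU₀ hz
  have hyV : y ∈ j ⁻¹ᵁ U := hyU
  have hfp := f.finitePresentation_appLE hU₀ hU hUU₀
  rw [Scheme.Hom.mem_smoothLocus, formallySmooth_stalkMap_iff U₀ hU₀ U hU hUU₀ hyU]
  rw [Scheme.Hom.mem_smoothLocus,
    formallySmooth_stalkMap_iff U₀ hU₀ (j ⁻¹ᵁ U) hV hVU₀ hyV] at hy
  let _ : Algebra Γ(S, U₀) Γ(X, U) := (f.appLE U₀ U hUU₀).hom.toAlgebra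
  let _ : Algebra Γ(S, U₀) Γ(Y, j ⁻¹ᵁ U) := ((j ≫ f).appLE U₀ (j ⁻¹ᵁ U) hVU₀).hom.toAlgebra
  have : Algebra.FinitePresentation Γ(S, U₀) Γ(X, U) := hfp
  have hcomm : f.appLE U₀ U hUU₀ ≫ j.app U = (j ≫ f).appLE U₀ (j ⁻¹ᵁ U) hVU₀ := by
    rw [← Scheme.Hom.appLE_eq_app, Scheme.Hom.appLE_comp_appLE]
  let φ : Γ(X, U) →ₐ[Γ(S, U₀)] Γ(Y, j ⁻¹ᵁ U) :=
    { (j.app U).hom with
      commutes' := fun r => by
        change (j.app U).hom ((f.appLE U₀ U hUU₀).hom r) =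
          ((j ≫ f).appLE U₀ (j ⁻¹ᵁ U) hVU₀).hom r
        rw [← hcomm]
        rfl }
  have hq : (hU.primeIdealOf ⟨j y, hyU⟩).asIdeal =
      (hV.primeIdealOf ⟨y, hyV⟩).asIdeal.comap φ := by
    have h1 := IsAffineOpen.comap_primeIdealOf_appLE (f := j) U hU (j ⁻¹ᵁ U) hV le_rfl hyV
    rw [Scheme.Hom.appLE_eq_app] at h1
    exact (congrArg PrimeSpectrum.asIdeal h1).symm
  have : Algebra.IsSmoothAt Γ(S, U₀) (hV.primeIdealOf ⟨y, hyV⟩).asIdeal := hy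
  exact isSmoothAt_of_surjective φ hsurj rs hrs hker _ _ hq

end Groth.Agent.Lib.Helper5.SmQuot
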