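import Mathlib
import Groth.Prelude.Def_CAlgX
import Groth.Prelude.Def_CInt
import Groth.Agent.Lib.Helper5.SmQuotH

set_option autoImplicit false
universe u

namespace Groth.Agent.Lib.Helper5.SmQuot

open AlgebraicGeometry CategoryTheory

theorem mem_smoothLocus_of_isRegularIdeal {X Y S : Scheme.{u}} (f : X ⟶ S)
    [LocallyOfFinitePresentation f] (j : Y ⟶ X) [IsClosedImmersion j]
    [LocallyOfFinitePresentation (j ≫ f)]
    (y : Y) (hy : y ∈ (j ≫ f).smoothLocus)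
    (hreg : CInt.IsRegularIdeal (RingHom.ker (j.stalkMap y).hom)) :
    j y ∈ f.smoothLocus := by
  obtain ⟨_, ⟨U₀, hU₀, rfl⟩, hyU₀, -⟩ :=
    S.isBasis_affineOpens.exists_subset_of_mem_open (Set.mem_univ (f (j y))) isOpen_univ
  obtain ⟨_, ⟨U, hU, rfl⟩, hyU, hUU₀⟩ :=
    X.isBasis_affineOpens.exists_subset_of_mem_open hyU₀ (U₀.2.preimage f.continuous)
  have hV : IsAffineOpen (j ⁻¹ᵁ U) :=
    Groth.Agent.Lib.Helper5.RegImmA.isAffineOpen_preimage_of_restrict j hU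
  have hsurj : Function.Surjective (j.app U).hom :=
    Groth.Agent.Lib.Helper5.RegImmA.app_surjective_of_restrict j hU
  have hVU₀ : j ⁻¹ᵁ U ≤ (j ≫ f) ⁻¹ᵁ U₀ := fun z hz => hUU₀ hz
  have hyV : y ∈ j ⁻¹ᵁ U := hyU
  have hfp := f.finitePresentation_appLE hU₀ hU hUU₀
  have hreg' := isRegularIdeal_ker_of_arrow_iso _ _
    (IsAffineOpen.arrowStalkMapIso j U hU (j ⁻¹ᵁ U) hV le_rfl hyV) hreg
  obtain ⟨rs, hrs, hker⟩ := hreg'
  rw [Scheme.Hom.mem_smoothLocus, formallySmooth_stalkMap_iff U₀ hU₀ U hU hUU₀ hyU]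
  rw [Scheme.Hom.mem_smoothLocus,
    formallySmooth_stalkMap_iff U₀ hU₀ (j ⁻¹ᵁ U) hV hVU₀ hyV] at hy
  let _ : Algebra Γ(S, U₀) Γ(X, U) := (f.appLE U₀ U hUU₀).hom.toAlgebra
  let _ : Algebra Γ(S, U₀) Γ(Y, j ⁻¹ᵁ U) := ((j ≫ f).appLE U₀ (j ⁻¹ᵁ U) hVU₀).hom.toAlgebra
  have : Algebra.FinitePresentation Γ(S, U₀) Γ(X, U) := hfp
  have hcomm : f.appLE U₀ U hUU₀ ≫ j.app U = (j ≫ f).appLE U₀ (j ⁻¹ᵁ U) hVU₀ := by
    rw [← Scheme.Hom.appLE_eq_app, Scheme.Hom.appLE_comp_appLE]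
  let φ : Γ(X, U) →ₐ[Γ(S, U₀)] Γ(Y, j ⁻¹ᵁ U) :=
    { (j.app U).hom with
      commutes' := fun r => by
        change (j.app U).hom ((f.appLE U₀ U hUU₀).hom r) =
          ((j ≫ f).appLE U₀ (j ⁻¹ᵁ U) hVU₀).hom r
        rw [← hcomm]
        rfl }
  have hq : (hU.primeIdealOf ⟨j y, hyU⟩).asIdeal =
      (hV.primeIdealOf ⟨y, hyV⟩).asIdeal.comap φ.toRingHom := by
    have h1 := IsAffineOpen.comap_primeIdealOf_appLE (f := j) U hU (j ⁻¹ᵁ U) hV le_rfl hyV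
    rw [Scheme.Hom.appLE_eq_app] at h1
    exact (congrArg PrimeSpectrum.asIdeal h1).symm
  have : Algebra.IsSmoothAt Γ(S, U₀) (hV.primeIdealOf ⟨y, hyV⟩).asIdeal := hy
  have hker' : RingHom.ker (Localization.localRingHom _ _ φ.toRingHom hq) = Ideal.ofList rs := by
    rw [hker]
    have hq2 : (hU.primeIdealOf ⟨j y, hyU⟩).asIdeal =
        (hV.primeIdealOf ⟨y, hyV⟩).asIdeal.comap (j.appLE U (j ⁻¹ᵁ U) le_rfl).hom := by
      rw [Scheme.Hom.appLE_eq_app]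
      exact hq
    exact ker_localRingHom_congr _ _ _ _
      (congrArg CommRingCat.Hom.hom (Scheme.Hom.appLE_eq_app j)).symm hq hq2
  exact isSmoothAt_of_localRingHom_ker φ hsurj _ _ hq rs hrs.1 hker'

end Groth.Agent.Lib.Helper5.SmQuot
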