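import Mathlib
import Groth.Prelude.Def_CAlgX
import Groth.Prelude.Def_CInt
import Groth.Agent.Lib.Helper5.SmQuotI

set_option autoImplicit false
universe u

namespace Groth.Agent.Lib.Helper5.SmQuot

open AlgebraicGeometry CategoryTheory

theorem isRegularIdeal_of_mem_smoothLocus {X Y S : Scheme.{u}} (f : X ⟶ S)
    [LocallyOfFinitePresentation f] (j : Y ⟶ X) [IsClosedImmersion j]
    [LocallyOfFinitePresentation (j ≫ f)]
    (y : Y) (hy : y ∈ (j ≫ f).smoothLocus) (hx : j y ∈ f.smoothLocus) :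
    CInt.IsRegularIdeal (RingHom.ker (j.stalkMap y).hom) := by
  obtain ⟨hflX, hregX⟩ := Groth.Agent.Lib.Helper19.SmCodepth.flat_and_fibre_regular f (j y)
    ((Groth.Agent.S2793.nhd_smooth_iff f (j y)).mpr hx)
  obtain ⟨hflY, hregY⟩ := Groth.Agent.Lib.Helper19.SmCodepth.flat_and_fibre_regular (j ≫ f) y
    ((Groth.Agent.S2793.nhd_smooth_iff (j ≫ f) y).mpr hy)
  have hci := Groth.Agent.Lib.Helper5.CIOpen.isCompleteIntersection_of_isRegularLocalRing
    (CInt.fiberStalk (j ≫ f) y)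
  obtain ⟨U, hU, hyU, rs, hrs, hker⟩ :=
    Groth.Agent.Lib.Helper5.TransNbhd.exists_regular_data_of_ci f j y hflX hflY hci
  have hV : IsAffineOpen (j ⁻¹ᵁ U) :=
    Groth.Agent.Lib.Helper5.RegImmA.isAffineOpen_preimage_of_restrict j hU
  have hsurj : Function.Surjective (j.app U).hom :=
    Groth.Agent.Lib.Helper5.RegImmA.app_surjective_of_restrict j hU
  have hyV : y ∈ j ⁻¹ᵁ U := hyU
  have hq : (hU.primeIdealOf ⟨j y, hyU⟩).asIdeal =
      (hV.primeIdealOf ⟨y, hyV⟩).asIdeal.comap (j.app U).hom := by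
    have h1 := IsAffineOpen.comap_primeIdealOf_appLE (f := j) U hU (j ⁻¹ᵁ U) hV le_rfl hyV
    rw [Scheme.Hom.appLE_eq_app] at h1
    exact (congrArg PrimeSpectrum.asIdeal h1).symm
  have hq2 : (hU.primeIdealOf ⟨j y, hyU⟩).asIdeal =
      (hV.primeIdealOf ⟨y, hyV⟩).asIdeal.comap (j.appLE U (j ⁻¹ᵁ U) le_rfl).hom := by
    rw [Scheme.Hom.appLE_eq_app]
    exact hq
  have hkerloc : RingHom.ker (Localization.localRingHom _ _ (j.app U).hom hq) =
      Ideal.ofList (rs.map (algebraMap Γ(X, U)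
        (Localization.AtPrime (hU.primeIdealOf ⟨j y, hyU⟩).asIdeal))) := by
    rw [ker_localRingHom_eq_map _ hsurj, hker, Ideal.map_ofList]
  have hne : Ideal.ofList (rs.map (algebraMap Γ(X, U)
      (Localization.AtPrime (hU.primeIdealOf ⟨j y, hyU⟩).asIdeal))) ≠ ⊤ := by
    rw [← hkerloc]
    exact RingHom.ker_ne_top _
  have hflat : (algebraMap Γ(X, U)
      (Localization.AtPrime (hU.primeIdealOf ⟨j y, hyU⟩).asIdeal)).Flat := by
    rw [RingHom.flat_algebraMap_iff]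
    infer_instance
  have hrs' := Groth.Agent.Lib.Helper5.RegBC.isRegular_map_of_flat _ hflat rs hrs hne
  have hloc : CInt.IsRegularIdeal (RingHom.ker (CommRingCat.ofHom
      (Localization.localRingHom _ _ (j.appLE U (j ⁻¹ᵁ U) le_rfl).hom hq2)).hom) := by
    refine ⟨_, hrs', ?_⟩
    rw [← hkerloc]
    exact ker_localRingHom_congr _ _ _ _
      (congrArg CommRingCat.Hom.hom (Scheme.Hom.appLE_eq_app j)).symm hq hq2
  exact isRegularIdeal_ker_of_arrow_iso _ _
    (IsAffineOpen.arrowStalkMapIso j U hU (j ⁻¹ᵁ U) hV le_rfl hyV).symm hloc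

end Groth.Agent.Lib.Helper5.SmQuot
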