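import Groth.Agent.Lib.Helper5.ComplIso
import Groth.Agent.Lib.Helper5.PolyAdic

set_option autoImplicit false

namespace Groth.Agent.Lib.Helper5.SmoothSection

open MvPolynomial

universe u

section Poly

variable {ι : Type*} {R : Type*} [CommRing R]

theorem mem_idealOfVars_iff (q : MvPolynomial ι R) :
    q ∈ idealOfVars ι R ↔ constantCoeff q = 0 := by
  have := mem_pow_idealOfVars_iff' (σ := ι) (R := R) 1 q
  rw [pow_one] at this
  rw [this]
  constructor
  · intro h
    exact h 0 (by simp)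
  · intro h x hx
    have : x = 0 := by
      have h1 : Finsupp.degree x = 0 := by omega
      exact (Finsupp.degree_eq_zero_iff x).mp h1
    rw [this]
    exact h

theorem sub_linear_mem_sq [Fintype ι] (q : MvPolynomial ι R) (hq : q ∈ idealOfVars ι R) :
    q - ∑ i, C (coeff (Finsupp.single i 1) q) * X i ∈ idealOfVars ι R ^ 2 := by
  classical
  rw [mem_pow_idealOfVars_iff']
  intro x hx
  rw [coeff_sub, coeff_sum, sub_eq_zero]
  have hx' : Finsupp.degree x = 0 ∨ Finsupp.degree x = 1 := by omega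
  rcases hx' with h0 | h1
  · have : x = 0 := (Finsupp.degree_eq_zero_iff x).mp h0
    subst this
    rw [show coeff 0 q = 0 from (mem_idealOfVars_iff q).1 hq]
    symm
    apply Finset.sum_eq_zero
    intro i _
    rw [coeff_C_mul, coeff_zero_X, mul_zero]
  · have hmem : x ∈ {d : ι →₀ ℕ | d.degree = 1} := h1
    rw [← Finsupp.range_single_one] at hmem
    obtain ⟨j, rfl⟩ := hmem
    change coeff (Finsupp.single j 1) q = ∑ i, coeff (Finsupp.single j 1) (C (coeff (Finsupp.single i 1) q) * X i)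
    rw [Finset.sum_eq_single j]
    · rw [coeff_C_mul, coeff_X, if_pos rfl, mul_one]
    · intro i _ hij
      rw [coeff_C_mul, coeff_X, if_neg, mul_zero]
      intro h
      apply hij
      have := Finsupp.single_left_injective (one_ne_zero (α := ℕ)) h
      exact this
    · intro h
      exact absurd (Finset.mem_univ j) h

end Poly


section Surj

variable {R P S : Type*} [CommRing R] [CommRing P] [CommRing S] [Algebra R P] [Algebra R S]
  (φ : P →ₐ[R] S) (J : Ideal P) (I : Ideal S)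
  (hJI : ∀ n, J ^ n ≤ (I ^ n).comap φ)
  (h0 : ∀ s, ∃ q, s - φ q ∈ I)
  (h1 : ∀ b ∈ I, ∃ q ∈ J, b - φ q ∈ I ^ 2)

theorem mul_mem_pow {k l m : ℕ} (hm : k + l = m) {a b : S} (ha : a ∈ I ^ k) (hb : b ∈ I ^ l) :
    a * b ∈ I ^ m := by
  subst hm
  rw [pow_add]
  exact Ideal.mul_mem_mul ha hb

include hJI h0 h1 in
theorem claimA (n : ℕ) : ∀ y ∈ I ^ n, ∃ q ∈ J ^ n, y - φ q ∈ I ^ (n + 1) := by
  induction n with
  | zero =>
    intro y _
    obtain ⟨q, hq⟩ := h0 y
    refine ⟨q, by simp, ?_⟩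
    rwa [zero_add, pow_one]
  | succ n ih =>
    intro y hy
    rw [pow_succ] at hy
    induction hy using Submodule.mul_induction_on' with
    | mem_mul_mem a ha b hb =>
      obtain ⟨qa, hqa, hqa'⟩ := ih a ha
      obtain ⟨qb, hqb, hqb'⟩ := h1 b hb
      refine ⟨qa * qb, ?_, ?_⟩
      · rw [pow_succ]
        exact Ideal.mul_mem_mul hqa hqb
      · rw [map_mul, PolyAdic.mul_sub_mul]
        refine Ideal.add_mem _ (mul_mem_pow I (k := n) (l := 2) (by omega) ha hqb')
          (mul_mem_pow I (k := n + 1) (l := 1) (by omega) hqa' ?_)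
        have := hJI 1 (by rw [pow_one]; exact hqb)
        rw [pow_one] at this
        rw [pow_one]
        exact this
    | add x _ y _ hx hy =>
      obtain ⟨q1, hq1, hq1'⟩ := hx
      obtain ⟨q2, hq2, hq2'⟩ := hy
      refine ⟨q1 + q2, Ideal.add_mem _ hq1 hq2, ?_⟩
      rw [map_add, PolyAdic.add_sub_add]
      exact Ideal.add_mem _ hq1' hq2'

include hJI h0 h1 in
theorem hsurj (n : ℕ) : ∀ s, ∃ p, s - φ p ∈ I ^ n := by
  induction n with
  | zero =>
    intro s
    exact ⟨0, by simp⟩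
  | succ n ih =>
    intro s
    obtain ⟨p, hp⟩ := ih s
    obtain ⟨q, _, hq⟩ := claimA φ J I hJI h0 h1 n _ hp
    refine ⟨p + q, ?_⟩
    rw [map_add, ← sub_sub]
    exact hq

end Surj

section Main

variable {R S : Type u} [CommRing R] [CommRing S] [Algebra R S]
  (σ : S →ₐ[R] R) {d : ℕ} (I : Ideal S) (hI : ∀ s, s ∈ I ↔ σ s = 0)

include hI in
theorem sub_sigma_mem (s : S) : s - algebraMap R S (σ s) ∈ I := by
  rw [hI, map_sub, AlgHom.commutes, Algebra.algebraMap_self_apply, sub_self]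

variable (x : Fin d → S) (hx : ∀ i, x i ∈ I)

include hI hx in
theorem sigma_aeval (q : MvPolynomial (Fin d) R) : σ (aeval x q) = constantCoeff q := by
  have : σ.comp (aeval x) = aeval (fun _ : Fin d => (0 : R)) := by
    apply MvPolynomial.algHom_ext
    intro i
    rw [AlgHom.comp_apply, aeval_X, aeval_X]
    exact (hI _).1 (hx i)
  have h2 := AlgHom.congr_fun this q
  rw [AlgHom.comp_apply] at h2
  rw [h2]
  have := MvPolynomial.aeval_zero (S₁ := R) q
  exact this

include hI hx in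
theorem aeval_mem_iff (q : MvPolynomial (Fin d) R) :
    aeval x q ∈ I ↔ q ∈ idealOfVars (Fin d) R := by
  rw [mem_idealOfVars_iff, hI, sigma_aeval σ I hI x hx]

include hI hx in
theorem map_pow_le (n : ℕ) :
    idealOfVars (Fin d) R ^ n ≤ (I ^ n).comap (aeval x : MvPolynomial (Fin d) R →ₐ[R] S) := by
  have h1 : idealOfVars (Fin d) R ≤ (I).comap (aeval x : MvPolynomial (Fin d) R →ₐ[R] S) := by
    intro q hq
    exact (aeval_mem_iff σ I hI x hx q).2 hq
  rw [← Ideal.map_le_iff_le_comap, Ideal.map_pow]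
  exact Ideal.pow_right_mono (Ideal.map_le_iff_le_comap.2 h1) n

section Cot

variable (e : I.Cotangent ≃ₗ[R] (Fin d → R)) (xi : Fin d → I)
  (hxi : ∀ i, I.toCotangent (xi i) = e.symm (Pi.single i 1))

include hxi in
theorem toCotangent_sum (r : Fin d → R) :
    e (I.toCotangent (∑ i, r i • xi i)) = r := by
  rw [map_sum, map_sum]
  have : ∀ i, e (I.toCotangent (r i • xi i)) = r i • (Pi.single i 1 : Fin d → R) := by
    intro i
    rw [LinearMap.map_smul_of_tower, hxi, map_smul, LinearEquiv.apply_symm_apply]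
  rw [Finset.sum_congr rfl (fun i _ => this i)]
  funext j
  simp [Finset.sum_apply, Pi.single_apply]

theorem coe_sum_smul (r : Fin d → R) :
    ((∑ i, r i • xi i : I) : S) = aeval (fun i => (xi i : S)) (∑ i, C (r i) * X i) := by
  rw [map_sum, Submodule.coe_sum]
  apply Finset.sum_congr rfl
  intro i _
  rw [map_mul, aeval_C, aeval_X, Submodule.coe_smul_of_tower, Algebra.smul_def]

theorem linear_mem (r : Fin d → R) :
    (∑ i, C (r i) * X i : MvPolynomial (Fin d) R) ∈ idealOfVars (Fin d) R :=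
  Ideal.sum_mem _ (fun i _ => Ideal.mul_mem_left _ _ (Ideal.subset_span ⟨i, rfl⟩))

include hxi in
theorem fact1 (b : S) (hb : b ∈ I) :
    ∃ q ∈ idealOfVars (Fin d) R, b - aeval (fun i => (xi i : S)) q ∈ I ^ 2 := by
  let r := e (I.toCotangent ⟨b, hb⟩)
  refine ⟨∑ i, C (r i) * X i, linear_mem r, ?_⟩
  rw [← coe_sum_smul I xi r]
  have h1 : I.toCotangent ⟨b, hb⟩ = I.toCotangent (∑ i, r i • xi i) := by
    apply e.injective
    rw [toCotangent_sum I e xi hxi r]
  exact (Ideal.toCotangent_eq I).1 h1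

include hxi in
theorem linear_zero (c : Fin d → R)
    (h : aeval (fun i => (xi i : S)) (∑ i, C (c i) * X i) ∈ I ^ 2) : c = 0 := by
  rw [← coe_sum_smul I xi c] at h
  have h1 : I.toCotangent (∑ i, c i • xi i) = 0 := (Ideal.toCotangent_eq_zero _ _).2 h
  have h2 := toCotangent_sum I e xi hxi c
  rw [h1, map_zero] at h2
  exact h2.symm

end Cot

section Lift

variable (e : I.Cotangent ≃ₗ[R] (Fin d → R)) (xi : Fin d → I)
  (hxi : ∀ i, I.toCotangent (xi i) = e.symm (Pi.single i 1))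

include hI hxi in
theorem hinj2 (q : MvPolynomial (Fin d) R)
    (h : aeval (fun i => (xi i : S)) q ∈ I ^ 2) : q ∈ idealOfVars (Fin d) R ^ 2 := by
  have hx : ∀ i, (xi i : S) ∈ I := fun i => (xi i).2
  have hqJ : q ∈ idealOfVars (Fin d) R :=
    (aeval_mem_iff σ I hI _ hx q).1 (Ideal.pow_le_self (by norm_num) h)
  have h1 := sub_linear_mem_sq q hqJ
  have h2 := map_pow_le σ I hI _ hx 2 h1
  rw [Ideal.mem_comap, map_sub] at h2
  have h3 := Ideal.sub_mem _ h h2
  rw [sub_sub_cancel] at h3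
  have h4 := linear_zero I e xi hxi _ h3
  have h5 : (∑ i, C (coeff (Finsupp.single i 1) q) * X i : MvPolynomial (Fin d) R) = 0 := by
    apply Finset.sum_eq_zero
    intro i _
    have := congrFun h4 i
    rw [this, Pi.zero_apply, C_0, zero_mul]
  rwa [h5, sub_zero] at h1

include hI in
theorem h0' (s : S) : ∃ q : MvPolynomial (Fin d) R, s - aeval (fun i => (xi i : S)) q ∈ I :=
  ⟨C (σ s), by rw [aeval_C]; exact sub_sigma_mem σ I hI s⟩

theorem ker_factor_le {N : ℕ} (z : MvPolynomial (Fin d) R ⧸ idealOfVars (Fin d) R ^ (N + 2))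
    (hz : Ideal.Quotient.factor (Ideal.pow_le_pow_right (show 2 ≤ N + 2 by omega)) z = 0) :
    ∃ q ∈ idealOfVars (Fin d) R ^ 2, z = Ideal.Quotient.mk _ q := by
  obtain ⟨q, rfl⟩ := Ideal.Quotient.mk_surjective z
  rw [Ideal.Quotient.factor_mk, Ideal.Quotient.eq_zero_iff_mem] at hz
  exact ⟨q, hz, rfl⟩

include hI hxi in
theorem exists_theta [Algebra.FormallySmooth R S] (N : ℕ) :
    ∃ θ : S →ₐ[R] MvPolynomial (Fin d) R ⧸ idealOfVars (Fin d) R ^ N,
      (∀ i, θ (xi i) - Ideal.Quotient.mk _ (X i) ∈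
        (idealOfVars (Fin d) R ^ 2).map (Ideal.Quotient.mk (idealOfVars (Fin d) R ^ N))) ∧
      (∀ b ∈ I, θ b ∈
        (idealOfVars (Fin d) R ^ 1).map (Ideal.Quotient.mk (idealOfVars (Fin d) R ^ N))) := by
  have hx : ∀ i, (xi i : S) ∈ I := fun i => (xi i).2
  let φ : MvPolynomial (Fin d) R →ₐ[R] S := aeval (fun i => (xi i : S))
  have hJI := map_pow_le σ I hI _ hx
  let φ₂ : (MvPolynomial (Fin d) R ⧸ idealOfVars (Fin d) R ^ 2) →ₐ[R] (S ⧸ I ^ 2) :=
    Ideal.quotientMapₐ (I ^ 2) φ (hJI 2)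
  have hφ₂mk : ∀ q, φ₂ (Ideal.Quotient.mk _ q) = Ideal.Quotient.mk _ (φ q) := fun q => rfl
  have hbij : Function.Bijective φ₂ := by
    constructor
    · rw [injective_iff_map_eq_zero]
      intro z hz
      obtain ⟨q, rfl⟩ := Ideal.Quotient.mk_surjective z
      rw [hφ₂mk, Ideal.Quotient.eq_zero_iff_mem] at hz
      exact Ideal.Quotient.eq_zero_iff_mem.2 (hinj2 σ I hI e xi hxi q hz)
    · intro y
      obtain ⟨s, rfl⟩ := Ideal.Quotient.mk_surjective y
      obtain ⟨q, hq⟩ := hsurj φ _ I hJI (h0' σ I hI xi) (fact1 I e xi hxi) 2 s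
      exact ⟨Ideal.Quotient.mk _ q, by rw [hφ₂mk]; exact (Ideal.Quotient.eq.2 hq).symm⟩
  let e₂ := AlgEquiv.ofBijective φ₂ hbij
  let θ₂ : S →ₐ[R] (MvPolynomial (Fin d) R ⧸ idealOfVars (Fin d) R ^ 2) :=
    (e₂.symm : _ →ₐ[R] _).comp (Ideal.Quotient.mkₐ R (I ^ 2))
  have hθ₂ : ∀ (s : S) (q : MvPolynomial (Fin d) R), s - φ q ∈ I ^ 2 →
      θ₂ s = Ideal.Quotient.mk _ q := by
    intro s q h
    change e₂.symm (Ideal.Quotient.mk _ s) = _
    rw [AlgEquiv.symm_apply_eq]
    change _ = φ₂ (Ideal.Quotient.mk _ q)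
    rw [hφ₂mk]
    exact Ideal.Quotient.eq.2 h
  have hθ₂X : ∀ i, θ₂ (xi i) = Ideal.Quotient.mk _ (X i) := by
    intro i
    apply hθ₂
    have : φ (X i) = xi i := aeval_X _ i
    rw [this, sub_self]
    exact Ideal.zero_mem _
  let g : (MvPolynomial (Fin d) R ⧸ idealOfVars (Fin d) R ^ (N + 2)) →ₐ[R]
      (MvPolynomial (Fin d) R ⧸ idealOfVars (Fin d) R ^ 2) :=
    Ideal.Quotient.factorₐ R (Ideal.pow_le_pow_right (show 2 ≤ N + 2 by omega))
  have hgmk : ∀ q, g (Ideal.Quotient.mk _ q) = Ideal.Quotient.mk _ q := fun q => rfl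
  have hg : Function.Surjective g := by
    intro y
    obtain ⟨q, rfl⟩ := Ideal.Quotient.mk_surjective y
    exact ⟨Ideal.Quotient.mk _ q, hgmk q⟩
  have hker : ∀ z, g z = 0 → ∃ q ∈ idealOfVars (Fin d) R ^ 2, z = Ideal.Quotient.mk _ q :=
    fun z hz => ker_factor_le z hz
  have hg' : IsNilpotent (RingHom.ker (g : (MvPolynomial (Fin d) R ⧸ idealOfVars (Fin d) R ^ (N + 2)) →+*
      (MvPolynomial (Fin d) R ⧸ idealOfVars (Fin d) R ^ 2))) := by
    refine ⟨N + 2, ?_⟩
    rw [Ideal.zero_eq_bot, eq_bot_iff]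
    have h1 : RingHom.ker (g : (MvPolynomial (Fin d) R ⧸ idealOfVars (Fin d) R ^ (N + 2)) →+*
      (MvPolynomial (Fin d) R ⧸ idealOfVars (Fin d) R ^ 2)) ≤ (idealOfVars (Fin d) R).map
        (Ideal.Quotient.mk (idealOfVars (Fin d) R ^ (N + 2))) := by
      intro z hz
      obtain ⟨q, hq, rfl⟩ := hker z hz
      exact Ideal.mem_map_of_mem _ (Ideal.pow_le_self (by norm_num) hq)
    refine (Ideal.pow_right_mono h1 (N + 2)).trans ?_
    rw [← Ideal.map_pow, Ideal.map_quotient_self]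
  let L := Algebra.FormallySmooth.liftOfSurjective θ₂ g hg hg'
  have hL : ∀ s, g (L s) = θ₂ s := Algebra.FormallySmooth.liftOfSurjective_apply θ₂ g hg hg'
  let π : (MvPolynomial (Fin d) R ⧸ idealOfVars (Fin d) R ^ (N + 2)) →ₐ[R]
      (MvPolynomial (Fin d) R ⧸ idealOfVars (Fin d) R ^ N) :=
    Ideal.Quotient.factorₐ R (Ideal.pow_le_pow_right (show N ≤ N + 2 by omega))
  have hπmk : ∀ q, π (Ideal.Quotient.mk _ q) = Ideal.Quotient.mk _ q := fun q => rfl
  refine ⟨π.comp L, ?_, ?_⟩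
  · intro i
    have h1 : g (L (xi i) - Ideal.Quotient.mk _ (X i)) = 0 := by
      rw [map_sub, hL, hθ₂X, hgmk, sub_self]
    obtain ⟨q, hq, hq'⟩ := hker _ h1
    have h2 : π.comp L (xi i) - Ideal.Quotient.mk _ (X i) = Ideal.Quotient.mk _ q := by
      rw [AlgHom.comp_apply, ← hπmk (X i), ← map_sub, hq', hπmk]
    rw [h2]
    exact Ideal.mem_map_of_mem _ hq
  · intro b hb
    obtain ⟨q, hq, hq'⟩ := fact1 I e xi hxi b hb
    have h1 : g (L b - Ideal.Quotient.mk _ q) = 0 := by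
      rw [map_sub, hL, hθ₂ b q hq', hgmk, sub_self]
    obtain ⟨q'', hq'', hq3⟩ := hker _ h1
    have h2 : L b = Ideal.Quotient.mk _ (q'' + q) := by
      rw [map_add, ← hq3, sub_add_cancel]
    rw [AlgHom.comp_apply, h2, hπmk]
    refine Ideal.mem_map_of_mem _ ?_
    rw [pow_one]
    exact Ideal.add_mem _ (Ideal.pow_le_self (by norm_num) hq'') hq

include hI hxi in
theorem hinj [Algebra.FormallySmooth R S] (n : ℕ) : ∀ p : MvPolynomial (Fin d) R,
    aeval (fun i => (xi i : S)) p ∈ I ^ n → p ∈ idealOfVars (Fin d) R ^ n := by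
  induction n with
  | zero => intro p _; simp
  | succ n ih =>
    intro p hp
    have hpn : p ∈ idealOfVars (Fin d) R ^ n := ih p (Ideal.pow_le_pow_right (Nat.le_succ n) hp)
    obtain ⟨θN, hθX, hθI⟩ := exists_theta σ I hI e xi hxi (n + 1)
    let φ : MvPolynomial (Fin d) R →ₐ[R] S := aeval (fun i => (xi i : S))
    let θ := θN.comp φ
    have hθ : ∀ i, θ (X i) - Ideal.Quotient.mk _ (X i) ∈
        (idealOfVars (Fin d) R ^ 2).map (Ideal.Quotient.mk (idealOfVars (Fin d) R ^ (n + 1))) := by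
      intro i
      have : θ (X i) = θN (xi i) := by
        change θN (φ (X i)) = _
        rw [show φ (X i) = xi i from aeval_X _ i]
      rw [this]
      exact hθX i
    have hkey := PolyAdic.key (n + 1) θ hθ n p hpn
    rw [Ideal.map_quotient_self, Ideal.mem_bot, sub_eq_zero] at hkey
    have h1 : I ≤ ((idealOfVars (Fin d) R ^ 1).map
        (Ideal.Quotient.mk (idealOfVars (Fin d) R ^ (n + 1)))).comap θN := fun b hb => hθI b hb
    have h2 : θN (φ p) ∈ ((idealOfVars (Fin d) R ^ 1).map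
        (Ideal.Quotient.mk (idealOfVars (Fin d) R ^ (n + 1)))) ^ (n + 1) := by
      have h3 := Ideal.pow_right_mono (Ideal.map_le_iff_le_comap.2 h1) (n + 1)
      rw [← Ideal.map_pow] at h3
      exact h3 (Ideal.mem_map_of_mem _ hp)
    rw [pow_one, ← Ideal.map_pow, Ideal.map_quotient_self, Ideal.mem_bot] at h2
    have h4 : θ p = 0 := h2
    rw [hkey] at h4
    exact Ideal.Quotient.eq_zero_iff_mem.1 h4

include hI in
theorem main [Algebra.FormallySmooth R S] (e : I.Cotangent ≃ₗ[R] (Fin d → R)) :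
    Nonempty (AdicCompletion I S ≃ₐ[R] MvPowerSeries (Fin d) R) := by
  choose xi hxi using fun i => Ideal.toCotangent_surjective I (e.symm (Pi.single i 1))
  have hx : ∀ i, (xi i : S) ∈ I := fun i => (xi i).2
  let φ : MvPolynomial (Fin d) R →ₐ[R] S := aeval (fun i => (xi i : S))
  have hJI := map_pow_le σ I hI _ hx
  obtain ⟨E⟩ := ComplIso.complEquiv φ (idealOfVars (Fin d) R) I hJI
    (hinj σ I hI e xi hxi)
    (hsurj φ _ I hJI (h0' σ I hI xi) (fact1 I e xi hxi))
  exact ⟨E.symm.trans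
    ((MvPowerSeries.toAdicCompletionAlgEquiv (Fin d) R).restrictScalars R).symm⟩

end Lift

end Main

end Groth.Agent.Lib.Helper5.SmoothSection
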