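import Mathlib
import Groth.Agent.Lib.Helper5.SplitLoc

set_option autoImplicit false

namespace Groth.Agent.Lib.Helper5.SplitLoc

open TensorProduct

universe u

section Tower

variable {R S T : Type*} [CommRing R] [CommRing S] [CommRing T] [Algebra R S] [Algebra R T]
  [Algebra S T] [IsScalarTower R S T]
  {M N : Type*} [AddCommGroup M] [Module R M] [AddCommGroup N] [Module R N]

theorem lTensor_baseChange_injective_iff (u : M →ₗ[R] N) :
    Function.Injective ((u.baseChange S).lTensor T) ↔ Function.Injective (u.lTensor T) := by
  let eM := TensorProduct.AlgebraTensorModule.cancelBaseChange R S T T M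
  let eN := TensorProduct.AlgebraTensorModule.cancelBaseChange R S T T N
  have hsq : ∀ z, eN (((u.baseChange S).lTensor T) z) = (u.lTensor T) (eM z) := by
    intro z
    induction z using TensorProduct.induction_on with
    | zero => simp
    | tmul t y =>
      induction y using TensorProduct.induction_on with
      | zero => simp
      | tmul s m =>
        simp [eM, eN]
      | add y y' hy hy' =>
        rw [TensorProduct.tmul_add, map_add, map_add, hy, hy', map_add, map_add]
    | add x y hx hy => rw [map_add, map_add, hx, hy, map_add, map_add]
  constructor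
  · intro h z₁ z₂ hz
    obtain ⟨w₁, rfl⟩ := eM.surjective z₁
    obtain ⟨w₂, rfl⟩ := eM.surjective z₂
    rw [← hsq, ← hsq] at hz
    rw [h (eN.injective hz)]
  · intro h z₁ z₂ hz
    apply eM.injective
    apply h
    rw [← hsq, ← hsq, hz]

end Tower

section FieldVersion

variable {A : Type u} [CommRing A] {M N : Type u} [AddCommGroup M] [Module A M]
  [AddCommGroup N] [Module A N]

theorem exists_mem_of_injective_lTensor_field [Module.Finite A M] [Module.Projective A N]
    (u : M →ₗ[A] N) (K : Type*) [Field K] [Algebra A K]
    (h : Function.Injective (u.lTensor K)) :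
    ∃ f ∈ splitIdeal u, algebraMap A K f ≠ 0 := by
  let p : Ideal A := RingHom.ker (algebraMap A K)
  have hp : p.IsPrime := RingHom.ker_isPrime _
  let φ : p.ResidueField →ₐ[A] K := Ideal.ResidueField.liftₐ p (Algebra.ofId A K) le_rfl (by
    intro a ha
    change IsUnit (algebraMap A K a)
    rw [isUnit_iff_ne_zero]
    exact ha)
  let _ : Algebra p.ResidueField K := φ.toRingHom.toAlgebra
  have _ : IsScalarTower A p.ResidueField K := IsScalarTower.of_algebraMap_eq' φ.comp_algebraMap.symm
  have h1 : Function.Injective ((u.baseChange p.ResidueField).lTensor K) :=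
    (lTensor_baseChange_injective_iff u).mpr h
  have h2 : Function.Injective (u.baseChange p.ResidueField) :=
    (Module.FaithfullyFlat.lTensor_injective_iff_injective p.ResidueField K _).mp h1
  have h3 : Function.Injective (u.lTensor p.ResidueField) := by
    rw [← LinearMap.baseChange_eq_ltensor]; exact h2
  obtain ⟨f, hf, hfp⟩ := exists_mem_of_injective_lTensor u p h3
  exact ⟨f, hf, hfp⟩

end FieldVersion

end Groth.Agent.Lib.Helper5.SplitLoc
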