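import Mathlib
import Groth.Agent.Lib.Helper5.SplitLoc

set_option autoImplicit false

namespace Groth.Agent.Lib.Helper5.SplitLoc

open TensorProduct IsLocalRing

universe u

section Local

variable {A : Type u} [CommRing A] [IsLocalRing A] {M N : Type u}
  [AddCommGroup M] [Module A M] [AddCommGroup N] [Module A N]

theorem leftInverse_of_injective_lTensor_local [Module.Finite A M] [Module.Projective A N]
    (u : M →ₗ[A] N) (h : Function.Injective (u.lTensor (ResidueField A))) :
    ∃ w : N →ₗ[A] M, w ∘ₗ u = LinearMap.id := by
  obtain ⟨n, v, r, hr⟩ := exists_factor u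
  have h' : Function.Injective ((v ∘ₗ u).lTensor (ResidueField A)) := by
    have : (r.lTensor (ResidueField A)) ∘ₗ ((v ∘ₗ u).lTensor (ResidueField A)) =
        u.lTensor (ResidueField A) := by
      rw [← LinearMap.lTensor_comp, hr]
    refine Function.Injective.of_comp (f := r.lTensor (ResidueField A)) ?_
    rw [← LinearMap.coe_comp, this]
    exact h
  obtain ⟨l', hl'⟩ :=
    (IsLocalRing.split_injective_iff_lTensor_residueField_injective (v ∘ₗ u)).mpr h'
  exact ⟨l' ∘ₗ v, by rw [LinearMap.comp_assoc, hl']⟩

theorem injective_lTensor_of_linearIndependent [Module.Finite A M] (u : M →ₗ[A] N)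
    {m : ℕ} (x : Fin m → M) (hx : Submodule.span A (Set.range x) = ⊤)
    (hli : LinearIndependent (ResidueField A)
      (fun i => (1 : ResidueField A) ⊗ₜ[A] u (x i))) :
    Function.Injective (u.lTensor (ResidueField A)) := by
  have hspan : Submodule.span (ResidueField A)
      (Set.range fun i => (1 : ResidueField A) ⊗ₜ[A] x i) = ⊤ := by
    have h1 : (Submodule.span A (Set.range x)).map (TensorProduct.mk A (ResidueField A) M 1) = ⊤ :=
      IsLocalRing.map_tensorProduct_mk_eq_top.mpr hx
    rw [Submodule.map_span, ← Set.range_comp] at h1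
    rw [eq_top_iff]
    intro y _
    have hy : y ∈ Submodule.span A
        (Set.range (⇑(TensorProduct.mk A (ResidueField A) M 1) ∘ x)) := by rw [h1]; trivial
    exact Submodule.span_le_restrictScalars A (ResidueField A) _ hy
  rw [← LinearMap.baseChange_eq_ltensor, injective_iff_map_eq_zero]
  intro y hy
  have hy' : y ∈ Submodule.span (ResidueField A)
      (Set.range fun i => (1 : ResidueField A) ⊗ₜ[A] x i) := by rw [hspan]; trivial
  obtain ⟨c, rfl⟩ := (Submodule.mem_span_range_iff_exists_fun (ResidueField A)).mp hy'
  rw [map_sum] at hy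
  simp only [map_smul, LinearMap.baseChange_tmul] at hy
  have hc := (Fintype.linearIndependent_iff.mp hli) c hy
  simp [hc]

end Local

end Groth.Agent.Lib.Helper5.SplitLoc
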