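import Groth.Agent.Lib.Helper5.StalkBCB
import Mathlib

set_option autoImplicit false
universe u

open CategoryTheory AlgebraicGeometry TensorProduct

namespace Groth.Agent.Lib.Helper5.StalkBC

attribute [local instance] Curv2.stalkAlgebra

variable (k : Type u) [Field k] (X : Scheme.{u}) [X.Over (Spec (CommRingCat.of k))]
  (k' : Type u) [Field k'] [Algebra k k'] (x : X)

/-- the fibre product of `Spec O_{X,x}` and `X_{k'}` over `X`. -/
noncomputable abbrev W : Scheme.{u} :=
  Limits.pullback (X.fromSpecStalk x) (Curv2.bcFst k X k')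

/-- the fibre product is the spectrum of the tensor product. -/
noncomputable def eW : W k X k' x ≅ Spec (CommRingCat.of ((X.presheaf.stalk x) ⊗[k] k')) :=
  Limits.pullbackRightPullbackFstIso _ _ _ ≪≫
    Limits.pullback.congrHom (fromSpecStalk_comp_over k X x) rfl ≪≫
    pullbackSpecIso k (X.presheaf.stalk x) k'

theorem eW_inv_fst :
    (eW k X k' x).inv ≫ Limits.pullback.fst (X.fromSpecStalk x) (Curv2.bcFst k X k') =
      Spec.map (CommRingCat.ofHom (Algebra.TensorProduct.includeLeftRingHom :
        X.presheaf.stalk x →+* (X.presheaf.stalk x) ⊗[k] k')) := by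
  rw [Iso.inv_comp_eq]
  simp only [eW, Iso.trans_hom, Category.assoc]
  rw [pullbackSpecIso_hom_fst]
  have h1 : (Limits.pullback.congrHom (fromSpecStalk_comp_over k X x)
      (rfl : Spec.map (CommRingCat.ofHom (algebraMap k k')) = _)).hom ≫
      Limits.pullback.fst (Spec.map (CommRingCat.ofHom (algebraMap k (X.presheaf.stalk x))))
        (Spec.map (CommRingCat.ofHom (algebraMap k k'))) =
      Limits.pullback.fst _ _ := by
    rw [Limits.pullback.congrHom_hom]
    erw [Limits.pullback.lift_fst]
    rw [Category.comp_id]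
  rw [h1, Limits.pullbackRightPullbackFstIso_hom_fst]

/-- the prime of the tensor product attached to a point of `W`. -/
noncomputable def primeOf (w : W k X k' x) : PrimeSpectrum ((X.presheaf.stalk x) ⊗[k] k') :=
  (eW k X k' x).hom w

/-- the local ring of `X_{k'}` at the image of `w` is a localization of the tensor product. -/
theorem nonempty_stalk_equiv (w : W k X k' x) :
    Nonempty ((Curv2.bc k X k').presheaf.stalk
        ((Limits.pullback.snd (X.fromSpecStalk x) (Curv2.bcFst k X k')) w) ≃+*
      Localization.AtPrime (primeOf k X k' x w).asIdeal) := by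
  let e1 : (Curv2.bc k X k').presheaf.stalk
      ((Limits.pullback.snd (X.fromSpecStalk x) (Curv2.bcFst k X k')) w) ≃+*
      (W k X k' x).presheaf.stalk w :=
    RingEquiv.ofBijective _ (stalkMap_bijective (Limits.pullback.snd _ _) w)
  let e2 : (Spec (CommRingCat.of ((X.presheaf.stalk x) ⊗[k] k'))).presheaf.stalk
      ((eW k X k' x).hom w) ≃+* (W k X k' x).presheaf.stalk w :=
    (asIso ((eW k X k' x).hom.stalkMap w)).commRingCatIsoToRingEquiv
  let e3 : (Spec (CommRingCat.of ((X.presheaf.stalk x) ⊗[k] k'))).presheaf.stalk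
      ((eW k X k' x).hom w) ≃+* Localization.AtPrime (primeOf k X k' x w).asIdeal :=
    (Spec.stalkIso (CommRingCat.of ((X.presheaf.stalk x) ⊗[k] k'))
      (primeOf k X k' x w)).commRingCatIsoToRingEquiv
  exact ⟨e1.trans (e2.symm.trans e3)⟩

end Groth.Agent.Lib.Helper5.StalkBC
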