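import Groth.Agent.Lib.Helper5.StalkBCE
import Groth.Agent.Lib.Helper5.SerreFFlat
import Mathlib

set_option autoImplicit false
universe u

open CategoryTheory AlgebraicGeometry TensorProduct IsLocalRing

namespace Groth.Agent.Lib.Helper5.StalkBC

/-- flatness passes along a pushout square. -/
theorem flat_of_isPushout (R S R' S' : Type u) [CommRing R] [CommRing S] [CommRing R'] [CommRing S']
    [Algebra R S] [Algebra R R'] [Algebra R S'] [Algebra S S'] [Algebra R' S']
    [IsScalarTower R S S'] [IsScalarTower R R' S'] [h : Algebra.IsPushout R S R' S']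
    [Module.Flat R S] : Module.Flat R' S' := by
  have h' : Algebra.IsPushout R R' S S' := h.symm
  exact Module.Flat.of_linearEquiv (Algebra.IsPushout.equiv R R' S S').symm.toLinearEquiv

/-- a pair of primes with the same contraction comes from a prime of the tensor product. -/
theorem exists_prime_tensor (A B A' : Type u) [CommRing A] [CommRing B] [CommRing A']
    [Algebra A B] [Algebra A A'] (q : Ideal B) [hq : q.IsPrime] (Q : Ideal A') [hQ : Q.IsPrime]
    (h : q.comap (algebraMap A B) = Q.comap (algebraMap A A')) :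
    ∃ P : Ideal (B ⊗[A] A'), P.IsPrime ∧
      P.comap (Algebra.TensorProduct.includeLeftRingHom : B →+* B ⊗[A] A') = q ∧
      P.comap (Algebra.TensorProduct.includeRight : A' →ₐ[A] B ⊗[A] A').toRingHom = Q := by
  let xq : Spec (CommRingCat.of B) := ⟨q, hq⟩
  let xQ : Spec (CommRingCat.of A') := ⟨Q, hQ⟩
  obtain ⟨z, hz1, hz2⟩ := Scheme.Pullback.exists_preimage_pullback
    (f := Spec.map (CommRingCat.ofHom (algebraMap A B)))
    (g := Spec.map (CommRingCat.ofHom (algebraMap A A'))) xq xQ (PrimeSpectrum.ext h)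
  let w : Spec (CommRingCat.of (B ⊗[A] A')) := (pullbackSpecIso A B A').hom z
  have hzw : z = (pullbackSpecIso A B A').inv w := by
    change z = (pullbackSpecIso A B A').inv ((pullbackSpecIso A B A').hom z)
    rw [← Scheme.Hom.comp_apply, Iso.hom_inv_id]
    rfl
  refine ⟨w.asIdeal, w.isPrime, ?_, ?_⟩
  · have h1 : (Spec.map (CommRingCat.ofHom (Algebra.TensorProduct.includeLeftRingHom :
        B →+* B ⊗[A] A'))) w = xq := by
      rw [← pullbackSpecIso_inv_fst, Scheme.Hom.comp_apply, ← hzw, hz1]
    exact congrArg PrimeSpectrum.asIdeal h1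
  · have h1 : (Spec.map (CommRingCat.ofHom
        (Algebra.TensorProduct.includeRight : A' →ₐ[A] B ⊗[A] A').toRingHom)) w = xQ := by
      rw [AlgHom.toRingHom_eq_coe, ← pullbackSpecIso_inv_snd, Scheme.Hom.comp_apply, ← hzw, hz2]
    exact congrArg PrimeSpectrum.asIdeal h1

/-- the same for an abstract pushout square. -/
theorem exists_prime_of_isPushout (A B A' B' : Type u) [CommRing A] [CommRing B] [CommRing A']
    [CommRing B'] [Algebra A B] [Algebra A A'] [Algebra A B'] [Algebra B B'] [Algebra A' B']
    [IsScalarTower A B B'] [IsScalarTower A A' B'] [Algebra.IsPushout A B A' B']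
    (q : Ideal B) [hq : q.IsPrime] (Q : Ideal A') [hQ : Q.IsPrime]
    (h : q.comap (algebraMap A B) = Q.comap (algebraMap A A')) :
    ∃ P : Ideal B', P.IsPrime ∧ P.comap (algebraMap B B') = q ∧ P.comap (algebraMap A' B') = Q := by
  obtain ⟨P₀, hP₀, h1, h2⟩ := exists_prime_tensor A B A' q Q h
  let e := Algebra.IsPushout.equiv A B A' B'
  refine ⟨P₀.comap e.symm.toRingEquiv.toRingHom, Ideal.comap_isPrime _ _, ?_, ?_⟩
  · rw [Ideal.comap_comap, ← h1]
    congr 1
    ext b
    exact Algebra.IsPushout.equiv_symm_algebraMap_left A B A' B' b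
  · rw [Ideal.comap_comap, ← h2]
    congr 1
    ext a
    exact Algebra.IsPushout.equiv_symm_algebraMap_right A B A' B' a

end Groth.Agent.Lib.Helper5.StalkBC
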