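import Mathlib
import Groth.Prelude.Def_RegImm
import Groth.Prelude.Def_Flat
import Groth.Agent.Lib.Helper5.StdSynt
import Groth.Agent.Lib.Helper5.RelGCIA
import Groth.Agent.Lib.Helper18.Chev.SchemeBound

set_option autoImplicit false
universe u

namespace Groth.Agent.Lib.Helper5.StdSynt

open Synt Groth.Agent.Lib.Helper5.RelGCI AlgebraicGeometry CategoryTheory
  Groth.Agent.Lib.Helper25.SyntLocal

theorem locallyOfFiniteType_of_isSyntomicMor {X S : Scheme.{u}} (f : X ⟶ S)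
    (hf : Synt.IsSyntomicMor f) : LocallyOfFiniteType f := by
  rw [HasRingHomProperty.iff_appLE (P := @LocallyOfFiniteType)]
  intro V U e
  have h := (isSyntomicMor_iff_forall f).1 hf U V e
  let _ : Algebra Γ(S, V.1) Γ(X, U.1) := (f.appLE V.1 U.1 e).hom.toAlgebra
  have h2 : Algebra.FinitePresentation Γ(S, V.1) Γ(X, U.1) := h.2.1
  change Algebra.FiniteType Γ(S, V.1) Γ(X, U.1)
  infer_instance

theorem fibreDimAt_eq_of_isStandardSyntomic {X S : Scheme.{u}} (f : X ⟶ S)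
    [LocallyOfFiniteType f] (V : S.affineOpens) (U : X.affineOpens) (e : U.1 ≤ f ⁻¹ᵁ V.1)
    (h : Synt.IsStandardSyntomic (f.resLE V.1 U.1 e)) :
    ∃ d : ℕ, ∀ y : X, y ∈ U.1 → FlatMor.fibreDimAt f y = ((d : ℕ) : WithBot ℕ∞) := by
  obtain ⟨R, _, n, c, F, hF, e₁, e₂, hcomm⟩ := h
  refine ⟨n - c, fun y hy => ?_⟩
  have hk : LocallyOfFiniteType (f.resLE V.1 U.1 e) := by
    have h1 : LocallyOfFiniteType (f.resLE V.1 U.1 e ≫ V.1.ι) := by
      rw [Scheme.Hom.resLE_comp_ι]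
      infer_instance
    exact locallyOfFiniteType_of_comp (f.resLE V.1 U.1 e) V.1.ι
  have hh : LocallyOfFiniteType
      (Spec.map (CommRingCat.ofHom (algebraMap R (RelGCIRing R n c F)))) := by
    rw [HasRingHomProperty.Spec_iff (P := @LocallyOfFiniteType)]
    rw [CommRingCat.hom_ofHom, RingHom.finiteType_algebraMap]
    exact Algebra.FiniteType.of_surjective (Ideal.Quotient.mkₐ R _)
      (Ideal.Quotient.mkₐ_surjective R _)
  have s1 := Groth.Agent.Lib.Helper18.Chev.fibreDimAt_eq_of_openImmersion_square (f.resLE V.1 U.1 e) V.1.ι U.1.ι f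
    (Scheme.Hom.resLE_comp_ι f e) ⟨y, hy⟩
  have s2 := Groth.Agent.Lib.Helper18.Chev.fibreDimAt_eq_of_openImmersion_square (f.resLE V.1 U.1 e) e₂.hom e₁.hom
    (Spec.map (CommRingCat.ofHom (algebraMap R (RelGCIRing R n c F)))) hcomm.symm ⟨y, hy⟩
  have s3 := fibreDimAt_eq R n c F hF (e₁.hom ⟨y, hy⟩)
  change FlatMor.fibreDimAt f (U.1.ι ⟨y, hy⟩) = _
  rw [s1, ← s2]
  exact s3

theorem isLocallyConstant_fibreDimAt {X S : Scheme.{u}} (f : X ⟶ S)
    (hf : Synt.IsSyntomicMor f) :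
    IsLocallyConstant (fun x : ↑X => FlatMor.fibreDimAt f x) := by
  have := locallyOfFiniteType_of_isSyntomicMor f hf
  rw [IsLocallyConstant.iff_exists_open]
  intro x
  obtain ⟨V, hV⟩ : ∃ V : S.affineOpens, f.base x ∈ V.1 := by
    obtain ⟨V, hV, hx, -⟩ := TopologicalSpace.Opens.isBasis_iff_nbhd.mp S.isBasis_affineOpens
      (TopologicalSpace.Opens.mem_top (f.base x))
    exact ⟨⟨V, hV⟩, hx⟩
  obtain ⟨U, e, hxU, hstd⟩ := exists_standardSyntomic_nhd f x V hV (hf x)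
  obtain ⟨d, hd⟩ := fibreDimAt_eq_of_isStandardSyntomic f V U e hstd
  refine ⟨U.1.1, U.1.2, hxU, fun y hy => ?_⟩
  rw [hd y hy, hd x hxU]

end Groth.Agent.Lib.Helper5.StdSynt
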