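import Mathlib
import Groth.Prelude.Def_RegImm
import Groth.Agent.Lib.Helper5.CIBCC

set_option autoImplicit false
universe u

namespace Groth.Agent.Lib.Helper5.SyntColim

open IsLocalRing TensorProduct MvPolynomial Groth.Agent.Lib.Helper5.SyntPres
  Groth.Agent.Lib.Helper5.RelGCI Groth.Agent.Lib.Helper5.CIField Groth.Agent.Lib.Helper5.CIBC

/-- the complete intersection property at a prime, in terms of Koszul-regularity of the
kernel of a presentation. -/
theorem isCIOver_atPrime_iff_kr {k S : Type u} [Field k] [CommRing S] [Algebra k S] {n : ℕ}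
    (γ : MvPolynomial (Fin n) k →ₐ[k] S) (hγ : Function.Surjective γ)
    (Q : Ideal S) [Q.IsPrime] (q : Ideal (MvPolynomial (Fin n) k)) [q.IsPrime]
    (hq : q = Q.comap γ.toRingHom) :
    Synt.IsCIOver k (Localization.AtPrime Q) ↔
      LCI.IsKoszulRegularIdeal ((RingHom.ker γ.toRingHom).map
        (algebraMap (MvPolynomial (Fin n) k) (Localization.AtPrime q))) := by
  have hN : IsNoetherianRing (Localization.AtPrime q) :=
    IsLocalization.isNoetherianRing q.primeCompl _ inferInstance
  have hle : (RingHom.ker γ.toRingHom).map (algebraMap _ (Localization.AtPrime q)) ≤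
      maximalIdeal _ := by
    rw [← Localization.AtPrime.map_eq_maximalIdeal]
    apply Ideal.map_mono
    intro x hx
    rw [hq]
    change γ x ∈ Q
    have hx0 : γ x = 0 := hx
    rw [hx0]
    exact Ideal.zero_mem _
  rw [isCIOver_atPrime_iff_regular γ Q q hq hγ, exists_regular_iff_kr _ hle]

section Pres

variable {B₀ C₀ : Type u} [CommRing B₀] [CommRing C₀] [Algebra B₀ C₀] {n : ℕ}
  (Ψ₀ : MvPolynomial (Fin n) B₀ →ₐ[B₀] C₀)
  {T T' : Type u} [CommRing T] [CommRing T'] [Algebra B₀ T] [Algebra B₀ T'] (φ : T →ₐ[B₀] T')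

theorem fibHom_X (i : Fin n) :
    fibHom T Ψ₀ (X i) = (1 : T) ⊗ₜ[B₀] Ψ₀ (X i) := by
  rw [fibHom, aeval_X]

/-- compatibility of the base-changed presentations with a change of base. -/
theorem map_fibHom (a : MvPolynomial (Fin n) T) :
    Algebra.TensorProduct.map φ (AlgHom.id B₀ C₀) (fibHom T Ψ₀ a) =
      fibHom T' Ψ₀ (MvPolynomial.map (φ : T →+* T') a) := by
  induction a using MvPolynomial.induction_on with
  | C t =>
    rw [fibHom_C, MvPolynomial.map_C, fibHom_C, Algebra.TensorProduct.map_tmul, map_one]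
    rfl
  | add a b ha hb => rw [map_add, map_add, ha, hb, map_add, map_add]
  | mul_X a i ha =>
    rw [map_mul, map_mul, ha, map_mul, map_mul, MvPolynomial.map_X, fibHom_X, fibHom_X,
      Algebra.TensorProduct.map_tmul, map_one]
    rfl

theorem ker_fibHom_map (hΨ₀ : Function.Surjective Ψ₀) :
    RingHom.ker (fibHom T' Ψ₀) =
      (RingHom.ker (fibHom T Ψ₀)).map (MvPolynomial.map (φ : T →+* T')) := by
  rw [ker_fibHom T' Ψ₀ hΨ₀, ker_fibHom T Ψ₀ hΨ₀, Ideal.map_map]
  congr 1
  ext a
  · simp
  · simp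

end Pres

end Groth.Agent.Lib.Helper5.SyntColim
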