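import Mathlib
import Groth.Prelude.Def_RegImm
import Groth.Agent.Lib.Helper5.SyntColimA
import Groth.Agent.Lib.Helper5.RelGCIT
import Groth.Agent.Lib.Helper21.FlatLocal10

set_option autoImplicit false
universe u

namespace Groth.Agent.Lib.Helper5.SyntColim

open IsLocalRing TensorProduct MvPolynomial Groth.Agent.Lib.Helper5.SyntPres
  Groth.Agent.Lib.Helper5.RelGCI Groth.Agent.Lib.Helper5.CIField Groth.Agent.Lib.Helper5.CIBC

section Transfer

variable {B₀ C₀ : Type u} [CommRing B₀] [CommRing C₀] [Algebra B₀ C₀] {n : ℕ}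
  (Ψ₀ : MvPolynomial (Fin n) B₀ →ₐ[B₀] C₀)
  {T T' : Type u} [CommRing T] [CommRing T'] [Algebra B₀ T] [Algebra B₀ T'] (φ : T →ₐ[B₀] T')

theorem exists_fibre_prime_transfer (hΨ₀ : Function.Surjective Ψ₀)
    (p' : Ideal T') [p'.IsPrime] (p : Ideal T) [p.IsPrime] (hp : p = p'.comap (φ : T →+* T'))
    (q' : Ideal (T' ⊗[B₀] C₀)) [q'.IsPrime]
    (Q' : Ideal (p'.Fiber (T' ⊗[B₀] C₀))) [Q'.IsPrime]
    (hQ' : Q'.comap (Algebra.TensorProduct.includeRight.toRingHom) = q') :
    ∃ (Q : Ideal (p.Fiber (T ⊗[B₀] C₀))) (_ : Q.IsPrime),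
      Q.comap (Algebra.TensorProduct.includeRight.toRingHom) =
        q'.comap (Algebra.TensorProduct.map φ (AlgHom.id B₀ C₀)).toRingHom ∧
      (Synt.IsCIOver p.ResidueField (Localization.AtPrime Q) ↔
        Synt.IsCIOver p'.ResidueField (Localization.AtPrime Q')) := by
  classical
  let ρ : p.ResidueField →+* p'.ResidueField := Ideal.ResidueField.map p p' (φ : T →+* T') hp
  let alg : Algebra p.ResidueField p'.ResidueField := ρ.toAlgebra
  have hρ : ∀ t : T, ρ (algebraMap T p.ResidueField t) = algebraMap T' p'.ResidueField (φ t) :=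
    fun t => Ideal.ResidueField.map_algebraMap p p' _ hp t
  have hΨT : Function.Surjective (fibHom T Ψ₀) := fibHom_surjective T Ψ₀ hΨ₀
  have hΨT' : Function.Surjective (fibHom T' Ψ₀) := fibHom_surjective T' Ψ₀ hΨ₀
  have hγ : Function.Surjective (fibHom p.ResidueField (fibHom T Ψ₀)) :=
    fibHom_surjective _ _ hΨT
  have hγ' : Function.Surjective (fibHom p'.ResidueField (fibHom T' Ψ₀)) :=
    fibHom_surjective _ _ hΨT'
  obtain ⟨γ, hγdef⟩ : ∃ γ : MvPolynomial (Fin n) p.ResidueField →ₐ[p.ResidueField]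
      p.Fiber (T ⊗[B₀] C₀), γ = fibHom p.ResidueField (fibHom T Ψ₀) := ⟨_, rfl⟩
  obtain ⟨γ', hγ'def⟩ : ∃ γ' : MvPolynomial (Fin n) p'.ResidueField →ₐ[p'.ResidueField]
      p'.Fiber (T' ⊗[B₀] C₀), γ' = fibHom p'.ResidueField (fibHom T' Ψ₀) := ⟨_, rfl⟩
  rw [← hγdef] at hγ
  rw [← hγ'def] at hγ'
  have hγmap : ∀ a : MvPolynomial (Fin n) T,
      γ (MvPolynomial.map (algebraMap T p.ResidueField) a) =
        (1 : p.ResidueField) ⊗ₜ[T] (fibHom T Ψ₀ a) := by
    intro a
    rw [hγdef]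
    exact fibHom_map p.ResidueField (fibHom T Ψ₀) a
  have hγ'map : ∀ a : MvPolynomial (Fin n) T',
      γ' (MvPolynomial.map (algebraMap T' p'.ResidueField) a) =
        (1 : p'.ResidueField) ⊗ₜ[T'] (fibHom T' Ψ₀ a) := by
    intro a
    rw [hγ'def]
    exact fibHom_map p'.ResidueField (fibHom T' Ψ₀) a
  have hkerγ : RingHom.ker γ.toRingHom = (RingHom.ker (fibHom T Ψ₀)).map
      (MvPolynomial.map (algebraMap T p.ResidueField)) := by
    rw [hγdef]
    exact ker_fibHom p.ResidueField (fibHom T Ψ₀) hΨT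
  have hkerγ' : RingHom.ker γ'.toRingHom = (RingHom.ker (fibHom T' Ψ₀)).map
      (MvPolynomial.map (algebraMap T' p'.ResidueField)) := by
    rw [hγ'def]
    exact ker_fibHom p'.ResidueField (fibHom T' Ψ₀) hΨT'
  have hcomp : (MvPolynomial.map (σ := Fin n) ρ).comp
      (MvPolynomial.map (algebraMap T p.ResidueField)) =
      (MvPolynomial.map (algebraMap T' p'.ResidueField)).comp
        (MvPolynomial.map (φ : T →+* T')) := by
    ext a
    · simp [hρ]
    · simp
  have key : ∀ a : MvPolynomial (Fin n) T,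
      γ' (MvPolynomial.map ρ (MvPolynomial.map (algebraMap T p.ResidueField) a)) =
        (1 : p'.ResidueField) ⊗ₜ[T']
          (Algebra.TensorProduct.map φ (AlgHom.id B₀ C₀) (fibHom T Ψ₀ a)) := by
    intro a
    have h1 := congrArg (fun f => f a) hcomp
    simp only [RingHom.comp_apply] at h1
    rw [h1, hγ'map, map_fibHom]
  have hker_le : RingHom.ker γ.toRingHom ≤
      (Q'.comap γ'.toRingHom).comap (MvPolynomial.map ρ) := by
    rw [hkerγ, Ideal.map_le_iff_le_comap]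
    intro a ha
    change γ' (MvPolynomial.map ρ (MvPolynomial.map (algebraMap T p.ResidueField) a)) ∈ Q'
    have ha0 : fibHom T Ψ₀ a = 0 := ha
    rw [key, ha0, map_zero, tmul_zero]
    exact Ideal.zero_mem _
  obtain ⟨qh, hqh⟩ : ∃ qh : Ideal (MvPolynomial (Fin n) p.ResidueField),
      qh = (Q'.comap γ'.toRingHom).comap (MvPolynomial.map ρ) := ⟨_, rfl⟩
  have hqhprime : qh.IsPrime := by
    rw [hqh]
    exact Ideal.comap_isPrime _ _
  rw [← hqh] at hker_le
  obtain ⟨Q, hQdef⟩ : ∃ Q : Ideal (p.Fiber (T ⊗[B₀] C₀)), Q = qh.map γ.toRingHom := ⟨_, rfl⟩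
  have hQprime : Q.IsPrime := by
    rw [hQdef]
    exact Ideal.map_isPrime_of_surjective (f := γ.toRingHom) hγ hker_le
  have hQcomap : Q.comap γ.toRingHom = qh := by
    rw [hQdef, Ideal.comap_map_of_surjective γ.toRingHom hγ, ← RingHom.ker_eq_comap_bot,
      sup_eq_left.2 hker_le]
  refine ⟨Q, hQprime, ?_, ?_⟩
  · ext c
    obtain ⟨a, rfl⟩ := hΨT c
    change (1 : p.ResidueField) ⊗ₜ[T] (fibHom T Ψ₀ a) ∈ Q ↔
      Algebra.TensorProduct.map φ (AlgHom.id B₀ C₀) (fibHom T Ψ₀ a) ∈ q'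
    rw [← hγmap a]
    change MvPolynomial.map (algebraMap T p.ResidueField) a ∈
      Ideal.comap γ.toRingHom Q ↔ _
    rw [hQcomap, hqh]
    change γ' (MvPolynomial.map ρ (MvPolynomial.map (algebraMap T p.ResidueField) a)) ∈ Q' ↔ _
    rw [key, ← hQ']
    rfl
  · rw [isCIOver_atPrime_iff_kr γ hγ Q qh hQcomap.symm,
      isCIOver_atPrime_iff_kr γ' hγ' Q' _ rfl]
    have hker' : RingHom.ker γ'.toRingHom =
        (RingHom.ker γ.toRingHom).map (MvPolynomial.map ρ) := by
      rw [hkerγ', hkerγ, ker_fibHom_map Ψ₀ φ hΨ₀, Ideal.map_map, Ideal.map_map, hcomp]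
    rw [hker']
    exact (kr_iff_of_flat_localRingHom (MvPolynomial.map ρ)
      (flat_map_mvPolynomial p.ResidueField p'.ResidueField n) (Q'.comap γ'.toRingHom)
      qh hqh (RingHom.ker γ.toRingHom)).symm

theorem local_conditions_one {R S : Type u} [CommRing R] [CommRing S] [Algebra R S]
    [Algebra.FinitePresentation R S] [Module.Flat R S] (q : Ideal S) [hq : q.IsPrime] :
    (1 : S) ∉ q ∧ Algebra.FinitePresentation R (Localization.Away (1 : S)) ∧
      Module.Flat R (Localization.AtPrime q) := by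
  refine ⟨(Ideal.ne_top_iff_one q).1 hq.ne_top, ?_, ?_⟩
  · have h1 : Algebra.FinitePresentation S (Localization.Away (1 : S)) := inferInstance
    exact Algebra.FinitePresentation.trans R S (Localization.Away (1 : S))
  · have h1 : Module.Flat S (Localization.AtPrime q) := inferInstance
    exact Module.Flat.trans R S (Localization.AtPrime q)

/-- **pointwise transfer**: for flat finitely presented base changes at two stages, having a
syntomic principal neighbourhood is insensitive to the stage. -/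
theorem syntomic_nhd_transfer [Algebra.FinitePresentation B₀ C₀]
    (hfl : Module.Flat T (T ⊗[B₀] C₀)) (hfl' : Module.Flat T' (T' ⊗[B₀] C₀))
    (q' : Ideal (T' ⊗[B₀] C₀)) [hq' : q'.IsPrime] :
    (∃ g' : T' ⊗[B₀] C₀, g' ∉ q' ∧ Synt.IsSyntomic T' (Localization.Away g')) ↔
    (∃ g : T ⊗[B₀] C₀,
      g ∉ q'.comap (Algebra.TensorProduct.map φ (AlgHom.id B₀ C₀)).toRingHom ∧
      Synt.IsSyntomic T (Localization.Away g)) := by
  obtain ⟨n, Ψ₀, hΨ₀, -⟩ := Algebra.FinitePresentation.out (R := B₀) (A := C₀)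
  have hp'prime : (q'.under T').IsPrime := inferInstance
  have hpprime : ((q'.under T').comap (φ : T →+* T')).IsPrime := Ideal.comap_isPrime _ _
  obtain ⟨Q', hQ'p, hQ'q⟩ := Groth.Agent.Lib.Helper21.FlatLocal.exists_fiber_prime
    (q'.under T') q' rfl
  obtain ⟨Q, hQp, hQq, hiff⟩ := exists_fibre_prime_transfer Ψ₀ φ hΨ₀ (q'.under T')
    ((q'.under T').comap (φ : T →+* T')) rfl q' Q' hQ'q.symm
  have hqprime : (q'.comap (Algebra.TensorProduct.map φ (AlgHom.id B₀ C₀)).toRingHom).IsPrime :=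
    Ideal.comap_isPrime _ _
  rw [(main T' (T' ⊗[B₀] C₀) (q'.under T') q' Q' hQ'q.symm).2,
    (main T (T ⊗[B₀] C₀) ((q'.under T').comap (φ : T →+* T')) _ Q hQq).2]
  constructor
  · rintro ⟨g', hg', hfp', hflat', hCI'⟩
    obtain ⟨h1, h2, h3⟩ := local_conditions_one (R := T)
      (q'.comap (Algebra.TensorProduct.map φ (AlgHom.id B₀ C₀)).toRingHom)
    exact ⟨1, h1, h2, h3, hiff.2 hCI'⟩
  · rintro ⟨g, hg, hfp, hflat, hCI⟩
    obtain ⟨h1, h2, h3⟩ := local_conditions_one (R := T') q'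
    exact ⟨1, h1, h2, h3, hiff.1 hCI⟩

end Transfer

end Groth.Agent.Lib.Helper5.SyntColim
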