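import Mathlib
import Groth.Agent.Lib.Helper21.FlatDescJ
import Groth.Agent.Lib.Helper17.ColimSysProps

set_option autoImplicit false
universe u

namespace Groth.Agent.Lib.Helper5.SyntColim

open TensorProduct Function MvPolynomial
open Groth.Agent.Lib.Helper17.ColimSys Groth.Agent.Lib.Helper21.FlatDesc

attribute [local instance] MvPolynomial.algebraMvPolynomial

section Hom

variable {ι : Type u} [Preorder ι] [IsDirected ι (· ≤ ·)] [Nonempty ι]
  {A₀ : Type u} [CommRing A₀] {G : ι → Type u} [∀ i, CommRing (G i)] [∀ i, Algebra A₀ (G i)]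
  {A : Type u} [CommRing A] [Algebra A₀ A] (g : ∀ i, G i →ₐ[A₀] A)
  (f : ∀ i j, i ≤ j → (G i →ₐ[A₀] G j))
  (hg : ∀ i j (h : i ≤ j), (g j).comp (f i j h) = g i)
  (hsurj : ∀ a : A, ∃ i, ∃ x : G i, g i x = a)
  (hker : ∀ i (x : G i), g i x = 0 → ∃ j, ∃ h : i ≤ j, f i j h x = 0)
  (B₀ : Type u) [CommRing B₀] [Algebra A₀ B₀] (Z₀ : Subalgebra ℤ B₀)

include hg hsurj hker in
/-- A finitely presented `Z₀`-algebra mapping to `B₀ ⊗ A` maps to some stage `B₀ ⊗ G l`. -/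
theorem exists_algHom_stage_B (A' : Type u) [CommRing A'] [Algebra Z₀ A']
    [Algebra.FinitePresentation Z₀ A'] (τ : A' →ₐ[Z₀] B₀ ⊗[A₀] A) :
    ∃ l, Nonempty (A' →ₐ[Z₀] B₀ ⊗[A₀] G l) := by
  classical
  let P := Algebra.Presentation.ofFinitePresentation Z₀ A'
  have hB := isSys_B g f hg hsurj hker B₀
  obtain ⟨i₀⟩ := ‹Nonempty ι›
  obtain ⟨l₁, F₁, t', ht'⟩ := hB.lift_family i₀ (fun k => τ (P.val k))
  let gZ : ∀ i, B₀ ⊗[A₀] G i →ₐ[Z₀] B₀ ⊗[A₀] A := fun i => (Bmap B₀ (g i)).restrictScalars Z₀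
  have he : ∀ j, (Bmap B₀ (g l₁)).toLinearMap (MvPolynomial.aeval t' (P.relation j)) = 0 := by
    intro j
    show gZ l₁ (MvPolynomial.aeval t' (P.relation j)) = 0
    rw [MvPolynomial.comp_aeval_apply]
    have : (fun k => gZ l₁ (t' k)) = fun k => τ (P.val k) := funext ht'
    rw [this, ← MvPolynomial.comp_aeval_apply, P.aeval_val_relation, map_zero]
  obtain ⟨l₂, F₂, h₂⟩ := hB.kill_family l₁ _ he
  refine ⟨l₂, ?_⟩
  refine nonempty_algHom_of_presentation Z₀ A' P (fun k => Bmap B₀ F₂.1 (t' k)) (fun j => ?_)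
  have := h₂ j
  show MvPolynomial.aeval (fun k => ((Bmap B₀ F₂.1).restrictScalars Z₀) (t' k))
    (P.relation j) = 0
  rw [← MvPolynomial.comp_aeval_apply]
  exact h₂ j

end Hom

section Model

variable (B₀ : Type u) [CommRing B₀]

/-- flatness of a base change of a finitely presented module is witnessed by a finitely
presented model over a finitely generated subring. -/
theorem exists_flat_model (n : ℕ) (M₀ : Type u) [AddCommGroup M₀]
    [Module (MvPolynomial (Fin n) B₀) M₀] [Module B₀ M₀]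
    [IsScalarTower B₀ (MvPolynomial (Fin n) B₀) M₀]
    [Module.FinitePresentation (MvPolynomial (Fin n) B₀) M₀]
    (T : Type u) [CommRing T] [Algebra B₀ T] [Module.Flat T (T ⊗[B₀] M₀)] :
    ∃ (Z₀ : Subalgebra ℤ B₀) (A' : Subalgebra Z₀ T), Algebra.FinitePresentation Z₀ A' ∧
      ∀ (T₂ : Type u) [CommRing T₂] [Algebra B₀ T₂], (A' →ₐ[Z₀] T₂) →
        Module.Flat T₂ (T₂ ⊗[B₀] M₀) := by
  obtain ⟨Z₀, m, b, v', hfg, -, ⟨e⟩⟩ := exists_fg_model_pol B₀ n M₀ ∅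
  have hN := noetherian_of_fg_int Z₀ hfg
  have : Module.Flat T (St Z₀ n (PresMod v') T) :=
    Module.Flat.of_linearEquiv (stEquiv M₀ (PresMod v') e T).symm
  obtain ⟨A', hA'fg, hA'flat⟩ := exists_fg_flat_St (R₀ := Z₀) (n := n) (PresMod v') T
  have : Algebra.FiniteType Z₀ A' := (Subalgebra.fg_iff_finiteType A').1 hA'fg
  have : Algebra.FinitePresentation Z₀ A' :=
    Algebra.FinitePresentation.of_finiteType.1 inferInstance
  refine ⟨Z₀, A', inferInstance, ?_⟩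
  intro T₂ _ _ φ
  let _alg : Algebra A' T₂ := φ.toRingHom.toAlgebra
  have : IsScalarTower Z₀ A' T₂ :=
    IsScalarTower.of_algebraMap_eq fun r => (φ.commutes r).symm
  have : Module.Flat T₂ (St Z₀ n (PresMod v') T₂) :=
    flat_St_baseChange (PresMod v') A' T₂
  exact Module.Flat.of_linearEquiv (stEquiv M₀ (PresMod v') e T₂)

end Model

section Main

variable {ι : Type u} [Preorder ι] [IsDirected ι (· ≤ ·)] [Nonempty ι]
  {A₀ : Type u} [CommRing A₀] {G : ι → Type u} [∀ i, CommRing (G i)] [∀ i, Algebra A₀ (G i)]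
  {A : Type u} [CommRing A] [Algebra A₀ A] (g : ∀ i, G i →ₐ[A₀] A)
  (f : ∀ i j, i ≤ j → (G i →ₐ[A₀] G j))
  (hg : ∀ i j (h : i ≤ j), (g j).comp (f i j h) = g i)
  (hsurj : ∀ a : A, ∃ i, ∃ x : G i, g i x = a)
  (hker : ∀ i (x : G i), g i x = 0 → ∃ j, ∃ h : i ≤ j, f i j h x = 0)
  (B₀ : Type u) [CommRing B₀] [Algebra A₀ B₀]

include hg hsurj hker in
theorem exists_flat_stage_pol_B (n : ℕ) (M₀ : Type u) [AddCommGroup M₀]
    [Module (MvPolynomial (Fin n) B₀) M₀] [Module B₀ M₀]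
    [IsScalarTower B₀ (MvPolynomial (Fin n) B₀) M₀]
    [Module.FinitePresentation (MvPolynomial (Fin n) B₀) M₀]
    [Module.Flat (B₀ ⊗[A₀] A) ((B₀ ⊗[A₀] A) ⊗[B₀] M₀)] :
    ∃ i, Module.Flat (B₀ ⊗[A₀] G i) ((B₀ ⊗[A₀] G i) ⊗[B₀] M₀) := by
  obtain ⟨Z₀, A', hfp, hall⟩ := exists_flat_model B₀ n M₀ (B₀ ⊗[A₀] A)
  obtain ⟨l, ⟨φ⟩⟩ := exists_algHom_stage_B g f hg hsurj hker B₀ Z₀ A' A'.val
  exact ⟨l, hall (B₀ ⊗[A₀] G l) φ⟩

include hg hsurj hker in
/-- descent of flatness to a stage, for the system `B₀ ⊗ G i`. -/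
theorem exists_flat_stage_B (C₀ : Type u) [CommRing C₀] [Algebra B₀ C₀]
    [Algebra.FinitePresentation B₀ C₀]
    [Module.Flat (B₀ ⊗[A₀] A) ((B₀ ⊗[A₀] A) ⊗[B₀] C₀)] :
    ∃ i, Module.Flat (B₀ ⊗[A₀] G i) ((B₀ ⊗[A₀] G i) ⊗[B₀] C₀) := by
  obtain ⟨n, f₀, hf, hkerf⟩ := Algebra.FinitePresentation.out (R := B₀) (A := C₀)
  let a1 : Algebra (MvPolynomial (Fin n) B₀) C₀ := f₀.toRingHom.toAlgebra
  have t1 : IsScalarTower B₀ (MvPolynomial (Fin n) B₀) C₀ :=
    IsScalarTower.of_algebraMap_eq fun r => (f₀.commutes r).symm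
  have hfp : Module.FinitePresentation (MvPolynomial (Fin n) B₀) C₀ := by
    refine Module.finitePresentation_of_surjective
      (Algebra.linearMap (MvPolynomial (Fin n) B₀) C₀) hf ?_
    have : LinearMap.ker (Algebra.linearMap (MvPolynomial (Fin n) B₀) C₀) =
        RingHom.ker f₀.toRingHom := by
      ext x; rfl
    rw [this]; exact hkerf
  exact exists_flat_stage_pol_B g f hg hsurj hker B₀ n C₀

end Main

end Groth.Agent.Lib.Helper5.SyntColim
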