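import Mathlib
import Groth.Prelude.Def_RegImm
import Groth.Agent.Lib.Helper5.SyntColimB
import Groth.Agent.Lib.Helper5.SyntColimC
import Groth.Agent.Lib.Helper25.SyntLocal
import Groth.Agent.Lib.Helper25.GlobalCI

set_option autoImplicit false
universe u

namespace Groth.Agent.Lib.Helper5.SyntColim

open TensorProduct Groth.Agent.Lib.Helper17.ColimSys

section FlatBC

variable {B₀ C₀ : Type u} [CommRing B₀] [CommRing C₀] [Algebra B₀ C₀]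
  {T T' : Type u} [CommRing T] [CommRing T'] [Algebra B₀ T] [Algebra B₀ T']

theorem flat_of_algHom (φ : T →ₐ[B₀] T') (h : Module.Flat T (T ⊗[B₀] C₀)) :
    Module.Flat T' (T' ⊗[B₀] C₀) := by
  let _alg : Algebra T T' := φ.toRingHom.toAlgebra
  have : IsScalarTower B₀ T T' := IsScalarTower.of_algebraMap_eq fun r => (φ.commutes r).symm
  exact Module.Flat.of_linearEquiv (AlgebraTensorModule.cancelBaseChange B₀ T T' T' C₀).symm

end FlatBC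

section Main

variable {ι : Type u} [Preorder ι] [IsDirected ι (· ≤ ·)] [Nonempty ι]
  {A₀ : Type u} [CommRing A₀] {G : ι → Type u} [∀ i, CommRing (G i)] [∀ i, Algebra A₀ (G i)]
  {A : Type u} [CommRing A] [Algebra A₀ A] (g : ∀ i, G i →ₐ[A₀] A)
  (f : ∀ i j, i ≤ j → (G i →ₐ[A₀] G j))
  (hg : ∀ i j (h : i ≤ j), (g j).comp (f i j h) = g i)
  (hsurj : ∀ a : A, ∃ i, ∃ x : G i, g i x = a)
  (hker : ∀ i (x : G i), g i x = 0 → ∃ j, ∃ h : i ≤ j, f i j h x = 0)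
  (B₀ : Type u) [CommRing B₀] [Algebra A₀ B₀] (C₀ : Type u) [CommRing C₀] [Algebra B₀ C₀]

include hg hsurj hker in
theorem exists_stage_isSyntomic [Algebra.FinitePresentation B₀ C₀]
    (h : Synt.IsSyntomic (B₀ ⊗[A₀] A) ((B₀ ⊗[A₀] A) ⊗[B₀] C₀)) :
    ∃ i, Synt.IsSyntomic (B₀ ⊗[A₀] G i) ((B₀ ⊗[A₀] G i) ⊗[B₀] C₀) := by
  classical
  have hflatB : Module.Flat (B₀ ⊗[A₀] A) ((B₀ ⊗[A₀] A) ⊗[B₀] C₀) := h.1
  obtain ⟨l₁, hfl₁⟩ := exists_flat_stage_B g f hg hsurj hker B₀ C₀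
  have hC := isSys_C g f hg hsurj hker B₀ C₀
  -- the syntomic locus at stage l₁
  obtain ⟨S, hS⟩ : ∃ S : Set ((B₀ ⊗[A₀] G l₁) ⊗[B₀] C₀),
      S = {a | Synt.IsSyntomic (B₀ ⊗[A₀] G l₁) (Localization.Away a)} := ⟨_, rfl⟩
  have htop : (Ideal.span S).map (Cmap B₀ C₀ (g l₁)).toRingHom = ⊤ := by
    by_contra hne
    obtain ⟨q', hq'max, hq'⟩ := Ideal.exists_le_maximal _ hne
    have hq'prime : q'.IsPrime := hq'max.isPrime
    have h1 : ∃ g' : (B₀ ⊗[A₀] A) ⊗[B₀] C₀, g' ∉ q' ∧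
        Synt.IsSyntomic (B₀ ⊗[A₀] A) (Localization.Away g') :=
      ⟨1, (Ideal.ne_top_iff_one q').1 hq'prime.ne_top,
        Groth.Agent.Lib.Helper25.SyntLocal.isSyntomic_away h 1 (Localization.Away 1)⟩
    obtain ⟨a, ha, hsynt⟩ := (syntomic_nhd_transfer (Bmap B₀ (g l₁)) hfl₁ hflatB q').1 h1
    apply ha
    have haS : a ∈ S := by rw [hS]; exact hsynt
    exact hq' (Ideal.mem_map_of_mem _ (Ideal.subset_span haS))
  -- a finite witness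
  have h1 : (1 : (B₀ ⊗[A₀] A) ⊗[B₀] C₀) ∈
      (Ideal.span S).map (Cmap B₀ C₀ (g l₁)).toRingHom := by
    rw [htop]; trivial
  rw [Ideal.map_span] at h1
  obtain ⟨N, c, b, hcb⟩ := Submodule.mem_span_set'.1 h1
  choose a haS hab using fun k => (b k).2
  obtain ⟨l₂, F₁, x, hx⟩ := hC.lift_family l₁ c
  have hx' : ∀ k, Cmap B₀ C₀ (g l₂) (x k) = c k := hx
  have hcompat : ∀ y, Cmap B₀ C₀ (g l₂) (Cmap B₀ C₀ F₁.1 y) = Cmap B₀ C₀ (g l₁) y :=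
    fun y => hC.compat F₁ y
  have he : (Cmap B₀ C₀ (g l₂)).toLinearMap
      (∑ k, x k * Cmap B₀ C₀ F₁.1 (a k) - 1) = 0 := by
    change Cmap B₀ C₀ (g l₂) (∑ k, x k * Cmap B₀ C₀ F₁.1 (a k) - 1) = 0
    rw [map_sub, map_one, map_sum, sub_eq_zero, ← hcb]
    refine Finset.sum_congr rfl fun k _ => ?_
    rw [map_mul, hx', hcompat, smul_eq_mul, ← hab k]
    rfl
  obtain ⟨l₃, F₂, hF₂⟩ := hC.kill l₂ _ he
  have hF₂' : Cmap B₀ C₀ F₂.1 (∑ k, x k * Cmap B₀ C₀ F₁.1 (a k) - 1) = 0 := hF₂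
  have hcomp : ∀ y, Cmap B₀ C₀ (Adm.comp g _ _ _ F₁ F₂).1 y =
      Cmap B₀ C₀ F₂.1 (Cmap B₀ C₀ F₁.1 y) := fun y => hC.comp_apply F₁ F₂ y
  have htop₃ : (Ideal.span S).map (Cmap B₀ C₀ (Adm.comp g _ _ _ F₁ F₂).1).toRingHom = ⊤ := by
    rw [Ideal.eq_top_iff_one]
    rw [map_sub, map_one, map_sum, sub_eq_zero] at hF₂'
    rw [← hF₂']
    refine Ideal.sum_mem _ fun k _ => ?_
    rw [map_mul, ← hcomp]
    exact Ideal.mul_mem_left _ _ (Ideal.mem_map_of_mem _ (Ideal.subset_span (haS k)))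
  have hfl₃ : Module.Flat (B₀ ⊗[A₀] G l₃) ((B₀ ⊗[A₀] G l₃) ⊗[B₀] C₀) :=
    flat_of_algHom (Bmap B₀ (Adm.comp g _ _ _ F₁ F₂).1) hfl₁
  refine ⟨l₃, ?_⟩
  refine Groth.Agent.Lib.Helper25.GlobalCI.isSyntomic_of_span
    {a | Synt.IsSyntomic (B₀ ⊗[A₀] G l₃) (Localization.Away a)} ?_ (fun a ha => ha)
  by_contra hne
  obtain ⟨q₃, hq₃max, hq₃⟩ := Ideal.exists_le_maximal _ hne
  have hq₃prime : q₃.IsPrime := hq₃max.isPrime
  have hex : ∃ a ∈ S, Cmap B₀ C₀ (Adm.comp g _ _ _ F₁ F₂).1 a ∉ q₃ := by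
    by_contra hall0
    have hall : ∀ a ∈ S, Cmap B₀ C₀ (Adm.comp g _ _ _ F₁ F₂).1 a ∈ q₃ := by
      intro a ha
      by_contra hn
      exact hall0 ⟨a, ha, hn⟩
    have hle : (Ideal.span S).map (Cmap B₀ C₀ (Adm.comp g _ _ _ F₁ F₂).1).toRingHom ≤ q₃ := by
      rw [Ideal.map_le_iff_le_comap, Ideal.span_le]
      intro a ha
      exact hall a ha
    rw [htop₃] at hle
    exact hq₃prime.ne_top (top_le_iff.1 hle)
  obtain ⟨a, haS', hanot⟩ := hex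
  have hsynt : Synt.IsSyntomic (B₀ ⊗[A₀] G l₁) (Localization.Away a) := by
    rw [hS] at haS'
    exact haS'
  obtain ⟨g', hg', hg'synt⟩ :=
    (syntomic_nhd_transfer (Bmap B₀ (Adm.comp g _ _ _ F₁ F₂).1) hfl₁ hfl₃ q₃).2
      ⟨a, hanot, hsynt⟩
  exact hg' (hq₃ (Ideal.subset_span hg'synt))

end Main

end Groth.Agent.Lib.Helper5.SyntColim
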