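import Mathlib
import Groth.Prelude.Def_RegImm
import Groth.Agent.Lib.Helper5.SyntColimD
import Groth.Agent.Lib.Helper5.SyntMorA
import Groth.Agent.Lib.Helper25.SyntLocal
import Groth.Agent.Lib.Helper25.GlobalCI

/-!
# Helper5 — SyntLimA

Syntomic ring maps are stable under base change; the morphism property `SyntMor` of schemes is
stable under base change and composition and contains the open immersions.
-/

set_option autoImplicit false
universe u

namespace Groth.Agent.Lib.Helper5.SyntLim

open TensorProduct AlgebraicGeometry CategoryTheory Groth.Agent.Lib.Helper25.SyntLocal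
open Groth.Agent.Lib.Helper5.Lci

theorem isSyntomic_baseChange {R S : Type u} [CommRing R] [CommRing S] [Algebra R S]
    (R' : Type u) [CommRing R'] [Algebra R R'] (h : Synt.IsSyntomic R S) :
    Synt.IsSyntomic R' (R' ⊗[R] S) := by
  have hfp : Algebra.FinitePresentation R S := h.2.1
  have hfl : Module.Flat R S := h.1
  have h0 : Synt.IsSyntomic R (R ⊗[R] S) :=
    isSyntomic_of_algEquiv (Algebra.TensorProduct.lid R S).symm h
  have hfl0 : Module.Flat R (R ⊗[R] S) := h0.1
  have hfl' : Module.Flat R' (R' ⊗[R] S) := inferInstance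
  refine Groth.Agent.Lib.Helper25.GlobalCI.isSyntomic_of_span
    {g' | Synt.IsSyntomic R' (Localization.Away g')} ?_ (fun g hg => hg)
  by_contra hne
  obtain ⟨q', hq'max, hq'⟩ := Ideal.exists_le_maximal _ hne
  have hq'prime : q'.IsPrime := hq'max.isPrime
  have hq1 : (q'.comap (Algebra.TensorProduct.map (Algebra.ofId R R')
      (AlgHom.id R S)).toRingHom).IsPrime := Ideal.comap_isPrime _ _
  obtain ⟨g', hg', hs⟩ := (Groth.Agent.Lib.Helper5.SyntColim.syntomic_nhd_transfer
    (B₀ := R) (C₀ := S) (Algebra.ofId R R') hfl0 hfl' q').2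
    ⟨1, (Ideal.ne_top_iff_one _).1 hq1.ne_top, isSyntomic_away h0 1 (Localization.Away 1)⟩
  exact hg' (hq' (Ideal.subset_span hs))

theorem syntHom_isStableUnderBaseChange : RingHom.IsStableUnderBaseChange @SyntHom := by
  refine RingHom.IsStableUnderBaseChange.mk syntHom_propertyIsLocal.respectsIso ?_
  intro R S T _ _ _ _ _ h
  rw [syntHom_algebraMap] at h ⊢
  exact isSyntomic_baseChange S h

instance : SyntMor.{u}.IsStableUnderBaseChange :=
  HasRingHomProperty.isStableUnderBaseChange syntHom_isStableUnderBaseChange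

theorem syntMor_iff {X Y : Scheme.{u}} (f : X ⟶ Y) : SyntMor f ↔ Flat f ∧ LciMor f := by
  rw [← isSyntomicMor_iff, Groth.Agent.Lib.Helper5.SyntMor.isSyntomicMor_iff_flat_and_lciMor]

instance : SyntMor.{u}.IsStableUnderComposition where
  comp_mem f g hf hg := by
    rw [syntMor_iff] at hf hg ⊢
    have := hf.1
    have := hg.1
    exact ⟨inferInstance, LciMor.comp_mem f g hf.2 hg.2⟩

theorem syntMor_of_isOpenImmersion {X Y : Scheme.{u}} (i : X ⟶ Y) [IsOpenImmersion i] :
    SyntMor i := by
  rw [syntMor_iff]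
  exact ⟨inferInstance, lciMor_of_smooth i⟩

end Groth.Agent.Lib.Helper5.SyntLim
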