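import Mathlib
import Groth.Prelude.Def_RegImm
import Groth.Agent.Lib.Helper5.SyntLimA
import Groth.Agent.Lib.Helper5.SyntMorA
import Groth.Agent.Lib.Helper25.SyntLocal
import Groth.Agent.Lib.Helper25.GlobalCI

set_option autoImplicit false
universe u

namespace Groth.Agent.Lib.Helper5.SyntLim

open TensorProduct AlgebraicGeometry CategoryTheory Groth.Agent.Lib.Helper25.SyntLocal
open Groth.Agent.Lib.Helper5.Lci

section Transport

variable {R₀ : Type u} [CommRing R₀] (S₀ : Type u) [CommRing S₀] [Algebra R₀ S₀]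
  {A A' : Type u} [CommRing A] [CommRing A'] [Algebra R₀ A] [Algebra R₀ A']

theorem isSyntomic_of_algEquiv_base (e : A ≃ₐ[R₀] A') (h : Synt.IsSyntomic A (A ⊗[R₀] S₀)) :
    Synt.IsSyntomic A' (A' ⊗[R₀] S₀) := by
  rw [← syntHom_algebraMap] at h ⊢
  let e' : A ⊗[R₀] S₀ ≃ₐ[R₀] A' ⊗[R₀] S₀ := Algebra.TensorProduct.congr e AlgEquiv.refl
  have h1 := syntHom_propertyIsLocal.respectsIso.2 _ e.symm.toRingEquiv h
  have h2 := syntHom_propertyIsLocal.respectsIso.1 _ e'.toRingEquiv h1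
  convert h2 using 1
  ext a'
  simp only [RingHom.coe_comp, Function.comp_apply]
  change a' ⊗ₜ[R₀] (1 : S₀) = e' ((e.symm a') ⊗ₜ[R₀] (1 : S₀))
  simp [e']

end Transport

section Subalg

variable (R₀ : Type u) [CommRing R₀] (A : Type u) [CommRing A] [Algebra R₀ A]

/-- finitely generated subalgebras -/
abbrev FGSub : Type u := {A' : Subalgebra R₀ A // A'.FG}

instance : Nonempty (FGSub R₀ A) := ⟨⟨⊥, Subalgebra.fg_bot⟩⟩

instance : IsDirected (FGSub R₀ A) (· ≤ ·) :=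
  ⟨fun a b => ⟨⟨a.1 ⊔ b.1, a.2.sup b.2⟩,
    (show a.1 ≤ a.1 ⊔ b.1 from le_sup_left), (show b.1 ≤ a.1 ⊔ b.1 from le_sup_right)⟩⟩

variable (S₀ : Type u) [CommRing S₀] [Algebra R₀ S₀] [Algebra.FinitePresentation R₀ S₀]

theorem exists_fg_subalgebra_isSyntomic (h : Synt.IsSyntomic A (A ⊗[R₀] S₀)) :
    ∃ A' : Subalgebra R₀ A, A'.FG ∧ Synt.IsSyntomic A' (A' ⊗[R₀] S₀) := by
  have h0 : Synt.IsSyntomic (R₀ ⊗[R₀] A) ((R₀ ⊗[R₀] A) ⊗[R₀] S₀) :=
    isSyntomic_of_algEquiv_base S₀ (Algebra.TensorProduct.lid R₀ A).symm h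
  obtain ⟨i, hi⟩ := Groth.Agent.Lib.Helper5.SyntColim.exists_stage_isSyntomic
    (ι := FGSub R₀ A) (A₀ := R₀) (G := fun i => i.1) (A := A)
    (fun i => i.1.val) (fun i j hij => Subalgebra.inclusion hij)
    (fun i j hij => by ext x; rfl)
    (by
      intro a
      have hfg : (Algebra.adjoin R₀ ({a} : Set A)).FG := by
        have := Subalgebra.fg_adjoin_finset (R := R₀) ({a} : Finset A)
        simpa using this
      exact ⟨⟨Algebra.adjoin R₀ {a}, hfg⟩,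
        ⟨a, Algebra.subset_adjoin (Set.mem_singleton a)⟩, rfl⟩)
    (fun i x hx => ⟨i, le_rfl, by
      have : x = 0 := Subtype.ext hx
      rw [this, map_zero]⟩)
    R₀ S₀ h0
  exact ⟨i.1, i.2, isSyntomic_of_algEquiv_base S₀ (Algebra.TensorProduct.lid R₀ i.1) hi⟩

end Subalg

end Groth.Agent.Lib.Helper5.SyntLim
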