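import Mathlib
import Groth.Prelude.Def_RegImm
import Groth.Agent.Lib.Helper5.SyntLimB
import Groth.Agent.Lib.Helper13.LimDescendSmooth
import Groth.Agent.Lib.Helper13.LimDescendCore2

set_option autoImplicit false
universe u

namespace Groth.Agent.Lib.Helper5.SyntLim

open TensorProduct AlgebraicGeometry CategoryTheory CategoryTheory.Limits
open Groth.Agent.Lib.Helper25.SyntLocal Groth.Agent.Lib.Helper13.LimDescend
open Groth.Agent.Lib.Helper22

section ring

theorem syntMor_pullback_fst_Spec_iff (R₀ A S₀ : Type u) [CommRing R₀] [CommRing A] [CommRing S₀]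
    [Algebra R₀ A] [Algebra R₀ S₀] :
    SyntMor (pullback.fst (Spec.map (CommRingCat.ofHom (algebraMap R₀ A)))
      (Spec.map (CommRingCat.ofHom (algebraMap R₀ S₀)))) ↔ Synt.IsSyntomic A (A ⊗[R₀] S₀) := by
  have hpb := isPullback_SpecMap_of_isPushout _ _ _ _
    (CommRingCat.isPushout_tensorProduct R₀ A S₀)
  rw [prop_iff_of_isPullback SyntMor (IsPullback.of_hasPullback _ _) hpb,
    HasRingHomProperty.Spec_iff (P := SyntMor), ← syntHom_algebraMap]
  rfl

theorem exists_syntomic_factor {R₀ S₀ A : CommRingCat.{u}} [IsNoetherianRing R₀] (hZ : R₀ ⟶ S₀)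
    (hft : hZ.hom.FiniteType) (w : R₀ ⟶ A)
    (h : SyntMor (pullback.fst (Spec.map w) (Spec.map hZ))) :
    ∃ (A' : CommRingCat.{u}) (w' : R₀ ⟶ A') (ι : A' ⟶ A), w' ≫ ι = w ∧
      w'.hom.FinitePresentation ∧ SyntMor (pullback.fst (Spec.map w') (Spec.map hZ)) := by
  algebraize [hZ.hom, w.hom]
  have hfpS : Algebra.FinitePresentation R₀ S₀ :=
    Algebra.FinitePresentation.of_finiteType.mp inferInstance
  have h1 : Synt.IsSyntomic A (A ⊗[R₀] S₀) := (syntMor_pullback_fst_Spec_iff R₀ A S₀).mp h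
  obtain ⟨A', hfg, hsynt⟩ := exists_fg_subalgebra_isSyntomic R₀ A S₀ h1
  have : Algebra.FiniteType R₀ A' := (Subalgebra.fg_iff_finiteType A').1 hfg
  have : Algebra.FinitePresentation R₀ A' :=
    Algebra.FinitePresentation.of_finiteType.mp inferInstance
  refine ⟨CommRingCat.of A', CommRingCat.ofHom (algebraMap R₀ A'),
    CommRingCat.ofHom A'.val.toRingHom, ?_, ?_, ?_⟩
  · ext r; rfl
  · exact RingHom.finitePresentation_algebraMap.mpr inferInstance
  · exact (syntMor_pullback_fst_Spec_iff R₀ A' S₀).mpr hsynt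

end ring

section affinecase

variable {J : Type u} [SmallCategory J] [IsCofiltered J] (E : J ⥤ Scheme.{u}) (e : Cone E)
  (he : IsLimit e)

include he in
/-- Descent of syntomicity, affine case. -/
theorem core_syntomic_affine [∀ (i j : J) (f : i ⟶ j), IsAffineHom (E.map f)] (j₀ : J)
    [IsAffine (E.obj j₀)] {X₀ : Scheme.{u}} [IsAffine X₀] (a : X₀ ⟶ E.obj j₀)
    [LocallyOfFinitePresentation a] (h : SyntMor (pullback.fst (e.π.app j₀) a)) :
    ∃ (j : J) (ψ : j ⟶ j₀), SyntMor (pullback.fst (E.map ψ) a) := by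
  have : ∀ {i j : J} (f : i ⟶ j), IsAffineHom (E.map f) := fun f => inferInstance
  have hπ : IsAffineHom (e.π.app j₀) := isAffineHom_π_app E e he j₀
  have hept : IsAffine e.pt := isAffine_of_isAffineHom (e.π.app j₀)
  have : IsAffine (((Functor.const J).obj e.pt).obj j₀) := hept
  obtain ⟨R₀, S₀, _, hZ, hft, b₀, p, hp⟩ := exists_noetherian_model a
  have key : ∀ {V : Scheme.{u}} (v : V ⟶ E.obj j₀),
      SyntMor (pullback.fst v a) ↔ SyntMor (pullback.fst (v ≫ b₀) (Spec.map hZ)) :=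
    fun v => fst_iff_of_isPullback SyntMor hp v
  let w : R₀ ⟶ Γ(e.pt, ⊤) := (Scheme.ΓSpecIso R₀).inv ≫ (e.π.app j₀ ≫ b₀).appTop
  have hw : e.π.app j₀ ≫ b₀ = e.pt.isoSpec.hom ≫ Spec.map w := hom_eq_isoSpec_comp _
  have h1 : SyntMor (pullback.fst (Spec.map w) (Spec.map hZ)) := by
    have h2 := (key (e.π.app j₀)).mp h
    rw [hw] at h2
    exact (fst_iso_comp_iff SyntMor _ _ _).mp h2
  obtain ⟨A', w', ι, hwι, hfp, hsynt'⟩ := exists_syntomic_factor hZ hft w h1
  let 𝒴 : Over j₀ ⥤ Scheme.{u} := Over.forget j₀ ⋙ E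
  let cY : Cone 𝒴 := e.whisker (Over.forget j₀)
  have hcY : IsLimit cY := (Functor.Initial.isLimitWhiskerEquiv (Over.forget j₀) e).symm he
  have : ∀ k : Over j₀, IsAffine (𝒴.obj k) := fun k => by
    change IsAffine (E.obj k.left)
    exact isAffine_of_isAffineHom (E.map k.hom)
  have : ∀ {k k' : Over j₀} (φ : k ⟶ k'), IsAffineHom (𝒴.map φ) := fun φ => by
    change IsAffineHom (E.map φ.left)
    infer_instance
  let t : 𝒴 ⟶ (Functor.const (Over j₀)).obj (Spec R₀) :=
    { app := fun k => E.map k.hom ≫ b₀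
      naturality := fun k k' φ => by
        change E.map φ.left ≫ E.map k'.hom ≫ b₀ = (E.map k.hom ≫ b₀) ≫ 𝟙 _
        rw [Category.comp_id, ← Category.assoc, ← E.map_comp, Over.w φ] }
  have : LocallyOfFinitePresentation (Spec.map w') :=
    (HasRingHomProperty.Spec_iff (P := @LocallyOfFinitePresentation)).mpr hfp
  let α : e.pt ⟶ Spec A' := e.pt.isoSpec.hom ≫ Spec.map ι
  have hα : α ≫ Spec.map w' = e.π.app j₀ ≫ b₀ := by
    rw [hw, ← hwι, Spec.map_comp, Category.assoc]
  have ha : cY.π ≫ t = (Functor.const (Over j₀)).map (α ≫ Spec.map w') := by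
    ext k
    change e.π.app k.left ≫ E.map k.hom ≫ b₀ = α ≫ Spec.map w'
    rw [hα, ← Category.assoc, e.w k.hom]
  obtain ⟨k, g, hg1, hg2⟩ :=
    Scheme.exists_π_app_comp_eq_of_locallyOfFinitePresentation 𝒴 t (Spec.map w') cY hcY α ha
  replace hg2 : g ≫ Spec.map w' = E.map k.hom ≫ b₀ := hg2
  refine ⟨k.left, k.hom, (key (E.map k.hom)).mpr ?_⟩
  rw [← hg2]
  exact fst_comp_of_fst SyntMor g (Spec.map w') (Spec.map hZ) hsynt'

include he in
/-- Descent of syntomicity: quasi-compact source over an arbitrary stage. -/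
theorem core_syntomic [∀ (i j : J) (f : i ⟶ j), IsAffineHom (E.map f)] (j₀ : J)
    {X₀ : Scheme.{u}} [CompactSpace X₀] (a : X₀ ⟶ E.obj j₀)
    [LocallyOfFinitePresentation a] (h : SyntMor (pullback.fst (e.π.app j₀) a)) :
    ∃ (j : J) (ψ : j ⟶ j₀), SyntMor (pullback.fst (E.map ψ) a) := by
  refine core_srcLocal_affine E e he SyntMor (fun i _ => syntMor_of_isOpenImmersion i) ?_ j₀ a h
  intro J' _ _ E' e' he' _ j₀' _ X₀' _ a' _ h'
  exact core_syntomic_affine E' e' he' j₀' a' h'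

end affinecase

end Groth.Agent.Lib.Helper5.SyntLim
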