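import Mathlib

/-!
# Helper5 — SyntPresB

Merging presentations over a field: from a presentation `K[x_1..x_n]/(r_1..r_c) ≅ S` and any further
elements `η_1..η_m` of `S`, the presentation `K[x_1..x_n, y_1..y_m] → S` (with the `x_i` rescaled by
units) has kernel generated by `c + m` elements.
-/

set_option autoImplicit false
universe u

namespace Groth.Agent.Lib.Helper5.SyntPres

open MvPolynomial

variable {K : Type u} [Field K] {Sb : Type u} [CommRing Sb] [Algebra K Sb] {n m c : ℕ}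

theorem merge (φ : MvPolynomial (Fin n) K →ₐ[K] Sb) (hφ : Function.Surjective φ)
    (r : Fin c → MvPolynomial (Fin n) K)
    (hker : RingHom.ker φ = Ideal.span (Set.range r))
    (ξ : Fin n → Sb) (u : Fin n → K) (hu : ∀ i, u i ≠ 0) (hξ : ∀ i, ξ i = u i • φ (X i))
    (η : Fin m → Sb) :
    Function.Surjective (aeval (Fin.append ξ η) : MvPolynomial (Fin (n + m)) K →ₐ[K] Sb) ∧
      ∃ r'' : Fin (c + m) → MvPolynomial (Fin (n + m)) K,
        RingHom.ker (aeval (Fin.append ξ η) : MvPolynomial (Fin (n + m)) K →ₐ[K] Sb) =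
          Ideal.span (Set.range r'') := by
  obtain ⟨Φ, hΦ⟩ : ∃ Φ : MvPolynomial (Fin (n + m)) K →ₐ[K] Sb, Φ = aeval (Fin.append ξ η) :=
    ⟨_, rfl⟩
  rw [← hΦ]
  have hΦl : ∀ i, Φ (X (Fin.castAdd m i)) = ξ i := fun i => by
    rw [hΦ, aeval_X, Fin.append_left]
  have hΦr : ∀ j, Φ (X (Fin.natAdd n j)) = η j := fun j => by
    rw [hΦ, aeval_X, Fin.append_right]
  obtain ⟨τ, hτ⟩ : ∃ τ : MvPolynomial (Fin n) K →ₐ[K] MvPolynomial (Fin (n + m)) K,
      τ = aeval (fun i => C (u i)⁻¹ * X (Fin.castAdd m i)) := ⟨_, rfl⟩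
  have hτX : ∀ i, τ (X i) = C (u i)⁻¹ * X (Fin.castAdd m i) := fun i => by rw [hτ, aeval_X]
  have hΦτ : Φ.comp τ = φ := by
    apply MvPolynomial.algHom_ext
    intro i
    rw [AlgHom.comp_apply, hτX, map_mul, hΦl, hξ, ← algebraMap_eq, AlgHom.commutes,
      ← Algebra.smul_def, smul_smul, inv_mul_cancel₀ (hu i), one_smul]
  have hΦτ' : ∀ f, Φ (τ f) = φ f := fun f => DFunLike.congr_fun hΦτ f
  choose h hh using fun j => hφ (η j)
  obtain ⟨ε, hε⟩ : ∃ ε : MvPolynomial (Fin (n + m)) K →ₐ[K] MvPolynomial (Fin n) K,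
      ε = aeval (Fin.append (fun i => C (u i) * X i) h) := ⟨_, rfl⟩
  have hεl : ∀ i, ε (X (Fin.castAdd m i)) = C (u i) * X i := fun i => by
    rw [hε, aeval_X, Fin.append_left]
  have hεr : ∀ j, ε (X (Fin.natAdd n j)) = h j := fun j => by
    rw [hε, aeval_X, Fin.append_right]
  have hφε : φ.comp ε = Φ := by
    apply MvPolynomial.algHom_ext
    intro z
    refine Fin.addCases (fun i => ?_) (fun j => ?_) z
    · rw [AlgHom.comp_apply, hεl, hΦl, hξ, map_mul, ← algebraMap_eq, AlgHom.commutes,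
        ← Algebra.smul_def]
    · rw [AlgHom.comp_apply, hεr, hΦr, hh]
  have hφε' : ∀ f, φ (ε f) = Φ f := fun f => DFunLike.congr_fun hφε f
  refine ⟨fun y => ?_, ?_⟩
  · obtain ⟨f, rfl⟩ := hφ y
    exact ⟨τ f, hΦτ' f⟩
  obtain ⟨r'', hr''⟩ : ∃ r'' : Fin (c + m) → MvPolynomial (Fin (n + m)) K,
      r'' = Fin.append (fun l => τ (r l)) (fun j => X (Fin.natAdd n j) - τ (h j)) := ⟨_, rfl⟩
  have hr''l : ∀ l, r'' (Fin.castAdd m l) = τ (r l) := fun l => by rw [hr'', Fin.append_left]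
  have hr''r : ∀ j, r'' (Fin.natAdd c j) = X (Fin.natAdd n j) - τ (h j) := fun j => by
    rw [hr'', Fin.append_right]
  refine ⟨r'', le_antisymm ?_ ?_⟩
  · intro f hf
    rw [RingHom.mem_ker] at hf
    have hmk : (Ideal.Quotient.mkₐ K (Ideal.span (Set.range r''))).comp (τ.comp ε) =
        Ideal.Quotient.mkₐ K (Ideal.span (Set.range r'')) := by
      apply MvPolynomial.algHom_ext
      intro z
      refine Fin.addCases (fun i => ?_) (fun j => ?_) z
      · have hτC : τ (C (u i)) = C (u i) := τ.commutes (u i)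
        rw [AlgHom.comp_apply, AlgHom.comp_apply, hεl, map_mul, hτX, hτC, ← mul_assoc, ← map_mul,
          mul_inv_cancel₀ (hu i), map_one, one_mul]
      · rw [AlgHom.comp_apply, AlgHom.comp_apply, hεr, Ideal.Quotient.mkₐ_eq_mk, eq_comm,
          Ideal.Quotient.mk_eq_mk_iff_sub_mem, ← hr''r]
        exact Ideal.subset_span ⟨_, rfl⟩
    have h1 : ε f ∈ Ideal.span (Set.range r) := by
      rw [← hker, RingHom.mem_ker, hφε', hf]
    have h2 : τ (ε f) ∈ Ideal.span (Set.range r'') := by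
      have h3 : (Ideal.span (Set.range r)).map (τ : MvPolynomial (Fin n) K →+* _) ≤
          Ideal.span (Set.range r'') := by
        rw [Ideal.map_span, Ideal.span_le]
        rintro _ ⟨_, ⟨l, rfl⟩, rfl⟩
        apply Ideal.subset_span
        exact ⟨Fin.castAdd m l, hr''l l⟩
      exact h3 (Ideal.mem_map_of_mem _ h1)
    have h4 := DFunLike.congr_fun hmk f
    rw [AlgHom.comp_apply, AlgHom.comp_apply, Ideal.Quotient.mkₐ_eq_mk,
      Ideal.Quotient.eq_zero_iff_mem.2 h2, eq_comm, Ideal.Quotient.eq_zero_iff_mem] at h4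
    exact h4
  · rw [Ideal.span_le]
    rintro _ ⟨z, rfl⟩
    rw [SetLike.mem_coe, RingHom.mem_ker]
    refine Fin.addCases (fun l => ?_) (fun j => ?_) z
    · rw [hr''l, hΦτ']
      have : r l ∈ RingHom.ker φ := by rw [hker]; exact Ideal.subset_span ⟨l, rfl⟩
      exact this
    · rw [hr''r, map_sub, hΦr, hΦτ', hh, sub_self]

end Groth.Agent.Lib.Helper5.SyntPres
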