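import Mathlib
import Groth.Prelude.Def_RegImm

/-!
# Helper5 — SyntPresC

From a syntomic ring map `A → B` and a prime `q` of `B`: an element `g ∉ q` such that
`κ(p) ⊗ B_g` (`p = q ∩ A`) has a global complete intersection presentation.
-/

set_option autoImplicit false
universe u

namespace Groth.Agent.Lib.Helper5.SyntPres

open TensorProduct MvPolynomial

variable {A B : Type u} [CommRing A] [CommRing B] [Algebra A B]

theorem exists_gci_localization (h : Synt.IsSyntomic A B) (q : PrimeSpectrum B)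
    (p : Ideal A) [hpp : p.IsPrime] (hp : p = q.asIdeal.under A) :
    ∃ g : B, g ∉ q.asIdeal ∧ ∃ n c : ℕ, c ≤ n ∧
      ∃ (φ : MvPolynomial (Fin n) p.ResidueField →ₐ[p.ResidueField]
          p.ResidueField ⊗[A] Localization.Away g)
        (r : Fin c → MvPolynomial (Fin n) p.ResidueField),
        Function.Surjective φ ∧ RingHom.ker φ = Ideal.span (Set.range r) ∧
          ringKrullDim (p.ResidueField ⊗[A] Localization.Away g) =
            ((n - c : ℕ) : WithBot ℕ∞) := by
  have hfib := h.2.2 ⟨p, hpp⟩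
  change Synt.IsLCIOver p.ResidueField (p.Fiber B) at hfib
  have hq : q ∈ PrimeSpectrum.comap (algebraMap A B) ⁻¹' {(⟨p, hpp⟩ : PrimeSpectrum A)} := by
    rw [Set.mem_preimage, Set.mem_singleton_iff]
    exact PrimeSpectrum.ext hp.symm
  obtain ⟨qb, hqb⟩ : ∃ qb : PrimeSpectrum (p.Fiber B),
      qb = PrimeSpectrum.preimageEquivFiber A B ⟨p, hpp⟩ ⟨q, hq⟩ := ⟨_, rfl⟩
  have hqb' : qb.asIdeal.comap (Algebra.TensorProduct.includeRight :
      B →ₐ[A] p.ResidueField ⊗[A] B).toRingHom = q.asIdeal := by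
    have h1 := (PrimeSpectrum.preimageEquivFiber A B ⟨p, hpp⟩).symm_apply_apply ⟨q, hq⟩
    rw [← hqb] at h1
    have h2 := congrArg (fun x => x.1.asIdeal) h1
    exact h2
  obtain ⟨gb, hgb, hgci⟩ := hfib.2 qb
  obtain ⟨s₀, hs₀, g, hg⟩ := Ideal.Fiber.exists_smul_eq_one_tmul p gb
  have hu0 : algebraMap A p.ResidueField s₀ ≠ 0 := by
    rw [Ne, Ideal.algebraMap_residueField_eq_zero]; exact hs₀
  have hunit : IsUnit (algebraMap A (p.Fiber B) s₀) := by
    rw [IsScalarTower.algebraMap_apply A p.ResidueField (p.Fiber B)]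
    exact (IsUnit.mk0 _ hu0).map _
  have hg' : (1 : p.ResidueField) ⊗ₜ[A] g = gb * algebraMap A (p.Fiber B) s₀ := by
    rw [← hg, Algebra.smul_def, mul_comm]
  have hgq : g ∉ q.asIdeal := by
    intro hmem
    rw [← hqb'] at hmem
    have h1 : (1 : p.ResidueField) ⊗ₜ[A] g ∈ qb.asIdeal := hmem
    rw [hg'] at h1
    rcases (qb.isPrime.mem_or_mem h1) with h2 | h2
    · exact hgb h2
    · exact qb.isPrime.ne_top (Ideal.eq_top_of_isUnit_mem _ h2 hunit)
  have hassoc : Associated gb ((1 : p.ResidueField) ⊗ₜ[A] g) := by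
    obtain ⟨u, hu⟩ := hunit
    exact ⟨u, by rw [hg', hu]⟩
  have hloc : IsLocalization.Away ((1 : p.ResidueField) ⊗ₜ[A] g) (Localization.Away gb) :=
    IsLocalization.Away.of_associated hassoc
  let e₁ := IsLocalization.Away.tensorProductEquivTMulRight A p.ResidueField g (Localization.Away g)
  let e₂ : Localization.Away ((1 : p.ResidueField) ⊗ₜ[A] g) ≃ₐ[p.Fiber B] Localization.Away gb :=
    IsLocalization.algEquiv (Submonoid.powers ((1 : p.ResidueField) ⊗ₜ[A] g)) _ _
  let e : p.ResidueField ⊗[A] Localization.Away g ≃ₐ[p.ResidueField] Localization.Away gb :=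
    e₁.trans (e₂.restrictScalars p.ResidueField)
  refine ⟨g, hgq, ?_⟩
  rcases hgci with hsub | ⟨n, c, hcn, φ, r, hφ, hker, hdim⟩
  · exfalso
    have h0 : (0 : p.Fiber B) ∈ Submonoid.powers gb :=
      (IsLocalization.subsingleton_iff (S := Localization.Away gb) (M := Submonoid.powers gb)).1 hsub
    obtain ⟨k, hk⟩ := h0
    apply hgb
    apply qb.isPrime.mem_of_pow_mem k
    have hk' : gb ^ k = 0 := hk
    rw [hk']
    exact zero_mem _
  · refine ⟨n, c, hcn, (e.symm : Localization.Away gb →ₐ[p.ResidueField] _).comp φ, r, ?_, ?_, ?_⟩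
    · exact e.symm.surjective.comp hφ
    · rw [← hker]
      ext x
      rw [RingHom.mem_ker, RingHom.mem_ker, AlgHom.comp_apply]
      exact e.symm.map_eq_zero_iff
    · rw [← hdim]
      exact ringKrullDim_eq_of_ringEquiv e.toRingEquiv

end Groth.Agent.Lib.Helper5.SyntPres
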