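import Mathlib
import Groth.Agent.Lib.Helper5.SyntPresA
import Groth.Agent.Lib.Helper5.SyntPresB
import Groth.Agent.Lib.Helper5.SyntPresC

/-!
# Helper5 — SyntPresD

An adapted presentation of `B_g` for a syntomic `A → B` near a prime `q`: a surjection
`A[Z_1..Z_N] → B_g` with `c` elements of the kernel generating the kernel over `κ(p)`, where
`dim κ(p) ⊗ B_g = N - c`.
-/

set_option autoImplicit false
universe u

namespace Groth.Agent.Lib.Helper5.SyntPres

open TensorProduct MvPolynomial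

variable {A B : Type u} [CommRing A] [CommRing B] [Algebra A B]

theorem exists_presentation (h : Synt.IsSyntomic A B) (q : PrimeSpectrum B)
    (p : Ideal A) [hpp : p.IsPrime] (hp : p = q.asIdeal.under A) :
    ∃ g : B, g ∉ q.asIdeal ∧ ∃ (N : ℕ) (Ψ : MvPolynomial (Fin N) A →ₐ[A] Localization.Away g)
      (fs : List (MvPolynomial (Fin N) A)),
      Function.Surjective Ψ ∧ fs.length ≤ N ∧ Ideal.ofList fs ≤ RingHom.ker Ψ ∧
      (RingHom.ker Ψ).map (MvPolynomial.map (algebraMap A p.ResidueField)) ≤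
        Ideal.ofList (fs.map (MvPolynomial.map (algebraMap A p.ResidueField))) ∧
      ringKrullDim (MvPolynomial (Fin N) p.ResidueField ⧸
        (RingHom.ker Ψ).map (MvPolynomial.map (algebraMap A p.ResidueField))) ≤
          ((N - fs.length : ℕ) : WithBot ℕ∞) := by
  obtain ⟨g, hg, n, c, hcn, φ, r, hφ, hker, hdim⟩ := exists_gci_localization h q p hp
  refine ⟨g, hg, ?_⟩
  have hfp : Algebra.FinitePresentation A B := h.2.1
  have hft : Algebra.FiniteType A (Localization.Away g) :=
    Algebra.FiniteType.trans (inferInstance : Algebra.FiniteType A B)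
      (IsLocalization.finiteType_of_monoid_fg (Submonoid.powers g) _)
  obtain ⟨m, ψ, hψ⟩ := Algebra.FiniteType.iff_quotient_mvPolynomial''.1 hft
  choose s hs β hβ using fun i => Ideal.Fiber.exists_smul_eq_one_tmul p (φ (X i))
  obtain ⟨Ψ, hΨdef⟩ : ∃ Ψ : MvPolynomial (Fin (n + m)) A →ₐ[A] Localization.Away g,
      Ψ = aeval (Fin.append β (fun j => ψ (X j))) := ⟨_, rfl⟩
  have hΨl : ∀ i, Ψ (X (Fin.castAdd m i)) = β i := fun i => by
    rw [hΨdef, aeval_X, Fin.append_left]
  have hΨr : ∀ j, Ψ (X (Fin.natAdd n j)) = ψ (X j) := fun j => by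
    rw [hΨdef, aeval_X, Fin.append_right]
  have hΨ : Function.Surjective Ψ := by
    intro y
    obtain ⟨a, rfl⟩ := hψ y
    refine ⟨rename (Fin.natAdd n) a, ?_⟩
    have h1 : Ψ.comp (rename (Fin.natAdd n)) = ψ := by
      apply MvPolynomial.algHom_ext
      intro j
      rw [AlgHom.comp_apply, rename_X, hΨr]
    exact DFunLike.congr_fun h1 a
  have hfib : fibHom p.ResidueField Ψ =
      aeval (Fin.append (fun i => (1 : p.ResidueField) ⊗ₜ[A] β i)
        (fun j => (1 : p.ResidueField) ⊗ₜ[A] ψ (X j))) := by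
    rw [fibHom]
    congr 1
    funext z
    refine Fin.addCases (fun i => ?_) (fun j => ?_) z
    · rw [hΨl, Fin.append_left]
    · rw [hΨr, Fin.append_right]
  have hu : ∀ i, algebraMap A p.ResidueField (s i) ≠ 0 := fun i => by
    rw [Ne, Ideal.algebraMap_residueField_eq_zero]; exact hs i
  have hξ : ∀ i, (1 : p.ResidueField) ⊗ₜ[A] β i = algebraMap A p.ResidueField (s i) • φ (X i) := by
    intro i
    rw [← hβ i, algebraMap_smul]
  obtain ⟨hΦsurj, r'', hr''⟩ := merge φ hφ r hker _ _ hu hξ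
    (fun j => (1 : p.ResidueField) ⊗ₜ[A] ψ (X j))
  rw [← hfib] at hΦsurj hr''
  have hkerfib := ker_fibHom p.ResidueField Ψ hΨ
  obtain ⟨fs, hlen, hfs, hgen⟩ := exists_list_lift p (RingHom.ker Ψ) r'' (by rw [← hkerfib, hr''])
  have hdim' : ringKrullDim (MvPolynomial (Fin (n + m)) p.ResidueField ⧸
      RingHom.ker (fibHom p.ResidueField Ψ)) = ((n - c : ℕ) : WithBot ℕ∞) := by
    rw [← hdim]
    exact ringKrullDim_eq_of_ringEquiv (Ideal.quotientKerAlgEquivOfSurjective hΦsurj).toRingEquiv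
  rw [hkerfib] at hdim'
  refine ⟨n + m, Ψ, fs, hΨ, by rw [hlen]; omega, hfs, hgen, ?_⟩
  rw [hdim', hlen]
  have : n + m - (c + m) = n - c := by omega
  rw [this]

end Groth.Agent.Lib.Helper5.SyntPres
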