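import Mathlib
import Groth.Agent.Lib.Helper29.QCohStalk
import Groth.Agent.Lib.Helper24.Cat.NormalComponents

set_option autoImplicit false
set_option linter.style.haveILetI false
set_option linter.unusedSectionVars false
set_option linter.unusedVariables false

universe u

open AlgebraicGeometry CategoryTheory CategoryTheory.Limits TopologicalSpace

namespace Groth.Agent.Lib.Helper5.TorsCons

open Groth.Agent.Lib.Helper28.QCohLoc Groth.Agent.Lib.Helper29.QCohStalk

variable {Y : Scheme.{u}}

/-- the generic point of the local ring at `y`, as a point of `Y` -/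
noncomputable def gen (Y : Scheme.{u}) (y : Y) [IsDomain (Y.presheaf.stalk y)] : Y :=
  Y.fromSpecStalk y (⊥ : PrimeSpectrum (Y.presheaf.stalk y))

theorem gen_specializes (y : Y) [IsDomain (Y.presheaf.stalk y)] : gen Y y ⤳ y := by
  have : gen Y y ∈ Set.range (Y.fromSpecStalk y) := ⟨_, rfl⟩
  rw [Scheme.range_fromSpecStalk] at this
  exact this

theorem gen_mem_of_mem (y : Y) [IsDomain (Y.presheaf.stalk y)] (W : Y.Opens) (hy : y ∈ W) :
    gen Y y ∈ W :=
  (gen_specializes y).mem_open W.2 hy

/-- a function is invertible at the generic point of the local ring iff its germ is nonzero -/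
theorem gen_mem_basicOpen_iff (y : Y) [IsDomain (Y.presheaf.stalk y)] (W : Y.Opens) (hy : y ∈ W)
    (t : Γ(Y, W)) : gen Y y ∈ Y.basicOpen t ↔ Y.presheaf.germ W y hy t ≠ 0 := by
  have h1 : gen Y y ∈ Y.basicOpen t ↔
      (⊥ : PrimeSpectrum (Y.presheaf.stalk y)) ∈ (Y.fromSpecStalk y) ⁻¹ᵁ (Y.basicOpen t) := Iff.rfl
  rw [h1, Scheme.preimage_basicOpen, Scheme.fromSpecStalk_app hy]
  simp only [CommRingCat.comp_apply]
  rw [Scheme.basicOpen_res, basicOpen_eq_of_affine]
  constructor
  · rintro ⟨-, h⟩ h0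
    rw [h0] at h
    simp at h
    exact (show (⊥ : PrimeSpectrum (Y.presheaf.stalk y)) ∈ (∅ : Set _) from h).elim
  · intro h
    refine ⟨?_, ?_⟩
    · exact gen_mem_of_mem y W hy
    · show Y.presheaf.germ W y hy t ∉ (⊥ : PrimeSpectrum (Y.presheaf.stalk y)).asIdeal
      intro hc
      exact h (by simpa using hc)


section Mod

variable (M : Y.Modules) [M.IsQuasicoherent]

set_option maxHeartbeats 800000 in
/-- the stalk at `y` is torsion iff the module vanishes at the generic point of the local ring -/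
theorem torsion_eq_top_iff (y : Y) [IsDomain (Y.presheaf.stalk y)] :
    Submodule.torsion (Y.presheaf.stalk y) (M.presheaf.stalk y) = ⊤ ↔
      Subsingleton (M.presheaf.stalk (gen Y y)) := by
  obtain ⟨_, ⟨W, hW : IsAffineOpen W, rfl⟩, hyW, -⟩ :=
    Y.isBasis_affineOpens.exists_subset_of_mem_open (Set.mem_univ y) isOpen_univ
  have hloc := isLocOn_of_isQuasicoherent M hW
  have hηW : gen Y y ∈ W := gen_mem_of_mem y W hyW
  constructor
  · intro htors
    suffices h : ∀ μ : M.presheaf.stalk (gen Y y), μ = 0 from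
      ⟨fun μ₁ μ₂ => by rw [h μ₁, h μ₂]⟩
    intro μ
    obtain ⟨s, m, hs, hsm⟩ := exists_germ_smul_eq M hW hloc (gen Y y) hηW μ
    have hm : gm M W y hyW m ∈ Submodule.torsion (Y.presheaf.stalk y) (M.presheaf.stalk y) := by
      rw [htors]; trivial
    obtain ⟨⟨a, ha⟩, ham⟩ := (Submodule.mem_torsion_iff _).1 hm
    have ham' : a • gm M W y hyW m = 0 := ham
    let := Y.presheaf.algebra_section_stalk ⟨y, hyW⟩
    have := hW.isLocalization_stalk ⟨y, hyW⟩
    obtain ⟨⟨b, u⟩, hbu⟩ := IsLocalization.surj (hW.primeIdealOf ⟨y, hyW⟩).asIdeal.primeCompl a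
    have hbu' : a * Y.presheaf.germ W y hyW u.1 = Y.presheaf.germ W y hyW b := hbu
    have hu : IsUnit (Y.presheaf.germ W y hyW u.1) :=
      (IsLocalization.AtPrime.isUnit_to_map_iff (Y.presheaf.stalk y)
        (hW.primeIdealOf ⟨y, hyW⟩).asIdeal u.1).2 u.2
    have ha0 : a ≠ 0 := nonZeroDivisors.ne_zero ha
    have hb0 : Y.presheaf.germ W y hyW b ≠ 0 := by
      rw [← hbu']
      exact mul_ne_zero ha0 hu.ne_zero
    have hbm : gm M W y hyW (b • m) = 0 := by
      rw [gm_smul, ← hbu', mul_comm, mul_smul, ham', smul_zero]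
    obtain ⟨u', hu', hu'm⟩ := exists_smul_eq_zero_of_gm_eq_zero M hW hloc y hyW (b • m) hbm
    have ht0 : Y.presheaf.germ W y hyW (u' * b) ≠ 0 := by
      rw [map_mul]
      exact mul_ne_zero hu'.ne_zero hb0
    have htη : gen Y y ∈ Y.basicOpen (u' * b) := (gen_mem_basicOpen_iff y W hyW (u' * b)).2 ht0
    have htunit : IsUnit (Y.presheaf.germ W (gen Y y) hηW (u' * b)) :=
      (Scheme.mem_basicOpen _ _ _ hηW).1 htη
    have h1 : Y.presheaf.germ W (gen Y y) hηW (u' * b) • gm M W (gen Y y) hηW m = 0 := by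
      rw [← gm_smul, mul_smul, hu'm, gm_zero]
    have h2 : gm M W (gen Y y) hηW m = 0 := by
      obtain ⟨v, hv⟩ := htunit
      have := congrArg (fun z => (↑v⁻¹ : Y.presheaf.stalk (gen Y y)) • z) h1
      simpa [← hv, smul_smul] using this
    rw [h2] at hsm
    obtain ⟨v, hv⟩ := hs
    have := congrArg (fun z => (↑v⁻¹ : Y.presheaf.stalk (gen Y y)) • z) hsm
    simpa [← hv, smul_smul] using this
  · intro hsub
    rw [eq_top_iff]
    intro μ _
    obtain ⟨s, m, hs, hsm⟩ := exists_germ_smul_eq M hW hloc y hyW μ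
    have h0 : gm M W (gen Y y) hηW m = 0 := Subsingleton.elim _ _
    obtain ⟨t, ht, htm⟩ := exists_smul_eq_zero_of_gm_eq_zero M hW hloc (gen Y y) hηW m h0
    have htη : gen Y y ∈ Y.basicOpen t := (Scheme.mem_basicOpen _ _ _ hηW).2 ht
    have hty : Y.presheaf.germ W y hyW t ≠ 0 := (gen_mem_basicOpen_iff y W hyW t).1 htη
    rw [Submodule.mem_torsion_iff]
    refine ⟨⟨Y.presheaf.germ W y hyW t * Y.presheaf.germ W y hyW s,
      mem_nonZeroDivisors_of_ne_zero (mul_ne_zero hty hs.ne_zero)⟩, ?_⟩
    show (Y.presheaf.germ W y hyW t * Y.presheaf.germ W y hyW s) • μ = 0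
    rw [mul_smul, hsm, ← gm_smul, htm, gm_zero]

end Mod

/-- every irreducible closed set through `y` is contained in the closure of the generic point of
the local ring -/
theorem subset_closure_gen (y : Y) [IsDomain (Y.presheaf.stalk y)] (T : Set Y)
    (hT : IsIrreducible T) (hTc : IsClosed T) (hyT : y ∈ T) : T ⊆ closure {gen Y y} := by
  have hgen : closure {hT.genericPoint} = T := hT.closure_genericPoint hTc
  have hspec : hT.genericPoint ⤳ y := by
    rw [specializes_iff_mem_closure, hgen]
    exact hyT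
  have hmem : hT.genericPoint ∈ Set.range (Y.fromSpecStalk y) := by
    rw [Scheme.range_fromSpecStalk]
    exact hspec
  obtain ⟨p, hp⟩ := hmem
  have h1 : Y.fromSpecStalk y (⊥ : PrimeSpectrum (Y.presheaf.stalk y)) ⤳ Y.fromSpecStalk y p :=
    ((PrimeSpectrum.le_iff_specializes (⊥ : PrimeSpectrum (Y.presheaf.stalk y)) p).1
      (show @LE.le (PrimeSpectrum (Y.presheaf.stalk y)) _ ⊥ p from bot_le)).map
      (Y.fromSpecStalk y).continuous
  rw [hp] at h1
  rw [← hgen]
  exact specializes_iff_closure_subset.1 h1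

/-- on a locally Noetherian scheme with integral local rings, the generic points of the local
rings lie in every dense open -/
theorem gen_mem_of_dense [IsLocallyNoetherian Y] (hdom : ∀ y : Y, IsDomain (Y.presheaf.stalk y))
    (y : Y) (U : Set Y) (hU : IsOpen U) (hd : Dense U) :
    @gen Y y (hdom y) ∈ U := by
  have := hdom y
  have hfin : ∀ V : Y.Opens, IsCompact (V : Set Y) → (irreducibleComponents ↥V).Finite := by
    intro V hV
    have h1 : CompactSpace ↥(V : Scheme.{u}) :=
      (isCompact_iff_compactSpace (s := (V : Set Y))).mp hV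
    have : AlgebraicGeometry.IsNoetherian (V : Scheme.{u}) := AlgebraicGeometry.IsNoetherian.mk
    have h2 : NoetherianSpace ↥(V : Scheme.{u}) := inferInstance
    have : NoetherianSpace ↥V := h2
    exact NoetherianSpace.finite_irreducibleComponents
  obtain ⟨hopen, -⟩ := Groth.Agent.Lib.Helper24.NormalComponents.main Y hfin hdom
  obtain ⟨Z, hZ, hyZ⟩ := exists_mem_irreducibleComponents_subset_of_isIrreducible
    ({y} : Set Y) isIrreducible_singleton
  have hyZ' : y ∈ Z := hyZ rfl
  have hZsub : Z ⊆ closure {gen Y y} :=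
    subset_closure_gen y Z hZ.1 (isClosed_of_mem_irreducibleComponents Z hZ) hyZ'
  have hZeq : closure {gen Y y} = Z :=
    Set.Subset.antisymm (hZ.2 isIrreducible_singleton.closure hZsub) hZsub
  rw [(isGenericPoint_closure (x := gen Y y)).mem_open_set_iff hU, hZeq]
  exact hd.inter_open_nonempty Z (hopen Z hZ) ⟨y, hyZ'⟩ |>.mono (by
    intro z hz; exact hz)

/-- on a locally Noetherian scheme with integral local rings, a quasi-coherent module has torsion
stalks iff the complement of its support is dense -/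
theorem forall_torsion_iff_dense [IsLocallyNoetherian Y] (M : Y.Modules) [M.IsQuasicoherent]
    (hdom : ∀ y : Y, IsDomain (Y.presheaf.stalk y)) (T : Set Y) (hT : IsClosed T)
    (hTM : ∀ y, y ∈ T ↔ ¬ Subsingleton (M.presheaf.stalk y)) :
    (∀ y, Submodule.torsion (Y.presheaf.stalk y) (M.presheaf.stalk y) = ⊤) ↔ Dense Tᶜ := by
  constructor
  · intro h
    rw [dense_iff_inter_open]
    intro V hV ⟨v, hv⟩
    have := hdom v
    refine ⟨gen Y v, (gen_specializes v).mem_open hV hv, ?_⟩
    intro hc
    exact (hTM _).1 hc ((torsion_eq_top_iff M v).1 (h v))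
  · intro hd y
    have := hdom y
    rw [torsion_eq_top_iff M y]
    have := gen_mem_of_dense hdom y Tᶜ hT.isOpen_compl hd
    by_contra hc
    exact this ((hTM _).2 hc)

end Groth.Agent.Lib.Helper5.TorsCons
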