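import Mathlib
import Groth.Prelude.Def_CohB1
import Groth.Agent.Lib.Helper5.TorsCons
import Groth.Agent.Lib.Helper21.MaxSupp1
import Groth.Agent.Lib.Helper6.DevCore
import Groth.Agent.Lib.Helper24.OpenConst.Constr
import Groth.Agent.Lib.Helper7.StalkFree
import Groth.Agent.Lib.lead.ChevB
import Groth.Agent.S3427

set_option autoImplicit false
set_option linter.style.haveILetI false
set_option linter.unusedSectionVars false
set_option linter.unusedVariables false

universe u

open AlgebraicGeometry CategoryTheory CategoryTheory.Limits TopologicalSpace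

namespace Groth.Agent.Lib.Helper5.TorsMain

set_option maxHeartbeats 1600000 in
theorem main {X S : Scheme.{u}} (f : X ⟶ S) [IsLocallyNoetherian S] [LocallyOfFiniteType f]
    [QuasiCompact f] (F : X.Modules) (hF : Coh.IsCoh F)
    (hint : ∀ (s : S) (x : ↥(f.fiber s)), IsDomain ((f.fiber s).presheaf.stalk x)) :
    Topology.IsLocallyConstructible {s : S | ∀ x : ↥(f.fiber s),
      Submodule.torsion ((f.fiber s).presheaf.stalk x)
        (((Scheme.Modules.pullback (f.fiberι s)).obj F).presheaf.stalk x) = ⊤} := by
  have : IsLocallyNoetherian X := LocallyOfFiniteType.isLocallyNoetherian f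
  have : LocallyOfFinitePresentation f :=
    Groth.Agent.Lib.lead.ChevB.lfp_of_lft_of_isLocallyNoetherian _
  have : F.IsQuasicoherent := hF.1
  have : ∀ x : X, Module.Finite (X.presheaf.stalk x) (F.presheaf.stalk x) := fun x =>
    Groth.Agent.Lib.Helper7.StalkFree.finite_stalk_of_isCoh X F hF x
  have hcl : IsClosed (CohB1.support F) := Groth.Agent.Lib.Helper6.DevCore.isClosed_support F hF
  have hZ : Topology.IsLocallyConstructible (CohB1.support F)ᶜ :=
    Groth.Agent.Lib.Helper24.OpenConst.isLocallyConstructible_compl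
      (Groth.Agent.Lib.Helper24.OpenConst.isLocallyConstructible_of_isClosed _ hcl)
  have key := Groth.Agent.S3427.result f (CohB1.support F)ᶜ Set.univ hZ
    Topology.IsLocallyConstructible.univ (Set.subset_univ _)
  convert key using 1
  ext s
  simp only [Set.mem_setOf_eq, Set.univ_inter]
  have : IsLocallyNoetherian (f.fiber s) :=
    LocallyOfFiniteType.isLocallyNoetherian (f.fiberToSpecResidueField s)
  rw [Groth.Agent.Lib.Helper5.TorsCons.forall_torsion_iff_dense
    ((Scheme.Modules.pullback (f.fiberι s)).obj F) (hint s) ((f.fiberι s) ⁻¹' (CohB1.support F))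
    (hcl.preimage (f.fiberι s).continuous) (fun y => by
      rw [← not_iff_not, not_not]
      have := Groth.Agent.Lib.Helper21.MaxSupp.mem_support_pullback_iff (f.fiberι s) F y
      unfold CohB1.support at this ⊢
      simp only [Set.mem_setOf_eq, Set.mem_preimage, not_not] at this ⊢
      exact (not_iff_not.1 (by simpa using this)).symm)]
  have hemb := (f.fiberι s).isEmbedding
  have hrange : Set.range (f.fiberι s) = f ⁻¹' {s} := f.range_fiberι s
  constructor
  · intro hd x hx
    have hx' : x ∈ Set.range (f.fiberι s) := by rw [hrange]; exact hx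
    obtain ⟨y, rfl⟩ := hx'
    have hy : y ∈ closure ((f.fiberι s) ⁻¹' (CohB1.support F))ᶜ := hd y
    rw [hemb.isInducing.closure_eq_preimage_closure_image] at hy
    refine closure_mono ?_ hy
    rintro _ ⟨z, hz, rfl⟩
    refine ⟨hz, ?_⟩
    have : f.fiberι s z ∈ Set.range (f.fiberι s) := ⟨z, rfl⟩
    rw [hrange] at this
    exact this
  · intro h y
    rw [hemb.isInducing.closure_eq_preimage_closure_image]
    have hy : f.fiberι s y ∈ f ⁻¹' {s} := by rw [← hrange]; exact ⟨y, rfl⟩
    have := h hy
    refine closure_mono ?_ this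
    rintro x ⟨hx, hxs⟩
    have hx' : x ∈ Set.range (f.fiberι s) := by rw [hrange]; exact hxs
    obtain ⟨z, rfl⟩ := hx'
    exact ⟨z, hx, rfl⟩

end Groth.Agent.Lib.Helper5.TorsMain
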