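import Mathlib.LinearAlgebra.Trace

set_option autoImplicit false
universe u v w

namespace Groth.Agent.Lib.Helper5

/-- The trace of an endomorphism of a finite product of finite free modules is the sum of the
traces of its diagonal blocks. -/
theorem trace_pi_eq_sum_diag {A : Type u} [CommRing A] {X : Type v} [Fintype X] [DecidableEq X]
    (E : X → Type w) [∀ x, AddCommGroup (E x)] [∀ x, Module A (E x)]
    [∀ x, Module.Free A (E x)] [∀ x, Module.Finite A (E x)]
    (T : (∀ x, E x) →ₗ[A] (∀ x, E x)) :
    LinearMap.trace A (∀ x, E x) T =
      ∑ x, LinearMap.trace A (E x) ((LinearMap.proj x).comp (T.comp (LinearMap.single A E x))) := by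
  have h : T = ∑ x, (LinearMap.single A E x).comp ((LinearMap.proj x).comp T) := by
    apply LinearMap.ext
    intro e
    simp only [LinearMap.sum_apply, LinearMap.comp_apply, LinearMap.proj_apply,
      LinearMap.single_apply]
    exact (Finset.univ_sum_single (T e)).symm
  conv_lhs => rw [h]
  rw [map_sum]
  refine Finset.sum_congr rfl fun x _ => ?_
  rw [LinearMap.trace_comp_comm']
  rfl

end Groth.Agent.Lib.Helper5
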