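import Mathlib
import Groth.Prelude.Def_RegImm
import Groth.Prelude.Def_Mor2
import Groth.Agent.Lib.Helper5.TransNbhdB
import Groth.Agent.Lib.Helper5.TransNbhdD
import Groth.Agent.Lib.Helper5.TransNbhdE

set_option autoImplicit false
universe u
open CategoryTheory CategoryTheory.Limits AlgebraicGeometry TopologicalSpace TensorProduct

namespace Groth.Agent.Lib.Helper5.TransNbhd

/-- a closed immersion which is a regular immersion is a regular closed immersion. -/
theorem isRegularClosedImmersion_of_regular {Z X : Scheme.{u}} (i : Z ⟶ X) [IsClosedImmersion i]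
    (h : ∀ z, RegImm.IsRegularImmersionAt RegImm.Kind.regular i z) :
    Mor2.IsRegularClosedImmersion i := by
  refine ⟨inferInstance, fun z => ?_⟩
  obtain ⟨W, hz, -, rs, hseq, hker⟩ := h z
  exact ⟨W.1, W.2, hz, rs, hseq, by rw [Scheme.Hom.ker_apply]; exact hker⟩

/-- base change of a transversally regular closed immersion is a regular closed immersion. -/
theorem isRegularClosedImmersion_pullbackMap {Z U S S' : Scheme.{u}} (ι : Z ⟶ U) (φ : U ⟶ S)
    (k : Z ⟶ S) (hk : ι ≫ φ = k) (g : S' ⟶ S) [IsClosedImmersion ι]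
    (htr : ∀ z, RegImm.IsTransRegularImmersionAt φ ι z) (h1 : k ≫ 𝟙 S = ι ≫ φ)
    (h2 : g ≫ 𝟙 S = 𝟙 S' ≫ g) :
    Mor2.IsRegularClosedImmersion (pullback.map k g φ g ι (𝟙 S') (𝟙 S) h1 h2) := by
  subst hk
  have H2 : IsPullback (pullback.fst φ g) (pullback.snd φ g) φ g := IsPullback.of_hasPullback φ g
  have hbig : IsPullback (pullback.fst (ι ≫ φ) g)
      (pullback.map (ι ≫ φ) g φ g ι (𝟙 S') (𝟙 S) h1 h2 ≫ pullback.snd φ g) (ι ≫ φ) g := by
    have : pullback.map (ι ≫ φ) g φ g ι (𝟙 S') (𝟙 S) h1 h2 ≫ pullback.snd φ g =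
        pullback.snd (ι ≫ φ) g := by
      rw [pullback.lift_snd, Category.comp_id]
    rw [this]
    exact IsPullback.of_hasPullback _ _
  have H1 : IsPullback (pullback.fst (ι ≫ φ) g) (pullback.map (ι ≫ φ) g φ g ι (𝟙 S') (𝟙 S) h1 h2)
      ι (pullback.fst φ g) :=
    IsPullback.of_bot hbig (by rw [pullback.lift_fst]) H2
  have hcl : IsClosedImmersion (pullback.map (ι ≫ φ) g φ g ι (𝟙 S') (𝟙 S) h1 h2) :=
    MorphismProperty.of_isPullback (P := @IsClosedImmersion) H1 inferInstance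
  refine isRegularClosedImmersion_of_regular _ fun z' => ?_
  exact isRegularImmersionAt_of_trans (pullback.snd φ g) _ z'
    (isTransRegularImmersionAt_baseChange φ ι g _ _ H2 _ _ H1 z' (htr _))

/-- transport of transversal regularity from `Spec Γ(X, U)` to the open subscheme `U`. -/
theorem isTransRegularImmersionAt_isoSpec {X S : Scheme.{u}} (f : X ⟶ S) {U : X.Opens}
    (hU : IsAffineOpen U) {Z : Scheme.{u}} (c : Z ⟶ Spec Γ(X, U)) (z : Z)
    (h : RegImm.IsTransRegularImmersionAt (hU.fromSpec ≫ f) c z) :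
    RegImm.IsTransRegularImmersionAt (U.ι ≫ f) (c ≫ hU.isoSpec.inv) z := by
  have H2 : IsPullback hU.isoSpec.hom (U.ι ≫ f) (hU.fromSpec ≫ f) (𝟙 S) :=
    IsPullback.of_horiz_isIso ⟨by rw [Category.comp_id, ← Category.assoc, hU.isoSpec_hom_fromSpec]⟩
  have H1 : IsPullback (𝟙 Z) (c ≫ hU.isoSpec.inv) c hU.isoSpec.hom :=
    IsPullback.of_horiz_isIso ⟨by simp⟩
  exact isTransRegularImmersionAt_baseChange (hU.fromSpec ≫ f) c (𝟙 S) _ _ H2 _ _ H1 z h

end Groth.Agent.Lib.Helper5.TransNbhd
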