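import Mathlib
import Groth.Prelude.Def_RegImm
import Groth.Prelude.Def_Mor2
import Groth.Agent.S1349
import Groth.Agent.Lib.Helper5.TransNbhdF

set_option autoImplicit false
universe u

namespace Groth.Agent.Lib.Helper5.TransNbhd

open AlgebraicGeometry CategoryTheory Limits
open Groth.Agent.Lib.Helper21.FlatDesc Groth.Agent.Lib.Helper21.FibreStalk IsLocalRing
open RingTheory.Sequence
open scoped Pointwise

set_option maxHeartbeats 3200000 in
set_option synthInstance.maxHeartbeats 200000 in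
theorem slice {X S : Scheme.{u}} (f : X ⟶ S) [LocallyOfFinitePresentation f] (x : X)
    (hflat : (f.stalkMap x).hom.Flat) (hs : List ↑(X.presheaf.stalk x))
    (hreg : RingTheory.Sequence.IsRegular (↑(X.presheaf.stalk x) ⧸ Ideal.map (f.stalkMap x).hom (IsLocalRing.maximalIdeal ↑(S.presheaf.stalk (f x))))
      (hs.map (Ideal.Quotient.mk (Ideal.map (f.stalkMap x).hom (IsLocalRing.maximalIdeal ↑(S.presheaf.stalk (f x))))))) :
    ∃ (U : X.Opens) (hU : IsAffineOpen U) (hx : x ∈ U) (hs' : List Γ(X, U)), hs'.map (X.presheaf.germ U x hx) = hs ∧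
      Mor2.IsRegularClosedImmersion (Spec.map (CommRingCat.ofHom (Ideal.Quotient.mk (Ideal.ofList hs'))) ≫ hU.isoSpec.inv) ∧
      x ∈ Set.range ⇑(Spec.map (CommRingCat.ofHom (Ideal.Quotient.mk (Ideal.ofList hs'))) ≫ hU.fromSpec) ∧
      Flat (Spec.map (CommRingCat.ofHom (Ideal.Quotient.mk (Ideal.ofList hs'))) ≫ hU.fromSpec ≫ f) ∧ LocallyOfFinitePresentation (Spec.map (CommRingCat.ofHom (Ideal.Quotient.mk (Ideal.ofList hs'))) ≫ hU.fromSpec ≫ f) ∧
      ∀ (S' : Scheme.{u}) (g : S' ⟶ S), Mor2.IsRegularClosedImmersion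
        (pullback.map (Spec.map (CommRingCat.ofHom (Ideal.Quotient.mk (Ideal.ofList hs'))) ≫ hU.isoSpec.inv ≫ U.ι ≫ f) g (U.ι ≫ f) g (Spec.map (CommRingCat.ofHom (Ideal.Quotient.mk (Ideal.ofList hs'))) ≫ hU.isoSpec.inv) (𝟙 S') (𝟙 S)
          (Category.comp_id _) ((Category.comp_id g).trans (Category.id_comp g).symm)) := by
  classical
  let aO : Algebra (S.presheaf.stalk (f x)) (X.presheaf.stalk x) := (f.stalkMap x).hom.toAlgebra
  -- the germs are non-units
  have hsm : ∀ h ∈ hs, h ∈ maximalIdeal (X.presheaf.stalk x) := by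
    intro h hh
    rw [mem_maximalIdeal, mem_nonunits_iff]
    intro hu
    apply hreg.top_ne_smul
    rw [smul_eq_mul, Ideal.mul_top]
    symm
    apply Ideal.eq_top_of_isUnit_mem _ _ (hu.map (Ideal.Quotient.mk (fibIdeal f x)))
    exact Ideal.subset_span (List.mem_map.mpr ⟨h, hh, rfl⟩)
  obtain ⟨hwr, hfl⟩ := Groth.Agent.S1349.stalk_step_list f x hflat hs hsm hreg.toIsWeaklyRegular
  -- charts
  obtain ⟨_, ⟨V, hV : IsAffineOpen V, rfl⟩, hfxV, -⟩ :=
    S.isBasis_affineOpens.exists_subset_of_mem_open (Set.mem_univ (f x)) isOpen_univ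
  obtain ⟨W, hxW, bs₀, hbs₀⟩ := Groth.Agent.S1349.exists_germs_list x hs
  obtain ⟨_, ⟨U₀, hU₀ : IsAffineOpen U₀, rfl⟩, hxU₀, hU₀le⟩ :=
    X.isBasis_affineOpens.exists_subset_of_mem_open
      (show x ∈ ((W ⊓ f ⁻¹ᵁ V : X.Opens) : Set X) from ⟨hxW, hfxV⟩) (W ⊓ f ⁻¹ᵁ V).isOpen
  have hU₀W : U₀ ≤ W := fun y hy => (hU₀le hy).1
  have hU₀V : U₀ ≤ f ⁻¹ᵁ V := fun y hy => (hU₀le hy).2
  let bs : List Γ(X, U₀) := bs₀.map (fun b => X.presheaf.map (homOfLE hU₀W).op b)
  have hbs : bs.map (fun b => X.presheaf.germ U₀ x hxU₀ b) = hs := by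
    rw [← hbs₀, List.map_map]
    apply List.map_congr_left
    intro b _
    exact TopCat.Presheaf.germ_res_apply X.presheaf (homOfLE hU₀W) x hxU₀ b
  -- ring data
  let aAB : Algebra Γ(S, V) Γ(X, U₀) := (f.appLE V U₀ hU₀V).hom.toAlgebra
  have : Algebra.FinitePresentation Γ(S, V) Γ(X, U₀) :=
    (HasRingHomProperty.appLE @LocallyOfFinitePresentation f inferInstance ⟨V, hV⟩ ⟨U₀, hU₀⟩ hU₀V :
      RingHom.FinitePresentation _)
  let q : Ideal Γ(X, U₀) := (hU₀.primeIdealOf ⟨x, hxU₀⟩).asIdeal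
  let aBO : Algebra Γ(X, U₀) (X.presheaf.stalk x) := X.presheaf.algebra_section_stalk ⟨x, hxU₀⟩
  have locO : IsLocalization.AtPrime (X.presheaf.stalk x) q := hU₀.isLocalization_stalk ⟨x, hxU₀⟩
  let aAA₀ : Algebra Γ(S, V) (S.presheaf.stalk (f x)) :=
    S.presheaf.algebra_section_stalk ⟨f x, hfxV⟩
  have locA₀ := hV.isLocalization_stalk ⟨f x, hfxV⟩
  let aAO : Algebra Γ(S, V) (X.presheaf.stalk x) :=
    ((algebraMap Γ(X, U₀) (X.presheaf.stalk x)).comp (algebraMap Γ(S, V) Γ(X, U₀))).toAlgebra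
  have tw1 : IsScalarTower Γ(S, V) Γ(X, U₀) (X.presheaf.stalk x) :=
    IsScalarTower.of_algebraMap_eq fun a => rfl
  have tw2 : IsScalarTower Γ(S, V) (S.presheaf.stalk (f x)) (X.presheaf.stalk x) :=
    IsScalarTower.of_algebraMap_eq fun a => by
      show X.presheaf.germ U₀ x hxU₀ (f.appLE V U₀ hU₀V a) =
        f.stalkMap x (S.presheaf.germ V (f x) hfxV a)
      rw [Scheme.Hom.germ_stalkMap_apply, Scheme.Hom.appLE]
      exact (TopCat.Presheaf.germ_res_apply X.presheaf (homOfLE hU₀V) x hxU₀ _)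
  have : Module.Flat Γ(S, V) (S.presheaf.stalk (f x)) :=
    IsLocalization.flat _ (hV.primeIdealOf ⟨f x, hfxV⟩).asIdeal.primeCompl
  have hbs' : bs.map (algebraMap Γ(X, U₀) (X.presheaf.stalk x)) = hs := hbs
  obtain ⟨g₀, hg₀, H⟩ := exists_away_weaklyRegular_flat_stalk Γ(S, V) Γ(X, U₀) q bs
    (X.presheaf.stalk x) (by rw [hbs']; exact hwr) (by
      intro i hi
      rw [hbs']
      have := hfl i (by rw [← hbs', List.length_map]; exact hi)
      exact Module.Flat.trans Γ(S, V) (S.presheaf.stalk (f x)) _)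
  -- the final chart
  have hU : IsAffineOpen (X.basicOpen g₀) := hU₀.basicOpen g₀
  have hxU : x ∈ X.basicOpen g₀ := by
    rw [Scheme.mem_basicOpen _ _ _ hxU₀]
    exact (IsLocalization.AtPrime.isUnit_to_map_iff (X.presheaf.stalk x) q g₀).mpr hg₀
  have locB' : IsLocalization.Away g₀ Γ(X, X.basicOpen g₀) := hU₀.isLocalization_basicOpen g₀
  have hUV : X.basicOpen g₀ ≤ f ⁻¹ᵁ V := (X.basicOpen_le g₀).trans hU₀V
  let aAB' : Algebra Γ(S, V) Γ(X, X.basicOpen g₀) :=
    (f.appLE V (X.basicOpen g₀) hUV).hom.toAlgebra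
  have tw3 : IsScalarTower Γ(S, V) Γ(X, U₀) Γ(X, X.basicOpen g₀) :=
    IsScalarTower.of_algebraMap_eq fun a => by
      show f.appLE V (X.basicOpen g₀) hUV a =
        X.presheaf.map (homOfLE (X.basicOpen_le g₀)).op (f.appLE V U₀ hU₀V a)
      rw [← CommRingCat.comp_apply, Scheme.Hom.appLE_map]
  obtain ⟨hwr', hfl'⟩ := H g₀ dvd_rfl Γ(X, X.basicOpen g₀)
  obtain ⟨bs', hbs'def⟩ : ∃ bs' : List Γ(X, X.basicOpen g₀),
      bs' = bs.map (algebraMap Γ(X, U₀) Γ(X, X.basicOpen g₀)) := ⟨_, rfl⟩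
  rw [← hbs'def] at hwr' hfl'
  have hgerm' : ∀ b : Γ(X, U₀), X.presheaf.germ (X.basicOpen g₀) x hxU
      (algebraMap Γ(X, U₀) Γ(X, X.basicOpen g₀) b) = X.presheaf.germ U₀ x hxU₀ b := fun b =>
    TopCat.Presheaf.germ_res_apply X.presheaf (homOfLE (X.basicOpen_le g₀)) x hxU b
  have hgerms : bs'.map (X.presheaf.germ (X.basicOpen g₀) x hxU) = hs := by
    rw [hbs'def, List.map_map, ← hbs]
    apply List.map_congr_left
    intro b _
    exact hgerm' b
  have hne : Ideal.ofList bs' ≠ ⊤ := by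
    intro htop
    have h1 : (Ideal.ofList bs').map (X.presheaf.germ (X.basicOpen g₀) x hxU).hom = ⊤ := by
      rw [htop, Ideal.map_top]
    rw [Ideal.map_ofList] at h1
    have h2 : bs'.map (X.presheaf.germ (X.basicOpen g₀) x hxU).hom = hs := hgerms
    rw [h2] at h1
    have h3 : Ideal.ofList hs ≤ maximalIdeal (X.presheaf.stalk x) := Ideal.span_le.mpr hsm
    rw [h1] at h3
    exact (maximalIdeal.isMaximal (X.presheaf.stalk x)).ne_top (top_le_iff.mp h3)
  have hreg' : IsRegular Γ(X, X.basicOpen g₀) bs' :=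
    Groth.Agent.Lib.Helper5.RegComp.isRegular_of_weaklyRegular_of_ne_top hwr' hne
  have hcomp : Spec.map (CommRingCat.ofHom (Ideal.Quotient.mk (Ideal.ofList bs'))) ≫
      hU.fromSpec ≫ f =
      Spec.map (f.appLE V (X.basicOpen g₀) hUV ≫
        CommRingCat.ofHom (Ideal.Quotient.mk (Ideal.ofList bs'))) ≫ hV.fromSpec := by
    rw [Spec.map_comp, Category.assoc, IsAffineOpen.SpecMap_appLE_fromSpec f hV hU hUV]
  refine ⟨X.basicOpen g₀, hU, hxU, bs', hgerms, ?_, ?_, ?_, ?_, ?_⟩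
  · exact Groth.Agent.Lib.Helper5.RegComp.comp _ _
      (Groth.Agent.Lib.Helper21.RegImm.specMap_mk_ofList Γ(X, X.basicOpen g₀) bs' hreg')
      (Groth.Agent.Lib.Helper21.RegImm.of_isIso _)
  · -- `x` is in the image
    let aB'O : Algebra Γ(X, X.basicOpen g₀) (X.presheaf.stalk x) :=
      X.presheaf.algebra_section_stalk ⟨x, hxU⟩
    have locO' : IsLocalization.AtPrime (X.presheaf.stalk x)
        (hU.primeIdealOf ⟨x, hxU⟩).asIdeal := hU.isLocalization_stalk ⟨x, hxU⟩
    set q' : Ideal Γ(X, X.basicOpen g₀) := (hU.primeIdealOf ⟨x, hxU⟩).asIdeal with hq'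
    have hle' : Ideal.ofList bs' ≤ q' := by
      rw [Ideal.ofList, Ideal.span_le]
      intro b' hb'
      rw [SetLike.mem_coe,
        ← IsLocalization.AtPrime.to_map_mem_maximal_iff (X.presheaf.stalk x) q' _]
      show X.presheaf.germ (X.basicOpen g₀) x hxU _ ∈ _
      apply hsm
      rw [← hgerms]
      exact List.mem_map.mpr ⟨b', hb', rfl⟩
    have hker' : RingHom.ker (Ideal.Quotient.mk (Ideal.ofList bs')) ≤ q' := by
      rw [Ideal.mk_ker]; exact hle'
    have hQ'prime : (q'.map (Ideal.Quotient.mk (Ideal.ofList bs'))).IsPrime :=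
      Ideal.map_isPrime_of_surjective Ideal.Quotient.mk_surjective hker'
    have hQ'comap : (q'.map (Ideal.Quotient.mk (Ideal.ofList bs'))).comap
        (Ideal.Quotient.mk (Ideal.ofList bs')) = q' := by
      rw [Ideal.comap_map_of_surjective _ Ideal.Quotient.mk_surjective,
        ← RingHom.ker_eq_comap_bot, sup_eq_left.mpr hker']
    refine ⟨(⟨q'.map (Ideal.Quotient.mk (Ideal.ofList bs')), hQ'prime⟩ :
      PrimeSpectrum (Γ(X, X.basicOpen g₀) ⧸ Ideal.ofList bs')), ?_⟩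
    show hU.fromSpec (Spec.map (CommRingCat.ofHom (Ideal.Quotient.mk (Ideal.ofList bs'))) _) = x
    have h1 : Spec.map (CommRingCat.ofHom (Ideal.Quotient.mk (Ideal.ofList bs')))
        (⟨q'.map (Ideal.Quotient.mk (Ideal.ofList bs')), hQ'prime⟩ :
          PrimeSpectrum (Γ(X, X.basicOpen g₀) ⧸ Ideal.ofList bs')) =
        hU.primeIdealOf ⟨x, hxU⟩ := PrimeSpectrum.ext hQ'comap
    rw [h1]
    exact hU.fromSpec_primeIdealOf ⟨x, hxU⟩
  · -- flat
    rw [hcomp]
    have : Flat (Spec.map (f.appLE V (X.basicOpen g₀) hUV ≫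
        CommRingCat.ofHom (Ideal.Quotient.mk (Ideal.ofList bs')))) := by
      rw [Flat.SpecMap_iff]
      have h1 := hfl' bs.length le_rfl
      have h2 : bs'.take bs.length = bs' := by
        rw [hbs'def]
        exact List.take_of_length_le (by rw [List.length_map])
      rw [h2] at h1
      exact RingHom.flat_algebraMap_iff.mpr h1
    infer_instance
  · -- locally of finite presentation
    have : LocallyOfFinitePresentation (Spec.map (CommRingCat.ofHom (Ideal.Quotient.mk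
          (Ideal.ofList bs')))) := by
      rw [LocallyOfFinitePresentation.SpecMap_iff]
      show RingHom.FinitePresentation (Ideal.Quotient.mk (Ideal.ofList bs'))
      exact RingHom.FinitePresentation.of_surjective _ Ideal.Quotient.mk_surjective
        (by rw [Ideal.mk_ker]; exact Submodule.fg_span (List.finite_toSet bs'))
    infer_instance
  · -- base change
    intro S' g
    refine isRegularClosedImmersion_pullbackMap
      (Spec.map (CommRingCat.ofHom (Ideal.Quotient.mk (Ideal.ofList bs'))) ≫ hU.isoSpec.inv)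
      ((X.basicOpen g₀).ι ≫ f) _ (by rw [Category.assoc]) g ?_ _ _
    intro z
    apply isTransRegularImmersionAt_isoSpec f hU _ z
    have h1 := isTransRegularImmersionAt_Spec hV Γ(X, X.basicOpen g₀)
      (f.appLE V (X.basicOpen g₀) hUV) bs' ⟨hwr', fun j hj => hfl' j (by
        rw [hbs'def, List.length_map] at hj; exact hj)⟩ z
    rwa [IsAffineOpen.SpecMap_appLE_fromSpec f hV hU hUV] at h1

end Groth.Agent.Lib.Helper5.TransNbhd
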