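import Mathlib
import Groth.Prelude.Def_RegImm
import Groth.Prelude.Def_BlowUp2
import Groth.Agent.Lib.Helper5.TransNbhdP

set_option autoImplicit false
universe u

namespace Groth.Agent.Lib.Helper5.TransNbhd

open AlgebraicGeometry CategoryTheory Limits IsLocalRing
open Groth.Agent.Lib.Helper21.FibreStalk
open RingTheory.Sequence

theorem isSMulRegular_iff_mem_nzd {R : Type*} [CommRing R] (r : R) :
    IsSMulRegular R r ↔ r ∈ nonZeroDivisors R := by
  rw [isSMulRegular_iff_right_eq_zero_of_smul, mem_nonZeroDivisors_iff_right]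
  constructor
  · intro h x hx
    exact h x (by rw [smul_eq_mul, mul_comm]; exact hx)
  · intro h x hx
    exact h x (by rw [mul_comm]; exact hx)

/-- away from the support, an ideal sheaf is locally the unit ideal. -/
theorem exists_ideal_eq_top_of_notMem_support {X : Scheme.{u}} (𝓘 : X.IdealSheafData) (x : X)
    (hx : x ∉ 𝓘.support) :
    ∃ U : X.affineOpens, x ∈ U.1 ∧ 𝓘.ideal U = ⊤ := by
  obtain ⟨_, ⟨U, hU : IsAffineOpen U, rfl⟩, hxU, -⟩ :=
    X.isBasis_affineOpens.exists_subset_of_mem_open (Set.mem_univ x) isOpen_univ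
  have h1 : x ∉ X.zeroLocus (U := U) (𝓘.ideal ⟨U, hU⟩) := fun h =>
    hx ((Scheme.IdealSheafData.mem_support_iff_of_mem (U := ⟨U, hU⟩) hxU).mpr h)
  rw [Scheme.mem_zeroLocus_iff] at h1
  push Not at h1
  obtain ⟨f, hf, hxf⟩ := h1
  refine ⟨X.affineBasicOpen (U := ⟨U, hU⟩) f, hxf, ?_⟩
  rw [← Scheme.IdealSheafData.map_ideal_basicOpen]
  apply (Ideal.eq_top_iff_one _).mpr
  have hu : IsUnit ((X.presheaf.map (homOfLE (X.basicOpen_le f)).op).hom f) :=
    RingedSpace.isUnit_res_basicOpen _ f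
  obtain ⟨u, hu⟩ := hu
  have h2 : (X.presheaf.map (homOfLE (X.basicOpen_le f)).op).hom f ∈
      (𝓘.ideal ⟨U, hU⟩).map (X.presheaf.map (homOfLE (X.basicOpen_le f)).op).hom :=
    Ideal.mem_map_of_mem _ hf
  rw [← hu] at h2
  have := Ideal.mul_mem_left _ (↑u⁻¹) h2
  rwa [Units.inv_mul] at this


set_option maxHeartbeats 1600000 in
set_option synthInstance.maxHeartbeats 200000 in
theorem isEffCartierIdeal_of_fibres {X S : Scheme.{u}} (φ : X ⟶ S) [Flat φ]
    [LocallyOfFinitePresentation φ] (𝓘 : X.IdealSheafData) [Flat (𝓘.subschemeι ≫ φ)]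
    [LocallyOfFinitePresentation (𝓘.subschemeι ≫ φ)]
    (hfib : ∀ s : S, BlowUp.IsEffCartierIdeal (𝓘.comap (φ.fiberι s))) :
    BlowUp.IsEffCartierIdeal 𝓘 := by
  classical
  intro x
  by_cases hx : x ∈ 𝓘.support
  swap
  · obtain ⟨U, hxU, hU⟩ := exists_ideal_eq_top_of_notMem_support 𝓘 x hx
    refine ⟨U, hxU, 1, one_mem _, ?_⟩
    rw [hU, Ideal.span_singleton_one]
  rw [← SetLike.mem_coe, ← Scheme.IdealSheafData.range_subschemeι] at hx
  obtain ⟨t, rfl⟩ := hx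
  obtain ⟨ι, hι⟩ : ∃ ι, ι = 𝓘.subschemeι := ⟨_, rfl⟩
  have hιc : IsClosedImmersion ι := hι ▸ inferInstance
  have hιf : Flat (ι ≫ φ) := hι ▸ inferInstance
  have hιp : LocallyOfFinitePresentation (ι ≫ φ) := hι ▸ inferInstance
  have hιk : ι.ker = 𝓘 := hι ▸ Scheme.IdealSheafData.ker_subschemeι 𝓘
  rw [← hι]
  obtain ⟨z, hz1, -⟩ := Scheme.Pullback.exists_preimage_pullback (f := ι)
    (g := φ.fiberι (φ (ι t))) t (φ.asFiber (ι t)) (φ.fiberι_asFiber (ι t)).symm
  obtain ⟨j, hj⟩ : ∃ j, j = pullback.snd ι (φ.fiberι (φ (ι t))) := ⟨_, rfl⟩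
  have hsq : IsPullback (pullback.fst ι (φ.fiberι (φ (ι t)))) j ι (φ.fiberι (φ (ι t))) := by
    rw [hj]; exact IsPullback.of_hasPullback ι (φ.fiberι (φ (ι t)))
  have hjc : IsClosedImmersion j :=
    MorphismProperty.of_isPullback (P := @IsClosedImmersion) hsq inferInstance
  obtain ⟨Ub, hzUb, fb, hnzd, hideal⟩ := hfib (φ (ι t)) (j z)
  have hk : j.ker = 𝓘.comap (φ.fiberι (φ (ι t))) := by
    rw [Groth.Agent.Lib.Helper5.RegBC.ker_eq_comap_of_isPullback ι (φ.fiberι (φ (ι t))) j _ hsq,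
      hιk]
  have hker : RingHom.ker (j.app Ub.1).hom = Ideal.span {fb} := by
    rw [← Scheme.Hom.ker_apply, hk, hideal]
  -- the germ
  have hc : IsClosedImmersion (j ∣_ Ub.1) := inferInstance
  have hgker : RingHom.ker (j.stalkMap z).hom =
      Ideal.ofList [((φ.fiber (φ (ι t))).presheaf.germ Ub.1 (j z) hzUb).hom fb] := by
    rw [Groth.Agent.Lib.Helper5.StalkKer.ker_stalkMap_eq_map j Ub.2 z hzUb, hker,
      Ideal.map_span, Set.image_singleton]
    unfold Ideal.ofList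
    congr 1
    ext a
    simp
  have hreg1 : IsSMulRegular ((φ.fiber (φ (ι t))).presheaf.stalk (j z))
      (((φ.fiber (φ (ι t))).presheaf.germ Ub.1 (j z) hzUb).hom fb) := by
    let _ := (φ.fiber (φ (ι t))).presheaf.algebra_section_stalk ⟨j z, hzUb⟩
    have := Ub.2.isLocalization_stalk ⟨j z, hzUb⟩
    have h1 : algebraMap Γ(φ.fiber (φ (ι t)), Ub.1)
        ((φ.fiber (φ (ι t))).presheaf.stalk (j z)) fb ∈
        nonZeroDivisors ((φ.fiber (φ (ι t))).presheaf.stalk (j z)) :=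
      IsLocalization.map_nonZeroDivisors_le (Ub.2.primeIdealOf ⟨j z, hzUb⟩).asIdeal.primeCompl _
        (Submonoid.mem_map_of_mem _ hnzd)
    exact (isSMulRegular_iff_mem_nzd _).mpr h1
  have hwr : IsWeaklyRegular ((φ.fiber (φ (ι t))).presheaf.stalk (j z))
      [((φ.fiber (φ (ι t))).presheaf.germ Ub.1 (j z) hzUb).hom fb] := by
    rw [isWeaklyRegular_cons_iff]
    exact ⟨hreg1, IsWeaklyRegular.nil _ _⟩
  have hgq : CAlgX.IsQuasiRegular
      [((φ.fiber (φ (ι t))).presheaf.germ Ub.1 (j z) hzUb).hom fb].get :=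
    Groth.Agent.Lib.Helper21.QuasiReg.qr_of_isWeaklyRegular _ (by rw [List.ofFn_get]; exact hwr)
  obtain ⟨U, hU, hxU, rs, hreg, hkerU, hlen⟩ := exists_regular_data_of_fibre_germs φ ι t
    (AlgebraicGeometry.Flat.stalkMap φ (ι t)) (AlgebraicGeometry.Flat.stalkMap (ι ≫ φ) t)
    (pullback.fst ι (φ.fiberι (φ (ι t)))) j hsq z hz1 _ hgq hgker
  rw [List.length_singleton] at hlen
  obtain ⟨r, rfl⟩ := List.length_eq_one_iff.mp hlen
  refine ⟨⟨U, hU⟩, hxU, r, ?_, ?_⟩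
  · have h1 := hreg.toIsWeaklyRegular
    rw [isWeaklyRegular_cons_iff] at h1
    exact (isSMulRegular_iff_mem_nzd _).mp h1.1
  · rw [← hιk, Scheme.Hom.ker_apply, hkerU]
    unfold Ideal.ofList
    congr 1
    ext a
    simp

end Groth.Agent.Lib.Helper5.TransNbhd
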