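import Mathlib
import Groth.Prelude.Def_RegImm
import Groth.Agent.Lib.Helper5.TransNbhdH
import Groth.Agent.Lib.Helper5.TransNbhdQ
import Groth.Prelude.Def_CurvBase

set_option autoImplicit false
universe u

namespace Groth.Agent.Lib.Helper5.TransNbhd

open AlgebraicGeometry CategoryTheory Limits
open Groth.Agent.Lib.Helper21.FlatDesc Groth.Agent.Lib.Helper21.FibreStalk IsLocalRing
open RingTheory.Sequence

set_option maxHeartbeats 3200000 in
set_option synthInstance.maxHeartbeats 200000 in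
/-- spreading-out of a fibrewise regular sequence of explicit sections on a given chart. -/
theorem slice_explicit {X S : Scheme.{u}} (f : X ⟶ S) [LocallyOfFinitePresentation f] (x : X)
    (hflat : (f.stalkMap x).hom.Flat) {V : S.Opens} (hV : IsAffineOpen V) {U₀ : X.Opens}
    (hU₀ : IsAffineOpen U₀) (hxU₀ : x ∈ U₀) (hU₀V : U₀ ≤ f ⁻¹ᵁ V) (bs : List Γ(X, U₀))
    (hsm : ∀ h ∈ bs.map (X.presheaf.germ U₀ x hxU₀), h ∈ maximalIdeal (X.presheaf.stalk x))
    (hreg : IsWeaklyRegular (X.presheaf.stalk x ⧸ fibIdeal f x)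
      ((bs.map (X.presheaf.germ U₀ x hxU₀)).map (Ideal.Quotient.mk (fibIdeal f x)))) :
    ∃ g₀ : Γ(X, U₀), x ∈ X.basicOpen g₀ ∧
      ∀ g' : Γ(X, U₀), g₀ ∣ g' →
        (letI := (f.appLE V (X.basicOpen g') ((X.basicOpen_le g').trans hU₀V)).hom.toAlgebra
         RegImm.IsTransRegularSeq Γ(S, V) Γ(X, X.basicOpen g')
           (bs.map (X.presheaf.map (homOfLE (X.basicOpen_le g')).op).hom)) := by
  classical
  have hfxV : f x ∈ V := hU₀V hxU₀
  obtain ⟨hs, hbs⟩ : ∃ hs, bs.map (X.presheaf.germ U₀ x hxU₀) = hs := ⟨_, rfl⟩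
  rw [hbs] at hsm hreg
  let aO : Algebra (S.presheaf.stalk (f x)) (X.presheaf.stalk x) := (f.stalkMap x).hom.toAlgebra
  obtain ⟨hwr, hfl⟩ := Groth.Agent.S1349.stalk_step_list f x hflat hs hsm hreg
  let aAB : Algebra Γ(S, V) Γ(X, U₀) := (f.appLE V U₀ hU₀V).hom.toAlgebra
  have : Algebra.FinitePresentation Γ(S, V) Γ(X, U₀) :=
    (HasRingHomProperty.appLE @LocallyOfFinitePresentation f inferInstance ⟨V, hV⟩ ⟨U₀, hU₀⟩ hU₀V :
      RingHom.FinitePresentation _)
  let q : Ideal Γ(X, U₀) := (hU₀.primeIdealOf ⟨x, hxU₀⟩).asIdeal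
  let aBO : Algebra Γ(X, U₀) (X.presheaf.stalk x) := X.presheaf.algebra_section_stalk ⟨x, hxU₀⟩
  have locO : IsLocalization.AtPrime (X.presheaf.stalk x) q := hU₀.isLocalization_stalk ⟨x, hxU₀⟩
  let aAA₀ : Algebra Γ(S, V) (S.presheaf.stalk (f x)) :=
    S.presheaf.algebra_section_stalk ⟨f x, hfxV⟩
  have locA₀ := hV.isLocalization_stalk ⟨f x, hfxV⟩
  let aAO : Algebra Γ(S, V) (X.presheaf.stalk x) :=
    ((algebraMap Γ(X, U₀) (X.presheaf.stalk x)).comp (algebraMap Γ(S, V) Γ(X, U₀))).toAlgebra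
  have tw1 : IsScalarTower Γ(S, V) Γ(X, U₀) (X.presheaf.stalk x) :=
    IsScalarTower.of_algebraMap_eq fun a => rfl
  have tw2 : IsScalarTower Γ(S, V) (S.presheaf.stalk (f x)) (X.presheaf.stalk x) :=
    IsScalarTower.of_algebraMap_eq fun a => by
      show X.presheaf.germ U₀ x hxU₀ (f.appLE V U₀ hU₀V a) =
        f.stalkMap x (S.presheaf.germ V (f x) hfxV a)
      rw [Scheme.Hom.germ_stalkMap_apply, Scheme.Hom.appLE]
      exact (TopCat.Presheaf.germ_res_apply X.presheaf (homOfLE hU₀V) x hxU₀ _)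
  have : Module.Flat Γ(S, V) (S.presheaf.stalk (f x)) :=
    IsLocalization.flat _ (hV.primeIdealOf ⟨f x, hfxV⟩).asIdeal.primeCompl
  have hbs' : bs.map (algebraMap Γ(X, U₀) (X.presheaf.stalk x)) = hs := hbs
  obtain ⟨g₀, hg₀, H⟩ := exists_away_weaklyRegular_flat_stalk Γ(S, V) Γ(X, U₀) q bs
    (X.presheaf.stalk x) (by rw [hbs']; exact hwr) (by
      intro i hi
      rw [hbs']
      have := hfl i (by rw [← hbs', List.length_map]; exact hi)
      exact Module.Flat.trans Γ(S, V) (S.presheaf.stalk (f x)) _)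
  have hxU : x ∈ X.basicOpen g₀ := by
    rw [Scheme.mem_basicOpen _ _ _ hxU₀]
    exact (IsLocalization.AtPrime.isUnit_to_map_iff (X.presheaf.stalk x) q g₀).mpr hg₀
  refine ⟨g₀, hxU, fun g' hg' => ?_⟩
  have locB' : IsLocalization.Away g' Γ(X, X.basicOpen g') := hU₀.isLocalization_basicOpen g'
  let aAB' : Algebra Γ(S, V) Γ(X, X.basicOpen g') :=
    (f.appLE V (X.basicOpen g') ((X.basicOpen_le g').trans hU₀V)).hom.toAlgebra
  have tw3 : IsScalarTower Γ(S, V) Γ(X, U₀) Γ(X, X.basicOpen g') :=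
    IsScalarTower.of_algebraMap_eq fun a => by
      show f.appLE V (X.basicOpen g') ((X.basicOpen_le g').trans hU₀V) a =
        X.presheaf.map (homOfLE (X.basicOpen_le g')).op (f.appLE V U₀ hU₀V a)
      rw [← CommRingCat.comp_apply, Scheme.Hom.appLE_map]
  obtain ⟨hwr', hfl'⟩ := H g' hg' Γ(X, X.basicOpen g')
  refine ⟨hwr', fun j hj => hfl' j ?_⟩
  rw [List.length_map] at hj
  exact hj


theorem isSMulRegular_of_span_eq {R : Type*} [CommRing R] {a b : R}
    (h : Ideal.span {a} = Ideal.span {b}) (hb : IsSMulRegular R b) : IsSMulRegular R a := by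
  have h1 : a ∈ Ideal.span {b} := h ▸ Ideal.mem_span_singleton_self a
  have h2 : b ∈ Ideal.span {a} := h ▸ Ideal.mem_span_singleton_self b
  obtain ⟨u, hu⟩ := Ideal.mem_span_singleton'.mp h1
  obtain ⟨v, hv⟩ := Ideal.mem_span_singleton'.mp h2
  rw [isSMulRegular_iff_right_eq_zero_of_smul] at hb ⊢
  intro m hm
  have h3 : b • ((1 - v * u) : R) = 0 := by
    rw [smul_eq_mul]
    have : b * (1 - v * u) = b - v * (u * b) := by ring
    rw [this, hu, hv, sub_self]
  have h4 : v * u = 1 := by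
    have := hb _ h3
    exact (sub_eq_zero.mp this).symm
  have h5 : b • m = 0 := by
    rw [smul_eq_mul, ← hv, mul_assoc]
    rw [smul_eq_mul] at hm
    rw [hm, mul_zero]
  exact hb m h5

set_option maxHeartbeats 1600000 in
set_option synthInstance.maxHeartbeats 200000 in
/-- a generator of the stalk ideal whose image generates, on the fibre, an ideal generated by a
nonzerodivisor is regular modulo the fibre ideal. -/
theorem fibre_generator_regular {X S T P : Scheme.{u}} (φ : X ⟶ S) (ι : T ⟶ X)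
    [IsClosedImmersion ι] (t : T)
    (p : P ⟶ T) (j : P ⟶ φ.fiber (φ (ι t))) (hsq : IsPullback p j ι (φ.fiberι (φ (ι t))))
    (z : P) (hz1 : p z = t) (hx : X.presheaf.stalk (ι t))
    (hI : RingHom.ker (ι.stalkMap t).hom = Ideal.span {hx})
    (fb : (φ.fiber (φ (ι t))).presheaf.stalk (j z))
    (hfb : IsSMulRegular ((φ.fiber (φ (ι t))).presheaf.stalk (j z)) fb)
    (hgker : RingHom.ker (j.stalkMap z).hom = Ideal.span {fb}) :
    IsSMulRegular (X.presheaf.stalk (ι t) ⧸ fibIdeal φ (ι t))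
      (Ideal.Quotient.mk (fibIdeal φ (ι t)) hx) := by
  have hjz : φ.fiberι (φ (ι t)) (j z) = ι t := by
    have h1 : φ.fiberι (φ (ι t)) (j z) = ι (p z) := by
      rw [← Scheme.Hom.comp_apply, ← hsq.w, Scheme.Hom.comp_apply]
    rw [h1, hz1]
  have hA := ker_stalkMap_of_isPullback hsq z t hjz hz1
  obtain ⟨ψ, hψ⟩ : ∃ ψ, ψ = toFibStalk φ (ι t) (j z) hjz := ⟨_, rfl⟩
  have hψs : Function.Surjective ψ.hom := hψ ▸ toFibStalk_surjective φ (ι t) (j z) hjz
  have hψk : RingHom.ker ψ.hom = fibIdeal φ (ι t) := hψ ▸ ker_toFibStalk' φ (ι t) (j z) hjz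
  have hA' : RingHom.ker (j.stalkMap z).hom = (RingHom.ker (ι.stalkMap t).hom).map ψ.hom := by
    rw [hA, hψ]; rfl
  rw [hgker, hI, Ideal.map_span, Set.image_singleton] at hA'
  have hreg : IsSMulRegular ((φ.fiber (φ (ι t))).presheaf.stalk (j z)) (ψ.hom hx) :=
    isSMulRegular_of_span_eq hA'.symm hfb
  let e : (X.presheaf.stalk (ι t) ⧸ fibIdeal φ (ι t)) ≃+*
      (φ.fiber (φ (ι t))).presheaf.stalk (j z) :=
    (Ideal.quotEquivOfEq hψk.symm).trans (RingHom.quotientKerEquivOfSurjective hψs)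
  have he : ∀ a, e (Ideal.Quotient.mk _ a) = ψ.hom a := fun a => rfl
  rw [isSMulRegular_iff_right_eq_zero_of_smul] at hreg ⊢
  intro m hm
  have h1 : ψ.hom hx • e m = 0 := by
    rw [smul_eq_mul, ← he, ← map_mul, ← smul_eq_mul, hm, map_zero]
  exact e.injective ((hreg _ h1).trans (map_zero e).symm)


set_option maxHeartbeats 3200000 in
set_option synthInstance.maxHeartbeats 200000 in
theorem relEffCartier_of_locPrincipal_of_fibres {X S : Scheme.{u}} (φ : X ⟶ S) [Flat φ]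
    [LocallyOfFinitePresentation φ] (𝓘 : X.IdealSheafData) (hZ : Curv2.IsLocPrincipal 𝓘)
    (hfib : ∀ s : S, BlowUp.IsEffCartierIdeal (𝓘.comap (φ.fiberι s))) :
    BlowUp.IsEffCartierIdeal 𝓘 ∧ Flat (𝓘.subschemeι ≫ φ) := by
  classical
  obtain ⟨ι, hι⟩ : ∃ ι, ι = 𝓘.subschemeι := ⟨_, rfl⟩
  have hιc : IsClosedImmersion ι := hι ▸ inferInstance
  have hιk : ι.ker = 𝓘 := hι ▸ Scheme.IdealSheafData.ker_subschemeι 𝓘
  have hrange : Set.range ι = (𝓘.support : Set X) := hι ▸ 𝓘.range_subschemeι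
  rw [← hι]
  have key : ∀ t : 𝓘.subscheme, ∃ (U₁ : X.affineOpens) (hxU₁ : ι t ∈ U₁.1) (h : Γ(X, U₁.1)),
      𝓘.ideal U₁ = Ideal.span {h} ∧
      RingHom.ker (ι.stalkMap t).hom = Ideal.span {(X.presheaf.germ U₁.1 (ι t) hxU₁).hom h} ∧
      IsSMulRegular (X.presheaf.stalk (ι t) ⧸ fibIdeal φ (ι t))
        (Ideal.Quotient.mk (fibIdeal φ (ι t)) ((X.presheaf.germ U₁.1 (ι t) hxU₁).hom h)) := by
    intro t
    have hsupp : ι t ∈ 𝓘.support := by
      rw [← SetLike.mem_coe, ← hrange]; exact Set.mem_range_self t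
    obtain ⟨U₁, hxU₁, h, hh⟩ := hZ (ι t) hsupp
    have hI : RingHom.ker (ι.stalkMap t).hom =
        Ideal.span {(X.presheaf.germ U₁.1 (ι t) hxU₁).hom h} := by
      have hc : IsClosedImmersion (ι ∣_ U₁.1) := inferInstance
      rw [Groth.Agent.Lib.Helper5.StalkKer.ker_stalkMap_eq_map ι U₁.2 t hxU₁,
        ← Scheme.Hom.ker_apply, hιk, hh, Ideal.map_span, Set.image_singleton]
    refine ⟨U₁, hxU₁, h, hh, hI, ?_⟩
    obtain ⟨z, hz1, -⟩ := Scheme.Pullback.exists_preimage_pullback (f := ι)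
      (g := φ.fiberι (φ (ι t))) t (φ.asFiber (ι t)) (φ.fiberι_asFiber (ι t)).symm
    obtain ⟨j, hj⟩ : ∃ j, j = pullback.snd ι (φ.fiberι (φ (ι t))) := ⟨_, rfl⟩
    have hsq : IsPullback (pullback.fst ι (φ.fiberι (φ (ι t)))) j ι (φ.fiberι (φ (ι t))) := by
      rw [hj]; exact IsPullback.of_hasPullback ι (φ.fiberι (φ (ι t)))
    have hjc : IsClosedImmersion j :=
      MorphismProperty.of_isPullback (P := @IsClosedImmersion) hsq inferInstance
    obtain ⟨Ub, hzUb, fb, hnzd, hideal⟩ := hfib (φ (ι t)) (j z)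
    have hk : j.ker = 𝓘.comap (φ.fiberι (φ (ι t))) := by
      rw [Groth.Agent.Lib.Helper5.RegBC.ker_eq_comap_of_isPullback ι (φ.fiberι (φ (ι t))) j _ hsq,
        hιk]
    have hker : RingHom.ker (j.app Ub.1).hom = Ideal.span {fb} := by
      rw [← Scheme.Hom.ker_apply, hk, hideal]
    have hc : IsClosedImmersion (j ∣_ Ub.1) := inferInstance
    have hgker : RingHom.ker (j.stalkMap z).hom =
        Ideal.span {((φ.fiber (φ (ι t))).presheaf.germ Ub.1 (j z) hzUb).hom fb} := by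
      rw [Groth.Agent.Lib.Helper5.StalkKer.ker_stalkMap_eq_map j Ub.2 z hzUb, hker,
        Ideal.map_span, Set.image_singleton]
    have hreg1 : IsSMulRegular ((φ.fiber (φ (ι t))).presheaf.stalk (j z))
        (((φ.fiber (φ (ι t))).presheaf.germ Ub.1 (j z) hzUb).hom fb) := by
      let _ := (φ.fiber (φ (ι t))).presheaf.algebra_section_stalk ⟨j z, hzUb⟩
      have := Ub.2.isLocalization_stalk ⟨j z, hzUb⟩
      have h1 : algebraMap Γ(φ.fiber (φ (ι t)), Ub.1)
          ((φ.fiber (φ (ι t))).presheaf.stalk (j z)) fb ∈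
          nonZeroDivisors ((φ.fiber (φ (ι t))).presheaf.stalk (j z)) :=
        IsLocalization.map_nonZeroDivisors_le (Ub.2.primeIdealOf ⟨j z, hzUb⟩).asIdeal.primeCompl _
          (Submonoid.mem_map_of_mem _ hnzd)
      exact (isSMulRegular_iff_mem_nzd _).mpr h1
    exact fibre_generator_regular φ ι t _ j hsq z hz1 _ hI _ hreg1 hgker
  constructor
  · intro x
    by_cases hx : x ∈ 𝓘.support
    swap
    · obtain ⟨U, hxU, hU⟩ := exists_ideal_eq_top_of_notMem_support 𝓘 x hx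
      refine ⟨U, hxU, 1, one_mem _, ?_⟩
      rw [hU, Ideal.span_singleton_one]
    rw [← SetLike.mem_coe, ← hrange] at hx
    obtain ⟨t, rfl⟩ := hx
    obtain ⟨U₁, hxU₁, h, hh, hI, hreg⟩ := key t
    obtain ⟨_, ⟨V, hV : IsAffineOpen V, rfl⟩, hfxV, -⟩ :=
      S.isBasis_affineOpens.exists_subset_of_mem_open (Set.mem_univ (φ (ι t))) isOpen_univ
    obtain ⟨_, ⟨U₀, hU₀ : IsAffineOpen U₀, rfl⟩, hxU₀, hU₀le⟩ :=
      X.isBasis_affineOpens.exists_subset_of_mem_open
        (show ι t ∈ ((U₁.1 ⊓ φ ⁻¹ᵁ V : X.Opens) : Set X) from ⟨hxU₁, hfxV⟩)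
        (U₁.1 ⊓ φ ⁻¹ᵁ V).isOpen
    have hle1 : U₀ ≤ U₁.1 := fun y hy => (hU₀le hy).1
    have hU₀V : U₀ ≤ φ ⁻¹ᵁ V := fun y hy => (hU₀le hy).2
    have hgerm : (X.presheaf.germ U₀ (ι t) hxU₀).hom ((X.presheaf.map (homOfLE hle1).op).hom h) =
        (X.presheaf.germ U₁.1 (ι t) hxU₁).hom h :=
      TopCat.Presheaf.germ_res_apply X.presheaf (homOfLE hle1) (ι t) hxU₀ h
    have hnt : Nontrivial ((𝓘.subscheme).presheaf.stalk t) := inferInstance
    have hIle : RingHom.ker (ι.stalkMap t).hom ≤ maximalIdeal (X.presheaf.stalk (ι t)) :=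
      le_maximalIdeal (RingHom.ker_ne_top _)
    obtain ⟨g₀, hxg₀, H⟩ := slice_explicit φ (ι t) (AlgebraicGeometry.Flat.stalkMap φ (ι t)) hV hU₀
      hxU₀ hU₀V [(X.presheaf.map (homOfLE hle1).op).hom h] (by
        intro a ha
        rw [List.map_singleton, List.mem_singleton] at ha
        rw [ha]
        change (X.presheaf.germ U₀ (ι t) hxU₀).hom _ ∈ _
        rw [hgerm]
        exact hIle (hI ▸ Ideal.mem_span_singleton_self _)) (by
        rw [List.map_singleton, List.map_singleton, isWeaklyRegular_cons_iff]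
        refine ⟨?_, IsWeaklyRegular.nil _ _⟩
        change IsSMulRegular _ (Ideal.Quotient.mk _ ((X.presheaf.germ U₀ (ι t) hxU₀).hom _))
        rw [hgerm]
        exact hreg)
    have htr := H g₀ dvd_rfl
    have hwr := htr.1
    rw [List.map_singleton, isWeaklyRegular_cons_iff] at hwr
    refine ⟨⟨X.basicOpen g₀, hU₀.basicOpen g₀⟩, hxg₀,
      (X.presheaf.map (homOfLE (X.basicOpen_le g₀)).op).hom
        ((X.presheaf.map (homOfLE hle1).op).hom h), (isSMulRegular_iff_mem_nzd _).mp hwr.1, ?_⟩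
    have hle2 : (⟨X.basicOpen g₀, hU₀.basicOpen g₀⟩ : X.affineOpens) ≤ U₁ :=
      (X.basicOpen_le g₀).trans hle1
    rw [← 𝓘.map_ideal hle2, hh, Ideal.map_span, Set.image_singleton]
    congr 2
    rw [← RingHom.comp_apply, ← CommRingCat.hom_comp, ← Functor.map_comp]
    rfl
  · apply AlgebraicGeometry.Flat.of_stalkMap
    intro t
    obtain ⟨U₁, hxU₁, h, hh, hI, hreg⟩ := key t
    have hnt : Nontrivial ((𝓘.subscheme).presheaf.stalk t) := inferInstance
    have hIle : RingHom.ker (ι.stalkMap t).hom ≤ maximalIdeal (X.presheaf.stalk (ι t)) :=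
      le_maximalIdeal (RingHom.ker_ne_top _)
    obtain ⟨hwr, hfl⟩ := Groth.Agent.S1349.stalk_step_list φ (ι t)
      (AlgebraicGeometry.Flat.stalkMap φ (ι t)) [(X.presheaf.germ U₁.1 (ι t) hxU₁).hom h] (by
        intro a ha
        rw [List.mem_singleton] at ha
        rw [ha]
        exact hIle (hI ▸ Ideal.mem_span_singleton_self _)) (by
        rw [List.map_singleton, isWeaklyRegular_cons_iff]
        exact ⟨hreg, IsWeaklyRegular.nil _ _⟩)
    have h1 := hfl 1 (by simp)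
    let aO : Algebra (S.presheaf.stalk (φ (ι t))) (X.presheaf.stalk (ι t)) :=
      (φ.stalkMap (ι t)).hom.toAlgebra
    let aOY : Algebra (S.presheaf.stalk (φ (ι t))) ((𝓘.subscheme).presheaf.stalk t) :=
      ((ι.stalkMap t).hom.comp (φ.stalkMap (ι t)).hom).toAlgebra
    let ψ : X.presheaf.stalk (ι t) →ₐ[S.presheaf.stalk (φ (ι t))] (𝓘.subscheme).presheaf.stalk t :=
      { (ι.stalkMap t).hom with commutes' := fun a => rfl }
    have hψsurj : Function.Surjective ψ := ι.stalkMap_surjective t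
    have heq : (Ideal.ofList (List.take 1 [(X.presheaf.germ U₁.1 (ι t) hxU₁).hom h]) • ⊤ :
        Submodule (X.presheaf.stalk (ι t)) (X.presheaf.stalk (ι t))) =
        RingHom.ker (ι.stalkMap t).hom := by
      rw [hI, smul_eq_mul, Ideal.mul_top]
      unfold Ideal.ofList
      congr 1
      ext a
      simp
    have h2 : Module.Flat (S.presheaf.stalk (φ (ι t)))
        (X.presheaf.stalk (ι t) ⧸ RingHom.ker (ι.stalkMap t).hom) :=
      Module.Flat.of_linearEquiv
        ((Submodule.quotEquivOfEq _ _ heq).symm.restrictScalars (S.presheaf.stalk (φ (ι t))))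
    have h2' : Module.Flat (S.presheaf.stalk (φ (ι t)))
        (X.presheaf.stalk (ι t) ⧸ RingHom.ker ψ) := h2
    have h3 : Module.Flat (S.presheaf.stalk (φ (ι t))) ((𝓘.subscheme).presheaf.stalk t) :=
      Module.Flat.of_linearEquiv (Ideal.quotientKerAlgEquivOfSurjective hψsurj).symm.toLinearEquiv
    have h4 : ((ι ≫ φ).stalkMap t).hom = (ι.stalkMap t).hom.comp (φ.stalkMap (ι t)).hom := by
      rw [Scheme.Hom.stalkMap_comp]; rfl
    rw [h4]
    exact h3

end Groth.Agent.Lib.Helper5.TransNbhd
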