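import Mathlib
import Groth.Agent.Lib.Helper5.AdicSmoothDer2

set_option autoImplicit false

namespace Groth.Agent.Lib.Helper5.UnramAdic

universe u

attribute [local instance] PBasis.opMod PBasis.isCentralScalar_opMod

section Compl

variable {B : Type*} [CommRing B] (𝔟 : Ideal B) (M : Type*) [AddCommGroup M] [Module B M]

theorem subsingleton_completion_iff :
    Subsingleton (AdicCompletion 𝔟 M) ↔ ∀ n : ℕ, (𝔟 ^ n • ⊤ : Submodule B M) = ⊤ := by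
  constructor
  · intro h n
    rw [eq_top_iff]
    intro x _
    obtain ⟨y, hy⟩ := AdicCompletion.eval_surjective 𝔟 M n (Submodule.Quotient.mk x)
    have : y = 0 := Subsingleton.elim _ _
    rw [this, map_zero] at hy
    exact (Submodule.Quotient.mk_eq_zero _).mp hy.symm
  · intro h
    refine ⟨fun x y => AdicCompletion.ext fun n => ?_⟩
    have : Subsingleton (M ⧸ (𝔟 ^ n • ⊤ : Submodule B M)) := by
      rw [h n]
      infer_instance
    exact Subsingleton.elim _ _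

end Compl

section Main

variable {A B : Type u} [CommRing A] [CommRing B] [Algebra A B] (𝔞 : Ideal A) (𝔟 : Ideal B)

/-- the uniqueness-of-lifts property -/
def UniqueLifts : Prop :=
  ∀ (E : Type u) [CommRing E] [Algebra A E], (∃ k : ℕ, (𝔞 ^ k).map (algebraMap A E) = ⊥) →
    ∀ J : Ideal E, IsNilpotent J → ∀ v₁ v₂ : B →ₐ[A] E,
      (∃ m : ℕ, ∀ x ∈ 𝔟 ^ m, v₁ x = 0) → (∃ m : ℕ, ∀ x ∈ 𝔟 ^ m, v₂ x = 0) →
      (∀ b : B, Ideal.Quotient.mk J (v₁ b) = Ideal.Quotient.mk J (v₂ b)) → v₁ = v₂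

theorem uniqueLifts_of_smul_top (h : ∀ n : ℕ, (𝔟 ^ n • ⊤ : Submodule B Ω[B⁄A]) = ⊤) :
    UniqueLifts 𝔞 𝔟 := by
  intro E _ _ _ J hJ v₁ v₂ ⟨m₁, hm₁⟩ ⟨m₂, hm₂⟩ hv
  let m := max m₁ m₂
  have hsub : Subsingleton Ω[(B ⧸ 𝔟 ^ m)⁄A] := by
    have hsurj := KaehlerDifferential.map_surjective_of_surjective A A B (B ⧸ 𝔟 ^ m)
      Ideal.Quotient.mk_surjective
    refine ⟨fun x y => ?_⟩
    have hz : ∀ z : Ω[(B ⧸ 𝔟 ^ m)⁄A], z = 0 := by
      intro z
      obtain ⟨ω, rfl⟩ := hsurj z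
      have hω : ω ∈ (𝔟 ^ m • ⊤ : Submodule B Ω[B⁄A]) := by rw [h m]; trivial
      refine Submodule.smul_induction_on hω (fun a ha ω' _ => ?_) (fun y z hy hz => ?_)
      · rw [map_smul, ← algebraMap_smul (B ⧸ 𝔟 ^ m) a]
        have : algebraMap B (B ⧸ 𝔟 ^ m) a = 0 := Ideal.Quotient.eq_zero_iff_mem.mpr ha
        rw [this, zero_smul]
      · rw [map_add, hy, hz, add_zero]
    rw [hz x, hz y]
  have hfu : Algebra.FormallyUnramified A (B ⧸ 𝔟 ^ m) := ⟨hsub⟩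
  let w₁ : (B ⧸ 𝔟 ^ m) →ₐ[A] E := Ideal.Quotient.liftₐ (𝔟 ^ m) v₁
    (fun x hx => hm₁ x (Ideal.pow_le_pow_right (le_max_left _ _) hx))
  let w₂ : (B ⧸ 𝔟 ^ m) →ₐ[A] E := Ideal.Quotient.liftₐ (𝔟 ^ m) v₂
    (fun x hx => hm₂ x (Ideal.pow_le_pow_right (le_max_right _ _) hx))
  have hw : w₁ = w₂ := by
    apply Algebra.FormallyUnramified.ext J hJ
    intro x
    obtain ⟨b, rfl⟩ := Ideal.Quotient.mk_surjective x
    exact hv b
  ext b
  exact congrArg (fun f => f (Ideal.Quotient.mk (𝔟 ^ m) b)) hw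

theorem der_eq_zero_of_uniqueLifts {E' N : Type u} [CommRing E'] [Algebra B E'] [Algebra A E']
    [IsScalarTower A B E'] [AddCommGroup N] [Module E' N] [Module B N] [IsScalarTower B E' N]
    (h : UniqueLifts 𝔞 𝔟) (hE𝔞 : ∃ k : ℕ, (𝔞 ^ k).map (algebraMap A E') = ⊥)
    (hE𝔟 : ∃ n : ℕ, ∀ x ∈ 𝔟 ^ n, algebraMap B E' x = 0) (D : Derivation ℤ B N)
    (hD : ∀ a : A, D (algebraMap A B a) = 0) (b : B) : D b = 0 := by
  obtain ⟨n, hn⟩ := hE𝔟
  let _ : Algebra A (TrivSqZeroExt E' N) :=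
    ((TrivSqZeroExt.inlHom E' N).comp (algebraMap A E')).toAlgebra
  let J : Ideal (TrivSqZeroExt E' N) := RingHom.ker (TrivSqZeroExt.fstHom E' E' N).toRingHom
  have hJmem : ∀ c : TrivSqZeroExt E' N, c ∈ J ↔ c.fst = 0 := fun c => Iff.rfl
  have hJ : IsNilpotent J := by
    refine ⟨2, ?_⟩
    rw [pow_two, Ideal.zero_eq_bot, eq_bot_iff, Ideal.mul_le]
    intro c hc c' hc'
    rw [hJmem] at hc hc'
    rw [Ideal.mem_bot]
    apply TrivSqZeroExt.ext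
    · rw [TrivSqZeroExt.fst_mul, hc, zero_mul, TrivSqZeroExt.fst_zero]
    · rw [TrivSqZeroExt.snd_mul, hc, hc', zero_smul, TrivSqZeroExt.snd_zero]
      simp
  have hdisc : ∃ k' : ℕ, (𝔞 ^ k').map (algebraMap A (TrivSqZeroExt E' N)) = ⊥ := by
    obtain ⟨k, hk⟩ := hE𝔞
    refine ⟨k, ?_⟩
    change (𝔞 ^ k).map ((TrivSqZeroExt.inlHom E' N).comp (algebraMap A E')) = ⊥
    rw [← Ideal.map_map, hk, Ideal.map_bot]
  let v₁ : B →ₐ[A] TrivSqZeroExt E' N :=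
    { (TrivSqZeroExt.inlHom E' N).comp (algebraMap B E') with
      commutes' := fun a => by
        change TrivSqZeroExt.inl (algebraMap B E' (algebraMap A B a)) =
          TrivSqZeroExt.inl (algebraMap A E' a)
        rw [← IsScalarTower.algebraMap_apply] }
  let v₂ : B →ₐ[A] TrivSqZeroExt E' N :=
    { AdicSmoothDer2.graphHom E' D with
      commutes' := fun a => by
        change AdicSmoothDer2.graphHom E' D (algebraMap A B a) =
          TrivSqZeroExt.inl (algebraMap A E' a)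
        apply TrivSqZeroExt.ext
        · rw [AdicSmoothDer2.graphHom_fst, TrivSqZeroExt.fst_inl,
            ← IsScalarTower.algebraMap_apply]
        · rw [AdicSmoothDer2.graphHom_snd, TrivSqZeroExt.snd_inl, hD] }
  have hv₁ : ∀ b, v₁ b = TrivSqZeroExt.inl (algebraMap B E' b) := fun b => rfl
  have hv₂ : ∀ b, v₂ b = AdicSmoothDer2.graphHom E' D b := fun b => rfl
  have h1 : ∃ m : ℕ, ∀ x ∈ 𝔟 ^ m, v₁ x = 0 :=
    ⟨n, fun x hx => by rw [hv₁, hn x hx, TrivSqZeroExt.inl_zero]⟩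
  have h2 : ∃ m : ℕ, ∀ x ∈ 𝔟 ^ m, v₂ x = 0 := by
    refine ⟨n + n, fun x hx => ?_⟩
    have hle : 𝔟 ^ (n + n) ≤ RingHom.ker (AdicSmoothDer2.graphHom E' D) := by
      rw [pow_add, Ideal.mul_le]
      intro y hy z hz
      exact AdicSmoothDer2.graphHom_mul_eq_zero D (hn y hy) (hn z hz)
    exact hle hx
  have heq := h (TrivSqZeroExt E' N) hdisc J hJ v₁ v₂ h1 h2 (fun b => by
    rw [Ideal.Quotient.eq, hJmem, TrivSqZeroExt.fst_sub, hv₁, hv₂, TrivSqZeroExt.fst_inl,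
      AdicSmoothDer2.graphHom_fst, sub_self])
  have h3 := congrArg (fun f => (f b).snd) heq
  simp only [hv₁, hv₂, TrivSqZeroExt.snd_inl, AdicSmoothDer2.graphHom_snd] at h3
  exact h3.symm

theorem smul_top_of_uniqueLifts (hAB : ∃ k : ℕ, (𝔞 ^ k).map (algebraMap A B) ≤ 𝔟)
    (h : UniqueLifts 𝔞 𝔟) (n : ℕ) : (𝔟 ^ n • ⊤ : Submodule B Ω[B⁄A]) = ⊤ := by
  obtain ⟨k, hk⟩ := hAB
  let D : Derivation ℤ B (Ω[B⁄A] ⧸ (𝔟 ^ n • ⊤ : Submodule B Ω[B⁄A])) :=
    (((𝔟 ^ n • ⊤ : Submodule B Ω[B⁄A]).mkQ).compDer (KaehlerDifferential.D A B)).restrictScalars ℤ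
  have hD : ∀ b, D b = Submodule.Quotient.mk (KaehlerDifferential.D A B b) := fun b => rfl
  have h0 : (𝔞 ^ (k * n)).map (algebraMap A (B ⧸ 𝔟 ^ n)) = ⊥ := by
    rw [eq_bot_iff, Ideal.map_le_iff_le_comap]
    intro a ha
    rw [Ideal.mem_comap, Ideal.mem_bot, IsScalarTower.algebraMap_apply A B (B ⧸ 𝔟 ^ n)]
    apply Ideal.Quotient.eq_zero_iff_mem.mpr
    have : algebraMap A B a ∈ ((𝔞 ^ k).map (algebraMap A B)) ^ n := by
      rw [← Ideal.map_pow, ← pow_mul]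
      exact Ideal.mem_map_of_mem _ ha
    exact Ideal.pow_right_mono hk n this
  have hDmem : ∀ b, KaehlerDifferential.D A B b ∈ (𝔟 ^ n • ⊤ : Submodule B Ω[B⁄A]) := by
    intro b
    have h3 := der_eq_zero_of_uniqueLifts 𝔞 𝔟 (E' := B ⧸ 𝔟 ^ n) h ⟨k * n, h0⟩
      ⟨n, fun x hx => Ideal.Quotient.eq_zero_iff_mem.mpr hx⟩ D (fun a => by
        rw [hD, Derivation.map_algebraMap, Submodule.Quotient.mk_zero]) b
    rw [hD] at h3
    exact (Submodule.Quotient.mk_eq_zero _).mp h3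
  rw [eq_top_iff]
  calc (⊤ : Submodule B Ω[B⁄A]) = Submodule.span B (Set.range (KaehlerDifferential.D A B)) :=
        (KaehlerDifferential.span_range_derivation A B).symm
    _ ≤ _ := Submodule.span_le.mpr (by rintro _ ⟨b, rfl⟩; exact hDmem b)

end Main

end Groth.Agent.Lib.Helper5.UnramAdic
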