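import Mathlib
import Groth.Agent.Lib.Helper5.UnramAdic

set_option autoImplicit false

namespace Groth.Agent.Lib.Helper5.UnramAdic

universe u

attribute [local instance] PBasis.opMod PBasis.isCentralScalar_opMod

section Deduced

variable {A B : Type u} [CommRing A] [CommRing B] [Algebra A B] (𝔪 : Ideal A)

/-- the algebra structure on a trivial square-zero extension through the first factor -/
abbrev tszAlg (E' N : Type u) [CommRing E'] [Algebra A E'] [AddCommGroup N] [Module E' N] :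
    Algebra A (TrivSqZeroExt E' N) :=
  ((TrivSqZeroExt.inlHom E' N).comp (algebraMap A E')).toAlgebra

theorem der_eq_zero_of_eq {E' N : Type u} [CommRing E'] [Algebra B E'] [Algebra A E']
    [IsScalarTower A B E'] [AddCommGroup N] [Module E' N] [Module B N] [IsScalarTower B E' N]
    (D : Derivation ℤ B N) (hD : ∀ a : A, D (algebraMap A B a) = 0)
    (hinj : letI := tszAlg (A := A) E' N
      ∀ v₁ v₂ : B →ₐ[A] TrivSqZeroExt E' N, (∀ b, (v₁ b).fst = (v₂ b).fst) → v₁ = v₂)
    (b : B) : D b = 0 := by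
  let _ : Algebra A (TrivSqZeroExt E' N) := tszAlg (A := A) E' N
  let v₁ : B →ₐ[A] TrivSqZeroExt E' N :=
    { (TrivSqZeroExt.inlHom E' N).comp (algebraMap B E') with
      commutes' := fun a => by
        change TrivSqZeroExt.inl (algebraMap B E' (algebraMap A B a)) =
          TrivSqZeroExt.inl (algebraMap A E' a)
        rw [← IsScalarTower.algebraMap_apply] }
  let v₂ : B →ₐ[A] TrivSqZeroExt E' N :=
    { AdicSmoothDer2.graphHom E' D with
      commutes' := fun a => by
        change AdicSmoothDer2.graphHom E' D (algebraMap A B a) =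
          TrivSqZeroExt.inl (algebraMap A E' a)
        apply TrivSqZeroExt.ext
        · rw [AdicSmoothDer2.graphHom_fst, TrivSqZeroExt.fst_inl,
            ← IsScalarTower.algebraMap_apply]
        · rw [AdicSmoothDer2.graphHom_snd, TrivSqZeroExt.snd_inl, hD] }
  have hv₁ : ∀ b, v₁ b = TrivSqZeroExt.inl (algebraMap B E' b) := fun b => rfl
  have hv₂ : ∀ b, v₂ b = AdicSmoothDer2.graphHom E' D b := fun b => rfl
  have heq := hinj v₁ v₂ (fun b => by
    rw [hv₁, hv₂, TrivSqZeroExt.fst_inl, AdicSmoothDer2.graphHom_fst])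
  have h3 := congrArg (fun f => (f b).snd) heq
  simp only [hv₁, hv₂, TrivSqZeroExt.snd_inl, AdicSmoothDer2.graphHom_snd] at h3
  exact h3.symm

theorem der_eq_zero_of_fu {B₀ N : Type u} [CommRing B₀] [Algebra B B₀] [Algebra A B₀]
    [IsScalarTower A B B₀] [AddCommGroup N] [Module B₀ N]
    [Module B N] [IsScalarTower B B₀ N] [Algebra.FormallyUnramified A B₀]
    (hsurj : Function.Surjective (algebraMap B B₀))
    (hker : RingHom.ker (algebraMap B B₀) = 𝔪.map (algebraMap A B)) (D : Derivation ℤ B N)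
    (hD : ∀ a : A, D (algebraMap A B a) = 0) (b : B) : D b = 0 := by
  refine der_eq_zero_of_eq (A := A) (E' := B₀) D hD ?_ b
  let _ : Algebra A (TrivSqZeroExt B₀ N) := tszAlg (A := A) B₀ N
  intro v₁ v₂ hfst
  let J : Ideal (TrivSqZeroExt B₀ N) := RingHom.ker (TrivSqZeroExt.fstHom B₀ B₀ N).toRingHom
  have hJmem : ∀ c, c ∈ J ↔ c.fst = 0 := fun c => Iff.rfl
  have hJ : IsNilpotent J := by
    refine ⟨2, ?_⟩
    rw [pow_two, Ideal.zero_eq_bot, eq_bot_iff, Ideal.mul_le]
    intro c hc c' hc'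
    rw [hJmem] at hc hc'
    rw [Ideal.mem_bot]
    apply TrivSqZeroExt.ext
    · rw [TrivSqZeroExt.fst_mul, hc, zero_mul, TrivSqZeroExt.fst_zero]
    · rw [TrivSqZeroExt.snd_mul, hc, hc', zero_smul, TrivSqZeroExt.snd_zero]
      simp
  let f : B →ₐ[A] B₀ := IsScalarTower.toAlgHom A B B₀
  have hf : Function.Surjective f := hsurj
  have hkill : ∀ v : B →ₐ[A] TrivSqZeroExt B₀ N,
      RingHom.ker f.toRingHom ≤ RingHom.ker v.toRingHom := by
    intro v
    have h1 : RingHom.ker f.toRingHom = 𝔪.map (algebraMap A B) := hker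
    rw [h1, Ideal.map_le_iff_le_comap]
    intro m hm
    rw [Ideal.mem_comap, RingHom.mem_ker]
    change v (algebraMap A B m) = 0
    rw [v.commutes]
    change TrivSqZeroExt.inl (algebraMap A B₀ m) = 0
    rw [IsScalarTower.algebraMap_apply A B B₀]
    have : algebraMap B B₀ (algebraMap A B m) = 0 := by
      rw [← RingHom.mem_ker, hker]
      exact Ideal.mem_map_of_mem _ hm
    rw [this, TrivSqZeroExt.inl_zero]
  have hw : AlgHom.liftOfSurjective f hf v₁ (hkill v₁) =
      AlgHom.liftOfSurjective f hf v₂ (hkill v₂) := by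
    apply Algebra.FormallyUnramified.ext J hJ
    intro x
    obtain ⟨b, rfl⟩ := hf x
    rw [AlgHom.liftOfSurjective_apply, AlgHom.liftOfSurjective_apply,
      Ideal.Quotient.eq, hJmem, TrivSqZeroExt.fst_sub, hfst, sub_self]
  apply AlgHom.ext
  intro b
  have := congrArg (fun g => g (f b)) hw
  simp only [AlgHom.liftOfSurjective_apply] at this
  exact this

theorem smul_top_of_subsingleton
    (h : Subsingleton Ω[(B ⧸ 𝔪.map (algebraMap A B))⁄(A ⧸ 𝔪)]) :
    ((𝔪.map (algebraMap A B)) • ⊤ : Submodule B Ω[B⁄A]) = ⊤ := by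
  have hfu₀ : Algebra.FormallyUnramified (A ⧸ 𝔪) (B ⧸ 𝔪.map (algebraMap A B)) := ⟨h⟩
  have hfu₁ : Algebra.FormallyUnramified A (A ⧸ 𝔪) :=
    Algebra.FormallyUnramified.of_surjective (Algebra.ofId A (A ⧸ 𝔪)) Ideal.Quotient.mk_surjective
  have hfu : Algebra.FormallyUnramified A (B ⧸ 𝔪.map (algebraMap A B)) :=
    Algebra.FormallyUnramified.comp A (A ⧸ 𝔪) (B ⧸ 𝔪.map (algebraMap A B))
  let D : Derivation ℤ B (Ω[B⁄A] ⧸ ((𝔪.map (algebraMap A B)) • ⊤ : Submodule B Ω[B⁄A])) :=
    ((((𝔪.map (algebraMap A B)) • ⊤ : Submodule B Ω[B⁄A]).mkQ).compDer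
      (KaehlerDifferential.D A B)).restrictScalars ℤ
  have hD : ∀ b, D b = Submodule.Quotient.mk (KaehlerDifferential.D A B b) := fun b => rfl
  have hDmem : ∀ b, KaehlerDifferential.D A B b ∈
      ((𝔪.map (algebraMap A B)) • ⊤ : Submodule B Ω[B⁄A]) := by
    intro b
    have h3 := der_eq_zero_of_fu 𝔪 (B₀ := B ⧸ 𝔪.map (algebraMap A B)) Ideal.Quotient.mk_surjective
      Ideal.mk_ker D (fun a => by
        rw [hD, Derivation.map_algebraMap, Submodule.Quotient.mk_zero]) b
    rw [hD] at h3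
    exact (Submodule.Quotient.mk_eq_zero _).mp h3
  rw [eq_top_iff]
  calc (⊤ : Submodule B Ω[B⁄A]) = Submodule.span B (Set.range (KaehlerDifferential.D A B)) :=
        (KaehlerDifferential.span_range_derivation A B).symm
    _ ≤ _ := Submodule.span_le.mpr (by rintro _ ⟨b, rfl⟩; exact hDmem b)

theorem subsingleton_of_smul_top
    (h : ((𝔪.map (algebraMap A B)) • ⊤ : Submodule B Ω[B⁄A]) = ⊤) :
    Subsingleton Ω[(B ⧸ 𝔪.map (algebraMap A B))⁄(A ⧸ 𝔪)] := by
  have hsurj := KaehlerDifferential.map_surjective_of_surjective A (A ⧸ 𝔪) B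
    (B ⧸ 𝔪.map (algebraMap A B)) Ideal.Quotient.mk_surjective
  have hz : ∀ z : Ω[(B ⧸ 𝔪.map (algebraMap A B))⁄(A ⧸ 𝔪)], z = 0 := by
    intro z
    obtain ⟨ω, rfl⟩ := hsurj z
    have hω : ω ∈ ((𝔪.map (algebraMap A B)) • ⊤ : Submodule B Ω[B⁄A]) := by rw [h]; trivial
    refine Submodule.smul_induction_on hω (fun a ha ω' _ => ?_) (fun y z hy hz => ?_)
    · rw [map_smul, ← algebraMap_smul (B ⧸ 𝔪.map (algebraMap A B)) a]
      have : algebraMap B (B ⧸ 𝔪.map (algebraMap A B)) a = 0 :=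
        Ideal.Quotient.eq_zero_iff_mem.mpr ha
      rw [this, zero_smul]
    · rw [map_add, hy, hz, add_zero]
  exact ⟨fun x y => by rw [hz x, hz y]⟩

theorem pow_smul_top_of_smul_top {M : Type*} [AddCommGroup M] [Module B M] (I : Ideal B)
    (h : (I • ⊤ : Submodule B M) = ⊤) (n : ℕ) : (I ^ n • ⊤ : Submodule B M) = ⊤ := by
  induction n with
  | zero => rw [pow_zero, Ideal.one_eq_top, Submodule.top_smul]
  | succ n ih => rw [pow_succ, mul_smul, h, ih]

/-- formal unramifiedness for the deduced topology -/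
theorem deduced_iff :
    (∀ (E : Type u) [CommRing E] [Algebra A E], (∃ k : ℕ, (𝔪 ^ k).map (algebraMap A E) = ⊥) →
      ∀ J : Ideal E, IsNilpotent J → ∀ v₁ v₂ : B →ₐ[A] E,
        (∀ b : B, Ideal.Quotient.mk J (v₁ b) = Ideal.Quotient.mk J (v₂ b)) → v₁ = v₂) ↔
    Subsingleton (Ω[B ⧸ 𝔪.map (algebraMap A B)⁄A ⧸ 𝔪]) := by
  constructor
  · intro h
    apply subsingleton_of_smul_top
    have h1 := smul_top_of_uniqueLifts 𝔪 (𝔪.map (algebraMap A B)) ⟨1, by rw [pow_one]⟩
      (fun E _ _ hE J hJ v₁ v₂ _ _ hv => h E hE J hJ v₁ v₂ hv) 1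
    rwa [pow_one] at h1
  · intro h E _ _ hE J hJ v₁ v₂ hv
    have h1 := smul_top_of_subsingleton 𝔪 h
    have h2 := uniqueLifts_of_smul_top 𝔪 (𝔪.map (algebraMap A B))
      (pow_smul_top_of_smul_top _ h1)
    obtain ⟨k, hk⟩ := hE
    have hcont : ∀ v : B →ₐ[A] E, ∀ x ∈ (𝔪.map (algebraMap A B)) ^ k, v x = 0 := by
      intro v
      have : (𝔪.map (algebraMap A B)) ^ k ≤ RingHom.ker v.toRingHom := by
        rw [← Ideal.map_pow, Ideal.map_le_iff_le_comap]
        intro a ha
        rw [Ideal.mem_comap, RingHom.mem_ker]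
        change v (algebraMap A B a) = 0
        rw [v.commutes]
        have : algebraMap A E a ∈ (𝔪 ^ k).map (algebraMap A E) := Ideal.mem_map_of_mem _ ha
        rwa [hk, Ideal.mem_bot] at this
      intro x hx
      exact this hx
    exact h2 E ⟨k, hk⟩ J hJ v₁ v₂ ⟨k, hcont v₁⟩ ⟨k, hcont v₂⟩ hv

end Deduced

end Groth.Agent.Lib.Helper5.UnramAdic
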